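/-
helper13: the cyclotomic integer ring `ℤ[ζ_n] ⊆ ℂ` as a Noetherian domain, a maximal ideal over a
prime `p`, and a Krull-intersection lemma for "almost idempotent" families.
Used for S3357 (Frobenius complements have fixed-point-free irreducible representations).
-/
import Mathlib
import Cfsg.Agent.Lib.Helper24.IntLemmas

set_option autoImplicit false

namespace Cfsg.Agent.Lib.Helper13.FrobRep

/-- the primitive `n`-th root of unity `exp(2πi/n)` -/
noncomputable def zetaN (n : ℕ) : ℂ := Complex.exp (2 * Real.pi * Complex.I / n)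

/-- the cyclotomic integer ring `ℤ[ζ_n]` inside `ℂ` -/
noncomputable def cycRing (n : ℕ) : Subalgebra ℤ ℂ := Algebra.adjoin ℤ {zetaN n}

theorem zetaN_isPrimitiveRoot {n : ℕ} (hn : n ≠ 0) : IsPrimitiveRoot (zetaN n) n :=
  Complex.isPrimitiveRoot_exp n hn

theorem zetaN_mem (n : ℕ) : zetaN n ∈ cycRing n :=
  Algebra.subset_adjoin (Set.mem_singleton _)

/-- every `n`-th root of unity lies in `ℤ[ζ_n]` -/
theorem root_mem_cycRing {n : ℕ} (hn : n ≠ 0) {μ : ℂ} (h : μ ^ n = 1) : μ ∈ cycRing n := by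
  have : NeZero n := ⟨hn⟩
  obtain ⟨i, -, rfl⟩ := (zetaN_isPrimitiveRoot hn).eq_pow_of_pow_eq_one h
  exact Subalgebra.pow_mem _ (zetaN_mem n) i

theorem zetaN_isIntegral {n : ℕ} (hn : n ≠ 0) : IsIntegral ℤ (zetaN n) := by
  refine ⟨Polynomial.X ^ n - 1, Polynomial.monic_X_pow_sub_C 1 hn, ?_⟩
  simp [(zetaN_isPrimitiveRoot hn).pow_eq_one]

theorem isIntegral_of_mem_cycRing {n : ℕ} (hn : n ≠ 0) {x : ℂ} (hx : x ∈ cycRing n) :
    IsIntegral ℤ x := by
  have h1 : cycRing n ≤ integralClosure ℤ ℂ := by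
    apply Algebra.adjoin_le
    intro y hy
    rw [Set.mem_singleton_iff] at hy
    rw [hy]
    exact zetaN_isIntegral hn
  exact h1 hx

instance cycRing_noetherian {n : ℕ} [hn : NeZero n] : IsNoetherianRing (cycRing n) := by
  have hfg : (Subalgebra.toSubmodule (cycRing n)).FG :=
    IsIntegral.fg_adjoin_singleton (zetaN_isIntegral hn.out)
  haveI : Module.Finite ℤ (cycRing n) := by
    have : Module.Finite ℤ (Subalgebra.toSubmodule (cycRing n)) :=
      Module.Finite.iff_fg.mpr hfg
    exact this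
  have h2 : IsNoetherian ℤ (cycRing n) := inferInstance
  exact isNoetherian_of_tower ℤ h2

/-- a natural number prime `p` is not a unit of `ℤ[ζ_n]`: there is a maximal ideal containing it -/
theorem exists_maximal_over {n : ℕ} (hn : n ≠ 0) (p : ℕ) (hp : p.Prime) :
    ∃ M : Ideal (cycRing n), M.IsMaximal ∧ (p : cycRing n) ∈ M := by
  have hI : Ideal.span {(p : cycRing n)} ≠ ⊤ := by
    intro h
    rw [Ideal.eq_top_iff_one, Ideal.mem_span_singleton] at h
    obtain ⟨b, hb⟩ := h
    have h1 : ((1 : ℕ) : ℂ) = (p : ℂ) * (b : ℂ) := by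
      have := congrArg (fun t : cycRing n => (t : ℂ)) hb
      simpa using this
    have h2 := Cfsg.Agent.Lib.Helper24.nat_dvd_of_eq_mul_isIntegral hp.pos
      (isIntegral_of_mem_cycRing hn b.2) h1
    exact hp.one_lt.ne' (Nat.dvd_one.mp h2)
  obtain ⟨M, hM, hIM⟩ := Ideal.exists_le_maximal _ hI
  exact ⟨M, hM, hIM (Ideal.subset_span (Set.mem_singleton _))⟩

section ideal

variable {R : Type*} [CommRing R]

/-- a natural number prime to `p` is not in a proper ideal containing `p` -/
theorem natCast_notMem_of_coprime {M : Ideal R} (hM : M ≠ ⊤) {p N : ℕ} (hpM : (p : R) ∈ M)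
    (hcop : Nat.Coprime N p) : (N : R) ∉ M := by
  intro hN
  apply hM
  rw [Ideal.eq_top_iff_one]
  have h1 : (N : ℤ) * Nat.gcdA N p + (p : ℤ) * Nat.gcdB N p = 1 := by
    have := Nat.gcd_eq_gcd_ab N p
    rw [hcop] at this
    exact_mod_cast this.symm
  have h2 : (1 : R) = (N : R) * ((Nat.gcdA N p : ℤ) : R) + (p : R) * ((Nat.gcdB N p : ℤ) : R) := by
    have := congrArg (fun z : ℤ => (z : R)) h1
    push_cast at this
    exact this.symm
  rw [h2]
  exact M.add_mem (M.mul_mem_right _ hN) (M.mul_mem_right _ hpM)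

/-- cancellation of an element outside a maximal ideal modulo a power of the ideal -/
theorem mem_pow_of_mul_mem_pow {M : Ideal R} [hM : M.IsMaximal] {x b : R} (hx : x ∉ M) (j : ℕ)
    (h : x * b ∈ M ^ j) : b ∈ M ^ j := by
  have h1 : M ⊔ Ideal.span {x} = ⊤ := by
    obtain ⟨y, i, hi, hyi⟩ := hM.exists_inv hx
    rw [Ideal.eq_top_iff_one, ← hyi]
    exact Ideal.add_mem _ (Ideal.mem_sup_right (Ideal.mul_mem_left _ _ (Ideal.subset_span rfl)))
      (Ideal.mem_sup_left hi)
  have h2 : M ^ j ⊔ Ideal.span {x} = ⊤ := Ideal.pow_sup_eq_top h1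
  have h3 : (1 : R) ∈ M ^ j ⊔ Ideal.span {x} := by rw [h2]; exact Submodule.mem_top
  obtain ⟨m, hm, s, hs, hms⟩ := Submodule.mem_sup.mp h3
  obtain ⟨r, rfl⟩ := Ideal.mem_span_singleton'.mp hs
  have h4 : b = m * b + r * (x * b) := by
    have h5 : b = (m + r * x) * b := by rw [hms, one_mul]
    calc b = (m + r * x) * b := h5
      _ = m * b + r * (x * b) := by ring
  rw [h4]
  exact Ideal.add_mem _ (Ideal.mul_mem_right _ _ hm) (Ideal.mul_mem_left _ _ h)

/-- **Krull-type vanishing**: a finite family `b : ι → R` in a Noetherian domain, all of whose members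
lie in a maximal ideal `M`, and such that `N * b i` is an `R`-combination of products `b u * b v`
(with `N ∉ M`), vanishes identically. -/
theorem eq_zero_of_quadratic_relation [IsNoetherianRing R] [IsDomain R] {M : Ideal R}
    [hM : M.IsMaximal] {ι : Type*} (b : ι → R) (hb : ∀ i, b i ∈ M) {N : R} (hN : N ∉ M)
    (hrel : ∀ i, ∃ (s : Finset (ι × ι)) (c : ι × ι → R),
      N * b i = ∑ t ∈ s, c t * (b t.1 * b t.2)) :
    ∀ i, b i = 0 := by
  have key : ∀ j : ℕ, ∀ i, b i ∈ M ^ (j + 1) := by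
    intro j
    induction j with
    | zero => intro i; simpa using hb i
    | succ j ih =>
      intro i
      obtain ⟨s, c, hs⟩ := hrel i
      apply mem_pow_of_mul_mem_pow hN
      rw [hs]
      apply Ideal.sum_mem
      intro t _
      apply Ideal.mul_mem_left
      have h1 : b t.1 * b t.2 ∈ M ^ (j + 1) * M ^ (j + 1) := Ideal.mul_mem_mul (ih _) (ih _)
      have h2 : M ^ (j + 1) * M ^ (j + 1) ≤ M ^ (j + 1 + 1) := by
        rw [← pow_add]
        apply Ideal.pow_le_pow_right
        omega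
      exact h2 h1
  intro i
  have h1 : b i ∈ ⨅ j : ℕ, M ^ j := by
    rw [Ideal.mem_iInf]
    intro j
    cases j with
    | zero => simp
    | succ j => exact key j i
  rw [Ideal.iInf_pow_eq_bot_of_isDomain M hM.ne_top] at h1
  exact h1

end ideal

end Cfsg.Agent.Lib.Helper13.FrobRep
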