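/-
helper13: complex-side identities for S3357: character values lie in `ℤ[ζ_n]`; for an irreducible
character `χ`, a subgroup `C` and `b(h) = ∑_{c ∈ C} χ(c h)`:
* `χ(1) ∑_u b(u⁻¹) b(u h) = |G| |C| b(h)`;
* `χ(1) ∑_g ∑_c χ(y⁻¹ g c h g⁻¹) = |G| b(h) χ(y⁻¹)`.
-/
import Mathlib
import Cfsg.Agent.Lib.Helper13.FrobRepA
import Cfsg.Agent.Lib.Helper10.CharValues
import Cfsg.Agent.Lib.Lead.CharCount

set_option autoImplicit false

namespace Cfsg.Agent.Lib.Helper13.FrobRep

open Representation Module Cfsg Cfsg.Agent.CharLib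

universe u v

variable {G : Type u} [Group G]

/-- character values lie in the cyclotomic integers `ℤ[ζ_{|G|}]` -/
theorem char_mem_cycRing [Finite G] {V : Type v} [AddCommGroup V] [Module ℂ V]
    [FiniteDimensional ℂ V] (ρ : Representation ℂ G V) (g : G) :
    ρ.character g ∈ cycRing (Nat.card G) := by
  have hn : Nat.card G ≠ 0 := Nat.card_pos.ne'
  obtain ⟨S, d, hS, -, hsum⟩ := Cfsg.Agent.Lib.Helper10.char_pow_eq_sum ρ g
  have h1 := hsum 1
  rw [pow_one] at h1
  rw [h1]
  apply Subalgebra.sum_mem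
  intro μ hμ
  apply Subalgebra.mul_mem
  · rw [pow_one]
    apply root_mem_cycRing hn
    obtain ⟨m, hm⟩ := orderOf_dvd_natCard g
    rw [hm, pow_mul, hS μ hμ, one_pow]
  · exact natCast_mem _ _

section irr

variable [Fintype G] {V : Type v} [AddCommGroup V] [Module ℂ V] [FiniteDimensional ℂ V]
  (ρ : Representation ℂ G V)

/-- `b(h) = ∑_{c ∈ C} χ(c h)` -/
noncomputable def bfun (C : Subgroup G) [Fintype C] (h : G) : ℂ :=
  ∑ c : C, ρ.character ((c : G) * h)

theorem bfun_mem (C : Subgroup G) [Fintype C] (h : G) : bfun ρ C h ∈ cycRing (Nat.card G) :=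
  Subalgebra.sum_mem _ (fun _ _ => char_mem_cycRing ρ _)

omit [Fintype G] [FiniteDimensional ℂ V] in
theorem bfun_one (C : Subgroup G) [Fintype C] : bfun ρ C 1 = ∑ c : C, ρ.character (c : G) := by
  unfold bfun
  simp

omit [Fintype G] in
include ρ in
theorem finrank_ne_zero_of_irr [hirr : ρ.IsIrreducible] : (finrank ℂ V : ℂ) ≠ 0 := by
  have hpos := Cfsg.Agent.Lib.Helper24.finrank_pos_of_isIrreducible ρ
  exact_mod_cast hpos.ne'

variable [hirr : ρ.IsIrreducible]

/-- quadratic relation for `b` -/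
theorem bfun_quadratic (C : Subgroup G) [Fintype C] (h : G) :
    (finrank ℂ V : ℂ) * ∑ u : G, bfun ρ C u⁻¹ * bfun ρ C (u * h) =
      ((Nat.card G * Nat.card C : ℕ) : ℂ) * bfun ρ C h := by
  have hd := finrank_ne_zero_of_irr ρ
  -- inner sums
  have h1 : ∀ c c' : C, ∑ u : G, ρ.character ((c : G) * u⁻¹) * ρ.character ((c' : G) * (u * h)) =
      (Nat.card G : ℂ) * ρ.character ((c' : G) * (c : G) * h) / (finrank ℂ V : ℂ) := by
    intro c c'
    rw [← Equiv.sum_comp (Equiv.mulRight (c : G))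
      (fun u => ρ.character ((c : G) * u⁻¹) * ρ.character ((c' : G) * (u * h)))]
    have h2 : ∀ w : G, ρ.character ((c : G) * ((Equiv.mulRight (c : G)) w)⁻¹) *
        ρ.character ((c' : G) * ((Equiv.mulRight (c : G)) w * h)) =
        ρ.character w⁻¹ * ρ.character (w * ((c : G) * h * (c' : G))) := by
      intro w
      simp only [Equiv.coe_mulRight]
      congr 1
      · congr 1; group
      · rw [char_mul_comm]
        congr 1
        group
    rw [Finset.sum_congr rfl (fun w _ => h2 w), sum_char_inv_mul_char ρ]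
    congr 2
    rw [char_mul_comm]
    congr 1
    group
  have h3 : ∑ u : G, bfun ρ C u⁻¹ * bfun ρ C (u * h) =
      ∑ c : C, ∑ c' : C, ∑ u : G,
        ρ.character ((c : G) * u⁻¹) * ρ.character ((c' : G) * (u * h)) := by
    unfold bfun
    simp_rw [Finset.sum_mul_sum]
    rw [Finset.sum_comm]
    apply Finset.sum_congr rfl
    intro c _
    rw [Finset.sum_comm]
  rw [h3]
  simp_rw [h1]
  have h4 : ∀ c : C, ∑ c' : C, ρ.character ((c' : G) * (c : G) * h) = bfun ρ C h := by
    intro c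
    unfold bfun
    rw [← Equiv.sum_comp (Equiv.mulRight c) (fun c'' : C => ρ.character ((c'' : G) * h))]
    apply Finset.sum_congr rfl
    intro c' _
    simp
  have h5 : ∑ c : C, ∑ c' : C,
      (Nat.card G : ℂ) * ρ.character ((c' : G) * (c : G) * h) / (finrank ℂ V : ℂ) =
      (Nat.card G : ℂ) * ((Nat.card C : ℂ) * bfun ρ C h) / (finrank ℂ V : ℂ) := by
    simp_rw [← Finset.sum_div, ← Finset.mul_sum, h4]
    rw [Finset.sum_const, Finset.card_univ, nsmul_eq_mul, Nat.card_eq_fintype_card,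
      Nat.card_eq_fintype_card]
  rw [h5]
  push_cast
  field_simp

/-- the conjugation-sum relation -/
theorem bfun_conj_sum (C : Subgroup G) [Fintype C] (h y : G) :
    (finrank ℂ V : ℂ) * ∑ g : G, ∑ c : C, ρ.character (y⁻¹ * (g * ((c : G) * h) * g⁻¹)) =
      (Nat.card G : ℂ) * bfun ρ C h * ρ.character y⁻¹ := by
  have hd := finrank_ne_zero_of_irr ρ
  rw [Finset.sum_comm]
  have h1 : ∀ c : C, ∑ g : G, ρ.character (y⁻¹ * (g * ((c : G) * h) * g⁻¹)) =
      (Nat.card G : ℂ) * ρ.character ((c : G) * h) * ρ.character y⁻¹ / (finrank ℂ V : ℂ) := by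
    intro c
    rw [← sum_char_conj_mul ρ ((c : G) * h) y⁻¹]
    apply Finset.sum_congr rfl
    intro g _
    rw [char_mul_comm]
  simp_rw [h1]
  unfold bfun
  rw [← Finset.sum_div, ← Finset.sum_mul, ← Finset.mul_sum]
  field_simp

end irr

end Cfsg.Agent.Lib.Helper13.FrobRep
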