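/-
helper13: modular side for S3357.  For a representation `τ` of `G` over a field `k` and a ring
homomorphism `red : ℤ[ζ_n] → k`, the operators `S_χ = ∑_x red(χ(x⁻¹)) τ(x)`.
* if `∑_{c ∈ C} τ(c) = 0` then `(|G| · red(b_χ(h))) • S_χ = 0`;
* `∑_χ χ(1) • S_χ = |G| • 1`.
-/
import Mathlib
import Cfsg.Agent.Lib.Helper13.FrobRepB

set_option autoImplicit false

namespace Cfsg.Agent.Lib.Helper13.FrobRep

open Representation Module Cfsg Cfsg.Agent.CharLib

universe u v w

variable {G : Type u} [Group G] [Fintype G]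

section opK

variable {k : Type*} [Field k] {W : Type*} [AddCommGroup W] [Module k W] (τ : Representation k G W)

/-- the operator `∑ a(x) τ(x)` -/
noncomputable def opK (a : G → k) : Module.End k W := ∑ x : G, a x • τ x

theorem opK_sum {ι : Type*} (s : Finset ι) (a : ι → G → k) :
    opK τ (fun y => ∑ i ∈ s, a i y) = ∑ i ∈ s, opK τ (a i) := by
  unfold opK
  rw [Finset.sum_comm]
  apply Finset.sum_congr rfl
  intro x _
  rw [Finset.sum_smul]

theorem opK_smul (r : k) (a : G → k) : opK τ (fun y => r * a y) = r • opK τ a := by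
  unfold opK
  rw [Finset.smul_sum]
  apply Finset.sum_congr rfl
  intro x _
  rw [mul_smul]

theorem tau_mul_opK (u : G) (a : G → k) : τ u * opK τ a = opK τ (fun y => a (u⁻¹ * y)) := by
  unfold opK
  rw [Finset.mul_sum]
  rw [← Equiv.sum_comp (Equiv.mulLeft u) (fun y => a (u⁻¹ * y) • τ y)]
  apply Finset.sum_congr rfl
  intro x _
  simp only [Equiv.coe_mulLeft, inv_mul_cancel_left, map_mul]
  rw [mul_smul_comm]

theorem opK_delta [DecidableEq G] (r : k) :
    opK τ (fun y => if y = 1 then r else 0) = r • (1 : Module.End k W) := by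
  unfold opK
  rw [Finset.sum_eq_single (1 : G)]
  · simp
  · intro x _ hx
    simp [hx]
  · intro h
    exact absurd (Finset.mem_univ _) h

end opK

section main

variable {V : Type v} [AddCommGroup V] [Module ℂ V] [FiniteDimensional ℂ V]
  (ρ : Representation ℂ G V)

/-- the coefficient function `x ↦ χ(x⁻¹)` with values in `ℤ[ζ_n]` -/
noncomputable def aChi (x : G) : cycRing (Nat.card G) :=
  ⟨ρ.character x⁻¹, char_mem_cycRing ρ _⟩

/-- `b(h)` as an element of `ℤ[ζ_n]` -/
noncomputable def bA (C : Subgroup G) [Fintype C] (h : G) : cycRing (Nat.card G) :=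
  ⟨bfun ρ C h, bfun_mem ρ C h⟩

variable {k : Type*} [Field k] {W : Type*} [AddCommGroup W] [Module k W] (τ : Representation k G W)
  (red : cycRing (Nat.card G) →+* k)

/-- `S_χ = ∑_x red(χ(x⁻¹)) τ(x)` -/
noncomputable def Sop : Module.End k W := opK τ (fun x => red (aChi ρ x))

theorem smul_Sop_eq_zero [ρ.IsIrreducible] (C : Subgroup G) [Fintype C]
    (hC : ∑ c : C, τ (c : G) = 0) (h : G) :
    (((Nat.card G : ℕ) : k) * red (bA ρ C h)) • Sop ρ τ red = 0 := by
  -- the A-level identity
  have hA : ∀ y : G, ((finrank ℂ V : ℕ) : cycRing (Nat.card G)) *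
      ∑ g : G, ∑ c : C, aChi ρ ((g * ((c : G) * h) * g⁻¹)⁻¹ * y) =
      ((Nat.card G : ℕ) : cycRing (Nat.card G)) * bA ρ C h * aChi ρ y := by
    intro y
    apply Subtype.ext
    have h1 := bfun_conj_sum ρ C h y
    simp only [aChi, bA]
    push_cast
    rw [← h1]
    congr 1
    apply Finset.sum_congr rfl
    intro g _
    apply Finset.sum_congr rfl
    intro c _
    congr 1
    group
  -- the vanishing operator
  have hzero : ∑ g : G, ∑ c : C, τ (g * ((c : G) * h) * g⁻¹) * Sop ρ τ red = 0 := by
    apply Finset.sum_eq_zero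
    intro g _
    have h2 : ∑ c : C, τ (g * ((c : G) * h) * g⁻¹) = τ g * (∑ c : C, τ (c : G)) * τ (h * g⁻¹) := by
      rw [Finset.mul_sum, Finset.sum_mul]
      apply Finset.sum_congr rfl
      intro c _
      rw [← map_mul, ← map_mul]
      congr 1
      group
    rw [← Finset.sum_mul, h2, hC, mul_zero, zero_mul, zero_mul]
  have hexp : ∑ g : G, ∑ c : C, τ (g * ((c : G) * h) * g⁻¹) * Sop ρ τ red =
      opK τ (fun y => ∑ g : G, ∑ c : C,
        red (aChi ρ ((g * ((c : G) * h) * g⁻¹)⁻¹ * y))) := by
    have h3 : (fun y => ∑ g : G, ∑ c : C, red (aChi ρ ((g * ((c : G) * h) * g⁻¹)⁻¹ * y))) =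
        fun y => ∑ g ∈ (Finset.univ : Finset G),
          (fun g y => ∑ c : C, red (aChi ρ ((g * ((c : G) * h) * g⁻¹)⁻¹ * y))) g y := rfl
    rw [h3, opK_sum]
    apply Finset.sum_congr rfl
    intro g _
    have h4 : (fun y => ∑ c : C, red (aChi ρ ((g * ((c : G) * h) * g⁻¹)⁻¹ * y))) =
        fun y => ∑ c ∈ (Finset.univ : Finset C),
          (fun (c : C) y => red (aChi ρ ((g * ((c : G) * h) * g⁻¹)⁻¹ * y))) c y := rfl
    rw [h4, opK_sum]
    apply Finset.sum_congr rfl
    intro c _
    unfold Sop
    rw [tau_mul_opK]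
  have hfin : ((finrank ℂ V : ℕ) : k) • opK τ (fun y => ∑ g : G, ∑ c : C,
        red (aChi ρ ((g * ((c : G) * h) * g⁻¹)⁻¹ * y))) =
      (((Nat.card G : ℕ) : k) * red (bA ρ C h)) • Sop ρ τ red := by
    unfold Sop
    rw [← opK_smul, ← opK_smul]
    congr 1
    funext y
    have h5 := congrArg red (hA y)
    simp only [map_mul, map_sum, map_natCast] at h5
    exact h5
  rw [← hfin, ← hexp, hzero, smul_zero]

end main

section choose

variable (G)

/-- the degree of a chosen representation affording an irreducible character -/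
noncomputable def irrDim (χ : IrrCharacter G) : ℕ := Classical.choose χ.2

/-- a chosen irreducible representation affording an irreducible character -/
noncomputable def irrRep (χ : IrrCharacter G) : Representation ℂ G (Fin (irrDim G χ) → ℂ) :=
  Classical.choose (Classical.choose_spec χ.2)

instance irrRep_irr (χ : IrrCharacter G) : (irrRep G χ).IsIrreducible :=
  (Classical.choose_spec (Classical.choose_spec χ.2)).1

theorem irrRep_char (χ : IrrCharacter G) : (irrRep G χ).character = (χ : G → ℂ) :=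
  (Classical.choose_spec (Classical.choose_spec χ.2)).2

theorem irrRep_char_one (χ : IrrCharacter G) : (χ : G → ℂ) 1 = (irrDim G χ : ℂ) := by
  rw [← irrRep_char, char_one, Module.finrank_fin_fun]

end choose

section total

variable {k : Type*} [Field k] {W : Type*} [AddCommGroup W] [Module k W] (τ : Representation k G W)
  (red : cycRing (Nat.card G) →+* k)

theorem sum_irr_smul_Sop [Fintype (IrrCharacter G)] :
    ∑ χ : IrrCharacter G, ((irrDim G χ : ℕ) : k) • Sop (irrRep G χ) τ red =
      ((Nat.card G : ℕ) : k) • (1 : Module.End k W) := by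
  classical
  have hA : ∀ y : G, ∑ χ : IrrCharacter G,
      ((irrDim G χ : ℕ) : cycRing (Nat.card G)) * aChi (irrRep G χ) y =
      if y = 1 then ((Nat.card G : ℕ) : cycRing (Nat.card G)) else 0 := by
    intro y
    apply Subtype.ext
    have h1 := delta_one_eq_sum_irr (G := G) y⁻¹
    have hG : (Nat.card G : ℂ) ≠ 0 := by
      have : Nat.card G ≠ 0 := Nat.card_pos.ne'
      exact_mod_cast this
    have h2 : ∑ χ : IrrCharacter G, (χ : G → ℂ) 1 * (χ : G → ℂ) y⁻¹ =
        (Nat.card G : ℂ) * (if y⁻¹ = 1 then (1 : ℂ) else 0) := by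
      rw [h1]; field_simp
    simp only [aChi]
    push_cast
    have h3 : ∀ χ : IrrCharacter G, (irrDim G χ : ℂ) * (irrRep G χ).character y⁻¹ =
        (χ : G → ℂ) 1 * (χ : G → ℂ) y⁻¹ := by
      intro χ
      rw [irrRep_char, irrRep_char_one]
    rw [Finset.sum_congr rfl (fun χ _ => h3 χ), h2]
    by_cases hy : y = 1
    · subst hy; simp
    · have : ¬ y⁻¹ = 1 := fun h => hy (inv_eq_one.mp h)
      simp [hy, this]
  unfold Sop
  simp_rw [← opK_smul]
  rw [← opK_sum]
  rw [← opK_delta τ (((Nat.card G : ℕ) : k))]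
  congr 1
  funext y
  have h5 := congrArg red (hA y)
  simp only [map_sum, map_mul, map_natCast] at h5
  rw [h5]
  by_cases hy : y = 1
  · simp [hy]
  · simp [hy]

end total

end Cfsg.Agent.Lib.Helper13.FrobRep
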