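/-
helper13: CORE THEOREM for S3357.  If a finite group `G` of order prime to `p` has, over every field
of characteristic `p`, a nonzero representation in which `∑_{j < o(g)} τ(g^j) = 0` for all `g ≠ 1`
(i.e. a fixed-point-free modular representation), then `G` has an irreducible complex character `χ`
with `∑_{j < o(g)} χ(g^j) = 0` for all `g ≠ 1` (a fixed-point-free irreducible complex representation).
Proof: reduction modulo a maximal ideal `M ∋ p` of `ℤ[ζ_n]` of the central idempotents, Krull's
intersection theorem.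
-/
import Mathlib
import Cfsg.Agent.Lib.Helper13.FrobRepC

set_option autoImplicit false

namespace Cfsg.Agent.Lib.Helper13.FrobRep

open Representation Module Cfsg Cfsg.Agent.CharLib

universe u w

theorem sum_zpowers_eq_sum_range {G X : Type*} [Group G] [Finite G] [AddCommMonoid X] (g : G)
    [Fintype (Subgroup.zpowers g)] (f : G → X) :
    ∑ c : Subgroup.zpowers g, f (c : G) = ∑ j ∈ Finset.range (orderOf g), f (g ^ j) := by
  rw [← Fin.sum_univ_eq_sum_range (fun j => f (g ^ j)) (orderOf g)]
  exact (Fintype.sum_equiv (finEquivZPowers (isOfFinOrder_of_finite g)) _ _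
    (fun i => by rw [finEquivZPowers_apply])).symm

theorem exists_irr_fpf (G : Type u) [Group G] [Finite G] (p : ℕ) [hp : Fact p.Prime]
    (hcop : (Nat.card G).Coprime p)
    (hmod : ∀ (k : Type) [Field k] [CharP k p], ∃ (W : Type w) (_ : AddCommGroup W)
      (_ : Module k W) (τ : Representation k G W), Nontrivial W ∧
        ∀ g : G, g ≠ 1 → ∑ j ∈ Finset.range (orderOf g), τ (g ^ j) = 0) :
    ∃ χ : G → ℂ, IsIrrCharacter G χ ∧
      ∀ g : G, g ≠ 1 → ∑ j ∈ Finset.range (orderOf g), χ (g ^ j) = 0 := by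
  classical
  letI := Fintype.ofFinite G
  letI := fintypeIrr G
  have hn : Nat.card G ≠ 0 := Nat.card_pos.ne'
  haveI : NeZero (Nat.card G) := ⟨hn⟩
  obtain ⟨M, hMmax, hpM⟩ := exists_maximal_over hn p hp.out
  haveI := hMmax
  letI : Field (cycRing (Nat.card G) ⧸ M) := Ideal.Quotient.field M
  set red : cycRing (Nat.card G) →+* (cycRing (Nat.card G) ⧸ M) := Ideal.Quotient.mk M with hred
  haveI : CharP (cycRing (Nat.card G) ⧸ M) p := by
    rw [CharP.charP_iff_prime_eq_zero hp.out]
    have h1 : red (p : cycRing (Nat.card G)) = 0 := Ideal.Quotient.eq_zero_iff_mem.mpr hpM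
    rw [map_natCast] at h1
    exact h1
  obtain ⟨W, _, _, τ, hW, hτ⟩ := hmod (cycRing (Nat.card G) ⧸ M)
  have hnk : ((Nat.card G : ℕ) : cycRing (Nat.card G) ⧸ M) ≠ 0 := by
    rw [Ne, CharP.cast_eq_zero_iff (cycRing (Nat.card G) ⧸ M) p]
    intro hdvd
    have h1 : p ∣ Nat.gcd (Nat.card G) p := Nat.dvd_gcd hdvd dvd_rfl
    rw [hcop] at h1
    exact hp.out.one_lt.ne' (Nat.dvd_one.mp h1)
  have hex : ∃ χ : IrrCharacter G, Sop (irrRep G χ) τ red ≠ 0 := by
    by_contra hall
    push_neg at hall
    have h := sum_irr_smul_Sop τ red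
    rw [Finset.sum_eq_zero (fun χ _ => by rw [hall χ, smul_zero])] at h
    obtain ⟨w, hw⟩ := exists_ne (0 : W)
    have h2 := LinearMap.congr_fun h w
    simp only [LinearMap.zero_apply, LinearMap.smul_apply, Module.End.one_apply] at h2
    rcases smul_eq_zero.mp h2.symm with h3 | h3
    · exact hnk h3
    · exact hw h3
  obtain ⟨χ, hχ⟩ := hex
  refine ⟨χ, χ.2, ?_⟩
  intro g hg
  letI : Fintype (Subgroup.zpowers g) := Fintype.ofFinite _
  have hC : ∑ c : Subgroup.zpowers g, τ (c : G) = 0 := by
    rw [sum_zpowers_eq_sum_range g (fun x => τ x)]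
    exact hτ g hg
  have hbM : ∀ h : G, bA (irrRep G χ) (Subgroup.zpowers g) h ∈ M := by
    intro h
    have h1 := smul_Sop_eq_zero (irrRep G χ) τ red (Subgroup.zpowers g) hC h
    rcases smul_eq_zero.mp h1 with h2 | h2
    · rcases mul_eq_zero.mp h2 with h3 | h3
      · exact absurd h3 hnk
      · exact Ideal.Quotient.eq_zero_iff_mem.mp h3
    · exact absurd h2 hχ
  have hN : ((Nat.card G * Nat.card (Subgroup.zpowers g) : ℕ) : cycRing (Nat.card G)) ∉ M := by
    apply natCast_notMem_of_coprime hMmax.ne_top hpM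
    apply Nat.Coprime.mul_left hcop
    exact Nat.Coprime.coprime_dvd_left (Subgroup.card_subgroup_dvd_card _) hcop
  have hrel : ∀ h : G, ∃ (s : Finset (G × G)) (c : G × G → cycRing (Nat.card G)),
      ((Nat.card G * Nat.card (Subgroup.zpowers g) : ℕ) : cycRing (Nat.card G)) *
        bA (irrRep G χ) (Subgroup.zpowers g) h =
      ∑ t ∈ s, c t * (bA (irrRep G χ) (Subgroup.zpowers g) t.1 *
        bA (irrRep G χ) (Subgroup.zpowers g) t.2) := by
    intro h
    refine ⟨Finset.univ.image (fun u : G => (u⁻¹, u * h)),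
      fun _ => ((irrDim G χ : ℕ) : cycRing (Nat.card G)), ?_⟩
    rw [Finset.sum_image]
    · apply Subtype.ext
      have h1 := bfun_quadratic (irrRep G χ) (Subgroup.zpowers g) h
      rw [Module.finrank_fin_fun] at h1
      simp only [bA]
      push_cast
      rw [← Finset.mul_sum]
      push_cast at h1
      rw [h1]
    · intro u _ v _ huv
      have := congrArg Prod.fst huv
      simpa using this
  have hb0 := eq_zero_of_quadratic_relation (M := M)
    (fun h => bA (irrRep G χ) (Subgroup.zpowers g) h) hbM hN hrel 1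
  have h1 : bfun (irrRep G χ) (Subgroup.zpowers g) 1 = 0 := by
    have := congrArg (fun z : cycRing (Nat.card G) => (z : ℂ)) hb0
    simpa [bA] using this
  rw [bfun_one, irrRep_char, sum_zpowers_eq_sum_range g (fun x => (χ : G → ℂ) x)] at h1
  exact h1

end Cfsg.Agent.Lib.Helper13.FrobRep
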