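/-
helper13: counting Klein four-subgroups of a finite group via ordered pairs of commuting
involutions: `#{(x,y) : x ≠ y commuting involutions} = 6 · #{Klein four-subgroups}`.
-/
import Mathlib

set_option autoImplicit false

namespace Cfsg.Agent.Lib.Helper13

open Finset

section klein

variable {P : Type*} [Group P]

theorem klein_closure_carrier (x y : P) (hx : x * x = 1) (hy : y * y = 1) (hc : y * x = x * y) :
    ((Subgroup.closure ({x, y} : Set P) : Subgroup P) : Set P) = {1, x, y, x * y} := by
  have hx' : ∀ a, x * (x * a) = a := fun a => by rw [← mul_assoc, hx, one_mul]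
  have hy' : ∀ a, y * (y * a) = a := fun a => by rw [← mul_assoc, hy, one_mul]
  have hc' : ∀ a, y * (x * a) = x * (y * a) := fun a => by rw [← mul_assoc, hc, mul_assoc]
  apply Set.Subset.antisymm
  · intro a ha
    rw [SetLike.mem_coe] at ha
    induction ha using Subgroup.closure_induction with
    | mem a ha =>
      rcases ha with ha | ha
      · rw [ha]; simp
      · rw [Set.mem_singleton_iff] at ha
        rw [ha]; simp
    | one => simp
    | mul a b _ _ ha hb =>
      simp only [Set.mem_insert_iff, Set.mem_singleton_iff] at ha hb ⊢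
      rcases ha with ha | ha | ha | ha <;> rcases hb with hb | hb | hb | hb <;> rw [ha, hb] <;>
        simp only [mul_assoc, mul_one, one_mul, hx, hy, hc, hx', hy', hc'] <;> simp
    | inv a _ ha =>
      simp only [Set.mem_insert_iff, Set.mem_singleton_iff] at ha ⊢
      rcases ha with ha | ha | ha | ha
      · left; rw [ha, inv_one]
      · right; left; rw [ha]; exact inv_eq_of_mul_eq_one_right hx
      · right; right; left; rw [ha]; exact inv_eq_of_mul_eq_one_right hy
      · right; right; right
        rw [ha]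
        apply inv_eq_of_mul_eq_one_right
        simp only [mul_assoc, mul_one, one_mul, hx, hy, hc, hx', hy', hc']
  · intro a ha
    simp only [Set.mem_insert_iff, Set.mem_singleton_iff] at ha
    have hxm : x ∈ Subgroup.closure ({x, y} : Set P) := Subgroup.subset_closure (by simp)
    have hym : y ∈ Subgroup.closure ({x, y} : Set P) := Subgroup.subset_closure (by simp)
    rcases ha with ha | ha | ha | ha <;> rw [ha, SetLike.mem_coe]
    · exact Subgroup.one_mem _
    · exact hxm
    · exact hym
    · exact Subgroup.mul_mem _ hxm hym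

theorem klein_closure_card (x y : P) (hx : x * x = 1) (hy : y * y = 1) (hc : y * x = x * y)
    (hx1 : x ≠ 1) (hy1 : y ≠ 1) (hxy : x ≠ y) :
    Nat.card (Subgroup.closure ({x, y} : Set P)) = 4 := by
  have h1 : Nat.card (Subgroup.closure ({x, y} : Set P)) =
      ((Subgroup.closure ({x, y} : Set P) : Subgroup P) : Set P).ncard := by
    rw [← Nat.card_coe_set_eq]; rfl
  rw [h1, klein_closure_carrier x y hx hy hc]
  have hxinv : x⁻¹ = x := inv_eq_of_mul_eq_one_right hx
  have n1 : (1 : P) ∉ ({x, y, x * y} : Set P) := by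
    simp only [Set.mem_insert_iff, Set.mem_singleton_iff]
    rintro (h | h | h)
    · exact hx1 h.symm
    · exact hy1 h.symm
    · apply hxy
      have : y = x⁻¹ := eq_inv_of_mul_eq_one_right h.symm
      rw [this, hxinv]
  have n2 : x ∉ ({y, x * y} : Set P) := by
    simp only [Set.mem_insert_iff, Set.mem_singleton_iff]
    rintro (h | h)
    · exact hxy h
    · apply hy1
      have : x * 1 = x * y := by rw [mul_one]; exact h
      exact (mul_left_cancel this).symm
  have n3 : y ∉ ({x * y} : Set P) := by
    simp only [Set.mem_singleton_iff]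
    intro h
    apply hx1
    have : 1 * y = x * y := by rw [one_mul]; exact h
    exact (mul_right_cancel this).symm
  rw [Set.ncard_insert_of_notMem n1 (Set.toFinite _), Set.ncard_insert_of_notMem n2 (Set.toFinite _),
    Set.ncard_insert_of_notMem n3 (Set.toFinite _), Set.ncard_singleton]

theorem klein_closure_isKleinFour (x y : P) (hx : x * x = 1) (hy : y * y = 1) (hc : y * x = x * y)
    (hx1 : x ≠ 1) (hy1 : y ≠ 1) (hxy : x ≠ y) :
    IsKleinFour (Subgroup.closure ({x, y} : Set P)) := by
  have hcard := klein_closure_card x y hx hy hc hx1 hy1 hxy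
  have hx' : ∀ a, x * (x * a) = a := fun a => by rw [← mul_assoc, hx, one_mul]
  have hy' : ∀ a, y * (y * a) = a := fun a => by rw [← mul_assoc, hy, one_mul]
  have hc' : ∀ a, y * (x * a) = x * (y * a) := fun a => by rw [← mul_assoc, hc, mul_assoc]
  refine ⟨hcard, ?_⟩
  have : Nontrivial (Subgroup.closure ({x, y} : Set P)) := by
    have : Finite (Subgroup.closure ({x, y} : Set P)) := Nat.finite_of_card_ne_zero (by omega)
    rw [← Finite.one_lt_card_iff_nontrivial, hcard]
    norm_num
  rw [Monoid.exponent_eq_prime_iff Nat.prime_two]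
  intro g hg
  apply orderOf_eq_prime
  · have hmem : (g : P) ∈ ((Subgroup.closure ({x, y} : Set P) : Subgroup P) : Set P) := g.2
    rw [klein_closure_carrier x y hx hy hc] at hmem
    simp only [Set.mem_insert_iff, Set.mem_singleton_iff] at hmem
    apply Subtype.ext
    rw [pow_two]
    change (g : P) * (g : P) = 1
    rcases hmem with h | h | h | h <;> rw [h]
    · rw [one_mul]
    · exact hx
    · exact hy
    · simp only [mul_assoc, mul_one, one_mul, hx, hy, hc, hx', hy', hc']
  · exact hg

/-- In a subgroup of exponent two, elements commute. -/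
theorem commute_of_mul_self {a b : P} (ha : a * a = 1) (hb : b * b = 1)
    (hab : (a * b) * (a * b) = 1) : a * b = b * a := by
  have h1 : a * b = (a * b)⁻¹ := (inv_eq_of_mul_eq_one_right hab).symm
  rw [mul_inv_rev, inv_eq_of_mul_eq_one_right ha, inv_eq_of_mul_eq_one_right hb] at h1
  exact h1

end klein

section count

variable {P : Type*} [Group P] [Finite P]

theorem card_pairs_in_klein (V : Subgroup P) (hV : Nat.card V = 4) :
    Nat.card {p : P × P // p.1 ∈ V ∧ p.2 ∈ V ∧ p.1 ≠ 1 ∧ p.2 ≠ 1 ∧ p.1 ≠ p.2} = 6 := by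
  classical
  have : Fintype P := Fintype.ofFinite P
  set s : Finset P := univ.filter (fun a => a ∈ V ∧ a ≠ 1) with hs
  have hs3 : s.card = 3 := by
    have h4 : (univ.filter (fun a => a ∈ V)).card = 4 := by
      rw [← hV, Nat.card_eq_fintype_card, Fintype.card_subtype]
    have : s = (univ.filter (fun a => a ∈ V)).erase 1 := by
      ext a
      simp only [hs, Finset.mem_filter, Finset.mem_univ, true_and, Finset.mem_erase]
      tauto
    rw [this, Finset.card_erase_of_mem (by simp [V.one_mem]), h4]
  rw [Nat.card_eq_fintype_card, Fintype.card_subtype]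
  have : univ.filter (fun p : P × P => p.1 ∈ V ∧ p.2 ∈ V ∧ p.1 ≠ 1 ∧ p.2 ≠ 1 ∧ p.1 ≠ p.2) =
      s.offDiag := by
    ext p
    simp only [hs, Finset.mem_filter, Finset.mem_univ, true_and, Finset.mem_offDiag]
    tauto
  rw [this, Finset.offDiag_card, hs3]

/-- Ordered pairs of distinct commuting involutions: six per Klein four-subgroup. -/
theorem card_commuting_involution_pairs :
    Nat.card {p : P × P // orderOf p.1 = 2 ∧ orderOf p.2 = 2 ∧ p.1 ≠ p.2 ∧ Commute p.1 p.2} =
      6 * Nat.card {V : Subgroup P // IsKleinFour V} := by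
  classical
  have : Fintype P := Fintype.ofFinite P
  have key : ∀ p : {p : P × P // orderOf p.1 = 2 ∧ orderOf p.2 = 2 ∧ p.1 ≠ p.2 ∧ Commute p.1 p.2},
      IsKleinFour (Subgroup.closure ({p.1.1, p.1.2} : Set P)) := by
    rintro ⟨⟨a, b⟩, ha, hb, hab, hc⟩
    have ha2 : a * a = 1 := by rw [← pow_two, ← ha]; exact pow_orderOf_eq_one a
    have hb2 : b * b = 1 := by rw [← pow_two, ← hb]; exact pow_orderOf_eq_one b
    have ha1 : a ≠ 1 := by
      intro h; rw [h, orderOf_one] at ha; omega
    have hb1 : b ≠ 1 := by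
      intro h; rw [h, orderOf_one] at hb; omega
    exact klein_closure_isKleinFour a b ha2 hb2 hc.eq.symm ha1 hb1 hab
  set f : {p : P × P // orderOf p.1 = 2 ∧ orderOf p.2 = 2 ∧ p.1 ≠ p.2 ∧ Commute p.1 p.2} →
      {V : Subgroup P // IsKleinFour V} :=
    fun p => ⟨Subgroup.closure ({p.1.1, p.1.2} : Set P), key p⟩ with hf
  have : Fintype {V : Subgroup P // IsKleinFour V} := Fintype.ofFinite _
  rw [← Nat.card_congr (Equiv.sigmaFiberEquiv f), Nat.card_sigma]
  have hfib : ∀ V : {V : Subgroup P // IsKleinFour V},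
      Nat.card {p : {p : P × P // orderOf p.1 = 2 ∧ orderOf p.2 = 2 ∧ p.1 ≠ p.2 ∧ Commute p.1 p.2} //
        f p = V} = 6 := by
    rintro ⟨V, hV⟩
    have hV4 : Nat.card V = 4 := hV.card_four
    rw [← card_pairs_in_klein V hV4]
    have e1 : {p : {p : P × P // orderOf p.1 = 2 ∧ orderOf p.2 = 2 ∧ p.1 ≠ p.2 ∧ Commute p.1 p.2} //
        f p = ⟨V, hV⟩} ≃
        {p : {p : P × P // orderOf p.1 = 2 ∧ orderOf p.2 = 2 ∧ p.1 ≠ p.2 ∧ Commute p.1 p.2} //
          (fun q : P × P => Subgroup.closure ({q.1, q.2} : Set P) = V) p.1} := by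
      apply Equiv.subtypeEquivRight
      intro p
      simp only [hf, Subtype.mk.injEq]
    refine ((Nat.card_congr e1).trans (Nat.card_congr (Equiv.subtypeSubtypeEquivSubtypeInter
      (fun p : P × P => orderOf p.1 = 2 ∧ orderOf p.2 = 2 ∧ p.1 ≠ p.2 ∧ Commute p.1 p.2)
      (fun q : P × P => Subgroup.closure ({q.1, q.2} : Set P) = V)))).trans ?_
    apply Nat.card_congr
    apply Equiv.subtypeEquivRight
    rintro ⟨a, b⟩
    constructor
    · rintro ⟨⟨ha, hb, hab, hc⟩, hcl⟩
      have ham : a ∈ V := hcl ▸ Subgroup.subset_closure (by simp)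
      have hbm : b ∈ V := hcl ▸ Subgroup.subset_closure (by simp)
      refine ⟨ham, hbm, ?_, ?_, hab⟩
      · intro h; rw [h, orderOf_one] at ha; omega
      · intro h; rw [h, orderOf_one] at hb; omega
    · rintro ⟨ham, hbm, ha1, hb1, hab⟩
      have hsq : ∀ g : P, g ∈ V → g * g = 1 := by
        intro g hg
        have := @IsKleinFour.mul_self V _ hV ⟨g, hg⟩
        exact congrArg Subtype.val this
      have ha2 := hsq a ham
      have hb2 := hsq b hbm
      have hc : a * b = b * a := commute_of_mul_self ha2 hb2 (hsq _ (V.mul_mem ham hbm))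
      have hoa : orderOf a = 2 := orderOf_eq_prime (by rw [pow_two]; exact ha2) ha1
      have hob : orderOf b = 2 := orderOf_eq_prime (by rw [pow_two]; exact hb2) hb1
      refine ⟨⟨hoa, hob, hab, hc⟩, ?_⟩
      apply Subgroup.eq_of_le_of_card_ge
      · rw [Subgroup.closure_le]
        intro g hg
        rcases hg with hg | hg
        · rw [hg]; exact ham
        · rw [Set.mem_singleton_iff] at hg
          rw [hg]; exact hbm
      · rw [hV4, klein_closure_card a b ha2 hb2 hc.symm ha1 hb1 hab]
  rw [Finset.sum_congr rfl (fun V _ => hfib V), Finset.sum_const, Finset.card_univ, smul_eq_mul,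
    Nat.card_eq_fintype_card, mul_comm]

end count

end Cfsg.Agent.Lib.Helper13
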