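/-
helper13: recognising quasi-dihedral and wreathed Sylow 2-subgroups from elements of the ambient
group (Sylow transfer).
-/
import Mathlib
import Cfsg.Prelude.Def_CaseTheorems

set_option autoImplicit false

namespace Cfsg.Agent.Lib.Helper13

section transfer

variable {G : Type*} [Group G] [Finite G]

/-- Every `p`-subgroup is conjugate into a given Sylow `p`-subgroup. -/
theorem exists_conj_mem_sylow {p : ℕ} [Fact p.Prime] (P : Sylow p G) (Q : Subgroup G)
    (hQ : IsPGroup p Q) : ∃ g : G, ∀ x ∈ Q, g * x * g⁻¹ ∈ (P : Subgroup G) := by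
  obtain ⟨R, hR⟩ := hQ.exists_le_sylow
  obtain ⟨g, hg⟩ := MulAction.exists_smul_eq G R P
  refine ⟨g, fun x hx => ?_⟩
  have hmem : g * x * g⁻¹ ∈ ((g • R : Sylow p G) : Subgroup G) := by
    rw [Sylow.coe_subgroup_smul, Subgroup.mem_pointwise_smul_iff_inv_smul_mem]
    simp only [MulAut.smul_def, ← map_inv, MulAut.conj_apply, inv_inv]
    have : g⁻¹ * (g * x * g⁻¹) * g = x := by group
    rw [this]
    exact hR hx
  rw [hg] at hmem
  exact hmem

theorem isPGroup_zpowers_of_orderOf (p k : ℕ) (x : G) (h : orderOf x = p ^ k) :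
    IsPGroup p (Subgroup.zpowers x) := by
  apply IsPGroup.of_card (n := k)
  rw [Nat.card_zpowers, h]

theorem conj_pow' (g x : G) (k : ℕ) : (g * x * g⁻¹) ^ k = g * x ^ k * g⁻¹ := by
  induction k with
  | zero => simp
  | succ k ih => rw [pow_succ, ih, pow_succ]; group

theorem orderOf_conj' (g x : G) : orderOf (g * x * g⁻¹) = orderOf x := by
  rw [orderOf_eq_orderOf_iff]
  intro k
  rw [conj_pow']
  constructor
  · intro h
    have : x ^ k = g⁻¹ * (g * x ^ k * g⁻¹) * g := by group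
    rw [this, h]; group
  · intro h
    rw [h]; group

theorem zpowers_le_normalizer_of_conj (x y : G) (k : ℕ) (h : y * x * y⁻¹ = x ^ k) :
    Subgroup.zpowers y ≤ Subgroup.normalizer ((Subgroup.zpowers x : Subgroup G) : Set G) := by
  rw [Subgroup.zpowers_le, Subgroup.mem_normalizer_iff_map_conj_eq]
  have hmap : (Subgroup.zpowers x).map (MulAut.conj y).toMonoidHom =
      Subgroup.zpowers (y * x * y⁻¹) := by
    rw [MonoidHom.map_zpowers]; rfl
  change (Subgroup.zpowers x).map (MulAut.conj y).toMonoidHom = Subgroup.zpowers x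
  rw [hmap]
  apply Subgroup.eq_of_le_of_card_ge
  · rw [Subgroup.zpowers_le, h]
    exact Subgroup.pow_mem _ (Subgroup.mem_zpowers x) k
  · rw [Nat.card_zpowers, Nat.card_zpowers, orderOf_conj']

/-- Quasi-dihedral Sylow 2-subgroups from ambient elements. -/
theorem isQuasiDihedral_sylow (P : Sylow 2 G) (n : ℕ) (hn : 3 ≤ n)
    (hcard : Nat.card (P : Subgroup G) = 2 ^ (n + 1)) (x y : G) (hox : orderOf x = 2 ^ n)
    (hoy : orderOf y = 2) (hrel : y * x * y⁻¹ = x ^ (2 ^ (n - 1) - 1)) :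
    Cfsg.IsQuasiDihedral (P : Subgroup G) := by
  have hQ : IsPGroup 2 (Subgroup.zpowers y ⊔ Subgroup.zpowers x : Subgroup G) := by
    apply IsPGroup.to_sup_of_normal_right'
    · exact isPGroup_zpowers_of_orderOf 2 1 y (by rw [hoy, pow_one])
    · exact isPGroup_zpowers_of_orderOf 2 n x hox
    · exact zpowers_le_normalizer_of_conj x y _ hrel
  obtain ⟨g, hg⟩ := exists_conj_mem_sylow P _ hQ
  have hxm := hg x ((le_sup_right : Subgroup.zpowers x ≤ _) (Subgroup.mem_zpowers x))
  have hym := hg y ((le_sup_left : Subgroup.zpowers y ≤ _) (Subgroup.mem_zpowers y))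
  refine ⟨n, hn, hcard, ⟨g * x * g⁻¹, hxm⟩, ⟨g * y * g⁻¹, hym⟩, ?_, ?_, ?_⟩
  · rw [Subgroup.orderOf_mk, orderOf_conj', hox]
  · rw [Subgroup.orderOf_mk, orderOf_conj', hoy]
  · apply Subtype.ext
    change (g * y * g⁻¹) * (g * x * g⁻¹) * (g * y * g⁻¹)⁻¹ = (g * x * g⁻¹) ^ (2 ^ (n - 1) - 1)
    rw [conj_pow', ← hrel]
    group

/-- Wreathed Sylow 2-subgroups from ambient elements. -/
theorem isWreathed_sylow (P : Sylow 2 G) (n : ℕ) (hn : 2 ≤ n)
    (hcard : Nat.card (P : Subgroup G) = 2 ^ (2 * n + 1)) (x z : G) (hox : orderOf x = 2 ^ n)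
    (hoz : orderOf z = 2) (hcomm : x * (z * x * z⁻¹) = (z * x * z⁻¹) * x)
    (hdisj : Subgroup.zpowers x ⊓ Subgroup.zpowers (z * x * z⁻¹) = ⊥) :
    Cfsg.IsWreathed (P : Subgroup G) := by
  set y := z * x * z⁻¹ with hy
  have hzz : z * z = 1 := by
    have := pow_orderOf_eq_one z
    rw [hoz, pow_two] at this
    exact this
  have hzinv : z⁻¹ = z := inv_eq_of_mul_eq_one_right hzz
  have hoy : orderOf y = 2 ^ n := by rw [hy, orderOf_conj', hox]
  have hzy : z * y * z⁻¹ = x := by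
    rw [hy, hzinv]
    calc z * (z * x * z) * z = (z * z) * x * (z * z) := by group
      _ = x := by rw [hzz, one_mul, mul_one]
  -- the diagonal part
  have hD : IsPGroup 2 (Subgroup.zpowers x ⊔ Subgroup.zpowers y : Subgroup G) := by
    apply IsPGroup.to_sup_of_normal_right'
    · exact isPGroup_zpowers_of_orderOf 2 n x hox
    · exact isPGroup_zpowers_of_orderOf 2 n y hoy
    · apply zpowers_le_normalizer_of_conj y x 1
      rw [pow_one]
      calc x * y * x⁻¹ = (y * x) * x⁻¹ := by rw [hcomm]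
        _ = y := by group
  have hznorm : Subgroup.zpowers z ≤ Subgroup.normalizer
      ((Subgroup.zpowers x ⊔ Subgroup.zpowers y : Subgroup G) : Set G) := by
    rw [Subgroup.zpowers_le, Subgroup.mem_normalizer_iff_map_conj_eq]
    change (Subgroup.zpowers x ⊔ Subgroup.zpowers y).map (MulAut.conj z).toMonoidHom = _
    rw [Subgroup.map_sup, MonoidHom.map_zpowers, MonoidHom.map_zpowers]
    have e1 : (MulAut.conj z).toMonoidHom x = y := rfl
    have e2 : (MulAut.conj z).toMonoidHom y = x := hzy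
    rw [e1, e2, sup_comm]
  have hQ : IsPGroup 2 (Subgroup.zpowers z ⊔ (Subgroup.zpowers x ⊔ Subgroup.zpowers y) :
      Subgroup G) := by
    apply IsPGroup.to_sup_of_normal_right'
    · exact isPGroup_zpowers_of_orderOf 2 1 z (by rw [hoz, pow_one])
    · exact hD
    · exact hznorm
  obtain ⟨g, hg⟩ := exists_conj_mem_sylow P _ hQ
  have hxm := hg x ((le_sup_right : (Subgroup.zpowers x ⊔ Subgroup.zpowers y) ≤ _)
    ((le_sup_left : Subgroup.zpowers x ≤ _) (Subgroup.mem_zpowers x)))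
  have hzm := hg z ((le_sup_left : Subgroup.zpowers z ≤ _) (Subgroup.mem_zpowers z))
  have hym := hg y ((le_sup_right : (Subgroup.zpowers x ⊔ Subgroup.zpowers y) ≤ _)
    ((le_sup_right : Subgroup.zpowers y ≤ _) (Subgroup.mem_zpowers y)))
  refine ⟨n, hn, hcard, ⟨g * x * g⁻¹, hxm⟩, ⟨g * y * g⁻¹, hym⟩, ⟨g * z * g⁻¹, hzm⟩, ?_, ?_, ?_, ?_, ?_⟩
  · rw [Subgroup.orderOf_mk, orderOf_conj', hox]
  · apply Subtype.ext
    change (g * x * g⁻¹) * (g * y * g⁻¹) = (g * y * g⁻¹) * (g * x * g⁻¹)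
    calc (g * x * g⁻¹) * (g * y * g⁻¹) = g * (x * y) * g⁻¹ := by group
      _ = g * (y * x) * g⁻¹ := by rw [hcomm]
      _ = (g * y * g⁻¹) * (g * x * g⁻¹) := by group
  · rw [eq_bot_iff]
    rintro ⟨w, hwP⟩ hw
    obtain ⟨hw1, hw2⟩ := Subgroup.mem_inf.mp hw
    obtain ⟨i, hi⟩ := Subgroup.mem_zpowers_iff.mp hw1
    obtain ⟨j, hj⟩ := Subgroup.mem_zpowers_iff.mp hw2
    have hi' : (g * x * g⁻¹) ^ i = w := by
      have := congrArg Subtype.val hi
      simpa using this
    have hj' : (g * y * g⁻¹) ^ j = w := by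
      have := congrArg Subtype.val hj
      simpa using this
    have hci : (g * x * g⁻¹) ^ i = g * x ^ i * g⁻¹ := by
      have := map_zpow (MulAut.conj g) x i
      simpa [MulAut.conj_apply] using this
    have hcj : (g * y * g⁻¹) ^ j = g * y ^ j * g⁻¹ := by
      have := map_zpow (MulAut.conj g) y j
      simpa [MulAut.conj_apply] using this
    have hxy : x ^ i = y ^ j := by
      have : g * x ^ i * g⁻¹ = g * y ^ j * g⁻¹ := by rw [← hci, ← hcj, hi', hj']
      exact mul_left_cancel (mul_right_cancel this)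
    have hmem : x ^ i ∈ Subgroup.zpowers x ⊓ Subgroup.zpowers y := by
      refine Subgroup.mem_inf.mpr ⟨Subgroup.zpow_mem_zpowers x i, ?_⟩
      rw [hxy]
      exact Subgroup.zpow_mem_zpowers y j
    rw [hdisj, Subgroup.mem_bot] at hmem
    rw [Subgroup.mem_bot]
    apply Subtype.ext
    change w = 1
    rw [← hi', hci, hmem]
    group
  · rw [Subgroup.orderOf_mk, orderOf_conj', hoz]
  · apply Subtype.ext
    change (g * z * g⁻¹) * (g * x * g⁻¹) * (g * z * g⁻¹)⁻¹ = g * y * g⁻¹
    rw [hy]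
    group

end transfer

end Cfsg.Agent.Lib.Helper13
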