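import Mathlib

/-!
Helper lemmas (helper13): an alternating bilinear form has even rank.
-/

set_option autoImplicit false

namespace Cfsg.Agent.Lib.Helper13

open Module LinearMap LinearMap.BilinForm

/-- A finite-dimensional space carrying a nondegenerate alternating bilinear form has even dimension. -/
theorem even_finrank_of_isAlt_nondegenerate {K : Type*} [Field K] :
    ∀ (n : ℕ) {V : Type*} [AddCommGroup V] [Module K V] [FiniteDimensional K V]
      (B : LinearMap.BilinForm K V), B.IsAlt → B.Nondegenerate → finrank K V = n → Even n := by
  intro n
  induction n using Nat.strong_induction_on with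
  | _ n ih =>
    intro V _ _ _ B hA hN hn
    rcases Nat.eq_zero_or_pos n with h0 | hpos
    · subst h0; exact Even.zero
    · rw [← hn] at hpos
      obtain ⟨u, hu⟩ := Module.finrank_pos_iff_exists_ne_zero.mp hpos
      have hex : ∃ w, B u w ≠ 0 := by
        by_contra hcon
        push Not at hcon
        exact hu (hN.1 u hcon)
      obtain ⟨w, hw⟩ := hex
      have hwu : B w u = -B u w := by
        have := hA.neg_eq u w  -- -B u w = B w u
        exact this.symm
      set W : Submodule K V := Submodule.span K {u, w} with hWdef
      have huW : u ∈ W := Submodule.subset_span (by simp)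
      have hwW : w ∈ W := Submodule.subset_span (by simp)
      have hdisj : Disjoint W (B.orthogonal W) := by
        rw [Submodule.disjoint_def]
        intro x hxW hxO
        obtain ⟨a, b, rfl⟩ := Submodule.mem_span_pair.mp hxW
        rw [mem_orthogonal_iff] at hxO
        have h1 : B u (a • u + b • w) = 0 := hxO u huW
        have h2 : B w (a • u + b • w) = 0 := hxO w hwW
        simp only [map_add, map_smul, smul_eq_mul, hA u, hA w, mul_zero, zero_add, add_zero] at h1 h2
        have hb : b = 0 := by
          rcases mul_eq_zero.mp h1 with h | h
          · exact h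
          · exact absurd h hw
        have ha : a = 0 := by
          rw [hwu] at h2
          rcases mul_eq_zero.mp h2 with h | h
          · exact h
          · exact absurd (neg_eq_zero.mp h) hw
        rw [ha, hb, zero_smul, zero_smul, add_zero]
      have hrefl : B.IsRefl := hA.isRefl
      have hWnd : (B.restrict W).Nondegenerate :=
        nondegenerate_restrict_of_disjoint_orthogonal B hrefl hdisj
      have hcompl : IsCompl W (B.orthogonal W) :=
        isCompl_orthogonal_of_restrict_nondegenerate hrefl hWnd
      have hdisj' : Disjoint (B.orthogonal W) (B.orthogonal (B.orthogonal W)) := by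
        rw [orthogonal_orthogonal hN hrefl W]
        exact hcompl.disjoint.symm
      have hW'nd : (B.restrict (B.orthogonal W)).Nondegenerate :=
        nondegenerate_restrict_of_disjoint_orthogonal B hrefl hdisj'
      have hW'alt : (B.restrict (B.orthogonal W)).IsAlt := fun x => hA x
      -- dimension of W is 2
      have hli : LinearIndependent K ![u, w] := by
        rw [LinearIndependent.pair_iff]
        intro s t hst
        have h1 : B u (s • u + t • w) = 0 := by rw [hst, map_zero]
        have h2 : B w (s • u + t • w) = 0 := by rw [hst, map_zero]
        simp only [map_add, map_smul, smul_eq_mul, hA u, hA w, mul_zero, zero_add, add_zero] at h1 h2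
        have ht : t = 0 := by
          rcases mul_eq_zero.mp h1 with h | h
          · exact h
          · exact absurd h hw
        have hs : s = 0 := by
          rw [hwu] at h2
          rcases mul_eq_zero.mp h2 with h | h
          · exact h
          · exact absurd (neg_eq_zero.mp h) hw
        exact ⟨hs, ht⟩
      have hW2 : finrank K W = 2 := by
        have h2 := finrank_span_eq_card hli
        rw [Fintype.card_fin] at h2
        have hr : Set.range ![u, w] = {u, w} := by
          ext x
          simp [Set.mem_insert_iff, eq_comm, or_comm]
        rw [hr] at h2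
        exact h2
      have hsum : finrank K W + finrank K (B.orthogonal W) = finrank K V :=
        Submodule.finrank_add_eq_of_isCompl hcompl
      have hlt : finrank K (B.orthogonal W) < n := by omega
      have hev := ih _ hlt (B.restrict (B.orthogonal W)) hW'alt hW'nd rfl
      have : n = 2 + finrank K (B.orthogonal W) := by omega
      rw [this]
      exact Even.add even_two hev

open Matrix in
/-- An alternating matrix (`vᵀ M v = 0` for all `v`) over a field has even rank. -/
theorem even_rank_of_alt {n : Type*} [Fintype n] [DecidableEq n] {K : Type*} [Field K]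
    (M : Matrix n n K) (h : ∀ v : n → K, v ⬝ᵥ M *ᵥ v = 0) : Even M.rank := by
  set B : LinearMap.BilinForm K (n → K) := Matrix.toBilin' M with hB
  have hBapp : ∀ v w, B v w = v ⬝ᵥ M *ᵥ w := fun v w => Matrix.toBilin'_apply' M v w
  have hA : B.IsAlt := fun v => by rw [hBapp]; exact h v
  have hskew : ∀ v w, B v w = -B w v := fun v w => (hA.neg_eq w v).symm
  set R : Submodule K (n → K) := LinearMap.ker M.mulVecLin with hR
  obtain ⟨C, hC⟩ := Submodule.exists_isCompl R
  have hRmem : ∀ x, x ∈ R ↔ M *ᵥ x = 0 := fun x => by
    rw [hR, LinearMap.mem_ker, Matrix.mulVecLin_apply]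
  -- the radical of `B` is `R`
  have hrad : ∀ x, (∀ v, B v x = 0) → x ∈ R := by
    intro x hx
    rw [hRmem]
    apply dotProduct_eq_zero
    intro w
    rw [dotProduct_comm, ← hBapp]
    exact hx w
  have hRleft : ∀ r ∈ R, ∀ v, B v r = 0 := by
    intro r hr v
    rw [hBapp, (hRmem r).mp hr, dotProduct_zero]
  have hnd : (B.restrict C).Nondegenerate := by
    constructor
    · intro x hx
      have hxR : (x : n → K) ∈ R := by
        apply hrad
        intro v
        obtain ⟨r, hr, c, hc, rfl⟩ := Submodule.mem_sup.mp
          (hC.sup_eq_top.symm ▸ Submodule.mem_top : v ∈ R ⊔ C)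
        rw [map_add, LinearMap.add_apply]
        have h1 : B r x = 0 := by rw [hskew]; rw [hRleft r hr]; exact neg_zero
        have h2 : B c x = 0 := by
          rw [hskew]
          have := hx ⟨c, hc⟩
          simp only [LinearMap.BilinForm.restrict_apply, LinearMap.domRestrict_apply] at this
          rw [this, neg_zero]
        rw [h1, h2, add_zero]
      have : (x : n → K) ∈ R ⊓ C := ⟨hxR, x.2⟩
      rw [hC.inf_eq_bot] at this
      exact Subtype.ext ((Submodule.mem_bot K).mp this)
    · intro x hx
      have hxR : (x : n → K) ∈ R := by
        apply hrad
        intro v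
        obtain ⟨r, hr, c, hc, rfl⟩ := Submodule.mem_sup.mp
          (hC.sup_eq_top.symm ▸ Submodule.mem_top : v ∈ R ⊔ C)
        rw [map_add, LinearMap.add_apply]
        have h1 : B r x = 0 := by rw [hskew]; rw [hRleft r hr]; exact neg_zero
        have h2 : B c x = 0 := by
          have := hx ⟨c, hc⟩
          simpa only [LinearMap.BilinForm.restrict_apply, LinearMap.domRestrict_apply] using this
        rw [h1, h2, add_zero]
      have : (x : n → K) ∈ R ⊓ C := ⟨hxR, x.2⟩
      rw [hC.inf_eq_bot] at this
      exact Subtype.ext ((Submodule.mem_bot K).mp this)
  have halt : (B.restrict C).IsAlt := fun x => hA x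
  have hev := even_finrank_of_isAlt_nondegenerate (finrank K C) (B.restrict C) halt hnd rfl
  have h1 : finrank K R + finrank K C = finrank K (n → K) := Submodule.finrank_add_eq_of_isCompl hC
  have h2 := LinearMap.finrank_range_add_finrank_ker M.mulVecLin
  have h3 : M.rank = finrank K (LinearMap.range M.mulVecLin) := rfl
  have : M.rank = finrank K C := by
    rw [h3]; rw [← hR] at h2; omega
  rw [this]
  exact hev

end Cfsg.Agent.Lib.Helper13
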