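import Mathlib

/-!
Helper lemmas (helper13) about 2 × 2 matrices over a field: unipotent elements of `GL₂`/`SL₂`.
-/

set_option autoImplicit false

namespace Cfsg.Agent.Lib.Helper13

open Matrix

variable {F : Type*} [Field F]

/-- A nilpotent matrix of size `d` over a field has `d`-th power zero. -/
theorem nilpotent_pow_card {d : ℕ} (N : Matrix (Fin d) (Fin d) F) (h : IsNilpotent N) :
    N ^ d = 0 := by
  have h1 := Matrix.isNilpotent_charpoly_sub_pow_of_isNilpotent h
  have h2 : N.charpoly = Polynomial.X ^ d := by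
    have := h1.eq_zero
    simpa [sub_eq_zero] using this
  have h3 := Matrix.aeval_self_charpoly N
  rw [h2] at h3
  simpa using h3

/-- The standard transvection `[[1, t], [0, 1]]` as an element of `GL₂`. -/
noncomputable def tGL (t : F) : GL (Fin 2) F :=
  Matrix.GeneralLinearGroup.mkOfDetNeZero !![1, t; 0, 1] (by simp [Matrix.det_fin_two])

@[simp] theorem tGL_coe (t : F) : ((tGL t : GL (Fin 2) F) : Matrix (Fin 2) (Fin 2) F) = !![1, t; 0, 1] := rfl

/-- Entries of a 2 × 2 matrix with `(M - 1)^2 = 0`. -/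
theorem sq_zero_entries (M : Matrix (Fin 2) (Fin 2) F) (h : (M - 1) ^ 2 = 0) :
    (M 0 0 - 1) ^ 2 + M 0 1 * M 1 0 = 0 ∧ M 0 1 * ((M 0 0 - 1) + (M 1 1 - 1)) = 0 ∧
    M 1 0 * ((M 0 0 - 1) + (M 1 1 - 1)) = 0 ∧ M 1 0 * M 0 1 + (M 1 1 - 1) ^ 2 = 0 := by
  have h00 := congrFun (congrFun h 0) 0
  have h01 := congrFun (congrFun h 0) 1
  have h10 := congrFun (congrFun h 1) 0
  have h11 := congrFun (congrFun h 1) 1
  simp only [pow_two, Matrix.mul_apply, Fin.sum_univ_two, Matrix.sub_apply, Matrix.one_apply_eq,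
    Matrix.zero_apply, ne_eq, zero_ne_one, one_ne_zero, not_false_eq_true, Matrix.one_apply_ne,
    sub_zero, Fin.isValue] at h00 h01 h10 h11
  refine ⟨?_, ?_, ?_, ?_⟩
  · linear_combination h00
  · linear_combination h01
  · linear_combination h10
  · linear_combination h11

/-- A non-identity element `M` of `GL₂(F)` with `(M - 1)^2 = 0` is conjugate in `GL₂(F)` to the
standard transvection. -/
theorem exists_conj_tGL (M : GL (Fin 2) F) (h : ((M : Matrix (Fin 2) (Fin 2) F) - 1) ^ 2 = 0)
    (hne : M ≠ 1) : ∃ B : GL (Fin 2) F, M * B = B * tGL 1 := by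
  obtain ⟨e1, e2, e3, e4⟩ := sq_zero_entries _ h
  set m : Matrix (Fin 2) (Fin 2) F := (M : Matrix (Fin 2) (Fin 2) F) with hm
  by_cases hc : m 1 0 = 0
  · -- lower-left entry zero
    have ha : m 0 0 = 1 := by
      rw [hc, mul_zero, add_zero] at e1
      have := pow_eq_zero_iff (two_ne_zero) |>.mp e1
      exact sub_eq_zero.mp this
    have hd : m 1 1 = 1 := by
      rw [hc, zero_mul, zero_add] at e4
      have := pow_eq_zero_iff (two_ne_zero) |>.mp e4
      exact sub_eq_zero.mp this
    have hb : m 0 1 ≠ 0 := by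
      intro hb
      apply hne
      apply Units.ext
      ext i j
      fin_cases i <;> fin_cases j <;> simp [← hm, ha, hb, hc, hd]
    refine ⟨Matrix.GeneralLinearGroup.mkOfDetNeZero !![m 0 1, 0; 0, 1]
      (by simp [Matrix.det_fin_two, hb]), ?_⟩
    apply Units.ext
    ext i j
    fin_cases i <;> fin_cases j <;>
      simp [Matrix.GeneralLinearGroup.mkOfDetNeZero, Matrix.mul_apply, Fin.sum_univ_two, ← hm, ha, hc, hd]
  · have had : (m 0 0 - 1) + (m 1 1 - 1) = 0 := by
      rcases mul_eq_zero.mp e3 with h | h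
      · exact absurd h hc
      · exact h
    refine ⟨Matrix.GeneralLinearGroup.mkOfDetNeZero !![m 0 0 - 1, 1; m 1 0, 0]
      (by simp [Matrix.det_fin_two, hc]), ?_⟩
    apply Units.ext
    ext i j
    fin_cases i <;> fin_cases j <;>
      simp [Matrix.GeneralLinearGroup.mkOfDetNeZero, Matrix.mul_apply, Fin.sum_univ_two, ← hm]
    · linear_combination e1
    · linear_combination (m 1 0) * had

/-- An element of order `p` of `GL_d(F)`, `F` of characteristic `p`, is unipotent: `(g - 1)^d = 0`. -/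
theorem sub_one_pow_eq_zero_of_orderOf_eq_char (p : ℕ) [Fact p.Prime] [CharP F p] {d : ℕ}
    (g : GL (Fin d) F) (hg : g ^ p = 1) : ((g : Matrix (Fin d) (Fin d) F) - 1) ^ d = 0 := by
  rcases Nat.eq_zero_or_pos d with hd | hd
  · subst hd
    ext i
    exact i.elim0
  · have : Nonempty (Fin d) := ⟨⟨0, hd⟩⟩
    have hc : CharP (Matrix (Fin d) (Fin d) F) p := inferInstance
    apply nilpotent_pow_card
    refine ⟨p, ?_⟩
    have hcomm : Commute ((g : Matrix (Fin d) (Fin d) F)) 1 := Commute.one_right _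
    rw [sub_pow_char_of_commute p hcomm, one_pow, sub_eq_zero]
    have := congrArg (fun x : GL (Fin d) F => (x : Matrix (Fin d) (Fin d) F)) hg
    simpa using this

/-- Over a field of characteristic `p`, any two elements of order `p` of `GL₂` are conjugate. -/
theorem isConj_of_orderOf_eq_char (p : ℕ) [Fact p.Prime] [CharP F p] (g h : GL (Fin 2) F)
    (hg : orderOf g = p) (hh : orderOf h = p) : IsConj g h := by
  have hp : p.Prime := Fact.out
  have key : ∀ x : GL (Fin 2) F, orderOf x = p → ∃ B : GL (Fin 2) F, x * B = B * tGL 1 := by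
    intro x hx
    apply exists_conj_tGL
    · apply sub_one_pow_eq_zero_of_orderOf_eq_char p
      rw [← hx]; exact pow_orderOf_eq_one x
    · intro h1
      rw [h1, orderOf_one] at hx
      exact hp.one_lt.ne hx
  obtain ⟨B, hB⟩ := key g hg
  obtain ⟨C, hC⟩ := key h hh
  rw [isConj_iff]
  refine ⟨C * B⁻¹, ?_⟩
  have h1 : g = B * tGL 1 * B⁻¹ := by rw [← hB]; group
  have h2 : h = C * tGL 1 * C⁻¹ := by rw [← hC]; group
  rw [h1, h2]; group

end Cfsg.Agent.Lib.Helper13
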