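import Mathlib
import Cfsg.Agent.Lib.Helper13.GL2

/-!
Helper lemmas (helper13): order of `SL_n(F)`, class sizes, unipotent classes of `SL₂(F)`.
-/

set_option autoImplicit false

namespace Cfsg.Agent.Lib.Helper13

open Matrix

/-- Orbit–stabiliser for conjugacy classes, `Nat.card` form. -/
theorem card_carrier_mul_card_centralizer {G : Type*} [Group G] [Finite G] (g : G) :
    Nat.card (ConjClasses.mk g).carrier * Nat.card (Subgroup.centralizer ({g} : Set G)) =
      Nat.card G := by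
  classical
  have : Fintype G := Fintype.ofFinite G
  rw [Subgroup.nat_card_centralizer_nat_card_stabilizer, ← ConjAct.orbit_eq_carrier_conjClasses]
  have h := MulAction.card_orbit_mul_card_stabilizer_eq_card_group (ConjAct G) g
  simp only [← Nat.card_eq_fintype_card] at h
  rw [h]
  exact Nat.card_congr ConjAct.ofConjAct.toEquiv

variable {F : Type*} [Field F] [Fintype F]

/-- `|SL_n(F)| * (q - 1) = |GL_n(F)|` for `n ≥ 1`. -/
theorem card_SL_mul (n : ℕ) (hn : 1 ≤ n) :
    Nat.card (SpecialLinearGroup (Fin n) F) * (Fintype.card F - 1) = Nat.card (GL (Fin n) F) := by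
  have : Nonempty (Fin n) := ⟨⟨0, hn⟩⟩
  let d : GL (Fin n) F →* Fˣ := Matrix.GeneralLinearGroup.det
  have hsurj : Function.Surjective d := Matrix.GeneralLinearGroup.det_surjective
  have hker : Nat.card d.ker = Nat.card (SpecialLinearGroup (Fin n) F) := by
    refine (Nat.card_congr (Equiv.ofBijective
      (fun A : SpecialLinearGroup (Fin n) F => (⟨SpecialLinearGroup.toGL A, ?_⟩ : d.ker)) ⟨?_, ?_⟩)).symm
    · rw [MonoidHom.mem_ker]
      exact SpecialLinearGroup.coeToGL_det A
    · intro A B h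
      exact SpecialLinearGroup.toGL_injective (congrArg Subtype.val h)
    · rintro ⟨g, hg⟩
      rw [MonoidHom.mem_ker] at hg
      have hdet : (g : Matrix (Fin n) (Fin n) F).det = 1 := by
        have := congrArg Units.val hg
        rwa [Matrix.GeneralLinearGroup.val_det_apply] at this
      refine ⟨⟨(g : Matrix (Fin n) (Fin n) F), hdet⟩, ?_⟩
      apply Subtype.ext
      apply Units.ext
      rfl
  have h1 := Subgroup.card_mul_index d.ker
  rw [Subgroup.index_ker, hker] at h1
  rw [← h1]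
  congr 1
  have : d.range = ⊤ := MonoidHom.range_eq_top.mpr hsurj
  rw [this, Nat.card_congr (Subgroup.topEquiv (G := Fˣ)).toEquiv, Nat.card_units, Nat.card_eq_fintype_card]

/-- `|SL₂(F)| = q (q² - 1)`. -/
theorem card_SL2 :
    Nat.card (SpecialLinearGroup (Fin 2) F) = Fintype.card F * (Fintype.card F ^ 2 - 1) := by
  have h := card_SL_mul (F := F) 2 (by norm_num)
  rw [Matrix.card_GL_field] at h
  simp only [Fin.prod_univ_two, Fin.val_zero, Fin.val_one, pow_zero, pow_one] at h
  have hq : 2 ≤ Fintype.card F := Fintype.one_lt_card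
  set q := Fintype.card F
  have hq1 : 0 < q - 1 := by omega
  apply Nat.eq_of_mul_eq_mul_right hq1
  rw [h]
  have : q ^ 2 - q = q * (q - 1) := by
    rw [Nat.mul_sub, mul_one, pow_two]
  rw [this]
  ring

section unip

variable {K : Type*} [Field K]

/-- The standard transvection `[[1, t], [0, 1]]` as an element of `SL₂`. -/
def tSL (t : K) : SpecialLinearGroup (Fin 2) K :=
  ⟨!![1, t; 0, 1], by simp [Matrix.det_fin_two]⟩

@[simp] theorem tSL_coe (t : K) :
    ((tSL t : SpecialLinearGroup (Fin 2) K) : Matrix (Fin 2) (Fin 2) K) = !![1, t; 0, 1] := rfl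

/-- The diagonal element `diag(s, s⁻¹)` of `SL₂`. -/
def dSL (s : K) (hs : s ≠ 0) : SpecialLinearGroup (Fin 2) K :=
  ⟨!![s, 0; 0, s⁻¹], by simp [Matrix.det_fin_two, hs]⟩

theorem dSL_mul_tSL (s : K) (hs : s ≠ 0) (t : K) :
    dSL s hs * tSL t = tSL (s ^ 2 * t) * dSL s hs := by
  apply Subtype.ext
  change (!![s, 0; 0, s⁻¹] * !![1, t; 0, 1] : Matrix (Fin 2) (Fin 2) K) =
    !![1, s ^ 2 * t; 0, 1] * !![s, 0; 0, s⁻¹]
  ext i j
  fin_cases i <;> fin_cases j <;>
    simp [Matrix.mul_apply, Fin.sum_univ_two]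
  field_simp

theorem isConj_tSL_sq_mul (s : K) (hs : s ≠ 0) (t : K) : IsConj (tSL t) (tSL (s ^ 2 * t)) := by
  rw [isConj_iff]
  refine ⟨dSL s hs, ?_⟩
  rw [dSL_mul_tSL, mul_assoc, mul_inv_cancel, mul_one]

/-- A non-identity element `M` of `SL₂(K)` with `(M - 1)^2 = 0` is conjugate in `SL₂(K)` to some
transvection `tSL t`, `t ≠ 0`. -/
theorem exists_conj_tSL (M : SpecialLinearGroup (Fin 2) K)
    (h : ((M : Matrix (Fin 2) (Fin 2) K) - 1) ^ 2 = 0) (hne : M ≠ 1) :
    ∃ (B : SpecialLinearGroup (Fin 2) K) (t : K), t ≠ 0 ∧ M * B = B * tSL t := by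
  obtain ⟨e1, e2, e3, e4⟩ := sq_zero_entries _ h
  set m : Matrix (Fin 2) (Fin 2) K := (M : Matrix (Fin 2) (Fin 2) K) with hm
  by_cases hc : m 1 0 = 0
  · have ha : m 0 0 = 1 := by
      rw [hc, mul_zero, add_zero] at e1
      exact sub_eq_zero.mp (pow_eq_zero_iff (two_ne_zero) |>.mp e1)
    have hd : m 1 1 = 1 := by
      rw [hc, zero_mul, zero_add] at e4
      exact sub_eq_zero.mp (pow_eq_zero_iff (two_ne_zero) |>.mp e4)
    have hb : m 0 1 ≠ 0 := by
      intro hb
      apply hne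
      apply Subtype.ext
      ext i j
      fin_cases i <;> fin_cases j <;> simp [← hm, ha, hb, hc, hd]
    refine ⟨1, m 0 1, hb, ?_⟩
    rw [mul_one, one_mul]
    apply Subtype.ext
    ext i j
    fin_cases i <;> fin_cases j <;> simp [← hm, ha, hc, hd]
  · have had : (m 0 0 - 1) + (m 1 1 - 1) = 0 := by
      rcases mul_eq_zero.mp e3 with h | h
      · exact absurd h hc
      · exact h
    refine ⟨⟨!![m 0 0 - 1, -(m 1 0)⁻¹; m 1 0, 0], by simp [Matrix.det_fin_two, hc]⟩,
      -(m 1 0)⁻¹, by simpa using hc, ?_⟩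
    apply Subtype.ext
    change m * !![m 0 0 - 1, -(m 1 0)⁻¹; m 1 0, 0] =
      !![m 0 0 - 1, -(m 1 0)⁻¹; m 1 0, 0] * !![1, -(m 1 0)⁻¹; 0, 1]
    ext i j
    fin_cases i <;> fin_cases j <;>
      simp [Matrix.mul_apply, Fin.sum_univ_two]
    · linear_combination e1
    · ring
    · linear_combination (m 1 0) * had

/-- Upper triangular element `[[x, y], [0, x]]` with `x^2 = 1`. -/
def uSL (x : {x : K // x ^ 2 = 1}) (y : K) : SpecialLinearGroup (Fin 2) K :=
  ⟨!![x.1, y; 0, x.1], by
    have := x.2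
    simp only [Matrix.det_fin_two_of, mul_zero, sub_zero]
    rw [← pow_two]; exact this⟩

theorem mem_centralizer_tSL_iff (t : K) (ht : t ≠ 0) (X : SpecialLinearGroup (Fin 2) K) :
    X ∈ Subgroup.centralizer ({tSL t} : Set (SpecialLinearGroup (Fin 2) K)) ↔
      (X : Matrix (Fin 2) (Fin 2) K) 1 0 = 0 ∧
      (X : Matrix (Fin 2) (Fin 2) K) 0 0 = (X : Matrix (Fin 2) (Fin 2) K) 1 1 := by
  rw [Subgroup.mem_centralizer_singleton_iff]
  set x : Matrix (Fin 2) (Fin 2) K := (X : Matrix (Fin 2) (Fin 2) K) with hx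
  constructor
  · intro h
    have h' : x * !![1, t; 0, 1] = !![1, t; 0, 1] * x := by
      have := congrArg (fun Y : SpecialLinearGroup (Fin 2) K => (Y : Matrix (Fin 2) (Fin 2) K)) h
      simpa [SpecialLinearGroup.coe_mul] using this
    have h00 := congrFun (congrFun h' 0) 0
    have h01 := congrFun (congrFun h' 0) 1
    simp [Matrix.mul_apply, Fin.sum_univ_two] at h00 h01
    have hz : x 1 0 = 0 := by
      rcases h00 with h | h
      · exact absurd h ht
      · exact h
    refine ⟨hz, ?_⟩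
    have : t * (x 0 0 - x 1 1) = 0 := by linear_combination h01
    rcases mul_eq_zero.mp this with h | h
    · exact absurd h ht
    · exact sub_eq_zero.mp h
  · rintro ⟨hz, hxw⟩
    apply Subtype.ext
    change x * !![1, t; 0, 1] = !![1, t; 0, 1] * x
    ext i j
    fin_cases i <;> fin_cases j <;>
      simp [Matrix.mul_apply, Fin.sum_univ_two, hz, hxw]
    ring

/-- The centralizer of a non-trivial transvection in `SL₂(K)`. -/
theorem card_centralizer_tSL [Finite K] (t : K) (ht : t ≠ 0) :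
    Nat.card (Subgroup.centralizer ({tSL t} : Set (SpecialLinearGroup (Fin 2) K))) =
      Nat.card {x : K // x ^ 2 = 1} * Nat.card K := by
  rw [← Nat.card_prod]
  symm
  refine Nat.card_congr (Equiv.ofBijective
    (fun p : {x : K // x ^ 2 = 1} × K =>
      (⟨uSL p.1 p.2, (mem_centralizer_tSL_iff t ht _).mpr ⟨by simp [uSL], by simp [uSL]⟩⟩ :
        Subgroup.centralizer ({tSL t} : Set (SpecialLinearGroup (Fin 2) K)))) ⟨?_, ?_⟩)
  · rintro ⟨x, y⟩ ⟨x', y'⟩ h
    have h' := congrArg (fun Y : Subgroup.centralizer ({tSL t} : Set (SpecialLinearGroup (Fin 2) K)) =>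
      ((Y : SpecialLinearGroup (Fin 2) K) : Matrix (Fin 2) (Fin 2) K)) h
    have h00 := congrFun (congrFun h' 0) 0
    have h01 := congrFun (congrFun h' 0) 1
    simp [uSL] at h00 h01
    exact Prod.ext (Subtype.ext h00) h01
  · rintro ⟨X, hX⟩
    obtain ⟨hz, hxw⟩ := (mem_centralizer_tSL_iff t ht X).mp hX
    have hdet := X.2
    rw [Matrix.det_fin_two, hz, mul_zero, sub_zero, ← hxw, ← pow_two] at hdet
    refine ⟨(⟨(X : Matrix (Fin 2) (Fin 2) K) 0 0, hdet⟩, (X : Matrix (Fin 2) (Fin 2) K) 0 1), ?_⟩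
    apply Subtype.ext
    apply Subtype.ext
    ext i j
    fin_cases i <;> fin_cases j <;> simp [uSL, hz, hxw]

end unip

end Cfsg.Agent.Lib.Helper13
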