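import Mathlib
import Cfsg.Agent.Lib.Helper13.GL2
import Cfsg.Agent.Lib.Helper13.SL2

/-!
Helper lemmas (helper13): Sylow `p`-subgroups of `GL₂(F)` in the defining characteristic:
the upper unitriangular group, its normaliser (the Borel subgroup), their number `q + 1`,
centralisers of transvections.
-/

set_option autoImplicit false

namespace Cfsg.Agent.Lib.Helper13

open Matrix

variable {F : Type*} [Field F]

theorem tGL_mul (a b : F) : tGL a * tGL b = tGL (a + b) := by
  apply Units.ext
  rw [Units.val_mul, tGL_coe, tGL_coe, tGL_coe]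
  ext i j
  fin_cases i <;> fin_cases j <;> simp [Matrix.mul_apply, Fin.sum_univ_two, add_comm]

theorem tGL_zero : tGL (0 : F) = 1 := by
  apply Units.ext
  rw [tGL_coe, Units.val_one]
  ext i j
  fin_cases i <;> fin_cases j <;> simp

theorem tGL_injective : Function.Injective (tGL : F → GL (Fin 2) F) := by
  intro a b h
  have := congrArg (fun Y : GL (Fin 2) F => (Y : Matrix (Fin 2) (Fin 2) F) 0 1) h
  simpa using this

/-- `t ↦ [[1, t], [0, 1]]` as a homomorphism from the additive group of `F` to `GL₂(F)`. -/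
noncomputable def tGLHom : Multiplicative F →* GL (Fin 2) F where
  toFun t := tGL (Multiplicative.toAdd t)
  map_one' := tGL_zero
  map_mul' _ _ := (tGL_mul _ _).symm

/-- The upper unitriangular subgroup of `GL₂(F)`. -/
noncomputable def unipGL (F : Type*) [Field F] : Subgroup (GL (Fin 2) F) := (tGLHom (F := F)).range

theorem mem_unipGL {g : GL (Fin 2) F} : g ∈ unipGL F ↔ ∃ t : F, tGL t = g := by
  constructor
  · rintro ⟨t, rfl⟩
    exact ⟨Multiplicative.toAdd t, rfl⟩
  · rintro ⟨t, rfl⟩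
    exact ⟨Multiplicative.ofAdd t, rfl⟩

theorem tGL_mem_unipGL (t : F) : tGL t ∈ unipGL F := mem_unipGL.mpr ⟨t, rfl⟩

theorem card_unipGL [Finite F] : Nat.card (unipGL F) = Nat.card F := by
  have hinj : Function.Injective (tGLHom (F := F)) := fun a b h =>
    Multiplicative.toAdd.injective (tGL_injective h)
  have h1 : Nat.card (Multiplicative F) = Nat.card (tGLHom (F := F)).range :=
    Nat.card_congr (Equiv.ofInjective _ hinj)
  change Nat.card (tGLHom (F := F)).range = _
  rw [← h1]
  exact Nat.card_congr Multiplicative.toAdd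

/-- The Borel subgroup of upper triangular matrices of `GL₂(F)`. -/
def borelGL (F : Type*) [Field F] : Subgroup (GL (Fin 2) F) where
  carrier := {g | (g : Matrix (Fin 2) (Fin 2) F) 1 0 = 0}
  mul_mem' := by
    intro a b ha hb
    change ((a * b : GL (Fin 2) F) : Matrix (Fin 2) (Fin 2) F) 1 0 = 0
    change (a : Matrix (Fin 2) (Fin 2) F) 1 0 = 0 at ha
    change (b : Matrix (Fin 2) (Fin 2) F) 1 0 = 0 at hb
    rw [Units.val_mul, Matrix.mul_apply, Fin.sum_univ_two, ha, hb]
    simp
  one_mem' := by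
    change ((1 : GL (Fin 2) F) : Matrix (Fin 2) (Fin 2) F) 1 0 = 0
    simp
  inv_mem' := by
    intro a ha
    change (a : Matrix (Fin 2) (Fin 2) F) 1 0 = 0 at ha
    change ((a⁻¹ : GL (Fin 2) F) : Matrix (Fin 2) (Fin 2) F) 1 0 = 0
    rw [Matrix.coe_units_inv, Matrix.inv_def, Matrix.adjugate_fin_two]
    simp [ha]

theorem mem_borelGL {g : GL (Fin 2) F} : g ∈ borelGL F ↔ (g : Matrix (Fin 2) (Fin 2) F) 1 0 = 0 :=
  Iff.rfl

theorem diag_ne_zero_of_mem_borelGL {g : GL (Fin 2) F} (hg : g ∈ borelGL F) :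
    (g : Matrix (Fin 2) (Fin 2) F) 0 0 ≠ 0 ∧ (g : Matrix (Fin 2) (Fin 2) F) 1 1 ≠ 0 := by
  have hdet : (g : Matrix (Fin 2) (Fin 2) F).det ≠ 0 :=
    ((Matrix.isUnit_iff_isUnit_det _).mp g.isUnit).ne_zero
  rw [Matrix.det_fin_two, mem_borelGL.mp hg, mul_zero, sub_zero] at hdet
  exact ⟨left_ne_zero_of_mul hdet, right_ne_zero_of_mul hdet⟩

/-- The Borel subgroup is in bijection with `Fˣ × Fˣ × F`. -/
noncomputable def borelEquiv (F : Type*) [Field F] : borelGL F ≃ Fˣ × Fˣ × F where
  toFun g := (Units.mk0 _ (diag_ne_zero_of_mem_borelGL g.2).1,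
    Units.mk0 _ (diag_ne_zero_of_mem_borelGL g.2).2, (g.1 : Matrix (Fin 2) (Fin 2) F) 0 1)
  invFun x := ⟨Matrix.GeneralLinearGroup.mkOfDetNeZero !![(x.1 : F), x.2.2; 0, (x.2.1 : F)]
    (by simp [Matrix.det_fin_two]), by
      rw [mem_borelGL]
      simp [Matrix.GeneralLinearGroup.mkOfDetNeZero]⟩
  left_inv g := by
    apply Subtype.ext
    apply Units.ext
    have h10 := mem_borelGL.mp g.2
    ext i j
    fin_cases i <;> fin_cases j <;> simp [Matrix.GeneralLinearGroup.mkOfDetNeZero, h10]
  right_inv x := by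
    obtain ⟨a, d, b⟩ := x
    simp [Matrix.GeneralLinearGroup.mkOfDetNeZero]

theorem card_borelGL [Fintype F] :
    Nat.card (borelGL F) = Fintype.card F * (Fintype.card F - 1) ^ 2 := by
  rw [Nat.card_congr (borelEquiv F), Nat.card_prod, Nat.card_prod, Nat.card_units,
    Nat.card_eq_fintype_card]
  ring

/-- If `X * tGL s = tGL t * X` with `t ≠ 0` then `X` is upper triangular. -/
theorem upper_of_conj_tGL {X : GL (Fin 2) F} {s t : F} (ht : t ≠ 0) (h : X * tGL s = tGL t * X) :
    X ∈ borelGL F := by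
  rw [mem_borelGL]
  have h' := congrArg (fun Y : GL (Fin 2) F => (Y : Matrix (Fin 2) (Fin 2) F) 0 0) h
  simp only [Units.val_mul, tGL_coe, Matrix.mul_apply, Fin.sum_univ_two] at h'
  simp at h'
  rcases h' with h' | h'
  · exact absurd h' ht
  · exact h'

theorem borel_conj_tGL {b : GL (Fin 2) F} (hb : b ∈ borelGL F) (t : F) :
    b * tGL t * b⁻¹ = tGL (t * (b : Matrix (Fin 2) (Fin 2) F) 0 0 / (b : Matrix (Fin 2) (Fin 2) F) 1 1) := by
  rw [mul_inv_eq_iff_eq_mul]
  have h10 := mem_borelGL.mp hb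
  have hd := (diag_ne_zero_of_mem_borelGL hb).2
  apply Units.ext
  rw [Units.val_mul, Units.val_mul, tGL_coe, tGL_coe]
  ext i j
  fin_cases i <;> fin_cases j <;> simp [Matrix.mul_apply, Fin.sum_univ_two, h10]
  field_simp
  ring

theorem normalizer_unipGL : Subgroup.normalizer ((unipGL F : Subgroup (GL (Fin 2) F)) : Set (GL (Fin 2) F)) = borelGL F := by
  ext g
  rw [Subgroup.mem_normalizer_iff]
  constructor
  · intro h
    have h1 := (h (tGL 1)).mp (tGL_mem_unipGL 1)
    obtain ⟨s, hs⟩ := mem_unipGL.mp h1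
    have hs0 : s ≠ 0 := by
      rintro rfl
      rw [tGL_zero] at hs
      have : tGL (1 : F) = 1 := by
        have h2 : g * tGL 1 = g := by
          have := congrArg (· * g) hs
          simpa [mul_assoc] using this.symm
        exact mul_left_cancel (a := g) (by rw [h2, mul_one])
      rw [← tGL_zero] at this
      exact one_ne_zero (tGL_injective this)
    apply upper_of_conj_tGL hs0 (s := 1)
    rw [hs]; group
  · intro hg h
    have hg' : g⁻¹ ∈ borelGL F := Subgroup.inv_mem _ hg
    constructor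
    · intro hh
      obtain ⟨t, rfl⟩ := mem_unipGL.mp hh
      rw [borel_conj_tGL hg]
      exact tGL_mem_unipGL _
    · intro hh
      obtain ⟨t, ht⟩ := mem_unipGL.mp hh
      have : h = g⁻¹ * tGL t * g⁻¹⁻¹ := by rw [ht]; group
      rw [this, borel_conj_tGL hg']
      exact tGL_mem_unipGL _

theorem card_GL2 [Fintype F] :
    Nat.card (GL (Fin 2) F) = Fintype.card F * (Fintype.card F - 1) ^ 2 * (Fintype.card F + 1) := by
  rw [Matrix.card_GL_field]
  simp only [Fin.prod_univ_two, Fin.val_zero, Fin.val_one, pow_zero, pow_one]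
  have hq : 2 ≤ Fintype.card F := Fintype.one_lt_card
  set q := Fintype.card F
  obtain ⟨r, hr⟩ : ∃ r, q = r + 1 := ⟨q - 1, by omega⟩
  rw [hr]
  have e1 : (r + 1) ^ 2 - 1 = r * (r + 2) := by
    have : (r + 1) ^ 2 = r * (r + 2) + 1 := by ring
    omega
  have e2 : (r + 1) ^ 2 - (r + 1) = r * (r + 1) := by
    have : (r + 1) ^ 2 = r * (r + 1) + (r + 1) := by ring
    omega
  rw [e1, e2, Nat.add_sub_cancel]
  ring

section sylow

variable [Fintype F] (p : ℕ) [Fact p.Prime] [CharP F p]

omit [Fact p.Prime] in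
theorem isPGroup_unipGL : IsPGroup p (unipGL F) := by
  obtain ⟨n, -, hq⟩ := FiniteField.card F p
  apply IsPGroup.of_card (n := n)
  rw [card_unipGL, Nat.card_eq_fintype_card, hq]

theorem not_dvd_index_unipGL : ¬ p ∣ (unipGL F).index := by
  have hp : p.Prime := Fact.out
  obtain ⟨n, -, hq⟩ := FiniteField.card F p
  have h1 := Subgroup.card_mul_index (unipGL F)
  rw [card_GL2, card_unipGL, Nat.card_eq_fintype_card] at h1
  have hqpos : 0 < Fintype.card F := Fintype.card_pos
  have h2 : (unipGL F).index = (Fintype.card F - 1) ^ 2 * (Fintype.card F + 1) := by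
    apply Nat.eq_of_mul_eq_mul_left hqpos
    rw [h1]; ring
  rw [h2]
  have hpq : p ∣ Fintype.card F := by
    rw [hq]; exact dvd_pow_self p n.ne_zero
  have hq1 : 1 ≤ Fintype.card F := hqpos
  intro hdvd
  rcases (Nat.Prime.dvd_mul hp).mp hdvd with h | h
  · have h' := hp.dvd_of_dvd_pow h
    have : p ∣ 1 := by
      have := Nat.dvd_sub hpq h'
      rwa [Nat.sub_sub_self hq1] at this
    exact hp.one_lt.ne' (Nat.dvd_one.mp this)
  · have : p ∣ 1 := by
      have := Nat.dvd_sub h hpq
      rwa [Nat.add_sub_cancel_left] at this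
    exact hp.one_lt.ne' (Nat.dvd_one.mp this)

/-- The upper unitriangular group as a Sylow `p`-subgroup of `GL₂(F)`. -/
noncomputable def sylowUnipGL : Sylow p (GL (Fin 2) F) :=
  (isPGroup_unipGL p).toSylow (not_dvd_index_unipGL p)

theorem coe_sylowUnipGL : ((sylowUnipGL (F := F) p : Sylow p (GL (Fin 2) F)) : Subgroup (GL (Fin 2) F)) = unipGL F := rfl

/-- `GL₂(q)` has `q + 1` Sylow `p`-subgroups. -/
theorem card_sylow_GL2 : Nat.card (Sylow p (GL (Fin 2) F)) = Fintype.card F + 1 := by
  have h0 := Sylow.card_eq_index_normalizer (sylowUnipGL (F := F) p)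
  change _ = (Subgroup.normalizer ((unipGL F : Subgroup (GL (Fin 2) F)) : Set (GL (Fin 2) F))).index at h0
  rw [h0, normalizer_unipGL]
  have h1 := Subgroup.card_mul_index (borelGL F)
  rw [card_GL2, card_borelGL] at h1
  have hq : 2 ≤ Fintype.card F := Fintype.one_lt_card
  have hpos : 0 < Fintype.card F * (Fintype.card F - 1) ^ 2 := by
    apply Nat.mul_pos (by omega)
    apply pow_pos; omega
  exact Nat.eq_of_mul_eq_mul_left hpos h1

/-- The normaliser of a Sylow `p`-subgroup of `GL₂(q)` has order `q (q - 1)²`. -/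
theorem card_normalizer_sylow_GL2 (P : Sylow p (GL (Fin 2) F)) :
    Nat.card (Subgroup.normalizer ((P : Subgroup (GL (Fin 2) F)) : Set (GL (Fin 2) F))) =
      Fintype.card F * (Fintype.card F - 1) ^ 2 := by
  have h0 := Sylow.card_eq_index_normalizer P
  rw [card_sylow_GL2] at h0
  change _ = (Subgroup.normalizer ((P : Subgroup (GL (Fin 2) F)) : Set (GL (Fin 2) F))).index at h0
  have h1 := Subgroup.card_mul_index (Subgroup.normalizer ((P : Subgroup (GL (Fin 2) F)) : Set (GL (Fin 2) F)))
  rw [← h0, card_GL2] at h1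
  exact Nat.eq_of_mul_eq_mul_right (by omega) h1

end sylow

end Cfsg.Agent.Lib.Helper13
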