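import Mathlib

/-!
Helper lemmas (helper13): `2 × 2` matrices `M` over a field of characteristic `p` with `M ^ p = 1`.
-/

set_option autoImplicit false

namespace Cfsg.Agent.Lib.Helper13

open Matrix

section

variable {F : Type*} [Field F] (p : ℕ) [Fact p.Prime] [CharP F p]

theorem eq_one_of_pow_char_eq_one (c : F) (h : c ^ p = 1) : c = 1 := by
  have h1 : (c - 1) ^ p = 0 := by rw [sub_pow_char, h, one_pow, sub_self]
  exact sub_eq_zero.mp (pow_eq_zero_iff (Fact.out : p.Prime).ne_zero |>.mp h1)

theorem det_eq_one_of_pow_char {n : Type*} [Fintype n] [DecidableEq n] (M : Matrix n n F)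
    (h : M ^ p = 1) : M.det = 1 := by
  apply eq_one_of_pow_char_eq_one p
  rw [← Matrix.det_pow, h, Matrix.det_one]

theorem exists_fixed_vector_of_pow_char {n : Type*} [Fintype n] [DecidableEq n] [Nonempty n]
    (M : Matrix n n F) (h : M ^ p = 1) : ∃ v : n → F, v ≠ 0 ∧ M.mulVec v = v := by
  have h1 : (M - 1) ^ p = 0 := by
    rw [sub_pow_char_of_commute p (Commute.one_right M), h, one_pow, sub_self]
  have h2 : (M - 1).det = 0 := by
    have := congrArg Matrix.det h1
    rw [Matrix.det_pow, Matrix.det_zero] at this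
    exact pow_eq_zero_iff (Fact.out : p.Prime).ne_zero |>.mp this
  obtain ⟨v, hv, hv0⟩ := Matrix.exists_mulVec_eq_zero_iff.mpr h2
  refine ⟨v, hv, ?_⟩
  rw [Matrix.sub_mulVec, Matrix.one_mulVec] at hv0
  exact sub_eq_zero.mp hv0

theorem eigen_eq_one_of_pow_char {n : Type*} [Fintype n] [DecidableEq n]
    (M : Matrix n n F) (h : M ^ p = 1) (w : n → F) (hw : w ≠ 0) (c : F)
    (hc : M.mulVec w = c • w) : c = 1 := by
  apply eq_one_of_pow_char_eq_one p
  have h1 : ∀ k : ℕ, (M ^ k).mulVec w = c ^ k • w := by
    intro k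
    induction k with
    | zero => simp
    | succ k ih =>
      rw [pow_succ, ← Matrix.mulVec_mulVec, hc, Matrix.mulVec_smul, ih, smul_smul, pow_succ,
        mul_comm]
  have h2 := h1 p
  rw [h, Matrix.one_mulVec] at h2
  by_contra hne
  apply hw
  have h3 : (c ^ p - 1) • w = 0 := by rw [sub_smul, one_smul, ← h2, sub_self]
  rcases smul_eq_zero.mp h3 with h4 | h4
  · exact absurd (sub_eq_zero.mp h4) hne
  · exact h4

end

section fixed

variable {F : Type*} [Field F]

/-- The fixed space of a non-identity `2 × 2` matrix is at most a line. -/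
theorem fixed_mem_span (M : Matrix (Fin 2) (Fin 2) F) (hM : M ≠ 1) (v w : Fin 2 → F) (hv : v ≠ 0)
    (hMv : M.mulVec v = v) (hMw : M.mulVec w = w) : w ∈ Submodule.span F {v} := by
  have e00 := congrFun hMv 0
  have e01 := congrFun hMv 1
  have e10 := congrFun hMw 0
  have e11 := congrFun hMw 1
  simp only [Matrix.mulVec, dotProduct, Fin.sum_univ_two] at e00 e01 e10 e11
  by_cases hD : v 0 * w 1 - v 1 * w 0 = 0
  · rw [Submodule.mem_span_singleton]
    by_cases hv0 : v 0 = 0
    · have hv1 : v 1 ≠ 0 := by
        intro h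
        apply hv
        funext i
        fin_cases i
        · exact hv0
        · exact h
      refine ⟨w 1 / v 1, ?_⟩
      funext i
      fin_cases i
      · simp only [Pi.smul_apply, smul_eq_mul, Fin.zero_eta]
        rw [hv0, mul_zero]
        rw [hv0, zero_mul, zero_sub, neg_eq_zero] at hD
        exact ((mul_eq_zero.mp hD).resolve_left hv1).symm
      · simp only [Pi.smul_apply, smul_eq_mul, Fin.mk_one]
        field_simp
    · refine ⟨w 0 / v 0, ?_⟩
      funext i
      fin_cases i
      · simp only [Pi.smul_apply, smul_eq_mul, Fin.zero_eta]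
        field_simp
      · simp only [Pi.smul_apply, smul_eq_mul, Fin.mk_one]
        field_simp
        linear_combination -hD
  · exfalso
    apply hM
    ext i j
    fin_cases i <;> fin_cases j
    · simp only [Fin.zero_eta, Matrix.one_apply_eq]
      have : (M 0 0 - 1) * (v 0 * w 1 - v 1 * w 0) = 0 := by
        linear_combination w 1 * e00 - v 1 * e10
      exact sub_eq_zero.mp ((mul_eq_zero.mp this).resolve_right hD)
    · simp only [Fin.zero_eta, Fin.mk_one, ne_eq, zero_ne_one, not_false_eq_true,
        Matrix.one_apply_ne]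
      have : M 0 1 * (v 0 * w 1 - v 1 * w 0) = 0 := by
        linear_combination -w 0 * e00 + v 0 * e10
      exact (mul_eq_zero.mp this).resolve_right hD
    · simp only [Fin.zero_eta, Fin.mk_one, ne_eq, one_ne_zero, not_false_eq_true,
        Matrix.one_apply_ne]
      have : M 1 0 * (v 0 * w 1 - v 1 * w 0) = 0 := by
        linear_combination w 1 * e01 - v 1 * e11
      exact (mul_eq_zero.mp this).resolve_right hD
    · simp only [Fin.mk_one, Matrix.one_apply_eq]
      have : (M 1 1 - 1) * (v 0 * w 1 - v 1 * w 0) = 0 := by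
        linear_combination -w 0 * e01 + v 0 * e11
      exact sub_eq_zero.mp ((mul_eq_zero.mp this).resolve_right hD)

end fixed

end Cfsg.Agent.Lib.Helper13
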