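import Mathlib
import Cfsg.Agent.Lib.Helper13.SL2

/-!
Helper lemmas (helper13): order of `PSL₂(F)` for `|F|` odd; Cayley–Hamilton identities in `SL₂`;
if `2` is not a square then `PSL₂(F)` has no element of order `4`.
-/

set_option autoImplicit false

namespace Cfsg.Agent.Lib.Helper13

open Matrix

variable {F : Type*} [Field F]

theorem cayley_hamilton_two (m : Matrix (Fin 2) (Fin 2) F) (hdet : m.det = 1) :
    m * m = (m 0 0 + m 1 1) • m - 1 := by
  rw [Matrix.det_fin_two] at hdet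
  ext i j
  fin_cases i <;> fin_cases j <;> simp [Matrix.mul_apply, Fin.sum_univ_two]
  · linear_combination -hdet
  · ring
  · ring
  · linear_combination -hdet

theorem pow_four_two (m : Matrix (Fin 2) (Fin 2) F) (hdet : m.det = 1) :
    m ^ 4 = ((m 0 0 + m 1 1) ^ 3 - 2 * (m 0 0 + m 1 1)) • m -
      ((m 0 0 + m 1 1) ^ 2 - 1) • (1 : Matrix (Fin 2) (Fin 2) F) := by
  have h1 := cayley_hamilton_two m hdet
  set t := m 0 0 + m 1 1
  have e : m ^ 4 = (m * m) * (m * m) := by noncomm_ring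
  rw [e, h1, sub_mul, mul_sub, mul_sub, Matrix.smul_mul, Matrix.mul_smul, Matrix.smul_mul, h1]
  simp only [Matrix.mul_one, Matrix.one_mul]
  module

/-- If `2` is not a square in `F` and the fourth power of `m ∈ SL₂(F)` is a scalar matrix, then so is its
square. -/
theorem sq_scalar_of_pow_four_scalar (h2sq : ¬ IsSquare (2 : F)) (m : Matrix (Fin 2) (Fin 2) F)
    (hdet : m.det = 1) (r : F) (h4 : m ^ 4 = r • (1 : Matrix (Fin 2) (Fin 2) F)) :
    ∃ s : F, m * m = s • (1 : Matrix (Fin 2) (Fin 2) F) := by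
  have h1 := cayley_hamilton_two m hdet
  have hp := pow_four_two m hdet
  set t := m 0 0 + m 1 1 with ht
  rw [h4] at hp
  by_cases ht0 : t = 0
  · refine ⟨-1, ?_⟩
    rw [h1, ht0]
    simp
  · have ht2 : t ^ 2 - 2 ≠ 0 := by
      intro h
      apply h2sq
      exact ⟨t, by linear_combination -h⟩
    have hc : t ^ 3 - 2 * t ≠ 0 := by
      have : t ^ 3 - 2 * t = t * (t ^ 2 - 2) := by ring
      rw [this]
      exact mul_ne_zero ht0 ht2
    -- (t^3 - 2t) • m = (r + t^2 - 1) • 1, so m is scalar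
    have hm : m = ((r + t ^ 2 - 1) / (t ^ 3 - 2 * t)) • (1 : Matrix (Fin 2) (Fin 2) F) := by
      have h5 : (t ^ 3 - 2 * t) • m = (r + t ^ 2 - 1) • (1 : Matrix (Fin 2) (Fin 2) F) := by
        have : (t ^ 3 - 2 * t) • m = r • (1 : Matrix (Fin 2) (Fin 2) F) + (t ^ 2 - 1) • 1 := by
          rw [hp]; abel
        rw [this, ← add_smul]
        congr 1
        ring
      have h6 : m = (t ^ 3 - 2 * t)⁻¹ • ((t ^ 3 - 2 * t) • m) := by
        rw [smul_smul, inv_mul_cancel₀ hc, one_smul]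
      rw [h6, h5, smul_smul]
      congr 1
      field_simp
    refine ⟨((r + t ^ 2 - 1) / (t ^ 3 - 2 * t)) ^ 2, ?_⟩
    nth_rewrite 1 [hm]
    nth_rewrite 1 [hm]
    rw [Matrix.smul_mul, Matrix.mul_smul, Matrix.one_mul, smul_smul, ← pow_two]

section finite

variable [Fintype F]

omit [Fintype F] in
theorem card_center_SL2 (h2 : (2 : F) ≠ 0) :
    Nat.card (Subgroup.center (SpecialLinearGroup (Fin 2) F)) = 2 := by
  have hchar : ringChar F ≠ 2 := by
    intro h
    have : CharP F 2 := ringChar.eq_iff.mp h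
    exact h2 (CharTwo.two_eq_zero)
  have hprim : IsPrimitiveRoot (-1 : F) 2 := by
    have := IsPrimitiveRoot.neg_one (R := F) (ringChar F) hchar
    exact this
  rw [Nat.card_congr (Matrix.SpecialLinearGroup.center_equiv_rootsOfUnity' (R := F) (0 : Fin 2)).toEquiv,
    Fintype.card_fin]
  exact hprim.card_rootsOfUnity

/-- `|PSL₂(F)| * 2 = q (q² - 1)` for `q` odd. -/
theorem card_PSL2_mul_two (h2 : (2 : F) ≠ 0) :
    Nat.card (ProjectiveSpecialLinearGroup (Fin 2) F) * 2 = Fintype.card F * (Fintype.card F ^ 2 - 1) := by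
  have h := Subgroup.card_eq_card_quotient_mul_card_subgroup (Subgroup.center (SpecialLinearGroup (Fin 2) F))
  rw [card_center_SL2 h2, card_SL2] at h
  rw [h]

end finite

/-- A scalar matrix of determinant one is central in `SL₂`. -/
theorem mem_center_of_scalar (g : SpecialLinearGroup (Fin 2) F) (s : F)
    (h : (g : Matrix (Fin 2) (Fin 2) F) = s • (1 : Matrix (Fin 2) (Fin 2) F)) :
    g ∈ Subgroup.center (SpecialLinearGroup (Fin 2) F) := by
  rw [Matrix.SpecialLinearGroup.mem_center_iff]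
  refine ⟨s, ?_, ?_⟩
  · have := g.2
    rw [h, Matrix.det_smul, Matrix.det_one, mul_one] at this
    exact this
  · rw [h]
    ext i j
    simp [Matrix.scalar, Matrix.one_apply, Matrix.diagonal_apply]

theorem scalar_of_mem_center (g : SpecialLinearGroup (Fin 2) F)
    (h : g ∈ Subgroup.center (SpecialLinearGroup (Fin 2) F)) :
    ∃ r : F, (g : Matrix (Fin 2) (Fin 2) F) = r • (1 : Matrix (Fin 2) (Fin 2) F) := by
  obtain ⟨r, -, hr⟩ := Matrix.SpecialLinearGroup.mem_center_iff.mp h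
  refine ⟨r, ?_⟩
  rw [← hr]
  ext i j
  simp [Matrix.scalar, Matrix.one_apply, Matrix.diagonal_apply]

/-- If `2` is not a square in `F`, an element of `PSL₂(F)` whose fourth power is trivial has trivial square. -/
theorem PSL2_sq_eq_one_of_pow_four (h2sq : ¬ IsSquare (2 : F))
    (x : ProjectiveSpecialLinearGroup (Fin 2) F) (hx : x ^ 4 = 1) : x ^ 2 = 1 := by
  obtain ⟨g, rfl⟩ := QuotientGroup.mk_surjective x
  rw [← QuotientGroup.mk_pow, QuotientGroup.eq_one_iff] at hx ⊢
  obtain ⟨r, hr⟩ := scalar_of_mem_center _ hx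
  have hr' : (g : Matrix (Fin 2) (Fin 2) F) ^ 4 = r • (1 : Matrix (Fin 2) (Fin 2) F) := hr
  obtain ⟨s, hs⟩ := sq_scalar_of_pow_four_scalar h2sq _ g.2 r hr'
  apply mem_center_of_scalar _ s
  change (g : Matrix (Fin 2) (Fin 2) F) ^ 2 = _
  rw [pow_two, hs]

end Cfsg.Agent.Lib.Helper13
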