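import Mathlib
import Cfsg.Agent.Lib.Helper13.PSL2

/-!
Helper lemmas (helper13): a finite `r`-subgroup of `SL₂(K)`, `K` algebraically closed of characteristic `p`,
`r` an odd prime different from `p`, is cyclic (it acts faithfully by scalars on an eigenline of a central
element).  Consequently Sylow `r`-subgroups of `SL₂(F)`, `F` a field of characteristic `p`, are cyclic.
-/

set_option autoImplicit false

namespace Cfsg.Agent.Lib.Helper13

open Matrix Module

variable {K : Type*} [Field K]

/-- An element of `SL₂(K)` fixing a non-zero vector is unipotent: `(M - 1)² = 0`. -/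
theorem sub_one_sq_eq_zero_of_fixed (M : Matrix (Fin 2) (Fin 2) K) (hdet : M.det = 1)
    (v : Fin 2 → K) (hv : v ≠ 0) (hMv : M *ᵥ v = v) : (M - 1) * (M - 1) = 0 := by
  have hch := cayley_hamilton_two M hdet
  set t := M 0 0 + M 1 1 with ht
  have h1 : (M * M) *ᵥ v = v := by rw [← Matrix.mulVec_mulVec, hMv, hMv]
  rw [hch, Matrix.sub_mulVec, Matrix.smul_mulVec, hMv, Matrix.one_mulVec] at h1
  have h2 : (t - 2) • v = 0 := by
    rw [sub_smul, two_smul]
    have : t • v = v + v := by
      have := congrArg (· + v) h1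
      simpa using this
    rw [this, sub_self]
  have ht2 : t = 2 := by
    rcases smul_eq_zero.mp h2 with h | h
    · exact sub_eq_zero.mp h
    · exact absurd h hv
  have : (M - 1) * (M - 1) = M * M - 2 • M + 1 := by
    rw [sub_mul, mul_sub, mul_sub, Matrix.mul_one, Matrix.one_mul, Matrix.one_mul, two_smul]
    abel
  rw [this, hch, ht2]
  module

/-- An element of `SL₂(K)`, `K` of characteristic `p`, fixing a non-zero vector has `p`-th power one. -/
theorem pow_char_eq_one_of_fixed (p : ℕ) [Fact p.Prime] [CharP K p]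
    (g : SpecialLinearGroup (Fin 2) K) (v : Fin 2 → K) (hv : v ≠ 0)
    (hgv : (g : Matrix (Fin 2) (Fin 2) K) *ᵥ v = v) : g ^ p = 1 := by
  have hp : p.Prime := Fact.out
  have hc : CharP (Matrix (Fin 2) (Fin 2) K) p := Matrix.charP p
  set M : Matrix (Fin 2) (Fin 2) K := (g : Matrix (Fin 2) (Fin 2) K) with hM
  have hN2 := sub_one_sq_eq_zero_of_fixed M g.2 v hv hgv
  set N := M - 1 with hN
  have hNp : N ^ p = 0 := by
    rw [← Nat.sub_add_cancel hp.two_le, pow_add, pow_two, hN2, mul_zero]
  have key : M ^ p = 1 := by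
    have hMN : M = N + 1 := by rw [hN]; abel
    rw [hMN, add_pow_char_of_commute (p := p) (Commute.one_right N), hNp, one_pow, zero_add]
  apply Subtype.ext
  change M ^ p = 1
  exact key

/-- A finite `r`-group acting faithfully on `K²` with determinant one, `K` algebraically closed of
characteristic `p ≠ r`, `r` odd, is cyclic. -/
theorem isCyclic_of_isPGroup_of_injective_SL2 [IsAlgClosed K] (p : ℕ) [Fact p.Prime] [CharP K p]
    (r : ℕ) [Fact r.Prime] (hr2 : r ≠ 2) (hrp : r ≠ p) {G : Type*} [Group G] [Finite G]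
    (hG : IsPGroup r G) (ρ : G →* SpecialLinearGroup (Fin 2) K) (hρ : Function.Injective ρ) :
    IsCyclic G := by
  have hp : p.Prime := Fact.out
  have hrpr : r.Prime := Fact.out
  rcases subsingleton_or_nontrivial G with hsub | hnt
  · infer_instance
  -- a non-trivial central element
  have hcnt : Nontrivial (Subgroup.center G) := hG.center_nontrivial
  obtain ⟨⟨z, hzc⟩, hz1⟩ := exists_ne (1 : Subgroup.center G)
  have hz1' : z ≠ 1 := fun h => hz1 (Subtype.ext h)
  have hzsq : z * z ≠ 1 := by
    intro h
    obtain ⟨k, hk⟩ := hG z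
    have h2 : orderOf z ∣ 2 := orderOf_dvd_of_pow_eq_one (by rw [pow_two]; exact h)
    have h3 : orderOf z ∣ r ^ k := orderOf_dvd_of_pow_eq_one hk
    have hcop : Nat.Coprime 2 (r ^ k) := by
      apply Nat.Coprime.pow_right
      exact (Nat.coprime_primes Nat.prime_two hrpr).mpr (Ne.symm hr2)
    have : orderOf z = 1 := Nat.eq_one_of_dvd_coprimes hcop h2 h3
    exact hz1' (orderOf_eq_one_iff.mp this)
  -- the matrices and linear maps
  let Mx : G → Matrix (Fin 2) (Fin 2) K := fun g => ((ρ g : SpecialLinearGroup (Fin 2) K) : Matrix (Fin 2) (Fin 2) K)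
  have hMmul : ∀ g h, Mx (g * h) = Mx g * Mx h := by
    intro g h
    change ((ρ (g * h) : SpecialLinearGroup (Fin 2) K) : Matrix (Fin 2) (Fin 2) K) = _
    rw [map_mul]
    rfl
  have hMone : Mx 1 = 1 := by
    change ((ρ 1 : SpecialLinearGroup (Fin 2) K) : Matrix (Fin 2) (Fin 2) K) = _
    rw [map_one]
    rfl
  have hMinj : Function.Injective Mx := fun g h hgh => hρ (Subtype.ext hgh)
  -- an eigenvector of `z`
  obtain ⟨lam, hlam⟩ := Module.End.exists_eigenvalue (Matrix.toLin' (Mx z))
  obtain ⟨v, hv⟩ := hlam.exists_hasEigenvector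
  have hv0 : v ≠ 0 := hv.2
  have hzv : Mx z *ᵥ v = lam • v := by
    have := hv.apply_eq_smul
    rwa [Matrix.toLin'_apply] at this
  set E := Module.End.eigenspace (Matrix.toLin' (Mx z)) lam with hE
  have hvE : v ∈ E := hv.1
  -- the eigenspace is a line
  have hfin : finrank K E = 1 := by
    have hpos : 0 < finrank K E := by
      rw [Module.finrank_pos_iff_exists_ne_zero]
      exact ⟨⟨v, hvE⟩, fun h => hv0 (congrArg Subtype.val h)⟩
    have hle : finrank K E ≤ 2 := by
      have := Submodule.finrank_le E
      rwa [Module.finrank_fin_fun] at this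
    have hne2 : finrank K E ≠ 2 := by
      intro h2
      have htop : E = ⊤ := by
        apply Submodule.eq_top_of_finrank_eq
        rw [h2, Module.finrank_fin_fun]
      -- then `z` acts as the scalar `lam`, so `z² = 1`
      have hall : ∀ w : Fin 2 → K, Mx z *ᵥ w = lam • w := by
        intro w
        have hw : w ∈ E := by rw [htop]; exact Submodule.mem_top
        have := Module.End.mem_eigenspace_iff.mp hw
        rwa [Matrix.toLin'_apply] at this
      have hscal : Mx z = lam • (1 : Matrix (Fin 2) (Fin 2) K) := by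
        apply Matrix.toLin'.injective
        apply LinearMap.ext
        intro w
        rw [Matrix.toLin'_apply, hall, Matrix.toLin'_apply, Matrix.smul_mulVec, Matrix.one_mulVec]
      have hdet : lam * lam = 1 := by
        have := (ρ z).2
        change (Mx z).det = 1 at this
        rw [hscal, Matrix.det_smul, Matrix.det_one, mul_one, Fintype.card_fin, pow_two] at this
        exact this
      apply hzsq
      apply hMinj
      rw [hMmul, hMone, hscal, Matrix.smul_mul, Matrix.mul_smul, Matrix.one_mul, smul_smul, hdet, one_smul]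
    omega
  have hline : ∀ w ∈ E, ∃ c : K, c • v = w := by
    intro w hw
    have := (finrank_eq_one_iff_of_nonzero' (⟨v, hvE⟩ : E)
      (fun h => hv0 (congrArg Subtype.val h))).mp hfin ⟨w, hw⟩
    obtain ⟨c, hc⟩ := this
    exact ⟨c, congrArg Subtype.val hc⟩
  -- every element of `G` preserves the line
  have hpres : ∀ g : G, Mx g *ᵥ v ∈ E := by
    intro g
    rw [hE, Module.End.mem_eigenspace_iff, Matrix.toLin'_apply, Matrix.mulVec_mulVec, ← hMmul]
    have : z * g = g * z := (Subgroup.mem_center_iff.mp hzc g).symm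
    rw [this, hMmul, ← Matrix.mulVec_mulVec, hzv, Matrix.mulVec_smul]
  choose χ hχ using fun g => hline _ (hpres g)
  -- χ g • v = Mx g *ᵥ v
  have hsmul_inj : ∀ a b : K, a • v = b • v → a = b := by
    intro a b hab
    have : (a - b) • v = 0 := by rw [sub_smul, hab, sub_self]
    rcases smul_eq_zero.mp this with h | h
    · exact sub_eq_zero.mp h
    · exact absurd h hv0
  have hχmul : ∀ g h, χ (g * h) = χ g * χ h := by
    intro g h
    apply hsmul_inj
    rw [hχ, hMmul, ← Matrix.mulVec_mulVec, ← hχ h, Matrix.mulVec_smul, ← hχ g, smul_smul, mul_comm]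
  have hχone : χ 1 = 1 := by
    apply hsmul_inj
    rw [hχ, hMone, Matrix.one_mulVec, one_smul]
  let χh : G →* K := { toFun := χ, map_one' := hχone, map_mul' := hχmul }
  have hker : ∀ k : G, χ k = 1 → k = 1 := by
    intro k hk
    have hkv : Mx k *ᵥ v = v := by rw [← hχ k, hk, one_smul]
    have h1 : (ρ k) ^ p = 1 := pow_char_eq_one_of_fixed p (ρ k) v hv0 hkv
    have h2 : k ^ p = 1 := hρ (by rw [map_pow, h1, map_one])
    obtain ⟨j, hj⟩ := hG k
    have h3 : orderOf k ∣ p := orderOf_dvd_of_pow_eq_one h2
    have h4 : orderOf k ∣ r ^ j := orderOf_dvd_of_pow_eq_one hj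
    have hcop : Nat.Coprime p (r ^ j) := by
      apply Nat.Coprime.pow_right
      exact (Nat.coprime_primes hp hrpr).mpr (Ne.symm hrp)
    exact orderOf_eq_one_iff.mp (Nat.eq_one_of_dvd_coprimes hcop h3 h4)
  have hχinj : Function.Injective χh := by
    intro g h hgh
    change χ g = χ h at hgh
    have h1 : χ (g⁻¹ * h) = 1 := by
      have hg0 : χ g ≠ 0 := by
        intro h0
        have : χ (g * g⁻¹) = 0 := by rw [hχmul, h0, zero_mul]
        rw [mul_inv_cancel, hχone] at this
        exact one_ne_zero this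
      have : χ g * χ (g⁻¹ * h) = χ g * 1 := by
        rw [← hχmul, mul_inv_cancel_left, mul_one, hgh]
      exact mul_left_cancel₀ hg0 this
    have := hker _ h1
    exact (inv_mul_eq_one.mp this)
  exact isCyclic_of_injective_ringHom χh hχinj

/-- Sylow `r`-subgroups of `SL₂(F)`, `r` an odd prime different from the characteristic, are cyclic. -/
theorem isCyclic_sylow_SL2 {F : Type*} [Field F] [Finite F] (p : ℕ) [Fact p.Prime] [CharP F p]
    (r : ℕ) [Fact r.Prime] (hr2 : r ≠ 2) (hrp : r ≠ p)
    (R : Sylow r (SpecialLinearGroup (Fin 2) F)) :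
    IsCyclic (R : Subgroup (SpecialLinearGroup (Fin 2) F)) := by
  let K := AlgebraicClosure F
  let ρ : (R : Subgroup (SpecialLinearGroup (Fin 2) F)) →* SpecialLinearGroup (Fin 2) K :=
    (SpecialLinearGroup.map (algebraMap F K)).comp (R : Subgroup (SpecialLinearGroup (Fin 2) F)).subtype
  have hρ : Function.Injective ρ := by
    intro a b hab
    apply Subtype.ext
    apply Subtype.ext
    have h1 := congrArg (fun x : SpecialLinearGroup (Fin 2) K => (x : Matrix (Fin 2) (Fin 2) K)) hab
    have h2 : ((a : SpecialLinearGroup (Fin 2) F) : Matrix (Fin 2) (Fin 2) F).map (algebraMap F K) =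
        ((b : SpecialLinearGroup (Fin 2) F) : Matrix (Fin 2) (Fin 2) F).map (algebraMap F K) := h1
    exact Matrix.map_injective (algebraMap F K).injective h2
  exact isCyclic_of_isPGroup_of_injective_SL2 (K := K) p r hr2 hrp R.2 ρ hρ

end Cfsg.Agent.Lib.Helper13
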