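/-
helper13: counting irreducible characters of a given degree: transport along isomorphisms,
and products with a finite abelian group.
-/
import Mathlib
import Cfsg.Agent.Lib.Lead.CharProd
import Cfsg.Agent.Lib.Lead.CharMore

set_option autoImplicit false

namespace Cfsg.Agent.Lib.Helper13

open Cfsg Cfsg.Agent.CharLib

universe u v

section congr

variable {A : Type u} {B : Type v} [Group A] [Group B]

/-- Transport of irreducible characters along an isomorphism. -/
noncomputable def irrCongr (e : A ≃* B) : IrrCharacter B ≃ IrrCharacter A where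
  toFun χ := ⟨(χ : B → ℂ) ∘ e, IsIrrCharacter.comp_mulEquiv χ.2 e⟩
  invFun χ := ⟨(χ : A → ℂ) ∘ e.symm, IsIrrCharacter.comp_mulEquiv χ.2 e.symm⟩
  left_inv χ := by
    apply Subtype.ext
    funext x
    simp
  right_inv χ := by
    apply Subtype.ext
    funext x
    simp

theorem irrCongr_apply_one (e : A ≃* B) (χ : IrrCharacter B) :
    ((irrCongr e χ : IrrCharacter A) : A → ℂ) 1 = (χ : B → ℂ) 1 := by
  change (χ : B → ℂ) (e 1) = _
  rw [map_one]

/-- Isomorphic groups have the same number of irreducible characters of each degree. -/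
theorem card_irr_degree_congr (e : A ≃* B) (d : ℂ) :
    Nat.card {χ : IrrCharacter B // (χ : B → ℂ) 1 = d} =
      Nat.card {χ : IrrCharacter A // (χ : A → ℂ) 1 = d} := by
  apply Nat.card_congr
  apply Equiv.subtypeEquiv (irrCongr e)
  intro χ
  rw [irrCongr_apply_one]

end congr

section prod

variable {A : Type u} {Z : Type v} [Group A] [CommGroup Z] [Finite A] [Finite Z]

theorem irr_comm_apply_one (ψ : IrrCharacter Z) : (ψ : Z → ℂ) 1 = 1 :=
  (comm_iff_forall_irr_apply_one (G := Z)).mp (fun a b => mul_comm a b) ψ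

/-- The external product with an irreducible character of a finite abelian group. -/
noncomputable def irrProd (p : IrrCharacter A × IrrCharacter Z) : IrrCharacter (A × Z) :=
  ⟨fun x => (p.1 : A → ℂ) x.1 * (p.2 : Z → ℂ) x.2, IsIrrCharacter.prod p.1.2 p.2.2⟩

theorem irrProd_apply (p : IrrCharacter A × IrrCharacter Z) (x : A × Z) :
    (irrProd p : A × Z → ℂ) x = (p.1 : A → ℂ) x.1 * (p.2 : Z → ℂ) x.2 := rfl

theorem irrProd_apply_one (p : IrrCharacter A × IrrCharacter Z) :
    (irrProd p : A × Z → ℂ) 1 = (p.1 : A → ℂ) 1 := by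
  rw [irrProd_apply]
  change (p.1 : A → ℂ) 1 * (p.2 : Z → ℂ) 1 = _
  rw [irr_comm_apply_one, mul_one]

theorem irrProd_bijective :
    Function.Bijective (irrProd : IrrCharacter A × IrrCharacter Z → IrrCharacter (A × Z)) := by
  constructor
  · rintro ⟨φ, ψ⟩ ⟨φ', ψ'⟩ h
    have h1 : ∀ x : A × Z, (φ : A → ℂ) x.1 * (ψ : Z → ℂ) x.2 = (φ' : A → ℂ) x.1 * (ψ' : Z → ℂ) x.2 := by
      intro x
      have := congrArg (fun χ : IrrCharacter (A × Z) => (χ : A × Z → ℂ) x) h
      exact this
    have hφ : φ = φ' := by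
      apply Subtype.ext
      funext a
      have := h1 (a, 1)
      simp only [irr_comm_apply_one, mul_one] at this
      exact this
    subst hφ
    have hψ : ψ = ψ' := by
      apply Subtype.ext
      funext z
      have := h1 (1, z)
      obtain ⟨n, hn, hn1⟩ := IsIrrCharacter.apply_one_pos φ.2
      have hne : (φ : A → ℂ) 1 ≠ 0 := by
        rw [hn1]
        exact Nat.cast_ne_zero.mpr hn.ne'
      exact mul_left_cancel₀ hne this
    rw [hψ]
  · intro χ
    obtain ⟨φ, ψ, hφ, hψ, h⟩ := IsIrrCharacter.exists_prod χ.2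
    exact ⟨(⟨φ, hφ⟩, ⟨ψ, hψ⟩), Subtype.ext h.symm⟩

omit [Finite A] in
theorem card_irr_comm : Nat.card (IrrCharacter Z) = Nat.card Z := by
  rw [card_irrCharacter]
  exact Nat.card_congr (ConjClasses.mkEquiv (α := Z)).symm

/-- Irreducible characters of degree `d` of `A × Z`, `Z` finite abelian. -/
theorem card_irr_degree_prod (d : ℂ) :
    Nat.card {χ : IrrCharacter (A × Z) // (χ : A × Z → ℂ) 1 = d} =
      Nat.card {χ : IrrCharacter A // (χ : A → ℂ) 1 = d} * Nat.card Z := by
  rw [← card_irr_comm (Z := Z), ← Nat.card_prod]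
  symm
  apply Nat.card_congr
  refine Equiv.ofBijective
    (fun p : {χ : IrrCharacter A // (χ : A → ℂ) 1 = d} × IrrCharacter Z =>
      (⟨irrProd (p.1.1, p.2), by rw [irrProd_apply_one]; exact p.1.2⟩ :
        {χ : IrrCharacter (A × Z) // (χ : A × Z → ℂ) 1 = d})) ⟨?_, ?_⟩
  · rintro ⟨⟨φ, hφ⟩, ψ⟩ ⟨⟨φ', hφ'⟩, ψ'⟩ h
    have h1 : irrProd (φ, ψ) = irrProd (φ', ψ') := congrArg Subtype.val h
    have h2 := irrProd_bijective.1 h1
    have h3 : φ = φ' := congrArg Prod.fst h2
    have h4 : ψ = ψ' := congrArg Prod.snd h2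
    subst h3
    subst h4
    rfl
  · rintro ⟨χ, hχ⟩
    obtain ⟨⟨φ, ψ⟩, hp⟩ := irrProd_bijective.2 χ
    have hd : (φ : A → ℂ) 1 = d := by
      rw [← irrProd_apply_one (φ, ψ), hp]
      exact hχ
    exact ⟨(⟨φ, hd⟩, ψ), Subtype.ext hp⟩

end prod

end Cfsg.Agent.Lib.Helper13
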