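import Mathlib

/-!
Helper lemmas (helper13): rational canonical form in `GL₂(K)`; classification of conjugacy classes.
-/

set_option autoImplicit false

namespace Cfsg.Agent.Lib.Helper13

open Matrix

variable {K : Type*} [Field K]

/-- The companion matrix `[[0, -d], [1, t]]` (trace `t`, determinant `d`) as an element of `GL₂`. -/
noncomputable def compGL (t : K) (d : Kˣ) : GL (Fin 2) K :=
  Matrix.GeneralLinearGroup.mkOfDetNeZero !![0, -(d : K); 1, t] (by simp [Matrix.det_fin_two])

theorem compGL_coe (t : K) (d : Kˣ) :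
    ((compGL t d : GL (Fin 2) K) : Matrix (Fin 2) (Fin 2) K) = !![0, -(d : K); 1, t] := rfl

/-- The scalar matrix `a • 1` as an element of `GL₂`. -/
noncomputable def scalGL (a : Kˣ) : GL (Fin 2) K :=
  Matrix.GeneralLinearGroup.mkOfDetNeZero !![(a : K), 0; 0, (a : K)] (by simp [Matrix.det_fin_two])

theorem scalGL_coe (a : Kˣ) :
    ((scalGL a : GL (Fin 2) K) : Matrix (Fin 2) (Fin 2) K) = !![(a : K), 0; 0, (a : K)] := rfl

theorem scalGL_central (a : Kˣ) (B : GL (Fin 2) K) : B * scalGL a = scalGL a * B := by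
  apply Units.ext
  rw [Units.val_mul, Units.val_mul, scalGL_coe]
  ext i j
  fin_cases i <;> fin_cases j <;> simp [Matrix.mul_apply, Fin.sum_univ_two, mul_comm]

theorem isConj_scalGL_iff (a : Kˣ) (h : GL (Fin 2) K) : IsConj (scalGL a) h ↔ h = scalGL a := by
  constructor
  · intro hc
    obtain ⟨B, hB⟩ := isConj_iff.mp hc
    rw [← hB, scalGL_central, mul_assoc, mul_inv_cancel, mul_one]
  · rintro rfl
    exact IsConj.refl _

/-- A matrix is scalar. -/
def IsScalar2 (m : Matrix (Fin 2) (Fin 2) K) : Prop := m 0 1 = 0 ∧ m 1 0 = 0 ∧ m 0 0 = m 1 1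

theorem eq_scalGL_of_isScalar2 (g : GL (Fin 2) K) (h : IsScalar2 (g : Matrix (Fin 2) (Fin 2) K)) :
    ∃ a : Kˣ, g = scalGL a := by
  obtain ⟨h01, h10, h00⟩ := h
  have hdet : (g : Matrix (Fin 2) (Fin 2) K).det ≠ 0 :=
    ((Matrix.isUnit_iff_isUnit_det _).mp g.isUnit).ne_zero
  rw [Matrix.det_fin_two, h01, h10, mul_zero, sub_zero] at hdet
  refine ⟨Units.mk0 _ (left_ne_zero_of_mul hdet), ?_⟩
  apply Units.ext
  rw [scalGL_coe]
  ext i j
  fin_cases i <;> fin_cases j <;> simp [h01, h10, h00]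

/-- A non-scalar element of `GL₂(K)` is conjugate to the companion matrix of its characteristic
polynomial. -/
theorem exists_conj_compGL (g : GL (Fin 2) K) (hns : ¬ IsScalar2 (g : Matrix (Fin 2) (Fin 2) K)) :
    ∃ B : GL (Fin 2) K, g * B =
      B * compGL ((g : Matrix (Fin 2) (Fin 2) K).trace) (Matrix.GeneralLinearGroup.det g) := by
  set m : Matrix (Fin 2) (Fin 2) K := (g : Matrix (Fin 2) (Fin 2) K) with hm
  have htr : m.trace = m 0 0 + m 1 1 := Matrix.trace_fin_two m
  have hdet : ((Matrix.GeneralLinearGroup.det g : Kˣ) : K) = m 0 0 * m 1 1 - m 0 1 * m 1 0 := by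
    rw [Matrix.GeneralLinearGroup.val_det_apply, Matrix.det_fin_two]
  by_cases hc : m 1 0 = 0
  · by_cases hb : m 0 1 = 0
    · have had : m 0 0 ≠ m 1 1 := fun h => hns ⟨hb, hc, h⟩
      refine ⟨Matrix.GeneralLinearGroup.mkOfDetNeZero !![1, m 0 0; 1, m 1 1]
        (by simp [Matrix.det_fin_two]; exact sub_ne_zero.mpr (Ne.symm had)), ?_⟩
      apply Units.ext
      rw [Units.val_mul, Units.val_mul, compGL_coe, hdet, htr]
      change m * !![1, m 0 0; 1, m 1 1] = !![1, m 0 0; 1, m 1 1] * _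
      ext i j
      fin_cases i <;> fin_cases j <;>
        simp [Matrix.mul_apply, Fin.sum_univ_two, hb, hc]
      · ring
      · ring
    · refine ⟨Matrix.GeneralLinearGroup.mkOfDetNeZero !![0, m 0 1; 1, m 1 1]
        (by simp [Matrix.det_fin_two, hb]), ?_⟩
      apply Units.ext
      rw [Units.val_mul, Units.val_mul, compGL_coe, hdet, htr]
      change m * !![0, m 0 1; 1, m 1 1] = !![0, m 0 1; 1, m 1 1] * _
      ext i j
      fin_cases i <;> fin_cases j <;>
        simp [Matrix.mul_apply, Fin.sum_univ_two, hc]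
      · ring
      · ring
  · refine ⟨Matrix.GeneralLinearGroup.mkOfDetNeZero !![1, m 0 0; 0, m 1 0]
      (by simp [Matrix.det_fin_two, hc]), ?_⟩
    apply Units.ext
    rw [Units.val_mul, Units.val_mul, compGL_coe, hdet, htr]
    change m * !![1, m 0 0; 0, m 1 0] = !![1, m 0 0; 0, m 1 0] * _
    ext i j
    fin_cases i <;> fin_cases j <;>
      simp [Matrix.mul_apply, Fin.sum_univ_two]
    · ring
    · ring

theorem trace_eq_of_isConj {g h : GL (Fin 2) K} (hc : IsConj g h) :
    (g : Matrix (Fin 2) (Fin 2) K).trace = (h : Matrix (Fin 2) (Fin 2) K).trace := by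
  obtain ⟨B, hB⟩ := isConj_iff.mp hc
  rw [← hB, Units.val_mul, Units.val_mul, Matrix.trace_mul_comm, ← mul_assoc, ← Units.val_mul,
    inv_mul_cancel, Units.val_one, one_mul]

theorem det_eq_of_isConj {g h : GL (Fin 2) K} (hc : IsConj g h) :
    Matrix.GeneralLinearGroup.det g = Matrix.GeneralLinearGroup.det h := by
  obtain ⟨B, hB⟩ := isConj_iff.mp hc
  rw [← hB, map_mul, map_mul, map_inv, mul_comm, ← mul_assoc, inv_mul_cancel, one_mul]

theorem trace_compGL (t : K) (d : Kˣ) :
    ((compGL t d : GL (Fin 2) K) : Matrix (Fin 2) (Fin 2) K).trace = t := by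
  rw [compGL_coe, Matrix.trace_fin_two]; simp

theorem det_compGL (t : K) (d : Kˣ) : Matrix.GeneralLinearGroup.det (compGL t d) = d := by
  apply Units.ext
  rw [Matrix.GeneralLinearGroup.val_det_apply, compGL_coe, Matrix.det_fin_two]; simp

theorem compGL_not_isScalar2 (t : K) (d : Kˣ) :
    ¬ IsScalar2 ((compGL t d : GL (Fin 2) K) : Matrix (Fin 2) (Fin 2) K) := by
  rintro ⟨_, h10, _⟩
  rw [compGL_coe] at h10
  simp at h10

theorem scalGL_isScalar2 (a : Kˣ) :
    IsScalar2 ((scalGL a : GL (Fin 2) K) : Matrix (Fin 2) (Fin 2) K) := by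
  rw [scalGL_coe]
  exact ⟨by simp, by simp, by simp⟩

/-- The parametrisation of conjugacy classes of `GL₂(K)`. -/
noncomputable def classOfGL2 : Kˣ ⊕ (K × Kˣ) → ConjClasses (GL (Fin 2) K)
  | Sum.inl a => ConjClasses.mk (scalGL a)
  | Sum.inr p => ConjClasses.mk (compGL p.1 p.2)

theorem classOfGL2_bijective : Function.Bijective (classOfGL2 (K := K)) := by
  constructor
  · rintro (a | ⟨t, d⟩) (a' | ⟨t', d'⟩) h
    · simp only [classOfGL2, ConjClasses.mk_eq_mk_iff_isConj, isConj_scalGL_iff] at h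
      have := congrArg (fun x : GL (Fin 2) K => (x : Matrix (Fin 2) (Fin 2) K) 0 0) h
      simp [scalGL_coe] at this
      rw [Units.ext this]
    · exfalso
      simp only [classOfGL2, ConjClasses.mk_eq_mk_iff_isConj, isConj_scalGL_iff] at h
      exact compGL_not_isScalar2 t' d' (h ▸ scalGL_isScalar2 a)
    · exfalso
      simp only [classOfGL2, ConjClasses.mk_eq_mk_iff_isConj] at h
      have h' := (isConj_scalGL_iff a' _).mp h.symm
      exact compGL_not_isScalar2 t d (h' ▸ scalGL_isScalar2 a')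
    · simp only [classOfGL2, ConjClasses.mk_eq_mk_iff_isConj] at h
      have h1 := trace_eq_of_isConj h
      have h2 := det_eq_of_isConj h
      rw [trace_compGL, trace_compGL] at h1
      rw [det_compGL, det_compGL] at h2
      rw [h1, h2]
  · intro C
    obtain ⟨g, rfl⟩ := ConjClasses.exists_rep C
    by_cases hs : IsScalar2 (g : Matrix (Fin 2) (Fin 2) K)
    · obtain ⟨a, rfl⟩ := eq_scalGL_of_isScalar2 g hs
      exact ⟨Sum.inl a, rfl⟩
    · obtain ⟨B, hB⟩ := exists_conj_compGL g hs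
      refine ⟨Sum.inr ((g : Matrix (Fin 2) (Fin 2) K).trace, Matrix.GeneralLinearGroup.det g), ?_⟩
      simp only [classOfGL2, ConjClasses.mk_eq_mk_iff_isConj]
      rw [isConj_iff]
      refine ⟨B, ?_⟩
      rw [← hB, mul_assoc, mul_inv_cancel, mul_one]

end Cfsg.Agent.Lib.Helper13
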