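/-
helper13: in characteristic 2, `GL₂(F) ≅ SL₂(F) × Fˣ`; consequences for character degrees.
-/
import Mathlib
import Cfsg.Agent.Lib.Helper13.IrrCount
import Cfsg.Agent.Lib.Helper6.LinChar
import Cfsg.Agent.Lib.Helper13.GL2Classes
import Cfsg.Agent.Lib.Helper13.GL2Sylow
import Cfsg.Agent.Lib.Helper13.SL2

set_option autoImplicit false

namespace Cfsg.Agent.Lib.Helper13

open Matrix Cfsg Cfsg.Agent.CharLib

variable {F : Type*} [Field F]

theorem scalGL_one : scalGL (1 : Fˣ) = (1 : GL (Fin 2) F) := by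
  apply Units.ext
  rw [scalGL_coe, Units.val_one]
  ext i j
  fin_cases i <;> fin_cases j <;> simp

theorem scalGL_mul (a b : Fˣ) : scalGL (a * b) = (scalGL a * scalGL b : GL (Fin 2) F) := by
  apply Units.ext
  rw [Units.val_mul, scalGL_coe, scalGL_coe, scalGL_coe]
  ext i j
  fin_cases i <;> fin_cases j <;> simp [Matrix.mul_apply, Fin.sum_univ_two]

/-- The homomorphism `SL₂(F) × Fˣ → GL₂(F)`, `(s, c) ↦ s · c`. -/
noncomputable def slzHom (F : Type*) [Field F] :
    SpecialLinearGroup (Fin 2) F × Fˣ →* GL (Fin 2) F where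
  toFun p := SpecialLinearGroup.toGL p.1 * scalGL p.2
  map_one' := by
    change SpecialLinearGroup.toGL (1 : SpecialLinearGroup (Fin 2) F) * scalGL (1 : Fˣ) = 1
    rw [map_one, scalGL_one, one_mul]
  map_mul' p r := by
    change SpecialLinearGroup.toGL (p.1 * r.1) * scalGL (p.2 * r.2) =
      SpecialLinearGroup.toGL p.1 * scalGL p.2 * (SpecialLinearGroup.toGL r.1 * scalGL r.2)
    rw [map_mul, scalGL_mul, mul_assoc, mul_assoc, ← mul_assoc (scalGL p.2),
      ← scalGL_central p.2 (SpecialLinearGroup.toGL r.1), mul_assoc]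

theorem slzHom_apply (p : SpecialLinearGroup (Fin 2) F × Fˣ) :
    slzHom F p = SpecialLinearGroup.toGL p.1 * scalGL p.2 := rfl

theorem slzHom_injective [CharP F 2] : Function.Injective (slzHom F) := by
  rw [injective_iff_map_eq_one]
  rintro ⟨s, c⟩ h
  rw [slzHom_apply] at h
  have hdet := congrArg (fun g : GL (Fin 2) F => (g : Matrix (Fin 2) (Fin 2) F).det) h
  simp only [Units.val_mul, Matrix.det_mul, Units.val_one, Matrix.det_one] at hdet
  have hs : ((SpecialLinearGroup.toGL s : GL (Fin 2) F) : Matrix (Fin 2) (Fin 2) F).det = 1 := s.2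
  rw [hs, one_mul, scalGL_coe, Matrix.det_fin_two] at hdet
  simp only [Matrix.of_apply, Matrix.cons_val_zero, Matrix.cons_val_one, Matrix.cons_val',
    Matrix.cons_val_fin_one, mul_zero, sub_zero] at hdet
  have hc : (c : F) = 1 := by
    have h2 : ((c : F) - 1) ^ 2 = 0 := by
      have h3 : (2 : F) = 0 := CharP.cast_eq_zero F 2
      have : ((c : F) - 1) ^ 2 = (c : F) * (c : F) - 2 * (c : F) + 1 := by ring
      rw [this, hdet, h3]
      ring_nf
      rw [h3]
    exact sub_eq_zero.mp ((pow_eq_zero_iff (two_ne_zero)).mp h2)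
  have hc' : c = 1 := Units.ext hc
  subst hc'
  rw [scalGL_one, mul_one] at h
  have hs1 : s = 1 := SpecialLinearGroup.toGL_injective (by rw [h, map_one])
  rw [hs1]
  rfl

variable [Fintype F] [DecidableEq F]

omit [DecidableEq F] in
theorem slzHom_bijective [CharP F 2] : Function.Bijective (slzHom F) := by
  rw [Nat.bijective_iff_injective_and_card]
  refine ⟨slzHom_injective, ?_⟩
  rw [Nat.card_prod, card_SL2, card_GL2, Nat.card_units, Nat.card_eq_fintype_card]
  have hq : 1 ≤ Fintype.card F := Fintype.card_pos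
  obtain ⟨r, hr⟩ : ∃ r, Fintype.card F = r + 1 := ⟨Fintype.card F - 1, by omega⟩
  rw [hr]
  have h1 : (r + 1) ^ 2 - 1 = r * (r + 2) := by
    have : (r + 1) ^ 2 = r * (r + 2) + 1 := by ring
    omega
  rw [h1]
  simp only [Nat.add_sub_cancel]
  ring

/-- In characteristic 2, `SL₂(F) × Fˣ ≃* GL₂(F)`. -/
noncomputable def slzEquiv (F : Type*) [Field F] [Fintype F] [DecidableEq F] [CharP F 2] :
    SpecialLinearGroup (Fin 2) F × Fˣ ≃* GL (Fin 2) F :=
  MulEquiv.ofBijective (slzHom F) slzHom_bijective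

/-- In characteristic 2, the number of irreducible characters of `GL₂(F)` of a given degree is
`q - 1` times that of `SL₂(F)`. -/
theorem card_irr_degree_GL2_even [CharP F 2] (d : ℂ) :
    Nat.card {χ : IrrCharacter (GL (Fin 2) F) // (χ : GL (Fin 2) F → ℂ) 1 = d} =
      Nat.card {χ : IrrCharacter (SpecialLinearGroup (Fin 2) F) //
        (χ : SpecialLinearGroup (Fin 2) F → ℂ) 1 = d} * (Fintype.card F - 1) := by
  rw [card_irr_degree_congr (slzEquiv F) d, card_irr_degree_prod d, Nat.card_units,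
    Nat.card_eq_fintype_card (α := F)]

/-- In characteristic 2, every irreducible character of `SL₂(F)` extends to `GL₂(F)` with the same
degree. -/
theorem exists_irr_GL2_even [CharP F 2] {θ : SpecialLinearGroup (Fin 2) F → ℂ}
    (hθ : IsIrrCharacter (SpecialLinearGroup (Fin 2) F) θ) :
    ∃ χ : GL (Fin 2) F → ℂ, IsIrrCharacter (GL (Fin 2) F) χ ∧ χ 1 = θ 1 := by
  let ψ : IrrCharacter Fˣ := ⟨1, Cfsg.Agent.Lib.Helper6.IsCharacter.isIrrCharacter_of_apply_one
    (isCharacter_one (G := Fˣ)) rfl⟩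
  let χ' := irrProd ((⟨θ, hθ⟩ : IrrCharacter (SpecialLinearGroup (Fin 2) F)), ψ)
  let χ := irrCongr (slzEquiv F).symm χ'
  refine ⟨χ, χ.2, ?_⟩
  change (χ : GL (Fin 2) F → ℂ) 1 = θ 1
  rw [irrCongr_apply_one, irrProd_apply_one]

end Cfsg.Agent.Lib.Helper13
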