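/-
helper13: principal series of GL₂(F): the linear characters of the Borel subgroup and
the inner products of the induced characters (Mackey, by direct computation).
-/
import Mathlib
import Cfsg.Prelude.Def_Characters
import Cfsg.Prelude.Def_ParabolicCharacters
import Cfsg.Agent.Lib.Lead.CharInd
import Cfsg.Agent.Lib.Helper6.LinChar
import Cfsg.Agent.Lib.Helper6.CharNorm
import Cfsg.Agent.Lib.Helper13.GL2Sylow

set_option autoImplicit false

namespace Cfsg.Agent.Lib.Helper13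

open Matrix Cfsg Cfsg.Agent.CharLib
open scoped ComplexConjugate

variable {F : Type*} [Field F]

theorem upperTriangularGL_two_eq : Cfsg.upperTriangularGL 2 F = borelGL F := by
  ext g
  rw [mem_borelGL]
  change (g : Matrix (Fin 2) (Fin 2) F).BlockTriangular id ↔ _
  constructor
  · intro h
    exact h (show id (0 : Fin 2) < id 1 by decide)
  · intro h i j hij
    fin_cases i <;> fin_cases j
    · exact absurd hij (by decide)
    · exact absurd hij (by decide)
    · exact h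
    · exact absurd hij (by decide)

theorem mem_upperTriangularGL_two {g : GL (Fin 2) F} :
    g ∈ Cfsg.upperTriangularGL 2 F ↔ (g : Matrix (Fin 2) (Fin 2) F) 1 0 = 0 := by
  rw [upperTriangularGL_two_eq, mem_borelGL]

/-- The linear character `b ↦ α(b₀₀) β(b₁₁)` of the Borel subgroup of `GL₂(F)`. -/
noncomputable def psChar (α β : MulChar F ℂ) : ↥(Cfsg.upperTriangularGL 2 F) → ℂ :=
  fun b => α (((b : GL (Fin 2) F) : Matrix (Fin 2) (Fin 2) F) 0 0) *
    β (((b : GL (Fin 2) F) : Matrix (Fin 2) (Fin 2) F) 1 1)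

theorem psChar_apply (α β : MulChar F ℂ) (b : ↥(Cfsg.upperTriangularGL 2 F)) :
    psChar α β b = α (((b : GL (Fin 2) F) : Matrix (Fin 2) (Fin 2) F) 0 0) *
    β (((b : GL (Fin 2) F) : Matrix (Fin 2) (Fin 2) F) 1 1) := rfl

theorem psChar_mul (α β : MulChar F ℂ) (b c : ↥(Cfsg.upperTriangularGL 2 F)) :
    psChar α β (b * c) = psChar α β b * psChar α β c := by
  have hb := mem_upperTriangularGL_two.mp b.2
  have hc := mem_upperTriangularGL_two.mp c.2
  simp only [psChar_apply, Subgroup.coe_mul, Units.val_mul, Matrix.mul_apply, Fin.sum_univ_two,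
    hb, hc, mul_zero, zero_mul, add_zero, zero_add, map_mul]
  ring

theorem psChar_one (α β : MulChar F ℂ) : psChar α β (1 : ↥(Cfsg.upperTriangularGL 2 F)) = 1 := by
  simp [psChar_apply]

/-- `psChar` as a monoid homomorphism. -/
noncomputable def psHom (α β : MulChar F ℂ) : ↥(Cfsg.upperTriangularGL 2 F) →* ℂ where
  toFun := psChar α β
  map_one' := psChar_one α β
  map_mul' := psChar_mul α β

theorem isCharacter_psChar (α β : MulChar F ℂ) :
    IsCharacter ↥(Cfsg.upperTriangularGL 2 F) (psChar α β) :=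
  Cfsg.Agent.Lib.Helper6.isCharacter_of_hom (psHom α β).toHomUnits

/-- Pure matrix computation behind the Mackey formula for the Borel subgroup of `GL₂`. -/
theorem conj_borel_aux (X Y Bm : Matrix (Fin 2) (Fin 2) F) (h : X * Y = Bm * X)
    (hB : Bm 1 0 = 0) (hX : X 1 0 ≠ 0) (hdet : X.det ≠ 0) :
    (Y 1 0 = 0 ↔ Bm 0 1 * X 1 0 = X 0 0 * (Bm 1 1 - Bm 0 0)) ∧
    (Y 1 0 = 0 → Y 0 0 = Bm 1 1 ∧ Y 1 1 = Bm 0 0) := by
  have h00 := congr_fun (congr_fun h 0) 0
  have h01 := congr_fun (congr_fun h 0) 1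
  have h10 := congr_fun (congr_fun h 1) 0
  have h11 := congr_fun (congr_fun h 1) 1
  simp only [Matrix.mul_apply, Fin.sum_univ_two, hB, zero_mul, zero_add] at h00 h01 h10 h11
  rw [Matrix.det_fin_two] at hdet
  have key1 : Y 1 0 = 0 → Y 0 0 = Bm 1 1 := by
    intro hy
    rw [hy, mul_zero, add_zero] at h10
    have : X 1 0 * (Y 0 0 - Bm 1 1) = 0 := by linear_combination h10
    rcases mul_eq_zero.mp this with h' | h'
    · exact absurd h' hX
    · exact sub_eq_zero.mp h'
  have key2 : Y 1 0 = 0 → Bm 0 1 * X 1 0 = X 0 0 * (Bm 1 1 - Bm 0 0) := by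
    intro hy
    have h1 := key1 hy
    rw [hy, h1, mul_zero, add_zero] at h00
    linear_combination -h00
  refine ⟨⟨key2, ?_⟩, ?_⟩
  · intro hyp
    have : (X 0 0 * X 1 1 - X 0 1 * X 1 0) * Y 1 0 = 0 := by
      linear_combination X 0 0 * h10 - X 1 0 * h00 - X 1 0 * hyp
    rcases mul_eq_zero.mp this with h' | h'
    · exact absurd h' hdet
    · exact h'
  · intro hy
    refine ⟨key1 hy, ?_⟩
    have hyp := key2 hy
    have : (X 0 0 * X 1 1 - X 0 1 * X 1 0) * (Y 1 1 - Bm 0 0) = 0 := by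
      linear_combination X 0 0 * h11 - X 1 0 * h01 - X 1 1 * hyp
    rcases mul_eq_zero.mp this with h' | h'
    · exact absurd h' hdet
    · exact sub_eq_zero.mp h'

/-- GL-level version. -/
theorem conj_borel (x b : GL (Fin 2) F) (hb : b ∈ Cfsg.upperTriangularGL 2 F)
    (hx : x ∉ Cfsg.upperTriangularGL 2 F) :
    (x⁻¹ * b * x ∈ Cfsg.upperTriangularGL 2 F ↔
      (b : Matrix (Fin 2) (Fin 2) F) 0 1 * (x : Matrix (Fin 2) (Fin 2) F) 1 0 =
        (x : Matrix (Fin 2) (Fin 2) F) 0 0 *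
          ((b : Matrix (Fin 2) (Fin 2) F) 1 1 - (b : Matrix (Fin 2) (Fin 2) F) 0 0)) ∧
    (x⁻¹ * b * x ∈ Cfsg.upperTriangularGL 2 F →
      ((x⁻¹ * b * x : GL (Fin 2) F) : Matrix (Fin 2) (Fin 2) F) 0 0 =
        (b : Matrix (Fin 2) (Fin 2) F) 1 1 ∧
      ((x⁻¹ * b * x : GL (Fin 2) F) : Matrix (Fin 2) (Fin 2) F) 1 1 =
        (b : Matrix (Fin 2) (Fin 2) F) 0 0) := by
  have h : (x : Matrix (Fin 2) (Fin 2) F) * ((x⁻¹ * b * x : GL (Fin 2) F) : Matrix (Fin 2) (Fin 2) F)
      = (b : Matrix (Fin 2) (Fin 2) F) * (x : Matrix (Fin 2) (Fin 2) F) := by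
    rw [← Units.val_mul, ← Units.val_mul]
    congr 1
    group
  have hB := mem_upperTriangularGL_two.mp hb
  have hX : (x : Matrix (Fin 2) (Fin 2) F) 1 0 ≠ 0 := fun h0 => hx (mem_upperTriangularGL_two.mpr h0)
  have hdet : (x : Matrix (Fin 2) (Fin 2) F).det ≠ 0 :=
    ((Matrix.isUnit_iff_isUnit_det _).mp x.isUnit).ne_zero
  have := conj_borel_aux _ _ _ h hB hX hdet
  simp only [mem_upperTriangularGL_two]
  exact this

/-- The Borel subgroup is in bijection with `Fˣ × Fˣ × F`. -/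
noncomputable def utEquiv (F : Type*) [Field F] : ↥(Cfsg.upperTriangularGL 2 F) ≃ Fˣ × Fˣ × F :=
  (Equiv.subtypeEquivRight (fun g => by
    rw [upperTriangularGL_two_eq])).trans (borelEquiv F)

theorem utEquiv_fst (b : ↥(Cfsg.upperTriangularGL 2 F)) :
    (((utEquiv F b).1 : Fˣ) : F) = ((b : GL (Fin 2) F) : Matrix (Fin 2) (Fin 2) F) 0 0 := rfl

theorem utEquiv_snd_fst (b : ↥(Cfsg.upperTriangularGL 2 F)) :
    (((utEquiv F b).2.1 : Fˣ) : F) = ((b : GL (Fin 2) F) : Matrix (Fin 2) (Fin 2) F) 1 1 := rfl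

theorem utEquiv_snd_snd (b : ↥(Cfsg.upperTriangularGL 2 F)) :
    (utEquiv F b).2.2 = ((b : GL (Fin 2) F) : Matrix (Fin 2) (Fin 2) F) 0 1 := rfl

section finite

variable [Fintype F] [DecidableEq F]

/-- Orthogonality of multiplicative characters. -/
theorem sum_mulChar_mul_conj (α β : MulChar F ℂ) :
    ∑ a : F, α a * conj (β a) = if α = β then ((Fintype.card F : ℂ) - 1) else 0 := by
  have h1 : ∀ a : F, α a * conj (β a) = (α * β⁻¹) a := by
    intro a
    rw [MulChar.mul_apply, ← MulChar.star_apply']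
    rfl
  simp_rw [h1]
  split_ifs with h
  · subst h
    rw [mul_inv_cancel, MulChar.sum_one_eq_card_units, Fintype.card_units]
    have : 1 ≤ Fintype.card F := Fintype.card_pos
    push_cast [Nat.cast_sub this]
    ring
  · apply MulChar.sum_eq_zero_of_ne_one
    intro h'
    exact h (mul_inv_eq_one.mp h')

theorem sum_units_eq_sum (f : F → ℂ) (hf : f 0 = 0) : ∑ a : Fˣ, f (a : F) = ∑ a : F, f a := by
  rw [← Fintype.sum_equiv unitsEquivNeZero.symm (fun a : {a : F // a ≠ 0} => f a) (fun a : Fˣ => f a)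
    (fun a => by simp)]
  rw [← Finset.sum_subtype (Finset.univ.filter (fun a : F => a ≠ 0)) (by simp) f]
  rw [Finset.sum_filter]
  apply Finset.sum_congr rfl
  intro a _
  by_cases h : a = 0
  · simp [h, hf]
  · simp [h]

theorem sum_ut [Fintype ↥(Cfsg.upperTriangularGL 2 F)] (f : Fˣ × Fˣ × F → ℂ) :
    ∑ b : ↥(Cfsg.upperTriangularGL 2 F), f (utEquiv F b) = ∑ a : Fˣ, ∑ d : Fˣ, ∑ e : F, f (a, d, e) := by
  rw [Fintype.sum_equiv (utEquiv F) (fun b => f (utEquiv F b)) f (fun _ => rfl)]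
  rw [Fintype.sum_prod_type]
  apply Finset.sum_congr rfl
  intro a _
  rw [Fintype.sum_prod_type]

/-- The inner sum in the Mackey computation. -/
noncomputable def psT [Fintype ↥(Cfsg.upperTriangularGL 2 F)] (α β α' β' : MulChar F ℂ)
    (x : GL (Fin 2) F) : ℂ :=
  ∑ b : ↥(Cfsg.upperTriangularGL 2 F), psChar α β b *
    conj (extendByZero (Cfsg.upperTriangularGL 2 F) (psChar α' β') (x⁻¹ * (b : GL (Fin 2) F) * x))

theorem psT_of_mem [Fintype ↥(Cfsg.upperTriangularGL 2 F)] (α β α' β' : MulChar F ℂ)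
    {x : GL (Fin 2) F} (hx : x ∈ Cfsg.upperTriangularGL 2 F) :
    psT α β α' β' x = (Fintype.card F : ℂ) * ((∑ a : F, α a * conj (α' a)) * (∑ d : F, β d * conj (β' d))) := by
  unfold psT
  have h1 : ∀ b : ↥(Cfsg.upperTriangularGL 2 F),
      psChar α β b * conj (extendByZero (Cfsg.upperTriangularGL 2 F) (psChar α' β') (x⁻¹ * (b : GL (Fin 2) F) * x))
      = (fun p : Fˣ × Fˣ × F => (α (p.1 : F) * conj (α' (p.1 : F))) * (β (p.2.1 : F) * conj (β' (p.2.1 : F)))) (utEquiv F b) := by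
    intro b
    have e1 : x⁻¹ * (b : GL (Fin 2) F) * x = ((⟨x, hx⟩⁻¹ * b * ⟨x, hx⟩ : ↥(Cfsg.upperTriangularGL 2 F)) : GL (Fin 2) F) := by
      simp
    rw [e1, extendByZero_apply_coe]
    have e2 : psChar α' β' (⟨x, hx⟩⁻¹ * b * ⟨x, hx⟩) = psChar α' β' b := by
      change psHom α' β' (⟨x, hx⟩⁻¹ * b * ⟨x, hx⟩) = psHom α' β' b
      rw [map_mul, map_mul, mul_comm (psHom _ _ _), mul_assoc, ← map_mul, inv_mul_cancel, map_one, mul_one]
    rw [e2]
    simp only [utEquiv_fst, utEquiv_snd_fst, psChar_apply, map_mul]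
    ring
  rw [Finset.sum_congr rfl (fun b _ => h1 b)]
  refine (sum_ut (F := F) (fun p : Fˣ × Fˣ × F => (α (p.1 : F) * conj (α' (p.1 : F))) * (β (p.2.1 : F) * conj (β' (p.2.1 : F))))).trans ?_
  simp only [Finset.sum_const, Finset.card_univ, nsmul_eq_mul]
  rw [← sum_units_eq_sum (fun a => α a * conj (α' a)) (by rw [MulChar.map_zero, zero_mul]),
    ← sum_units_eq_sum (fun a => β a * conj (β' a)) (by rw [MulChar.map_zero, zero_mul]), Finset.sum_mul_sum, Finset.mul_sum]
  apply Finset.sum_congr rfl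
  intro a _
  rw [Finset.mul_sum]

theorem sum_ut' [Fintype ↥(Cfsg.upperTriangularGL 2 F)] (f : F → F → F → ℂ) :
    ∑ b : ↥(Cfsg.upperTriangularGL 2 F), f (((b : GL (Fin 2) F) : Matrix (Fin 2) (Fin 2) F) 0 0)
      (((b : GL (Fin 2) F) : Matrix (Fin 2) (Fin 2) F) 1 1) (((b : GL (Fin 2) F) : Matrix (Fin 2) (Fin 2) F) 0 1)
      = ∑ a : Fˣ, ∑ d : Fˣ, ∑ e : F, f a d e :=
  sum_ut (fun p : Fˣ × Fˣ × F => f p.1 p.2.1 p.2.2)

theorem psT_of_not_mem [Fintype ↥(Cfsg.upperTriangularGL 2 F)] (α β α' β' : MulChar F ℂ)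
    {x : GL (Fin 2) F} (hx : x ∉ Cfsg.upperTriangularGL 2 F) :
    psT α β α' β' x = (∑ a : F, α a * conj (β' a)) * (∑ d : F, β d * conj (α' d)) := by
  unfold psT
  have hc : (x : Matrix (Fin 2) (Fin 2) F) 1 0 ≠ 0 := fun h0 => hx (mem_upperTriangularGL_two.mpr h0)
  have h1 : ∀ b : ↥(Cfsg.upperTriangularGL 2 F),
      psChar α β b * conj (extendByZero (Cfsg.upperTriangularGL 2 F) (psChar α' β') (x⁻¹ * (b : GL (Fin 2) F) * x))
      = (fun a d e : F =>
          if e * (x : Matrix (Fin 2) (Fin 2) F) 1 0 = (x : Matrix (Fin 2) (Fin 2) F) 0 0 * (d - a) then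
          (α a * conj (β' a)) * (β d * conj (α' d)) else 0)
          (((b : GL (Fin 2) F) : Matrix (Fin 2) (Fin 2) F) 0 0)
          (((b : GL (Fin 2) F) : Matrix (Fin 2) (Fin 2) F) 1 1) (((b : GL (Fin 2) F) : Matrix (Fin 2) (Fin 2) F) 0 1) := by
    intro b
    obtain ⟨hiff, hdiag⟩ := conj_borel x (b : GL (Fin 2) F) b.2 hx
    by_cases hm : x⁻¹ * (b : GL (Fin 2) F) * x ∈ Cfsg.upperTriangularGL 2 F
    · have hcond := hiff.mp hm
      obtain ⟨d0, d1⟩ := hdiag hm
      have e1 : extendByZero (Cfsg.upperTriangularGL 2 F) (psChar α' β') (x⁻¹ * (b : GL (Fin 2) F) * x)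
          = psChar α' β' ⟨_, hm⟩ := extendByZero_apply_coe _ _ ⟨_, hm⟩
      rw [e1]
      beta_reduce
      rw [if_pos hcond, psChar_apply, psChar_apply]
      simp only [d0, d1, map_mul]
      ring
    · rw [extendByZero_apply_of_not_mem _ _ hm, map_zero, mul_zero]
      beta_reduce
      rw [if_neg]
      intro hcond
      exact hm (hiff.mpr hcond)
  rw [Finset.sum_congr rfl (fun b _ => h1 b)]
  refine (sum_ut' (F := F) (fun a d e : F =>
          if e * (x : Matrix (Fin 2) (Fin 2) F) 1 0 = (x : Matrix (Fin 2) (Fin 2) F) 0 0 * (d - a) then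
          (α a * conj (β' a)) * (β d * conj (α' d)) else 0)).trans ?_
  simp only [← eq_div_iff hc, Finset.sum_ite_eq', Finset.mem_univ, if_true]
  rw [← sum_units_eq_sum (fun a => α a * conj (β' a)) (by rw [MulChar.map_zero, zero_mul]),
    ← sum_units_eq_sum (fun a => β a * conj (α' a)) (by rw [MulChar.map_zero, zero_mul]), Finset.sum_mul_sum]

omit [DecidableEq F] in
theorem card_ut_complex :
    (Nat.card ↥(Cfsg.upperTriangularGL 2 F) : ℂ) = (Fintype.card F : ℂ) * ((Fintype.card F : ℂ) - 1) ^ 2 := by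
  rw [upperTriangularGL_two_eq, card_borelGL]
  have : 1 ≤ Fintype.card F := Fintype.card_pos
  push_cast [Nat.cast_sub this]
  ring

omit [DecidableEq F] in
theorem card_GL2_complex :
    (Nat.card (GL (Fin 2) F) : ℂ) = (Fintype.card F : ℂ) * ((Fintype.card F : ℂ) - 1) ^ 2 * ((Fintype.card F : ℂ) + 1) := by
  rw [card_GL2]
  have : 1 ≤ Fintype.card F := Fintype.card_pos
  push_cast [Nat.cast_sub this]
  ring

theorem sum_ite_mem_subgroup {G : Type*} [Group G] [Fintype G] (H : Subgroup G) (c d : ℂ) [DecidablePred (· ∈ H)] :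
    ∑ x : G, (if x ∈ H then c else d) = (Nat.card H : ℂ) * c + ((Nat.card G : ℂ) - (Nat.card H : ℂ)) * d := by
  rw [Finset.sum_ite, Finset.sum_const, Finset.sum_const, nsmul_eq_mul, nsmul_eq_mul]
  have h1 : (Finset.univ.filter (fun x : G => x ∈ H)).card = Nat.card H := by
    rw [Nat.card_eq_fintype_card, Fintype.card_subtype]
  have h2 : (Finset.univ.filter (fun x : G => ¬ x ∈ H)).card + Nat.card H = Nat.card G := by
    rw [← h1, Nat.card_eq_fintype_card, add_comm]
    exact Finset.card_filter_add_card_filter_not (fun x : G => x ∈ H)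
  rw [h1]
  have h3 : ((Finset.univ.filter (fun x : G => ¬ x ∈ H)).card : ℂ) = (Nat.card G : ℂ) - (Nat.card H : ℂ) := by
    rw [← h2]; push_cast; ring
  rw [h3]

/-- Mackey formula for the principal series of `GL₂(F)`. -/
theorem classInner_indFun_psChar (α β α' β' : MulChar F ℂ) :
    classInner (indFun (Cfsg.upperTriangularGL 2 F) (psChar α β))
      (indFun (Cfsg.upperTriangularGL 2 F) (psChar α' β'))
      = (if α = α' ∧ β = β' then 1 else 0) + (if α = β' ∧ β = α' then 1 else 0) := by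
  classical
  have : Fintype ↥(Cfsg.upperTriangularGL 2 F) := Fintype.ofFinite _
  rw [frobenius_reciprocity _ _ (indFun_isClassFunction _ _)]
  unfold classInner
  have h1 : ∀ b : ↥(Cfsg.upperTriangularGL 2 F),
      psChar α β b * conj (indFun (Cfsg.upperTriangularGL 2 F) (psChar α' β') (b : GL (Fin 2) F))
      = (Nat.card ↥(Cfsg.upperTriangularGL 2 F) : ℂ)⁻¹ * ∑ x : GL (Fin 2) F, psChar α β b *
        conj (extendByZero (Cfsg.upperTriangularGL 2 F) (psChar α' β') (x⁻¹ * (b : GL (Fin 2) F) * x)) := by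
    intro b
    unfold Cfsg.indFun
    rw [map_mul, map_inv₀, map_natCast, map_sum, Finset.mul_sum, Finset.mul_sum, Finset.mul_sum]
    apply Finset.sum_congr rfl
    intro x _
    ring
  rw [Finset.sum_congr rfl (fun b _ => h1 b), ← Finset.mul_sum, Finset.sum_comm]
  have h2 : ∀ x : GL (Fin 2) F, (∑ b : ↥(Cfsg.upperTriangularGL 2 F), psChar α β b *
        conj (extendByZero (Cfsg.upperTriangularGL 2 F) (psChar α' β') (x⁻¹ * (b : GL (Fin 2) F) * x)))
      = if x ∈ Cfsg.upperTriangularGL 2 F then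
          (Fintype.card F : ℂ) * ((∑ a : F, α a * conj (α' a)) * (∑ d : F, β d * conj (β' d)))
        else (∑ a : F, α a * conj (β' a)) * (∑ d : F, β d * conj (α' d)) := by
    intro x
    split_ifs with hx
    · exact psT_of_mem α β α' β' hx
    · exact psT_of_not_mem α β α' β' hx
  rw [Finset.sum_congr rfl (fun x _ => h2 x), sum_ite_mem_subgroup, card_ut_complex, card_GL2_complex]
  simp only [sum_mulChar_mul_conj]
  have hq0 : (Fintype.card F : ℂ) ≠ 0 := by
    exact_mod_cast (Fintype.card_pos (α := F)).ne'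
  have hq1 : (Fintype.card F : ℂ) - 1 ≠ 0 := by
    have : 1 < Fintype.card F := Fintype.one_lt_card
    rw [sub_ne_zero]
    exact_mod_cast this.ne'
  split_ifs <;> first | (exfalso; tauto) | (field_simp; try ring)

end finite

end Cfsg.Agent.Lib.Helper13
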