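/-
helper13: values of the principal series characters of GL₂(F) at unipotent, split semisimple and
elliptic elements; the characters `α ∘ det` and the Steinberg-type characters; the sum of all
principal series characters is the permutation character on `G/U`.
-/
import Mathlib
import Cfsg.Agent.Lib.Helper13.PSBasic
import Cfsg.Agent.Lib.Helper6.CharExtra

set_option autoImplicit false

namespace Cfsg.Agent.Lib.Helper13

open Matrix Cfsg Cfsg.Agent.CharLib
open scoped ComplexConjugate

variable {F : Type*} [Field F]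

theorem card_ut_ne_zero [Fintype F] : (Nat.card ↥(Cfsg.upperTriangularGL 2 F) : ℂ) ≠ 0 := by
  exact_mod_cast Nat.card_pos.ne'

/-- If a conjugate `x⁻¹ g x` is upper triangular then the first column of `x` is an eigenvector of `g`. -/
theorem eigen_of_conj_mem (x g : GL (Fin 2) F) (h : x⁻¹ * g * x ∈ Cfsg.upperTriangularGL 2 F) :
    ∃ (c : F) (v : Fin 2 → F), v ≠ 0 ∧ (g : Matrix (Fin 2) (Fin 2) F).mulVec v = c • v := by
  set y := x⁻¹ * g * x with hy
  have hxy : (x : Matrix (Fin 2) (Fin 2) F) * (y : Matrix (Fin 2) (Fin 2) F)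
      = (g : Matrix (Fin 2) (Fin 2) F) * (x : Matrix (Fin 2) (Fin 2) F) := by
    rw [← Units.val_mul, ← Units.val_mul]
    congr 1
    rw [hy]; group
  have hy10 := mem_upperTriangularGL_two.mp h
  refine ⟨(y : Matrix (Fin 2) (Fin 2) F) 0 0, fun i => (x : Matrix (Fin 2) (Fin 2) F) i 0, ?_, ?_⟩
  · intro h0
    have hdet : (x : Matrix (Fin 2) (Fin 2) F).det ≠ 0 :=
      ((Matrix.isUnit_iff_isUnit_det _).mp x.isUnit).ne_zero
    apply hdet
    rw [Matrix.det_fin_two]
    have h00 := congr_fun h0 0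
    have h10 := congr_fun h0 1
    simp only [Pi.zero_apply] at h00 h10
    rw [h00, h10]; ring
  · funext i
    have := congr_fun (congr_fun hxy i) 0
    simp only [Matrix.mul_apply, Fin.sum_univ_two, hy10, mul_zero, add_zero] at this
    simp only [Matrix.mulVec, dotProduct, Fin.sum_univ_two, Pi.smul_apply, smul_eq_mul]
    rw [← this]; ring

/-- For a transvection `u = [[1,t],[0,1]]`, `t ≠ 0`: a conjugate `x⁻¹ u x` is upper triangular iff `x` is. -/
theorem conj_unip_mem_iff (x u : GL (Fin 2) F) (t : F) (ht : t ≠ 0)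
    (hu : (u : Matrix (Fin 2) (Fin 2) F) = !![1, t; 0, 1]) :
    x⁻¹ * u * x ∈ Cfsg.upperTriangularGL 2 F ↔ x ∈ Cfsg.upperTriangularGL 2 F := by
  have hu_mem : u ∈ Cfsg.upperTriangularGL 2 F := by
    rw [mem_upperTriangularGL_two, hu]; simp
  constructor
  · intro h
    set y := x⁻¹ * u * x with hy
    have hxy : (x : Matrix (Fin 2) (Fin 2) F) * (y : Matrix (Fin 2) (Fin 2) F)
        = (u : Matrix (Fin 2) (Fin 2) F) * (x : Matrix (Fin 2) (Fin 2) F) := by
      rw [← Units.val_mul, ← Units.val_mul]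
      congr 1
      rw [hy]; group
    have hy10 := mem_upperTriangularGL_two.mp h
    rw [mem_upperTriangularGL_two]
    have h00 := congr_fun (congr_fun hxy 0) 0
    have h10 := congr_fun (congr_fun hxy 1) 0
    rw [hu] at h00 h10
    simp only [Matrix.mul_apply, Fin.sum_univ_two, hy10, mul_zero, add_zero, Matrix.of_apply,
      Matrix.cons_val_zero, Matrix.cons_val_one, Matrix.cons_val', one_mul, zero_mul, zero_add,
      Matrix.cons_val_fin_one] at h00 h10
    by_contra hx
    have h1 : (y : Matrix (Fin 2) (Fin 2) F) 0 0 = 1 := by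
      have : (x : Matrix (Fin 2) (Fin 2) F) 1 0 * ((y : Matrix (Fin 2) (Fin 2) F) 0 0 - 1) = 0 := by
        linear_combination h10
      rcases mul_eq_zero.mp this with h' | h'
      · exact absurd h' hx
      · exact sub_eq_zero.mp h'
    rw [h1, mul_one] at h00
    have : t * (x : Matrix (Fin 2) (Fin 2) F) 1 0 = 0 := by linear_combination -h00
    rcases mul_eq_zero.mp this with h' | h'
    · exact ht h'
    · exact hx h'
  · intro hx
    exact Subgroup.mul_mem _ (Subgroup.mul_mem _ (Subgroup.inv_mem _ hx) hu_mem) hx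

theorem conj_mem_ut_iff {x : GL (Fin 2) F} (hx : x ∈ Cfsg.upperTriangularGL 2 F) (g : GL (Fin 2) F) :
    x⁻¹ * g * x ∈ Cfsg.upperTriangularGL 2 F ↔ g ∈ Cfsg.upperTriangularGL 2 F := by
  constructor
  · intro h
    have : g = x * (x⁻¹ * g * x) * x⁻¹ := by group
    rw [this]
    exact Subgroup.mul_mem _ (Subgroup.mul_mem _ hx h) (Subgroup.inv_mem _ hx)
  · intro h
    exact Subgroup.mul_mem _ (Subgroup.mul_mem _ (Subgroup.inv_mem _ hx) h) hx

/-- `psChar` extended by zero is invariant under conjugation by elements of the Borel subgroup. -/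
theorem extendByZero_psChar_conj (α β : MulChar F ℂ) {x : GL (Fin 2) F}
    (hx : x ∈ Cfsg.upperTriangularGL 2 F) (g : GL (Fin 2) F) :
    extendByZero (Cfsg.upperTriangularGL 2 F) (psChar α β) (x⁻¹ * g * x) =
      extendByZero (Cfsg.upperTriangularGL 2 F) (psChar α β) g := by
  by_cases hg : g ∈ Cfsg.upperTriangularGL 2 F
  · have e1 : x⁻¹ * g * x = ((⟨x, hx⟩⁻¹ * ⟨g, hg⟩ * ⟨x, hx⟩ : ↥(Cfsg.upperTriangularGL 2 F)) : GL (Fin 2) F) := by
      simp
    have e0 : g = ((⟨g, hg⟩ : ↥(Cfsg.upperTriangularGL 2 F)) : GL (Fin 2) F) := rfl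
    rw [e1, extendByZero_apply_coe]
    conv_rhs => rw [e0, extendByZero_apply_coe]
    change psHom α β (⟨x, hx⟩⁻¹ * ⟨g, hg⟩ * ⟨x, hx⟩) = psHom α β ⟨g, hg⟩
    rw [map_mul, map_mul, mul_comm (psHom _ _ _), mul_assoc, ← map_mul, inv_mul_cancel, map_one, mul_one]
  · rw [extendByZero_apply_of_not_mem _ _ hg, extendByZero_apply_of_not_mem]
    rw [conj_mem_ut_iff hx]
    exact hg

/-- Conjugating a diagonal matrix with distinct diagonal entries into the Borel subgroup. -/
theorem split_aux (X Y Gm : Matrix (Fin 2) (Fin 2) F) (h : X * Y = Gm * X)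
    (hG01 : Gm 0 1 = 0) (hG10 : Gm 1 0 = 0) (hne : Gm 0 0 ≠ Gm 1 1) (hdet : X.det ≠ 0) :
    (Y 1 0 = 0 ↔ X 0 0 = 0 ∨ X 1 0 = 0) ∧
    (X 1 0 = 0 → Y 0 0 = Gm 0 0 ∧ Y 1 1 = Gm 1 1) ∧
    (X 0 0 = 0 → Y 0 0 = Gm 1 1 ∧ Y 1 1 = Gm 0 0) := by
  have h00 := congr_fun (congr_fun h 0) 0
  have h01 := congr_fun (congr_fun h 0) 1
  have h10 := congr_fun (congr_fun h 1) 0
  have h11 := congr_fun (congr_fun h 1) 1
  simp only [Matrix.mul_apply, Fin.sum_univ_two, hG01, hG10, zero_mul, zero_add, add_zero] at h00 h01 h10 h11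
  rw [Matrix.det_fin_two] at hdet
  have key : (X 0 0 * X 1 1 - X 0 1 * X 1 0) * Y 1 0 = X 0 0 * X 1 0 * (Gm 1 1 - Gm 0 0) := by
    linear_combination X 0 0 * h10 - X 1 0 * h00
  refine ⟨⟨?_, ?_⟩, ?_, ?_⟩
  · intro hy
    rw [hy, mul_zero] at key
    have hd : Gm 1 1 - Gm 0 0 ≠ 0 := sub_ne_zero.mpr (Ne.symm hne)
    rcases mul_eq_zero.mp key.symm with h' | h'
    · exact mul_eq_zero.mp h'
    · exact absurd h' hd
  · intro hx
    have : X 0 0 * X 1 0 = 0 := by
      rcases hx with h' | h' <;> simp [h']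
    rw [this, zero_mul] at key
    rcases mul_eq_zero.mp key with h' | h'
    · exact absurd h' hdet
    · exact h'
  · intro hx
    rw [hx, mul_zero, sub_zero] at hdet
    have hx00 : X 0 0 ≠ 0 := left_ne_zero_of_mul hdet
    have hx11 : X 1 1 ≠ 0 := right_ne_zero_of_mul hdet
    rw [hx, zero_mul, zero_add, mul_zero] at h10
    have hy : Y 1 0 = 0 := by
      rcases mul_eq_zero.mp h10 with h' | h'
      · exact absurd h' hx11
      · exact h'
    rw [hy, mul_zero, add_zero] at h00
    rw [hx, zero_mul, zero_add] at h11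
    exact ⟨mul_left_cancel₀ hx00 (by linear_combination h00), mul_left_cancel₀ hx11 (by linear_combination h11)⟩
  · intro hx
    rw [hx, zero_mul, zero_sub, neg_ne_zero] at hdet
    have hx01 : X 0 1 ≠ 0 := left_ne_zero_of_mul hdet
    have hx10 : X 1 0 ≠ 0 := right_ne_zero_of_mul hdet
    rw [hx, zero_mul, zero_add, mul_zero] at h00
    have hy : Y 1 0 = 0 := by
      rcases mul_eq_zero.mp h00 with h' | h'
      · exact absurd h' hx01
      · exact h'
    rw [hy, mul_zero, add_zero] at h10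
    rw [hx, zero_mul, zero_add] at h01
    exact ⟨mul_left_cancel₀ hx10 (by linear_combination h10), mul_left_cancel₀ hx01 (by linear_combination h01)⟩

/-- The Weyl element `[[0,1],[1,0]]`. -/
noncomputable def wGL (F : Type*) [Field F] : GL (Fin 2) F :=
  Matrix.GeneralLinearGroup.mkOfDetNeZero !![0, 1; 1, 0] (by simp [Matrix.det_fin_two])

theorem wGL_mul_apply (x : GL (Fin 2) F) (j : Fin 2) :
    ((wGL F * x : GL (Fin 2) F) : Matrix (Fin 2) (Fin 2) F) 1 j = (x : Matrix (Fin 2) (Fin 2) F) 0 j := by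
  rw [Units.val_mul, Matrix.mul_apply, Fin.sum_univ_two]
  simp [wGL, Matrix.GeneralLinearGroup.mkOfDetNeZero]

/-- The linear character `α ∘ det` of `GL₂(F)`. -/
noncomputable def detChar (α : MulChar F ℂ) : GL (Fin 2) F → ℂ :=
  fun g => α ((g : Matrix (Fin 2) (Fin 2) F).det)

theorem detChar_apply (α : MulChar F ℂ) (g : GL (Fin 2) F) :
    detChar α g = α ((g : Matrix (Fin 2) (Fin 2) F).det) := rfl

theorem isIrrCharacter_detChar (α : MulChar F ℂ) : IsIrrCharacter (GL (Fin 2) F) (detChar α) := by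
  have := Cfsg.Agent.Lib.Helper6.isIrrCharacter_of_hom
    (α.toUnitHom.comp (Matrix.GeneralLinearGroup.det : GL (Fin 2) F →* Fˣ))
  convert this using 1
  funext g
  rw [detChar_apply, MonoidHom.comp_apply, MulChar.coe_toUnitHom]
  rfl

theorem detChar_one (α : MulChar F ℂ) : detChar α 1 = 1 := by
  simp [detChar_apply]

theorem detChar_coe_ut (α : MulChar F ℂ) (b : ↥(Cfsg.upperTriangularGL 2 F)) :
    detChar α (b : GL (Fin 2) F) = psChar α α b := by
  rw [detChar_apply, psChar_apply, Matrix.det_fin_two, mem_upperTriangularGL_two.mp b.2, mul_zero,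
    sub_zero, map_mul]

theorem unipGL_le_ut : unipGL F ≤ Cfsg.upperTriangularGL 2 F := by
  intro g hg
  obtain ⟨t, rfl⟩ := mem_unipGL.mp hg
  rw [mem_upperTriangularGL_two]; simp

theorem mem_unipGL_iff {g : GL (Fin 2) F} : g ∈ unipGL F ↔
    (g : Matrix (Fin 2) (Fin 2) F) 1 0 = 0 ∧ (g : Matrix (Fin 2) (Fin 2) F) 0 0 = 1 ∧
      (g : Matrix (Fin 2) (Fin 2) F) 1 1 = 1 := by
  constructor
  · intro hg
    obtain ⟨t, rfl⟩ := mem_unipGL.mp hg
    simp
  · rintro ⟨h10, h00, h11⟩
    rw [mem_unipGL]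
    refine ⟨(g : Matrix (Fin 2) (Fin 2) F) 0 1, ?_⟩
    apply Units.ext
    rw [tGL_coe]
    ext i j
    fin_cases i <;> fin_cases j <;> simp [h10, h00, h11]

/-- The diagonal matrix `diag(t, 1)`. -/
noncomputable def dGL (t : Fˣ) : GL (Fin 2) F :=
  Matrix.GeneralLinearGroup.mkOfDetNeZero !![(t : F), 0; 0, 1] (by simp [Matrix.det_fin_two])

theorem dGL_conj (t : Fˣ) : dGL t * tGL 1 * (dGL t)⁻¹ = tGL (t : F) := by
  rw [mul_inv_eq_iff_eq_mul]
  apply Units.ext
  rw [Units.val_mul, Units.val_mul, tGL_coe, tGL_coe]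
  ext i j
  fin_cases i <;> fin_cases j <;> simp [dGL, Matrix.GeneralLinearGroup.mkOfDetNeZero]

theorem classFunction_tGL {χ : GL (Fin 2) F → ℂ} (hχ : IsClassFunction (GL (Fin 2) F) χ) {t : F}
    (ht : t ≠ 0) : χ (tGL t) = χ (tGL 1) := by
  have := hχ (tGL 1) (dGL (Units.mk0 t ht))
  rw [dGL_conj] at this
  exact this

/-- The unipotent radical is in bijection with `F`. -/
noncomputable def unipEquiv (F : Type*) [Field F] : F ≃ ↥(unipGL F) :=
  Equiv.ofBijective (fun t => ⟨tGL t, tGL_mem_unipGL t⟩) (by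
    constructor
    · intro a b h
      exact tGL_injective (congrArg Subtype.val h)
    · rintro ⟨g, hg⟩
      obtain ⟨t, rfl⟩ := mem_unipGL.mp hg
      exact ⟨t, rfl⟩)

section finite

variable [Fintype F] [DecidableEq F]

/-- Induced functions from the Borel subgroup vanish at elements without eigenvectors. -/
theorem indFun_ut_elliptic (θ : ↥(Cfsg.upperTriangularGL 2 F) → ℂ) (g : GL (Fin 2) F)
    (hg : ∀ (c : F) (v : Fin 2 → F), v ≠ 0 → (g : Matrix (Fin 2) (Fin 2) F).mulVec v ≠ c • v) :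
    indFun (Cfsg.upperTriangularGL 2 F) θ g = 0 := by
  unfold Cfsg.indFun
  rw [Finset.sum_eq_zero, mul_zero]
  intro x _
  apply extendByZero_apply_of_not_mem
  intro h
  obtain ⟨c, v, hv, hcv⟩ := eigen_of_conj_mem x g h
  exact hg c v hv hcv

/-- The principal series characters take the value 1 at non-identity upper unitriangular elements. -/
theorem indFun_psChar_unip (α β : MulChar F ℂ) (u : GL (Fin 2) F) (t : F) (ht : t ≠ 0)
    (hu : (u : Matrix (Fin 2) (Fin 2) F) = !![1, t; 0, 1]) :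
    indFun (Cfsg.upperTriangularGL 2 F) (psChar α β) u = 1 := by
  classical
  have hu_mem : u ∈ Cfsg.upperTriangularGL 2 F := by
    rw [mem_upperTriangularGL_two, hu]; simp
  unfold Cfsg.indFun
  have h1 : ∀ x : GL (Fin 2) F, extendByZero (Cfsg.upperTriangularGL 2 F) (psChar α β) (x⁻¹ * u * x)
      = if x ∈ Cfsg.upperTriangularGL 2 F then 1 else 0 := by
    intro x
    split_ifs with hx
    · rw [extendByZero_psChar_conj α β hx]
      have e0 : u = ((⟨u, hu_mem⟩ : ↥(Cfsg.upperTriangularGL 2 F)) : GL (Fin 2) F) := rfl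
      rw [e0, extendByZero_apply_coe, psChar_apply]
      simp [hu]
    · apply extendByZero_apply_of_not_mem
      rw [conj_unip_mem_iff x u t ht hu]
      exact hx
  rw [Finset.sum_congr rfl (fun x _ => h1 x), sum_ite_mem_subgroup, mul_one, mul_zero, add_zero]
  exact inv_mul_cancel₀ card_ut_ne_zero

theorem sum_ite_zero_zero (c : ℂ) :
    ∑ x : GL (Fin 2) F, (if (x : Matrix (Fin 2) (Fin 2) F) 0 0 = 0 then c else 0) =
      (Nat.card ↥(Cfsg.upperTriangularGL 2 F) : ℂ) * c := by
  classical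
  have h1 : ∀ x : GL (Fin 2) F, (if (x : Matrix (Fin 2) (Fin 2) F) 0 0 = 0 then c else 0) =
      (fun y : GL (Fin 2) F => if y ∈ Cfsg.upperTriangularGL 2 F then c else 0) (Equiv.mulLeft (wGL F) x) := by
    intro x
    simp only [Equiv.coe_mulLeft, mem_upperTriangularGL_two, wGL_mul_apply]
  rw [Finset.sum_congr rfl (fun x _ => h1 x),
    Fintype.sum_equiv (Equiv.mulLeft (wGL F)) _ (fun y : GL (Fin 2) F => if y ∈ Cfsg.upperTriangularGL 2 F then c else 0) (fun _ => rfl),
    sum_ite_mem_subgroup, mul_zero, add_zero]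

/-- Values of the principal series characters at diagonal matrices with distinct entries. -/
theorem indFun_psChar_split (α β : MulChar F ℂ) (g : GL (Fin 2) F)
    (h01 : (g : Matrix (Fin 2) (Fin 2) F) 0 1 = 0) (h10 : (g : Matrix (Fin 2) (Fin 2) F) 1 0 = 0)
    (hne : (g : Matrix (Fin 2) (Fin 2) F) 0 0 ≠ (g : Matrix (Fin 2) (Fin 2) F) 1 1) :
    indFun (Cfsg.upperTriangularGL 2 F) (psChar α β) g =
      α ((g : Matrix (Fin 2) (Fin 2) F) 0 0) * β ((g : Matrix (Fin 2) (Fin 2) F) 1 1) +
      α ((g : Matrix (Fin 2) (Fin 2) F) 1 1) * β ((g : Matrix (Fin 2) (Fin 2) F) 0 0) := by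
  classical
  unfold Cfsg.indFun
  have h1 : ∀ x : GL (Fin 2) F, extendByZero (Cfsg.upperTriangularGL 2 F) (psChar α β) (x⁻¹ * g * x)
      = (if x ∈ Cfsg.upperTriangularGL 2 F then
          α ((g : Matrix (Fin 2) (Fin 2) F) 0 0) * β ((g : Matrix (Fin 2) (Fin 2) F) 1 1) else 0) +
        (if (x : Matrix (Fin 2) (Fin 2) F) 0 0 = 0 then
          α ((g : Matrix (Fin 2) (Fin 2) F) 1 1) * β ((g : Matrix (Fin 2) (Fin 2) F) 0 0) else 0) := by
    intro x
    have hxy : (x : Matrix (Fin 2) (Fin 2) F) * ((x⁻¹ * g * x : GL (Fin 2) F) : Matrix (Fin 2) (Fin 2) F)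
        = (g : Matrix (Fin 2) (Fin 2) F) * (x : Matrix (Fin 2) (Fin 2) F) := by
      rw [← Units.val_mul, ← Units.val_mul]
      congr 1
      group
    have hdet : (x : Matrix (Fin 2) (Fin 2) F).det ≠ 0 :=
      ((Matrix.isUnit_iff_isUnit_det _).mp x.isUnit).ne_zero
    obtain ⟨hiff, hB, hW⟩ := split_aux _ _ _ hxy h01 h10 hne hdet
    have hdet' := hdet
    rw [Matrix.det_fin_two] at hdet'
    by_cases hx10 : (x : Matrix (Fin 2) (Fin 2) F) 1 0 = 0
    · have hx00 : (x : Matrix (Fin 2) (Fin 2) F) 0 0 ≠ 0 := by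
        intro h0; apply hdet'; rw [h0, hx10]; ring
      have hm : x⁻¹ * g * x ∈ Cfsg.upperTriangularGL 2 F :=
        mem_upperTriangularGL_two.mpr (hiff.mpr (Or.inr hx10))
      rw [if_pos (mem_upperTriangularGL_two.mpr hx10), if_neg hx00, add_zero]
      have e1 : extendByZero (Cfsg.upperTriangularGL 2 F) (psChar α β) (x⁻¹ * g * x)
          = psChar α β ⟨_, hm⟩ := extendByZero_apply_coe _ _ ⟨_, hm⟩
      rw [e1, psChar_apply]
      obtain ⟨d0, d1⟩ := hB hx10
      simp only [d0, d1]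
    · by_cases hx00 : (x : Matrix (Fin 2) (Fin 2) F) 0 0 = 0
      · have hm : x⁻¹ * g * x ∈ Cfsg.upperTriangularGL 2 F :=
          mem_upperTriangularGL_two.mpr (hiff.mpr (Or.inl hx00))
        rw [if_neg (fun h => hx10 (mem_upperTriangularGL_two.mp h)), if_pos hx00, zero_add]
        have e1 : extendByZero (Cfsg.upperTriangularGL 2 F) (psChar α β) (x⁻¹ * g * x)
            = psChar α β ⟨_, hm⟩ := extendByZero_apply_coe _ _ ⟨_, hm⟩
        rw [e1, psChar_apply]
        obtain ⟨d0, d1⟩ := hW hx00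
        simp only [d0, d1]
      · rw [if_neg (fun h => hx10 (mem_upperTriangularGL_two.mp h)), if_neg hx00, add_zero]
        apply extendByZero_apply_of_not_mem
        intro hm
        rcases hiff.mp (mem_upperTriangularGL_two.mp hm) with h' | h'
        · exact hx00 h'
        · exact hx10 h'
  rw [Finset.sum_congr rfl (fun x _ => h1 x), Finset.sum_add_distrib, sum_ite_mem_subgroup,
    sum_ite_zero_zero, mul_zero, add_zero, ← mul_add, ← mul_assoc, inv_mul_cancel₀ card_ut_ne_zero, one_mul]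

theorem classInner_sub_right' {G : Type*} [Group G] [Fintype G] (φ ψ₁ ψ₂ : G → ℂ) :
    classInner φ (ψ₁ - ψ₂) = classInner φ ψ₁ - classInner φ ψ₂ := by
  unfold classInner
  rw [← mul_sub, ← Finset.sum_sub_distrib]
  congr 1
  apply Finset.sum_congr rfl
  intro g _
  rw [Pi.sub_apply, map_sub, mul_sub]

/-- Inner products of the linear characters of the Borel subgroup. -/
theorem classInner_psChar [Fintype ↥(Cfsg.upperTriangularGL 2 F)] (α β α' β' : MulChar F ℂ) :
    classInner (psChar α β) (psChar α' β') = if α = α' ∧ β = β' then 1 else 0 := by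
  have h := psT_of_mem α β α' β' (Subgroup.one_mem (Cfsg.upperTriangularGL 2 F))
  unfold psT at h
  have h1 : ∀ b : ↥(Cfsg.upperTriangularGL 2 F),
      psChar α β b * conj (extendByZero (Cfsg.upperTriangularGL 2 F) (psChar α' β')
        ((1 : GL (Fin 2) F)⁻¹ * (b : GL (Fin 2) F) * 1)) = psChar α β b * conj (psChar α' β' b) := by
    intro b
    rw [inv_one, one_mul, mul_one, extendByZero_apply_coe]
  rw [Finset.sum_congr rfl (fun b _ => h1 b)] at h
  unfold classInner
  rw [h, card_ut_complex]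
  simp only [sum_mulChar_mul_conj]
  have hq0 : (Fintype.card F : ℂ) ≠ 0 := by
    exact_mod_cast (Fintype.card_pos (α := F)).ne'
  have hq1 : (Fintype.card F : ℂ) - 1 ≠ 0 := by
    have : 1 < Fintype.card F := Fintype.one_lt_card
    rw [sub_ne_zero]
    exact_mod_cast this.ne'
  split_ifs <;> first | (exfalso; tauto) | (simp; done) | (field_simp; done)

/-- Multiplicity of `γ ∘ det` in the principal series. -/
theorem classInner_indFun_psChar_detChar (α β γ : MulChar F ℂ) :
    classInner (indFun (Cfsg.upperTriangularGL 2 F) (psChar α β)) (detChar γ) =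
      if α = γ ∧ β = γ then 1 else 0 := by
  have : Fintype ↥(Cfsg.upperTriangularGL 2 F) := Fintype.ofFinite _
  rw [frobenius_reciprocity _ _ (IsCharacter.isClassFunction (IsIrrCharacter.isCharacter (isIrrCharacter_detChar γ)))]
  have : (fun b : ↥(Cfsg.upperTriangularGL 2 F) => detChar γ (b : GL (Fin 2) F)) = psChar γ γ := by
    funext b; exact detChar_coe_ut γ b
  rw [this, classInner_psChar]

/-- The Steinberg-type character `St ⊗ (α ∘ det)`. -/
noncomputable def stChar (α : MulChar F ℂ) : GL (Fin 2) F → ℂ :=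
  indFun (Cfsg.upperTriangularGL 2 F) (psChar α α) - detChar α

theorem indFun_psChar_self_eq (α : MulChar F ℂ) :
    indFun (Cfsg.upperTriangularGL 2 F) (psChar α α) = detChar α + stChar α := by
  unfold stChar; ring

theorem isIrrCharacter_stChar (α : MulChar F ℂ) : IsIrrCharacter (GL (Fin 2) F) (stChar α) := by
  have hΦ := IsCharacter.indFun (Cfsg.upperTriangularGL 2 F) (isCharacter_psChar α α)
  have hψ := isIrrCharacter_detChar α
  have h1 : classInner (indFun (Cfsg.upperTriangularGL 2 F) (psChar α α)) (detChar α) = 1 := by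
    rw [classInner_indFun_psChar_detChar, if_pos ⟨rfl, rfl⟩]
  have hchar : IsCharacter (GL (Fin 2) F) (stChar α) :=
    Cfsg.Agent.Lib.Helper6.IsCharacter.sub_constituent hΦ hψ (by rw [h1]; exact one_ne_zero)
  apply Cfsg.Agent.Lib.Helper6.isIrrCharacter_of_classInner_self_eq_one hchar
  have h2 : classInner (detChar α) (indFun (Cfsg.upperTriangularGL 2 F) (psChar α α)) = 1 := by
    rw [← classInner_conj_symm, h1, map_one]
  have h3 : classInner (detChar α) (detChar α) = 1 := by
    rw [classInner_irr hψ hψ, if_pos rfl]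
  have h4 := classInner_indFun_psChar α α α α
  rw [if_pos ⟨rfl, rfl⟩] at h4
  unfold stChar
  rw [classInner_sub_left, classInner_sub_right', classInner_sub_right', h1, h2, h3, h4]
  norm_num

noncomputable instance instFintypeMulCharComplex : Fintype (MulChar F ℂ) := Fintype.ofFinite _

instance instNeZeroExponentUnits : NeZero (Monoid.exponent Fˣ) := ⟨Monoid.exponent_ne_zero_of_finite⟩

/-- Column orthogonality for the multiplicative characters of a finite field. -/
theorem sum_mulChar_apply (a : F) :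
    ∑ α : MulChar F ℂ, α a = if a = 1 then ((Fintype.card F : ℂ) - 1) else 0 := by
  split_ifs with ha
  · subst ha
    simp only [map_one, Finset.sum_const, Finset.card_univ, nsmul_eq_mul, mul_one]
    rw [← Nat.card_eq_fintype_card, MulChar.card_eq_card_units_of_hasEnoughRootsOfUnity F ℂ,
      Nat.card_units, Nat.card_eq_fintype_card]
    have : 1 ≤ Fintype.card F := Fintype.card_pos
    push_cast [Nat.cast_sub this]
    ring
  · obtain ⟨χ, hχ⟩ := MulChar.exists_apply_ne_one_of_hasEnoughRootsOfUnity F ℂ ha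
    refine eq_zero_of_mul_eq_self_left hχ ?_
    simp only [Finset.mul_sum, ← MulChar.mul_apply]
    exact Fintype.sum_bijective _ (Group.mulLeft_bijective χ) _ _ fun χ' ↦ rfl

/-- Summing the linear characters of the Borel subgroup gives `(q-1)²` times the indicator of the
unipotent radical. -/
theorem sum_extendByZero_psChar (y : GL (Fin 2) F) :
    ∑ α : MulChar F ℂ, ∑ β : MulChar F ℂ, extendByZero (Cfsg.upperTriangularGL 2 F) (psChar α β) y =
      ((Fintype.card F : ℂ) - 1) ^ 2 * extendByZero (unipGL F) (fun _ => 1) y := by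
  by_cases hy : y ∈ Cfsg.upperTriangularGL 2 F
  · have e0 : y = ((⟨y, hy⟩ : ↥(Cfsg.upperTriangularGL 2 F)) : GL (Fin 2) F) := rfl
    have h1 : ∀ α β : MulChar F ℂ, extendByZero (Cfsg.upperTriangularGL 2 F) (psChar α β) y =
        α ((y : Matrix (Fin 2) (Fin 2) F) 0 0) * β ((y : Matrix (Fin 2) (Fin 2) F) 1 1) := by
      intro α β
      conv_lhs => rw [e0, extendByZero_apply_coe, psChar_apply]
    simp_rw [h1]
    simp_rw [← Finset.mul_sum]
    rw [← Finset.sum_mul, sum_mulChar_apply, sum_mulChar_apply]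
    by_cases hU : y ∈ unipGL F
    · have e1 : y = ((⟨y, hU⟩ : ↥(unipGL F)) : GL (Fin 2) F) := rfl
      conv_rhs => rw [e1, extendByZero_apply_coe]
      obtain ⟨-, h00, h11⟩ := mem_unipGL_iff.mp hU
      rw [if_pos h00, if_pos h11]; ring
    · rw [extendByZero_apply_of_not_mem _ _ hU, mul_zero]
      have : ¬ ((y : Matrix (Fin 2) (Fin 2) F) 0 0 = 1 ∧ (y : Matrix (Fin 2) (Fin 2) F) 1 1 = 1) := by
        rintro ⟨h00, h11⟩
        exact hU (mem_unipGL_iff.mpr ⟨mem_upperTriangularGL_two.mp hy, h00, h11⟩)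
      split_ifs with h00 h11 <;> simp_all
  · have hU : y ∉ unipGL F := fun h => hy (unipGL_le_ut h)
    rw [extendByZero_apply_of_not_mem _ _ hU, mul_zero]
    apply Finset.sum_eq_zero; intro α _
    apply Finset.sum_eq_zero; intro β _
    exact extendByZero_apply_of_not_mem _ _ hy

omit [DecidableEq F] in
theorem card_unipGL_complex : (Nat.card ↥(unipGL F) : ℂ) = (Fintype.card F : ℂ) := by
  rw [card_unipGL, Nat.card_eq_fintype_card]

/-- The sum of all principal series characters is the permutation character on `G/U`. -/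
theorem sum_indFun_psChar :
    ∑ α : MulChar F ℂ, ∑ β : MulChar F ℂ, indFun (Cfsg.upperTriangularGL 2 F) (psChar α β) =
      indFun (unipGL F) (fun _ => 1) := by
  funext g
  simp only [Finset.sum_apply]
  unfold Cfsg.indFun
  have hswap : ∑ α : MulChar F ℂ, ∑ β : MulChar F ℂ, ∑ x : GL (Fin 2) F,
      extendByZero (Cfsg.upperTriangularGL 2 F) (psChar α β) (x⁻¹ * g * x) =
      ∑ x : GL (Fin 2) F, ∑ α : MulChar F ℂ, ∑ β : MulChar F ℂ,
      extendByZero (Cfsg.upperTriangularGL 2 F) (psChar α β) (x⁻¹ * g * x) := by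
    calc _ = ∑ α : MulChar F ℂ, ∑ x : GL (Fin 2) F, ∑ β : MulChar F ℂ,
          extendByZero (Cfsg.upperTriangularGL 2 F) (psChar α β) (x⁻¹ * g * x) := by
            apply Finset.sum_congr rfl; intro α _; exact Finset.sum_comm
      _ = _ := Finset.sum_comm
  have h2 : ∑ α : MulChar F ℂ, ∑ β : MulChar F ℂ, (Nat.card ↥(Cfsg.upperTriangularGL 2 F) : ℂ)⁻¹ *
      ∑ x : GL (Fin 2) F, extendByZero (Cfsg.upperTriangularGL 2 F) (psChar α β) (x⁻¹ * g * x) =
      (Nat.card ↥(Cfsg.upperTriangularGL 2 F) : ℂ)⁻¹ * ∑ α : MulChar F ℂ, ∑ β : MulChar F ℂ,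
      ∑ x : GL (Fin 2) F, extendByZero (Cfsg.upperTriangularGL 2 F) (psChar α β) (x⁻¹ * g * x) := by
    rw [Finset.mul_sum]
    apply Finset.sum_congr rfl; intro α _
    rw [Finset.mul_sum]
  rw [h2, hswap, Finset.sum_congr rfl (fun x _ => sum_extendByZero_psChar (x⁻¹ * g * x)),
    ← Finset.mul_sum, card_ut_complex, card_unipGL_complex]
  have hq0 : (Fintype.card F : ℂ) ≠ 0 := by
    exact_mod_cast (Fintype.card_pos (α := F)).ne'
  have hq1 : (Fintype.card F : ℂ) - 1 ≠ 0 := by
    have : 1 < Fintype.card F := Fintype.one_lt_card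
    rw [sub_ne_zero]
    exact_mod_cast this.ne'
  field_simp

theorem sum_unip [Fintype ↥(unipGL F)] {χ : GL (Fin 2) F → ℂ} (hχ : IsClassFunction (GL (Fin 2) F) χ) :
    ∑ v : ↥(unipGL F), χ (v : GL (Fin 2) F) = χ 1 + ((Fintype.card F : ℂ) - 1) * χ (tGL 1) := by
  rw [← Fintype.sum_equiv (unipEquiv F) (fun t : F => χ (tGL t)) (fun v : ↥(unipGL F) => χ (v : GL (Fin 2) F))
    (fun _ => rfl)]
  have h1 : ∀ t : F, χ (tGL t) = χ (tGL 1) + (if t = 0 then (χ 1 - χ (tGL 1)) else 0) := by
    intro t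
    split_ifs with ht
    · rw [ht, tGL_zero]; ring
    · rw [classFunction_tGL hχ ht, add_zero]
  rw [Finset.sum_congr rfl (fun t _ => h1 t), Finset.sum_add_distrib, Finset.sum_ite_eq',
    if_pos (Finset.mem_univ _), Finset.sum_const, Finset.card_univ, nsmul_eq_mul]
  ring

/-- Multiplicity of the trivial character of the unipotent radical. -/
theorem classInner_indFun_unip {χ : GL (Fin 2) F → ℂ} (hχ : IsClassFunction (GL (Fin 2) F) χ) :
    classInner (indFun (unipGL F) (fun _ => 1)) χ =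
      conj (χ 1 + ((Fintype.card F : ℂ) - 1) * χ (tGL 1)) / (Fintype.card F : ℂ) := by
  have : Fintype ↥(unipGL F) := Fintype.ofFinite _
  rw [frobenius_reciprocity _ _ hχ]
  unfold classInner
  simp only [one_mul]
  rw [← map_sum, sum_unip hχ, card_unipGL_complex]
  field_simp

end finite

end Cfsg.Agent.Lib.Helper13
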