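/-
helper13: classification of the irreducible characters of GL₂(F) having a `U`-fixed vector
(constituents of the principal series), and integrality / norm bound for the others.
-/
import Mathlib
import Cfsg.Agent.Lib.Helper13.PSValues
import Cfsg.Agent.Lib.Helper13.GL2Classes
import Cfsg.Agent.Lib.Helper6.CentralHom
import Cfsg.Agent.Lib.Helper24.IntLemmas

set_option autoImplicit false

namespace Cfsg.Agent.Lib.Helper13

open Matrix Cfsg Cfsg.Agent.CharLib
open scoped ComplexConjugate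

section general

variable {F : Type*} [Field F]

theorem scalGL_mem_center (z : Fˣ) : scalGL z ∈ Subgroup.center (GL (Fin 2) F) := by
  rw [Subgroup.mem_center_iff]
  intro g
  apply Units.ext
  rw [Units.val_mul, Units.val_mul, scalGL_coe]
  ext i j
  fin_cases i <;> fin_cases j <;> simp [Matrix.mul_apply, Fin.sum_univ_two, mul_comm]

/-- The lower unitriangular matrix `[[1,0],[s,1]]`. -/
noncomputable def lGL (s : F) : GL (Fin 2) F :=
  Matrix.GeneralLinearGroup.mkOfDetNeZero !![1, 0; s, 1] (by simp [Matrix.det_fin_two])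

theorem lGL_coe (s : F) : ((lGL s : GL (Fin 2) F) : Matrix (Fin 2) (Fin 2) F) = !![1, 0; s, 1] := rfl

theorem lGL_eq (s : F) : lGL s = wGL F * tGL s * (wGL F)⁻¹ := by
  rw [eq_mul_inv_iff_mul_eq]
  apply Units.ext
  rw [Units.val_mul, Units.val_mul, lGL_coe, tGL_coe]
  ext i j
  fin_cases i <;> fin_cases j <;> simp [wGL, Matrix.GeneralLinearGroup.mkOfDetNeZero]

/-- The elements `z • u_t` and `z • l_s` (`s ≠ 0`). -/
noncomputable def embZU : (Fˣ × F) ⊕ (Fˣ × Fˣ) → GL (Fin 2) F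
  | Sum.inl p => scalGL p.1 * tGL p.2
  | Sum.inr p => scalGL p.1 * lGL (p.2 : F)

theorem embZU_inl_coe (p : Fˣ × F) :
    ((embZU (Sum.inl p) : GL (Fin 2) F) : Matrix (Fin 2) (Fin 2) F) = !![(p.1 : F), p.1 * p.2; 0, (p.1 : F)] := by
  change ((scalGL p.1 * tGL p.2 : GL (Fin 2) F) : Matrix (Fin 2) (Fin 2) F) = _
  rw [Units.val_mul, scalGL_coe, tGL_coe]
  ext i j
  fin_cases i <;> fin_cases j <;> simp

theorem embZU_inr_coe (p : Fˣ × Fˣ) :
    ((embZU (Sum.inr p) : GL (Fin 2) F) : Matrix (Fin 2) (Fin 2) F) = !![(p.1 : F), 0; p.1 * p.2, (p.1 : F)] := by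
  change ((scalGL p.1 * lGL (p.2 : F) : GL (Fin 2) F) : Matrix (Fin 2) (Fin 2) F) = _
  rw [Units.val_mul, scalGL_coe, lGL_coe]
  ext i j
  fin_cases i <;> fin_cases j <;> simp

theorem embZU_injective : Function.Injective (embZU (F := F)) := by
  intro a b h
  have hm := congrArg (fun g : GL (Fin 2) F => (g : Matrix (Fin 2) (Fin 2) F)) h
  rcases a with ⟨z, t⟩ | ⟨z, s⟩ <;> rcases b with ⟨z', t'⟩ | ⟨z', s'⟩
  · rw [embZU_inl_coe, embZU_inl_coe] at hm
    have h00 := congr_fun (congr_fun hm 0) 0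
    have h01 := congr_fun (congr_fun hm 0) 1
    simp at h00 h01
    have hz : z = z' := Units.ext h00
    subst hz
    have ht : t = t' := mul_left_cancel₀ z.ne_zero h01
    rw [ht]
  · rw [embZU_inl_coe, embZU_inr_coe] at hm
    have h10 := congr_fun (congr_fun hm 1) 0
    simp at h10
  · rw [embZU_inr_coe, embZU_inl_coe] at hm
    have h10 := congr_fun (congr_fun hm 1) 0
    simp at h10
  · rw [embZU_inr_coe, embZU_inr_coe] at hm
    have h00 := congr_fun (congr_fun hm 0) 0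
    have h10 := congr_fun (congr_fun hm 1) 0
    simp at h00 h10
    have hz : z = z' := Units.ext h00
    subst hz
    have hs : s = s' := Units.ext (mul_left_cancel₀ z.ne_zero h10)
    rw [hs]

theorem sum_norm_sq_irr {G : Type*} [Group G] [Fintype G] {χ : G → ℂ} (hχ : IsIrrCharacter G χ) :
    ∑ g : G, ‖χ g‖ ^ 2 = (Nat.card G : ℝ) := by
  have h := classInner_irr hχ hχ
  rw [if_pos rfl] at h
  unfold classInner at h
  have hG : (Nat.card G : ℂ) ≠ 0 := by exact_mod_cast Nat.card_pos.ne'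
  have h2 : ∑ g : G, χ g * conj (χ g) = (Nat.card G : ℂ) := by
    field_simp at h
    exact h
  have h3 : ((∑ g : G, ‖χ g‖ ^ 2 : ℝ) : ℂ) = ((Nat.card G : ℝ) : ℂ) := by
    push_cast
    rw [← h2]
    apply Finset.sum_congr rfl
    intro g _
    rw [Complex.mul_conj']
  exact_mod_cast h3

end general

section finite

variable {F : Type*} [Field F] [Fintype F] [DecidableEq F]

theorem isIrrCharacter_indFun_psChar {α β : MulChar F ℂ} (hαβ : α ≠ β) :
    IsIrrCharacter (GL (Fin 2) F) (indFun (Cfsg.upperTriangularGL 2 F) (psChar α β)) := by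
  have h1 := IsCharacter.indFun (Cfsg.upperTriangularGL 2 F) (isCharacter_psChar α β)
  have h2 := classInner_indFun_psChar α β α β
  rw [if_pos ⟨rfl, rfl⟩, if_neg (fun h => hαβ h.1), add_zero] at h2
  exact Cfsg.Agent.Lib.Helper6.isIrrCharacter_of_classInner_self_eq_one h1 h2

omit [DecidableEq F] in
theorem card_GL2_ne_zero : (Nat.card (GL (Fin 2) F) : ℂ) ≠ 0 := by
  exact_mod_cast Nat.card_pos.ne'

theorem indFun_psChar_one (α β : MulChar F ℂ) :
    indFun (Cfsg.upperTriangularGL 2 F) (psChar α β) 1 = (Fintype.card F : ℂ) + 1 := by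
  rw [Cfsg.Agent.Lib.Helper6.indFun_apply_one, psChar_one, card_ut_complex, card_GL2_complex]
  have hq0 : (Fintype.card F : ℂ) ≠ 0 := by
    exact_mod_cast (Fintype.card_pos (α := F)).ne'
  have hq1 : (Fintype.card F : ℂ) - 1 ≠ 0 := by
    have : 1 < Fintype.card F := Fintype.one_lt_card
    rw [sub_ne_zero]
    exact_mod_cast this.ne'
  field_simp

theorem stChar_one (α : MulChar F ℂ) : stChar α 1 = (Fintype.card F : ℂ) := by
  unfold stChar
  rw [Pi.sub_apply, indFun_psChar_one, detChar_one]; ring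

/-- A class function not orthogonal to the permutation character on `G/U` is not orthogonal to some
principal series character. -/
theorem exists_ps_constituent {χ : GL (Fin 2) F → ℂ} (hχ : IsClassFunction (GL (Fin 2) F) χ)
    (h : χ 1 + ((Fintype.card F : ℂ) - 1) * χ (tGL 1) ≠ 0) :
    ∃ α β : MulChar F ℂ, classInner (indFun (Cfsg.upperTriangularGL 2 F) (psChar α β)) χ ≠ 0 := by
  by_contra hcon
  push Not at hcon
  have h1 := classInner_indFun_unip hχ
  rw [← sum_indFun_psChar, classInner_sum_left] at h1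
  have h2 : ∀ α : MulChar F ℂ, classInner (∑ β : MulChar F ℂ,
      indFun (Cfsg.upperTriangularGL 2 F) (psChar α β)) χ = 0 := by
    intro α
    rw [classInner_sum_left]
    exact Finset.sum_eq_zero (fun β _ => hcon α β)
  rw [Finset.sum_eq_zero (fun α _ => h2 α)] at h1
  have hq0 : (Fintype.card F : ℂ) ≠ 0 := by
    exact_mod_cast (Fintype.card_pos (α := F)).ne'
  have h3 := (div_eq_zero_iff.mp h1.symm).resolve_right hq0
  exact h ((map_eq_zero (starRingEnd ℂ)).mp h3)

/-- The irreducible constituents of the principal series. -/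
theorem irr_of_ps_constituent {χ : GL (Fin 2) F → ℂ} (hχ : IsIrrCharacter (GL (Fin 2) F) χ)
    {α β : MulChar F ℂ} (h : classInner (indFun (Cfsg.upperTriangularGL 2 F) (psChar α β)) χ ≠ 0) :
    (α ≠ β ∧ χ = indFun (Cfsg.upperTriangularGL 2 F) (psChar α β)) ∨
      (α = β ∧ (χ = detChar α ∨ χ = stChar α)) := by
  by_cases hαβ : α = β
  · right
    refine ⟨hαβ, ?_⟩
    subst hαβ
    rw [indFun_psChar_self_eq, classInner_add_left] at h
    by_cases h1 : classInner (detChar α) χ = 0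
    · right
      rw [h1, zero_add, classInner_irr (isIrrCharacter_stChar α) hχ] at h
      by_contra hne
      rw [if_neg (fun h' => hne h'.symm)] at h
      exact h rfl
    · left
      rw [classInner_irr (isIrrCharacter_detChar α) hχ] at h1
      by_contra hne
      rw [if_neg (fun h' => hne h'.symm)] at h1
      exact h1 rfl
  · left
    refine ⟨hαβ, ?_⟩
    rw [classInner_irr (isIrrCharacter_indFun_psChar hαβ) hχ] at h
    by_contra hne
    rw [if_neg (fun h' => hne h'.symm)] at h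
    exact h rfl

/-- Trichotomy for the irreducible characters of `GL₂(F)`. -/
theorem irr_cases {χ : GL (Fin 2) F → ℂ} (hχ : IsIrrCharacter (GL (Fin 2) F) χ) :
    χ 1 + ((Fintype.card F : ℂ) - 1) * χ (tGL 1) = 0 ∨
    (∃ α β : MulChar F ℂ, α ≠ β ∧ χ = indFun (Cfsg.upperTriangularGL 2 F) (psChar α β)) ∨
    (∃ α : MulChar F ℂ, χ = detChar α) ∨ (∃ α : MulChar F ℂ, χ = stChar α) := by
  by_cases h : χ 1 + ((Fintype.card F : ℂ) - 1) * χ (tGL 1) = 0
  · left; exact h
  · right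
    obtain ⟨α, β, hab⟩ := exists_ps_constituent
      (IsCharacter.isClassFunction (IsIrrCharacter.isCharacter hχ)) h
    rcases irr_of_ps_constituent hχ hab with ⟨h1, h2⟩ | ⟨h1, h2 | h2⟩
    · left; exact ⟨α, β, h1, h2⟩
    · right; left; exact ⟨α, h2⟩
    · right; right; exact ⟨α, h2⟩

/-- Norm bound for irreducible characters without `U`-fixed vectors. -/
theorem cusp_bound {χ : GL (Fin 2) F → ℂ} (hχ : IsIrrCharacter (GL (Fin 2) F) χ)
    (h : χ 1 + ((Fintype.card F : ℂ) - 1) * χ (tGL 1) = 0) :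
    ‖χ 1‖ ^ 2 ≤ (Fintype.card F : ℝ) * ((Fintype.card F : ℝ) - 1) ^ 2 := by
  have hcf := IsCharacter.isClassFunction (IsIrrCharacter.isCharacter hχ)
  obtain ⟨c, hc1, hc2⟩ := Cfsg.Agent.Lib.Helper6.IsIrrCharacter.exists_central_hom hχ
  have hq1 : (1 : ℝ) < (Fintype.card F : ℝ) := by exact_mod_cast Fintype.one_lt_card
  have hscal : ∀ (z : Fˣ) (g : GL (Fin 2) F), ‖χ (scalGL z * g)‖ = ‖χ g‖ := by
    intro z g
    have := hc1 ⟨scalGL z, scalGL_mem_center z⟩ g
    rw [this, norm_mul, hc2, one_mul]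
  have hu : ‖χ (tGL 1)‖ * ((Fintype.card F : ℝ) - 1) = ‖χ 1‖ := by
    have h1 : χ 1 = -(((Fintype.card F : ℂ) - 1) * χ (tGL 1)) := by linear_combination h
    rw [h1, norm_neg, norm_mul, mul_comm]
    congr 1
    have : ((Fintype.card F : ℂ) - 1) = (((Fintype.card F : ℝ) - 1 : ℝ) : ℂ) := by push_cast; ring
    rw [this, Complex.norm_real, Real.norm_of_nonneg (by linarith)]
  have hinl : ∀ p : Fˣ × F, ‖χ (embZU (Sum.inl p))‖ ^ 2 =
      ‖χ (tGL 1)‖ ^ 2 + (if p.2 = 0 then ‖χ 1‖ ^ 2 - ‖χ (tGL 1)‖ ^ 2 else 0) := by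
    intro p
    change ‖χ (scalGL p.1 * tGL p.2)‖ ^ 2 = _
    rw [hscal]
    split_ifs with ht
    · rw [ht, tGL_zero]; ring
    · rw [classFunction_tGL hcf ht, add_zero]
  have hinr : ∀ p : Fˣ × Fˣ, ‖χ (embZU (Sum.inr p))‖ ^ 2 = ‖χ (tGL 1)‖ ^ 2 := by
    intro p
    change ‖χ (scalGL p.1 * lGL (p.2 : F))‖ ^ 2 = _
    rw [hscal, lGL_eq, hcf, classFunction_tGL hcf p.2.ne_zero]
  have hle : ∑ a : (Fˣ × F) ⊕ (Fˣ × Fˣ), ‖χ (embZU a)‖ ^ 2 ≤ ∑ g : GL (Fin 2) F, ‖χ g‖ ^ 2 := by
    rw [← Finset.sum_image (f := fun g => ‖χ g‖ ^ 2) (s := Finset.univ) (g := embZU)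
      (fun a _ b _ hab => embZU_injective hab)]
    apply Finset.sum_le_sum_of_subset_of_nonneg (Finset.subset_univ _)
    intro g _ _
    positivity
  rw [sum_norm_sq_irr hχ, Fintype.sum_sum_type, Finset.sum_congr rfl (fun p _ => hinl p),
    Finset.sum_congr rfl (fun p _ => hinr p), Finset.sum_add_distrib] at hle
  simp only [Finset.sum_const, Finset.card_univ, nsmul_eq_mul, Fintype.card_prod, Fintype.card_units,
    Fintype.sum_prod_type, Finset.sum_ite_eq', Finset.mem_univ, if_true] at hle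
  have hcard : (Nat.card (GL (Fin 2) F) : ℝ) = (Fintype.card F : ℝ) * ((Fintype.card F : ℝ) - 1) ^ 2 * ((Fintype.card F : ℝ) + 1) := by
    rw [card_GL2]
    have : 1 ≤ Fintype.card F := Fintype.card_pos
    push_cast [Nat.cast_sub this]
    ring
  rw [hcard] at hle
  have h1 : 1 ≤ Fintype.card F := Fintype.card_pos
  push_cast [Nat.cast_sub h1] at hle
  set Q := (Fintype.card F : ℝ) with hQ
  set A := ‖χ 1‖ with hA
  set C := ‖χ (tGL 1)‖ with hC
  have hA' : A = C * (Q - 1) := hu.symm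
  have hCnn : 0 ≤ C := norm_nonneg _
  -- hle : (Q-1)*Q*C^2 + (Q-1)*(A^2 - C^2) + (Q-1)*(Q-1)*C^2 ≤ Q*(Q-1)^2*(Q+1)
  have key : A ^ 2 * (Q + 1) ≤ Q * (Q - 1) ^ 2 * (Q + 1) := by
    have : A ^ 2 * (Q + 1) = (Q - 1) * Q * C ^ 2 + (Q - 1) * (A ^ 2 - C ^ 2) + (Q - 1) * (Q - 1) * C ^ 2 := by
      rw [hA']; ring
    rw [this]
    linarith [hle]
  have hQ1 : 0 < Q + 1 := by linarith
  exact le_of_mul_le_mul_right key hQ1

/-- Integrality for irreducible characters without `U`-fixed vectors: the degree is `m (q - 1)` and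
the value at a transvection is `-m`. -/
theorem cusp_int {χ : GL (Fin 2) F → ℂ} (hχ : IsIrrCharacter (GL (Fin 2) F) χ)
    (h : χ 1 + ((Fintype.card F : ℂ) - 1) * χ (tGL 1) = 0) :
    ∃ m : ℕ, χ 1 = ((m * (Fintype.card F - 1) : ℕ) : ℂ) ∧ χ (tGL 1) = -(m : ℂ) ∧ 0 < m ∧
      m ^ 2 ≤ Fintype.card F := by
  obtain ⟨n, hn⟩ := IsCharacter.apply_one (IsIrrCharacter.isCharacter hχ)
  have hint : IsIntegral ℤ (χ (tGL 1)) := by
    obtain ⟨k, ρ, -, rfl⟩ := hχ
    exact isIntegral_char ρ _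
  have hq : 1 < Fintype.card F := Fintype.one_lt_card
  have hcast : ((Fintype.card F - 1 : ℕ) : ℂ) = (Fintype.card F : ℂ) - 1 := by
    push_cast [Nat.cast_sub hq.le]; ring
  have h1 : (n : ℂ) = ((Fintype.card F - 1 : ℕ) : ℂ) * (-χ (tGL 1)) := by
    rw [hcast, ← hn]; linear_combination h
  have hdvd := Cfsg.Agent.Lib.Helper24.nat_dvd_of_eq_mul_isIntegral (by omega) hint.neg h1
  obtain ⟨m, hm⟩ := hdvd
  have hq1 : (Fintype.card F : ℂ) - 1 ≠ 0 := by
    rw [sub_ne_zero]
    exact_mod_cast hq.ne'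
  have hval : χ (tGL 1) = -(m : ℂ) := by
    rw [hm, hcast] at h1
    push_cast at h1
    rw [hcast] at h1
    have : ((Fintype.card F : ℂ) - 1) * (χ (tGL 1) + m) = 0 := by linear_combination h1
    rcases mul_eq_zero.mp this with h' | h'
    · exact absurd h' hq1
    · linear_combination h'
  have hpos : 0 < m := by
    rcases Nat.eq_zero_or_pos m with h0 | h0
    · exfalso
      have := IsIrrCharacter.apply_one_pos hχ
      obtain ⟨k, hk, hk0⟩ := this
      rw [hn, hm, h0, mul_zero] at hk0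
      have : (k : ℂ) = 0 := by rw [← hk0]; simp
      have : k = 0 := by exact_mod_cast this
      omega
    · exact h0
  refine ⟨m, by rw [hn, hm, mul_comm], hval, hpos, ?_⟩
  have hb := cusp_bound hχ h
  rw [hn, hm] at hb
  have hq1' : (0 : ℝ) < (Fintype.card F : ℝ) - 1 := by
    have : (1 : ℝ) < (Fintype.card F : ℝ) := by exact_mod_cast hq
    linarith
  have hb2 : ((m : ℝ)) ^ 2 * ((Fintype.card F : ℝ) - 1) ^ 2 ≤ (Fintype.card F : ℝ) * ((Fintype.card F : ℝ) - 1) ^ 2 := by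
    have e : ‖(((Fintype.card F - 1) * m : ℕ) : ℂ)‖ = ((Fintype.card F : ℝ) - 1) * (m : ℝ) := by
      rw [Complex.norm_natCast]
      push_cast [Nat.cast_sub hq.le]
      ring
    rw [e] at hb
    nlinarith [hb]
  have hb3 : ((m : ℝ)) ^ 2 ≤ (Fintype.card F : ℝ) := le_of_mul_le_mul_right hb2 (by positivity)
  exact_mod_cast hb3

omit [DecidableEq F] in
theorem norm_mulChar_apply (α : MulChar F ℂ) {a : F} (ha : a ≠ 0) : ‖α a‖ = 1 := by
  classical
  have h := α.apply_mem_rootsOfUnity (Units.mk0 a ha)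
  have h2 := Complex.norm_eq_one_of_mem_rootsOfUnity h
  rw [MulChar.coe_equivToUnitHom] at h2
  exact h2

theorem stChar_split (α : MulChar F ℂ) (g : GL (Fin 2) F)
    (h01 : (g : Matrix (Fin 2) (Fin 2) F) 0 1 = 0) (h10 : (g : Matrix (Fin 2) (Fin 2) F) 1 0 = 0)
    (hne : (g : Matrix (Fin 2) (Fin 2) F) 0 0 ≠ (g : Matrix (Fin 2) (Fin 2) F) 1 1) :
    stChar α g = α ((g : Matrix (Fin 2) (Fin 2) F) 0 0) * α ((g : Matrix (Fin 2) (Fin 2) F) 1 1) := by
  unfold stChar
  rw [Pi.sub_apply, indFun_psChar_split α α g h01 h10 hne, detChar_apply, Matrix.det_fin_two, h10,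
    mul_zero, sub_zero, map_mul]
  ring

theorem stChar_elliptic (α : MulChar F ℂ) (g : GL (Fin 2) F)
    (hg : ∀ (c : F) (v : Fin 2 → F), v ≠ 0 → (g : Matrix (Fin 2) (Fin 2) F).mulVec v ≠ c • v) :
    stChar α g = - α ((g : Matrix (Fin 2) (Fin 2) F).det) := by
  unfold stChar
  rw [Pi.sub_apply, indFun_ut_elliptic _ g hg, detChar_apply, zero_sub]

theorem stChar_unip (α : MulChar F ℂ) (u : GL (Fin 2) F) (t : F) (ht : t ≠ 0)
    (hu : (u : Matrix (Fin 2) (Fin 2) F) = !![1, t; 0, 1]) : stChar α u = 0 := by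
  unfold stChar
  rw [Pi.sub_apply, indFun_psChar_unip α α u t ht hu, detChar_apply, hu]
  simp [Matrix.det_fin_two]

end finite

end Cfsg.Agent.Lib.Helper13
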