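/-
helper13: if a character `χ` of `G` satisfies `∑_{v ∈ H} χ v = 0` for a subgroup `H`
(no `H`-fixed vectors), then `∑_{v ∈ H} ρ v = 0` and hence `∑_{v ∈ H} χ (g v) = 0` for all `g`.
-/
import Mathlib
import Cfsg.Prelude.Def_Characters

set_option autoImplicit false

namespace Cfsg.Agent.Lib.Helper13

open Cfsg

/-- A representation without `H`-fixed vectors (detected by the character) is killed by the sum
over `H`. -/
theorem sum_rep_subgroup_eq_zero {G : Type*} [Group G] {V : Type*} [AddCommGroup V] [Module ℂ V]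
    [FiniteDimensional ℂ V] (ρ : Representation ℂ G V) (H : Subgroup G) [Fintype H]
    (h : ∑ v : H, ρ.character (v : G) = 0) : ∑ v : H, ρ (v : G) = 0 := by
  set P : Module.End ℂ V := ∑ v : H, ρ (v : G) with hP
  have hc : (Fintype.card H : ℂ) ≠ 0 := by exact_mod_cast Fintype.card_ne_zero
  have hwP : ∀ w : H, ρ (w : G) * P = P := by
    intro w
    rw [hP, Finset.mul_sum]
    rw [← Fintype.sum_equiv (Equiv.mulLeft w) (fun v : H => ρ (w : G) * ρ (v : G)) (fun v : H => ρ (v : G))]
    intro v
    rw [Equiv.coe_mulLeft, Subgroup.coe_mul, map_mul]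
  have hPP : P * P = (Fintype.card H : ℂ) • P := by
    conv_lhs => rw [hP, Finset.sum_mul]
    rw [Finset.sum_congr rfl (fun w _ => hwP w), Finset.sum_const, Finset.card_univ, Nat.cast_smul_eq_nsmul]
  set e : Module.End ℂ V := (Fintype.card H : ℂ)⁻¹ • P with he
  have hidem : IsIdempotentElem e := by
    unfold IsIdempotentElem
    rw [he, smul_mul_smul_comm, hPP, smul_smul]
    congr 1
    field_simp
  have htr : LinearMap.trace ℂ V e = 0 := by
    rw [he, map_smul, hP, map_sum]
    have : ∑ v : H, LinearMap.trace ℂ V (ρ (v : G)) = 0 := h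
    rw [this, smul_zero]
  have he0 : e = 0 := LinearMap.IsIdempotentElem.eq_zero_of_trace_eq_zero hidem htr
  rw [he] at he0
  rcases smul_eq_zero.mp he0 with h' | h'
  · exact absurd (inv_eq_zero.mp h') hc
  · exact h'

theorem sum_char_mul_subgroup_eq_zero {G : Type*} [Group G] {χ : G → ℂ} (hχ : IsCharacter G χ)
    (H : Subgroup G) [Fintype H] (h : ∑ v : H, χ (v : G) = 0) (g : G) :
    ∑ v : H, χ (g * (v : G)) = 0 := by
  obtain ⟨n, ρ, rfl⟩ := hχ
  have hP := sum_rep_subgroup_eq_zero ρ H h
  have : ∑ v : H, ρ.character (g * (v : G)) = LinearMap.trace ℂ _ (ρ g * ∑ v : H, ρ (v : G)) := by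
    rw [Finset.mul_sum, map_sum]
    apply Finset.sum_congr rfl
    intro v _
    rw [← map_mul]
    rfl
  rw [this, hP, mul_zero, map_zero]

end Cfsg.Agent.Lib.Helper13
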