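/-
helper13: characters of GL₂(F) without U-fixed vectors vanish at split regular semisimple elements.
-/
import Mathlib
import Cfsg.Agent.Lib.Helper13.PSClass
import Cfsg.Agent.Lib.Helper13.SubgroupAvg

set_option autoImplicit false

namespace Cfsg.Agent.Lib.Helper13

open Matrix Cfsg Cfsg.Agent.CharLib
open scoped ComplexConjugate

variable {F : Type*} [Field F] [Fintype F] [DecidableEq F]

/-- Characters of `GL₂(F)` without `U`-fixed vectors vanish at diagonal matrices with distinct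
diagonal entries. -/
theorem cusp_split_eq_zero {χ : GL (Fin 2) F → ℂ} (hχ : IsCharacter (GL (Fin 2) F) χ)
    (h : χ 1 + ((Fintype.card F : ℂ) - 1) * χ (tGL 1) = 0) (g : GL (Fin 2) F)
    (h01 : (g : Matrix (Fin 2) (Fin 2) F) 0 1 = 0) (h10 : (g : Matrix (Fin 2) (Fin 2) F) 1 0 = 0)
    (hne : (g : Matrix (Fin 2) (Fin 2) F) 0 0 ≠ (g : Matrix (Fin 2) (Fin 2) F) 1 1) : χ g = 0 := by
  have hcf := IsCharacter.isClassFunction hχ
  have : Fintype ↥(unipGL F) := Fintype.ofFinite _
  have h0 : ∑ v : ↥(unipGL F), χ (v : GL (Fin 2) F) = 0 := by rw [sum_unip hcf, h]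
  have h1 := sum_char_mul_subgroup_eq_zero hχ (unipGL F) h0 g
  rw [← Fintype.sum_equiv (unipEquiv F) (fun t : F => χ (g * tGL t))
    (fun v : ↥(unipGL F) => χ (g * (v : GL (Fin 2) F))) (fun _ => rfl)] at h1
  have hd : (g : Matrix (Fin 2) (Fin 2) F) 1 1 - (g : Matrix (Fin 2) (Fin 2) F) 0 0 ≠ 0 :=
    sub_ne_zero.mpr (Ne.symm hne)
  have h2 : ∀ t : F, χ (g * tGL t) = χ g := by
    intro t
    set s := (g : Matrix (Fin 2) (Fin 2) F) 0 0 * t /
      ((g : Matrix (Fin 2) (Fin 2) F) 1 1 - (g : Matrix (Fin 2) (Fin 2) F) 0 0) with hs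
    have hconj : g * tGL t = tGL s * g * (tGL s)⁻¹ := by
      rw [eq_mul_inv_iff_mul_eq]
      apply Units.ext
      rw [Units.val_mul, Units.val_mul, Units.val_mul, tGL_coe, tGL_coe]
      have hs' : s * ((g : Matrix (Fin 2) (Fin 2) F) 1 1 - (g : Matrix (Fin 2) (Fin 2) F) 0 0) =
          (g : Matrix (Fin 2) (Fin 2) F) 0 0 * t := by
        rw [hs]; field_simp
      ext i j
      fin_cases i <;> fin_cases j <;>
        simp [Matrix.mul_apply, Fin.sum_univ_two, h01, h10]
      linear_combination -hs'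
    rw [hconj, hcf]
  rw [Finset.sum_congr rfl (fun t _ => h2 t), Finset.sum_const, Finset.card_univ, nsmul_eq_mul] at h1
  have hq0 : (Fintype.card F : ℂ) ≠ 0 := by
    exact_mod_cast (Fintype.card_pos (α := F)).ne'
  exact (mul_eq_zero.mp h1).resolve_left hq0

end Cfsg.Agent.Lib.Helper13
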