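/-
helper13: counting the irreducible characters of GL₂(F): the four types (α ∘ det, Steinberg-type,
irreducible principal series, cuspidal), their numbers, and the degree `q - 1` of the cuspidal ones.
-/
import Mathlib
import Cfsg.Agent.Lib.Helper13.PSCusp
import Cfsg.Agent.Lib.Helper24.PerfectLemmas
import Cfsg.Agent.S2305
import Cfsg.Agent.S2330

set_option autoImplicit false

namespace Cfsg.Agent.Lib.Helper13

open Matrix Cfsg Cfsg.Agent.CharLib
open scoped ComplexConjugate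

variable {F : Type*} [Field F] [Fintype F] [DecidableEq F]

omit [DecidableEq F] in
theorem card_mulChar : Nat.card (MulChar F ℂ) = Fintype.card F - 1 := by
  classical
  rw [MulChar.card_eq_card_units_of_hasEnoughRootsOfUnity F ℂ, Nat.card_units, Nat.card_eq_fintype_card]

omit [Fintype F] [DecidableEq F] in
theorem dGL_coe (t : Fˣ) : ((dGL t : GL (Fin 2) F) : Matrix (Fin 2) (Fin 2) F) = !![(t : F), 0; 0, 1] := rfl

omit [Fintype F] [DecidableEq F] in
theorem detChar_injective : Function.Injective (detChar (F := F)) := by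
  intro α β h
  apply MulChar.ext
  intro t
  have := congr_fun h (dGL t)
  simpa [detChar_apply, dGL_coe, Matrix.det_fin_two] using this

theorem stChar_injective : Function.Injective (stChar (F := F)) := by
  intro α β h
  apply MulChar.ext
  intro t
  by_cases ht : (t : F) = 1
  · rw [ht, map_one, map_one]
  · have := congr_fun h (dGL t)
    rw [stChar_split α (dGL t) (by simp [dGL_coe]) (by simp [dGL_coe]) (by simpa [dGL_coe] using ht),
      stChar_split β (dGL t) (by simp [dGL_coe]) (by simp [dGL_coe]) (by simpa [dGL_coe] using ht)] at this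
    simpa [dGL_coe] using this

/-- The principal series as a function on unordered pairs of characters. -/
noncomputable def psSym : Sym2 (MulChar F ℂ) → (GL (Fin 2) F → ℂ) :=
  Sym2.lift ⟨fun α β => indFun (Cfsg.upperTriangularGL 2 F) (psChar α β), fun α β =>
    (Cfsg.Agent.S2305.result α β β α).mpr (Or.inr ⟨rfl, rfl⟩)⟩

theorem psSym_mk (α β : MulChar F ℂ) :
    psSym s(α, β) = indFun (Cfsg.upperTriangularGL 2 F) (psChar α β) := rfl

theorem psSym_injective : Function.Injective (psSym (F := F)) := by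
  intro s t
  induction s using Sym2.ind with
  | _ α β =>
    induction t using Sym2.ind with
    | _ α' β' =>
      intro h
      rw [psSym_mk, psSym_mk] at h
      rw [Sym2.eq_iff]
      exact (Cfsg.Agent.S2305.result α β α' β').mp h

/-- Type 1: `α ∘ det`. -/
def IsT1 (χ : GL (Fin 2) F → ℂ) : Prop := ∃ α : MulChar F ℂ, χ = detChar α
/-- Type 2: Steinberg-type. -/
def IsT2 (χ : GL (Fin 2) F → ℂ) : Prop := ∃ α : MulChar F ℂ, χ = stChar α
/-- Type 3: irreducible principal series. -/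
def IsT3 (χ : GL (Fin 2) F → ℂ) : Prop :=
  ∃ α β : MulChar F ℂ, α ≠ β ∧ χ = indFun (Cfsg.upperTriangularGL 2 F) (psChar α β)
/-- Type 4: no `U`-fixed vectors. -/
def IsT4 (χ : GL (Fin 2) F → ℂ) : Prop := χ 1 + ((Fintype.card F : ℂ) - 1) * χ (tGL 1) = 0

omit [DecidableEq F] in
theorem card_ne_zero_complex' : (Fintype.card F : ℂ) ≠ 0 := by
  exact_mod_cast (Fintype.card_pos (α := F)).ne'

omit [Fintype F] [DecidableEq F] in
theorem tGL_one_coe : ((tGL (1 : F) : GL (Fin 2) F) : Matrix (Fin 2) (Fin 2) F) = !![1, 1; 0, 1] := rfl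

omit [DecidableEq F] in
theorem isT1_spec {χ : GL (Fin 2) F → ℂ} (h : IsT1 χ) : χ 1 = 1 ∧ ¬ IsT4 χ := by
  obtain ⟨α, rfl⟩ := h
  refine ⟨detChar_one α, ?_⟩
  unfold IsT4
  rw [detChar_one, detChar_apply, tGL_one_coe]
  simp only [Matrix.det_fin_two_of, mul_one, mul_zero, sub_zero, map_one]
  intro h
  apply card_ne_zero_complex' (F := F)
  linear_combination h

theorem isT2_spec {χ : GL (Fin 2) F → ℂ} (h : IsT2 χ) : χ 1 = (Fintype.card F : ℂ) ∧ ¬ IsT4 χ := by
  obtain ⟨α, rfl⟩ := h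
  refine ⟨stChar_one α, ?_⟩
  unfold IsT4
  rw [stChar_one, stChar_unip α (tGL 1) 1 one_ne_zero tGL_one_coe, mul_zero, add_zero]
  exact card_ne_zero_complex'

theorem isT3_spec {χ : GL (Fin 2) F → ℂ} (h : IsT3 χ) : χ 1 = (Fintype.card F : ℂ) + 1 ∧ ¬ IsT4 χ := by
  obtain ⟨α, β, hαβ, rfl⟩ := h
  refine ⟨indFun_psChar_one α β, ?_⟩
  unfold IsT4
  rw [indFun_psChar_one, indFun_psChar_unip α β (tGL 1) 1 one_ne_zero tGL_one_coe, mul_one]
  intro h
  apply card_ne_zero_complex' (F := F)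
  linear_combination h / 2

/-- Exactly one of the four types holds. -/
theorem types_excl {χ : GL (Fin 2) F → ℂ} (hχ : IsIrrCharacter (GL (Fin 2) F) χ) :
    (IsT1 χ ∧ ¬ IsT2 χ ∧ ¬ IsT3 χ ∧ ¬ IsT4 χ) ∨ (¬ IsT1 χ ∧ IsT2 χ ∧ ¬ IsT3 χ ∧ ¬ IsT4 χ) ∨
    (¬ IsT1 χ ∧ ¬ IsT2 χ ∧ IsT3 χ ∧ ¬ IsT4 χ) ∨ (¬ IsT1 χ ∧ ¬ IsT2 χ ∧ ¬ IsT3 χ ∧ IsT4 χ) := by
  have hq : 1 < Fintype.card F := Fintype.one_lt_card
  have e12 : IsT1 χ → IsT2 χ → False := by
    intro h1 h2
    have := (isT1_spec h1).1.symm.trans (isT2_spec h2).1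
    have : 1 = Fintype.card F := by exact_mod_cast this
    omega
  have e13 : IsT1 χ → IsT3 χ → False := by
    intro h1 h2
    have := (isT1_spec h1).1.symm.trans (isT3_spec h2).1
    have : (Fintype.card F : ℂ) = 0 := by linear_combination -this
    exact card_ne_zero_complex' this
  have e23 : IsT2 χ → IsT3 χ → False := by
    intro h1 h2
    have := (isT2_spec h1).1.symm.trans (isT3_spec h2).1
    have : (1 : ℂ) = 0 := by linear_combination -this
    exact one_ne_zero this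
  rcases irr_cases hχ with h | ⟨α, β, hαβ, h⟩ | ⟨α, h⟩ | ⟨α, h⟩
  · right; right; right
    exact ⟨fun h1 => (isT1_spec h1).2 h, fun h1 => (isT2_spec h1).2 h, fun h1 => (isT3_spec h1).2 h, h⟩
  · have h3 : IsT3 χ := ⟨α, β, hαβ, h⟩
    right; right; left
    exact ⟨fun h1 => e13 h1 h3, fun h1 => e23 h1 h3, h3, (isT3_spec h3).2⟩
  · have h1 : IsT1 χ := ⟨α, h⟩
    left
    exact ⟨h1, fun h2 => e12 h1 h2, fun h3 => e13 h1 h3, (isT1_spec h1).2⟩
  · have h2 : IsT2 χ := ⟨α, h⟩
    right; left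
    exact ⟨fun h1 => e12 h1 h2, h2, fun h3 => e23 h2 h3, (isT2_spec h2).2⟩

theorem card_T1 : Nat.card {χ : IrrCharacter (GL (Fin 2) F) // IsT1 (χ : GL (Fin 2) F → ℂ)} =
    Fintype.card F - 1 := by
  rw [← card_mulChar]
  symm
  apply Nat.card_congr
  refine Equiv.ofBijective (fun α => ⟨⟨detChar α, isIrrCharacter_detChar α⟩, α, rfl⟩) ⟨?_, ?_⟩
  · intro α β h
    exact detChar_injective (congrArg (fun x => (x.1 : GL (Fin 2) F → ℂ)) h)
  · rintro ⟨⟨χ, hχ⟩, α, h⟩
    exact ⟨α, Subtype.ext (Subtype.ext h.symm)⟩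

theorem card_T2 : Nat.card {χ : IrrCharacter (GL (Fin 2) F) // IsT2 (χ : GL (Fin 2) F → ℂ)} =
    Fintype.card F - 1 := by
  rw [← card_mulChar]
  symm
  apply Nat.card_congr
  refine Equiv.ofBijective (fun α => ⟨⟨stChar α, isIrrCharacter_stChar α⟩, α, rfl⟩) ⟨?_, ?_⟩
  · intro α β h
    exact stChar_injective (congrArg (fun x => (x.1 : GL (Fin 2) F → ℂ)) h)
  · rintro ⟨⟨χ, hχ⟩, α, h⟩
    exact ⟨α, Subtype.ext (Subtype.ext h.symm)⟩

theorem psSym_spec (s : Sym2 (MulChar F ℂ)) (hs : ¬ s.IsDiag) :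
    IsIrrCharacter (GL (Fin 2) F) (psSym s) ∧ IsT3 (psSym s) := by
  induction s using Sym2.ind with
  | _ α β =>
    rw [Sym2.mk_isDiag_iff] at hs
    exact ⟨isIrrCharacter_indFun_psChar hs, α, β, hs, rfl⟩

theorem card_T3 : Nat.card {χ : IrrCharacter (GL (Fin 2) F) // IsT3 (χ : GL (Fin 2) F → ℂ)} =
    (Fintype.card F - 1).choose 2 := by
  classical
  have h1 : Nat.card {s : Sym2 (MulChar F ℂ) // ¬ s.IsDiag} = (Fintype.card F - 1).choose 2 := by
    rw [Nat.card_eq_fintype_card, Sym2.card_subtype_not_diag, ← Nat.card_eq_fintype_card, card_mulChar]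
  rw [← h1]
  symm
  apply Nat.card_congr
  refine Equiv.ofBijective (fun s => ⟨⟨psSym s.1, (psSym_spec s.1 s.2).1⟩, (psSym_spec s.1 s.2).2⟩) ⟨?_, ?_⟩
  · intro s t h
    exact Subtype.ext (psSym_injective (congrArg (fun x => (x.1 : GL (Fin 2) F → ℂ)) h))
  · rintro ⟨⟨χ, hχ⟩, α, β, hαβ, h⟩
    refine ⟨⟨s(α, β), by rw [Sym2.mk_isDiag_iff]; exact hαβ⟩, ?_⟩
    exact Subtype.ext (Subtype.ext h.symm)

omit [Field F] [Fintype F] [DecidableEq F] in
theorem choose_two_identity (r : ℕ) : 2 * r.choose 2 + r = r * r := by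
  induction r with
  | zero => rfl
  | succ n ih =>
    rw [Nat.choose_succ_succ, Nat.choose_one_right]
    nlinarith

omit [Field F] [Fintype F] [DecidableEq F] in
theorem sum_ite_const' {ι : Type*} [Fintype ι] (P : ι → Prop) [DecidablePred P] (k : ℕ) :
    ∑ i, (if P i then k else 0) = k * Nat.card {i // P i} := by
  rw [Finset.sum_ite, Finset.sum_const_zero, add_zero, Finset.sum_const, smul_eq_mul,
    Nat.card_eq_fintype_card, Fintype.card_subtype, mul_comm]

/-- The cuspidal characters of `GL₂(F)` have degree `q - 1`, and there are `q (q - 1) / 2` of them. -/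
theorem cusp_main :
    (∀ χ : IrrCharacter (GL (Fin 2) F), IsT4 (χ : GL (Fin 2) F → ℂ) →
      charDegree (χ : GL (Fin 2) F → ℂ) = Fintype.card F - 1) ∧
    Nat.card {χ : IrrCharacter (GL (Fin 2) F) // IsT4 (χ : GL (Fin 2) F → ℂ)} + (Fintype.card F - 1).choose 2
      = (Fintype.card F - 1) * (Fintype.card F - 1) := by
  classical
  let _ := fintypeIrr (GL (Fin 2) F)
  obtain ⟨r, hr⟩ : ∃ r, Fintype.card F = r + 1 := ⟨Fintype.card F - 1, by
    have : 1 < Fintype.card F := Fintype.one_lt_card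
    omega⟩
  have hr1 : 1 ≤ r := by
    have : 1 < Fintype.card F := Fintype.one_lt_card
    omega
  have hrr : Fintype.card F - 1 = r := by omega
  set N1 := Nat.card {χ : IrrCharacter (GL (Fin 2) F) // IsT1 (χ : GL (Fin 2) F → ℂ)} with hN1
  set N2 := Nat.card {χ : IrrCharacter (GL (Fin 2) F) // IsT2 (χ : GL (Fin 2) F → ℂ)} with hN2
  set N3 := Nat.card {χ : IrrCharacter (GL (Fin 2) F) // IsT3 (χ : GL (Fin 2) F → ℂ)} with hN3
  set N4 := Nat.card {χ : IrrCharacter (GL (Fin 2) F) // IsT4 (χ : GL (Fin 2) F → ℂ)} with hN4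
  have e1 : N1 = r := by rw [hN1, card_T1, hrr]
  have e2 : N2 = r := by rw [hN2, card_T2, hrr]
  have e3 : N3 = r.choose 2 := by rw [hN3, card_T3, hrr]
  -- total number of irreducible characters
  have htot : Fintype.card (IrrCharacter (GL (Fin 2) F)) = r * r + 2 * r := by
    rw [← Nat.card_eq_fintype_card, card_irrCharacter, Cfsg.Agent.S2330.result, hr]
    have : (r + 1) ^ 2 = r * r + 2 * r + 1 := by ring
    omega
  -- each character has exactly one type
  have hone : ∀ χ : IrrCharacter (GL (Fin 2) F),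
      (if IsT1 (χ : GL (Fin 2) F → ℂ) then 1 else 0) + (if IsT2 (χ : GL (Fin 2) F → ℂ) then 1 else 0) +
      (if IsT3 (χ : GL (Fin 2) F → ℂ) then 1 else 0) + (if IsT4 (χ : GL (Fin 2) F → ℂ) then 1 else 0) = 1 := by
    intro χ
    rcases types_excl χ.2 with ⟨a, b, c, d⟩ | ⟨a, b, c, d⟩ | ⟨a, b, c, d⟩ | ⟨a, b, c, d⟩ <;> simp [a, b, c, d]
  have hsum1 : N1 + N2 + N3 + N4 = r * r + 2 * r := by
    have := Finset.sum_congr (s₁ := (Finset.univ : Finset (IrrCharacter (GL (Fin 2) F)))) rfl (fun χ _ => hone χ)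
    rw [Finset.sum_add_distrib, Finset.sum_add_distrib, Finset.sum_add_distrib, sum_ite_const',
      sum_ite_const', sum_ite_const', sum_ite_const', Finset.sum_const, Finset.card_univ, smul_eq_mul,
      mul_one, one_mul, one_mul, one_mul, one_mul, htot] at this
    exact this
  have hA := choose_two_identity r
  have hN4' : N4 + r.choose 2 = r * r := by omega
  -- degrees
  have hdeg : ∀ χ : IrrCharacter (GL (Fin 2) F),
      (if IsT1 (χ : GL (Fin 2) F → ℂ) then 1 else 0) + (if IsT2 (χ : GL (Fin 2) F → ℂ) then (r + 1) ^ 2 else 0) +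
      (if IsT3 (χ : GL (Fin 2) F → ℂ) then (r + 2) ^ 2 else 0) + (if IsT4 (χ : GL (Fin 2) F → ℂ) then r ^ 2 else 0)
        ≤ charDegree (χ : GL (Fin 2) F → ℂ) ^ 2 := by
    intro χ
    have hd := Cfsg.Agent.Lib.Helper24.irr_apply_one χ
    rcases types_excl χ.2 with ⟨a, b, c, d⟩ | ⟨a, b, c, d⟩ | ⟨a, b, c, d⟩ | ⟨a, b, c, d⟩
    · simp only [a, b, c, d, if_true, if_false, add_zero]
      have := (isT1_spec a).1
      rw [hd] at this
      have : charDegree (χ : GL (Fin 2) F → ℂ) = 1 := by exact_mod_cast this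
      rw [this]
      norm_num
    · simp only [a, b, c, d, if_true, if_false, add_zero, zero_add]
      have := (isT2_spec b).1
      rw [hd, hr] at this
      have : charDegree (χ : GL (Fin 2) F → ℂ) = r + 1 := by exact_mod_cast this
      rw [this]
    · simp only [a, b, c, d, if_true, if_false, add_zero, zero_add]
      have := (isT3_spec c).1
      rw [hd, hr] at this
      have : charDegree (χ : GL (Fin 2) F → ℂ) = r + 2 := by
        have h' : ((charDegree (χ : GL (Fin 2) F → ℂ) : ℕ) : ℂ) = ((r + 2 : ℕ) : ℂ) := by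
          rw [this]; push_cast; ring
        exact_mod_cast h'
      rw [this]
    · simp only [a, b, c, d, if_true, if_false, zero_add]
      obtain ⟨m, hm1, -, hm0, -⟩ := cusp_int χ.2 d
      rw [hd, hrr] at hm1
      have : charDegree (χ : GL (Fin 2) F → ℂ) = m * r := by exact_mod_cast hm1
      rw [this]
      exact Nat.pow_le_pow_left (Nat.le_mul_of_pos_left r hm0) 2
  have hsq := Cfsg.Agent.Lib.Helper24.sum_charDegree_sq (G := GL (Fin 2) F)
  have hG : Fintype.card (GL (Fin 2) F) = (r + 1) * r ^ 2 * (r + 2) := by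
    rw [← Nat.card_eq_fintype_card, card_GL2, hr]
    simp only [Nat.add_sub_cancel]
  have hsumc : ∑ χ : IrrCharacter (GL (Fin 2) F),
      ((if IsT1 (χ : GL (Fin 2) F → ℂ) then 1 else 0) + (if IsT2 (χ : GL (Fin 2) F → ℂ) then (r + 1) ^ 2 else 0) +
      (if IsT3 (χ : GL (Fin 2) F → ℂ) then (r + 2) ^ 2 else 0) + (if IsT4 (χ : GL (Fin 2) F → ℂ) then r ^ 2 else 0))
      = ∑ χ : IrrCharacter (GL (Fin 2) F), charDegree (χ : GL (Fin 2) F → ℂ) ^ 2 := by
    rw [hsq, hG, Finset.sum_add_distrib, Finset.sum_add_distrib, Finset.sum_add_distrib, sum_ite_const',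
      sum_ite_const', sum_ite_const', sum_ite_const', ← hN1, ← hN2, ← hN3, ← hN4, e1, e2, e3]
    zify at hA hN4' ⊢
    linear_combination ((r : ℤ) ^ 2) * hN4' + 2 * ((r : ℤ) + 1) * hA
  have hall := (Finset.sum_eq_sum_iff_of_le (fun χ _ => hdeg χ)).mp hsumc
  refine ⟨?_, ?_⟩
  · intro χ h4
    have := hall χ (Finset.mem_univ _)
    rcases types_excl χ.2 with ⟨a, b, c, d⟩ | ⟨a, b, c, d⟩ | ⟨a, b, c, d⟩ | ⟨a, b, c, d⟩
    · exact absurd h4 d
    · exact absurd h4 d
    · exact absurd h4 d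
    · simp only [a, b, c, d, if_true, if_false, zero_add] at this
      rw [hrr]
      exact (Nat.pow_left_injective (by norm_num : 2 ≠ 0) this).symm
  · rw [hrr]
    exact hN4'

end Cfsg.Agent.Lib.Helper13
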