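/-
helper13: character degree sets: invariance under isomorphism; `SL₂(F)`, `PSL₂(F)` in characteristic 2.
-/
import Mathlib
import Cfsg.Prelude.Def_DegreeGraph
import Cfsg.Agent.Lib.Helper13.IrrCount
import Cfsg.Agent.Lib.Helper24.IrrFacts
import Cfsg.Agent.S2300

set_option autoImplicit false

namespace Cfsg.Agent.Lib.Helper13

open Matrix Cfsg Cfsg.Agent.CharLib

universe u v

section congr

variable {A : Type u} {B : Type v} [Group A] [Group B]

theorem charDegree_irrCongr (e : A ≃* B) (χ : IrrCharacter B) :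
    charDegree ((irrCongr e χ : IrrCharacter A) : A → ℂ) = charDegree (χ : B → ℂ) := by
  have h1 := Cfsg.Agent.Lib.Helper24.irr_apply_one (irrCongr e χ)
  have h2 := Cfsg.Agent.Lib.Helper24.irr_apply_one χ
  rw [irrCongr_apply_one, h2] at h1
  exact_mod_cast h1.symm

/-- Isomorphic groups have the same character degrees. -/
theorem charDegrees_congr (e : A ≃* B) : charDegrees A = charDegrees B := by
  ext d
  constructor
  · rintro ⟨χ, rfl⟩
    exact ⟨irrCongr e.symm χ, charDegree_irrCongr e.symm χ⟩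
  · rintro ⟨χ, rfl⟩
    exact ⟨irrCongr e χ, charDegree_irrCongr e χ⟩

theorem degreePrimes_congr (e : A ≃* B) : degreePrimes A = degreePrimes B := by
  unfold degreePrimes
  rw [charDegrees_congr e]

theorem degreeGraph_adj_congr (e : A ≃* B) (r s : ℕ) :
    (degreeGraph A).Adj r s ↔ (degreeGraph B).Adj r s := by
  change (r ≠ s ∧ r.Prime ∧ s.Prime ∧ ∃ d ∈ charDegrees A, r * s ∣ d) ↔
    (r ≠ s ∧ r.Prime ∧ s.Prime ∧ ∃ d ∈ charDegrees B, r * s ∣ d)
  rw [charDegrees_congr e]

end congr

section sl2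

variable {F : Type*} [Field F]

/-- In characteristic 2 the centre of `SL₂(F)` is trivial. -/
theorem center_SL2_eq_bot [CharP F 2] :
    Subgroup.center (SpecialLinearGroup (Fin 2) F) = ⊥ := by
  classical
  rw [eq_bot_iff]
  intro z hz
  obtain ⟨r, hr, hrz⟩ := Matrix.SpecialLinearGroup.mem_center_iff.mp hz
  rw [Fintype.card_fin] at hr
  have hr1 : r = 1 := by
    have h3 : (2 : F) = 0 := CharP.cast_eq_zero F 2
    have h2 : (r - 1) ^ 2 = 0 := by
      have : (r - 1) ^ 2 = r ^ 2 - 2 * r + 1 := by ring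
      rw [this, hr, h3]
      ring_nf
      rw [h3]
    exact sub_eq_zero.mp ((pow_eq_zero_iff (two_ne_zero)).mp h2)
  rw [Subgroup.mem_bot]
  apply Subtype.ext
  rw [← hrz, hr1]
  simp

/-- In characteristic 2, `PSL₂(F) ≃* SL₂(F)`. -/
noncomputable def pslEquivSL [CharP F 2] :
    Matrix.ProjectiveSpecialLinearGroup (Fin 2) F ≃* SpecialLinearGroup (Fin 2) F :=
  (QuotientGroup.quotientMulEquivOfEq center_SL2_eq_bot).trans QuotientGroup.quotientBot

variable [Fintype F]

/-- Character degrees of `SL₂(F)`, `F` of characteristic 2 with at least 4 elements. -/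
theorem charDegrees_SL2_even [CharP F 2] (hq : 4 ≤ Fintype.card F) :
    charDegrees (SpecialLinearGroup (Fin 2) F) =
      {1, Fintype.card F - 1, Fintype.card F, Fintype.card F + 1} := by
  obtain ⟨h1, h2⟩ := Cfsg.Agent.S2300.result (F := F)
  obtain ⟨c1, c2, c3, c4⟩ := h2 hq
  have hq1 : 1 ≤ Fintype.card F := by omega
  ext d
  simp only [Set.mem_insert_iff, Set.mem_singleton_iff]
  constructor
  · rintro ⟨χ, rfl⟩
    have h3 := Cfsg.Agent.Lib.Helper24.irr_apply_one χ
    rcases h1 χ χ.2 with h | h | h | h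
    · left
      rw [h3] at h
      exact_mod_cast h
    · right; left
      rw [h3] at h
      have : ((charDegree (χ : SpecialLinearGroup (Fin 2) F → ℂ) : ℕ) : ℂ) =
          ((Fintype.card F - 1 : ℕ) : ℂ) := by
        rw [h]; push_cast [Nat.cast_sub hq1]; ring
      exact_mod_cast this
    · right; right; left
      rw [h3] at h
      exact_mod_cast h
    · right; right; right
      rw [h3] at h
      exact_mod_cast h
  · have hex : ∀ (c : ℂ) (n : ℕ), c = (n : ℂ) →
        0 < Nat.card {χ : IrrCharacter (SpecialLinearGroup (Fin 2) F) //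
          (χ : SpecialLinearGroup (Fin 2) F → ℂ) 1 = c} → n ∈ charDegrees (SpecialLinearGroup (Fin 2) F) := by
      intro c n hc hpos
      have : Nonempty {χ : IrrCharacter (SpecialLinearGroup (Fin 2) F) //
          (χ : SpecialLinearGroup (Fin 2) F → ℂ) 1 = c} := (Nat.card_pos_iff.mp hpos).1
      obtain ⟨χ, hχ⟩ := this
      refine ⟨χ, ?_⟩
      have h3 := Cfsg.Agent.Lib.Helper24.irr_apply_one χ
      rw [hχ, hc] at h3
      exact_mod_cast h3.symm
    rintro (rfl | rfl | rfl | rfl)
    · exact hex 1 1 (by norm_num) (by rw [c1]; norm_num)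
    · exact hex ((Fintype.card F : ℂ) - 1) (Fintype.card F - 1)
        (by push_cast [Nat.cast_sub hq1]; ring) (by rw [c4]; omega)
    · exact hex (Fintype.card F : ℂ) (Fintype.card F) rfl (by rw [c2]; norm_num)
    · exact hex ((Fintype.card F : ℂ) + 1) (Fintype.card F + 1) (by push_cast; ring) (by rw [c3]; omega)

end sl2

end Cfsg.Agent.Lib.Helper13
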