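/-
helper13: CA-groups (centralizers of non-identity elements are abelian) have TI centralizers;
`SL₂(F)` and `PSL₂(F)` in characteristic 2 are CA-groups.
-/
import Mathlib
import Cfsg.Prelude.Def_OddOrderLocal
import Cfsg.Agent.Lib.Helper13.DegreeSets

set_option autoImplicit false

namespace Cfsg.Agent.Lib.Helper13

open Matrix

/-- In a group where any two elements commuting with a common non-identity element commute,
every centralizer of an element is a TI-subset. -/
theorem isTISubset_centralizer_of_CA {G : Type*} [Group G]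
    (hCA : ∀ z : G, z ≠ 1 → ∀ a b : G, a * z = z * a → b * z = z * b → a * b = b * a) (x : G) :
    Cfsg.IsTISubset (Subgroup.centralizer ({x} : Set G) : Set G) := by
  intro g hg y hy hy'
  by_contra hy1
  apply hg
  rw [Subgroup.mem_set_normalizer_iff]
  intro h
  rw [SetLike.mem_coe, SetLike.mem_coe, Subgroup.mem_centralizer_singleton_iff,
    Subgroup.mem_centralizer_singleton_iff]
  rw [SetLike.mem_coe, Subgroup.mem_centralizer_singleton_iff] at hy hy'
  by_cases hx : x = 1
  · subst hx
    simp
  have hy1' : g * y * g⁻¹ ≠ 1 := by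
    intro h1
    apply hy1
    have : y = g⁻¹ * (g * y * g⁻¹) * g := by group
    rw [this, h1]
    group
  constructor
  · intro hh
    -- `h` and `y` commute
    have h1 : h * y = y * h := hCA x hx h y hh hy
    have h2 : (g * h * g⁻¹) * (g * y * g⁻¹) = (g * y * g⁻¹) * (g * h * g⁻¹) := by
      have e1 : (g * h * g⁻¹) * (g * y * g⁻¹) = g * (h * y) * g⁻¹ := by group
      have e2 : (g * y * g⁻¹) * (g * h * g⁻¹) = g * (y * h) * g⁻¹ := by group
      rw [e1, e2, h1]
    have h3 : x * (g * y * g⁻¹) = (g * y * g⁻¹) * x := hy'.symm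
    exact hCA (g * y * g⁻¹) hy1' (g * h * g⁻¹) x h2 h3
  · intro hh
    have h1 : (g * h * g⁻¹) * (g * y * g⁻¹) = (g * y * g⁻¹) * (g * h * g⁻¹) :=
      hCA x hx (g * h * g⁻¹) (g * y * g⁻¹) hh hy'
    have h2 : h * y = y * h := by
      have e1 : h * y = g⁻¹ * ((g * h * g⁻¹) * (g * y * g⁻¹)) * g := by group
      have e2 : y * h = g⁻¹ * ((g * y * g⁻¹) * (g * h * g⁻¹)) * g := by group
      rw [e1, e2, h1]
    exact hCA y hy1 h x h2 hy.symm

section mat

variable {F : Type*} [Field F]

/-- The commutant of a non-scalar `2 × 2` matrix `z` is `F[z]`. -/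
theorem exists_eq_smul_add_of_commute (z A : Matrix (Fin 2) (Fin 2) F)
    (hz : ¬ (z 0 1 = 0 ∧ z 1 0 = 0 ∧ z 0 0 = z 1 1)) (hA : A * z = z * A) :
    ∃ α β : F, A = α • (1 : Matrix (Fin 2) (Fin 2) F) + β • z := by
  have h00 := congr_fun (congr_fun hA 0) 0
  have h01 := congr_fun (congr_fun hA 0) 1
  have h10 := congr_fun (congr_fun hA 1) 0
  have h11 := congr_fun (congr_fun hA 1) 1
  simp only [Matrix.mul_apply, Fin.sum_univ_two] at h00 h01 h10 h11
  by_cases hb : z 0 1 = 0
  · by_cases hc : z 1 0 = 0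
    · have hd : z 0 0 - z 1 1 ≠ 0 := by
        intro h
        exact hz ⟨hb, hc, sub_eq_zero.mp h⟩
      rw [hb] at h01
      rw [hc] at h10
      have hf : A 0 1 = 0 := by
        have : A 0 1 * (z 0 0 - z 1 1) = 0 := by linear_combination -h01
        exact (mul_eq_zero.mp this).resolve_right hd
      have hg : A 1 0 = 0 := by
        have : A 1 0 * (z 0 0 - z 1 1) = 0 := by linear_combination h10
        exact (mul_eq_zero.mp this).resolve_right hd
      refine ⟨A 0 0 - (A 0 0 - A 1 1) / (z 0 0 - z 1 1) * z 0 0,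
        (A 0 0 - A 1 1) / (z 0 0 - z 1 1), ?_⟩
      ext i j
      fin_cases i <;> fin_cases j
      · simp
      · simp [hf, hb]
      · simp [hg, hc]
      · simp
        field_simp
        ring
    · rw [hb] at h11 h00 h01
      have hf : A 0 1 = 0 := by
        have : z 1 0 * A 0 1 = 0 := by linear_combination -h11
        exact (mul_eq_zero.mp this).resolve_left hc
      refine ⟨A 0 0 - A 1 0 / z 1 0 * z 0 0, A 1 0 / z 1 0, ?_⟩
      ext i j
      fin_cases i <;> fin_cases j
      · simp
      · simp [hf, hb]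
      · simp
        field_simp
      · simp
        field_simp
        linear_combination h10
  · refine ⟨A 0 0 - A 0 1 / z 0 1 * z 0 0, A 0 1 / z 0 1, ?_⟩
    ext i j
    fin_cases i <;> fin_cases j
    · simp
    · simp
      field_simp
    · simp
      field_simp
      linear_combination -h00
    · simp
      field_simp
      linear_combination -h01

/-- Two matrices commuting with a non-scalar `2 × 2` matrix commute. -/
theorem commute_of_commute_nonscalar (z A B : Matrix (Fin 2) (Fin 2) F)
    (hz : ¬ (z 0 1 = 0 ∧ z 1 0 = 0 ∧ z 0 0 = z 1 1)) (hA : A * z = z * A) (hB : B * z = z * B) :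
    A * B = B * A := by
  obtain ⟨α, β, rfl⟩ := exists_eq_smul_add_of_commute z A hz hA
  obtain ⟨α', β', rfl⟩ := exists_eq_smul_add_of_commute z B hz hB
  simp only [add_mul, mul_add, smul_mul_assoc, mul_smul_comm, one_mul, mul_one]
  module

/-- `SL₂(F)` in characteristic 2: centralizers of non-identity elements are abelian. -/
theorem SL2_even_CA [CharP F 2] (z : SpecialLinearGroup (Fin 2) F) (hz : z ≠ 1)
    (a b : SpecialLinearGroup (Fin 2) F) (ha : a * z = z * a) (hb : b * z = z * b) :
    a * b = b * a := by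
  have hns : ¬ ((z : Matrix (Fin 2) (Fin 2) F) 0 1 = 0 ∧ (z : Matrix (Fin 2) (Fin 2) F) 1 0 = 0 ∧
      (z : Matrix (Fin 2) (Fin 2) F) 0 0 = (z : Matrix (Fin 2) (Fin 2) F) 1 1) := by
    rintro ⟨h01, h10, h00⟩
    apply hz
    have hdet := z.2
    rw [Matrix.det_fin_two, h01, zero_mul, sub_zero, ← h00] at hdet
    have h2 : (2 : F) = 0 := CharP.cast_eq_zero F 2
    have h1 : ((z : Matrix (Fin 2) (Fin 2) F) 0 0 - 1) ^ 2 = 0 := by
      linear_combination hdet - (z : Matrix (Fin 2) (Fin 2) F) 0 0 * h2 + h2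
    have h3 : (z : Matrix (Fin 2) (Fin 2) F) 0 0 = 1 :=
      sub_eq_zero.mp ((pow_eq_zero_iff (two_ne_zero)).mp h1)
    apply Subtype.ext
    change (z : Matrix (Fin 2) (Fin 2) F) = 1
    ext i j
    fin_cases i <;> fin_cases j
    · simpa using h3
    · simpa using h01
    · simpa using h10
    · simpa using (h00.symm.trans h3)
  have hA : (a : Matrix (Fin 2) (Fin 2) F) * (z : Matrix (Fin 2) (Fin 2) F) =
      (z : Matrix (Fin 2) (Fin 2) F) * (a : Matrix (Fin 2) (Fin 2) F) :=
    congrArg Subtype.val ha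
  have hB : (b : Matrix (Fin 2) (Fin 2) F) * (z : Matrix (Fin 2) (Fin 2) F) =
      (z : Matrix (Fin 2) (Fin 2) F) * (b : Matrix (Fin 2) (Fin 2) F) :=
    congrArg Subtype.val hb
  apply Subtype.ext
  exact commute_of_commute_nonscalar _ _ _ hns hA hB

/-- `PSL₂(F)` in characteristic 2: centralizers of non-identity elements are abelian. -/
theorem PSL2_even_CA [CharP F 2] (z : Matrix.ProjectiveSpecialLinearGroup (Fin 2) F) (hz : z ≠ 1)
    (a b : Matrix.ProjectiveSpecialLinearGroup (Fin 2) F) (ha : a * z = z * a)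
    (hb : b * z = z * b) : a * b = b * a := by
  have e := pslEquivSL (F := F)
  apply e.injective
  rw [map_mul, map_mul]
  apply SL2_even_CA (e z)
  · intro h
    apply hz
    apply e.injective
    rw [h, map_one]
  · rw [← map_mul, ← map_mul, ha]
  · rw [← map_mul, ← map_mul, hb]

end mat

end Cfsg.Agent.Lib.Helper13
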