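/-
helper13: principal series of SL₂(F): the linear characters `b ↦ α(b₀₀)` of the Borel subgroup
and the inner products of the induced characters (Mackey, by direct computation).
-/
import Mathlib
import Cfsg.Agent.Lib.Helper13.PSBasic
import Cfsg.Agent.Lib.Helper13.SL2

set_option autoImplicit false

namespace Cfsg.Agent.Lib.Helper13

open Matrix Cfsg Cfsg.Agent.CharLib
open scoped ComplexConjugate

variable {F : Type*} [Field F]

/-- The Borel subgroup of `SL₂(F)`, in the form used in the statements. -/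
abbrev borelSL (F : Type*) [Field F] : Subgroup (SpecialLinearGroup (Fin 2) F) :=
  (Cfsg.upperTriangularGL 2 F).comap Matrix.SpecialLinearGroup.toGL

theorem mem_borelSL {g : SpecialLinearGroup (Fin 2) F} :
    g ∈ borelSL F ↔ (g : Matrix (Fin 2) (Fin 2) F) 1 0 = 0 := by
  rw [Subgroup.mem_comap, mem_upperTriangularGL_two]
  rfl

theorem borelSL_diag {g : SpecialLinearGroup (Fin 2) F} (hg : g ∈ borelSL F) :
    (g : Matrix (Fin 2) (Fin 2) F) 0 0 * (g : Matrix (Fin 2) (Fin 2) F) 1 1 = 1 := by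
  have h := g.2
  rw [Matrix.det_fin_two, mem_borelSL.mp hg, mul_zero, sub_zero] at h
  exact h

/-- The linear character `b ↦ α(b₀₀)` of the Borel subgroup of `SL₂(F)`. -/
noncomputable def psCharSL (α : MulChar F ℂ) : ↥(borelSL F) → ℂ :=
  fun b => α (((b : SpecialLinearGroup (Fin 2) F) : Matrix (Fin 2) (Fin 2) F) 0 0)

theorem psCharSL_apply (α : MulChar F ℂ) (b : ↥(borelSL F)) :
    psCharSL α b = α (((b : SpecialLinearGroup (Fin 2) F) : Matrix (Fin 2) (Fin 2) F) 0 0) := rfl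

theorem psCharSL_mul (α : MulChar F ℂ) (b c : ↥(borelSL F)) :
    psCharSL α (b * c) = psCharSL α b * psCharSL α c := by
  have hc := mem_borelSL.mp c.2
  have h : (((b * c : ↥(borelSL F)) : SpecialLinearGroup (Fin 2) F) : Matrix (Fin 2) (Fin 2) F) =
      ((b : SpecialLinearGroup (Fin 2) F) : Matrix (Fin 2) (Fin 2) F) *
      ((c : SpecialLinearGroup (Fin 2) F) : Matrix (Fin 2) (Fin 2) F) := rfl
  rw [psCharSL_apply, psCharSL_apply, psCharSL_apply, h, Matrix.mul_apply, Fin.sum_univ_two, hc,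
    mul_zero, add_zero, map_mul]

theorem psCharSL_one (α : MulChar F ℂ) : psCharSL α (1 : ↥(borelSL F)) = 1 := by
  simp [psCharSL_apply]

/-- `psCharSL` as a monoid homomorphism. -/
noncomputable def psHomSL (α : MulChar F ℂ) : ↥(borelSL F) →* ℂ where
  toFun := psCharSL α
  map_one' := psCharSL_one α
  map_mul' := psCharSL_mul α

theorem isCharacter_psCharSL (α : MulChar F ℂ) : IsCharacter ↥(borelSL F) (psCharSL α) :=
  Cfsg.Agent.Lib.Helper6.isCharacter_of_hom (psHomSL α).toHomUnits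

/-- SL-level version of `conj_borel`. -/
theorem conj_borelSL (x b : SpecialLinearGroup (Fin 2) F) (hb : b ∈ borelSL F) (hx : x ∉ borelSL F) :
    (x⁻¹ * b * x ∈ borelSL F ↔
      (b : Matrix (Fin 2) (Fin 2) F) 0 1 * (x : Matrix (Fin 2) (Fin 2) F) 1 0 =
        (x : Matrix (Fin 2) (Fin 2) F) 0 0 *
          ((b : Matrix (Fin 2) (Fin 2) F) 1 1 - (b : Matrix (Fin 2) (Fin 2) F) 0 0)) ∧
    (x⁻¹ * b * x ∈ borelSL F →
      ((x⁻¹ * b * x : SpecialLinearGroup (Fin 2) F) : Matrix (Fin 2) (Fin 2) F) 0 0 =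
        (b : Matrix (Fin 2) (Fin 2) F) 1 1 ∧
      ((x⁻¹ * b * x : SpecialLinearGroup (Fin 2) F) : Matrix (Fin 2) (Fin 2) F) 1 1 =
        (b : Matrix (Fin 2) (Fin 2) F) 0 0) := by
  have h : (x : Matrix (Fin 2) (Fin 2) F) *
      ((x⁻¹ * b * x : SpecialLinearGroup (Fin 2) F) : Matrix (Fin 2) (Fin 2) F)
      = (b : Matrix (Fin 2) (Fin 2) F) * (x : Matrix (Fin 2) (Fin 2) F) := by
    have h0 : x * (x⁻¹ * b * x) = b * x := by group
    exact congrArg (fun g : SpecialLinearGroup (Fin 2) F => (g : Matrix (Fin 2) (Fin 2) F)) h0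
  have hB := mem_borelSL.mp hb
  have hX : (x : Matrix (Fin 2) (Fin 2) F) 1 0 ≠ 0 := fun h0 => hx (mem_borelSL.mpr h0)
  have hdet : (x : Matrix (Fin 2) (Fin 2) F).det ≠ 0 := by rw [x.2]; exact one_ne_zero
  have := conj_borel_aux _ _ _ h hB hX hdet
  simp only [mem_borelSL]
  exact this

/-- The Borel subgroup of `SL₂(F)` is in bijection with `Fˣ × F`. -/
noncomputable def slEquiv (F : Type*) [Field F] : ↥(borelSL F) ≃ Fˣ × F where
  toFun b := (Units.mk0 (((b : SpecialLinearGroup (Fin 2) F) : Matrix (Fin 2) (Fin 2) F) 0 0)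
      (left_ne_zero_of_mul_eq_one (borelSL_diag b.2)),
    ((b : SpecialLinearGroup (Fin 2) F) : Matrix (Fin 2) (Fin 2) F) 0 1)
  invFun p := ⟨⟨!![(p.1 : F), p.2; 0, ((p.1⁻¹ : Fˣ) : F)], by simp [Matrix.det_fin_two]⟩,
    mem_borelSL.mpr (by
      change (!![(p.1 : F), p.2; 0, ((p.1⁻¹ : Fˣ) : F)] : Matrix (Fin 2) (Fin 2) F) 1 0 = 0
      simp)⟩
  left_inv b := by
    apply Subtype.ext
    apply Subtype.ext
    have h10 := mem_borelSL.mp b.2
    have hd := borelSL_diag b.2
    have h11 : ((b : SpecialLinearGroup (Fin 2) F) : Matrix (Fin 2) (Fin 2) F) 1 1 =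
        (((b : SpecialLinearGroup (Fin 2) F) : Matrix (Fin 2) (Fin 2) F) 0 0)⁻¹ :=
      eq_inv_of_mul_eq_one_right hd
    ext i j
    fin_cases i <;> fin_cases j <;> simp [h10, h11]
  right_inv p := by
    obtain ⟨a, e⟩ := p
    simp

theorem slEquiv_fst (b : ↥(borelSL F)) :
    (((slEquiv F b).1 : Fˣ) : F) = ((b : SpecialLinearGroup (Fin 2) F) : Matrix (Fin 2) (Fin 2) F) 0 0 := rfl

theorem slEquiv_snd (b : ↥(borelSL F)) :
    (slEquiv F b).2 = ((b : SpecialLinearGroup (Fin 2) F) : Matrix (Fin 2) (Fin 2) F) 0 1 := rfl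

theorem slEquiv_inv (b : ↥(borelSL F)) :
    ((((slEquiv F b).1)⁻¹ : Fˣ) : F) = ((b : SpecialLinearGroup (Fin 2) F) : Matrix (Fin 2) (Fin 2) F) 1 1 := by
  have hd := borelSL_diag b.2
  rw [Units.val_inv_eq_inv_val, slEquiv_fst]
  exact (eq_inv_of_mul_eq_one_right hd).symm

section finite

variable [Fintype F] [DecidableEq F]

theorem sum_sl [Fintype ↥(borelSL F)] (f : Fˣ × F → ℂ) :
    ∑ b : ↥(borelSL F), f (slEquiv F b) = ∑ a : Fˣ, ∑ e : F, f (a, e) := by
  rw [Fintype.sum_equiv (slEquiv F) (fun b => f (slEquiv F b)) f (fun _ => rfl)]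
  rw [Fintype.sum_prod_type]

theorem sum_sl' [Fintype ↥(borelSL F)] (f : F → F → F → ℂ) :
    ∑ b : ↥(borelSL F), f (((b : SpecialLinearGroup (Fin 2) F) : Matrix (Fin 2) (Fin 2) F) 0 0)
      (((b : SpecialLinearGroup (Fin 2) F) : Matrix (Fin 2) (Fin 2) F) 1 1)
      (((b : SpecialLinearGroup (Fin 2) F) : Matrix (Fin 2) (Fin 2) F) 0 1)
      = ∑ a : Fˣ, ∑ e : F, f a ((a⁻¹ : Fˣ) : F) e := by
  rw [← sum_sl (fun p : Fˣ × F => f p.1 ((p.1⁻¹ : Fˣ) : F) p.2)]
  apply Finset.sum_congr rfl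
  intro b _
  rw [slEquiv_inv]
  rfl

/-- The inner sum in the Mackey computation for `SL₂`. -/
noncomputable def psTSL [Fintype ↥(borelSL F)] (α α' : MulChar F ℂ)
    (x : SpecialLinearGroup (Fin 2) F) : ℂ :=
  ∑ b : ↥(borelSL F), psCharSL α b *
    conj (extendByZero (borelSL F) (psCharSL α') (x⁻¹ * (b : SpecialLinearGroup (Fin 2) F) * x))

theorem psTSL_of_mem [Fintype ↥(borelSL F)] (α α' : MulChar F ℂ)
    {x : SpecialLinearGroup (Fin 2) F} (hx : x ∈ borelSL F) :
    psTSL α α' x = (Fintype.card F : ℂ) * (∑ a : F, α a * conj (α' a)) := by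
  unfold psTSL
  have h1 : ∀ b : ↥(borelSL F),
      psCharSL α b * conj (extendByZero (borelSL F) (psCharSL α') (x⁻¹ * (b : SpecialLinearGroup (Fin 2) F) * x))
      = (fun a _ _ : F => α a * conj (α' a))
          (((b : SpecialLinearGroup (Fin 2) F) : Matrix (Fin 2) (Fin 2) F) 0 0)
          (((b : SpecialLinearGroup (Fin 2) F) : Matrix (Fin 2) (Fin 2) F) 1 1)
          (((b : SpecialLinearGroup (Fin 2) F) : Matrix (Fin 2) (Fin 2) F) 0 1) := by
    intro b
    have e1 : x⁻¹ * (b : SpecialLinearGroup (Fin 2) F) * x =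
        ((⟨x, hx⟩⁻¹ * b * ⟨x, hx⟩ : ↥(borelSL F)) : SpecialLinearGroup (Fin 2) F) := by
      simp
    rw [e1, extendByZero_apply_coe]
    have e2 : psCharSL α' (⟨x, hx⟩⁻¹ * b * ⟨x, hx⟩) = psCharSL α' b := by
      change psHomSL α' (⟨x, hx⟩⁻¹ * b * ⟨x, hx⟩) = psHomSL α' b
      rw [map_mul, map_mul, mul_comm (psHomSL _ _), mul_assoc, ← map_mul, inv_mul_cancel, map_one, mul_one]
    rw [e2]
    rfl
  rw [Finset.sum_congr rfl (fun b _ => h1 b)]
  refine (sum_sl' (F := F) (fun a _ _ : F => α a * conj (α' a))).trans ?_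
  simp only [Finset.sum_const, Finset.card_univ, nsmul_eq_mul]
  rw [← Finset.mul_sum, sum_units_eq_sum (fun a => α a * conj (α' a)) (by rw [MulChar.map_zero, zero_mul])]

theorem psTSL_of_not_mem [Fintype ↥(borelSL F)] (α α' : MulChar F ℂ)
    {x : SpecialLinearGroup (Fin 2) F} (hx : x ∉ borelSL F) :
    psTSL α α' x = ∑ a : F, α a * conj (α'⁻¹ a) := by
  unfold psTSL
  have hc : (x : Matrix (Fin 2) (Fin 2) F) 1 0 ≠ 0 := fun h0 => hx (mem_borelSL.mpr h0)
  have h1 : ∀ b : ↥(borelSL F),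
      psCharSL α b * conj (extendByZero (borelSL F) (psCharSL α') (x⁻¹ * (b : SpecialLinearGroup (Fin 2) F) * x))
      = (fun a d e : F =>
          if e * (x : Matrix (Fin 2) (Fin 2) F) 1 0 = (x : Matrix (Fin 2) (Fin 2) F) 0 0 * (d - a) then
          α a * conj (α' d) else 0)
          (((b : SpecialLinearGroup (Fin 2) F) : Matrix (Fin 2) (Fin 2) F) 0 0)
          (((b : SpecialLinearGroup (Fin 2) F) : Matrix (Fin 2) (Fin 2) F) 1 1)
          (((b : SpecialLinearGroup (Fin 2) F) : Matrix (Fin 2) (Fin 2) F) 0 1) := by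
    intro b
    obtain ⟨hiff, hdiag⟩ := conj_borelSL x (b : SpecialLinearGroup (Fin 2) F) b.2 hx
    by_cases hm : x⁻¹ * (b : SpecialLinearGroup (Fin 2) F) * x ∈ borelSL F
    · have hcond := hiff.mp hm
      obtain ⟨d0, d1⟩ := hdiag hm
      have e1 : extendByZero (borelSL F) (psCharSL α') (x⁻¹ * (b : SpecialLinearGroup (Fin 2) F) * x)
          = psCharSL α' ⟨_, hm⟩ := extendByZero_apply_coe _ _ ⟨_, hm⟩
      rw [e1]
      beta_reduce
      rw [if_pos hcond, psCharSL_apply, psCharSL_apply]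
      simp only [d0]
    · rw [extendByZero_apply_of_not_mem _ _ hm, map_zero, mul_zero]
      beta_reduce
      rw [if_neg]
      intro hcond
      exact hm (hiff.mpr hcond)
  rw [Finset.sum_congr rfl (fun b _ => h1 b)]
  refine (sum_sl' (F := F) (fun a d e : F =>
          if e * (x : Matrix (Fin 2) (Fin 2) F) 1 0 = (x : Matrix (Fin 2) (Fin 2) F) 0 0 * (d - a) then
          α a * conj (α' d) else 0)).trans ?_
  simp only [← eq_div_iff hc, Finset.sum_ite_eq', Finset.mem_univ, if_true]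
  rw [← sum_units_eq_sum (fun a => α a * conj (α'⁻¹ a)) (by rw [MulChar.map_zero, zero_mul])]
  apply Finset.sum_congr rfl
  intro a _
  rw [MulChar.inv_apply', Units.val_inv_eq_inv_val]

omit [DecidableEq F] in
theorem card_borelSL_complex :
    (Nat.card ↥(borelSL F) : ℂ) = (Fintype.card F : ℂ) * ((Fintype.card F : ℂ) - 1) := by
  rw [Nat.card_congr (slEquiv F), Nat.card_prod, Nat.card_units, Nat.card_eq_fintype_card]
  have : 1 ≤ Fintype.card F := Fintype.card_pos
  push_cast [Nat.cast_sub this]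
  ring

omit [DecidableEq F] in
theorem card_SL2_complex :
    (Nat.card (SpecialLinearGroup (Fin 2) F) : ℂ) =
      (Fintype.card F : ℂ) * ((Fintype.card F : ℂ) - 1) * ((Fintype.card F : ℂ) + 1) := by
  rw [card_SL2]
  have : 1 ≤ Fintype.card F ^ 2 := Nat.one_le_pow _ _ Fintype.card_pos
  push_cast [Nat.cast_sub this]
  ring

/-- Mackey formula for the principal series of `SL₂(F)`. -/
theorem classInner_indFun_psCharSL (α α' : MulChar F ℂ) :
    classInner (indFun (borelSL F) (psCharSL α)) (indFun (borelSL F) (psCharSL α'))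
      = (if α = α' then 1 else 0) + (if α = α'⁻¹ then 1 else 0) := by
  classical
  have : Fintype ↥(borelSL F) := Fintype.ofFinite _
  rw [frobenius_reciprocity _ _ (indFun_isClassFunction _ _)]
  unfold classInner
  have h1 : ∀ b : ↥(borelSL F),
      psCharSL α b * conj (indFun (borelSL F) (psCharSL α') (b : SpecialLinearGroup (Fin 2) F))
      = (Nat.card ↥(borelSL F) : ℂ)⁻¹ * ∑ x : SpecialLinearGroup (Fin 2) F, psCharSL α b *
        conj (extendByZero (borelSL F) (psCharSL α') (x⁻¹ * (b : SpecialLinearGroup (Fin 2) F) * x)) := by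
    intro b
    unfold Cfsg.indFun
    rw [map_mul, map_inv₀, map_natCast, map_sum, Finset.mul_sum, Finset.mul_sum, Finset.mul_sum]
    apply Finset.sum_congr rfl
    intro x _
    ring
  rw [Finset.sum_congr rfl (fun b _ => h1 b), ← Finset.mul_sum, Finset.sum_comm]
  have h2 : ∀ x : SpecialLinearGroup (Fin 2) F, (∑ b : ↥(borelSL F), psCharSL α b *
        conj (extendByZero (borelSL F) (psCharSL α') (x⁻¹ * (b : SpecialLinearGroup (Fin 2) F) * x)))
      = if x ∈ borelSL F then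
          (Fintype.card F : ℂ) * (∑ a : F, α a * conj (α' a))
        else ∑ a : F, α a * conj (α'⁻¹ a) := by
    intro x
    split_ifs with hx
    · exact psTSL_of_mem α α' hx
    · exact psTSL_of_not_mem α α' hx
  rw [Finset.sum_congr rfl (fun x _ => h2 x), sum_ite_mem_subgroup, card_borelSL_complex, card_SL2_complex]
  simp only [sum_mulChar_mul_conj]
  have hq0 : (Fintype.card F : ℂ) ≠ 0 := by
    exact_mod_cast (Fintype.card_pos (α := F)).ne'
  have hq1 : (Fintype.card F : ℂ) - 1 ≠ 0 := by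
    have : 1 < Fintype.card F := Fintype.one_lt_card
    rw [sub_ne_zero]
    exact_mod_cast this.ne'
  split_ifs <;> (field_simp; try ring)

end finite

end Cfsg.Agent.Lib.Helper13
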