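/-
helper13: bridging characters of a group `S` and of an overgroup `G` in which `S` embeds as a
normal subgroup (via an injective hom `ι`), using Helper6's function-level Clifford theory.
-/
import Mathlib
import Cfsg.Agent.Lib.Helper6.CliffordCorr
import Cfsg.Agent.Lib.Helper6.CharNorm
import Cfsg.Agent.Lib.Helper10.IndFun

set_option autoImplicit false

namespace Cfsg.Agent.Lib.Helper13

open Cfsg Cfsg.Agent.CharLib Cfsg.Agent.Lib.Helper6

section general

variable {S : Type*} {G : Type*} [Group S] [Group G] [Fintype S] [Fintype G]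

/-- Every irreducible character of `S` lies under an irreducible character of `G`. -/
theorem exists_irr_over (ι : S →* G) (hι : Function.Injective ι) {θ : S → ℂ}
    (hθ : IsIrrCharacter S θ) :
    ∃ χ : G → ℂ, IsIrrCharacter G χ ∧ classInner (fun s => χ (ι s)) θ ≠ 0 := by
  classical
  let e : S ≃* ι.range := MonoidHom.ofInjective hι
  let _ : Fintype ι.range := Fintype.ofFinite _
  have hθ' : IsIrrCharacter ι.range (θ ∘ e.symm) := isIrrCharacter_comp_mulEquiv' e.symm hθ
  have hInd : IsCharacter G (indFun ι.range (θ ∘ e.symm)) :=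
    IsCharacter.indFun ι.range (IsIrrCharacter.isCharacter hθ')
  have hne : indFun ι.range (θ ∘ e.symm) ≠ 0 := by
    intro h0
    have h1 := congrFun h0 1
    rw [indFun_apply_one, Pi.zero_apply] at h1
    obtain ⟨n, hn, hn1⟩ := IsIrrCharacter.apply_one_pos hθ'
    rw [hn1] at h1
    have hH : (Nat.card ι.range : ℂ) ≠ 0 := Nat.cast_ne_zero.mpr Nat.card_pos.ne'
    have hG : (Nat.card G : ℂ) ≠ 0 := Nat.cast_ne_zero.mpr Nat.card_pos.ne'
    have hn' : (n : ℂ) ≠ 0 := Nat.cast_ne_zero.mpr hn.ne'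
    exact mul_ne_zero (mul_ne_zero (inv_ne_zero hH) hG) hn' h1
  obtain ⟨χ, hχ, hχ1⟩ := IsCharacter.exists_constituent hInd hne
  refine ⟨χ, hχ, ?_⟩
  rw [frobenius_reciprocity ι.range _
    (IsCharacter.isClassFunction (IsIrrCharacter.isCharacter hχ))] at hχ1
  intro h0
  apply hχ1
  rw [← classInner_conj_symm, ← classInner_comp_mulEquiv e]
  have e1 : (fun h : ι.range => χ h) ∘ e = fun s => χ (ι s) := rfl
  have e2 : (θ ∘ e.symm) ∘ e = θ := by
    funext s
    simp
  rw [e1, e2, h0, map_zero]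

/-- Irreducible constituents of the restriction to `S` of an irreducible character of `G`
are conjugate under `G` (when the image of `S` is normal). -/
theorem conj_of_constituents (ι : S →* G) (hι : Function.Injective ι) [hN : ι.range.Normal]
    {χ : G → ℂ} (hχ : IsIrrCharacter G χ) {θ φ : S → ℂ}
    (hθ : IsIrrCharacter S θ) (hφ : IsIrrCharacter S φ)
    (h1 : classInner (fun s => χ (ι s)) θ ≠ 0) (h2 : classInner (fun s => χ (ι s)) φ ≠ 0) :
    ∃ x : G, ∀ g h : S, ι h = x * ι g * x⁻¹ → θ h = φ g := by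
  classical
  let e : S ≃* ι.range := MonoidHom.ofInjective hι
  let _ : Fintype ι.range := Fintype.ofFinite _
  have hθ' : IsIrrCharacter ι.range (θ ∘ e.symm) := isIrrCharacter_comp_mulEquiv' e.symm hθ
  have hφ' : IsIrrCharacter ι.range (φ ∘ e.symm) := isIrrCharacter_comp_mulEquiv' e.symm hφ
  have key : ∀ ψ : S → ℂ, classInner (resFun ι.range χ) (ψ ∘ e.symm) =
      classInner (fun s => χ (ι s)) ψ := by
    intro ψ
    rw [← classInner_comp_mulEquiv e]
    have e1 : (resFun ι.range χ) ∘ e = fun s => χ (ι s) := rfl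
    have e2 : (ψ ∘ e.symm) ∘ e = ψ := by
      funext s
      simp
    rw [e1, e2]
  obtain ⟨x, hx⟩ := exists_conjFun_eq_of_constituent ι.range hχ hθ' hφ'
    (by rw [key]; exact h1) (by rw [key]; exact h2)
  refine ⟨x, ?_⟩
  intro g h hgh
  have h3 := congrFun hx (e g)
  rw [conjFun_apply] at h3
  have e3 : (⟨x * (e g : G) * x⁻¹, hN.conj_mem (e g) (e g).2 x⟩ : ι.range) = e h := by
    apply Subtype.ext
    exact hgh.symm
  rw [e3] at h3
  simpa using h3

omit [Fintype G] in
/-- A character of degree zero vanishes. -/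
theorem isCharacter_eq_zero_of_apply_one {χ : G → ℂ} (hχ : IsCharacter G χ) (h : χ 1 = 0) :
    χ = 0 := by
  obtain ⟨n, ρ, rfl⟩ := hχ
  have hn : n = 0 := by
    have h1 : ρ.character 1 = n := by simp
    rw [h1] at h
    exact_mod_cast h
  subst hn
  funext g
  have h2 : ρ g = 0 := Subsingleton.elim _ _
  change LinearMap.trace ℂ _ (ρ g) = 0
  rw [h2, map_zero]

/-- Degrees: an irreducible constituent `ψ` of a character `Φ` has `ψ 1 ≤ Φ 1`, with equality
only if `Φ = ψ`; the difference is a character. -/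
theorem constituent_degree {Φ ψ : G → ℂ} (hΦ : IsCharacter G Φ) (hψ : IsIrrCharacter G ψ)
    (h : classInner Φ ψ ≠ 0) :
    IsCharacter G (Φ - ψ) ∧ ∃ n : ℕ, Φ 1 = ψ 1 + n ∧ (n = 0 → Φ = ψ) := by
  have hsub := IsCharacter.sub_constituent hΦ hψ h
  refine ⟨hsub, ?_⟩
  obtain ⟨n, hn⟩ := IsCharacter.apply_one hsub
  refine ⟨n, ?_, ?_⟩
  · rw [← hn, Pi.sub_apply]
    ring
  · intro h0
    rw [h0, Nat.cast_zero] at hn
    have := isCharacter_eq_zero_of_apply_one hsub hn
    exact sub_eq_zero.mp this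

/-- A character of norm two is the sum of two distinct irreducible characters. -/
theorem exists_two_of_norm_two {Φ : G → ℂ} (hΦ : IsCharacter G Φ) (h2 : classInner Φ Φ = 2) :
    ∃ χ₁ χ₂ : G → ℂ, IsIrrCharacter G χ₁ ∧ IsIrrCharacter G χ₂ ∧ χ₁ ≠ χ₂ ∧ Φ = χ₁ + χ₂ ∧
      classInner Φ χ₁ ≠ 0 ∧ classInner Φ χ₂ ≠ 0 := by
  have hne : Φ ≠ 0 := by
    intro h0
    rw [h0] at h2
    simp [classInner] at h2
  obtain ⟨χ₁, hχ₁, h1⟩ := IsCharacter.exists_constituent hΦ hne
  have hsub := IsCharacter.sub_constituent hΦ hχ₁ h1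
  obtain ⟨m, hm⟩ := IsCharacter.classInner_nat hΦ (IsIrrCharacter.isCharacter hχ₁)
  obtain ⟨k, hk⟩ := IsCharacter.classInner_nat hsub hsub
  have hm' : classInner χ₁ Φ = m := by
    rw [← classInner_conj_symm, hm, Complex.conj_natCast]
  have hnorm : classInner (Φ - χ₁) (Φ - χ₁) = 2 - m - m + 1 := by
    rw [classInner_sub_left, Cfsg.Agent.Lib.Helper10.classInner_sub_right, Cfsg.Agent.Lib.Helper10.classInner_sub_right, h2, hm, hm',
      classInner_irr hχ₁ hχ₁, if_pos rfl]
    ring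
  have hm0 : m ≠ 0 := by
    intro h0
    apply h1
    rw [hm, h0, Nat.cast_zero]
  have hkm : k + 2 * m = 3 := by
    have : (k : ℂ) + 2 * m = 3 := by
      rw [← hk, hnorm]
      ring
    exact_mod_cast this
  have hm1 : m = 1 := by omega
  have hk1 : k = 1 := by omega
  have hirr2 : IsIrrCharacter G (Φ - χ₁) := by
    apply isIrrCharacter_of_classInner_self_eq_one hsub
    rw [hk, hk1, Nat.cast_one]
  have h12 : classInner (Φ - χ₁) χ₁ = 0 := by
    rw [classInner_sub_left, hm, hm1, classInner_irr hχ₁ hχ₁, if_pos rfl]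
    simp
  refine ⟨χ₁, Φ - χ₁, hχ₁, hirr2, ?_, by ring, h1, ?_⟩
  · intro heq
    rw [← heq, classInner_irr hχ₁ hχ₁, if_pos rfl] at h12
    exact one_ne_zero h12
  · rw [← classInner_conj_symm, classInner_sub_left, h2, hm', hm1]
    norm_num

/-- Clifford's theorem in summed form: the restriction of `χ` is a nonzero multiple of the sum of
all `G`-conjugates of a constituent `θ`. Here `cj x s` is the conjugate `x s x⁻¹` computed in `S`. -/
theorem clifford_sum (ι : S →* G) (hι : Function.Injective ι) [hN : ι.range.Normal]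
    {χ : G → ℂ} (hχ : IsIrrCharacter G χ) {θ : S → ℂ} (hθ : IsIrrCharacter S θ)
    (h1 : classInner (fun s => χ (ι s)) θ ≠ 0) :
    ∃ c : ℂ, c ≠ 0 ∧ ∀ cj : G → S → S, (∀ x s, ι (cj x s) = x * ι s * x⁻¹) →
      ∀ s : S, χ (ι s) = c * ∑ x : G, θ (cj x s) := by
  classical
  let e : S ≃* ι.range := MonoidHom.ofInjective hι
  let _ : Fintype ι.range := Fintype.ofFinite _
  have hθ' : IsIrrCharacter ι.range (θ ∘ e.symm) := isIrrCharacter_comp_mulEquiv' e.symm hθ
  have key : classInner (resFun ι.range χ) (θ ∘ e.symm) = classInner (fun s => χ (ι s)) θ := by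
    rw [← classInner_comp_mulEquiv e]
    have e1 : (resFun ι.range χ) ∘ e = fun s => χ (ι s) := rfl
    have e2 : (θ ∘ e.symm) ∘ e = θ := by
      funext s
      simp
    rw [e1, e2]
  have h1' : classInner (resFun ι.range χ) (θ ∘ e.symm) ≠ 0 := by rw [key]; exact h1
  have hcl := clifford ι.range hχ hθ' h1'
  have hsum := sum_conjFun_eq ι.range (θ ∘ e.symm)
  have hstab : (Nat.card {g : G // conjFun ι.range g (θ ∘ e.symm) = θ ∘ e.symm} : ℂ) ≠ 0 := by
    have : Nonempty {g : G // conjFun ι.range g (θ ∘ e.symm) = θ ∘ e.symm} :=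
      ⟨⟨1, conjFun_one _ _⟩⟩
    exact Nat.cast_ne_zero.mpr Nat.card_pos.ne'
  refine ⟨classInner (fun s => χ (ι s)) θ *
    (Nat.card {g : G // conjFun ι.range g (θ ∘ e.symm) = θ ∘ e.symm} : ℂ)⁻¹,
    mul_ne_zero h1 (inv_ne_zero hstab), ?_⟩
  intro cj hcj s
  have h2 := congrFun hcl (e s)
  rw [resFun_apply, key] at h2
  have h3 : (∑ ψ ∈ conjOrbit ι.range (θ ∘ e.symm), ψ) =
      (Nat.card {g : G // conjFun ι.range g (θ ∘ e.symm) = θ ∘ e.symm} : ℂ)⁻¹ •
        ∑ x : G, conjFun ι.range x (θ ∘ e.symm) := by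
    rw [hsum, ← Nat.cast_smul_eq_nsmul ℂ, smul_smul, inv_mul_cancel₀ hstab, one_smul]
  rw [h3] at h2
  have h4 : ∀ x : G, conjFun ι.range x (θ ∘ e.symm) (e s) = θ (cj x s) := by
    intro x
    rw [conjFun_apply]
    have e3 : (⟨x * (e s : G) * x⁻¹, hN.conj_mem (e s) (e s).2 x⟩ : ι.range) = e (cj x s) := by
      apply Subtype.ext
      exact (hcj x s).symm
    rw [e3]
    simp
  have h5 : χ (ι s) = χ ((e s : ι.range) : G) := rfl
  rw [h5, h2]
  simp only [Pi.smul_apply, Finset.sum_apply, smul_eq_mul, h4]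
  ring

/-- Proportionality for `G`-stable weighted sums: if `∑ w s * θ (x s x⁻¹) = ∑ w s * θ s` for all
`x : G`, then `(∑ w s * χ s) * θ 1 = χ 1 * ∑ w s * θ s`. -/
theorem clifford_prop (ι : S →* G) (hι : Function.Injective ι) [hN : ι.range.Normal]
    {χ : G → ℂ} (hχ : IsIrrCharacter G χ) {θ : S → ℂ} (hθ : IsIrrCharacter S θ)
    (h1 : classInner (fun s => χ (ι s)) θ ≠ 0)
    (cj : G → S → S) (hcj : ∀ x s, ι (cj x s) = x * ι s * x⁻¹) (w : S → ℂ)
    (hinv : ∀ x : G, ∑ s, w s * θ (cj x s) = ∑ s, w s * θ s) :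
    (∑ s, w s * χ (ι s)) * θ 1 = χ 1 * ∑ s, w s * θ s := by
  obtain ⟨c, -, hc⟩ := clifford_sum ι hι hχ hθ h1
  have hc' := hc cj hcj
  have hone : ∀ x : G, cj x 1 = 1 := by
    intro x
    apply hι
    rw [hcj, map_one, mul_one, mul_inv_cancel]
  have h2 : χ 1 = c * ((Fintype.card G : ℂ) * θ 1) := by
    have := hc' 1
    rw [map_one] at this
    rw [this]
    simp only [hone, Finset.sum_const, Finset.card_univ, nsmul_eq_mul]
  have h3 : ∑ s, w s * χ (ι s) = c * ((Fintype.card G : ℂ) * ∑ s, w s * θ s) := by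
    have : ∀ s, w s * χ (ι s) = c * ∑ x : G, w s * θ (cj x s) := by
      intro s
      rw [hc' s, Finset.mul_sum, Finset.mul_sum, Finset.mul_sum]
      apply Finset.sum_congr rfl
      intro x _
      ring
    rw [Finset.sum_congr rfl (fun s _ => this s), ← Finset.mul_sum, Finset.sum_comm]
    rw [Finset.sum_congr rfl (fun x _ => hinv x)]
    simp only [Finset.sum_const, Finset.card_univ, nsmul_eq_mul]
  rw [h2, h3]
  ring

/-- Proportionality at an element whose `G`-class meets `S` in a single `θ`-value. -/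
theorem clifford_stable_elt (ι : S →* G) (hι : Function.Injective ι) [hN : ι.range.Normal]
    {χ : G → ℂ} (hχ : IsIrrCharacter G χ) {θ : S → ℂ} (hθ : IsIrrCharacter S θ)
    (h1 : classInner (fun s => χ (ι s)) θ ≠ 0)
    (cj : G → S → S) (hcj : ∀ x s, ι (cj x s) = x * ι s * x⁻¹) (g : S)
    (hst : ∀ x : G, θ (cj x g) = θ g) :
    χ (ι g) * θ 1 = χ 1 * θ g := by
  classical
  have h := clifford_prop ι hι hχ hθ h1 cj hcj (fun s => if s = g then 1 else 0) (by
    intro x
    simp only [ite_mul, one_mul, zero_mul, Finset.sum_ite_eq', Finset.mem_univ, if_true]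
    exact hst x)
  simp only [ite_mul, one_mul, zero_mul, Finset.sum_ite_eq', Finset.mem_univ, if_true] at h
  exact h

/-- The degree of a constituent of the restriction divides the degree of `χ` (Clifford). -/
theorem degree_dvd (ι : S →* G) (hι : Function.Injective ι) [hN : ι.range.Normal]
    {χ : G → ℂ} (hχ : IsIrrCharacter G χ) {θ : S → ℂ} (hθ : IsIrrCharacter S θ)
    (h1 : classInner (fun s => χ (ι s)) θ ≠ 0) :
    ∃ m : ℕ, m ≠ 0 ∧ χ 1 = m * θ 1 := by
  classical
  let e : S ≃* ι.range := MonoidHom.ofInjective hι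
  let _ : Fintype ι.range := Fintype.ofFinite _
  have hθ' : IsIrrCharacter ι.range (θ ∘ e.symm) := isIrrCharacter_comp_mulEquiv' e.symm hθ
  have key : classInner (resFun ι.range χ) (θ ∘ e.symm) = classInner (fun s => χ (ι s)) θ := by
    rw [← classInner_comp_mulEquiv e]
    have e1 : (resFun ι.range χ) ∘ e = fun s => χ (ι s) := rfl
    have e2 : (θ ∘ e.symm) ∘ e = θ := by
      funext s
      simp
    rw [e1, e2]
  have h1' : classInner (resFun ι.range χ) (θ ∘ e.symm) ≠ 0 := by rw [key]; exact h1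
  have hdeg := clifford_degree ι.range hχ hθ' h1'
  obtain ⟨a, ha⟩ := IsCharacter.classInner_nat
    (isCharacter_resFun ι.range (IsIrrCharacter.isCharacter hχ)) (IsIrrCharacter.isCharacter hθ')
  have ha0 : a ≠ 0 := by
    intro h0
    apply h1'
    rw [ha, h0, Nat.cast_zero]
  have hne : (conjOrbit ι.range (θ ∘ e.symm)).card ≠ 0 :=
    Finset.card_ne_zero.mpr ⟨_, self_mem_conjOrbit ι.range _⟩
  refine ⟨a * (conjOrbit ι.range (θ ∘ e.symm)).card, Nat.mul_ne_zero ha0 hne, ?_⟩
  rw [hdeg, ha]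
  have : (θ ∘ e.symm) 1 = θ 1 := by simp
  rw [this]
  push_cast
  ring

end general

end Cfsg.Agent.Lib.Helper13
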