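/-
helper13: the bridge between characters of `SL₂(F)` and `GL₂(F)`:
restriction, Clifford conjugacy, restriction of principal series.
-/
import Mathlib
import Cfsg.Agent.Lib.Helper13.SLBridge
import Cfsg.Agent.Lib.Helper13.PSCount

set_option autoImplicit false

namespace Cfsg.Agent.Lib.Helper13

open Matrix Cfsg Cfsg.Agent.CharLib Cfsg.Agent.Lib.Helper6
open scoped ComplexConjugate

variable {F : Type*} [Field F]

theorem mem_range_toGL_iff (g : GL (Fin 2) F) :
    g ∈ (SpecialLinearGroup.toGL : SpecialLinearGroup (Fin 2) F →* GL (Fin 2) F).range ↔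
      (g : Matrix (Fin 2) (Fin 2) F).det = 1 := by
  constructor
  · rintro ⟨s, rfl⟩
    exact s.2
  · intro h
    exact ⟨⟨(g : Matrix (Fin 2) (Fin 2) F), h⟩, Units.ext rfl⟩

instance toGL_range_normal :
    (SpecialLinearGroup.toGL : SpecialLinearGroup (Fin 2) F →* GL (Fin 2) F).range.Normal := by
  constructor
  intro n hn g
  rw [mem_range_toGL_iff] at hn ⊢
  rw [Units.val_mul, Units.val_mul, Matrix.det_mul, Matrix.det_mul, hn, mul_one, ← Matrix.det_mul,
    ← Units.val_mul, mul_inv_cancel, Units.val_one, Matrix.det_one]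

/-- Restriction of a function on `GL₂` to `SL₂`. -/
def resSL (χ : GL (Fin 2) F → ℂ) : SpecialLinearGroup (Fin 2) F → ℂ :=
  fun s => χ (SpecialLinearGroup.toGL s)

theorem resSL_apply (χ : GL (Fin 2) F → ℂ) (s : SpecialLinearGroup (Fin 2) F) :
    resSL χ s = χ (SpecialLinearGroup.toGL s) := rfl

theorem isCharacter_resSL {χ : GL (Fin 2) F → ℂ} (hχ : IsCharacter (GL (Fin 2) F) χ) :
    IsCharacter (SpecialLinearGroup (Fin 2) F) (resSL χ) :=
  IsCharacter.comp_hom hχ SpecialLinearGroup.toGL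

theorem resSL_one (χ : GL (Fin 2) F → ℂ) : resSL χ 1 = χ 1 := by
  rw [resSL_apply, map_one]

variable [Fintype F] [DecidableEq F]

/-- Every irreducible character of `SL₂` lies under an irreducible character of `GL₂`. -/
theorem exists_irr_over_SL {θ : SpecialLinearGroup (Fin 2) F → ℂ}
    (hθ : IsIrrCharacter (SpecialLinearGroup (Fin 2) F) θ) :
    ∃ χ : GL (Fin 2) F → ℂ, IsIrrCharacter (GL (Fin 2) F) χ ∧ classInner (resSL χ) θ ≠ 0 :=
  exists_irr_over SpecialLinearGroup.toGL SpecialLinearGroup.toGL_injective hθ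

/-- Constituents of the restriction of an irreducible character of `GL₂` are `GL₂`-conjugate. -/
theorem conj_of_constituents_SL {χ : GL (Fin 2) F → ℂ} (hχ : IsIrrCharacter (GL (Fin 2) F) χ)
    {θ φ : SpecialLinearGroup (Fin 2) F → ℂ}
    (hθ : IsIrrCharacter (SpecialLinearGroup (Fin 2) F) θ)
    (hφ : IsIrrCharacter (SpecialLinearGroup (Fin 2) F) φ)
    (h1 : classInner (resSL χ) θ ≠ 0) (h2 : classInner (resSL χ) φ ≠ 0) :
    ∃ x : GL (Fin 2) F, ∀ g h : SpecialLinearGroup (Fin 2) F,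
      SpecialLinearGroup.toGL h = x * SpecialLinearGroup.toGL g * x⁻¹ → θ h = φ g :=
  conj_of_constituents SpecialLinearGroup.toGL SpecialLinearGroup.toGL_injective hχ hθ hφ h1 h2

/-- Constituents of the restriction of an irreducible character of `GL₂` have equal degrees. -/
theorem degree_eq_of_constituents_SL {χ : GL (Fin 2) F → ℂ} (hχ : IsIrrCharacter (GL (Fin 2) F) χ)
    {θ φ : SpecialLinearGroup (Fin 2) F → ℂ}
    (hθ : IsIrrCharacter (SpecialLinearGroup (Fin 2) F) θ)
    (hφ : IsIrrCharacter (SpecialLinearGroup (Fin 2) F) φ)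
    (h1 : classInner (resSL χ) θ ≠ 0) (h2 : classInner (resSL χ) φ ≠ 0) : θ 1 = φ 1 := by
  obtain ⟨x, hx⟩ := conj_of_constituents_SL hχ hθ hφ h1 h2
  apply hx 1 1
  rw [map_one, mul_one, mul_inv_cancel]

/-- Values of the cuspidal characters of `GL₂` at `1` and at the transvection. -/
theorem cusp_values {χ : GL (Fin 2) F → ℂ} (hχ : IsIrrCharacter (GL (Fin 2) F) χ) (h4 : IsT4 χ) :
    χ 1 = (Fintype.card F : ℂ) - 1 ∧ χ (tGL 1) = -1 := by
  have h1 := (cusp_main (F := F)).1 ⟨χ, hχ⟩ h4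
  have h2 := Cfsg.Agent.Lib.Helper24.irr_apply_one (⟨χ, hχ⟩ : IrrCharacter (GL (Fin 2) F))
  change χ 1 = _ at h2
  change charDegree χ = _ at h1
  have hq : 1 < Fintype.card F := Fintype.one_lt_card
  have h3 : χ 1 = (Fintype.card F : ℂ) - 1 := by
    rw [h2, h1]
    push_cast [Nat.cast_sub hq.le]
    ring
  refine ⟨h3, ?_⟩
  have h5 : (Fintype.card F : ℂ) - 1 ≠ 0 := by
    rw [sub_ne_zero]
    exact_mod_cast hq.ne'
  unfold IsT4 at h4
  rw [h3] at h4
  have h6 : ((Fintype.card F : ℂ) - 1) * (1 + χ (tGL 1)) = 0 := by linear_combination h4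
  rcases mul_eq_zero.mp h6 with h7 | h7
  · exact absurd h7 h5
  · linear_combination h7

/-- The four types of irreducible characters of `GL₂`, with their degrees. -/
theorem irr_GL2_cases {χ : GL (Fin 2) F → ℂ} (hχ : IsIrrCharacter (GL (Fin 2) F) χ) :
    ((∃ α : MulChar F ℂ, χ = detChar α) ∧ χ 1 = 1) ∨
    ((∃ α : MulChar F ℂ, χ = stChar α) ∧ χ 1 = (Fintype.card F : ℂ)) ∨
    ((∃ α β : MulChar F ℂ, α ≠ β ∧ χ = indFun (Cfsg.upperTriangularGL 2 F) (psChar α β)) ∧
      χ 1 = (Fintype.card F : ℂ) + 1) ∨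
    (χ 1 = (Fintype.card F : ℂ) - 1 ∧ χ (tGL 1) = -1) := by
  rcases irr_cases hχ with h | ⟨α, β, hab, h⟩ | ⟨α, h⟩ | ⟨α, h⟩
  · right; right; right
    exact cusp_values hχ h
  · right; right; left
    exact ⟨⟨α, β, hab, h⟩, by rw [h, indFun_psChar_one]⟩
  · left
    exact ⟨⟨α, h⟩, by rw [h, detChar_one]⟩
  · right; left
    exact ⟨⟨α, h⟩, by rw [h, stChar_one]⟩

/-- Degree bookkeeping for an irreducible character `θ` of `SL₂` under an irreducible character
`χ` of `GL₂`: either `θ` is the whole restriction, or the rest contains another conjugate. -/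
theorem under_cases {χ : GL (Fin 2) F → ℂ} (hχ : IsIrrCharacter (GL (Fin 2) F) χ)
    {θ : SpecialLinearGroup (Fin 2) F → ℂ} (hθ : IsIrrCharacter (SpecialLinearGroup (Fin 2) F) θ)
    (h1 : classInner (resSL χ) θ ≠ 0) :
    ∃ n : ℕ, χ 1 = θ 1 + n ∧ (n = 0 → resSL χ = θ) ∧ (n ≠ 0 → ∃ k : ℕ, (n : ℂ) = θ 1 + k) := by
  have hres := isCharacter_resSL (IsIrrCharacter.isCharacter hχ)
  obtain ⟨hsub, n, hn, hn0⟩ := constituent_degree hres hθ h1
  rw [resSL_one] at hn
  refine ⟨n, hn, hn0, ?_⟩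
  intro hne
  have hΨ : resSL χ - θ ≠ 0 := by
    intro h0
    have h2 := congrFun h0 1
    rw [Pi.sub_apply, resSL_one, hn, Pi.zero_apply] at h2
    apply hne
    have : (n : ℂ) = 0 := by linear_combination h2
    exact_mod_cast this
  obtain ⟨φ, hφ, hφ1⟩ := IsCharacter.exists_constituent hsub hΨ
  obtain ⟨a, ha⟩ := IsCharacter.classInner_nat hsub (IsIrrCharacter.isCharacter hφ)
  have ha0 : a ≠ 0 := by
    intro h0
    apply hφ1
    rw [ha, h0, Nat.cast_zero]
  have h2 : classInner (resSL χ) φ ≠ 0 := by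
    have e1 : resSL χ = (resSL χ - θ) + θ := by ring
    rw [e1, classInner_add_left, ha, classInner_irr hθ hφ]
    split_ifs
    · have : ((a + 1 : ℕ) : ℂ) ≠ 0 := Nat.cast_ne_zero.mpr (by omega)
      simpa using this
    · simpa using ha0
  have hdeg := degree_eq_of_constituents_SL hχ hθ hφ h1 h2
  obtain ⟨-, k, hk, -⟩ := constituent_degree hsub hφ hφ1
  refine ⟨k, ?_⟩
  rw [Pi.sub_apply, resSL_one, hn] at hk
  rw [hdeg]
  linear_combination hk

omit [Fintype F] [DecidableEq F] in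
/-- For `g = [[a,t],[0,a]]`, `t ≠ 0`: a conjugate `x⁻¹ g x` is upper triangular iff `x` is. -/
theorem conj_scal_unip_mem_iff (x g : GL (Fin 2) F) (a t : F) (ht : t ≠ 0)
    (hg : (g : Matrix (Fin 2) (Fin 2) F) = !![a, t; 0, a]) :
    x⁻¹ * g * x ∈ Cfsg.upperTriangularGL 2 F ↔ x ∈ Cfsg.upperTriangularGL 2 F := by
  have hg_mem : g ∈ Cfsg.upperTriangularGL 2 F := by
    rw [mem_upperTriangularGL_two, hg]; simp
  constructor
  · intro h
    set y := x⁻¹ * g * x with hy
    have hxy : (x : Matrix (Fin 2) (Fin 2) F) * (y : Matrix (Fin 2) (Fin 2) F)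
        = (g : Matrix (Fin 2) (Fin 2) F) * (x : Matrix (Fin 2) (Fin 2) F) := by
      rw [← Units.val_mul, ← Units.val_mul]
      congr 1
      rw [hy]; group
    have hy10 := mem_upperTriangularGL_two.mp h
    rw [mem_upperTriangularGL_two]
    have h00 := congr_fun (congr_fun hxy 0) 0
    have h10 := congr_fun (congr_fun hxy 1) 0
    rw [hg] at h00 h10
    simp only [Matrix.mul_apply, Fin.sum_univ_two, hy10, mul_zero, add_zero, Matrix.of_apply,
      Matrix.cons_val_zero, Matrix.cons_val_one, Matrix.cons_val', zero_mul, zero_add,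
      Matrix.cons_val_fin_one] at h00 h10
    by_contra hx
    have h1 : (y : Matrix (Fin 2) (Fin 2) F) 0 0 = a := by
      have : (x : Matrix (Fin 2) (Fin 2) F) 1 0 * ((y : Matrix (Fin 2) (Fin 2) F) 0 0 - a) = 0 := by
        linear_combination h10
      rcases mul_eq_zero.mp this with h' | h'
      · exact absurd h' hx
      · exact sub_eq_zero.mp h'
    rw [h1] at h00
    have : t * (x : Matrix (Fin 2) (Fin 2) F) 1 0 = 0 := by linear_combination -h00
    rcases mul_eq_zero.mp this with h' | h'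
    · exact ht h'
    · exact hx h'
  · intro hx
    exact Subgroup.mul_mem _ (Subgroup.mul_mem _ (Subgroup.inv_mem _ hx) hg_mem) hx

/-- Values of the principal series characters at `[[a,t],[0,a]]`, `t ≠ 0`. -/
theorem indFun_psChar_scal_unip (α β : MulChar F ℂ) (g : GL (Fin 2) F) (a t : F) (ht : t ≠ 0)
    (hg : (g : Matrix (Fin 2) (Fin 2) F) = !![a, t; 0, a]) :
    indFun (Cfsg.upperTriangularGL 2 F) (psChar α β) g = α a * β a := by
  classical
  have hg_mem : g ∈ Cfsg.upperTriangularGL 2 F := by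
    rw [mem_upperTriangularGL_two, hg]; simp
  unfold Cfsg.indFun
  have h1 : ∀ x : GL (Fin 2) F, extendByZero (Cfsg.upperTriangularGL 2 F) (psChar α β) (x⁻¹ * g * x)
      = if x ∈ Cfsg.upperTriangularGL 2 F then α a * β a else 0 := by
    intro x
    split_ifs with hx
    · rw [extendByZero_psChar_conj α β hx]
      have e0 : g = ((⟨g, hg_mem⟩ : ↥(Cfsg.upperTriangularGL 2 F)) : GL (Fin 2) F) := rfl
      rw [e0, extendByZero_apply_coe, psChar_apply]
      simp [hg]
    · apply extendByZero_apply_of_not_mem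
      rw [conj_scal_unip_mem_iff x g a t ht hg]
      exact hx
  rw [Finset.sum_congr rfl (fun x _ => h1 x), sum_ite_mem_subgroup, mul_zero, add_zero, ← mul_assoc,
    inv_mul_cancel₀ card_ut_ne_zero, one_mul]

theorem stChar_scal_unip (α : MulChar F ℂ) (g : GL (Fin 2) F) (a t : F) (ht : t ≠ 0)
    (hg : (g : Matrix (Fin 2) (Fin 2) F) = !![a, t; 0, a]) : stChar α g = 0 := by
  unfold stChar
  rw [Pi.sub_apply, indFun_psChar_scal_unip α α g a t ht hg, detChar_apply, hg]
  simp [Matrix.det_fin_two]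

end Cfsg.Agent.Lib.Helper13
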