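/-
helper13: `GL₂ = SL₂ ⋊ {diag(t,1)}` and the restriction of principal series characters of `GL₂`
to `SL₂`.
-/
import Mathlib
import Cfsg.Agent.Lib.Helper13.SLBridge2
import Cfsg.Agent.Lib.Helper13.PSSL

set_option autoImplicit false

namespace Cfsg.Agent.Lib.Helper13

open Matrix Cfsg Cfsg.Agent.CharLib Cfsg.Agent.Lib.Helper6
open scoped ComplexConjugate

variable {F : Type*} [Field F]

theorem det_dGL (t : Fˣ) : ((dGL t : GL (Fin 2) F) : Matrix (Fin 2) (Fin 2) F).det = t := by
  rw [dGL_coe]; simp [Matrix.det_fin_two]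

theorem det_dGL' (t : Fˣ) : Matrix.GeneralLinearGroup.det (dGL t : GL (Fin 2) F) = t :=
  Units.ext (det_dGL t)

theorem dGL_mem (t : Fˣ) : (dGL t : GL (Fin 2) F) ∈ Cfsg.upperTriangularGL 2 F := by
  rw [mem_upperTriangularGL_two, dGL_coe]; simp

theorem det_toGL (y : SpecialLinearGroup (Fin 2) F) :
    Matrix.GeneralLinearGroup.det (SpecialLinearGroup.toGL y : GL (Fin 2) F) = 1 :=
  Units.ext y.2

/-- `GL₂ = SL₂ · {diag(t,1)}`. -/
noncomputable def glDecomp (F : Type*) [Field F] :
    SpecialLinearGroup (Fin 2) F × Fˣ ≃ GL (Fin 2) F where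
  toFun p := SpecialLinearGroup.toGL p.1 * dGL p.2
  invFun x := (⟨((x * (dGL (Matrix.GeneralLinearGroup.det x))⁻¹ : GL (Fin 2) F) :
      Matrix (Fin 2) (Fin 2) F), by
        rw [← Matrix.GeneralLinearGroup.val_det_apply, map_mul, map_inv, det_dGL', mul_inv_cancel,
          Units.val_one]⟩, Matrix.GeneralLinearGroup.det x)
  left_inv p := by
    have h1 : Matrix.GeneralLinearGroup.det (SpecialLinearGroup.toGL p.1 * dGL p.2 : GL (Fin 2) F)
        = p.2 := by
      rw [map_mul, det_toGL, det_dGL', one_mul]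
    apply Prod.ext
    · apply Subtype.ext
      change ((SpecialLinearGroup.toGL p.1 * dGL p.2 *
        (dGL (Matrix.GeneralLinearGroup.det (SpecialLinearGroup.toGL p.1 * dGL p.2 :
          GL (Fin 2) F)))⁻¹ : GL (Fin 2) F) : Matrix (Fin 2) (Fin 2) F) = _
      rw [h1, mul_inv_cancel_right]
      rfl
    · exact h1
  right_inv x := by
    apply Units.ext
    rw [Units.val_mul]
    change ((x * (dGL (Matrix.GeneralLinearGroup.det x))⁻¹ : GL (Fin 2) F) :
      Matrix (Fin 2) (Fin 2) F) * _ = _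
    rw [← Units.val_mul, inv_mul_cancel_right]

theorem glDecomp_apply (p : SpecialLinearGroup (Fin 2) F × Fˣ) :
    glDecomp F p = SpecialLinearGroup.toGL p.1 * dGL p.2 := rfl

variable [Fintype F] [DecidableEq F]

theorem sum_glDecomp (f : GL (Fin 2) F → ℂ) :
    ∑ x, f x = ∑ y : SpecialLinearGroup (Fin 2) F, ∑ t : Fˣ, f (SpecialLinearGroup.toGL y * dGL t) := by
  rw [← Fintype.sum_prod_type']
  exact (Fintype.sum_equiv (glDecomp F) _ _ (fun _ => rfl)).symm

omit [Fintype F] [DecidableEq F] in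
theorem extendByZero_toGL (α : MulChar F ℂ) (z : SpecialLinearGroup (Fin 2) F) :
    extendByZero (Cfsg.upperTriangularGL 2 F) (psChar α 1) (SpecialLinearGroup.toGL z) =
      extendByZero (borelSL F) (psCharSL α) z := by
  by_cases hz : z ∈ borelSL F
  · have hz' : SpecialLinearGroup.toGL z ∈ Cfsg.upperTriangularGL 2 F := hz
    have e1 : SpecialLinearGroup.toGL z =
      ((⟨SpecialLinearGroup.toGL z, hz'⟩ : ↥(Cfsg.upperTriangularGL 2 F)) : GL (Fin 2) F) := rfl
    have e2 : z = ((⟨z, hz⟩ : ↥(borelSL F)) : SpecialLinearGroup (Fin 2) F) := rfl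
    rw [e1, extendByZero_apply_coe]
    conv_rhs => rw [e2, extendByZero_apply_coe]
    rw [psChar_apply, psCharSL_apply]
    change α ((z : Matrix (Fin 2) (Fin 2) F) 0 0) * (1 : MulChar F ℂ) ((z : Matrix (Fin 2) (Fin 2) F) 1 1) =
      α ((z : Matrix (Fin 2) (Fin 2) F) 0 0)
    have hu : IsUnit ((z : Matrix (Fin 2) (Fin 2) F) 1 1) :=
      (right_ne_zero_of_mul_eq_one (borelSL_diag hz)).isUnit
    rw [MulChar.one_apply hu, mul_one]
  · have hz' : SpecialLinearGroup.toGL z ∉ Cfsg.upperTriangularGL 2 F := hz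
    rw [extendByZero_apply_of_not_mem _ _ hz, extendByZero_apply_of_not_mem _ _ hz']

/-- Restriction to `SL₂` of the principal series character `Ind(α, 1)` of `GL₂`. -/
theorem resSL_indFun_psChar (α : MulChar F ℂ) :
    resSL (indFun (Cfsg.upperTriangularGL 2 F) (psChar α 1)) = indFun (borelSL F) (psCharSL α) := by
  funext g
  rw [resSL_apply]
  unfold Cfsg.indFun
  rw [sum_glDecomp]
  have h1 : ∀ (y : SpecialLinearGroup (Fin 2) F) (t : Fˣ),
      extendByZero (Cfsg.upperTriangularGL 2 F) (psChar α 1)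
        ((SpecialLinearGroup.toGL y * dGL t)⁻¹ * SpecialLinearGroup.toGL g *
          (SpecialLinearGroup.toGL y * dGL t)) =
      extendByZero (borelSL F) (psCharSL α) (y⁻¹ * g * y) := by
    intro y t
    have e1 : (SpecialLinearGroup.toGL y * dGL t)⁻¹ * SpecialLinearGroup.toGL g *
          (SpecialLinearGroup.toGL y * dGL t) =
        (dGL t)⁻¹ * SpecialLinearGroup.toGL (y⁻¹ * g * y) * dGL t := by
      rw [map_mul, map_mul, map_inv]; group
    rw [e1, extendByZero_psChar_conj α 1 (dGL_mem t)]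
    exact extendByZero_toGL α (y⁻¹ * g * y)
  rw [Finset.sum_congr rfl (fun y _ => Finset.sum_congr rfl (fun t _ => h1 y t))]
  simp only [Finset.sum_const, Finset.card_univ, nsmul_eq_mul]
  rw [← Finset.mul_sum, card_ut_complex, card_borelSL_complex, Fintype.card_units]
  have hq : 1 < Fintype.card F := Fintype.one_lt_card
  have hq0 : (Fintype.card F : ℂ) ≠ 0 := by
    exact_mod_cast (Fintype.card_pos (α := F)).ne'
  have hq1 : (Fintype.card F : ℂ) - 1 ≠ 0 := by
    rw [sub_ne_zero]
    exact_mod_cast hq.ne'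
  rw [Nat.cast_sub hq.le, Nat.cast_one]
  field_simp

/-- Values of the principal series characters of `GL₂` at scalar matrices. -/
theorem indFun_psChar_scalar (α β : MulChar F ℂ) (g : GL (Fin 2) F) (a : F)
    (hg : (g : Matrix (Fin 2) (Fin 2) F) = !![a, 0; 0, a]) :
    indFun (Cfsg.upperTriangularGL 2 F) (psChar α β) g = ((Fintype.card F : ℂ) + 1) * (α a * β a) := by
  have hg_mem : g ∈ Cfsg.upperTriangularGL 2 F := by
    rw [mem_upperTriangularGL_two, hg]; simp
  have hcomm : ∀ x : GL (Fin 2) F, x⁻¹ * g * x = g := by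
    intro x
    have hc : g * x = x * g := by
      apply Units.ext
      rw [Units.val_mul, Units.val_mul, hg]
      ext i j
      fin_cases i <;> fin_cases j <;> simp [Matrix.mul_apply, Fin.sum_univ_two, mul_comm]
    rw [mul_assoc, hc, inv_mul_cancel_left]
  unfold Cfsg.indFun
  have h1 : ∀ x : GL (Fin 2) F, extendByZero (Cfsg.upperTriangularGL 2 F) (psChar α β) (x⁻¹ * g * x)
      = α a * β a := by
    intro x
    rw [hcomm x]
    have e0 : g = ((⟨g, hg_mem⟩ : ↥(Cfsg.upperTriangularGL 2 F)) : GL (Fin 2) F) := rfl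
    rw [e0, extendByZero_apply_coe, psChar_apply]
    simp [hg]
  rw [Finset.sum_congr rfl (fun x _ => h1 x), Finset.sum_const, Finset.card_univ, nsmul_eq_mul,
    ← Nat.card_eq_fintype_card, card_ut_complex, card_GL2_complex]
  have hq : 1 < Fintype.card F := Fintype.one_lt_card
  have hq0 : (Fintype.card F : ℂ) ≠ 0 := by
    exact_mod_cast (Fintype.card_pos (α := F)).ne'
  have hq1 : (Fintype.card F : ℂ) - 1 ≠ 0 := by
    rw [sub_ne_zero]
    exact_mod_cast hq.ne'
  field_simp

end Cfsg.Agent.Lib.Helper13
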