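/-
helper13: conjugation of `SL₂` by `GL₂`, stable sums (sums over the unipotent subgroup, values at
diagonal elements) and proportionality between a character of `SL₂` and a character of `GL₂` above it.
-/
import Mathlib
import Cfsg.Agent.Lib.Helper13.SLBridge3

set_option autoImplicit false

namespace Cfsg.Agent.Lib.Helper13

open Matrix Cfsg Cfsg.Agent.CharLib Cfsg.Agent.Lib.Helper6
open scoped ComplexConjugate

variable {F : Type*} [Field F]

/-- Conjugation of `SL₂` by an element of `GL₂`. -/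
def conjSL (x : GL (Fin 2) F) (s : SpecialLinearGroup (Fin 2) F) : SpecialLinearGroup (Fin 2) F :=
  ⟨(x : Matrix (Fin 2) (Fin 2) F) * (s : Matrix (Fin 2) (Fin 2) F) *
    ((x⁻¹ : GL (Fin 2) F) : Matrix (Fin 2) (Fin 2) F), by
    rw [Matrix.det_mul, Matrix.det_mul, s.2, mul_one, ← Matrix.det_mul, ← Units.val_mul,
      mul_inv_cancel, Units.val_one, Matrix.det_one]⟩

theorem toGL_conjSL (x : GL (Fin 2) F) (s : SpecialLinearGroup (Fin 2) F) :
    SpecialLinearGroup.toGL (conjSL x s) = x * SpecialLinearGroup.toGL s * x⁻¹ :=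
  Units.ext rfl

theorem conjSL_mul (x y : GL (Fin 2) F) (s : SpecialLinearGroup (Fin 2) F) :
    conjSL (x * y) s = conjSL x (conjSL y s) := by
  apply SpecialLinearGroup.toGL_injective
  rw [toGL_conjSL, toGL_conjSL, toGL_conjSL]
  group

theorem conjSL_one (s : SpecialLinearGroup (Fin 2) F) : conjSL 1 s = s := by
  apply SpecialLinearGroup.toGL_injective
  rw [toGL_conjSL]
  group

theorem conjSL_toGL (y s : SpecialLinearGroup (Fin 2) F) :
    conjSL (SpecialLinearGroup.toGL y) s = y * s * y⁻¹ := by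
  apply SpecialLinearGroup.toGL_injective
  rw [toGL_conjSL, map_mul, map_mul, map_inv]

/-- Conjugation by a fixed element of `GL₂`, as a permutation of `SL₂`. -/
def conjSLEquiv (x : GL (Fin 2) F) :
    SpecialLinearGroup (Fin 2) F ≃ SpecialLinearGroup (Fin 2) F where
  toFun := conjSL x
  invFun := conjSL x⁻¹
  left_inv s := by rw [← conjSL_mul, inv_mul_cancel, conjSL_one]
  right_inv s := by rw [← conjSL_mul, mul_inv_cancel, conjSL_one]

theorem conjSL_dGL_coe (t : Fˣ) (s : SpecialLinearGroup (Fin 2) F) :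
    ((conjSL (dGL t) s : SpecialLinearGroup (Fin 2) F) : Matrix (Fin 2) (Fin 2) F) =
      !![(s : Matrix (Fin 2) (Fin 2) F) 0 0, (t : F) * (s : Matrix (Fin 2) (Fin 2) F) 0 1;
        ((t⁻¹ : Fˣ) : F) * (s : Matrix (Fin 2) (Fin 2) F) 1 0, (s : Matrix (Fin 2) (Fin 2) F) 1 1] := by
  have hinv : (((dGL t)⁻¹ : GL (Fin 2) F) : Matrix (Fin 2) (Fin 2) F) = !![((t⁻¹ : Fˣ) : F), 0; 0, 1] := by
    have h1 : (dGL t)⁻¹ = dGL t⁻¹ := by
      rw [inv_eq_iff_mul_eq_one]
      apply Units.ext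
      rw [Units.val_mul, dGL_coe, dGL_coe]
      ext i j
      fin_cases i <;> fin_cases j <;> simp [Matrix.mul_apply, Fin.sum_univ_two]
    rw [h1, dGL_coe]
  change (dGL t : Matrix (Fin 2) (Fin 2) F) * (s : Matrix (Fin 2) (Fin 2) F) *
    (((dGL t)⁻¹ : GL (Fin 2) F) : Matrix (Fin 2) (Fin 2) F) = _
  rw [hinv, dGL_coe]
  conv_lhs => rw [Matrix.eta_fin_two (s : Matrix (Fin 2) (Fin 2) F)]
  rw [Matrix.mul_fin_two, Matrix.mul_fin_two]
  ext i j
  fin_cases i <;> fin_cases j <;> simp [mul_comm]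

/-- A class function of `SL₂` only sees the `dGL`-part of a conjugating element of `GL₂`. -/
theorem class_conjSL {θ : SpecialLinearGroup (Fin 2) F → ℂ}
    (hθ : IsClassFunction (SpecialLinearGroup (Fin 2) F) θ) (y : SpecialLinearGroup (Fin 2) F)
    (t : Fˣ) (s : SpecialLinearGroup (Fin 2) F) :
    θ (conjSL (SpecialLinearGroup.toGL y * dGL t) s) = θ (conjSL (dGL t) s) := by
  rw [conjSL_mul, conjSL_toGL]
  exact hθ _ _

theorem class_conjSL' {θ : SpecialLinearGroup (Fin 2) F → ℂ}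
    (hθ : IsClassFunction (SpecialLinearGroup (Fin 2) F) θ) (x : GL (Fin 2) F)
    (s : SpecialLinearGroup (Fin 2) F) :
    ∃ t : Fˣ, θ (conjSL x s) = θ (conjSL (dGL t) s) := by
  obtain ⟨p, rfl⟩ := (glDecomp F).surjective x
  exact ⟨p.2, by rw [glDecomp_apply, class_conjSL hθ]⟩

/-- The upper unitriangular elements of `SL₂`. -/
def upSL (t : F) : SpecialLinearGroup (Fin 2) F :=
  ⟨!![1, t; 0, 1], by simp [Matrix.det_fin_two]⟩

theorem upSL_coe (t : F) : ((upSL t : SpecialLinearGroup (Fin 2) F) : Matrix (Fin 2) (Fin 2) F) =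
    !![1, t; 0, 1] := rfl

theorem toGL_upSL (t : F) : SpecialLinearGroup.toGL (upSL t) = tGL t :=
  Units.ext rfl

theorem upSL_add (a b : F) : upSL (a + b) = upSL a * upSL b := by
  apply SpecialLinearGroup.toGL_injective
  rw [map_mul, toGL_upSL, toGL_upSL, toGL_upSL, tGL_mul]

theorem upSL_zero : upSL (0 : F) = 1 := by
  apply SpecialLinearGroup.toGL_injective
  rw [toGL_upSL, tGL_zero, map_one]

/-- `t ↦ upSL t` as a homomorphism. -/
def upSLHom : Multiplicative F →* SpecialLinearGroup (Fin 2) F where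
  toFun t := upSL (Multiplicative.toAdd t)
  map_one' := upSL_zero
  map_mul' _ _ := upSL_add _ _

theorem conjSL_dGL_upSL (t : Fˣ) (a : F) : conjSL (dGL t) (upSL a) = upSL ((t : F) * a) := by
  apply Subtype.ext
  rw [conjSL_dGL_coe, upSL_coe, upSL_coe]
  simp

variable [Fintype F] [DecidableEq F]

/-- Sums over the unitriangular elements of `SL₂`, in the form used in the statements. -/
theorem sum_isUnip (f : SpecialLinearGroup (Fin 2) F → ℂ) :
    (∑ g : SpecialLinearGroup (Fin 2) F,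
      if (g : Matrix (Fin 2) (Fin 2) F) 1 0 = 0 ∧ (g : Matrix (Fin 2) (Fin 2) F) 0 0 = 1 ∧
        (g : Matrix (Fin 2) (Fin 2) F) 1 1 = 1 then f g else 0) = ∑ t : F, f (upSL t) := by
  rw [← Finset.sum_filter]
  symm
  apply Finset.sum_bij (fun t _ => upSL t)
  · intro t _
    rw [Finset.mem_filter]
    refine ⟨Finset.mem_univ _, ?_⟩
    rw [upSL_coe]
    simp
  · intro a _ b _ h
    have := congrArg (fun g : SpecialLinearGroup (Fin 2) F => (g : Matrix (Fin 2) (Fin 2) F) 0 1) h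
    simpa [upSL_coe] using this
  · intro g hg
    rw [Finset.mem_filter] at hg
    obtain ⟨-, h10, h00, h11⟩ := hg
    refine ⟨(g : Matrix (Fin 2) (Fin 2) F) 0 1, Finset.mem_univ _, ?_⟩
    apply Subtype.ext
    rw [upSL_coe]
    ext i j
    fin_cases i <;> fin_cases j
    · exact h00.symm
    · rfl
    · exact h10.symm
    · exact h11.symm
  · intro t _
    rfl

omit [DecidableEq F] in
/-- The sum of a character of `SL₂` over the unitriangular subgroup is `q` times a natural number. -/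
theorem sum_upSL_nat {θ : SpecialLinearGroup (Fin 2) F → ℂ}
    (hθ : IsCharacter (SpecialLinearGroup (Fin 2) F) θ) :
    ∃ k : ℕ, ∑ t : F, θ (upSL t) = (Fintype.card F : ℂ) * k := by
  have h1 : IsCharacter (Multiplicative F) (fun t => θ (upSLHom t)) := IsCharacter.comp_hom hθ upSLHom
  obtain ⟨k, hk⟩ := IsCharacter.classInner_nat h1 (isCharacter_one (G := Multiplicative F))
  refine ⟨k, ?_⟩
  unfold classInner at hk
  simp only [Pi.one_apply, map_one, mul_one] at hk
  have hq0 : (Fintype.card F : ℂ) ≠ 0 := by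
    exact_mod_cast (Fintype.card_pos (α := F)).ne'
  have hcard : (Nat.card (Multiplicative F) : ℂ) = (Fintype.card F : ℂ) := by
    rw [Nat.card_congr Multiplicative.toAdd, Nat.card_eq_fintype_card]
  rw [hcard] at hk
  have h2 : ∑ t : Multiplicative F, θ (upSLHom t) = ∑ t : F, θ (upSL t) :=
    Fintype.sum_equiv Multiplicative.toAdd _ _ (fun _ => rfl)
  rw [h2] at hk
  rw [← hk]
  field_simp

/-- Sum over the unitriangular subgroup of the restriction of a class function of `GL₂`. -/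
theorem sum_upSL_resSL {χ : GL (Fin 2) F → ℂ} (hχ : IsClassFunction (GL (Fin 2) F) χ) :
    ∑ t : F, resSL χ (upSL t) = χ 1 + ((Fintype.card F : ℂ) - 1) * χ (tGL 1) := by
  have h1 : ∀ t : F, resSL χ (upSL t) = χ (tGL 1) + (if t = 0 then (χ 1 - χ (tGL 1)) else 0) := by
    intro t
    rw [resSL_apply, toGL_upSL]
    split_ifs with ht
    · rw [ht, tGL_zero]; ring
    · rw [classFunction_tGL hχ ht, add_zero]
  rw [Finset.sum_congr rfl (fun t _ => h1 t), Finset.sum_add_distrib, Finset.sum_ite_eq' Finset.univ (0 : F)]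
  simp only [Finset.mem_univ, if_true, Finset.sum_const, Finset.card_univ, nsmul_eq_mul]
  ring

/-- Proportionality on the unitriangular subgroup: if `θ` lies under `χ` then
`χ 1 = m θ 1` and `∑_U χ = m ∑_U θ = m q k`. -/
theorem unip_sum_prop {χ : GL (Fin 2) F → ℂ} (hχ : IsIrrCharacter (GL (Fin 2) F) χ)
    {θ : SpecialLinearGroup (Fin 2) F → ℂ} (hθ : IsIrrCharacter (SpecialLinearGroup (Fin 2) F) θ)
    (h1 : classInner (resSL χ) θ ≠ 0) :
    ∃ m k : ℕ, m ≠ 0 ∧ χ 1 = m * θ 1 ∧ ∑ t : F, θ (upSL t) = (Fintype.card F : ℂ) * k ∧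
      χ 1 + ((Fintype.card F : ℂ) - 1) * χ (tGL 1) = m * ((Fintype.card F : ℂ) * k) := by
  obtain ⟨m, hm0, hm⟩ := degree_dvd SpecialLinearGroup.toGL SpecialLinearGroup.toGL_injective hχ hθ h1
  obtain ⟨k, hk⟩ := sum_upSL_nat (IsIrrCharacter.isCharacter hθ)
  refine ⟨m, k, hm0, hm, hk, ?_⟩
  have hcl : IsClassFunction (SpecialLinearGroup (Fin 2) F) θ :=
    IsCharacter.isClassFunction (IsIrrCharacter.isCharacter hθ)
  have hprop := clifford_prop SpecialLinearGroup.toGL SpecialLinearGroup.toGL_injective hχ hθ h1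
    conjSL toGL_conjSL
    (fun g => if (g : Matrix (Fin 2) (Fin 2) F) 1 0 = 0 ∧ (g : Matrix (Fin 2) (Fin 2) F) 0 0 = 1 ∧
        (g : Matrix (Fin 2) (Fin 2) F) 1 1 = 1 then 1 else 0) (by
      intro x
      simp only [ite_mul, one_mul, zero_mul]
      rw [sum_isUnip (fun g => θ (conjSL x g)), sum_isUnip θ]
      obtain ⟨p, rfl⟩ := (glDecomp F).surjective x
      rw [glDecomp_apply]
      have : ∀ a : F, θ (conjSL (SpecialLinearGroup.toGL p.1 * dGL p.2) (upSL a)) =
          θ (upSL ((p.2 : F) * a)) := by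
        intro a
        rw [class_conjSL hcl, conjSL_dGL_upSL]
      rw [Finset.sum_congr rfl (fun a _ => this a)]
      exact Fintype.sum_equiv (Equiv.mulLeft₀ (p.2 : F) p.2.ne_zero) _ _ (fun _ => rfl))
  simp only [ite_mul, one_mul, zero_mul] at hprop
  rw [sum_isUnip (fun g => χ (SpecialLinearGroup.toGL g)), sum_isUnip θ, hk] at hprop
  have h2 := sum_upSL_resSL (IsCharacter.isClassFunction (IsIrrCharacter.isCharacter hχ))
  have h3 : ∑ t : F, χ (SpecialLinearGroup.toGL (upSL t)) = ∑ t : F, resSL χ (upSL t) := rfl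
  rw [h3, h2, hm] at hprop
  obtain ⟨n, hn, hn1⟩ := IsIrrCharacter.apply_one_pos hθ
  have hθ1 : θ 1 ≠ 0 := by
    rw [hn1]
    exact Nat.cast_ne_zero.mpr hn.ne'
  rw [hm]
  have h4 : ((m : ℂ) * θ 1 + ((Fintype.card F : ℂ) - 1) * χ (tGL 1) -
      m * ((Fintype.card F : ℂ) * k)) * θ 1 = 0 := by
    linear_combination hprop
  rcases mul_eq_zero.mp h4 with h5 | h5
  · linear_combination h5
  · exact absurd h5 hθ1

/-- Degree and unipotent sum `χ 1 + (q-1) χ(u)` for the four types of irreducible characters of `GL₂`. -/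
theorem irr_GL2_sigma {χ : GL (Fin 2) F → ℂ} (hχ : IsIrrCharacter (GL (Fin 2) F) χ) :
    (χ 1 = 1 ∧ χ 1 + ((Fintype.card F : ℂ) - 1) * χ (tGL 1) = (Fintype.card F : ℂ)) ∨
    (χ 1 = (Fintype.card F : ℂ) ∧
      χ 1 + ((Fintype.card F : ℂ) - 1) * χ (tGL 1) = (Fintype.card F : ℂ)) ∨
    (χ 1 = (Fintype.card F : ℂ) + 1 ∧
      χ 1 + ((Fintype.card F : ℂ) - 1) * χ (tGL 1) = 2 * (Fintype.card F : ℂ)) ∨
    (χ 1 = (Fintype.card F : ℂ) - 1 ∧ χ 1 + ((Fintype.card F : ℂ) - 1) * χ (tGL 1) = 0) := by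
  rcases irr_GL2_cases hχ with ⟨⟨α, rfl⟩, hd⟩ | ⟨⟨α, rfl⟩, hd⟩ | ⟨⟨α, β, -, rfl⟩, hd⟩ | ⟨hd, hv⟩
  · left
    refine ⟨hd, ?_⟩
    rw [hd, detChar_apply, tGL_coe]
    simp [Matrix.det_fin_two]
  · right; left
    refine ⟨hd, ?_⟩
    rw [hd, stChar_unip α (tGL 1) 1 one_ne_zero (tGL_coe 1)]
    ring
  · right; right; left
    refine ⟨hd, ?_⟩
    rw [hd, indFun_psChar_unip α β (tGL 1) 1 one_ne_zero (tGL_coe 1)]
    ring
  · right; right; right
    refine ⟨hd, ?_⟩
    rw [hd, hv]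
    ring

end Cfsg.Agent.Lib.Helper13
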