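/-
helper13: elements of `SL₂(F)` without eigenvectors (`q` odd): their `GL₂`-class meets `SL₂` in a
single `SL₂`-class, because the norm form of `F[g]` is universal.
-/
import Mathlib
import Cfsg.Agent.Lib.Helper13.SLBridge4

set_option autoImplicit false

namespace Cfsg.Agent.Lib.Helper13

open Matrix Cfsg Cfsg.Agent.CharLib Polynomial

variable {F : Type*} [Field F]

/-- A root of the characteristic polynomial of a `2 × 2` matrix is an eigenvalue. -/
theorem exists_eigen_of_root (g : Matrix (Fin 2) (Fin 2) F) (c : F)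
    (hc : c ^ 2 - g.trace * c + g.det = 0) : ∃ v : Fin 2 → F, v ≠ 0 ∧ g.mulVec v = c • v := by
  have hdet : (g - c • (1 : Matrix (Fin 2) (Fin 2) F)).det = 0 := by
    rw [Matrix.det_fin_two]
    rw [Matrix.trace_fin_two, Matrix.det_fin_two] at hc
    simp only [Matrix.sub_apply, Matrix.smul_apply, Matrix.one_apply_eq, smul_eq_mul, mul_one,
      Matrix.one_apply_ne (show (0 : Fin 2) ≠ 1 by decide),
      Matrix.one_apply_ne (show (1 : Fin 2) ≠ 0 by decide), mul_zero, sub_zero]
    linear_combination hc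
  obtain ⟨v, hv, hv0⟩ := Matrix.exists_mulVec_eq_zero_iff.mpr hdet
  refine ⟨v, hv, ?_⟩
  rw [Matrix.sub_mulVec, sub_eq_zero, Matrix.smul_mulVec, Matrix.one_mulVec] at hv0
  exact hv0

/-- An element of `SL₂` without eigenvectors has `trace² ≠ 4`. -/
theorem trace_sq_ne_four_of_elliptic (g : SpecialLinearGroup (Fin 2) F)
    (hg : ∀ (c : F) (v : Fin 2 → F), v ≠ 0 → (g : Matrix (Fin 2) (Fin 2) F).mulVec v ≠ c • v) :
    (g : Matrix (Fin 2) (Fin 2) F).trace ^ 2 ≠ 4 := by
  intro h
  have h2 : ((g : Matrix (Fin 2) (Fin 2) F).trace - 2) * ((g : Matrix (Fin 2) (Fin 2) F).trace + 2) = 0 := by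
    linear_combination h
  rcases mul_eq_zero.mp h2 with h3 | h3
  · obtain ⟨v, hv, hv1⟩ := exists_eigen_of_root (g : Matrix (Fin 2) (Fin 2) F) 1 (by
      rw [g.2]; linear_combination -h3)
    exact hg 1 v hv hv1
  · obtain ⟨v, hv, hv1⟩ := exists_eigen_of_root (g : Matrix (Fin 2) (Fin 2) F) (-1) (by
      rw [g.2]; linear_combination h3)
    exact hg (-1) v hv hv1

variable [Fintype F]

/-- A nondegenerate binary form `u² + τuv + v²` (`τ² ≠ 4`) over a finite field of odd order
represents every element. -/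
theorem exists_norm_form_eq (hodd : Odd (Fintype.card F)) (τ : F) (hτ : τ ^ 2 ≠ 4) (t : F) :
    ∃ u v : F, u ^ 2 + τ * u * v + v ^ 2 = t := by
  have h2 : (2 : F) ≠ 0 := by
    intro h
    have hchar : ringChar F = 2 := by
      have : ringChar F ∣ 2 := by
        rw [← ringChar.spec F 2]
        exact_mod_cast h
      rcases (Nat.dvd_prime Nat.prime_two).mp this with h1 | h1
      · exfalso
        have := CharP.ringChar_ne_one (R := F)
        exact this h1
      · exact h1
    have := FiniteField.even_card_of_char_two hchar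
    rcases hodd with ⟨k, hk⟩
    omega
  have h4 : (4 : F) ≠ 0 := by
    have : (4 : F) = 2 * 2 := by norm_num
    rw [this]
    exact mul_ne_zero h2 h2
  set D : F := 1 - τ ^ 2 / 4 with hD
  have hD0 : D ≠ 0 := by
    rw [hD]
    intro h
    apply hτ
    field_simp at h
    linear_combination -h
  have hf : degree (X ^ 2 : F[X]) = 2 := by
    rw [degree_X_pow]; rfl
  have hg : degree (C D * X ^ 2 - C t : F[X]) = 2 := by
    rw [degree_sub_C (by rw [degree_C_mul_X_pow 2 hD0]; norm_num), degree_C_mul_X_pow 2 hD0]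
    rfl
  obtain ⟨a, b, hab⟩ := FiniteField.exists_root_sum_quadratic hf hg (by
    rcases hodd with ⟨k, hk⟩
    omega)
  simp only [eval_pow, eval_X, eval_sub, eval_mul, eval_C] at hab
  refine ⟨a - τ * b / 2, b, ?_⟩
  rw [hD] at hab
  field_simp
  field_simp at hab
  linear_combination hab

variable [DecidableEq F]

omit [DecidableEq F] in
/-- For an element `g` of `SL₂` without eigenvectors, some element of `GL₂` commuting with `g`
has any prescribed determinant. -/
theorem exists_commuting_det (hodd : Odd (Fintype.card F)) (g : SpecialLinearGroup (Fin 2) F)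
    (hg : ∀ (c : F) (v : Fin 2 → F), v ≠ 0 → (g : Matrix (Fin 2) (Fin 2) F).mulVec v ≠ c • v)
    (t : Fˣ) :
    ∃ c : GL (Fin 2) F, c * SpecialLinearGroup.toGL g = SpecialLinearGroup.toGL g * c ∧
      (c : Matrix (Fin 2) (Fin 2) F).det = t := by
  obtain ⟨u, v, huv⟩ := exists_norm_form_eq hodd (g : Matrix (Fin 2) (Fin 2) F).trace
    (trace_sq_ne_four_of_elliptic g hg) (t : F)
  set M : Matrix (Fin 2) (Fin 2) F := u • (1 : Matrix (Fin 2) (Fin 2) F) + v • (g : Matrix (Fin 2) (Fin 2) F)
    with hM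
  have hdetM : M.det = t := by
    rw [← huv, hM, Matrix.det_fin_two]
    have hd := g.2
    rw [Matrix.det_fin_two] at hd
    rw [Matrix.trace_fin_two]
    simp only [Matrix.add_apply, Matrix.smul_apply, Matrix.one_apply_eq, smul_eq_mul, mul_one,
      Matrix.one_apply_ne (show (0 : Fin 2) ≠ 1 by decide),
      Matrix.one_apply_ne (show (1 : Fin 2) ≠ 0 by decide), mul_zero, zero_add]
    linear_combination v ^ 2 * hd
  refine ⟨Matrix.GeneralLinearGroup.mkOfDetNeZero M (by rw [hdetM]; exact t.ne_zero), ?_, hdetM⟩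
  apply Units.ext
  rw [Units.val_mul, Units.val_mul]
  change M * (g : Matrix (Fin 2) (Fin 2) F) = (g : Matrix (Fin 2) (Fin 2) F) * M
  rw [hM, Matrix.add_mul, Matrix.mul_add, Matrix.smul_mul, Matrix.mul_smul, Matrix.smul_mul,
    Matrix.mul_smul, Matrix.one_mul, Matrix.mul_one]

/-- **Stability of elliptic elements**: a class function of `SL₂` takes the same value at all
`GL₂`-conjugates of an element without eigenvectors. -/
theorem elliptic_stable (hodd : Odd (Fintype.card F)) {θ : SpecialLinearGroup (Fin 2) F → ℂ}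
    (hθ : IsClassFunction (SpecialLinearGroup (Fin 2) F) θ) (g : SpecialLinearGroup (Fin 2) F)
    (hg : ∀ (c : F) (v : Fin 2 → F), v ≠ 0 → (g : Matrix (Fin 2) (Fin 2) F).mulVec v ≠ c • v)
    (x : GL (Fin 2) F) : θ (conjSL x g) = θ g := by
  obtain ⟨t, ht⟩ := class_conjSL' hθ x g
  rw [ht]
  obtain ⟨c, hc, hdet⟩ := exists_commuting_det hodd g hg t
  have h1 : conjSL c⁻¹ g = g := by
    apply SpecialLinearGroup.toGL_injective
    rw [toGL_conjSL, inv_inv, mul_assoc, ← hc, inv_mul_cancel_left]
  have h2 : dGL t * c⁻¹ ∈ (SpecialLinearGroup.toGL : SpecialLinearGroup (Fin 2) F →* GL (Fin 2) F).range := by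
    rw [mem_range_toGL_iff, Units.val_mul, Matrix.det_mul, det_dGL]
    have : ((c⁻¹ : GL (Fin 2) F) : Matrix (Fin 2) (Fin 2) F).det = ((t⁻¹ : Fˣ) : F) := by
      have h3 : ((c⁻¹ : GL (Fin 2) F) : Matrix (Fin 2) (Fin 2) F).det *
          (c : Matrix (Fin 2) (Fin 2) F).det = 1 := by
        rw [← Matrix.det_mul, ← Units.val_mul, inv_mul_cancel, Units.val_one, Matrix.det_one]
      rw [hdet] at h3
      rw [Units.val_inv_eq_inv_val]
      exact eq_inv_of_mul_eq_one_left h3
    rw [this, ← Units.val_mul, mul_inv_cancel, Units.val_one]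
  obtain ⟨y, hy⟩ := h2
  have h3 : conjSL (dGL t) g = conjSL (SpecialLinearGroup.toGL y) g := by
    rw [hy, conjSL_mul, h1]
  rw [h3, conjSL_toGL]
  exact hθ g y

end Cfsg.Agent.Lib.Helper13
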