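/-
helper13: conjugacy in `SL₂(F)`, `F` finite: two elements with the same trace `τ`, `τ² ≠ 4`, are
conjugate.
-/
import Mathlib
import Cfsg.Agent.Lib.Helper13.SLElliptic
import Cfsg.Agent.Lib.Helper13.GL2Classes

set_option autoImplicit false

namespace Cfsg.Agent.Lib.Helper13

open Matrix

variable {F : Type*} [Field F] [Fintype F]

/-- The binary form `u² + τuv + v²`, `τ² ≠ 4`, over any finite field represents every element. -/
theorem exists_norm_form_eq' (τ : F) (hτ : τ ^ 2 ≠ 4) (t : F) :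
    ∃ u v : F, u ^ 2 + τ * u * v + v ^ 2 = t := by
  rcases Nat.even_or_odd (Fintype.card F) with he | ho
  · have hchar : ringChar F = 2 :=
      FiniteField.even_card_iff_char_two.mpr (Nat.even_iff.mp he)
    obtain ⟨u, hu⟩ := FiniteField.isSquare_of_char_two hchar t
    exact ⟨u, 0, by rw [hu]; ring⟩
  · exact exists_norm_form_eq ho τ hτ t

/-- For `g ∈ SL₂(F)` with `tr(g)² ≠ 4`, some element of `GL₂` commuting with `g` has any
prescribed determinant. -/
theorem exists_commuting_det' (g : SpecialLinearGroup (Fin 2) F)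
    (hg : (g : Matrix (Fin 2) (Fin 2) F).trace ^ 2 ≠ 4) (t : Fˣ) :
    ∃ c : GL (Fin 2) F, c * SpecialLinearGroup.toGL g = SpecialLinearGroup.toGL g * c ∧
      (c : Matrix (Fin 2) (Fin 2) F).det = t := by
  obtain ⟨u, v, huv⟩ := exists_norm_form_eq' (g : Matrix (Fin 2) (Fin 2) F).trace hg (t : F)
  set M : Matrix (Fin 2) (Fin 2) F := u • (1 : Matrix (Fin 2) (Fin 2) F) + v • (g : Matrix (Fin 2) (Fin 2) F)
    with hM
  have hdetM : M.det = t := by
    rw [← huv, hM, Matrix.det_fin_two]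
    have hd := g.2
    rw [Matrix.det_fin_two] at hd
    rw [Matrix.trace_fin_two]
    simp only [Matrix.add_apply, Matrix.smul_apply, Matrix.one_apply_eq, smul_eq_mul, mul_one,
      Matrix.one_apply_ne (show (0 : Fin 2) ≠ 1 by decide),
      Matrix.one_apply_ne (show (1 : Fin 2) ≠ 0 by decide), mul_zero, zero_add]
    linear_combination v ^ 2 * hd
  refine ⟨Matrix.GeneralLinearGroup.mkOfDetNeZero M (by rw [hdetM]; exact t.ne_zero), ?_, hdetM⟩
  apply Units.ext
  rw [Units.val_mul, Units.val_mul]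
  change M * (g : Matrix (Fin 2) (Fin 2) F) = (g : Matrix (Fin 2) (Fin 2) F) * M
  rw [hM, Matrix.add_mul, Matrix.mul_add, Matrix.smul_mul, Matrix.mul_smul, Matrix.smul_mul,
    Matrix.mul_smul, Matrix.one_mul, Matrix.mul_one]

omit [Fintype F] in
theorem not_isScalar2_of_trace (g : SpecialLinearGroup (Fin 2) F)
    (hg : (g : Matrix (Fin 2) (Fin 2) F).trace ^ 2 ≠ 4) :
    ¬ IsScalar2 ((SpecialLinearGroup.toGL g : GL (Fin 2) F) : Matrix (Fin 2) (Fin 2) F) := by
  rintro ⟨h01, h10, h00⟩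
  apply hg
  change (g : Matrix (Fin 2) (Fin 2) F) 0 1 = 0 at h01
  change (g : Matrix (Fin 2) (Fin 2) F) 1 0 = 0 at h10
  change (g : Matrix (Fin 2) (Fin 2) F) 0 0 = (g : Matrix (Fin 2) (Fin 2) F) 1 1 at h00
  have hd := g.2
  rw [Matrix.det_fin_two, h01, zero_mul, sub_zero, ← h00] at hd
  rw [Matrix.trace_fin_two, ← h00]
  linear_combination 4 * hd

/-- **Conjugacy by trace**: two elements of `SL₂(F)` with the same trace `τ`, `τ² ≠ 4`, are
conjugate in `SL₂(F)`. -/
theorem isConj_of_trace_eq (g h : SpecialLinearGroup (Fin 2) F)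
    (htr : (g : Matrix (Fin 2) (Fin 2) F).trace = (h : Matrix (Fin 2) (Fin 2) F).trace)
    (hg : (g : Matrix (Fin 2) (Fin 2) F).trace ^ 2 ≠ 4) : IsConj g h := by
  have hh : (h : Matrix (Fin 2) (Fin 2) F).trace ^ 2 ≠ 4 := by rw [← htr]; exact hg
  obtain ⟨B₁, hB₁⟩ := exists_conj_compGL (SpecialLinearGroup.toGL g) (not_isScalar2_of_trace g hg)
  obtain ⟨B₂, hB₂⟩ := exists_conj_compGL (SpecialLinearGroup.toGL h) (not_isScalar2_of_trace h hh)
  rw [det_toGL] at hB₁ hB₂
  have e1 : ((SpecialLinearGroup.toGL g : GL (Fin 2) F) : Matrix (Fin 2) (Fin 2) F).trace =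
      (g : Matrix (Fin 2) (Fin 2) F).trace := rfl
  have e2 : ((SpecialLinearGroup.toGL h : GL (Fin 2) F) : Matrix (Fin 2) (Fin 2) F).trace =
      (h : Matrix (Fin 2) (Fin 2) F).trace := rfl
  rw [e1] at hB₁
  rw [e2, ← htr] at hB₂
  set C := compGL (g : Matrix (Fin 2) (Fin 2) F).trace (1 : Fˣ) with hC
  -- `toGL h = x * toGL g * x⁻¹` with `x = B₂ * B₁⁻¹`
  have hg' : SpecialLinearGroup.toGL g = B₁ * C * B₁⁻¹ := by rw [← hB₁]; group
  have hh' : SpecialLinearGroup.toGL h = B₂ * C * B₂⁻¹ := by rw [← hB₂]; group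
  set x := B₂ * B₁⁻¹ with hx
  have hxg : SpecialLinearGroup.toGL h = x * SpecialLinearGroup.toGL g * x⁻¹ := by
    rw [hh', hg', hx]; group
  obtain ⟨c, hc, hdet⟩ := exists_commuting_det' g hg (Matrix.GeneralLinearGroup.det x)
  have hy : x * c⁻¹ ∈ (SpecialLinearGroup.toGL : SpecialLinearGroup (Fin 2) F →* GL (Fin 2) F).range := by
    rw [mem_range_toGL_iff, ← Matrix.GeneralLinearGroup.val_det_apply, map_mul, map_inv]
    have : Matrix.GeneralLinearGroup.det c = Matrix.GeneralLinearGroup.det x := by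
      apply Units.ext
      rw [Matrix.GeneralLinearGroup.val_det_apply]
      exact hdet
    rw [this, mul_inv_cancel, Units.val_one]
  obtain ⟨s, hs⟩ := hy
  rw [isConj_iff]
  refine ⟨s, ?_⟩
  apply SpecialLinearGroup.toGL_injective
  rw [map_mul, map_mul, map_inv, hs, hxg]
  have hc' : c⁻¹ * SpecialLinearGroup.toGL g * c = SpecialLinearGroup.toGL g := by
    rw [mul_assoc, ← hc, inv_mul_cancel_left]
  calc x * c⁻¹ * SpecialLinearGroup.toGL g * (x * c⁻¹)⁻¹
      = x * (c⁻¹ * SpecialLinearGroup.toGL g * c) * x⁻¹ := by group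
    _ = x * SpecialLinearGroup.toGL g * x⁻¹ := by rw [hc']

end Cfsg.Agent.Lib.Helper13
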