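/-
helper13: the number of elements of `SL₂(F)` with a given trace.
-/
import Mathlib
import Cfsg.Agent.Lib.Helper13.SL2Conj

set_option autoImplicit false

namespace Cfsg.Agent.Lib.Helper13

open Matrix

variable {F : Type*} [Field F] [Fintype F]

/-- The number of pairs with product zero. -/
theorem card_mul_eq_zero : Nat.card {p : F × F // p.1 * p.2 = 0} = 2 * Fintype.card F - 1 := by
  classical
  have hq : 1 ≤ Fintype.card F := Fintype.card_pos
  rw [Nat.card_eq_fintype_card, Fintype.card_subtype]
  have : (Finset.univ.filter (fun p : F × F => p.1 * p.2 = 0)) =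
      (Finset.univ.image (fun c : F => ((0 : F), c))) ∪
        ((Finset.univ.filter (fun b : F => b ≠ 0)).image (fun b : F => (b, (0 : F)))) := by
    ext ⟨b, c⟩
    simp only [Finset.mem_filter, Finset.mem_univ, true_and, Finset.mem_union, Finset.mem_image,
      Prod.mk.injEq, mul_eq_zero]
    constructor
    · rintro (h | h)
      · left; exact ⟨c, h.symm, rfl⟩
      · by_cases hb : b = 0
        · left; exact ⟨c, hb.symm, rfl⟩
        · right; exact ⟨b, hb, rfl, h.symm⟩
    · rintro (⟨c', h1, h2⟩ | ⟨b', hb', h1, h2⟩)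
      · left; exact h1.symm
      · right; exact h2.symm
  rw [this, Finset.card_union_of_disjoint, Finset.card_image_of_injective, Finset.card_image_of_injective,
    Finset.card_univ, Finset.filter_ne', Finset.card_erase_of_mem (Finset.mem_univ _), Finset.card_univ]
  · omega
  · intro a b h; exact (Prod.mk.inj h).1
  · intro a b h; exact (Prod.mk.inj h).2
  · rw [Finset.disjoint_left]
    rintro ⟨b, c⟩ h1 h2
    simp only [Finset.mem_image, Finset.mem_univ, true_and, Prod.mk.injEq, Finset.mem_filter] at h1 h2
    obtain ⟨c', h3, -⟩ := h1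
    obtain ⟨b', hb', h4, -⟩ := h2
    exact hb' (h4.trans h3.symm)

/-- The number of pairs with a given non-zero product. -/
theorem card_mul_eq_of_ne_zero (k : F) (hk : k ≠ 0) :
    Nat.card {p : F × F // p.1 * p.2 = k} = Fintype.card F - 1 := by
  classical
  rw [Nat.card_eq_fintype_card, Fintype.card_subtype]
  have : (Finset.univ.filter (fun p : F × F => p.1 * p.2 = k)) =
      (Finset.univ.filter (fun b : F => b ≠ 0)).image (fun b : F => (b, k / b)) := by
    ext ⟨b, c⟩
    simp only [Finset.mem_filter, Finset.mem_univ, true_and, Finset.mem_image, Prod.mk.injEq]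
    constructor
    · intro h
      have hb : b ≠ 0 := by
        rintro rfl
        rw [zero_mul] at h
        exact hk h.symm
      exact ⟨b, hb, rfl, by rw [← h]; field_simp⟩
    · rintro ⟨b', hb', h1, h2⟩
      subst h1
      rw [← h2]
      field_simp
  rw [this, Finset.card_image_of_injective, Finset.filter_ne', Finset.card_erase_of_mem (Finset.mem_univ _),
    Finset.card_univ]
  intro a b h
  exact (Prod.mk.inj h).1

/-- The elements of `SL₂(F)` of trace `τ`, parametrised by three entries. -/
def traceFiberEquiv (τ : F) :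
    {g : SpecialLinearGroup (Fin 2) F // (g : Matrix (Fin 2) (Fin 2) F).trace = τ} ≃
      {p : F × F × F // p.2.1 * p.2.2 = p.1 * (τ - p.1) - 1} where
  toFun g := ⟨((g.1 : Matrix (Fin 2) (Fin 2) F) 0 0, (g.1 : Matrix (Fin 2) (Fin 2) F) 0 1,
      (g.1 : Matrix (Fin 2) (Fin 2) F) 1 0), by
    have hd := g.1.2
    have ht := g.2
    rw [Matrix.det_fin_two] at hd
    rw [Matrix.trace_fin_two] at ht
    simp only
    linear_combination -hd + (g.1 : Matrix (Fin 2) (Fin 2) F) 0 0 * ht⟩
  invFun p := ⟨⟨!![p.1.1, p.1.2.1; p.1.2.2, τ - p.1.1], by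
      rw [Matrix.det_fin_two_of]
      linear_combination -p.2⟩, by
    change (!![p.1.1, p.1.2.1; p.1.2.2, τ - p.1.1] : Matrix (Fin 2) (Fin 2) F).trace = τ
    rw [Matrix.trace_fin_two_of]
    ring⟩
  left_inv g := by
    apply Subtype.ext
    apply Subtype.ext
    have ht := g.2
    rw [Matrix.trace_fin_two] at ht
    change (!![_, _; _, _] : Matrix (Fin 2) (Fin 2) F) = (g.1 : Matrix (Fin 2) (Fin 2) F)
    ext i j
    fin_cases i <;> fin_cases j <;> simp
    linear_combination -ht
  right_inv p := by
    apply Subtype.ext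
    rfl

/-- **The number of elements of `SL₂(F)` of trace `τ`**. -/
theorem card_trace_fiber (τ : F) :
    Nat.card {g : SpecialLinearGroup (Fin 2) F // (g : Matrix (Fin 2) (Fin 2) F).trace = τ} =
      Fintype.card F * (Fintype.card F - 1) +
        Fintype.card F * Nat.card {a : F // a * (τ - a) = 1} := by
  classical
  have hq : 1 ≤ Fintype.card F := Fintype.card_pos
  rw [Nat.card_congr (traceFiberEquiv τ), Nat.card_eq_fintype_card, Fintype.card_subtype,
    Nat.card_eq_fintype_card, Fintype.card_subtype]
  have h1 : (Finset.univ.filter (fun p : F × F × F => p.2.1 * p.2.2 = p.1 * (τ - p.1) - 1)).card =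
      ∑ a : F, (Finset.univ.filter (fun p : F × F => p.1 * p.2 = a * (τ - a) - 1)).card := by
    rw [Finset.card_filter, Fintype.sum_prod_type]
    apply Finset.sum_congr rfl
    intro a _
    rw [Finset.card_filter]
  rw [h1]
  have h2 : ∀ a : F, (Finset.univ.filter (fun p : F × F => p.1 * p.2 = a * (τ - a) - 1)).card =
      (Fintype.card F - 1) + (if a * (τ - a) = 1 then Fintype.card F else 0) := by
    intro a
    rw [← Fintype.card_subtype, ← Nat.card_eq_fintype_card]
    by_cases h : a * (τ - a) = 1
    · rw [if_pos h, h, sub_self, card_mul_eq_zero]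
      omega
    · rw [if_neg h, add_zero, card_mul_eq_of_ne_zero _ (by rw [sub_ne_zero]; exact h)]
  rw [Finset.sum_congr rfl (fun a _ => h2 a), Finset.sum_add_distrib, Finset.sum_const, Finset.card_univ,
    smul_eq_mul, ← Finset.sum_filter, Finset.sum_const, smul_eq_mul, mul_comm (Finset.card _)]

end Cfsg.Agent.Lib.Helper13
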