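import Mathlib
import Cfsg.Agent.Lib.Helper13.SL2

/-!
Helper lemmas (helper13): conjugacy of transvections in `SL₂(K)`.
-/

set_option autoImplicit false

namespace Cfsg.Agent.Lib.Helper13

open Matrix

variable {K : Type*} [Field K]

/-- Two non-trivial transvections of `SL₂(K)` are conjugate iff the product of their parameters is a
square. -/
theorem isConj_tSL_iff (t t' : K) (ht : t ≠ 0) (ht' : t' ≠ 0) :
    IsConj (tSL t) (tSL t') ↔ IsSquare (t * t') := by
  constructor
  · intro h
    obtain ⟨X, hX⟩ := isConj_iff.mp h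
    have hX' : X * tSL t = tSL t' * X := by
      rw [← hX]; group
    set x : Matrix (Fin 2) (Fin 2) K := (X : Matrix (Fin 2) (Fin 2) K) with hx
    have h' : x * !![1, t; 0, 1] = !![1, t'; 0, 1] * x := by
      have := congrArg (fun Y : SpecialLinearGroup (Fin 2) K => (Y : Matrix (Fin 2) (Fin 2) K)) hX'
      simpa [SpecialLinearGroup.coe_mul] using this
    have h00 := congrFun (congrFun h' 0) 0
    have h01 := congrFun (congrFun h' 0) 1
    simp [Matrix.mul_apply, Fin.sum_univ_two] at h00 h01
    have hz : x 1 0 = 0 := by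
      rcases h00 with h | h
      · exact absurd h ht'
      · exact h
    have hdet := X.2
    rw [Matrix.det_fin_two, ← hx, hz, mul_zero, sub_zero] at hdet
    -- h01 : x 0 0 * t + x 0 1 = x 0 1 + t' * x 1 1
    refine ⟨x 0 0 * t, ?_⟩
    have e : x 0 0 * t = t' * x 1 1 := by linear_combination h01
    calc t * t' = t * t' * (x 0 0 * x 1 1) := by rw [hdet, mul_one]
      _ = t * (t' * x 1 1) * x 0 0 := by ring
      _ = t * (x 0 0 * t) * x 0 0 := by rw [e]
      _ = x 0 0 * t * (x 0 0 * t) := by ring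
  · rintro ⟨r, hr⟩
    have hr0 : r ≠ 0 := by
      rintro rfl
      rw [mul_zero] at hr
      exact (mul_ne_zero ht ht') hr
    have hs : r / t ≠ 0 := div_ne_zero hr0 ht
    have := isConj_tSL_sq_mul (r / t) hs t
    have e : (r / t) ^ 2 * t = t' := by
      field_simp
      rw [pow_two, ← hr]
    rwa [e] at this

theorem tSL_mul (a b : K) : tSL a * tSL b = tSL (a + b) := by
  apply Subtype.ext
  change (!![1, a; 0, 1] * !![1, b; 0, 1] : Matrix (Fin 2) (Fin 2) K) = !![1, a + b; 0, 1]
  ext i j
  fin_cases i <;> fin_cases j <;> simp [Matrix.mul_apply, Fin.sum_univ_two, add_comm]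

theorem tSL_zero : tSL (0 : K) = 1 := by
  apply Subtype.ext
  change (!![1, 0; 0, 1] : Matrix (Fin 2) (Fin 2) K) = 1
  ext i j
  fin_cases i <;> fin_cases j <;> simp

theorem tSL_pow (a : K) (n : ℕ) : tSL a ^ n = tSL (n * a) := by
  induction n with
  | zero => simp [tSL_zero]
  | succ n ih => rw [pow_succ, ih, tSL_mul]; congr 1; push_cast; ring

theorem tSL_injective : Function.Injective (tSL : K → SpecialLinearGroup (Fin 2) K) := by
  intro a b h
  have := congrArg (fun Y : SpecialLinearGroup (Fin 2) K => (Y : Matrix (Fin 2) (Fin 2) K) 0 1) h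
  simpa using this

theorem orderOf_tSL (p : ℕ) [Fact p.Prime] [CharP K p] (t : K) (ht : t ≠ 0) : orderOf (tSL t) = p := by
  apply orderOf_eq_prime
  · rw [tSL_pow, CharP.cast_eq_zero, zero_mul, tSL_zero]
  · intro h
    rw [← tSL_zero] at h
    exact ht (tSL_injective h)

/-- An element of order `p` of `SL₂(K)`, `K` of characteristic `p`, is conjugate to a non-trivial
transvection. -/
theorem exists_isConj_tSL_of_orderOf (p : ℕ) [Fact p.Prime] [CharP K p]
    (g : SpecialLinearGroup (Fin 2) K) (hg : orderOf g = p) : ∃ t : K, t ≠ 0 ∧ IsConj g (tSL t) := by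
  have hp : p.Prime := Fact.out
  have hgp : g ^ p = 1 := by
    have := pow_orderOf_eq_one g
    rwa [hg] at this
  have hsq : ((g : Matrix (Fin 2) (Fin 2) K) - 1) ^ 2 = 0 := by
    have := sub_one_pow_eq_zero_of_orderOf_eq_char p (SpecialLinearGroup.toGL g) (by
      rw [← map_pow, hgp, map_one])
    exact this
  have hne : g ≠ 1 := by
    intro h
    rw [h, orderOf_one] at hg
    exact hp.one_lt.ne hg
  obtain ⟨B, t, ht, hB⟩ := exists_conj_tSL g hsq hne
  refine ⟨t, ht, ?_⟩
  rw [isConj_iff]
  refine ⟨B⁻¹, ?_⟩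
  rw [inv_inv, mul_assoc, hB, ← mul_assoc, inv_mul_cancel, one_mul]

end Cfsg.Agent.Lib.Helper13
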