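/-
helper13: conjugacy class sizes in `SL₂(F)`, `F` finite.
-/
import Mathlib
import Cfsg.Agent.Lib.Helper13.SL2TraceCount
import Cfsg.Agent.Lib.Helper13.SL2b

set_option autoImplicit false

namespace Cfsg.Agent.Lib.Helper13

open Matrix

/-- The index of the centralizer is the size of the conjugacy class. -/
theorem index_centralizer_eq {G : Type*} [Group G] [Finite G] (g : G) :
    (Subgroup.centralizer ({g} : Set G)).index = Nat.card (ConjClasses.mk g).carrier := by
  have h1 := card_carrier_mul_card_centralizer g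
  have h2 := Subgroup.index_mul_card (Subgroup.centralizer ({g} : Set G))
  have hpos : 0 < Nat.card (Subgroup.centralizer ({g} : Set G)) := Nat.card_pos
  exact Nat.eq_of_mul_eq_mul_right hpos (h2.trans h1.symm)

theorem index_centralizer_eq_of_isConj {G : Type*} [Group G] [Finite G] {g h : G} (hc : IsConj g h) :
    (Subgroup.centralizer ({g} : Set G)).index = (Subgroup.centralizer ({h} : Set G)).index := by
  rw [index_centralizer_eq, index_centralizer_eq, ConjClasses.mk_eq_mk_iff_isConj.mpr hc]

variable {F : Type*} [Field F] [Fintype F]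

omit [Fintype F] in
theorem trace_eq_of_isConj_SL {g h : SpecialLinearGroup (Fin 2) F} (hc : IsConj g h) :
    (g : Matrix (Fin 2) (Fin 2) F).trace = (h : Matrix (Fin 2) (Fin 2) F).trace := by
  obtain ⟨c, hc⟩ := isConj_iff.mp hc
  rw [← hc]
  change _ = ((c : Matrix (Fin 2) (Fin 2) F) * (g : Matrix (Fin 2) (Fin 2) F) *
    ((c⁻¹ : SpecialLinearGroup (Fin 2) F) : Matrix (Fin 2) (Fin 2) F)).trace
  have : ((c⁻¹ : SpecialLinearGroup (Fin 2) F) : Matrix (Fin 2) (Fin 2) F) *
      (c : Matrix (Fin 2) (Fin 2) F) = 1 := by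
    have h1 : (c⁻¹ * c : SpecialLinearGroup (Fin 2) F) = 1 := inv_mul_cancel c
    exact congrArg (fun x : SpecialLinearGroup (Fin 2) F => (x : Matrix (Fin 2) (Fin 2) F)) h1
  rw [Matrix.trace_mul_comm, ← mul_assoc, this, one_mul]

/-- For `tr(g)² ≠ 4` the conjugacy class of `g` is the set of elements with the same trace. -/
theorem carrier_eq_trace_fiber (g : SpecialLinearGroup (Fin 2) F)
    (hg : (g : Matrix (Fin 2) (Fin 2) F).trace ^ 2 ≠ 4) :
    (ConjClasses.mk g).carrier =
      {h : SpecialLinearGroup (Fin 2) F |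
        (h : Matrix (Fin 2) (Fin 2) F).trace = (g : Matrix (Fin 2) (Fin 2) F).trace} := by
  ext h
  rw [ConjClasses.mem_carrier_iff_mk_eq, ConjClasses.mk_eq_mk_iff_isConj, Set.mem_ofPred_eq]
  constructor
  · intro hc
    exact trace_eq_of_isConj_SL hc
  · intro htr
    have hh : (h : Matrix (Fin 2) (Fin 2) F).trace ^ 2 ≠ 4 := by rw [htr]; exact hg
    exact isConj_of_trace_eq h g htr hh

/-- Class size for `tr(g)² ≠ 4`. -/
theorem index_centralizer_of_trace (g : SpecialLinearGroup (Fin 2) F)
    (hg : (g : Matrix (Fin 2) (Fin 2) F).trace ^ 2 ≠ 4) :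
    (Subgroup.centralizer ({g} : Set (SpecialLinearGroup (Fin 2) F))).index =
      Fintype.card F * (Fintype.card F - 1) + Fintype.card F *
        Nat.card {a : F // a * ((g : Matrix (Fin 2) (Fin 2) F).trace - a) = 1} := by
  rw [index_centralizer_eq, carrier_eq_trace_fiber g hg]
  exact card_trace_fiber _

omit [Fintype F] in
/-- Split case: exactly two roots. -/
theorem card_roots_of_split (τ : F) (hτ : τ ^ 2 ≠ 4) (a : F) (ha : a * (τ - a) = 1) :
    Nat.card {x : F // x * (τ - x) = 1} = 2 := by
  rw [Nat.card_eq_two_iff]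
  have ha' : (τ - a) * (τ - (τ - a)) = 1 := by rw [← ha]; ring
  refine ⟨⟨a, ha⟩, ⟨τ - a, ha'⟩, ?_, ?_⟩
  · intro h
    have h1 : a = τ - a := congrArg Subtype.val h
    apply hτ
    have h2 : τ = 2 * a := by linear_combination -h1
    rw [h2]
    rw [← h1] at ha
    linear_combination 4 * ha
  · ext ⟨x, hx⟩
    simp only [Set.mem_insert_iff, Set.mem_singleton_iff, Set.mem_univ, iff_true, Subtype.mk.injEq]
    have : (x - a) * (x - (τ - a)) = 0 := by linear_combination ha - hx
    rcases mul_eq_zero.mp this with h | h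
    · left; exact sub_eq_zero.mp h
    · right; exact sub_eq_zero.mp h

omit [Fintype F] in
theorem card_roots_of_nonsplit (τ : F) (h : ∀ a : F, a * (τ - a) ≠ 1) :
    Nat.card {x : F // x * (τ - x) = 1} = 0 := by
  have : IsEmpty {x : F // x * (τ - x) = 1} := ⟨fun x => h x.1 x.2⟩
  exact Nat.card_of_isEmpty

/-- Class size, split case: `q (q + 1)`. -/
theorem index_centralizer_split (g : SpecialLinearGroup (Fin 2) F)
    (hg : (g : Matrix (Fin 2) (Fin 2) F).trace ^ 2 ≠ 4) (a : F)
    (ha : a * ((g : Matrix (Fin 2) (Fin 2) F).trace - a) = 1) :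
    (Subgroup.centralizer ({g} : Set (SpecialLinearGroup (Fin 2) F))).index =
      Fintype.card F * (Fintype.card F + 1) := by
  have hq : 1 ≤ Fintype.card F := Fintype.card_pos
  rw [index_centralizer_of_trace g hg, card_roots_of_split _ hg a ha]
  obtain ⟨r, hr⟩ : ∃ r, Fintype.card F = r + 1 := ⟨Fintype.card F - 1, by omega⟩
  rw [hr]
  simp only [Nat.add_sub_cancel]
  ring

/-- Class size, non-split case: `q (q - 1)`. -/
theorem index_centralizer_nonsplit (g : SpecialLinearGroup (Fin 2) F)
    (hg : (g : Matrix (Fin 2) (Fin 2) F).trace ^ 2 ≠ 4)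
    (h : ∀ a : F, a * ((g : Matrix (Fin 2) (Fin 2) F).trace - a) ≠ 1) :
    (Subgroup.centralizer ({g} : Set (SpecialLinearGroup (Fin 2) F))).index =
      Fintype.card F * (Fintype.card F - 1) := by
  rw [index_centralizer_of_trace g hg, card_roots_of_nonsplit _ h, mul_zero, add_zero]

/-- Class size of a non-trivial transvection. -/
theorem index_centralizer_tSL (t : F) (ht : t ≠ 0) :
    (Subgroup.centralizer ({tSL t} : Set (SpecialLinearGroup (Fin 2) F))).index *
      Nat.card {x : F // x ^ 2 = 1} = Fintype.card F ^ 2 - 1 := by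
  have h1 := Subgroup.index_mul_card (Subgroup.centralizer ({tSL t} : Set (SpecialLinearGroup (Fin 2) F)))
  rw [card_centralizer_tSL t ht, card_SL2, Nat.card_eq_fintype_card (α := F), ← mul_assoc] at h1
  have hq : 0 < Fintype.card F := Fintype.card_pos
  have h2 : Fintype.card F * (Fintype.card F ^ 2 - 1) = (Fintype.card F ^ 2 - 1) * Fintype.card F :=
    mul_comm _ _
  rw [h2] at h1
  exact Nat.eq_of_mul_eq_mul_right hq h1

end Cfsg.Agent.Lib.Helper13
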