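/-
helper13: element orders in `SL₂(F)` and `PSL₂(F)`, `F` finite, via eigenvalues in the algebraic
closure.
-/
import Mathlib
import Cfsg.Agent.Lib.Helper13.PSL2
import Cfsg.Agent.Lib.Helper13.SL2b

set_option autoImplicit false

namespace Cfsg.Agent.Lib.Helper13

open Matrix Polynomial

section spectral

variable {K : Type*} [Field K]

theorem mul_pow_smul_of_mul_eq_smul (M N : Matrix (Fin 2) (Fin 2) K) (a : K) (h : M * N = a • N)
    (k : ℕ) : M ^ k * N = a ^ k • N := by
  induction k with
  | zero => simp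
  | succ k ih =>
    rw [pow_succ, mul_assoc, h, Matrix.mul_smul, ih, smul_smul, pow_succ, mul_comm]

theorem factor_comm (M : Matrix (Fin 2) (Fin 2) K) (a b : K) :
    (M - a • 1) * (M - b • 1) = (M - b • 1) * (M - a • 1) := by
  simp only [sub_mul, mul_sub, smul_mul_assoc, mul_smul_comm, one_mul, mul_one, smul_sub, smul_smul]
  rw [mul_comm a b]
  abel

/-- If `(M - λ)(M - μ) = 0` with `λ ≠ μ` and `λ^k = μ^k = c` then `M^k = c`. -/
theorem pow_eq_smul_one_of_roots (M : Matrix (Fin 2) (Fin 2) K) (lam mu : K) (hne : lam ≠ mu)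
    (hM : (M - lam • 1) * (M - mu • 1) = 0) (k : ℕ) (c : K) (h1 : lam ^ k = c) (h2 : mu ^ k = c) :
    M ^ k = c • (1 : Matrix (Fin 2) (Fin 2) K) := by
  have d1 : (X - C lam) ∣ (X ^ k - C c : K[X]) := by
    rw [Polynomial.dvd_iff_isRoot]
    simp [h1]
  have d2 : (X - C mu) ∣ (X ^ k - C c : K[X]) := by
    rw [Polynomial.dvd_iff_isRoot]
    simp [h2]
  have hcop : IsCoprime (X - C lam : K[X]) (X - C mu) :=
    Polynomial.isCoprime_X_sub_C_of_isUnit_sub (sub_ne_zero.mpr hne).isUnit
  obtain ⟨Q, hQ⟩ := hcop.mul_dvd d1 d2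
  have h3 := congrArg (Polynomial.aeval M) hQ
  simp only [map_sub, map_pow, map_mul, Polynomial.aeval_X, Polynomial.aeval_C,
    Algebra.algebraMap_eq_smul_one] at h3
  rw [hM, zero_mul] at h3
  exact sub_eq_zero.mp h3

/-- If `(M - λ)(M - μ) = 0`, `M ≠ μ` and `M^k = c` then `λ^k = c`. -/
theorem eigen_pow_of_pow_eq_smul_one (M : Matrix (Fin 2) (Fin 2) K) (lam mu : K)
    (hM : (M - lam • 1) * (M - mu • 1) = 0) (hmu : M ≠ mu • 1) (k : ℕ) (c : K)
    (h : M ^ k = c • (1 : Matrix (Fin 2) (Fin 2) K)) : lam ^ k = c := by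
  set N := M - mu • (1 : Matrix (Fin 2) (Fin 2) K) with hN
  have hN0 : N ≠ 0 := sub_ne_zero.mpr hmu
  have h1 : M * N = lam • N := by
    have : (M - lam • 1) * N = M * N - lam • N := by
      rw [sub_mul, smul_mul_assoc, one_mul]
    rw [this] at hM
    exact sub_eq_zero.mp hM
  have h2 := mul_pow_smul_of_mul_eq_smul M N lam h1 k
  rw [h, smul_mul_assoc, one_mul] at h2
  have h3 : (c - lam ^ k) • N = 0 := by rw [sub_smul, h2, sub_self]
  rcases smul_eq_zero.mp h3 with h4 | h4
  · exact (sub_eq_zero.mp h4).symm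
  · exact absurd h4 hN0

end spectral


section basechange

variable {F : Type*} [Field F]

/-- Base change of `2 × 2` matrices to the algebraic closure. -/
noncomputable def acMap (F : Type*) [Field F] :
    Matrix (Fin 2) (Fin 2) F →+* Matrix (Fin 2) (Fin 2) (AlgebraicClosure F) :=
  (algebraMap F (AlgebraicClosure F)).mapMatrix

theorem acMap_apply (M : Matrix (Fin 2) (Fin 2) F) (i j : Fin 2) :
    acMap F M i j = algebraMap F (AlgebraicClosure F) (M i j) := rfl

theorem acMap_injective : Function.Injective (acMap F) := by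
  intro A B h
  ext i j
  have := congr_fun (congr_fun h i) j
  rw [acMap_apply, acMap_apply] at this
  exact (algebraMap F (AlgebraicClosure F)).injective this

theorem acMap_smul_one (c : F) :
    acMap F (c • (1 : Matrix (Fin 2) (Fin 2) F)) =
      (algebraMap F (AlgebraicClosure F) c) • (1 : Matrix (Fin 2) (Fin 2) (AlgebraicClosure F)) := by
  ext i j
  rw [acMap_apply]
  fin_cases i <;> fin_cases j <;> simp

theorem acMap_det (M : Matrix (Fin 2) (Fin 2) F) :
    (acMap F M).det = algebraMap F (AlgebraicClosure F) M.det := by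
  rw [Matrix.det_fin_two, Matrix.det_fin_two]
  simp only [acMap_apply, map_sub, map_mul]

/-- The factorisation of the characteristic polynomial at the matrix. -/
theorem factor_of_eigen (g : Matrix (Fin 2) (Fin 2) F) (hdet : g.det = 1)
    (lam mu : AlgebraicClosure F) (h1 : lam * mu = 1)
    (h2 : lam + mu = algebraMap F (AlgebraicClosure F) (g 0 0 + g 1 1)) :
    (acMap F g - lam • 1) * (acMap F g - mu • 1) = 0 := by
  have hd : (acMap F g).det = 1 := by rw [acMap_det, hdet, map_one]
  have hch := cayley_hamilton_two (acMap F g) hd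
  have htr : acMap F g 0 0 + acMap F g 1 1 = lam + mu := by
    rw [acMap_apply, acMap_apply, h2, map_add]
  rw [htr] at hch
  simp only [sub_mul, mul_sub, smul_mul_assoc, mul_smul_comm, one_mul, mul_one, smul_sub, smul_smul]
  rw [hch, mul_comm mu lam, h1]
  module

/-- Existence of the eigenvalues. -/
theorem exists_eigen_pair (tau : F) :
    ∃ lam mu : AlgebraicClosure F, lam * mu = 1 ∧
      lam + mu = algebraMap F (AlgebraicClosure F) tau := by
  set t := algebraMap F (AlgebraicClosure F) tau with ht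
  have hdeg : (C (1 : AlgebraicClosure F) * X ^ 2 + C (-t) * X + C 1).degree ≠ 0 := by
    rw [Polynomial.degree_quadratic one_ne_zero]
    norm_num
  obtain ⟨lam, hlam⟩ := IsAlgClosed.exists_root _ hdeg
  simp only [IsRoot.def, eval_add, eval_mul, eval_C, eval_pow, eval_X] at hlam
  refine ⟨lam, t - lam, ?_, by ring⟩
  linear_combination -hlam

theorem ne_smul_one_of_eigen_ne (g : Matrix (Fin 2) (Fin 2) F)
    (lam mu : AlgebraicClosure F)
    (h2 : lam + mu = algebraMap F (AlgebraicClosure F) (g 0 0 + g 1 1)) (hne : lam ≠ mu) :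
    acMap F g ≠ mu • 1 := by
  intro h
  apply hne
  have h00 : acMap F g 0 0 = mu := by rw [h]; simp
  have h11 : acMap F g 1 1 = mu := by rw [h]; simp
  have : lam + mu = mu + mu := by
    rw [h2, map_add, ← acMap_apply, ← acMap_apply, h00, h11]
  linear_combination this

/-- Powers of an element of `SL₂` with distinct eigenvalues `λ ≠ μ`: `g^k = c` iff
`λ^k = μ^k = c`. -/
theorem pow_eq_scalar_iff_eigen (g : Matrix (Fin 2) (Fin 2) F) (hdet : g.det = 1)
    (lam mu : AlgebraicClosure F) (h1 : lam * mu = 1)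
    (h2 : lam + mu = algebraMap F (AlgebraicClosure F) (g 0 0 + g 1 1)) (hne : lam ≠ mu)
    (k : ℕ) (c : F) :
    g ^ k = c • (1 : Matrix (Fin 2) (Fin 2) F) ↔
      lam ^ k = algebraMap F (AlgebraicClosure F) c ∧ mu ^ k = algebraMap F (AlgebraicClosure F) c := by
  have hf := factor_of_eigen g hdet lam mu h1 h2
  have hf' : (acMap F g - mu • 1) * (acMap F g - lam • 1) = 0 := by rw [factor_comm]; exact hf
  have h2' : mu + lam = algebraMap F (AlgebraicClosure F) (g 0 0 + g 1 1) := by rw [add_comm]; exact h2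
  constructor
  · intro h
    have h3 : acMap F g ^ k = algebraMap F (AlgebraicClosure F) c • 1 := by
      rw [← map_pow, h, acMap_smul_one]
    exact ⟨eigen_pow_of_pow_eq_smul_one _ lam mu hf (ne_smul_one_of_eigen_ne g lam mu h2 hne) k _ h3,
      eigen_pow_of_pow_eq_smul_one _ mu lam hf' (ne_smul_one_of_eigen_ne g mu lam h2' hne.symm) k _ h3⟩
  · rintro ⟨h3, h4⟩
    apply acMap_injective
    rw [map_pow, acMap_smul_one]
    exact pow_eq_smul_one_of_roots _ lam mu hne hf k _ h3 h4

end basechange


section finite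

variable {F : Type*} [Field F] [Fintype F]

/-- Frobenius permutes the eigenvalues. -/
theorem eigen_frobenius (p : ℕ) [Fact p.Prime] [CharP F p] (tau : F) (lam mu : AlgebraicClosure F)
    (h1 : lam * mu = 1) (h2 : lam + mu = algebraMap F (AlgebraicClosure F) tau) :
    lam ^ (Fintype.card F - 1) = 1 ∨ lam ^ (Fintype.card F + 1) = 1 := by
  obtain ⟨n, -, hn⟩ := FiniteField.card F p
  have hq : 1 ≤ Fintype.card F := Fintype.card_pos
  set t := algebraMap F (AlgebraicClosure F) tau with ht
  have hlam0 : lam ≠ 0 := by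
    intro h
    rw [h, zero_mul] at h1
    exact zero_ne_one h1
  have hroot : lam ^ 2 + 1 = t * lam := by rw [← h2]; linear_combination -h1
  have htq : t ^ Fintype.card F = t := by
    rw [ht, ← map_pow, FiniteField.pow_card]
  have h3 : (lam ^ Fintype.card F) ^ 2 + 1 = t * lam ^ Fintype.card F := by
    have := congrArg (fun x => x ^ Fintype.card F) hroot
    rw [mul_pow, htq] at this
    rw [← this, hn, add_pow_char_pow, one_pow]
    ring
  have h4 : (lam ^ Fintype.card F - lam) * (lam ^ Fintype.card F - mu) = 0 := by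
    rw [← h2] at h3
    linear_combination h3 + h1
  rcases mul_eq_zero.mp h4 with h5 | h5
  · left
    have h6 : lam ^ (Fintype.card F - 1) * lam = 1 * lam := by
      rw [← pow_succ, Nat.sub_add_cancel hq, one_mul]
      exact sub_eq_zero.mp h5
    exact mul_right_cancel₀ hlam0 h6
  · right
    rw [pow_succ, sub_eq_zero.mp h5, mul_comm]
    exact h1

omit [Fintype F] in
/-- Elements of `SL₂` with trace `2ε`, `ε² = 1`: the `p`-th power is the scalar `ε^p`. -/
theorem pow_char_of_trace (p : ℕ) [Fact p.Prime] [CharP F p] (g : Matrix (Fin 2) (Fin 2) F)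
    (hdet : g.det = 1) (e : F) (he : e ^ 2 = 1) (htr : g 0 0 + g 1 1 = 2 * e) :
    g ^ p = (e ^ p) • (1 : Matrix (Fin 2) (Fin 2) F) := by
  have hp : p.Prime := Fact.out
  have hc : CharP (Matrix (Fin 2) (Fin 2) F) p := Matrix.charP p
  have hch := cayley_hamilton_two g hdet
  rw [htr] at hch
  set N := g - e • (1 : Matrix (Fin 2) (Fin 2) F) with hN
  have hN2 : N * N = 0 := by
    rw [hN]
    simp only [sub_mul, mul_sub, smul_mul_assoc, mul_smul_comm, one_mul, mul_one, smul_sub, smul_smul]
    rw [hch, ← pow_two, he]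
    module
  have hNp : N ^ p = 0 := by
    rw [← Nat.sub_add_cancel hp.two_le, pow_add, pow_two, hN2, mul_zero]
  have hg : g = N + e • 1 := by rw [hN]; abel
  have hcomm : Commute N (e • (1 : Matrix (Fin 2) (Fin 2) F)) :=
    (Commute.one_right N).smul_right e
  rw [hg, add_pow_char_of_commute (p := p) hcomm, hNp, zero_add, _root_.smul_pow, one_pow]

theorem odd_card_of_char_ne_two (p : ℕ) [Fact p.Prime] [CharP F p] (hp2 : p ≠ 2) :
    Odd (Fintype.card F) := by
  obtain ⟨n, -, hn⟩ := FiniteField.card F p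
  rw [hn]
  exact ((Fact.out : p.Prime).eq_two_or_odd'.resolve_left hp2).pow

theorem even_card_of_char_two [CharP F 2] : Even (Fintype.card F) := by
  obtain ⟨n, -, hn⟩ := FiniteField.card F 2
  rw [hn]
  exact (Nat.even_pow' n.ne_zero).mpr even_two

omit [Fintype F] in
/-- Trace `± 2` dichotomy. -/
theorem trace_sq_eq_four_iff (t : F) : t ^ 2 = 4 ↔ ∃ e : F, e ^ 2 = 1 ∧ t = 2 * e := by
  constructor
  · intro h
    have : (t - 2) * (t + 2) = 0 := by linear_combination h
    rcases mul_eq_zero.mp this with h1 | h1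
    · exact ⟨1, by ring, by linear_combination h1⟩
    · exact ⟨-1, by ring, by linear_combination h1⟩
  · rintro ⟨e, he, rfl⟩
    linear_combination 4 * he

omit [Fintype F] in
/-- Distinct eigenvalues when the trace is not `±2`. -/
theorem eigen_ne_of_trace (tau : F) (htau : tau ^ 2 ≠ 4) (lam mu : AlgebraicClosure F)
    (h1 : lam * mu = 1) (h2 : lam + mu = algebraMap F (AlgebraicClosure F) tau) : lam ≠ mu := by
  intro h
  apply htau
  apply (algebraMap F (AlgebraicClosure F)).injective
  rw [map_pow, ← h2, ← h]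
  rw [← h] at h1
  have : algebraMap F (AlgebraicClosure F) 4 = 4 := by
    have : (4 : F) = ((4 : ℕ) : F) := by norm_num
    rw [this, map_natCast]
    norm_num
  rw [this]
  linear_combination 4 * h1

/-- **Orders of `p'`-elements of `SL₂(q)`** divide `q - 1` or `q + 1`. -/
theorem SL2_orderOf_dvd (p : ℕ) [Fact p.Prime] [CharP F p] (g : SpecialLinearGroup (Fin 2) F)
    (hg : Nat.Coprime (orderOf g) p) :
    orderOf g ∣ Fintype.card F - 1 ∨ orderOf g ∣ Fintype.card F + 1 := by
  set tau := (g : Matrix (Fin 2) (Fin 2) F) 0 0 + (g : Matrix (Fin 2) (Fin 2) F) 1 1 with htau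
  by_cases h4 : tau ^ 2 = 4
  · obtain ⟨e, he, hte⟩ := (trace_sq_eq_four_iff tau).mp h4
    have hpow := pow_char_of_trace p (g : Matrix (Fin 2) (Fin 2) F) g.2 e he hte
    have h2p : g ^ (p * 2) = 1 := by
      apply Subtype.ext
      change (g : Matrix (Fin 2) (Fin 2) F) ^ (p * 2) = 1
      rw [pow_mul, hpow, _root_.smul_pow, one_pow, ← pow_mul, mul_comm p 2, pow_mul, he, one_pow, one_smul]
    have hdvd : orderOf g ∣ p * 2 := orderOf_dvd_of_pow_eq_one h2p
    have hdvd2 : orderOf g ∣ 2 := hg.dvd_of_dvd_mul_left hdvd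
    left
    by_cases hp2 : p = 2
    · have : orderOf g = 1 := by
        have h1 : orderOf g ∣ Nat.gcd (orderOf g) p := Nat.dvd_gcd dvd_rfl (hp2 ▸ hdvd2)
        rw [hg] at h1
        exact Nat.dvd_one.mp h1
      rw [this]
      exact one_dvd _
    · have hodd := odd_card_of_char_ne_two (F := F) p hp2
      obtain ⟨r, hr⟩ := hodd
      exact hdvd2.trans ⟨r, by omega⟩
  · obtain ⟨lam, mu, h1, h2⟩ := exists_eigen_pair tau
    have hne := eigen_ne_of_trace tau h4 lam mu h1 h2
    have key : ∀ k : ℕ, lam ^ k = 1 → orderOf g ∣ k := by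
      intro k hk
      apply orderOf_dvd_of_pow_eq_one
      apply Subtype.ext
      change (g : Matrix (Fin 2) (Fin 2) F) ^ k = 1
      have := (pow_eq_scalar_iff_eigen (g : Matrix (Fin 2) (Fin 2) F) g.2 lam mu h1 h2 hne k 1).mpr
        ⟨by rw [hk, map_one], by
          rw [map_one]
          have : mu ^ k * lam ^ k = 1 := by rw [← mul_pow, mul_comm, h1, one_pow]
          rw [hk, mul_one] at this
          exact this⟩
      rw [this, one_smul]
    rcases eigen_frobenius p tau lam mu h1 h2 with h | h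
    · left; exact key _ h
    · right; exact key _ h

end finite

end Cfsg.Agent.Lib.Helper13
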