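/-
helper13: conjugacy class sizes of `SL₂(F) ≅ PSL₂(F)` in characteristic 2.
-/
import Mathlib
import Cfsg.Agent.Lib.Helper13.SL2ClassSize
import Cfsg.Agent.Lib.Helper13.DegreeSets
import Cfsg.Agent.Lib.Helper13.SL2Spectrum

set_option autoImplicit false

namespace Cfsg.Agent.Lib.Helper13

open Matrix

/-- Class sizes are preserved by isomorphisms. -/
theorem index_centralizer_mulEquiv {A B : Type*} [Group A] [Group B] [Finite A] [Finite B]
    (e : A ≃* B) (a : A) :
    (Subgroup.centralizer ({a} : Set A)).index = (Subgroup.centralizer ({e a} : Set B)).index := by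
  rw [index_centralizer_eq, index_centralizer_eq]
  refine Nat.card_congr (e.toEquiv.subtypeEquiv ?_)
  intro x
  rw [ConjClasses.mem_carrier_iff_mk_eq, ConjClasses.mem_carrier_iff_mk_eq,
    ConjClasses.mk_eq_mk_iff_isConj, ConjClasses.mk_eq_mk_iff_isConj]
  constructor
  · intro h
    exact e.toMonoidHom.map_isConj h
  · intro h
    have := e.symm.toMonoidHom.map_isConj h
    simpa using this

section

variable {F : Type*} [Field F] [Fintype F]

/-- There is a trace `τ` with `X² - τX + 1` irreducible. -/
theorem exists_nonsplit_trace : ∃ τ : F, τ ^ 2 ≠ 4 ∧ ∀ a : F, a * (τ - a) ≠ 1 := by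
  classical
  have hns : ¬ Function.Surjective (fun a : Fˣ => (a : F) + ((a⁻¹ : Fˣ) : F)) := by
    intro hs
    have := Fintype.card_le_of_surjective _ hs
    rw [Fintype.card_units] at this
    have : 0 < Fintype.card F := Fintype.card_pos
    omega
  rw [Function.Surjective] at hns
  push Not at hns
  obtain ⟨τ, hτ⟩ := hns
  have key : ∀ a : F, a * (τ - a) ≠ 1 := by
    intro a ha
    have ha0 : a ≠ 0 := by
      rintro rfl
      rw [zero_mul] at ha
      exact zero_ne_one ha
    apply hτ (Units.mk0 a ha0)
    have : ((Units.mk0 a ha0)⁻¹ : Fˣ) = Units.mk0 (τ - a) (by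
        rintro h
        rw [h, mul_zero] at ha
        exact zero_ne_one ha) := by
      rw [inv_eq_iff_mul_eq_one]
      apply Units.ext
      simpa using ha
    rw [this]
    simp
  refine ⟨τ, ?_, key⟩
  intro h4
  obtain ⟨e, he, hte⟩ := (trace_sq_eq_four_iff τ).mp h4
  apply key e
  rw [hte]
  linear_combination he

omit [Fintype F] in
theorem card_sq_eq_one_of_char_two [CharP F 2] : Nat.card {x : F // x ^ 2 = 1} = 1 := by
  rw [Nat.card_eq_one_iff_unique]
  refine ⟨⟨?_⟩, ⟨⟨1, one_pow 2⟩⟩⟩
  rintro ⟨x, hx⟩ ⟨y, hy⟩
  apply Subtype.ext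
  change x = y
  have h2 : (2 : F) = 0 := CharP.cast_eq_zero F 2
  have hx1 : (x - 1) ^ 2 = 0 := by linear_combination hx - x * h2 + h2
  have hy1 : (y - 1) ^ 2 = 0 := by linear_combination hy - y * h2 + h2
  rw [sub_eq_zero.mp ((pow_eq_zero_iff two_ne_zero).mp hx1),
    sub_eq_zero.mp ((pow_eq_zero_iff two_ne_zero).mp hy1)]

/-- Class sizes of `SL₂(F)` in characteristic 2. -/
theorem SL2_even_class_sizes [CharP F 2] (h4 : 4 ≤ Fintype.card F) :
    Set.range (fun g : SpecialLinearGroup (Fin 2) F =>
      (Subgroup.centralizer ({g} : Set (SpecialLinearGroup (Fin 2) F))).index) =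
      {1, Fintype.card F * (Fintype.card F - 1), Fintype.card F ^ 2 - 1,
        Fintype.card F * (Fintype.card F + 1)} := by
  classical
  have h2 : (2 : F) = 0 := CharP.cast_eq_zero F 2
  have h40 : (4 : F) = 0 := by
    have : (4 : F) = 2 * 2 := by norm_num
    rw [this, h2, mul_zero]
  have hunip : ∀ t : F, t ≠ 0 →
      (Subgroup.centralizer ({tSL t} : Set (SpecialLinearGroup (Fin 2) F))).index =
        Fintype.card F ^ 2 - 1 := by
    intro t ht
    have := index_centralizer_tSL t ht
    rw [card_sq_eq_one_of_char_two, mul_one] at this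
    exact this
  ext n
  simp only [Set.mem_range, Set.mem_insert_iff, Set.mem_singleton_iff]
  constructor
  · rintro ⟨g, rfl⟩
    by_cases hg1 : g = 1
    · left
      subst hg1
      have : Subgroup.centralizer ({1} : Set (SpecialLinearGroup (Fin 2) F)) = ⊤ := by
        ext x
        simp [Subgroup.mem_centralizer_singleton_iff]
      rw [this, Subgroup.index_top]
    · by_cases hτ : (g : Matrix (Fin 2) (Fin 2) F).trace ^ 2 = 4
      · right; right; left
        have htr : (g : Matrix (Fin 2) (Fin 2) F) 0 0 + (g : Matrix (Fin 2) (Fin 2) F) 1 1 = 0 := by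
          rw [h40, Matrix.trace_fin_two] at hτ
          exact (pow_eq_zero_iff two_ne_zero).mp hτ
        have hch := cayley_hamilton_two (g : Matrix (Fin 2) (Fin 2) F) g.2
        rw [htr, zero_smul, zero_sub] at hch
        have hsq : ((g : Matrix (Fin 2) (Fin 2) F) - 1) ^ 2 = 0 := by
          rw [pow_two, sub_mul, mul_sub, mul_sub, hch, mul_one, one_mul, one_mul]
          have : (-1 - (g : Matrix (Fin 2) (Fin 2) F) - ((g : Matrix (Fin 2) (Fin 2) F) - 1)) =
              -((2 : F) • (g : Matrix (Fin 2) (Fin 2) F)) := by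
            rw [two_smul]; abel
          rw [this, h2, zero_smul, neg_zero]
        obtain ⟨B, t, ht, hB⟩ := exists_conj_tSL g hsq hg1
        have hc : IsConj g (tSL t) := by
          rw [isConj_iff]
          refine ⟨B⁻¹, ?_⟩
          rw [inv_inv, mul_assoc, hB, inv_mul_cancel_left]
        rw [index_centralizer_eq_of_isConj hc, hunip t ht]
      · by_cases hs : ∃ a : F, a * ((g : Matrix (Fin 2) (Fin 2) F).trace - a) = 1
        · right; right; right
          obtain ⟨a, ha⟩ := hs
          exact index_centralizer_split g hτ a ha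
        · right; left
          push Not at hs
          exact index_centralizer_nonsplit g hτ hs
  · rintro (rfl | rfl | rfl | rfl)
    · refine ⟨1, ?_⟩
      have : Subgroup.centralizer ({1} : Set (SpecialLinearGroup (Fin 2) F)) = ⊤ := by
        ext x
        simp [Subgroup.mem_centralizer_singleton_iff]
      rw [this, Subgroup.index_top]
    · obtain ⟨τ, hτ, hns⟩ := exists_nonsplit_trace (F := F)
      let g : SpecialLinearGroup (Fin 2) F := ⟨!![0, -1; 1, τ], by simp [Matrix.det_fin_two]⟩
      have htr : (g : Matrix (Fin 2) (Fin 2) F).trace = τ := by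
        change (!![0, -1; 1, τ] : Matrix (Fin 2) (Fin 2) F).trace = τ
        rw [Matrix.trace_fin_two_of, zero_add]
      refine ⟨g, ?_⟩
      exact index_centralizer_nonsplit g (by rw [htr]; exact hτ) (by rw [htr]; exact hns)
    · exact ⟨tSL 1, hunip 1 one_ne_zero⟩
    · -- split element
      have hex : ∃ z : F, z ≠ 0 ∧ z ≠ 1 := by
        by_contra hcon
        push Not at hcon
        have : (Finset.univ : Finset F) ⊆ {0, 1} := by
          intro z _
          by_cases hz : z = 0
          · simp [hz]
          · simp [hcon z hz]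
        have := Finset.card_le_card this
        rw [Finset.card_univ] at this
        have h3 : ({0, 1} : Finset F).card ≤ 2 := Finset.card_le_two
        omega
      obtain ⟨z, hz0, hz1⟩ := hex
      have htr : (dSL z hz0 : Matrix (Fin 2) (Fin 2) F).trace = z + z⁻¹ := by
        change (!![z, 0; 0, z⁻¹] : Matrix (Fin 2) (Fin 2) F).trace = _
        rw [Matrix.trace_fin_two_of]
      refine ⟨dSL z hz0, ?_⟩
      apply index_centralizer_split (dSL z hz0) _ z
      · rw [htr]
        field_simp
        ring
      · rw [htr, h40]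
        intro h
        have h5 : z + z⁻¹ = 0 := (pow_eq_zero_iff two_ne_zero).mp h
        apply hz1
        have h6 : z * z = 1 := by
          have : z * (z + z⁻¹) = 0 := by rw [h5, mul_zero]
          rw [mul_add, mul_inv_cancel₀ hz0] at this
          linear_combination this - h2
        have h7 : (z - 1) ^ 2 = 0 := by linear_combination h6 - z * h2 + h2
        exact sub_eq_zero.mp ((pow_eq_zero_iff two_ne_zero).mp h7)

end

end Cfsg.Agent.Lib.Helper13
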