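/-
helper13: the set of element orders of `PSL₂(F)`, `F` finite.
-/
import Mathlib
import Cfsg.Agent.Lib.Helper13.SL2Spectrum

set_option autoImplicit false

namespace Cfsg.Agent.Lib.Helper13

open Matrix Polynomial

/-- Elements of an extension fixed by the `q`-power map lie in the finite field with `q` elements. -/
theorem mem_range_of_pow_card_eq {F K : Type*} [Field F] [Fintype F] [Field K] [Algebra F K]
    (x : K) (hx : x ^ Fintype.card F = x) : ∃ a : F, algebraMap F K a = x := by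
  classical
  have hq : 1 < Fintype.card F := Fintype.one_lt_card
  have hmonic : (X ^ Fintype.card F - X : F[X]).Monic :=
    Polynomial.monic_X_pow_sub (by rw [degree_X]; exact_mod_cast hq)
  have hroots : Multiset.card (X ^ Fintype.card F - X : F[X]).roots =
      (X ^ Fintype.card F - X : F[X]).natDegree := by
    rw [FiniteField.roots_X_pow_card_sub_X, FiniteField.X_pow_card_sub_X_natDegree_eq F hq]
    rfl
  have hprod := Polynomial.prod_multiset_X_sub_C_of_monic_of_roots_card_eq hmonic hroots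
  rw [FiniteField.roots_X_pow_card_sub_X] at hprod
  have h2 := congrArg (Polynomial.aeval x) hprod
  rw [← Finset.prod_eq_multiset_prod] at h2
  simp only [map_prod, map_sub, map_pow, aeval_X, aeval_C] at h2
  rw [hx, sub_self] at h2
  obtain ⟨a, -, ha⟩ := Finset.prod_eq_zero_iff.mp h2
  exact ⟨a, (sub_eq_zero.mp ha).symm⟩

theorem exists_orderOf_eq_of_dvd {G : Type*} [Group G] (x : G) (m : ℕ) (hm : m ∣ orderOf x)
    (h0 : orderOf x ≠ 0) : ∃ y : G, orderOf y = m := by
  obtain ⟨k, hk⟩ := hm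
  have hk0 : k ≠ 0 := by
    rintro rfl
    rw [mul_zero] at hk
    exact h0 hk
  have hm0 : m ≠ 0 := by
    rintro rfl
    rw [zero_mul] at hk
    exact h0 hk
  refine ⟨x ^ k, ?_⟩
  rw [orderOf_pow_of_dvd hk0 ⟨m, by rw [hk, mul_comm]⟩, hk]
  exact Nat.mul_div_cancel m (Nat.pos_of_ne_zero hk0)

section general

variable {F : Type*} [Field F]

/-- `x^k = 1` in `PSL₂` iff `g^k` is scalar. -/
theorem mk_pow_eq_one_iff (g : SpecialLinearGroup (Fin 2) F) (k : ℕ) :
    (QuotientGroup.mk g : ProjectiveSpecialLinearGroup (Fin 2) F) ^ k = 1 ↔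
      ∃ c : F, (g : Matrix (Fin 2) (Fin 2) F) ^ k = c • (1 : Matrix (Fin 2) (Fin 2) F) := by
  rw [← QuotientGroup.mk_pow, QuotientGroup.eq_one_iff]
  constructor
  · intro h
    obtain ⟨r, hr⟩ := scalar_of_mem_center _ h
    exact ⟨r, hr⟩
  · rintro ⟨c, hc⟩
    exact mem_center_of_scalar _ c hc

end general

section finite

variable {F : Type*} [Field F] [Fintype F]

theorem gcd_two_card_sub_one (p : ℕ) [Fact p.Prime] [CharP F p] :
    (p = 2 → Nat.gcd 2 (Fintype.card F - 1) = 1) ∧ (p ≠ 2 → Nat.gcd 2 (Fintype.card F - 1) = 2) := by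
  have hq : 1 < Fintype.card F := Fintype.one_lt_card
  constructor
  · intro hp2
    subst hp2
    obtain ⟨r, hr⟩ := even_card_of_char_two (F := F)
    have : Odd (Fintype.card F - 1) := ⟨r - 1, by omega⟩
    exact Nat.coprime_two_left.mpr this
  · intro hp2
    obtain ⟨r, hr⟩ := odd_card_of_char_ne_two (F := F) p hp2
    exact Nat.gcd_eq_left ⟨r, by omega⟩

/-- If the eigenvalue `λ` has `λ^N = 1` then the image in `PSL₂` has `(N / d)`-th power one. -/
theorem mk_pow_div_gcd_eq_one (p : ℕ) [Fact p.Prime] [CharP F p]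
    (g : SpecialLinearGroup (Fin 2) F) (lam mu : AlgebraicClosure F) (h1 : lam * mu = 1)
    (h2 : lam + mu = algebraMap F (AlgebraicClosure F)
      ((g : Matrix (Fin 2) (Fin 2) F) 0 0 + (g : Matrix (Fin 2) (Fin 2) F) 1 1)) (hne : lam ≠ mu)
    (N : ℕ) (hN : lam ^ N = 1) (hNeven : p ≠ 2 → 2 ∣ N) :
    (QuotientGroup.mk g : ProjectiveSpecialLinearGroup (Fin 2) F) ^
      (N / Nat.gcd 2 (Fintype.card F - 1)) = 1 := by
  rw [mk_pow_eq_one_iff]
  have hmu : ∀ k : ℕ, mu ^ k * lam ^ k = 1 := by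
    intro k
    rw [← mul_pow, mul_comm, h1, one_pow]
  by_cases hp2 : p = 2
  · rw [(gcd_two_card_sub_one (F := F) p).1 hp2, Nat.div_one]
    refine ⟨1, ?_⟩
    rw [pow_eq_scalar_iff_eigen _ g.2 lam mu h1 h2 hne, map_one]
    refine ⟨hN, ?_⟩
    have := hmu N
    rw [hN, mul_one] at this
    exact this
  · rw [(gcd_two_card_sub_one (F := F) p).2 hp2]
    obtain ⟨n, rfl⟩ := hNeven hp2
    rw [Nat.mul_div_cancel_left n (by norm_num)]
    have hsq : lam ^ n * lam ^ n = 1 := by rw [← pow_add, ← two_mul]; exact hN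
    rcases mul_self_eq_one_iff.mp hsq with h | h
    · refine ⟨1, ?_⟩
      rw [pow_eq_scalar_iff_eigen _ g.2 lam mu h1 h2 hne, map_one]
      refine ⟨h, ?_⟩
      have := hmu n
      rw [h, mul_one] at this
      exact this
    · refine ⟨-1, ?_⟩
      rw [pow_eq_scalar_iff_eigen _ g.2 lam mu h1 h2 hne, map_neg, map_one]
      refine ⟨h, ?_⟩
      have := hmu n
      rw [h] at this
      linear_combination -this

/-- **Upper bound**: orders of elements of `PSL₂(q)`. -/
theorem PSL2_orderOf_dvd (p : ℕ) [Fact p.Prime] [CharP F p]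
    (x : ProjectiveSpecialLinearGroup (Fin 2) F) :
    orderOf x ∣ p ∨ orderOf x ∣ (Fintype.card F - 1) / Nat.gcd 2 (Fintype.card F - 1) ∨
      orderOf x ∣ (Fintype.card F + 1) / Nat.gcd 2 (Fintype.card F - 1) := by
  obtain ⟨g, rfl⟩ := QuotientGroup.mk_surjective x
  set tau := (g : Matrix (Fin 2) (Fin 2) F) 0 0 + (g : Matrix (Fin 2) (Fin 2) F) 1 1 with htau
  by_cases h4 : tau ^ 2 = 4
  · left
    obtain ⟨e, he, hte⟩ := (trace_sq_eq_four_iff tau).mp h4
    have hpow := pow_char_of_trace p (g : Matrix (Fin 2) (Fin 2) F) g.2 e he hte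
    apply orderOf_dvd_of_pow_eq_one
    rw [mk_pow_eq_one_iff]
    exact ⟨e ^ p, hpow⟩
  · right
    obtain ⟨lam, mu, h1, h2⟩ := exists_eigen_pair tau
    have hne := eigen_ne_of_trace tau h4 lam mu h1 h2
    have hpar : p ≠ 2 → 2 ∣ Fintype.card F - 1 ∧ 2 ∣ Fintype.card F + 1 := by
      intro hp2
      obtain ⟨r, hr⟩ := odd_card_of_char_ne_two (F := F) p hp2
      exact ⟨⟨r, by omega⟩, ⟨r + 1, by omega⟩⟩
    rcases eigen_frobenius p tau lam mu h1 h2 with h | h
    · left
      exact orderOf_dvd_of_pow_eq_one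
        (mk_pow_div_gcd_eq_one p g lam mu h1 h2 hne _ h (fun hp2 => (hpar hp2).1))
    · right
      exact orderOf_dvd_of_pow_eq_one
        (mk_pow_div_gcd_eq_one p g lam mu h1 h2 hne _ h (fun hp2 => (hpar hp2).2))

/-- The exact order of the image in `PSL₂` of an element with an eigenvalue of order `N ≥ 3`. -/
theorem orderOf_mk_eq (p : ℕ) [Fact p.Prime] [CharP F p]
    (g : SpecialLinearGroup (Fin 2) F) (lam mu : AlgebraicClosure F) (h1 : lam * mu = 1)
    (h2 : lam + mu = algebraMap F (AlgebraicClosure F)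
      ((g : Matrix (Fin 2) (Fin 2) F) 0 0 + (g : Matrix (Fin 2) (Fin 2) F) 1 1))
    (N : ℕ) (hN3 : 3 ≤ N) (hlam : orderOf lam = N) (hNeven : p ≠ 2 → 2 ∣ N) (hNodd : p = 2 → Odd N) :
    orderOf (QuotientGroup.mk g : ProjectiveSpecialLinearGroup (Fin 2) F) =
      N / Nat.gcd 2 (Fintype.card F - 1) := by
  have hne : lam ≠ mu := by
    intro h
    rw [← h] at h1
    have : N ∣ 2 := by
      rw [← hlam]
      apply orderOf_dvd_of_pow_eq_one
      rw [pow_two]
      exact h1
    have := Nat.le_of_dvd (by norm_num) this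
    omega
  have hN : lam ^ N = 1 := by rw [← hlam]; exact pow_orderOf_eq_one lam
  apply Nat.dvd_antisymm
  · exact orderOf_dvd_of_pow_eq_one (mk_pow_div_gcd_eq_one p g lam mu h1 h2 hne N hN hNeven)
  · have hk := pow_orderOf_eq_one (QuotientGroup.mk g : ProjectiveSpecialLinearGroup (Fin 2) F)
    set k := orderOf (QuotientGroup.mk g : ProjectiveSpecialLinearGroup (Fin 2) F) with hkdef
    rw [mk_pow_eq_one_iff] at hk
    obtain ⟨c, hc⟩ := hk
    rw [pow_eq_scalar_iff_eigen _ g.2 lam mu h1 h2 hne] at hc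
    obtain ⟨hc1, hc2⟩ := hc
    have h2k : lam ^ (2 * k) = 1 := by
      rw [two_mul, pow_add]
      nth_rewrite 2 [hc1]
      rw [← hc2, ← mul_pow, h1, one_pow]
    have hdvd : N ∣ 2 * k := by
      rw [← hlam]
      exact orderOf_dvd_of_pow_eq_one h2k
    by_cases hp2 : p = 2
    · rw [(gcd_two_card_sub_one (F := F) p).1 hp2, Nat.div_one]
      have hcop : Nat.Coprime N 2 := (Nat.coprime_two_right).mpr (hNodd hp2)
      exact hcop.dvd_of_dvd_mul_left hdvd
    · rw [(gcd_two_card_sub_one (F := F) p).2 hp2]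
      obtain ⟨n, rfl⟩ := hNeven hp2
      rw [Nat.mul_div_cancel_left n (by norm_num)]
      exact Nat.dvd_of_mul_dvd_mul_left (by norm_num) hdvd

omit [Fintype F] in
/-- An element of order `p`. -/
theorem exists_orderOf_eq_char (p : ℕ) [Fact p.Prime] [CharP F p] :
    ∃ x : ProjectiveSpecialLinearGroup (Fin 2) F, orderOf x = p := by
  refine ⟨QuotientGroup.mk (tSL 1), ?_⟩
  apply orderOf_eq_prime
  · rw [← QuotientGroup.mk_pow, tSL_pow, mul_one, CharP.cast_eq_zero, tSL_zero, QuotientGroup.mk_one]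
  · intro h
    rw [QuotientGroup.eq_one_iff] at h
    obtain ⟨r, hr⟩ := scalar_of_mem_center _ h
    have := congr_fun (congr_fun hr 0) 1
    simp [tSL_coe] at this

/-- An element of order `(q - 1) / d` (split torus). -/
theorem exists_orderOf_eq_split (p : ℕ) [Fact p.Prime] [CharP F p] (h4 : 4 ≤ Fintype.card F) :
    ∃ x : ProjectiveSpecialLinearGroup (Fin 2) F,
      orderOf x = (Fintype.card F - 1) / Nat.gcd 2 (Fintype.card F - 1) := by
  classical
  obtain ⟨ζ, hζ⟩ := IsCyclic.exists_generator (α := Fˣ)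
  have hord : orderOf ζ = Fintype.card F - 1 := by
    rw [orderOf_eq_card_of_forall_mem_zpowers hζ, Nat.card_eq_fintype_card, Fintype.card_units]
  have hord' : orderOf (algebraMap F (AlgebraicClosure F) (ζ : F)) = Fintype.card F - 1 := by
    rw [← hord, ← orderOf_units (y := ζ)]
    exact orderOf_injective (algebraMap F (AlgebraicClosure F) : F →* AlgebraicClosure F)
      (algebraMap F (AlgebraicClosure F)).injective (ζ : F)
  refine ⟨QuotientGroup.mk (dSL (ζ : F) ζ.ne_zero), ?_⟩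
  apply orderOf_mk_eq p _ (algebraMap F (AlgebraicClosure F) (ζ : F))
    (algebraMap F (AlgebraicClosure F) ((ζ : F)⁻¹)) _ _ _ (by omega) hord'
  · intro hp2
    obtain ⟨r, hr⟩ := odd_card_of_char_ne_two (F := F) p hp2
    exact ⟨r, by omega⟩
  · intro hp2
    subst hp2
    obtain ⟨r, hr⟩ := even_card_of_char_two (F := F)
    exact ⟨r - 1, by omega⟩
  · rw [← map_mul, mul_inv_cancel₀ ζ.ne_zero, map_one]
  · rw [← map_add]
    rfl

/-- An element of order `(q + 1) / d` (non-split torus). -/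
theorem exists_orderOf_eq_nonsplit (p : ℕ) [Fact p.Prime] [CharP F p] :
    ∃ x : ProjectiveSpecialLinearGroup (Fin 2) F,
      orderOf x = (Fintype.card F + 1) / Nat.gcd 2 (Fintype.card F - 1) := by
  have hq : 1 < Fintype.card F := Fintype.one_lt_card
  have : NeZero ((Fintype.card F + 1 : ℕ) : F) :=
    ⟨by rw [Nat.cast_add, FiniteField.cast_card_eq_zero, zero_add, Nat.cast_one]; exact one_ne_zero⟩
  obtain ⟨lam, hlam⟩ := HasEnoughRootsOfUnity.exists_primitiveRoot (AlgebraicClosure F)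
    (Fintype.card F + 1)
  have hord : orderOf lam = Fintype.card F + 1 := hlam.eq_orderOf.symm
  set mu := lam ^ Fintype.card F with hmu
  have h1 : lam * mu = 1 := by
    rw [hmu, ← pow_succ', ← hord]
    exact pow_orderOf_eq_one lam
  obtain ⟨n, -, hn⟩ := FiniteField.card F p
  have hmuq : mu ^ Fintype.card F = lam := by
    have h3 : mu ^ Fintype.card F * mu = 1 := by
      nth_rewrite 2 [hmu]
      rw [← mul_pow, mul_comm, h1, one_pow]
    calc mu ^ Fintype.card F = mu ^ Fintype.card F * (lam * mu) := by rw [h1, mul_one]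
      _ = (mu ^ Fintype.card F * mu) * lam := by ring
      _ = lam := by rw [h3, one_mul]
  have htau : (lam + mu) ^ Fintype.card F = lam + mu := by
    rw [hn, add_pow_char_pow, ← hn, hmuq, ← hmu, add_comm]
  obtain ⟨t, ht⟩ := mem_range_of_pow_card_eq (F := F) (lam + mu) htau
  let g : SpecialLinearGroup (Fin 2) F := ⟨!![0, -1; 1, t], by simp [Matrix.det_fin_two]⟩
  refine ⟨QuotientGroup.mk g, ?_⟩
  apply orderOf_mk_eq p g lam mu h1 _ _ (by omega) hord
  · intro hp2
    obtain ⟨r, hr⟩ := odd_card_of_char_ne_two (F := F) p hp2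
    exact ⟨r + 1, by omega⟩
  · intro hp2
    subst hp2
    obtain ⟨r, hr⟩ := even_card_of_char_two (F := F)
    exact ⟨r, by omega⟩
  · rw [← ht]
    congr 1
    change t = (!![0, -1; 1, t] : Matrix (Fin 2) (Fin 2) F) 0 0 + (!![0, -1; 1, t] : Matrix (Fin 2) (Fin 2) F) 1 1
    simp

/-- **The spectrum of `PSL₂(q)`**, `q ≥ 4`. -/
theorem PSL2_spectrum (p : ℕ) [Fact p.Prime] [CharP F p] (h4 : 4 ≤ Fintype.card F) :
    Set.range (orderOf : ProjectiveSpecialLinearGroup (Fin 2) F → ℕ) =
      {m : ℕ | m ∣ p ∨ m ∣ (Fintype.card F - 1) / Nat.gcd 2 (Fintype.card F - 1) ∨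
        m ∣ (Fintype.card F + 1) / Nat.gcd 2 (Fintype.card F - 1)} := by
  have hp : p.Prime := Fact.out
  have hd : Nat.gcd 2 (Fintype.card F - 1) = 1 ∨ Nat.gcd 2 (Fintype.card F - 1) = 2 := by
    by_cases hp2 : p = 2
    · left; exact (gcd_two_card_sub_one (F := F) p).1 hp2
    · right; exact (gcd_two_card_sub_one (F := F) p).2 hp2
  ext m
  simp only [Set.mem_range, Set.mem_ofPred_eq]
  constructor
  · rintro ⟨x, rfl⟩
    exact PSL2_orderOf_dvd p x
  · rintro (h | h | h)
    · obtain ⟨x, hx⟩ := exists_orderOf_eq_char (F := F) p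
      exact exists_orderOf_eq_of_dvd x m (hx ▸ h) (by rw [hx]; exact hp.ne_zero)
    · obtain ⟨x, hx⟩ := exists_orderOf_eq_split (F := F) p h4
      refine exists_orderOf_eq_of_dvd x m (hx ▸ h) ?_
      rw [hx]
      rcases hd with hd | hd <;> rw [hd] <;> omega
    · obtain ⟨x, hx⟩ := exists_orderOf_eq_nonsplit (F := F) p
      refine exists_orderOf_eq_of_dvd x m (hx ▸ h) ?_
      rw [hx]
      rcases hd with hd | hd <;> rw [hd] <;> omega

end finite

end Cfsg.Agent.Lib.Helper13
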