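/-
helper13: conjugacy class sizes in `G ⧸ Z(G)` when `|Z(G)| = 2`.
-/
import Mathlib
import Cfsg.Agent.Lib.Helper13.SL2ClassSize

set_option autoImplicit false

namespace Cfsg.Agent.Lib.Helper13

variable {G : Type*} [Group G]

theorem centralizer_central_mul (z : G) (hz : z ∈ Subgroup.center G) (g : G) :
    Subgroup.centralizer ({z * g} : Set G) = Subgroup.centralizer ({g} : Set G) := by
  ext c
  rw [Subgroup.mem_centralizer_singleton_iff, Subgroup.mem_centralizer_singleton_iff]
  have hzc : c * z = z * c := Subgroup.mem_center_iff.mp hz c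
  constructor
  · intro h
    have : z * (c * g) = z * (g * c) := by
      rw [← mul_assoc, ← hzc, mul_assoc, h, mul_assoc]
    exact mul_left_cancel this
  · intro h
    rw [← mul_assoc, hzc, mul_assoc, h]
    simp only [mul_assoc]

variable [Finite G]

omit [Finite G] in
/-- Preimage of a conjugacy class of `G ⧸ Z(G)` when `Z(G) = {1, z}`. -/
theorem preimage_carrier_quot (z : G) (hz : z ∈ Subgroup.center G) (hz1 : z ≠ 1)
    (hZ : ∀ w ∈ Subgroup.center G, w = 1 ∨ w = z) (g : G) :
    (QuotientGroup.mk : G → G ⧸ Subgroup.center G) ⁻¹'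
      (ConjClasses.mk (QuotientGroup.mk g : G ⧸ Subgroup.center G)).carrier =
      (ConjClasses.mk g).carrier ∪ (ConjClasses.mk (z * g)).carrier := by
  ext h
  rw [Set.mem_preimage, Set.mem_union, ConjClasses.mem_carrier_iff_mk_eq,
    ConjClasses.mem_carrier_iff_mk_eq, ConjClasses.mem_carrier_iff_mk_eq,
    ConjClasses.mk_eq_mk_iff_isConj, ConjClasses.mk_eq_mk_iff_isConj, ConjClasses.mk_eq_mk_iff_isConj]
  constructor
  · intro hc
    obtain ⟨cbar, hcbar⟩ := isConj_iff.mp hc
    obtain ⟨c, rfl⟩ := QuotientGroup.mk_surjective cbar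
    rw [← QuotientGroup.mk_inv, ← QuotientGroup.mk_mul, ← QuotientGroup.mk_mul, QuotientGroup.eq] at hcbar
    rcases hZ _ hcbar with h1 | h1
    · left
      rw [isConj_iff]
      refine ⟨c, ?_⟩
      have : g = c * h * c⁻¹ := by
        have := congrArg (fun x => (c * h * c⁻¹) * x) h1
        simp only [mul_inv_cancel_left, mul_one] at this
        exact this
      exact this.symm
    · right
      rw [isConj_iff]
      refine ⟨c, ?_⟩
      have h2 : g = c * h * c⁻¹ * z := by
        have := congrArg (fun x => (c * h * c⁻¹) * x) h1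
        simp only [mul_inv_cancel_left] at this
        exact this
      have hzz : z * z = 1 := by
        rcases hZ (z * z) (Subgroup.mul_mem _ hz hz) with h3 | h3
        · exact h3
        · exfalso
          apply hz1
          have := congrArg (fun x => z⁻¹ * x) h3
          simp only [inv_mul_cancel_left, inv_mul_cancel] at this
          exact this
      have hcz := Subgroup.mem_center_iff.mp hz (c * h * c⁻¹)
      rw [h2]
      generalize c * h * c⁻¹ = X at hcz ⊢
      rw [← mul_assoc, ← hcz, mul_assoc, hzz, mul_one]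
  · rintro (hc | hc)
    · exact (QuotientGroup.mk' (Subgroup.center G)).map_isConj hc
    · have := (QuotientGroup.mk' (Subgroup.center G)).map_isConj hc
      have h1 : (QuotientGroup.mk' (Subgroup.center G)) (z * g) =
          (QuotientGroup.mk g : G ⧸ Subgroup.center G) := by
        rw [map_mul]
        have : (QuotientGroup.mk' (Subgroup.center G)) z = 1 := by
          rw [QuotientGroup.mk'_apply, QuotientGroup.eq_one_iff]
          exact hz
        rw [this, one_mul]
        rfl
      rw [h1] at this
      exact this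

/-- Class sizes in `G ⧸ Z(G)` when `Z(G) = {1, z}` has order 2. -/
theorem quot_class_size (z : G) (hz : z ∈ Subgroup.center G) (hz1 : z ≠ 1)
    (hZ : ∀ w ∈ Subgroup.center G, w = 1 ∨ w = z) (g : G) :
    (IsConj g (z * g) →
      2 * (Subgroup.centralizer ({(QuotientGroup.mk g : G ⧸ Subgroup.center G)} :
        Set (G ⧸ Subgroup.center G))).index = (Subgroup.centralizer ({g} : Set G)).index) ∧
    (¬ IsConj g (z * g) →
      (Subgroup.centralizer ({(QuotientGroup.mk g : G ⧸ Subgroup.center G)} :
        Set (G ⧸ Subgroup.center G))).index = (Subgroup.centralizer ({g} : Set G)).index) := by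
  have hcard : Nat.card (Subgroup.center G) = 2 := by
    rw [Nat.card_eq_two_iff]
    refine ⟨⟨1, Subgroup.one_mem _⟩, ⟨z, hz⟩, ?_, ?_⟩
    · intro h
      exact hz1 (congrArg Subtype.val h).symm
    · ext ⟨w, hw⟩
      simp only [Set.mem_insert_iff, Set.mem_singleton_iff, Set.mem_univ, iff_true, Subtype.mk.injEq]
      exact hZ w hw
  have h1 := QuotientGroup.card_preimage_mk (Subgroup.center G)
    (ConjClasses.mk (QuotientGroup.mk g : G ⧸ Subgroup.center G)).carrier
  rw [preimage_carrier_quot z hz hz1 hZ g, hcard] at h1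
  have hzg : Nat.card (ConjClasses.mk (z * g)).carrier = Nat.card (ConjClasses.mk g).carrier := by
    rw [← index_centralizer_eq, ← index_centralizer_eq, centralizer_central_mul z hz g]
  rw [index_centralizer_eq, index_centralizer_eq]
  constructor
  · intro hc
    rw [← ConjClasses.mk_eq_mk_iff_isConj.mpr hc, Set.union_self] at h1
    exact h1.symm
  · intro hc
    have hdisj : Disjoint (ConjClasses.mk g).carrier (ConjClasses.mk (z * g)).carrier := by
      rw [Set.disjoint_left]
      intro x hx1 hx2
      rw [ConjClasses.mem_carrier_iff_mk_eq] at hx1 hx2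
      apply hc
      rw [← ConjClasses.mk_eq_mk_iff_isConj, ← hx1, hx2]
    rw [Nat.card_coe_set_eq, Set.ncard_union_eq hdisj (Set.toFinite _) (Set.toFinite _),
      ← Nat.card_coe_set_eq, ← Nat.card_coe_set_eq, hzg] at h1
    omega

end Cfsg.Agent.Lib.Helper13
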