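/-
helper13: conjugacy class sizes of `PSL₂(F)`, `F` finite of odd order.
-/
import Mathlib
import Cfsg.Agent.Lib.Helper13.QuotClassSize
import Cfsg.Agent.Lib.Helper13.PSL2ClassSizeEven
import Cfsg.Agent.Lib.Helper13.PSL2Spectrum

set_option autoImplicit false

namespace Cfsg.Agent.Lib.Helper13

open Matrix

section general

variable {F : Type*} [Field F]

/-- The central element `-1` of `SL₂`. -/
def zSL (F : Type*) [Field F] : SpecialLinearGroup (Fin 2) F :=
  ⟨!![-1, 0; 0, -1], by simp [Matrix.det_fin_two]⟩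

theorem zSL_coe : ((zSL F : SpecialLinearGroup (Fin 2) F) : Matrix (Fin 2) (Fin 2) F) =
    !![-1, 0; 0, -1] := rfl

theorem zSL_mem_center : zSL F ∈ Subgroup.center (SpecialLinearGroup (Fin 2) F) := by
  apply mem_center_of_scalar _ (-1)
  rw [zSL_coe]
  ext i j
  fin_cases i <;> fin_cases j <;> simp

theorem zSL_ne_one (h2 : (2 : F) ≠ 0) : zSL F ≠ 1 := by
  intro h
  have := congrArg (fun g : SpecialLinearGroup (Fin 2) F => (g : Matrix (Fin 2) (Fin 2) F) 0 0) h
  simp only [zSL_coe] at this
  have h3 : (-1 : F) = 1 := by simpa using this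
  apply h2
  linear_combination -h3

theorem center_cases (w : SpecialLinearGroup (Fin 2) F)
    (hw : w ∈ Subgroup.center (SpecialLinearGroup (Fin 2) F)) : w = 1 ∨ w = zSL F := by
  obtain ⟨r, hr⟩ := scalar_of_mem_center w hw
  have hdet := w.2
  rw [hr, Matrix.det_smul, Matrix.det_one, mul_one, Fintype.card_fin] at hdet
  have h3 : (r - 1) * (r + 1) = 0 := by linear_combination hdet
  rcases mul_eq_zero.mp h3 with h | h
  · left
    apply Subtype.ext
    change (w : Matrix (Fin 2) (Fin 2) F) = 1
    rw [hr, sub_eq_zero.mp h, one_smul]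
  · right
    apply Subtype.ext
    change (w : Matrix (Fin 2) (Fin 2) F) = !![-1, 0; 0, -1]
    rw [hr, eq_neg_of_add_eq_zero_left h]
    ext i j
    fin_cases i <;> fin_cases j <;> simp

theorem trace_zSL_mul (g : SpecialLinearGroup (Fin 2) F) :
    ((zSL F * g : SpecialLinearGroup (Fin 2) F) : Matrix (Fin 2) (Fin 2) F).trace =
      -(g : Matrix (Fin 2) (Fin 2) F).trace := by
  change ((!![-1, 0; 0, -1] : Matrix (Fin 2) (Fin 2) F) * (g : Matrix (Fin 2) (Fin 2) F)).trace = _
  rw [Matrix.trace_fin_two, Matrix.trace_fin_two]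
  simp [Matrix.mul_apply, Fin.sum_univ_two]
  ring

end general

section finite

variable {F : Type*} [Field F] [Fintype F]

theorem isConj_zSL_mul_iff (h2 : (2 : F) ≠ 0) (g : SpecialLinearGroup (Fin 2) F) :
    IsConj g (zSL F * g) ↔ (g : Matrix (Fin 2) (Fin 2) F).trace = 0 := by
  constructor
  · intro hc
    have h := trace_eq_of_isConj_SL hc
    rw [trace_zSL_mul] at h
    have h3 : (2 : F) * (g : Matrix (Fin 2) (Fin 2) F).trace = 0 := by linear_combination h
    exact (mul_eq_zero.mp h3).resolve_left h2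
  · intro h0
    apply isConj_of_trace_eq
    · rw [trace_zSL_mul, h0, neg_zero]
    · rw [h0]
      intro h
      apply h2
      have h4 : (2 : F) * 2 = 0 := by linear_combination -h
      exact (mul_eq_zero.mp h4).elim id id

omit [Fintype F] in
theorem card_sq_eq_one_of_two_ne_zero (h2 : (2 : F) ≠ 0) : Nat.card {x : F // x ^ 2 = 1} = 2 := by
  rw [Nat.card_eq_two_iff]
  refine ⟨⟨1, one_pow 2⟩, ⟨-1, by ring⟩, ?_, ?_⟩
  · intro h
    have h3 : (1 : F) = -1 := congrArg Subtype.val h
    apply h2
    linear_combination h3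
  · ext ⟨x, hx⟩
    simp only [Set.mem_insert_iff, Set.mem_singleton_iff, Set.mem_univ, iff_true, Subtype.mk.injEq]
    have h3 : (x - 1) * (x + 1) = 0 := by linear_combination hx
    rcases mul_eq_zero.mp h3 with h | h
    · left; exact sub_eq_zero.mp h
    · right; exact eq_neg_of_add_eq_zero_left h

/-- Non-central elements of trace `±2`: class size `(q² - 1)/2` in `SL₂`, `q` odd. -/
theorem index_centralizer_unip (h2 : (2 : F) ≠ 0) (g : SpecialLinearGroup (Fin 2) F)
    (hg : g ∉ Subgroup.center (SpecialLinearGroup (Fin 2) F))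
    (hτ : (g : Matrix (Fin 2) (Fin 2) F).trace ^ 2 = 4) :
    (Subgroup.centralizer ({g} : Set (SpecialLinearGroup (Fin 2) F))).index * 2 =
      Fintype.card F ^ 2 - 1 := by
  have key : ∀ g' : SpecialLinearGroup (Fin 2) F, g' ≠ 1 →
      (g' : Matrix (Fin 2) (Fin 2) F).trace = 2 →
      (Subgroup.centralizer ({g'} : Set (SpecialLinearGroup (Fin 2) F))).index * 2 =
        Fintype.card F ^ 2 - 1 := by
    intro g' hg1 htr
    have hch := cayley_hamilton_two (g' : Matrix (Fin 2) (Fin 2) F) g'.2
    rw [Matrix.trace_fin_two] at htr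
    rw [htr] at hch
    have hsq : ((g' : Matrix (Fin 2) (Fin 2) F) - 1) ^ 2 = 0 := by
      rw [pow_two, sub_mul, mul_sub, mul_sub, hch, mul_one, one_mul, one_mul, two_smul]
      abel
    obtain ⟨B, t, ht, hB⟩ := exists_conj_tSL g' hsq hg1
    have hc : IsConj g' (tSL t) := by
      rw [isConj_iff]
      refine ⟨B⁻¹, ?_⟩
      rw [inv_inv, mul_assoc, hB, inv_mul_cancel_left]
    rw [index_centralizer_eq_of_isConj hc]
    have := index_centralizer_tSL t ht
    rw [card_sq_eq_one_of_two_ne_zero h2] at this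
    exact this
  obtain ⟨e, he, hte⟩ := (trace_sq_eq_four_iff _).mp hτ
  have h3 : (e - 1) * (e + 1) = 0 := by linear_combination he
  rcases mul_eq_zero.mp h3 with h | h
  · have he1 : e = 1 := sub_eq_zero.mp h
    apply key g
    · rintro rfl
      exact hg (Subgroup.one_mem _)
    · rw [hte, he1, mul_one]
  · have he1 : e = -1 := eq_neg_of_add_eq_zero_left h
    rw [← centralizer_central_mul (zSL F) zSL_mem_center g]
    apply key
    · intro h1
      apply hg
      have : g = (zSL F)⁻¹ := eq_inv_of_mul_eq_one_right h1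
      rw [this]
      exact Subgroup.inv_mem _ zSL_mem_center
    · rw [trace_zSL_mul, hte, he1]
      ring

/-- A non-split trace different from `0`. -/
theorem exists_nonsplit_trace_ne_zero (p : ℕ) [Fact p.Prime] [CharP F p] (h4 : 4 ≤ Fintype.card F) :
    ∃ τ : F, τ ≠ 0 ∧ τ ^ 2 ≠ 4 ∧ ∀ a : F, a * (τ - a) ≠ 1 := by
  have : NeZero ((Fintype.card F + 1 : ℕ) : F) :=
    ⟨by rw [Nat.cast_add, FiniteField.cast_card_eq_zero, zero_add, Nat.cast_one]; exact one_ne_zero⟩
  obtain ⟨lam, hlam⟩ := HasEnoughRootsOfUnity.exists_primitiveRoot (AlgebraicClosure F)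
    (Fintype.card F + 1)
  have hord : orderOf lam = Fintype.card F + 1 := hlam.eq_orderOf.symm
  set mu := lam ^ Fintype.card F with hmu
  have h1 : lam * mu = 1 := by
    rw [hmu, ← pow_succ', ← hord]
    exact pow_orderOf_eq_one lam
  obtain ⟨n, -, hn⟩ := FiniteField.card F p
  have hmuq : mu ^ Fintype.card F = lam := by
    have h3 : mu ^ Fintype.card F * mu = 1 := by
      nth_rewrite 2 [hmu]
      rw [← mul_pow, mul_comm, h1, one_pow]
    calc mu ^ Fintype.card F = mu ^ Fintype.card F * (lam * mu) := by rw [h1, mul_one]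
      _ = (mu ^ Fintype.card F * mu) * lam := by ring
      _ = lam := by rw [h3, one_mul]
  have htau : (lam + mu) ^ Fintype.card F = lam + mu := by
    rw [hn, add_pow_char_pow, ← hn, hmuq, ← hmu, add_comm]
  obtain ⟨t, ht⟩ := mem_range_of_pow_card_eq (F := F) (lam + mu) htau
  have hne : lam ≠ mu := by
    intro h
    rw [← h] at h1
    have : Fintype.card F + 1 ∣ 2 := by
      rw [← hord]
      apply orderOf_dvd_of_pow_eq_one
      rw [pow_two]
      exact h1
    have := Nat.le_of_dvd (by norm_num) this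
    omega
  refine ⟨t, ?_, ?_, ?_⟩
  · rintro rfl
    rw [map_zero] at ht
    have hmu' : mu = -lam := by linear_combination -ht
    rw [hmu'] at h1
    have h4' : lam ^ 4 = 1 := by
      have : lam ^ 2 = -1 := by linear_combination -h1
      calc lam ^ 4 = (lam ^ 2) ^ 2 := by ring
        _ = 1 := by rw [this]; ring
    have : Fintype.card F + 1 ∣ 4 := by
      rw [← hord]
      exact orderOf_dvd_of_pow_eq_one h4'
    have := Nat.le_of_dvd (by norm_num) this
    omega
  · intro h
    apply hne
    have h5 : (algebraMap F (AlgebraicClosure F) t) ^ 2 = 4 := by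
      rw [← map_pow, h]
      have : (4 : F) = ((4 : ℕ) : F) := by norm_num
      rw [this, map_natCast]
      norm_num
    rw [ht] at h5
    have h6 : (lam - mu) ^ 2 = 0 := by linear_combination h5 - 4 * h1
    exact sub_eq_zero.mp ((pow_eq_zero_iff two_ne_zero).mp h6)
  · intro a ha
    have ha' : (algebraMap F (AlgebraicClosure F) a - lam) *
        (algebraMap F (AlgebraicClosure F) a - mu) = 0 := by
      have := congrArg (algebraMap F (AlgebraicClosure F)) ha
      rw [map_mul, map_sub, ht, map_one] at this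
      linear_combination -this + h1
    have hfix : (algebraMap F (AlgebraicClosure F) a) ^ Fintype.card F =
        algebraMap F (AlgebraicClosure F) a := by
      rw [← map_pow, FiniteField.pow_card]
    rcases mul_eq_zero.mp ha' with h | h
    · have h7 : lam = algebraMap F (AlgebraicClosure F) a := (sub_eq_zero.mp h).symm
      apply hne
      rw [hmu, h7, hfix]
    · have h7 : mu = algebraMap F (AlgebraicClosure F) a := (sub_eq_zero.mp h).symm
      apply hne
      rw [← hmuq, h7, hfix]

/-- An element `a` with `a⁴ ≠ 1` when `q ≥ 7`. -/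
theorem exists_pow_four_ne_one (h7 : 7 ≤ Fintype.card F) : ∃ a : F, a ≠ 0 ∧ a ^ 4 ≠ 1 := by
  classical
  obtain ⟨ζ, hζ⟩ := IsCyclic.exists_generator (α := Fˣ)
  have hord : orderOf ζ = Fintype.card F - 1 := by
    rw [orderOf_eq_card_of_forall_mem_zpowers hζ, Nat.card_eq_fintype_card, Fintype.card_units]
  refine ⟨(ζ : F), ζ.ne_zero, ?_⟩
  intro h
  have h1 : ζ ^ 4 = 1 := by
    apply Units.ext
    rw [Units.val_pow_eq_pow_val, h, Units.val_one]
  have := orderOf_dvd_of_pow_eq_one h1
  rw [hord] at this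
  have := Nat.le_of_dvd (by norm_num) this
  omega

/-- The class-size function of `PSL₂(F)`. -/
noncomputable def pslIdx (x : ProjectiveSpecialLinearGroup (Fin 2) F) : ℕ :=
  (Subgroup.centralizer ({x} : Set (ProjectiveSpecialLinearGroup (Fin 2) F))).index

omit [Fintype F] in
theorem pslIdx_central (g : SpecialLinearGroup (Fin 2) F)
    (hg : g ∈ Subgroup.center (SpecialLinearGroup (Fin 2) F)) :
    pslIdx (QuotientGroup.mk g : ProjectiveSpecialLinearGroup (Fin 2) F) = 1 := by
  have h1 : (QuotientGroup.mk g : ProjectiveSpecialLinearGroup (Fin 2) F) = 1 :=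
    (QuotientGroup.eq_one_iff g).mpr hg
  unfold pslIdx
  rw [h1]
  have : Subgroup.centralizer ({1} : Set (ProjectiveSpecialLinearGroup (Fin 2) F)) = ⊤ := by
    ext x
    simp [Subgroup.mem_centralizer_singleton_iff]
  rw [this, Subgroup.index_top]

theorem pslIdx_of_trace_ne_zero (h2 : (2 : F) ≠ 0) (g : SpecialLinearGroup (Fin 2) F)
    (h0 : (g : Matrix (Fin 2) (Fin 2) F).trace ≠ 0) :
    pslIdx (QuotientGroup.mk g : ProjectiveSpecialLinearGroup (Fin 2) F) =
      (Subgroup.centralizer ({g} : Set (SpecialLinearGroup (Fin 2) F))).index :=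
  (quot_class_size (zSL F) zSL_mem_center (zSL_ne_one h2) center_cases g).2
    (fun hc => h0 ((isConj_zSL_mul_iff h2 g).mp hc))

theorem pslIdx_of_trace_zero (h2 : (2 : F) ≠ 0) (g : SpecialLinearGroup (Fin 2) F)
    (h0 : (g : Matrix (Fin 2) (Fin 2) F).trace = 0) :
    2 * pslIdx (QuotientGroup.mk g : ProjectiveSpecialLinearGroup (Fin 2) F) =
      (Subgroup.centralizer ({g} : Set (SpecialLinearGroup (Fin 2) F))).index :=
  (quot_class_size (zSL F) zSL_mem_center (zSL_ne_one h2) center_cases g).1
    ((isConj_zSL_mul_iff h2 g).mpr h0)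

omit [Fintype F] in
theorem four_ne_zero_of_two (h2 : (2 : F) ≠ 0) : (4 : F) ≠ 0 := by
  intro h
  have h4 : (2 : F) * 2 = 0 := by linear_combination h
  exact h2 ((mul_eq_zero.mp h4).elim id id)

/-- Classification of the class sizes of `PSL₂(F)`, `q` odd. -/
theorem pslIdx_cases (h2 : (2 : F) ≠ 0) (g : SpecialLinearGroup (Fin 2) F) :
    pslIdx (QuotientGroup.mk g : ProjectiveSpecialLinearGroup (Fin 2) F) = 1 ∨
    pslIdx (QuotientGroup.mk g : ProjectiveSpecialLinearGroup (Fin 2) F) * 2 = Fintype.card F ^ 2 - 1 ∨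
    pslIdx (QuotientGroup.mk g : ProjectiveSpecialLinearGroup (Fin 2) F) =
      Fintype.card F * (Fintype.card F + 1) ∨
    pslIdx (QuotientGroup.mk g : ProjectiveSpecialLinearGroup (Fin 2) F) =
      Fintype.card F * (Fintype.card F - 1) ∨
    (IsSquare (-1 : F) ∧ 2 * pslIdx (QuotientGroup.mk g : ProjectiveSpecialLinearGroup (Fin 2) F) =
      Fintype.card F * (Fintype.card F + 1)) ∨
    (¬ IsSquare (-1 : F) ∧ 2 * pslIdx (QuotientGroup.mk g : ProjectiveSpecialLinearGroup (Fin 2) F) =
      Fintype.card F * (Fintype.card F - 1)) := by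
  by_cases hc : g ∈ Subgroup.center (SpecialLinearGroup (Fin 2) F)
  · left; exact pslIdx_central g hc
  by_cases hτ : (g : Matrix (Fin 2) (Fin 2) F).trace ^ 2 = 4
  · right; left
    have h0 : (g : Matrix (Fin 2) (Fin 2) F).trace ≠ 0 := by
      intro h
      rw [h] at hτ
      exact four_ne_zero_of_two h2 (by linear_combination -hτ)
    rw [pslIdx_of_trace_ne_zero h2 g h0]
    exact index_centralizer_unip h2 g hc hτ
  by_cases h0 : (g : Matrix (Fin 2) (Fin 2) F).trace = 0
  · by_cases hs : IsSquare (-1 : F)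
    · right; right; right; right; left
      refine ⟨hs, ?_⟩
      rw [pslIdx_of_trace_zero h2 g h0]
      obtain ⟨a, ha⟩ := hs
      exact index_centralizer_split g hτ a (by rw [h0]; linear_combination ha)
    · right; right; right; right; right
      refine ⟨hs, ?_⟩
      rw [pslIdx_of_trace_zero h2 g h0]
      apply index_centralizer_nonsplit g hτ
      intro a ha
      apply hs
      rw [h0] at ha
      exact ⟨a, by linear_combination ha⟩
  · rw [pslIdx_of_trace_ne_zero h2 g h0]
    by_cases hs : ∃ a : F, a * ((g : Matrix (Fin 2) (Fin 2) F).trace - a) = 1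
    · right; right; left
      obtain ⟨a, ha⟩ := hs
      exact index_centralizer_split g hτ a ha
    · right; right; right; left
      push Not at hs
      exact index_centralizer_nonsplit g hτ hs

/-- Existence of each class size, `q ≥ 7` odd. -/
theorem pslIdx_exists (p : ℕ) [Fact p.Prime] [CharP F p] (h2 : (2 : F) ≠ 0) (h7 : 7 ≤ Fintype.card F) :
    (∃ x : ProjectiveSpecialLinearGroup (Fin 2) F, pslIdx x = 1) ∧
    (∃ x : ProjectiveSpecialLinearGroup (Fin 2) F, pslIdx x * 2 = Fintype.card F ^ 2 - 1) ∧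
    (∃ x : ProjectiveSpecialLinearGroup (Fin 2) F, pslIdx x = Fintype.card F * (Fintype.card F + 1)) ∧
    (∃ x : ProjectiveSpecialLinearGroup (Fin 2) F, pslIdx x = Fintype.card F * (Fintype.card F - 1)) ∧
    (IsSquare (-1 : F) → ∃ x : ProjectiveSpecialLinearGroup (Fin 2) F,
      2 * pslIdx x = Fintype.card F * (Fintype.card F + 1)) ∧
    (¬ IsSquare (-1 : F) → ∃ x : ProjectiveSpecialLinearGroup (Fin 2) F,
      2 * pslIdx x = Fintype.card F * (Fintype.card F - 1)) := by
  have h40 := four_ne_zero_of_two h2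
  refine ⟨⟨QuotientGroup.mk 1, pslIdx_central 1 (Subgroup.one_mem _)⟩, ?_, ?_, ?_, ?_, ?_⟩
  · refine ⟨QuotientGroup.mk (tSL 1), ?_⟩
    have htr : (tSL (1 : F) : Matrix (Fin 2) (Fin 2) F).trace = 2 := by
      rw [tSL_coe, Matrix.trace_fin_two_of]; norm_num
    rw [pslIdx_of_trace_ne_zero h2 _ (by rw [htr]; exact h2)]
    apply index_centralizer_unip h2
    · intro hc
      obtain ⟨r, hr⟩ := scalar_of_mem_center _ hc
      have := congr_fun (congr_fun hr 0) 1
      simp [tSL_coe] at this
    · rw [htr]; norm_num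
  · obtain ⟨a, ha0, ha4⟩ := exists_pow_four_ne_one h7
    have htr : (dSL a ha0 : Matrix (Fin 2) (Fin 2) F).trace = a + a⁻¹ := by
      change (!![a, 0; 0, a⁻¹] : Matrix (Fin 2) (Fin 2) F).trace = _
      rw [Matrix.trace_fin_two_of]
    have hne0 : a + a⁻¹ ≠ 0 := by
      intro h
      apply ha4
      have h1 : a * a = -1 := by
        have : a * (a + a⁻¹) = 0 := by rw [h, mul_zero]
        rw [mul_add, mul_inv_cancel₀ ha0] at this
        linear_combination this
      calc a ^ 4 = (a * a) ^ 2 := by ring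
        _ = 1 := by rw [h1]; ring
    have hne4 : (a + a⁻¹) ^ 2 ≠ 4 := by
      intro h
      apply ha4
      have h1 : a * a⁻¹ = 1 := mul_inv_cancel₀ ha0
      have h3 : (a - a⁻¹) ^ 2 = 0 := by linear_combination h - 4 * h1
      have h4 : a = a⁻¹ := sub_eq_zero.mp ((pow_eq_zero_iff two_ne_zero).mp h3)
      have h5 : a * a = 1 := by nth_rewrite 2 [h4]; exact h1
      calc a ^ 4 = (a * a) ^ 2 := by ring
        _ = 1 := by rw [h5]; ring
    refine ⟨QuotientGroup.mk (dSL a ha0), ?_⟩
    rw [pslIdx_of_trace_ne_zero h2 _ (by rw [htr]; exact hne0)]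
    apply index_centralizer_split _ (by rw [htr]; exact hne4) a
    rw [htr]
    field_simp
    ring
  · obtain ⟨τ, hτ0, hτ4, hns⟩ := exists_nonsplit_trace_ne_zero (F := F) p (by omega)
    let g : SpecialLinearGroup (Fin 2) F := ⟨!![0, -1; 1, τ], by simp [Matrix.det_fin_two]⟩
    have htr : (g : Matrix (Fin 2) (Fin 2) F).trace = τ := by
      change (!![0, -1; 1, τ] : Matrix (Fin 2) (Fin 2) F).trace = τ
      rw [Matrix.trace_fin_two_of, zero_add]
    refine ⟨QuotientGroup.mk g, ?_⟩
    rw [pslIdx_of_trace_ne_zero h2 _ (by rw [htr]; exact hτ0)]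
    exact index_centralizer_nonsplit g (by rw [htr]; exact hτ4) (by rw [htr]; exact hns)
  · intro hs
    let g : SpecialLinearGroup (Fin 2) F := ⟨!![0, -1; 1, 0], by simp [Matrix.det_fin_two]⟩
    have htr : (g : Matrix (Fin 2) (Fin 2) F).trace = 0 := by
      change (!![0, -1; 1, 0] : Matrix (Fin 2) (Fin 2) F).trace = 0
      rw [Matrix.trace_fin_two_of, zero_add]
    refine ⟨QuotientGroup.mk g, ?_⟩
    rw [pslIdx_of_trace_zero h2 g htr]
    obtain ⟨a, ha⟩ := hs
    exact index_centralizer_split g (by rw [htr]; intro h; exact h40 (by linear_combination -h)) a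
      (by rw [htr]; linear_combination ha)
  · intro hs
    let g : SpecialLinearGroup (Fin 2) F := ⟨!![0, -1; 1, 0], by simp [Matrix.det_fin_two]⟩
    have htr : (g : Matrix (Fin 2) (Fin 2) F).trace = 0 := by
      change (!![0, -1; 1, 0] : Matrix (Fin 2) (Fin 2) F).trace = 0
      rw [Matrix.trace_fin_two_of, zero_add]
    refine ⟨QuotientGroup.mk g, ?_⟩
    rw [pslIdx_of_trace_zero h2 g htr]
    apply index_centralizer_nonsplit g (by rw [htr]; intro h; exact h40 (by linear_combination -h))
    intro a ha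
    apply hs
    rw [htr] at ha
    exact ⟨a, by linear_combination ha⟩

end finite

end Cfsg.Agent.Lib.Helper13
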