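import Mathlib
import Cfsg.Prelude.Def_LocalEven

/-!
Helper lemmas (helper13): the property "all Sylow `p`-subgroups are abelian" passes to
subgroups, quotients and sections (`Cfsg.Involves`).
-/

set_option autoImplicit false

namespace Cfsg.Agent.Lib.Helper13

/-- Every Sylow `p`-subgroup of `G` is abelian. -/
def AbSylow (p : ℕ) (G : Type*) [Group G] : Prop :=
  ∀ P : Sylow p G, ∀ a ∈ P, ∀ b ∈ P, a * b = b * a

variable {p : ℕ} {G : Type*} [Group G]

/-- In a group with abelian Sylow `p`-subgroups, all `p`-subgroups are abelian. -/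
theorem AbSylow.comm_of_isPGroup (h : AbSylow p G) (S : Subgroup G) (hS : IsPGroup p S)
    {a b : G} (ha : a ∈ S) (hb : b ∈ S) : a * b = b * a := by
  obtain ⟨P, hP⟩ := hS.exists_le_sylow
  exact h P a (hP ha) b (hP hb)

variable [Fact p.Prime]

/-- If one Sylow `p`-subgroup of a finite group is abelian, all are. -/
theorem abSylow_of_sylow [Finite G] (P : Sylow p G) (hP : ∀ a ∈ P, ∀ b ∈ P, a * b = b * a) :
    AbSylow p G := by
  intro Q a ha b hb
  obtain ⟨g, hg⟩ := MulAction.exists_smul_eq G P Q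
  subst hg
  have ha' : a ∈ ((g • P : Sylow p G) : Subgroup G) := ha
  have hb' : b ∈ ((g • P : Sylow p G) : Subgroup G) := hb
  rw [Sylow.coe_subgroup_smul, Subgroup.mem_pointwise_smul_iff_inv_smul_mem] at ha' hb'
  have := hP _ ha' _ hb'
  simp only [MulAut.smul_def, ← map_inv, MulAut.conj_apply, inv_inv] at this
  have h3 : g⁻¹ * (a * b) * g = g⁻¹ * (b * a) * g := by
    calc g⁻¹ * (a * b) * g = (g⁻¹ * a * g) * (g⁻¹ * b * g) := by group
      _ = (g⁻¹ * b * g) * (g⁻¹ * a * g) := this
      _ = g⁻¹ * (b * a) * g := by group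
  exact mul_left_cancel (mul_right_cancel h3)

omit [Fact p.Prime] in
theorem AbSylow.subgroup (h : AbSylow p G) (H : Subgroup G) : AbSylow p H := by
  intro P a ha b hb
  have hP : IsPGroup p ((P : Subgroup H).map H.subtype) := P.2.map _
  have := h.comm_of_isPGroup _ hP (Subgroup.mem_map_of_mem H.subtype ha)
    (Subgroup.mem_map_of_mem H.subtype hb)
  exact Subtype.ext this

theorem AbSylow.of_surjective [Finite G] {Q : Type*} [Group Q] (h : AbSylow p G) (f : G →* Q)
    (hf : Function.Surjective f) : AbSylow p Q := by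
  intro P a ha b hb
  obtain ⟨P₀, rfl⟩ := Sylow.mapSurjective_surjective hf p P
  replace ha : a ∈ ((Sylow.mapSurjective hf P₀ : Sylow p Q) : Subgroup Q) := ha
  replace hb : b ∈ ((Sylow.mapSurjective hf P₀ : Sylow p Q) : Subgroup Q) := hb
  rw [Sylow.coe_mapSurjective, Subgroup.mem_map] at ha hb
  obtain ⟨a', ha', rfl⟩ := ha
  obtain ⟨b', hb', rfl⟩ := hb
  rw [← map_mul, ← map_mul, h P₀ a' ha' b' hb']

/-- Sections of a finite group with abelian Sylow `p`-subgroups have abelian Sylow `p`-subgroups. -/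
theorem AbSylow.of_involves [Finite G] {H : Type*} [Group H] (h : AbSylow p G)
    (hinv : Cfsg.Involves H G) : AbSylow p H := by
  obtain ⟨K, R, hn, ⟨e⟩⟩ := hinv
  have h1 : AbSylow p K := h.subgroup K
  have h2 : AbSylow p (K ⧸ R.subgroupOf K) :=
    h1.of_surjective (QuotientGroup.mk' _) (QuotientGroup.mk'_surjective _)
  have : Finite (K ⧸ R.subgroupOf K) := inferInstance
  exact h2.of_surjective e.toMonoidHom e.surjective

end Cfsg.Agent.Lib.Helper13
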