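import Mathlib
import Cfsg.Agent.Lib.Helper13.SL2b
import Cfsg.Agent.Lib.Helper13.AbSylow

/-!
Helper lemmas (helper13): in defining characteristic the Sylow `p`-subgroups of `SL₂(K)` and `PSL₂(K)`
are abelian (the upper unitriangular group is a Sylow `p`-subgroup).
-/

set_option autoImplicit false

namespace Cfsg.Agent.Lib.Helper13

open Matrix

variable {K : Type*} [Field K]

/-- `t ↦ [[1, t], [0, 1]]` as a homomorphism from the additive group of `K`. -/
def tSLHom : Multiplicative K →* SpecialLinearGroup (Fin 2) K where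
  toFun t := tSL (Multiplicative.toAdd t)
  map_one' := tSL_zero
  map_mul' _ _ := (tSL_mul _ _).symm

theorem tSLHom_injective : Function.Injective (tSLHom (K := K)) := by
  intro a b h
  exact Multiplicative.toAdd.injective (tSL_injective h)

theorem card_range_tSLHom [Finite K] : Nat.card (tSLHom (K := K)).range = Nat.card K := by
  have h1 : Nat.card (Multiplicative K) = Nat.card (tSLHom (K := K)).range :=
    Nat.card_congr (Equiv.ofInjective _ (tSLHom_injective (K := K)))
  rw [← h1]
  exact Nat.card_congr Multiplicative.toAdd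

theorem comm_of_mem_range_tSLHom {a b : SpecialLinearGroup (Fin 2) K}
    (ha : a ∈ (tSLHom (K := K)).range) (hb : b ∈ (tSLHom (K := K)).range) : a * b = b * a := by
  obtain ⟨s, rfl⟩ := ha
  obtain ⟨t, rfl⟩ := hb
  rw [← map_mul, ← map_mul, mul_comm]

/-- The Sylow `p`-subgroups of `SL₂(K)`, `K` finite of characteristic `p`, are abelian. -/
theorem abSylow_SL2 (p : ℕ) [Fact p.Prime] [Fintype K] [CharP K p] :
    AbSylow p (SpecialLinearGroup (Fin 2) K) := by
  have hp : p.Prime := Fact.out
  obtain ⟨n, -, hq⟩ := FiniteField.card K p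
  have hcardU : Nat.card (tSLHom (K := K)).range = p ^ (n : ℕ) := by
    rw [card_range_tSLHom, Nat.card_eq_fintype_card, hq]
  have hPG : IsPGroup p (tSLHom (K := K)).range := IsPGroup.of_card hcardU
  have hindex : ¬ p ∣ (tSLHom (K := K)).range.index := by
    have h1 := Subgroup.card_mul_index (tSLHom (K := K)).range
    rw [card_SL2, hcardU, hq] at h1
    have hpos : 0 < p ^ (n : ℕ) := pow_pos hp.pos _
    have h2 : (tSLHom (K := K)).range.index = (p ^ (n : ℕ)) ^ 2 - 1 :=
      Nat.eq_of_mul_eq_mul_left hpos h1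
    rw [h2]
    intro hdvd
    have h3 : p ∣ (p ^ (n : ℕ)) ^ 2 := by
      rw [← pow_mul]
      exact dvd_pow_self p (by positivity)
    have h4 : 1 ≤ (p ^ (n : ℕ)) ^ 2 := Nat.one_le_pow _ _ hpos
    have h5 : p ∣ 1 := by
      have := Nat.dvd_sub h3 hdvd
      rwa [Nat.sub_sub_self h4] at this
    exact hp.one_lt.ne' (Nat.dvd_one.mp h5)
  apply abSylow_of_sylow (hPG.toSylow hindex)
  intro a ha b hb
  exact comm_of_mem_range_tSLHom ha hb

/-- The Sylow `p`-subgroups of `PSL₂(K)`, `K` finite of characteristic `p`, are abelian. -/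
theorem abSylow_PSL2 (p : ℕ) [Fact p.Prime] [Fintype K] [CharP K p] :
    AbSylow p (ProjectiveSpecialLinearGroup (Fin 2) K) :=
  (abSylow_SL2 (K := K) p).of_surjective (QuotientGroup.mk' _) (QuotientGroup.mk'_surjective _)

end Cfsg.Agent.Lib.Helper13
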