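/-
helper13: subgroups of order 4 of `SL₂(F)`, `F` finite of odd order.
-/
import Mathlib
import Cfsg.Agent.Lib.Helper13.PSL2ClassSizeOdd

set_option autoImplicit false

namespace Cfsg.Agent.Lib.Helper13

open Matrix

section general

variable {F : Type*} [Field F]

theorem coe_mul_self (g : SpecialLinearGroup (Fin 2) F) :
    ((g * g : SpecialLinearGroup (Fin 2) F) : Matrix (Fin 2) (Fin 2) F) =
      (g : Matrix (Fin 2) (Fin 2) F) * (g : Matrix (Fin 2) (Fin 2) F) := rfl

/-- The only involution of `SL₂(F)`, `char F ≠ 2`, is `-1`. -/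
theorem sq_eq_one_cases (h2 : (2 : F) ≠ 0) (g : SpecialLinearGroup (Fin 2) F) (hg : g * g = 1) :
    g = 1 ∨ g = zSL F := by
  apply center_cases
  have hch := cayley_hamilton_two (g : Matrix (Fin 2) (Fin 2) F) g.2
  have h1 : (g : Matrix (Fin 2) (Fin 2) F) * (g : Matrix (Fin 2) (Fin 2) F) = 1 := by
    rw [← coe_mul_self, hg]; rfl
  rw [h1] at hch
  set τ := (g : Matrix (Fin 2) (Fin 2) F) 0 0 + (g : Matrix (Fin 2) (Fin 2) F) 1 1 with hτ
  have h3 : τ • (g : Matrix (Fin 2) (Fin 2) F) = (2 : F) • (1 : Matrix (Fin 2) (Fin 2) F) := by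
    rw [two_smul]
    have := congrArg (fun M => M + 1) hch
    simp only [sub_add_cancel] at this
    exact this.symm
  have hτ0 : τ ≠ 0 := by
    intro h
    rw [h, zero_smul] at h3
    have := congr_fun (congr_fun h3 0) 0
    simp at this
    exact h2 this.symm
  apply mem_center_of_scalar g (2 / τ)
  have := congrArg (fun M => τ⁻¹ • M) h3
  simp only [smul_smul, inv_mul_cancel₀ hτ0, one_smul] at this
  rw [this, div_eq_inv_mul]

theorem trace_eq_zero_of_mul_self (g : SpecialLinearGroup (Fin 2) F) (hg : g * g = zSL F) :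
    (g : Matrix (Fin 2) (Fin 2) F).trace = 0 := by
  have hch := cayley_hamilton_two (g : Matrix (Fin 2) (Fin 2) F) g.2
  have h1 : (g : Matrix (Fin 2) (Fin 2) F) * (g : Matrix (Fin 2) (Fin 2) F) = !![-1, 0; 0, -1] := by
    rw [← coe_mul_self, hg]; rfl
  rw [h1, ← Matrix.trace_fin_two] at hch
  set τ := (g : Matrix (Fin 2) (Fin 2) F).trace with hτ
  have h3 : τ • (g : Matrix (Fin 2) (Fin 2) F) = 0 := by
    have := congrArg (fun M => M + 1) hch
    simp only [sub_add_cancel] at this
    rw [← this]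
    ext i j
    fin_cases i <;> fin_cases j <;> simp
  by_contra hτ0
  have h4 : (g : Matrix (Fin 2) (Fin 2) F) = 0 := (smul_eq_zero.mp h3).resolve_left hτ0
  have hd := g.2
  rw [h4] at hd
  simp at hd

theorem mul_self_of_trace_eq_zero (g : SpecialLinearGroup (Fin 2) F)
    (h : (g : Matrix (Fin 2) (Fin 2) F).trace = 0) : g * g = zSL F := by
  have hch := cayley_hamilton_two (g : Matrix (Fin 2) (Fin 2) F) g.2
  rw [← Matrix.trace_fin_two, h, zero_smul, zero_sub] at hch
  apply Subtype.ext
  change (g : Matrix (Fin 2) (Fin 2) F) * (g : Matrix (Fin 2) (Fin 2) F) = !![-1, 0; 0, -1]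
  rw [hch]
  ext i j
  fin_cases i <;> fin_cases j <;> simp

theorem zSL_mul_self : zSL F * zSL F = 1 := by
  apply Subtype.ext
  change (!![-1, 0; 0, -1] : Matrix (Fin 2) (Fin 2) F) * !![-1, 0; 0, -1] = 1
  ext i j
  fin_cases i <;> fin_cases j <;> simp

end general

section finite

variable {F : Type*} [Field F] [Fintype F]

/-- A subgroup of order 4 of `SL₂(F)` is cyclic, generated by an element of trace `0`. -/
theorem exists_gen_of_card_four (h2 : (2 : F) ≠ 0) (A : Subgroup (SpecialLinearGroup (Fin 2) F))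
    (hA : Nat.card A = 4) :
    ∃ a : SpecialLinearGroup (Fin 2) F, a ∈ A ∧ (a : Matrix (Fin 2) (Fin 2) F).trace = 0 ∧
      A = Subgroup.zpowers a := by
  classical
  have hex : ∃ a ∈ A, a * a ≠ 1 := by
    by_contra hcon
    push Not at hcon
    have hsub : (A : Set (SpecialLinearGroup (Fin 2) F)) ⊆ {1, zSL F} := by
      intro x hx
      rcases sq_eq_one_cases h2 x (hcon x hx) with h | h
      · left; exact h
      · right; exact h
    have h1 : (A : Set (SpecialLinearGroup (Fin 2) F)).ncard ≤ 2 :=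
      (Set.ncard_le_ncard hsub (Set.toFinite _)).trans (Set.ncard_insert_le _ _ |>.trans (by
        rw [Set.ncard_singleton]))
    rw [← Nat.card_coe_set_eq] at h1
    have : Nat.card (A : Set (SpecialLinearGroup (Fin 2) F)) = Nat.card A := rfl
    omega
  obtain ⟨a, haA, ha2⟩ := hex
  have hord : orderOf a ∣ 4 := by
    have := orderOf_dvd_natCard (⟨a, haA⟩ : A)
    rw [hA] at this
    rwa [Subgroup.orderOf_mk] at this
  have ha4 : (a * a) * (a * a) = 1 := by
    have h4 : a ^ 4 = 1 := (orderOf_dvd_iff_pow_eq_one).mp hord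
    calc (a * a) * (a * a) = a ^ 4 := by
          rw [pow_succ, pow_succ, pow_succ, pow_one, mul_assoc, mul_assoc, mul_assoc]
      _ = 1 := h4
  have hsq : a * a = zSL F := (sq_eq_one_cases h2 (a * a) ha4).resolve_left ha2
  refine ⟨a, haA, trace_eq_zero_of_mul_self a hsq, ?_⟩
  have ho4 : orderOf a = 4 := by
    have h1 : orderOf a ≠ 1 := by
      intro h
      rw [orderOf_eq_one_iff] at h
      apply ha2
      rw [h, mul_one]
    have h2' : orderOf a ≠ 2 := by
      intro h
      apply ha2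
      have h5 := pow_orderOf_eq_one a
      rw [h, pow_two] at h5
      exact h5
    have hle : orderOf a ≤ 4 := Nat.le_of_dvd (by norm_num) hord
    have hpos : 0 < orderOf a := Nat.pos_of_dvd_of_pos hord (by norm_num)
    interval_cases h : orderOf a
    · exact absurd rfl h1
    · exact absurd rfl h2'
    · norm_num at hord
    · rfl
  symm
  apply Subgroup.eq_of_le_of_card_ge
  · rw [Subgroup.zpowers_le]
    exact haA
  · rw [hA, Nat.card_zpowers, ho4]

theorem map_conj_zpowers {G : Type*} [Group G] (c a : G) :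
    (Subgroup.zpowers a).map (MulAut.conj c).toMonoidHom = Subgroup.zpowers (c * a * c⁻¹) := by
  rw [MonoidHom.map_zpowers]
  rfl

/-- Any two subgroups of order 4 of `SL₂(F)` are conjugate. -/
theorem conj_of_card_four (h2 : (2 : F) ≠ 0) (A B : Subgroup (SpecialLinearGroup (Fin 2) F))
    (hA : Nat.card A = 4) (hB : Nat.card B = 4) :
    ∃ g : SpecialLinearGroup (Fin 2) F, B = A.map (MulAut.conj g).toMonoidHom := by
  obtain ⟨a, -, hta, hAa⟩ := exists_gen_of_card_four h2 A hA
  obtain ⟨b, -, htb, hBb⟩ := exists_gen_of_card_four h2 B hB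
  have h4 : (4 : F) ≠ 0 := four_ne_zero_of_two h2
  have hc : IsConj a b := by
    apply isConj_of_trace_eq a b (by rw [hta, htb])
    rw [hta]
    intro h
    apply h4
    rw [← h]
    ring
  obtain ⟨c, hc⟩ := isConj_iff.mp hc
  refine ⟨c, ?_⟩
  rw [hAa, hBb, map_conj_zpowers, hc]

theorem trace_one_ne_zero (h2 : (2 : F) ≠ 0) :
    ((1 : SpecialLinearGroup (Fin 2) F) : Matrix (Fin 2) (Fin 2) F).trace ≠ 0 := by
  change (1 : Matrix (Fin 2) (Fin 2) F).trace ≠ 0
  rw [Matrix.trace_fin_two]
  simp only [Matrix.one_apply_eq]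
  intro h
  apply h2
  rw [← h]
  ring

theorem trace_zSL_ne_zero (h2 : (2 : F) ≠ 0) :
    ((zSL F : SpecialLinearGroup (Fin 2) F) : Matrix (Fin 2) (Fin 2) F).trace ≠ 0 := by
  rw [zSL_coe, Matrix.trace_fin_two]
  simp only [Matrix.of_apply, Matrix.cons_val', Matrix.cons_val_zero, Matrix.cons_val_one,
    Matrix.cons_val_fin_one]
  intro h
  apply h2
  linear_combination -h

theorem zSL_mul_eq_inv (a : SpecialLinearGroup (Fin 2) F) (ha : a * a = zSL F) :
    zSL F * a = a⁻¹ := by
  rw [eq_inv_iff_mul_eq_one, mul_assoc, ha, zSL_mul_self]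

/-- Elements of `⟨a⟩` (`a² = -1`) of trace `0` are `a` or `-a`. -/
theorem mem_zpowers_trace_zero (h2 : (2 : F) ≠ 0) (a x : SpecialLinearGroup (Fin 2) F)
    (ha : a * a = zSL F) (hx : x ∈ Subgroup.zpowers a)
    (htx : (x : Matrix (Fin 2) (Fin 2) F).trace = 0) : x = a ∨ x = zSL F * a := by
  have h4 : a ^ 4 = 1 := by
    calc a ^ 4 = (a * a) * (a * a) := by
          rw [pow_succ, pow_succ, pow_succ, pow_one, mul_assoc, mul_assoc]
      _ = 1 := by rw [ha, zSL_mul_self]
  obtain ⟨k, rfl⟩ := Subgroup.mem_zpowers_iff.mp hx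
  have hk : a ^ k = a ^ (k % 4) := by
    conv_lhs => rw [← Int.emod_add_mul_ediv k 4]
    rw [_root_.zpow_add, _root_.zpow_mul]
    have : a ^ (4 : ℤ) = 1 := by exact_mod_cast h4
    rw [this, _root_.one_zpow, mul_one]
  have hk0 : 0 ≤ k % 4 := Int.emod_nonneg k (by norm_num)
  have hk4 : k % 4 < 4 := Int.emod_lt_of_pos k (by norm_num)
  rw [hk] at htx ⊢
  obtain ⟨m, hm⟩ := Int.eq_ofNat_of_zero_le hk0
  rw [hm] at htx hk4 ⊢
  rw [zpow_natCast] at htx ⊢
  have hm4 : m < 4 := by exact_mod_cast hk4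
  interval_cases m
  · exfalso
    rw [pow_zero] at htx
    exact trace_one_ne_zero h2 htx
  · left; rw [pow_one]
  · exfalso
    rw [pow_two, ha] at htx
    exact trace_zSL_ne_zero h2 htx
  · right
    rw [pow_succ, pow_two, ha]

theorem trace_conj_SL (c a : SpecialLinearGroup (Fin 2) F) :
    ((c * a * c⁻¹ : SpecialLinearGroup (Fin 2) F) : Matrix (Fin 2) (Fin 2) F).trace =
      (a : Matrix (Fin 2) (Fin 2) F).trace := by
  have : IsConj a (c * a * c⁻¹) := isConj_iff.mpr ⟨c, rfl⟩
  exact (trace_eq_of_isConj_SL this).symm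

/-- The normalizer of `⟨a⟩`, `a² = -1`. -/
theorem mem_normalizer_zpowers_iff (h2 : (2 : F) ≠ 0) (a x : SpecialLinearGroup (Fin 2) F)
    (ha : a * a = zSL F) :
    x ∈ Subgroup.normalizer ((Subgroup.zpowers a : Subgroup (SpecialLinearGroup (Fin 2) F)) :
      Set (SpecialLinearGroup (Fin 2) F)) ↔ x * a * x⁻¹ = a ∨ x * a * x⁻¹ = zSL F * a := by
  rw [Subgroup.mem_normalizer_iff_map_conj_eq]
  have hmap := map_conj_zpowers x a
  constructor
  · intro h
    apply mem_zpowers_trace_zero h2 a _ ha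
    · have h1 : x * a * x⁻¹ ∈ Subgroup.zpowers (x * a * x⁻¹) := Subgroup.mem_zpowers _
      rw [← hmap] at h1
      have h3 : (Subgroup.zpowers a).map (MulAut.conj x).toMonoidHom = Subgroup.zpowers a := h
      rw [h3] at h1
      exact h1
    · rw [trace_conj_SL]
      exact trace_eq_zero_of_mul_self a ha
  · intro h
    change (Subgroup.zpowers a).map (MulAut.conj x).toMonoidHom = Subgroup.zpowers a
    rw [hmap]
    rcases h with h | h
    · rw [h]
    · rw [h, zSL_mul_eq_inv a ha, Subgroup.zpowers_inv]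

theorem mem_centralizer_singleton_iff' {G : Type*} [Group G] (a x : G) :
    x ∈ Subgroup.centralizer ({a} : Set G) ↔ x * a * x⁻¹ = a := by
  rw [Subgroup.mem_centralizer_iff]
  simp only [Set.mem_singleton_iff, forall_eq]
  rw [mul_inv_eq_iff_eq_mul]
  exact eq_comm

/-- `|N(⟨a⟩)| = 2 |C(a)|` for `a² = -1`. -/
theorem card_normalizer_zpowers (h2 : (2 : F) ≠ 0) (a : SpecialLinearGroup (Fin 2) F)
    (ha : a * a = zSL F) :
    Nat.card (Subgroup.normalizer ((Subgroup.zpowers a : Subgroup (SpecialLinearGroup (Fin 2) F)) :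
      Set (SpecialLinearGroup (Fin 2) F))) =
      2 * Nat.card (Subgroup.centralizer ({a} : Set (SpecialLinearGroup (Fin 2) F))) := by
  classical
  have hta := trace_eq_zero_of_mul_self a ha
  obtain ⟨h₀, hh₀⟩ := isConj_iff.mp ((isConj_zSL_mul_iff h2 a).mpr hta)
  set N := Subgroup.normalizer ((Subgroup.zpowers a : Subgroup (SpecialLinearGroup (Fin 2) F)) :
      Set (SpecialLinearGroup (Fin 2) F)) with hN
  set C := Subgroup.centralizer ({a} : Set (SpecialLinearGroup (Fin 2) F)) with hC
  have hset : (N : Set (SpecialLinearGroup (Fin 2) F)) =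
      (C : Set (SpecialLinearGroup (Fin 2) F)) ∪ (fun c => h₀ * c) '' (C : Set _) := by
    ext x
    rw [SetLike.mem_coe, hN, mem_normalizer_zpowers_iff h2 a x ha, Set.mem_union, SetLike.mem_coe,
      hC, mem_centralizer_singleton_iff']
    apply or_congr Iff.rfl
    constructor
    · intro hx
      refine ⟨h₀⁻¹ * x, ?_, by group⟩
      rw [SetLike.mem_coe, mem_centralizer_singleton_iff']
      calc h₀⁻¹ * x * a * (h₀⁻¹ * x)⁻¹ = h₀⁻¹ * (x * a * x⁻¹) * h₀ := by group
        _ = h₀⁻¹ * (h₀ * a * h₀⁻¹) * h₀ := by rw [hx, hh₀]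
        _ = a := by group
    · rintro ⟨c, hc, rfl⟩
      rw [SetLike.mem_coe, mem_centralizer_singleton_iff'] at hc
      calc h₀ * c * a * (h₀ * c)⁻¹ = h₀ * (c * a * c⁻¹) * h₀⁻¹ := by group
        _ = zSL F * a := by rw [hc, hh₀]
  have hdisj : Disjoint (C : Set (SpecialLinearGroup (Fin 2) F)) ((fun c => h₀ * c) '' (C : Set _)) := by
    rw [Set.disjoint_left]
    rintro x hx ⟨c, hc, rfl⟩
    rw [SetLike.mem_coe, hC, mem_centralizer_singleton_iff'] at hx hc
    have h1 : h₀ * c * a * (h₀ * c)⁻¹ = zSL F * a := by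
      calc h₀ * c * a * (h₀ * c)⁻¹ = h₀ * (c * a * c⁻¹) * h₀⁻¹ := by group
        _ = zSL F * a := by rw [hc, hh₀]
    rw [hx] at h1
    apply zSL_ne_one h2
    have := mul_right_cancel (h1.symm.trans (one_mul a).symm)
    exact this
  have h1 : Nat.card N = (N : Set (SpecialLinearGroup (Fin 2) F)).ncard := by
    rw [← Nat.card_coe_set_eq]; rfl
  have h3 : Nat.card C = (C : Set (SpecialLinearGroup (Fin 2) F)).ncard := by
    rw [← Nat.card_coe_set_eq]; rfl
  rw [h1, hset, Set.ncard_union_eq hdisj (Set.toFinite _) (Set.toFinite _),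
    Set.ncard_image_of_injective _ (mul_right_injective h₀), ← h3]
  ring

theorem card_centralizer_of_trace_zero (h2 : (2 : F) ≠ 0) (a : SpecialLinearGroup (Fin 2) F)
    (hta : (a : Matrix (Fin 2) (Fin 2) F).trace = 0) :
    (Fintype.card F % 4 = 1 →
      Nat.card (Subgroup.centralizer ({a} : Set (SpecialLinearGroup (Fin 2) F))) =
        Fintype.card F - 1) ∧
    (Fintype.card F % 4 = 3 →
      Nat.card (Subgroup.centralizer ({a} : Set (SpecialLinearGroup (Fin 2) F))) =
        Fintype.card F + 1) := by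
  have h4 : (4 : F) ≠ 0 := four_ne_zero_of_two h2
  have hne : (a : Matrix (Fin 2) (Fin 2) F).trace ^ 2 ≠ 4 := by
    rw [hta]
    intro h
    apply h4
    rw [← h]
    ring
  have hq : 2 ≤ Fintype.card F := Fintype.one_lt_card
  have hci := Subgroup.card_mul_index (Subgroup.centralizer ({a} : Set (SpecialLinearGroup (Fin 2) F)))
  rw [card_SL2] at hci
  set q := Fintype.card F with hqdef
  obtain ⟨r, hr⟩ : ∃ r, q = r + 2 := ⟨q - 2, by omega⟩
  constructor
  · intro hq4
    have hsq : IsSquare (-1 : F) := by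
      rw [FiniteField.isSquare_neg_one_iff]
      omega
    obtain ⟨i, hi⟩ := hsq
    have hidx := index_centralizer_split a hne i (by rw [hta]; linear_combination hi)
    rw [hidx, ← hqdef] at hci
    have h5 : q * (q ^ 2 - 1) = (q - 1) * (q * (q + 1)) := by
      rw [hr]
      have : (r + 2) ^ 2 - 1 = (r + 1) * (r + 3) := by
        rw [Nat.sub_eq_iff_eq_add (Nat.one_le_pow _ _ (by omega))]
        ring
      rw [this]
      have : r + 2 - 1 = r + 1 := by omega
      rw [this]
      ring
    rw [h5] at hci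
    exact Nat.eq_of_mul_eq_mul_right (by positivity) hci
  · intro hq4
    have hnsq : ¬ IsSquare (-1 : F) := by
      rw [FiniteField.isSquare_neg_one_iff]
      omega
    have hidx := index_centralizer_nonsplit a hne (by
      intro i hi
      apply hnsq
      refine ⟨i, ?_⟩
      rw [hta] at hi
      linear_combination hi)
    rw [hidx, ← hqdef] at hci
    have h5 : q * (q ^ 2 - 1) = (q + 1) * (q * (q - 1)) := by
      rw [hr]
      have : (r + 2) ^ 2 - 1 = (r + 1) * (r + 3) := by
        rw [Nat.sub_eq_iff_eq_add (Nat.one_le_pow _ _ (by omega))]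
        ring
      rw [this]
      have : r + 2 - 1 = r + 1 := by omega
      rw [this]
      ring
    rw [h5] at hci
    exact Nat.eq_of_mul_eq_mul_right (by
      apply Nat.mul_pos (by omega)
      omega) hci

/-- Elements of order 2 of `PSL₂(F)` lift to trace-zero elements. -/
theorem exists_lift_of_orderOf_two (h2 : (2 : F) ≠ 0) (x : ProjectiveSpecialLinearGroup (Fin 2) F)
    (hx : orderOf x = 2) :
    ∃ g : SpecialLinearGroup (Fin 2) F, (QuotientGroup.mk g : ProjectiveSpecialLinearGroup (Fin 2) F) = x ∧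
      (g : Matrix (Fin 2) (Fin 2) F).trace = 0 := by
  obtain ⟨g, rfl⟩ := QuotientGroup.mk_surjective x
  refine ⟨g, rfl, ?_⟩
  have h1 : (QuotientGroup.mk g : ProjectiveSpecialLinearGroup (Fin 2) F) ^ 2 = 1 := by
    have h0 := pow_orderOf_eq_one (QuotientGroup.mk g : ProjectiveSpecialLinearGroup (Fin 2) F)
    rw [hx] at h0
    exact h0
  have hne : (QuotientGroup.mk g : ProjectiveSpecialLinearGroup (Fin 2) F) ≠ 1 := by
    intro h
    rw [h, orderOf_one] at hx
    omega
  rw [← QuotientGroup.mk_pow, QuotientGroup.eq_one_iff, pow_two] at h1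
  have hgc : g ∉ Subgroup.center (SpecialLinearGroup (Fin 2) F) := by
    intro h
    apply hne
    rw [QuotientGroup.eq_one_iff]
    exact h
  rcases center_cases _ h1 with h | h
  · exfalso
    apply hgc
    rcases sq_eq_one_cases h2 g h with h' | h'
    · rw [h']; exact Subgroup.one_mem _
    · rw [h']; exact zSL_mem_center
  · exact trace_eq_zero_of_mul_self g h

theorem isConj_of_orderOf_two (h2 : (2 : F) ≠ 0) (x y : ProjectiveSpecialLinearGroup (Fin 2) F)
    (hx : orderOf x = 2) (hy : orderOf y = 2) : IsConj x y := by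
  obtain ⟨g, rfl, hg⟩ := exists_lift_of_orderOf_two h2 x hx
  obtain ⟨h, rfl, hh⟩ := exists_lift_of_orderOf_two h2 y hy
  have h4 : (4 : F) ≠ 0 := four_ne_zero_of_two h2
  have hc : IsConj g h := by
    apply isConj_of_trace_eq g h (by rw [hg, hh])
    rw [hg]
    intro h'
    apply h4
    rw [← h']
    ring
  exact (QuotientGroup.mk' (Subgroup.center (SpecialLinearGroup (Fin 2) F))).map_isConj hc

end finite

end Cfsg.Agent.Lib.Helper13
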