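/-
helper13: centralizers of regular semisimple elements of `SL₂(F)` (tori): coordinates,
the eigenvalue homomorphism, cyclicity.
-/
import Mathlib
import Cfsg.Agent.Lib.Helper13.SL2OrderFour
import Cfsg.Agent.Lib.Helper13.CAGroup

set_option autoImplicit false

namespace Cfsg.Agent.Lib.Helper13

open Matrix

section general

variable {F : Type*} [Field F]

theorem nonscalar_of_trace_sq (g : SpecialLinearGroup (Fin 2) F)
    (hg : (g : Matrix (Fin 2) (Fin 2) F).trace ^ 2 ≠ 4) :
    ¬ ((g : Matrix (Fin 2) (Fin 2) F) 0 1 = 0 ∧ (g : Matrix (Fin 2) (Fin 2) F) 1 0 = 0 ∧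
      (g : Matrix (Fin 2) (Fin 2) F) 0 0 = (g : Matrix (Fin 2) (Fin 2) F) 1 1) := by
  rintro ⟨h01, h10, h00⟩
  apply hg
  have hd := g.2
  rw [Matrix.det_fin_two, h01, h10, h00] at hd
  rw [Matrix.trace_fin_two, h00]
  linear_combination 4 * hd

theorem coords_unique (g : Matrix (Fin 2) (Fin 2) F)
    (hg : ¬ (g 0 1 = 0 ∧ g 1 0 = 0 ∧ g 0 0 = g 1 1)) (x y x' y' : F)
    (h : x • (1 : Matrix (Fin 2) (Fin 2) F) + y • g = x' • 1 + y' • g) : x = x' ∧ y = y' := by
  have h00 := congr_fun (congr_fun h 0) 0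
  have h01 := congr_fun (congr_fun h 0) 1
  have h10 := congr_fun (congr_fun h 1) 0
  have h11 := congr_fun (congr_fun h 1) 1
  simp only [Matrix.add_apply, Matrix.smul_apply, smul_eq_mul, Matrix.one_apply_eq,
    Matrix.one_apply_ne (show (0 : Fin 2) ≠ 1 by decide),
    Matrix.one_apply_ne (show (1 : Fin 2) ≠ 0 by decide), mul_zero, zero_add, mul_one]
    at h00 h01 h10 h11
  have hy : y = y' := by
    by_contra hne
    have hd : y - y' ≠ 0 := sub_ne_zero.mpr hne
    apply hg
    refine ⟨?_, ?_, ?_⟩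
    · have : (y - y') * g 0 1 = 0 := by linear_combination h01
      exact (mul_eq_zero.mp this).resolve_left hd
    · have : (y - y') * g 1 0 = 0 := by linear_combination h10
      exact (mul_eq_zero.mp this).resolve_left hd
    · have : (y - y') * (g 0 0 - g 1 1) = 0 := by linear_combination h00 - h11
      exact sub_eq_zero.mp ((mul_eq_zero.mp this).resolve_left hd)
  subst hy
  exact ⟨by linear_combination h00, rfl⟩

theorem det_coords (g : Matrix (Fin 2) (Fin 2) F) (x y : F) :
    (x • (1 : Matrix (Fin 2) (Fin 2) F) + y • g).det =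
      x ^ 2 + x * y * g.trace + y ^ 2 * g.det := by
  rw [Matrix.det_fin_two, Matrix.det_fin_two, Matrix.trace_fin_two]
  simp only [Matrix.add_apply, Matrix.smul_apply, smul_eq_mul, Matrix.one_apply_eq,
    Matrix.one_apply_ne (show (0 : Fin 2) ≠ 1 by decide),
    Matrix.one_apply_ne (show (1 : Fin 2) ≠ 0 by decide)]
  ring

theorem trace_coords (g : Matrix (Fin 2) (Fin 2) F) (x y : F) :
    (x • (1 : Matrix (Fin 2) (Fin 2) F) + y • g).trace = 2 * x + y * g.trace := by
  rw [Matrix.trace_fin_two, Matrix.trace_fin_two]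
  simp only [Matrix.add_apply, Matrix.smul_apply, smul_eq_mul, Matrix.one_apply_eq]
  ring

theorem mul_coords (g : Matrix (Fin 2) (Fin 2) F) (hdet : g.det = 1) (x y x' y' : F) :
    (x • (1 : Matrix (Fin 2) (Fin 2) F) + y • g) * (x' • 1 + y' • g) =
      (x * x' - y * y') • 1 + (x * y' + x' * y + y * y' * g.trace) • g := by
  have hch := cayley_hamilton_two g hdet
  rw [← Matrix.trace_fin_two] at hch
  simp only [add_mul, mul_add, smul_mul_assoc, mul_smul_comm, one_mul, mul_one, hch, smul_sub,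
    smul_smul]
  module

theorem mem_centralizer_singleton_comm {G : Type*} [Group G] (g h : G) :
    h ∈ Subgroup.centralizer ({g} : Set G) ↔ h * g = g * h := by
  rw [Subgroup.mem_centralizer_iff]
  simp only [Set.mem_singleton_iff, forall_eq]
  exact eq_comm

theorem exists_coords_of_mem_centralizer (g h : SpecialLinearGroup (Fin 2) F)
    (hg : (g : Matrix (Fin 2) (Fin 2) F).trace ^ 2 ≠ 4)
    (hh : h ∈ Subgroup.centralizer ({g} : Set (SpecialLinearGroup (Fin 2) F))) :
    ∃ x y : F, (h : Matrix (Fin 2) (Fin 2) F) =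
      x • (1 : Matrix (Fin 2) (Fin 2) F) + y • (g : Matrix (Fin 2) (Fin 2) F) := by
  rw [mem_centralizer_singleton_comm] at hh
  have hm : (h : Matrix (Fin 2) (Fin 2) F) * (g : Matrix (Fin 2) (Fin 2) F) =
      (g : Matrix (Fin 2) (Fin 2) F) * (h : Matrix (Fin 2) (Fin 2) F) :=
    congrArg (fun k : SpecialLinearGroup (Fin 2) F => (k : Matrix (Fin 2) (Fin 2) F)) hh
  exact exists_eq_smul_add_of_commute _ _ (nonscalar_of_trace_sq g hg) hm

theorem mem_centralizer_of_coords (g h : SpecialLinearGroup (Fin 2) F) (x y : F)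
    (hxy : (h : Matrix (Fin 2) (Fin 2) F) =
      x • (1 : Matrix (Fin 2) (Fin 2) F) + y • (g : Matrix (Fin 2) (Fin 2) F)) :
    h ∈ Subgroup.centralizer ({g} : Set (SpecialLinearGroup (Fin 2) F)) := by
  rw [mem_centralizer_singleton_comm]
  apply Subtype.ext
  change (h : Matrix (Fin 2) (Fin 2) F) * (g : Matrix (Fin 2) (Fin 2) F) =
      (g : Matrix (Fin 2) (Fin 2) F) * (h : Matrix (Fin 2) (Fin 2) F)
  rw [hxy]
  simp only [add_mul, mul_add, smul_mul_assoc, mul_smul_comm, one_mul, mul_one]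

/-- The eigenvalue function (on elements of `F[g]`). -/
noncomputable def eigFun (g : SpecialLinearGroup (Fin 2) F) (lam : AlgebraicClosure F)
    (h : SpecialLinearGroup (Fin 2) F) : AlgebraicClosure F :=
  open Classical in
  if hh : ∃ x y : F, (h : Matrix (Fin 2) (Fin 2) F) =
      x • (1 : Matrix (Fin 2) (Fin 2) F) + y • (g : Matrix (Fin 2) (Fin 2) F) then
    algebraMap F (AlgebraicClosure F) (Classical.choose hh) +
      algebraMap F (AlgebraicClosure F) (Classical.choose (Classical.choose_spec hh)) * lam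
  else 0

theorem eigFun_eq (g : SpecialLinearGroup (Fin 2) F)
    (hg : (g : Matrix (Fin 2) (Fin 2) F).trace ^ 2 ≠ 4) (lam : AlgebraicClosure F)
    (h : SpecialLinearGroup (Fin 2) F) (x y : F)
    (hxy : (h : Matrix (Fin 2) (Fin 2) F) =
      x • (1 : Matrix (Fin 2) (Fin 2) F) + y • (g : Matrix (Fin 2) (Fin 2) F)) :
    eigFun g lam h = algebraMap F (AlgebraicClosure F) x +
      algebraMap F (AlgebraicClosure F) y * lam := by
  have hh : ∃ x y : F, (h : Matrix (Fin 2) (Fin 2) F) =
      x • (1 : Matrix (Fin 2) (Fin 2) F) + y • (g : Matrix (Fin 2) (Fin 2) F) := ⟨x, y, hxy⟩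
  rw [eigFun, dif_pos hh]
  have hspec := Classical.choose_spec (Classical.choose_spec hh)
  obtain ⟨hx, hy⟩ := coords_unique _ (nonscalar_of_trace_sq g hg) _ _ _ _ (hspec.symm.trans hxy)
  rw [hy, hx]

theorem eigFun_one (g : SpecialLinearGroup (Fin 2) F)
    (hg : (g : Matrix (Fin 2) (Fin 2) F).trace ^ 2 ≠ 4) (lam : AlgebraicClosure F) :
    eigFun g lam 1 = 1 := by
  rw [eigFun_eq g hg lam 1 1 0 (by rw [one_smul, zero_smul, add_zero]; rfl)]
  simp

theorem eigFun_self (g : SpecialLinearGroup (Fin 2) F)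
    (hg : (g : Matrix (Fin 2) (Fin 2) F).trace ^ 2 ≠ 4) (lam : AlgebraicClosure F) :
    eigFun g lam g = lam := by
  rw [eigFun_eq g hg lam g 0 1 (by rw [one_smul, zero_smul, zero_add])]
  simp

theorem eigFun_mul (g : SpecialLinearGroup (Fin 2) F)
    (hg : (g : Matrix (Fin 2) (Fin 2) F).trace ^ 2 ≠ 4) (lam mu : AlgebraicClosure F)
    (h1 : lam * mu = 1)
    (h2 : lam + mu = algebraMap F (AlgebraicClosure F) (g : Matrix (Fin 2) (Fin 2) F).trace)
    (h h' : SpecialLinearGroup (Fin 2) F)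
    (hh : h ∈ Subgroup.centralizer ({g} : Set (SpecialLinearGroup (Fin 2) F)))
    (hh' : h' ∈ Subgroup.centralizer ({g} : Set (SpecialLinearGroup (Fin 2) F))) :
    eigFun g lam (h * h') = eigFun g lam h * eigFun g lam h' := by
  obtain ⟨x, y, hxy⟩ := exists_coords_of_mem_centralizer g h hg hh
  obtain ⟨x', y', hxy'⟩ := exists_coords_of_mem_centralizer g h' hg hh'
  have hprod : ((h * h' : SpecialLinearGroup (Fin 2) F) : Matrix (Fin 2) (Fin 2) F) =
      (x * x' - y * y') • (1 : Matrix (Fin 2) (Fin 2) F) +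
        (x * y' + x' * y + y * y' * (g : Matrix (Fin 2) (Fin 2) F).trace) •
          (g : Matrix (Fin 2) (Fin 2) F) := by
    change (h : Matrix (Fin 2) (Fin 2) F) * (h' : Matrix (Fin 2) (Fin 2) F) = _
    rw [hxy, hxy', mul_coords _ g.2]
  rw [eigFun_eq g hg lam _ _ _ hprod, eigFun_eq g hg lam _ _ _ hxy, eigFun_eq g hg lam _ _ _ hxy']
  simp only [map_sub, map_add, map_mul]
  rw [← h2]
  linear_combination (algebraMap F (AlgebraicClosure F) y * algebraMap F (AlgebraicClosure F) y') *
    h1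

/-- Sum and product of the two eigenvalues. -/
theorem eigFun_add_mul (g : SpecialLinearGroup (Fin 2) F)
    (hg : (g : Matrix (Fin 2) (Fin 2) F).trace ^ 2 ≠ 4) (lam mu : AlgebraicClosure F)
    (h1 : lam * mu = 1)
    (h2 : lam + mu = algebraMap F (AlgebraicClosure F) (g : Matrix (Fin 2) (Fin 2) F).trace)
    (h : SpecialLinearGroup (Fin 2) F)
    (hh : h ∈ Subgroup.centralizer ({g} : Set (SpecialLinearGroup (Fin 2) F))) :
    eigFun g lam h + eigFun g mu h =
        algebraMap F (AlgebraicClosure F) (h : Matrix (Fin 2) (Fin 2) F).trace ∧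
      eigFun g lam h * eigFun g mu h = 1 := by
  obtain ⟨x, y, hxy⟩ := exists_coords_of_mem_centralizer g h hg hh
  rw [eigFun_eq g hg lam _ _ _ hxy, eigFun_eq g hg mu _ _ _ hxy]
  constructor
  · rw [hxy, trace_coords]
    simp only [map_add, map_mul, map_ofNat]
    rw [← h2]
    ring
  · have hd := h.2
    rw [hxy, det_coords, g.2] at hd
    have hd' := congrArg (algebraMap F (AlgebraicClosure F)) hd
    simp only [map_add, map_mul, map_pow, map_one] at hd'
    rw [← h2] at hd'
    linear_combination hd' + (algebraMap F (AlgebraicClosure F) y ^ 2) * h1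

end general

section hom

variable {F : Type*} [Field F]

/-- The eigenvalue homomorphism on the centralizer of a regular semisimple element. -/
noncomputable def eigHom (g : SpecialLinearGroup (Fin 2) F)
    (hg : (g : Matrix (Fin 2) (Fin 2) F).trace ^ 2 ≠ 4) (lam mu : AlgebraicClosure F)
    (h1 : lam * mu = 1)
    (h2 : lam + mu = algebraMap F (AlgebraicClosure F) (g : Matrix (Fin 2) (Fin 2) F).trace) :
    ↥(Subgroup.centralizer ({g} : Set (SpecialLinearGroup (Fin 2) F))) →* AlgebraicClosure F where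
  toFun h := eigFun g lam (h : SpecialLinearGroup (Fin 2) F)
  map_one' := eigFun_one g hg lam
  map_mul' a b := eigFun_mul g hg lam mu h1 h2 a b a.2 b.2

theorem eigFun_eq_one (g : SpecialLinearGroup (Fin 2) F)
    (hg : (g : Matrix (Fin 2) (Fin 2) F).trace ^ 2 ≠ 4) (lam mu : AlgebraicClosure F)
    (h1 : lam * mu = 1)
    (h2 : lam + mu = algebraMap F (AlgebraicClosure F) (g : Matrix (Fin 2) (Fin 2) F).trace)
    (h : SpecialLinearGroup (Fin 2) F)
    (hh : h ∈ Subgroup.centralizer ({g} : Set (SpecialLinearGroup (Fin 2) F)))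
    (he : eigFun g lam h = 1) : h = 1 := by
  obtain ⟨-, hp⟩ := eigFun_add_mul g hg lam mu h1 h2 h hh
  rw [he, one_mul] at hp
  obtain ⟨x, y, hxy⟩ := exists_coords_of_mem_centralizer g h hg hh
  rw [eigFun_eq g hg lam _ _ _ hxy] at he
  rw [eigFun_eq g hg mu _ _ _ hxy] at hp
  have hne : lam ≠ mu := eigen_ne_of_trace _ hg lam mu h1 h2
  have hy0 : algebraMap F (AlgebraicClosure F) y = 0 := by
    have : algebraMap F (AlgebraicClosure F) y * (lam - mu) = 0 := by linear_combination he - hp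
    exact (mul_eq_zero.mp this).resolve_right (sub_ne_zero.mpr hne)
  have hy : y = 0 := by
    apply (algebraMap F (AlgebraicClosure F)).injective
    rw [hy0, map_zero]
  have hx : x = 1 := by
    apply (algebraMap F (AlgebraicClosure F)).injective
    rw [hy0, zero_mul, add_zero] at he
    rw [he, map_one]
  apply Subtype.ext
  change (h : Matrix (Fin 2) (Fin 2) F) = 1
  rw [hxy, hx, hy, one_smul, zero_smul, add_zero]

theorem eigHom_injective (g : SpecialLinearGroup (Fin 2) F)
    (hg : (g : Matrix (Fin 2) (Fin 2) F).trace ^ 2 ≠ 4) (lam mu : AlgebraicClosure F)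
    (h1 : lam * mu = 1)
    (h2 : lam + mu = algebraMap F (AlgebraicClosure F) (g : Matrix (Fin 2) (Fin 2) F).trace) :
    Function.Injective (eigHom g hg lam mu h1 h2) := by
  intro a b hab
  have ha := a.2
  have hb := b.2
  have hm : (a : SpecialLinearGroup (Fin 2) F) * (b : SpecialLinearGroup (Fin 2) F)⁻¹ ∈
      Subgroup.centralizer ({g} : Set (SpecialLinearGroup (Fin 2) F)) :=
    Subgroup.mul_mem _ ha (Subgroup.inv_mem _ hb)
  have hb0 : eigFun g lam (b : SpecialLinearGroup (Fin 2) F) ≠ 0 := by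
    intro h0
    have := (eigFun_add_mul g hg lam mu h1 h2 _ hb).2
    rw [h0, zero_mul] at this
    exact zero_ne_one this
  have h3 : eigFun g lam ((a : SpecialLinearGroup (Fin 2) F) *
      (b : SpecialLinearGroup (Fin 2) F)⁻¹) = 1 := by
    have h4 : eigFun g lam ((a : SpecialLinearGroup (Fin 2) F) *
        (b : SpecialLinearGroup (Fin 2) F)⁻¹) * eigFun g lam (b : SpecialLinearGroup (Fin 2) F) =
        eigFun g lam (a : SpecialLinearGroup (Fin 2) F) := by
      rw [← eigFun_mul g hg lam mu h1 h2 _ _ hm hb, inv_mul_cancel_right]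
    have hab' : eigFun g lam (a : SpecialLinearGroup (Fin 2) F) =
        eigFun g lam (b : SpecialLinearGroup (Fin 2) F) := hab
    rw [hab'] at h4
    exact mul_right_cancel₀ hb0 (h4.trans (one_mul _).symm)
  have h5 := eigFun_eq_one g hg lam mu h1 h2 _ hm h3
  apply Subtype.ext
  exact mul_inv_eq_one.mp h5

theorem isCyclic_centralizer [Finite F] (g : SpecialLinearGroup (Fin 2) F)
    (hg : (g : Matrix (Fin 2) (Fin 2) F).trace ^ 2 ≠ 4) :
    IsCyclic ↥(Subgroup.centralizer ({g} : Set (SpecialLinearGroup (Fin 2) F))) := by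
  obtain ⟨lam, mu, h1, h2⟩ := exists_eigen_pair (g : Matrix (Fin 2) (Fin 2) F).trace
  exact isCyclic_of_injective_ringHom (eigHom g hg lam mu h1 h2) (eigHom_injective g hg lam mu h1 h2)

theorem self_mem_centralizer {G : Type*} [Group G] (g : G) :
    g ∈ Subgroup.centralizer ({g} : Set G) := by
  rw [mem_centralizer_singleton_comm]

theorem trace_inv_SL (g : SpecialLinearGroup (Fin 2) F) :
    ((g⁻¹ : SpecialLinearGroup (Fin 2) F) : Matrix (Fin 2) (Fin 2) F).trace =
      (g : Matrix (Fin 2) (Fin 2) F).trace := by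
  have hinv : ((g⁻¹ : SpecialLinearGroup (Fin 2) F) : Matrix (Fin 2) (Fin 2) F) =
      Matrix.adjugate (g : Matrix (Fin 2) (Fin 2) F) := Matrix.SpecialLinearGroup.coe_inv g
  rw [hinv, Matrix.adjugate_fin_two, Matrix.trace_fin_two, Matrix.trace_fin_two]
  simp only [Matrix.of_apply, Matrix.cons_val', Matrix.cons_val_zero, Matrix.cons_val_one,
    Matrix.cons_val_fin_one]
  ring

/-- An element of the centralizer with the same trace as `g` is `g` or `g⁻¹`. -/
theorem eq_or_eq_inv_of_trace_eq (g : SpecialLinearGroup (Fin 2) F)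
    (hg : (g : Matrix (Fin 2) (Fin 2) F).trace ^ 2 ≠ 4) (h : SpecialLinearGroup (Fin 2) F)
    (hh : h ∈ Subgroup.centralizer ({g} : Set (SpecialLinearGroup (Fin 2) F)))
    (htr : (h : Matrix (Fin 2) (Fin 2) F).trace = (g : Matrix (Fin 2) (Fin 2) F).trace) :
    h = g ∨ h = g⁻¹ := by
  obtain ⟨lam, mu, h1, h2⟩ := exists_eigen_pair (g : Matrix (Fin 2) (Fin 2) F).trace
  obtain ⟨hs, hp⟩ := eigFun_add_mul g hg lam mu h1 h2 h hh
  rw [htr, ← h2] at hs
  have hgm := self_mem_centralizer g
  have hgi : g⁻¹ ∈ Subgroup.centralizer ({g} : Set (SpecialLinearGroup (Fin 2) F)) :=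
    Subgroup.inv_mem _ hgm
  have hinj := eigHom_injective g hg lam mu h1 h2
  have hlam0 : lam ≠ 0 := by
    intro h0
    rw [h0, zero_mul] at h1
    exact zero_ne_one h1
  have hginv : eigFun g lam g⁻¹ = mu := by
    have h4 : eigFun g lam g⁻¹ * eigFun g lam g = 1 := by
      rw [← eigFun_mul g hg lam mu h1 h2 _ _ hgi hgm, inv_mul_cancel, eigFun_one g hg]
    rw [eigFun_self g hg] at h4
    have h5 : mu * lam = 1 := by rw [mul_comm]; exact h1
    exact mul_right_cancel₀ hlam0 (h4.trans h5.symm)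
  have hfac : (eigFun g lam h - lam) * (eigFun g lam h - mu) = 0 := by
    linear_combination (eigFun g lam h) * hs - hp + h1
  rcases mul_eq_zero.mp hfac with h3 | h3
  · left
    have : eigHom g hg lam mu h1 h2 ⟨h, hh⟩ = eigHom g hg lam mu h1 h2 ⟨g, hgm⟩ := by
      change eigFun g lam h = eigFun g lam g
      rw [eigFun_self g hg, sub_eq_zero.mp h3]
    exact congrArg Subtype.val (hinj this)
  · right
    have : eigHom g hg lam mu h1 h2 ⟨h, hh⟩ = eigHom g hg lam mu h1 h2 ⟨g⁻¹, hgi⟩ := by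
      change eigFun g lam h = eigFun g lam g⁻¹
      rw [hginv, sub_eq_zero.mp h3]
    exact congrArg Subtype.val (hinj this)

end hom

section groupgen

variable {G : Type*} [Group G]

theorem conj_mem_centralizer_iff (g h k : G) :
    h * k * h⁻¹ ∈ Subgroup.centralizer ({h * g * h⁻¹} : Set G) ↔
      k ∈ Subgroup.centralizer ({g} : Set G) := by
  rw [mem_centralizer_singleton_comm, mem_centralizer_singleton_comm]
  constructor
  · intro e
    have : k * g = h⁻¹ * ((h * k * h⁻¹) * (h * g * h⁻¹)) * h := by group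
    rw [this, e]
    group
  · intro e
    have : (h * k * h⁻¹) * (h * g * h⁻¹) = h * (k * g) * h⁻¹ := by group
    rw [this, e]
    group

theorem centralizer_singleton_inv (g : G) :
    Subgroup.centralizer ({g⁻¹} : Set G) = Subgroup.centralizer ({g} : Set G) := by
  ext k
  rw [mem_centralizer_singleton_comm, mem_centralizer_singleton_comm]
  exact (Commute.inv_right_iff (a := k) (b := g))

theorem centralizer_zpowers_eq (g : G) :
    Subgroup.centralizer ((Subgroup.zpowers g : Subgroup G) : Set G) =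
      Subgroup.centralizer ({g} : Set G) := by
  ext k
  rw [mem_centralizer_singleton_comm, Subgroup.mem_centralizer_iff]
  constructor
  · intro h
    exact (h g (Subgroup.mem_zpowers g)).symm
  · intro h x hx
    obtain ⟨n, rfl⟩ := Subgroup.mem_zpowers_iff.mp hx
    have hc : Commute k g := h
    exact (hc.zpow_right n).symm

theorem zpowers_le_centralizer (g : G) :
    Subgroup.zpowers g ≤ Subgroup.centralizer ({g} : Set G) := by
  rw [Subgroup.zpowers_le]
  exact self_mem_centralizer g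

/-- If `N` consists of the elements conjugating `g` to `g` or `g⁻¹ ≠ g`, and some element
inverts `g`, then `|N| = 2 |C(g)|`. -/
theorem card_eq_two_mul_card_centralizer [Finite G] (N : Subgroup G) (g : G) (hne : g ≠ g⁻¹)
    (hN : ∀ h, h ∈ N ↔ h * g * h⁻¹ = g ∨ h * g * h⁻¹ = g⁻¹) (h₀ : G)
    (hh₀ : h₀ * g * h₀⁻¹ = g⁻¹) :
    Nat.card N = 2 * Nat.card (Subgroup.centralizer ({g} : Set G)) := by
  classical
  set C := Subgroup.centralizer ({g} : Set G) with hC
  have hset : (N : Set G) = (C : Set G) ∪ (fun c => h₀ * c) '' (C : Set G) := by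
    ext x
    rw [SetLike.mem_coe, hN, Set.mem_union, SetLike.mem_coe, hC, mem_centralizer_singleton_iff']
    apply or_congr Iff.rfl
    constructor
    · intro hx
      refine ⟨h₀⁻¹ * x, ?_, by group⟩
      rw [SetLike.mem_coe, mem_centralizer_singleton_iff']
      have hinv : h₀⁻¹ * g⁻¹ * h₀ = g := by
        rw [← hh₀]; group
      calc h₀⁻¹ * x * g * (h₀⁻¹ * x)⁻¹ = h₀⁻¹ * (x * g * x⁻¹) * h₀ := by group
        _ = h₀⁻¹ * g⁻¹ * h₀ := by rw [hx]
        _ = g := hinv
    · rintro ⟨c, hc, rfl⟩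
      rw [SetLike.mem_coe, mem_centralizer_singleton_iff'] at hc
      calc h₀ * c * g * (h₀ * c)⁻¹ = h₀ * (c * g * c⁻¹) * h₀⁻¹ := by group
        _ = g⁻¹ := by rw [hc, hh₀]
  have hdisj : Disjoint (C : Set G) ((fun c => h₀ * c) '' (C : Set G)) := by
    rw [Set.disjoint_left]
    rintro x hx ⟨c, hc, rfl⟩
    rw [SetLike.mem_coe, hC, mem_centralizer_singleton_iff'] at hx hc
    have h1 : h₀ * c * g * (h₀ * c)⁻¹ = g⁻¹ := by
      calc h₀ * c * g * (h₀ * c)⁻¹ = h₀ * (c * g * c⁻¹) * h₀⁻¹ := by group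
        _ = g⁻¹ := by rw [hc, hh₀]
    rw [hx] at h1
    exact hne h1
  have h1 : Nat.card N = (N : Set G).ncard := by
    rw [← Nat.card_coe_set_eq]; rfl
  have h3 : Nat.card C = (C : Set G).ncard := by
    rw [← Nat.card_coe_set_eq]; rfl
  rw [h1, hset, Set.ncard_union_eq hdisj (Set.toFinite _) (Set.toFinite _),
    Set.ncard_image_of_injective _ (mul_right_injective h₀), ← h3]
  ring

end groupgen

section finite

variable {F : Type*} [Field F] [Fintype F]

theorem card_centralizer_split (g : SpecialLinearGroup (Fin 2) F)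
    (hg : (g : Matrix (Fin 2) (Fin 2) F).trace ^ 2 ≠ 4) (a : F)
    (ha : a * ((g : Matrix (Fin 2) (Fin 2) F).trace - a) = 1) :
    Nat.card (Subgroup.centralizer ({g} : Set (SpecialLinearGroup (Fin 2) F))) =
      Fintype.card F - 1 := by
  have hq : 2 ≤ Fintype.card F := Fintype.one_lt_card
  have hci := Subgroup.card_mul_index
    (Subgroup.centralizer ({g} : Set (SpecialLinearGroup (Fin 2) F)))
  rw [card_SL2, index_centralizer_split g hg a ha] at hci
  set q := Fintype.card F with hqdef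
  obtain ⟨r, hr⟩ : ∃ r, q = r + 2 := ⟨q - 2, by omega⟩
  have h5 : q * (q ^ 2 - 1) = (q - 1) * (q * (q + 1)) := by
    rw [hr]
    have : (r + 2) ^ 2 - 1 = (r + 1) * (r + 3) := by
      rw [Nat.sub_eq_iff_eq_add (Nat.one_le_pow _ _ (by omega))]
      ring
    rw [this]
    have : r + 2 - 1 = r + 1 := by omega
    rw [this]
    ring
  rw [h5] at hci
  exact Nat.eq_of_mul_eq_mul_right (by positivity) hci

theorem card_centralizer_nonsplit (g : SpecialLinearGroup (Fin 2) F)
    (hg : (g : Matrix (Fin 2) (Fin 2) F).trace ^ 2 ≠ 4)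
    (hns : ∀ a : F, a * ((g : Matrix (Fin 2) (Fin 2) F).trace - a) ≠ 1) :
    Nat.card (Subgroup.centralizer ({g} : Set (SpecialLinearGroup (Fin 2) F))) =
      Fintype.card F + 1 := by
  have hq : 2 ≤ Fintype.card F := Fintype.one_lt_card
  have hci := Subgroup.card_mul_index
    (Subgroup.centralizer ({g} : Set (SpecialLinearGroup (Fin 2) F)))
  rw [card_SL2, index_centralizer_nonsplit g hg hns] at hci
  set q := Fintype.card F with hqdef
  obtain ⟨r, hr⟩ : ∃ r, q = r + 2 := ⟨q - 2, by omega⟩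
  have h5 : q * (q ^ 2 - 1) = (q + 1) * (q * (q - 1)) := by
    rw [hr]
    have : (r + 2) ^ 2 - 1 = (r + 1) * (r + 3) := by
      rw [Nat.sub_eq_iff_eq_add (Nat.one_le_pow _ _ (by omega))]
      ring
    rw [this]
    have : r + 2 - 1 = r + 1 := by omega
    rw [this]
    ring
  rw [h5] at hci
  exact Nat.eq_of_mul_eq_mul_right (by
    apply Nat.mul_pos (by omega)
    omega) hci

theorem card_centralizer_cases (g : SpecialLinearGroup (Fin 2) F)
    (hg : (g : Matrix (Fin 2) (Fin 2) F).trace ^ 2 ≠ 4) :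
    Nat.card (Subgroup.centralizer ({g} : Set (SpecialLinearGroup (Fin 2) F))) =
        Fintype.card F - 1 ∨
      Nat.card (Subgroup.centralizer ({g} : Set (SpecialLinearGroup (Fin 2) F))) =
        Fintype.card F + 1 := by
  by_cases h : ∃ a : F, a * ((g : Matrix (Fin 2) (Fin 2) F).trace - a) = 1
  · obtain ⟨a, ha⟩ := h
    exact Or.inl (card_centralizer_split g hg a ha)
  · push Not at h
    exact Or.inr (card_centralizer_nonsplit g hg h)

omit [Fintype F] in
theorem scalar_cases (h : SpecialLinearGroup (Fin 2) F)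
    (hs : (h : Matrix (Fin 2) (Fin 2) F) 0 1 = 0 ∧ (h : Matrix (Fin 2) (Fin 2) F) 1 0 = 0 ∧
      (h : Matrix (Fin 2) (Fin 2) F) 0 0 = (h : Matrix (Fin 2) (Fin 2) F) 1 1) :
    (h : Matrix (Fin 2) (Fin 2) F) = 1 ∨ (h : Matrix (Fin 2) (Fin 2) F) = -1 := by
  obtain ⟨h01, h10, h00⟩ := hs
  have hd := h.2
  rw [Matrix.det_fin_two, h01, h10, h00] at hd
  have h3 : ((h : Matrix (Fin 2) (Fin 2) F) 1 1 - 1) * ((h : Matrix (Fin 2) (Fin 2) F) 1 1 + 1) = 0 := by
    linear_combination hd
  rcases mul_eq_zero.mp h3 with h4 | h4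
  · left
    ext i j
    fin_cases i <;> fin_cases j
    · simp [h00, sub_eq_zero.mp h4]
    · simp [h01]
    · simp [h10]
    · simp [sub_eq_zero.mp h4]
  · right
    ext i j
    fin_cases i <;> fin_cases j
    · simp [h00, eq_neg_of_add_eq_zero_left h4]
    · simp [h01]
    · simp [h10]
    · simp [eq_neg_of_add_eq_zero_left h4]

omit [Fintype F] in
/-- The centralizer of a non-scalar element of a torus is the torus. -/
theorem centralizer_eq_of_mem (g : SpecialLinearGroup (Fin 2) F)
    (hg : (g : Matrix (Fin 2) (Fin 2) F).trace ^ 2 ≠ 4) (h : SpecialLinearGroup (Fin 2) F)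
    (hh : h ∈ Subgroup.centralizer ({g} : Set (SpecialLinearGroup (Fin 2) F)))
    (hns : ¬ ((h : Matrix (Fin 2) (Fin 2) F) 0 1 = 0 ∧ (h : Matrix (Fin 2) (Fin 2) F) 1 0 = 0 ∧
      (h : Matrix (Fin 2) (Fin 2) F) 0 0 = (h : Matrix (Fin 2) (Fin 2) F) 1 1)) :
    Subgroup.centralizer ({h} : Set (SpecialLinearGroup (Fin 2) F)) =
      Subgroup.centralizer ({g} : Set (SpecialLinearGroup (Fin 2) F)) := by
  have hgns := nonscalar_of_trace_sq g hg
  rw [mem_centralizer_singleton_comm] at hh
  have hhm : (h : Matrix (Fin 2) (Fin 2) F) * (g : Matrix (Fin 2) (Fin 2) F) =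
      (g : Matrix (Fin 2) (Fin 2) F) * (h : Matrix (Fin 2) (Fin 2) F) :=
    congrArg (fun k : SpecialLinearGroup (Fin 2) F => (k : Matrix (Fin 2) (Fin 2) F)) hh
  ext k
  rw [mem_centralizer_singleton_comm, mem_centralizer_singleton_comm]
  constructor
  · intro hk
    have hkm : (k : Matrix (Fin 2) (Fin 2) F) * (h : Matrix (Fin 2) (Fin 2) F) =
        (h : Matrix (Fin 2) (Fin 2) F) * (k : Matrix (Fin 2) (Fin 2) F) :=
      congrArg (fun k : SpecialLinearGroup (Fin 2) F => (k : Matrix (Fin 2) (Fin 2) F)) hk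
    apply Subtype.ext
    exact commute_of_commute_nonscalar _ _ _ hns hkm hhm.symm
  · intro hk
    have hkm : (k : Matrix (Fin 2) (Fin 2) F) * (g : Matrix (Fin 2) (Fin 2) F) =
        (g : Matrix (Fin 2) (Fin 2) F) * (k : Matrix (Fin 2) (Fin 2) F) :=
      congrArg (fun k : SpecialLinearGroup (Fin 2) F => (k : Matrix (Fin 2) (Fin 2) F)) hk
    apply Subtype.ext
    exact commute_of_commute_nonscalar _ _ _ hgns hkm hhm

omit [Fintype F] in
/-- A torus is self-centralizing. -/
theorem centralizer_centralizer_eq (g : SpecialLinearGroup (Fin 2) F)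
    (hg : (g : Matrix (Fin 2) (Fin 2) F).trace ^ 2 ≠ 4) :
    Subgroup.centralizer ((Subgroup.centralizer ({g} : Set (SpecialLinearGroup (Fin 2) F)) :
      Subgroup (SpecialLinearGroup (Fin 2) F)) : Set (SpecialLinearGroup (Fin 2) F)) =
      Subgroup.centralizer ({g} : Set (SpecialLinearGroup (Fin 2) F)) := by
  have hgns := nonscalar_of_trace_sq g hg
  apply le_antisymm
  · apply Subgroup.centralizer_le
    intro x hx
    rw [Set.mem_singleton_iff] at hx
    rw [hx]
    exact self_mem_centralizer g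
  · intro k hk
    rw [Subgroup.mem_centralizer_iff]
    intro x hx
    rw [SetLike.mem_coe, mem_centralizer_singleton_comm] at hx
    rw [mem_centralizer_singleton_comm] at hk
    have hkm : (k : Matrix (Fin 2) (Fin 2) F) * (g : Matrix (Fin 2) (Fin 2) F) =
        (g : Matrix (Fin 2) (Fin 2) F) * (k : Matrix (Fin 2) (Fin 2) F) :=
      congrArg (fun k : SpecialLinearGroup (Fin 2) F => (k : Matrix (Fin 2) (Fin 2) F)) hk
    have hxm : (x : Matrix (Fin 2) (Fin 2) F) * (g : Matrix (Fin 2) (Fin 2) F) =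
        (g : Matrix (Fin 2) (Fin 2) F) * (x : Matrix (Fin 2) (Fin 2) F) :=
      congrArg (fun k : SpecialLinearGroup (Fin 2) F => (k : Matrix (Fin 2) (Fin 2) F)) hx
    apply Subtype.ext
    exact commute_of_commute_nonscalar _ _ _ hgns hxm hkm

theorem conj_eq_cases (g : SpecialLinearGroup (Fin 2) F)
    (hg : (g : Matrix (Fin 2) (Fin 2) F).trace ^ 2 ≠ 4) (h : SpecialLinearGroup (Fin 2) F)
    (hc : h * g * h⁻¹ ∈ Subgroup.centralizer ({g} : Set (SpecialLinearGroup (Fin 2) F))) :
    h * g * h⁻¹ = g ∨ h * g * h⁻¹ = g⁻¹ :=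
  eq_or_eq_inv_of_trace_eq g hg _ hc (trace_conj_SL h g)

theorem mem_normalizer_zpowers_iff' (g : SpecialLinearGroup (Fin 2) F)
    (hg : (g : Matrix (Fin 2) (Fin 2) F).trace ^ 2 ≠ 4) (h : SpecialLinearGroup (Fin 2) F) :
    h ∈ Subgroup.normalizer ((Subgroup.zpowers g : Subgroup (SpecialLinearGroup (Fin 2) F)) :
      Set (SpecialLinearGroup (Fin 2) F)) ↔ h * g * h⁻¹ = g ∨ h * g * h⁻¹ = g⁻¹ := by
  rw [Subgroup.mem_normalizer_iff_map_conj_eq]
  have hmap := map_conj_zpowers h g
  constructor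
  · intro hn
    apply conj_eq_cases g hg
    apply zpowers_le_centralizer g
    have h1 : h * g * h⁻¹ ∈ Subgroup.zpowers (h * g * h⁻¹) := Subgroup.mem_zpowers _
    rw [← hmap] at h1
    have h3 : (Subgroup.zpowers g).map (MulAut.conj h).toMonoidHom = Subgroup.zpowers g := hn
    rw [h3] at h1
    exact h1
  · intro hn
    change (Subgroup.zpowers g).map (MulAut.conj h).toMonoidHom = Subgroup.zpowers g
    rw [hmap]
    rcases hn with hn | hn
    · rw [hn]
    · rw [hn, Subgroup.zpowers_inv]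

theorem mem_normalizer_centralizer_iff (g : SpecialLinearGroup (Fin 2) F)
    (hg : (g : Matrix (Fin 2) (Fin 2) F).trace ^ 2 ≠ 4) (h : SpecialLinearGroup (Fin 2) F) :
    h ∈ Subgroup.normalizer ((Subgroup.centralizer ({g} : Set (SpecialLinearGroup (Fin 2) F)) :
      Subgroup (SpecialLinearGroup (Fin 2) F)) : Set (SpecialLinearGroup (Fin 2) F)) ↔
      h * g * h⁻¹ = g ∨ h * g * h⁻¹ = g⁻¹ := by
  rw [Subgroup.mem_normalizer_iff]
  constructor
  · intro hn
    apply conj_eq_cases g hg
    exact (hn g).mp (self_mem_centralizer g)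
  · intro hn k
    have hkey : Subgroup.centralizer ({h * g * h⁻¹} : Set (SpecialLinearGroup (Fin 2) F)) =
        Subgroup.centralizer ({g} : Set (SpecialLinearGroup (Fin 2) F)) := by
      rcases hn with hn | hn
      · rw [hn]
      · rw [hn, centralizer_singleton_inv]
    rw [← conj_mem_centralizer_iff g h k, hkey]

theorem exists_inverting (g : SpecialLinearGroup (Fin 2) F)
    (hg : (g : Matrix (Fin 2) (Fin 2) F).trace ^ 2 ≠ 4) :
    ∃ h₀ : SpecialLinearGroup (Fin 2) F, h₀ * g * h₀⁻¹ = g⁻¹ :=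
  isConj_iff.mp (isConj_of_trace_eq g g⁻¹ (trace_inv_SL g).symm hg)

theorem card_normalizer_zpowers' (g : SpecialLinearGroup (Fin 2) F)
    (hg : (g : Matrix (Fin 2) (Fin 2) F).trace ^ 2 ≠ 4) (hne : g ≠ g⁻¹) :
    Nat.card (Subgroup.normalizer ((Subgroup.zpowers g : Subgroup (SpecialLinearGroup (Fin 2) F)) :
      Set (SpecialLinearGroup (Fin 2) F))) =
      2 * Nat.card (Subgroup.centralizer ({g} : Set (SpecialLinearGroup (Fin 2) F))) := by
  obtain ⟨h₀, hh₀⟩ := exists_inverting g hg
  exact card_eq_two_mul_card_centralizer _ g hne (mem_normalizer_zpowers_iff' g hg) h₀ hh₀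

theorem card_normalizer_centralizer (g : SpecialLinearGroup (Fin 2) F)
    (hg : (g : Matrix (Fin 2) (Fin 2) F).trace ^ 2 ≠ 4) (hne : g ≠ g⁻¹) :
    Nat.card (Subgroup.normalizer ((Subgroup.centralizer ({g} : Set (SpecialLinearGroup (Fin 2) F)) :
      Subgroup (SpecialLinearGroup (Fin 2) F)) : Set (SpecialLinearGroup (Fin 2) F))) =
      2 * Nat.card (Subgroup.centralizer ({g} : Set (SpecialLinearGroup (Fin 2) F))) := by
  obtain ⟨h₀, hh₀⟩ := exists_inverting g hg
  exact card_eq_two_mul_card_centralizer _ g hne (mem_normalizer_centralizer_iff g hg) h₀ hh₀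

end finite

end Cfsg.Agent.Lib.Helper13
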