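/-
helper13: Sylow `ℓ`-subgroups of `SL₂(F)`, `ℓ` odd dividing `q ∓ 1`: generator data.
-/
import Mathlib
import Cfsg.Agent.Lib.Helper13.SL2Torus
import Cfsg.Agent.Lib.Helper13.SL2Cyclic

set_option autoImplicit false

namespace Cfsg.Agent.Lib.Helper13

open Matrix

variable {F : Type*} [Field F] [Fintype F]

/-- Elements of trace `± 2` have order dividing `2p`. -/
theorem pow_char_mul_two_of_trace_sq (p : ℕ) [Fact p.Prime] [CharP F p]
    (g : SpecialLinearGroup (Fin 2) F)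
    (h4 : (g : Matrix (Fin 2) (Fin 2) F).trace ^ 2 = 4) : g ^ (p * 2) = 1 := by
  rw [Matrix.trace_fin_two] at h4
  obtain ⟨e, he, hte⟩ := (trace_sq_eq_four_iff _).mp h4
  have hpow := pow_char_of_trace p (g : Matrix (Fin 2) (Fin 2) F) g.2 e he hte
  apply Subtype.ext
  change (g : Matrix (Fin 2) (Fin 2) F) ^ (p * 2) = 1
  rw [pow_mul, hpow, _root_.smul_pow, one_pow, ← pow_mul, mul_comm p 2, pow_mul, he, one_pow,
    one_smul]

/-- Generator data for a Sylow `ℓ`-subgroup, `ℓ` odd, `ℓ ∣ q - 1` or `ℓ ∣ q + 1`. -/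
theorem exists_gen_sylow_odd (ℓ : ℕ) [Fact ℓ.Prime] (hℓ : ℓ ≠ 2)
    (hdvd : ℓ ∣ Fintype.card F - 1 ∨ ℓ ∣ Fintype.card F + 1)
    (P : Sylow ℓ (SpecialLinearGroup (Fin 2) F)) :
    ∃ g : SpecialLinearGroup (Fin 2) F,
      (P : Subgroup (SpecialLinearGroup (Fin 2) F)) = Subgroup.zpowers g ∧
      (g : Matrix (Fin 2) (Fin 2) F).trace ^ 2 ≠ 4 ∧ g ≠ g⁻¹ ∧ ℓ ∣ orderOf g := by
  classical
  obtain ⟨p, hp⟩ := CharP.exists F
  have := hp
  have : Fact p.Prime := ⟨CharP.char_is_prime F p⟩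
  have hℓp : ℓ.Prime := Fact.out
  have hpp : p.Prime := Fact.out
  have hq : 2 ≤ Fintype.card F := Fintype.one_lt_card
  obtain ⟨n, -, hn⟩ := FiniteField.card F p
  have hpq : p ∣ Fintype.card F := by
    rw [hn]
    exact dvd_pow_self p n.ne_zero
  have hℓnp : ℓ ≠ p := by
    intro h
    rw [← h] at hpq
    have h1 : ℓ ∣ 1 := by
      rcases hdvd with h' | h'
      · have := (Nat.dvd_sub hpq h')
        rwa [show Fintype.card F - (Fintype.card F - 1) = 1 by omega] at this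
      · have := (Nat.dvd_sub h' hpq)
        rwa [show Fintype.card F + 1 - Fintype.card F = 1 by omega] at this
    exact hℓp.one_lt.ne' (Nat.dvd_one.mp h1)
  have hcyc := isCyclic_sylow_SL2 p ℓ hℓ hℓnp P
  -- `ℓ` divides the order of the group
  have hcard : ℓ ∣ Nat.card (SpecialLinearGroup (Fin 2) F) := by
    rw [card_SL2]
    apply Dvd.dvd.mul_left
    have h5 : Fintype.card F ^ 2 - 1 = (Fintype.card F - 1) * (Fintype.card F + 1) := by
      obtain ⟨r, hr⟩ : ∃ r, Fintype.card F = r + 2 := ⟨Fintype.card F - 2, by omega⟩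
      rw [hr]
      have : (r + 2) ^ 2 - 1 = (r + 1) * (r + 3) := by
        rw [Nat.sub_eq_iff_eq_add (Nat.one_le_pow _ _ (by omega))]
        ring
      rw [this]
      rfl
    rw [h5]
    rcases hdvd with h' | h'
    · exact Dvd.dvd.mul_right h' _
    · exact Dvd.dvd.mul_left h' _
  have hPne : (P : Subgroup (SpecialLinearGroup (Fin 2) F)) ≠ ⊥ := P.ne_bot_of_dvd_card hcard
  obtain ⟨g₀, hg₀⟩ := hcyc.exists_generator
  set g : SpecialLinearGroup (Fin 2) F := (g₀ : SpecialLinearGroup (Fin 2) F) with hgdef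
  have hP : (P : Subgroup (SpecialLinearGroup (Fin 2) F)) = Subgroup.zpowers g := by
    apply le_antisymm
    · intro x hx
      obtain ⟨k, hk⟩ := Subgroup.mem_zpowers_iff.mp (hg₀ ⟨x, hx⟩)
      rw [Subgroup.mem_zpowers_iff]
      refine ⟨k, ?_⟩
      have := congrArg Subtype.val hk
      simpa using this
    · rw [Subgroup.zpowers_le]
      exact g₀.2
  have hord : orderOf g = Nat.card (P : Subgroup (SpecialLinearGroup (Fin 2) F)) := by
    rw [hP, Nat.card_zpowers]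
  obtain ⟨k, hk⟩ := (P.2 : IsPGroup ℓ (P : Subgroup (SpecialLinearGroup (Fin 2) F))).exists_card_eq
  have hk0 : k ≠ 0 := by
    intro h0
    rw [h0, pow_zero] at hk
    exact hPne ((Subgroup.card_eq_one).mp hk)
  have hℓg : ℓ ∣ orderOf g := by
    rw [hord, hk]
    exact dvd_pow_self ℓ hk0
  have hℓodd : ¬ ℓ ∣ 2 := by
    intro h
    exact hℓ ((Nat.prime_dvd_prime_iff_eq hℓp Nat.prime_two).mp h)
  refine ⟨g, hP, ?_, ?_, hℓg⟩
  · intro h4
    have h2p := pow_char_mul_two_of_trace_sq p g h4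
    have hd : ℓ ∣ p * 2 := hℓg.trans (orderOf_dvd_of_pow_eq_one h2p)
    rcases (Nat.Prime.dvd_mul hℓp).mp hd with h' | h'
    · exact hℓnp ((Nat.prime_dvd_prime_iff_eq hℓp hpp).mp h')
    · exact hℓodd h'
  · intro hinv
    have h2 : g ^ 2 = 1 := by
      rw [pow_two]
      nth_rewrite 2 [hinv]
      exact mul_inv_cancel g
    exact hℓodd (hℓg.trans (orderOf_dvd_of_pow_eq_one h2))

end Cfsg.Agent.Lib.Helper13
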