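/-
helper13: general facts on normalizers: orbit–stabilizer for the conjugation action on subgroups,
the normalizer of a subgroup of order four in a group of order divisible by eight, and the
normalizer of a self-centralizing subgroup of order four.
-/
import Mathlib

set_option autoImplicit false

namespace Cfsg.Agent.Lib.Helper13

section general

variable {G : Type*} [Group G]

theorem card_eq_mul_of_fibers'' {A B : Type*} [Finite A] [Finite B] (φ : A → B) (n : ℕ)
    (h : ∀ b, Nat.card {a // φ a = b} = n) : Nat.card A = n * Nat.card B := by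
  classical
  have : Fintype B := Fintype.ofFinite B
  rw [← Nat.card_congr (Equiv.sigmaFiberEquiv φ), Nat.card_sigma,
    Finset.sum_congr rfl (fun b _ => h b), Finset.sum_const, Finset.card_univ, smul_eq_mul,
    Nat.card_eq_fintype_card, mul_comm]

theorem map_conj_mul (H : Subgroup G) (a b : G) :
    H.map (MulAut.conj (a * b)).toMonoidHom =
      (H.map (MulAut.conj b).toMonoidHom).map (MulAut.conj a).toMonoidHom := by
  rw [Subgroup.map_map]
  congr 1
  ext x
  simp [MulAut.conj_apply, mul_assoc]

theorem map_conj_one (H : Subgroup G) : H.map (MulAut.conj (1 : G)).toMonoidHom = H := by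
  ext x
  simp

theorem map_conj_eq_iff (H : Subgroup G) (g g₀ : G) :
    H.map (MulAut.conj g).toMonoidHom = H.map (MulAut.conj g₀).toMonoidHom ↔
      g₀⁻¹ * g ∈ Subgroup.normalizer (H : Set G) := by
  rw [Subgroup.mem_normalizer_iff_map_conj_eq]
  have key : H.map (MulAut.conj (g₀⁻¹ * g)).toMonoidHom =
      (H.map (MulAut.conj g).toMonoidHom).map (MulAut.conj g₀⁻¹).toMonoidHom := map_conj_mul H g₀⁻¹ g
  constructor
  · intro h
    change H.map (MulAut.conj (g₀⁻¹ * g)).toMonoidHom = H
    rw [key, h, ← map_conj_mul, inv_mul_cancel, map_conj_one]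
  · intro h
    change H.map (MulAut.conj (g₀⁻¹ * g)).toMonoidHom = H at h
    have h2 : (H.map (MulAut.conj (g₀⁻¹ * g)).toMonoidHom).map (MulAut.conj g₀).toMonoidHom =
        H.map (MulAut.conj g₀).toMonoidHom := by rw [h]
    rw [← map_conj_mul, mul_inv_cancel_left] at h2
    exact h2

/-- Orbit–stabilizer for the conjugation action on subgroups. -/
theorem card_conjugates_mul_card_normalizer [Finite G] (H : Subgroup G) :
    Nat.card {K : Subgroup G // ∃ g : G, K = H.map (MulAut.conj g).toMonoidHom} *
      Nat.card (Subgroup.normalizer (H : Set G)) = Nat.card G := by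
  classical
  let φ : G → {K : Subgroup G // ∃ g : G, K = H.map (MulAut.conj g).toMonoidHom} :=
    fun g => ⟨H.map (MulAut.conj g).toMonoidHom, g, rfl⟩
  have hfib : ∀ b, Nat.card {a // φ a = b} = Nat.card (Subgroup.normalizer (H : Set G)) := by
    rintro ⟨K, g₀, rfl⟩
    apply Nat.card_congr
    refine ⟨fun a => ⟨g₀⁻¹ * a.1, ?_⟩, fun n => ⟨g₀ * n.1, ?_⟩, ?_, ?_⟩
    · rw [← map_conj_eq_iff]
      exact congrArg Subtype.val a.2
    · apply Subtype.ext
      change H.map (MulAut.conj (g₀ * n.1)).toMonoidHom = H.map (MulAut.conj g₀).toMonoidHom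
      rw [map_conj_eq_iff, inv_mul_cancel_left]
      exact n.2
    · intro a; apply Subtype.ext; simp
    · intro n; apply Subtype.ext; simp
  rw [card_eq_mul_of_fibers'' φ _ hfib, mul_comm]

/-- In a group of order divisible by `8`, the normalizer of a subgroup of order `4` has order
divisible by `8`. -/
theorem eight_dvd_card_normalizer [Finite G] (h8 : 8 ∣ Nat.card G) (V : Subgroup G)
    (hV : Nat.card V = 4) : 8 ∣ Nat.card (Subgroup.normalizer (V : Set G)) := by
  classical
  have : Fact (Nat.Prime 2) := ⟨Nat.prime_two⟩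
  have hVp : IsPGroup 2 V := IsPGroup.of_card (n := 2) (by rw [hV]; norm_num)
  obtain ⟨P, hVP⟩ := hVp.exists_le_sylow
  have hPcard : Nat.card P = 2 ^ (Nat.card G).factorization 2 := P.card_eq_multiplicity
  have h3 : 3 ≤ (Nat.card G).factorization 2 := by
    have hpos : Nat.card G ≠ 0 := Nat.card_pos.ne'
    have : 2 ^ 3 ∣ Nat.card G := h8
    exact (Nat.Prime.pow_dvd_iff_le_factorization Nat.prime_two hpos).mp this
  -- inside `P`
  set V' : Subgroup P := V.subgroupOf P with hV'
  have hV'card : Nat.card V' = 4 := by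
    rw [hV', Nat.card_congr (Subgroup.subgroupOfEquivOfLe hVP).toEquiv, hV]
  have hnil : Group.IsNilpotent P := (P.isPGroup').isNilpotent
  have hlt : V' < ⊤ := by
    rw [lt_top_iff_ne_top]
    intro htop
    have : Nat.card V' = Nat.card P := by rw [htop, Subgroup.card_top]
    rw [hV'card, hPcard] at this
    have : 2 ^ 3 ≤ 2 ^ (Nat.card G).factorization 2 := Nat.pow_le_pow_right (by norm_num) h3
    omega
  have hgrow : V' < Subgroup.normalizer (V' : Set P) := Group.normalizerCondition_of_isNilpotent V' hlt
  -- the normalizer in `P` has order a power of two exceeding four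
  have hNp : IsPGroup 2 (Subgroup.normalizer (V' : Set P)) := (P.isPGroup').to_subgroup _
  obtain ⟨j, hj⟩ := hNp.exists_card_eq
  have hlt' : Nat.card V' < Nat.card (Subgroup.normalizer (V' : Set P)) := by
    have hle := Subgroup.card_le_of_le hgrow.le
    rcases hle.lt_or_eq with h | h
    · exact h
    · exfalso
      exact hgrow.ne (Subgroup.eq_of_le_of_card_ge hgrow.le h.ge)
  have hj3 : 3 ≤ j := by
    by_contra hcon
    have hj2 : j ≤ 2 := by omega
    have : 2 ^ j ≤ 2 ^ 2 := Nat.pow_le_pow_right (by norm_num) hj2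
    omega
  have h8' : 8 ∣ Nat.card (Subgroup.normalizer (V' : Set P)) := by
    rw [hj]
    exact pow_dvd_pow 2 hj3
  -- transfer to `G`
  have hle : (Subgroup.normalizer (V' : Set P)).map P.toSubgroup.subtype ≤
      Subgroup.normalizer (V : Set G) := by
    rintro _ ⟨n, hn, rfl⟩
    rw [Subgroup.mem_normalizer_iff]
    intro v
    have hn' := Subgroup.mem_normalizer_iff.mp hn
    constructor
    · intro hv
      have := (hn' ⟨v, hVP hv⟩).mp (by rw [hV', Subgroup.mem_subgroupOf]; exact hv)
      rw [hV', Subgroup.mem_subgroupOf] at this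
      exact this
    · intro hv
      have hvP : v ∈ P.toSubgroup := by
        have h1 : (n : G) * v * (n : G)⁻¹ ∈ P.toSubgroup := hVP hv
        have h2 : v = (n : G)⁻¹ * ((n : G) * v * (n : G)⁻¹) * (n : G) := by group
        rw [h2]
        exact P.toSubgroup.mul_mem (P.toSubgroup.mul_mem (P.toSubgroup.inv_mem n.2) h1) n.2
      have := (hn' ⟨v, hvP⟩).mpr (by rw [hV', Subgroup.mem_subgroupOf]; exact hv)
      rw [hV', Subgroup.mem_subgroupOf] at this
      exact this
  have hcardmap : Nat.card ((Subgroup.normalizer (V' : Set P)).map P.toSubgroup.subtype) =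
      Nat.card (Subgroup.normalizer (V' : Set P)) :=
    Subgroup.card_map_of_injective P.toSubgroup.subtype_injective
  exact h8'.trans (hcardmap ▸ Subgroup.card_dvd_of_le hle)

/-- The normalizer of a self-centralizing subgroup of order four has order dividing `24`. -/
theorem card_normalizer_dvd_of_self_centralizing [Finite G] (V : Subgroup G)
    (hV : Nat.card V = 4) (hC : Subgroup.centralizer (V : Set G) = V) :
    Nat.card (Subgroup.normalizer (V : Set G)) ∣ 24 := by
  classical
  set N := Subgroup.normalizer (V : Set G) with hN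
  let Ω := {v : G // v ∈ V ∧ v ≠ 1}
  have hΩ : Nat.card Ω = 3 := by
    have h1 : Nat.card Ω = Nat.card {v : V // v ≠ 1} := by
      apply Nat.card_congr
      refine ⟨fun v => ⟨⟨v.1, v.2.1⟩, fun h => v.2.2 (congrArg Subtype.val h)⟩,
        fun v => ⟨v.1.1, v.1.2, fun h => v.2 (Subtype.ext h)⟩, fun _ => rfl, fun _ => rfl⟩
    have : Finite V := Nat.finite_of_card_ne_zero (by rw [hV]; norm_num)
    have : Fintype V := Fintype.ofFinite V
    rw [h1, Nat.card_eq_fintype_card, Fintype.card_subtype_compl, Fintype.card_subtype_eq,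
      ← Nat.card_eq_fintype_card, hV]
  let act : MulAction N Ω :=
    { smul := fun n v => ⟨(n : G) * v.1 * (n : G)⁻¹,
        (Subgroup.mem_normalizer_iff.mp n.2 v.1).mp v.2.1, fun h => v.2.2 (by
          have : v.1 = (n : G)⁻¹ * ((n : G) * v.1 * (n : G)⁻¹) * (n : G) := by group
          rw [this, h]; group)⟩
      one_smul := fun v => Subtype.ext (by
        change ((1 : N) : G) * v.1 * ((1 : N) : G)⁻¹ = v.1
        simp)
      mul_smul := fun a b v => Subtype.ext (by
        change ((a * b : N) : G) * v.1 * ((a * b : N) : G)⁻¹ =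
          (a : G) * ((b : G) * v.1 * (b : G)⁻¹) * (a : G)⁻¹
        rw [Subgroup.coe_mul]; group) }
  let ψ : N →* Equiv.Perm Ω := MulAction.toPermHom N Ω
  have hker : ∀ n : N, n ∈ ψ.ker ↔ (n : G) ∈ V := by
    intro n
    rw [MonoidHom.mem_ker]
    constructor
    · intro h
      rw [← hC, Subgroup.mem_centralizer_iff]
      intro v hv
      by_cases hv1 : v = 1
      · rw [hv1]; simp
      · have h2 := congrArg (fun σ : Equiv.Perm Ω => (σ ⟨v, hv, hv1⟩).1) h
        change (n : G) * v * (n : G)⁻¹ = v at h2
        rw [mul_inv_eq_iff_eq_mul] at h2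
        exact h2.symm
    · intro h
      ext v
      change (n : G) * v.1 * (n : G)⁻¹ = v.1
      have hn : (n : G) ∈ Subgroup.centralizer (V : Set G) := by rw [hC]; exact h
      have := Subgroup.mem_centralizer_iff.mp hn v.1 v.2.1
      rw [mul_inv_eq_iff_eq_mul]
      exact this.symm
  have hkercard : Nat.card ψ.ker = 4 := by
    have hVN : V ≤ N := Subgroup.le_normalizer
    have : ψ.ker = V.subgroupOf N := by
      ext n
      rw [hker, Subgroup.mem_subgroupOf]
    rw [this, Nat.card_congr (Subgroup.subgroupOfEquivOfLe hVN).toEquiv, hV]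
  have hindex : ψ.ker.index ∣ 6 := by
    rw [Subgroup.index_ker]
    have h1 := Subgroup.card_subgroup_dvd_card ψ.range
    have : Finite Ω := Nat.finite_of_card_ne_zero (by rw [hΩ]; norm_num)
    have : Fintype Ω := Fintype.ofFinite Ω
    rw [Nat.card_eq_fintype_card (α := Equiv.Perm Ω), Fintype.card_perm,
      ← Nat.card_eq_fintype_card, hΩ] at h1
    exact h1
  have hmul := Subgroup.card_mul_index ψ.ker
  rw [hkercard] at hmul
  rw [← hmul]
  exact mul_dvd_mul_left 4 hindex

open scoped Pointwise in
/-- Sylow subgroups are conjugate, in `Subgroup.map` form. -/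
theorem sylow_conj_exists [Finite G] {p : ℕ} [Fact p.Prime] (P Q : Sylow p G) :
    ∃ g : G, (Q : Subgroup G) = (P : Subgroup G).map (MulAut.conj g).toMonoidHom := by
  obtain ⟨g, hg⟩ := MulAction.exists_smul_eq G P Q
  refine ⟨g, ?_⟩
  rw [← hg, Sylow.smul_def, Sylow.pointwise_smul_def, Subgroup.pointwise_smul_def]
  rfl

end general

end Cfsg.Agent.Lib.Helper13
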