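/-
helper13: the number of conjugacy classes of a "dicyclic-like" group: an abelian subgroup `T` of
index 2, inverted by all outside elements, whose outside elements all square to the same
involution `z ∈ T`, and `T` has only the involution `z`.  Then `2 k(N) = |T| + 6`.
-/
import Mathlib

set_option autoImplicit false

namespace Cfsg.Agent.Lib.Helper13

open Finset

theorem card_conjClasses_dicyclic {N : Type*} [Group N] [Finite N] (T : Subgroup N) (z : N)
    (hidx : Nat.card N = 2 * Nat.card T) (hz1 : z ≠ 1) (hzT : z ∈ T) (hz2 : z * z = 1)
    (hcomm : ∀ a ∈ T, ∀ b ∈ T, a * b = b * a)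
    (hinv : ∀ a, a ∉ T → ∀ t ∈ T, a * t * a⁻¹ = t⁻¹)
    (hinvol : ∀ t ∈ T, t * t = 1 → t = 1 ∨ t = z) :
    2 * Nat.card (ConjClasses N) = Nat.card T + 6 := by
  classical
  have : Fintype N := Fintype.ofFinite N
  set t := Nat.card T with ht
  have htpos : 0 < t := Nat.card_pos
  have hindex : T.index = 2 := by
    have := T.card_mul_index
    rw [hidx, ← ht] at this
    have h2 : t * T.index = t * 2 := by rw [this]; ring
    exact Nat.eq_of_mul_eq_mul_left htpos h2
  have hzinv : z⁻¹ = z := inv_eq_of_mul_eq_one_right hz2
  -- `z` is central
  have hzc : ∀ b : N, z * b = b * z := by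
    intro b
    by_cases hb : b ∈ T
    · exact hcomm z hzT b hb
    · have := hinv b hb z hzT
      rw [hzinv] at this
      have h3 : b * z = z * b := by
        calc b * z = b * z * b⁻¹ * b := by group
          _ = z * b := by rw [this]
      exact h3.symm
  -- the centralizer counts
  set c : N → ℕ := fun a => (univ.filter (fun b => a * b = b * a)).card with hc
  have hpairs : Nat.card { p : N × N // Commute p.1 p.2 } = ∑ a, c a := by
    rw [Nat.card_eq_fintype_card]
    calc Fintype.card { p : N × N // Commute p.1 p.2 }
        _ = Fintype.card ((a : N) × { b // Commute a b }) :=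
              Fintype.card_congr (Equiv.subtypeProdEquivSigmaSubtype Commute)
        _ = ∑ i, Fintype.card { b // Commute i b } := Fintype.card_sigma
        _ = ∑ a, c a := by
              apply Finset.sum_congr rfl
              intro a _
              rw [hc, Fintype.card_subtype]
              rfl
  have hcardN : Fintype.card N = 2 * t := by rw [← Nat.card_eq_fintype_card]; exact hidx
  set A : Finset N := {1, z} with hA
  set B : Finset N := univ.filter (fun a => a ∈ T) with hB
  have hAcard : A.card = 2 := by
    rw [hA, Finset.card_insert_of_notMem (by simpa using hz1.symm), Finset.card_singleton]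
  have hBcard : B.card = t := by
    rw [hB, ht, Nat.card_eq_fintype_card, Fintype.card_subtype]
  have hAB : A ⊆ B := by
    intro a ha
    rw [hA, Finset.mem_insert, Finset.mem_singleton] at ha
    rw [hB, Finset.mem_filter]
    refine ⟨Finset.mem_univ _, ?_⟩
    rcases ha with rfl | rfl
    · exact T.one_mem
    · exact hzT
  -- case 1
  have hc1 : ∀ a ∈ A, c a = 2 * t := by
    intro a ha
    rw [hA, Finset.mem_insert, Finset.mem_singleton] at ha
    have : univ.filter (fun b => a * b = b * a) = univ := by
      apply Finset.filter_true_of_mem
      intro b _
      rcases ha with rfl | rfl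
      · rw [one_mul, mul_one]
      · exact hzc b
    rw [hc]
    simp only
    rw [this, Finset.card_univ, hcardN]
  -- case 2
  have hc2 : ∀ a ∈ B \ A, c a = t := by
    intro a ha
    rw [Finset.mem_sdiff, hB, Finset.mem_filter, hA, Finset.mem_insert, Finset.mem_singleton] at ha
    obtain ⟨⟨-, haT⟩, hane⟩ := ha
    have : univ.filter (fun b => a * b = b * a) = B := by
      rw [hB]
      apply Finset.filter_congr
      intro b _
      constructor
      · intro hab
        by_contra hb
        have h3 := hinv b hb a haT
        have h4 : b * a * b⁻¹ = a := by rw [← hab]; group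
        rw [h4] at h3
        apply hane
        apply hinvol a haT
        nth_rewrite 2 [h3]
        exact mul_inv_cancel a
      · intro hb
        exact hcomm a haT b hb
    rw [hc]
    simp only
    rw [this, hBcard]
  -- case 3
  have hc3 : ∀ a ∈ univ \ B, c a = 4 := by
    intro a ha
    rw [Finset.mem_sdiff, hB, Finset.mem_filter] at ha
    have haT : a ∉ T := fun h => ha.2 ⟨Finset.mem_univ _, h⟩
    have hzaT : z * a ∉ T := by
      intro h
      apply haT
      have := T.mul_mem (T.inv_mem hzT) h
      rwa [inv_mul_cancel_left] at this
    have : univ.filter (fun b => a * b = b * a) = {1, z, a, z * a} := by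
      ext b
      rw [Finset.mem_filter, Finset.mem_insert, Finset.mem_insert, Finset.mem_insert,
        Finset.mem_singleton]
      constructor
      · rintro ⟨-, hab⟩
        by_cases hb : b ∈ T
        · have h3 := hinv a haT b hb
          have h4 : a * b * a⁻¹ = b := by rw [hab]; group
          rw [h4] at h3
          have h5 : b * b = 1 := by
            nth_rewrite 2 [h3]
            exact mul_inv_cancel b
          rcases hinvol b hb h5 with h | h
          · left; exact h
          · right; left; exact h
        · have hmem : a⁻¹ * b ∈ T := by
            rw [Subgroup.mul_mem_iff_of_index_two hindex]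
            constructor
            · intro h
              exact absurd ((T.inv_mem_iff).mp h) haT
            · intro h
              exact absurd h hb
          have h3 := hinv a haT _ hmem
          have h4 : a * (a⁻¹ * b) * a⁻¹ = a⁻¹ * b := by
            rw [mul_inv_cancel_left]
            exact ((show Commute a b from hab).inv_left).eq.symm
          rw [h4] at h3
          have h5 : (a⁻¹ * b) * (a⁻¹ * b) = 1 := by
            nth_rewrite 2 [h3]
            exact mul_inv_cancel _
          rcases hinvol _ hmem h5 with h | h
          · right; right; left
            exact (inv_mul_eq_one.mp h).symm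
          · right; right; right
            rw [hzc a, ← h, mul_inv_cancel_left]
      · intro hb
        refine ⟨Finset.mem_univ _, ?_⟩
        rcases hb with rfl | rfl | rfl | rfl
        · rw [one_mul, mul_one]
        · exact (hzc a).symm
        · rfl
        · rw [← mul_assoc, ← hzc a]
    have h1z : (1 : N) ∉ ({z, a, z * a} : Finset N) := by
      rw [Finset.mem_insert, Finset.mem_insert, Finset.mem_singleton]
      rintro (h | h | h)
      · exact hz1 h.symm
      · exact haT (h ▸ T.one_mem)
      · exact hzaT (h ▸ T.one_mem)
    have hz_ : z ∉ ({a, z * a} : Finset N) := by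
      rw [Finset.mem_insert, Finset.mem_singleton]
      rintro (h | h)
      · exact haT (h ▸ hzT)
      · exact hzaT (h ▸ hzT)
    have ha_ : a ∉ ({z * a} : Finset N) := by
      rw [Finset.mem_singleton]
      intro h
      apply hz1
      have : 1 * a = z * a := by rw [one_mul]; exact h
      exact (mul_right_cancel this).symm
    rw [hc]
    simp only
    rw [this, Finset.card_insert_of_notMem h1z, Finset.card_insert_of_notMem hz_,
      Finset.card_insert_of_notMem ha_, Finset.card_singleton]
  -- the sum
  have hsum : ∑ a, c a = t * (t + 6) := by
    rw [← Finset.sum_sdiff (Finset.subset_univ B), ← Finset.sum_sdiff hAB,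
      Finset.sum_congr rfl hc1, Finset.sum_congr rfl hc2, Finset.sum_congr rfl hc3,
      Finset.sum_const, Finset.sum_const, Finset.sum_const, smul_eq_mul, smul_eq_mul, smul_eq_mul,
      Finset.card_sdiff_of_subset hAB, Finset.card_sdiff_of_subset (Finset.subset_univ B),
      hAcard, hBcard, Finset.card_univ, hcardN]
    have h2t : 2 ≤ t := by
      rw [← hAcard, ← hBcard]
      exact Finset.card_le_card hAB
    obtain ⟨s, hs⟩ : ∃ s, t = s + 2 := ⟨t - 2, by omega⟩
    rw [hs]
    have e1 : 2 * (s + 2) - (s + 2) = s + 2 := by omega
    have e2 : s + 2 - 2 = s := by omega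
    rw [e1, e2]
    ring
  have hfinal := card_comm_eq_card_conjClasses_mul_card N
  rw [hpairs, hsum, hidx] at hfinal
  have : t * (t + 6) = t * (2 * Nat.card (ConjClasses N)) := by rw [hfinal]; ring
  exact (Nat.eq_of_mul_eq_mul_left htpos this).symm

end Cfsg.Agent.Lib.Helper13
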