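/-
helper13: normalizers of tori of `SL₂(F)`: inversion, squares, traces realised in a non-split torus.
-/
import Mathlib
import Cfsg.Agent.Lib.Helper13.SL2Torus
import Cfsg.Agent.Lib.Helper13.PSL2Spectrum

set_option autoImplicit false

namespace Cfsg.Agent.Lib.Helper13

open Matrix

section general

variable {F : Type*} [Field F]

theorem coe_mul_inv_self (h : SpecialLinearGroup (Fin 2) F) :
    (h : Matrix (Fin 2) (Fin 2) F) * ((h⁻¹ : SpecialLinearGroup (Fin 2) F) : Matrix (Fin 2) (Fin 2) F)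
      = 1 := by
  have : ((h * h⁻¹ : SpecialLinearGroup (Fin 2) F) : Matrix (Fin 2) (Fin 2) F) = 1 := by
    rw [mul_inv_cancel]; rfl
  exact this

theorem coe_inv_coords (g t : SpecialLinearGroup (Fin 2) F) (x y : F)
    (hxy : (t : Matrix (Fin 2) (Fin 2) F) =
      x • (1 : Matrix (Fin 2) (Fin 2) F) + y • (g : Matrix (Fin 2) (Fin 2) F)) :
    ((t⁻¹ : SpecialLinearGroup (Fin 2) F) : Matrix (Fin 2) (Fin 2) F) =
      x • (1 : Matrix (Fin 2) (Fin 2) F) +
        y • ((g⁻¹ : SpecialLinearGroup (Fin 2) F) : Matrix (Fin 2) (Fin 2) F) := by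
  have h1 : ((t⁻¹ : SpecialLinearGroup (Fin 2) F) : Matrix (Fin 2) (Fin 2) F) =
      Matrix.adjugate (t : Matrix (Fin 2) (Fin 2) F) := Matrix.SpecialLinearGroup.coe_inv t
  have h2 : ((g⁻¹ : SpecialLinearGroup (Fin 2) F) : Matrix (Fin 2) (Fin 2) F) =
      Matrix.adjugate (g : Matrix (Fin 2) (Fin 2) F) := Matrix.SpecialLinearGroup.coe_inv g
  rw [h1, h2, hxy, Matrix.adjugate_fin_two, Matrix.adjugate_fin_two]
  ext i j
  fin_cases i <;> fin_cases j <;> simp

/-- An element inverting `g` inverts the whole torus `C(g)`. -/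
theorem conj_eq_inv_of_mem_centralizer (g : SpecialLinearGroup (Fin 2) F)
    (hg : (g : Matrix (Fin 2) (Fin 2) F).trace ^ 2 ≠ 4) (h : SpecialLinearGroup (Fin 2) F)
    (hh : h * g * h⁻¹ = g⁻¹) (t : SpecialLinearGroup (Fin 2) F)
    (ht : t ∈ Subgroup.centralizer ({g} : Set (SpecialLinearGroup (Fin 2) F))) :
    h * t * h⁻¹ = t⁻¹ := by
  obtain ⟨x, y, hxy⟩ := exists_coords_of_mem_centralizer g t hg ht
  apply Subtype.ext
  change (h : Matrix (Fin 2) (Fin 2) F) * (t : Matrix (Fin 2) (Fin 2) F) *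
    ((h⁻¹ : SpecialLinearGroup (Fin 2) F) : Matrix (Fin 2) (Fin 2) F) =
    ((t⁻¹ : SpecialLinearGroup (Fin 2) F) : Matrix (Fin 2) (Fin 2) F)
  rw [coe_inv_coords g t x y hxy, hxy]
  have hm : (h : Matrix (Fin 2) (Fin 2) F) * (g : Matrix (Fin 2) (Fin 2) F) *
      ((h⁻¹ : SpecialLinearGroup (Fin 2) F) : Matrix (Fin 2) (Fin 2) F) =
      ((g⁻¹ : SpecialLinearGroup (Fin 2) F) : Matrix (Fin 2) (Fin 2) F) :=
    congrArg (fun k : SpecialLinearGroup (Fin 2) F => (k : Matrix (Fin 2) (Fin 2) F)) hh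
  simp only [mul_add, add_mul, mul_smul_comm, smul_mul_assoc, mul_one, hm, coe_mul_inv_self]

end general

section finite

variable {F : Type*} [Field F] [Fintype F]

/-- Elements inverting a regular semisimple `g ≠ g⁻¹` square to `-1`. -/
theorem mul_self_eq_zSL_of_inverting (h2 : (2 : F) ≠ 0) (g : SpecialLinearGroup (Fin 2) F)
    (hg : (g : Matrix (Fin 2) (Fin 2) F).trace ^ 2 ≠ 4) (hne : g ≠ g⁻¹)
    (h : SpecialLinearGroup (Fin 2) F) (hh : h * g * h⁻¹ = g⁻¹) : h * h = zSL F := by
  -- `h ∉ C(g)`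
  have hnotC : h ∉ Subgroup.centralizer ({g} : Set (SpecialLinearGroup (Fin 2) F)) := by
    intro hc
    rw [mem_centralizer_singleton_iff'] at hc
    rw [hc] at hh
    exact hne hh
  -- `h * h ∈ C(g)`
  have hk : h * h ∈ Subgroup.centralizer ({g} : Set (SpecialLinearGroup (Fin 2) F)) := by
    rw [mem_centralizer_singleton_iff']
    have hinv : h * g⁻¹ * h⁻¹ = g := by
      have e : h * g⁻¹ * h⁻¹ = (h * g * h⁻¹)⁻¹ := by group
      rw [e, hh, inv_inv]
    calc h * h * g * (h * h)⁻¹ = h * (h * g * h⁻¹) * h⁻¹ := by group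
      _ = g := by rw [hh, hinv]
  -- `h * h` is scalar
  have hsc : ((h * h : SpecialLinearGroup (Fin 2) F) : Matrix (Fin 2) (Fin 2) F) 0 1 = 0 ∧
      ((h * h : SpecialLinearGroup (Fin 2) F) : Matrix (Fin 2) (Fin 2) F) 1 0 = 0 ∧
      ((h * h : SpecialLinearGroup (Fin 2) F) : Matrix (Fin 2) (Fin 2) F) 0 0 =
        ((h * h : SpecialLinearGroup (Fin 2) F) : Matrix (Fin 2) (Fin 2) F) 1 1 := by
    by_contra hns
    have hceq := centralizer_eq_of_mem g hg (h * h) hk hns
    apply hnotC
    rw [← hceq, mem_centralizer_singleton_comm]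
    group
  rcases scalar_cases (h * h) hsc with h1 | h1
  · exfalso
    have h1' : h * h = 1 := Subtype.ext h1
    apply hnotC
    rcases sq_eq_one_cases h2 h h1' with h3 | h3
    · rw [h3]; exact Subgroup.one_mem _
    · rw [h3, mem_centralizer_singleton_comm]
      exact ((Subgroup.mem_center_iff.mp zSL_mem_center) g).symm
  · apply Subtype.ext
    rw [h1, zSL_coe]
    ext i j
    fin_cases i <;> fin_cases j <;> simp

omit [Fintype F] in
theorem trace_sq_ne_four_of_nonsplit (τ : F) (h : ∀ a : F, a * (τ - a) ≠ 1) : τ ^ 2 ≠ 4 := by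
  intro h4
  obtain ⟨e, he, hte⟩ := (trace_sq_eq_four_iff τ).mp h4
  apply h e
  rw [hte]
  linear_combination he

omit [Fintype F] in
/-- No eigenvector in `F²` means the characteristic polynomial has no root in `F`. -/
theorem nonsplit_of_no_eigenvector (g : SpecialLinearGroup (Fin 2) F)
    (hne : ∀ (c : F) (v : Fin 2 → F), v ≠ 0 → (g : Matrix (Fin 2) (Fin 2) F).mulVec v ≠ c • v) :
    ∀ a : F, a * ((g : Matrix (Fin 2) (Fin 2) F).trace - a) ≠ 1 := by
  intro a ha
  have hd : ((g : Matrix (Fin 2) (Fin 2) F) - a • (1 : Matrix (Fin 2) (Fin 2) F)).det = 0 := by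
    have hdet := g.2
    rw [Matrix.det_fin_two] at hdet
    rw [Matrix.trace_fin_two] at ha
    rw [Matrix.det_fin_two]
    simp only [Matrix.sub_apply, Matrix.smul_apply, smul_eq_mul, Matrix.one_apply_eq,
      Matrix.one_apply_ne (show (0 : Fin 2) ≠ 1 by decide),
      Matrix.one_apply_ne (show (1 : Fin 2) ≠ 0 by decide), mul_zero, sub_zero, mul_one]
    linear_combination hdet - ha
  obtain ⟨v, hv, hv0⟩ := Matrix.exists_mulVec_eq_zero_iff.mpr hd
  apply hne a v hv
  rw [Matrix.sub_mulVec, Matrix.smul_mulVec, Matrix.one_mulVec] at hv0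
  exact sub_eq_zero.mp hv0

/-- An element of `SL₂` with prescribed trace. -/
def traceSL (τ : F) : SpecialLinearGroup (Fin 2) F :=
  ⟨!![0, -1; 1, τ], by simp [Matrix.det_fin_two]⟩

omit [Fintype F] in
theorem trace_traceSL (τ : F) : ((traceSL τ : SpecialLinearGroup (Fin 2) F) :
    Matrix (Fin 2) (Fin 2) F).trace = τ := by
  change (!![0, -1; 1, τ] : Matrix (Fin 2) (Fin 2) F).trace = τ
  rw [Matrix.trace_fin_two]
  simp

/-- Every non-split trace is realised in a non-split torus. -/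
theorem exists_mem_centralizer_trace_eq (g : SpecialLinearGroup (Fin 2) F)
    (hg : (g : Matrix (Fin 2) (Fin 2) F).trace ^ 2 ≠ 4)
    (hns : ∀ a : F, a * ((g : Matrix (Fin 2) (Fin 2) F).trace - a) ≠ 1) (τ' : F)
    (hτ' : ∀ a : F, a * (τ' - a) ≠ 1) :
    ∃ h ∈ Subgroup.centralizer ({g} : Set (SpecialLinearGroup (Fin 2) F)),
      (h : Matrix (Fin 2) (Fin 2) F).trace = τ' := by
  classical
  obtain ⟨p, hp⟩ := CharP.exists F
  have := hp
  have : Fact p.Prime := ⟨CharP.char_is_prime F p⟩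
  have hq : 2 ≤ Fintype.card F := Fintype.one_lt_card
  obtain ⟨lam, mu, h1, h2⟩ := exists_eigen_pair (g : Matrix (Fin 2) (Fin 2) F).trace
  obtain ⟨lam', mu', h1', h2'⟩ := exists_eigen_pair τ'
  have hroot' : lam' ^ (Fintype.card F + 1) = 1 := by
    rcases eigen_frobenius p τ' lam' mu' h1' h2' with h | h
    · exfalso
      have hpow : lam' ^ Fintype.card F = lam' := by
        have : Fintype.card F = (Fintype.card F - 1) + 1 := by omega
        rw [this, pow_succ, h, one_mul]
      obtain ⟨a, ha⟩ := mem_range_of_pow_card_eq (F := F) lam' hpow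
      apply hτ' a
      apply (algebraMap F (AlgebraicClosure F)).injective
      rw [map_mul, map_sub, map_one, ha, ← h2']
      rw [add_sub_cancel_left]
      exact h1'
    · exact h
  set C := Subgroup.centralizer ({g} : Set (SpecialLinearGroup (Fin 2) F)) with hC
  have : Fintype C := Fintype.ofFinite C
  have hcardC : Fintype.card C = Fintype.card F + 1 := by
    rw [← Nat.card_eq_fintype_card]
    exact card_centralizer_nonsplit g hg hns
  set f := eigHom g hg lam mu h1 h2 with hf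
  have hinj := eigHom_injective g hg lam mu h1 h2
  set S : Finset (AlgebraicClosure F) := Finset.univ.image f with hS
  have hScard : S.card = Fintype.card F + 1 := by
    rw [hS, Finset.card_image_of_injective _ hinj, Finset.card_univ, hcardC]
  have hpos : 0 < Fintype.card F + 1 := by omega
  have hsub : S ⊆ Polynomial.nthRootsFinset (Fintype.card F + 1) (1 : AlgebraicClosure F) := by
    intro c hc
    rw [hS, Finset.mem_image] at hc
    obtain ⟨a, -, rfl⟩ := hc
    rw [Polynomial.mem_nthRootsFinset hpos, ← map_pow, ← hcardC, pow_card_eq_one, map_one]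
  have hle : (Polynomial.nthRootsFinset (Fintype.card F + 1) (1 : AlgebraicClosure F)).card ≤
      S.card := by
    rw [hScard]
    exact (Multiset.toFinset_card_le _).trans (Polynomial.card_nthRoots _ _)
  have hSeq := Finset.eq_of_subset_of_card_le hsub hle
  have hmem : lam' ∈ S := by
    rw [hSeq, Polynomial.mem_nthRootsFinset hpos]
    exact hroot'
  rw [hS, Finset.mem_image] at hmem
  obtain ⟨a, -, ha⟩ := hmem
  refine ⟨a.1, a.2, ?_⟩
  have ha' : eigFun g lam (a : SpecialLinearGroup (Fin 2) F) = lam' := ha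
  obtain ⟨hs, hp'⟩ := eigFun_add_mul g hg lam mu h1 h2 a.1 a.2
  rw [ha'] at hs hp'
  have hlam0 : lam' ≠ 0 := by
    intro h0
    rw [h0, zero_mul] at h1'
    exact zero_ne_one h1'
  have hmu : eigFun g mu (a : SpecialLinearGroup (Fin 2) F) = mu' :=
    mul_left_cancel₀ hlam0 (hp'.trans h1'.symm)
  rw [hmu, h2'] at hs
  exact ((algebraMap F (AlgebraicClosure F)).injective hs).symm

end finite

end Cfsg.Agent.Lib.Helper13
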