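/-
helper13: class number of the normalizer of a torus of `SL₂(F)`, `F` finite of odd order.
-/
import Mathlib
import Cfsg.Agent.Lib.Helper13.SL2TorusNorm
import Cfsg.Agent.Lib.Helper13.DicyclicCount

set_option autoImplicit false

namespace Cfsg.Agent.Lib.Helper13

open Matrix

variable {F : Type*} [Field F] [Fintype F]

theorem two_ne_zero_of_odd_card (hodd : Odd (Fintype.card F)) : (2 : F) ≠ 0 := by
  obtain ⟨p, hp⟩ := CharP.exists F
  have := hp
  have : Fact p.Prime := ⟨CharP.char_is_prime F p⟩
  by_contra h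
  have hp2 : p = 2 := by
    have : ((2 : ℕ) : F) = 0 := by exact_mod_cast h
    rw [CharP.cast_eq_zero_iff F p] at this
    exact (Nat.prime_dvd_prime_iff_eq (Fact.out) Nat.prime_two).mp this
  subst hp2
  obtain ⟨r, hr⟩ := even_card_of_char_two (F := F)
  obtain ⟨s, hs⟩ := hodd
  omega

theorem zSL_mem_centralizer (g : SpecialLinearGroup (Fin 2) F) :
    zSL F ∈ Subgroup.centralizer ({g} : Set (SpecialLinearGroup (Fin 2) F)) := by
  rw [mem_centralizer_singleton_comm]
  exact ((Subgroup.mem_center_iff.mp zSL_mem_center) g).symm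

/-- Elements of `N(C(g)) ∖ C(g)` invert `g`. -/
theorem inverts_of_mem_normalizer_not_mem (g : SpecialLinearGroup (Fin 2) F)
    (hg : (g : Matrix (Fin 2) (Fin 2) F).trace ^ 2 ≠ 4) (h : SpecialLinearGroup (Fin 2) F)
    (hN : h ∈ Subgroup.normalizer ((Subgroup.centralizer ({g} : Set (SpecialLinearGroup (Fin 2) F)) :
      Subgroup (SpecialLinearGroup (Fin 2) F)) : Set (SpecialLinearGroup (Fin 2) F)))
    (hT : h ∉ Subgroup.centralizer ({g} : Set (SpecialLinearGroup (Fin 2) F))) :
    h * g * h⁻¹ = g⁻¹ := by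
  rcases (mem_normalizer_centralizer_iff g hg h).mp hN with h1 | h1
  · exfalso
    apply hT
    rw [mem_centralizer_singleton_iff']
    exact h1
  · exact h1

/-- `2 k(N(T)) = |T| + 6` for a torus `T = C(g)`. -/
theorem two_mul_card_conjClasses_normalizer_torus (h2 : (2 : F) ≠ 0)
    (g : SpecialLinearGroup (Fin 2) F)
    (hg : (g : Matrix (Fin 2) (Fin 2) F).trace ^ 2 ≠ 4) (hne : g ≠ g⁻¹) :
    2 * Nat.card (ConjClasses (Subgroup.normalizer
      ((Subgroup.centralizer ({g} : Set (SpecialLinearGroup (Fin 2) F)) :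
      Subgroup (SpecialLinearGroup (Fin 2) F)) : Set (SpecialLinearGroup (Fin 2) F)))) =
      Nat.card (Subgroup.centralizer ({g} : Set (SpecialLinearGroup (Fin 2) F))) + 6 := by
  classical
  set T' := Subgroup.centralizer ({g} : Set (SpecialLinearGroup (Fin 2) F)) with hT'
  set N := Subgroup.normalizer (T' : Set (SpecialLinearGroup (Fin 2) F)) with hN
  have hcc := centralizer_centralizer_eq g hg
  have hcardN := card_normalizer_centralizer g hg hne
  have hTN : T' ≤ N := Subgroup.le_normalizer
  have hzT : zSL F ∈ T' := zSL_mem_centralizer g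
  have hzN : zSL F ∈ N := hTN hzT
  have hcount := card_conjClasses_dicyclic (N := ↥N) (T'.subgroupOf N) ⟨zSL F, hzN⟩
    (by
      rw [Nat.card_congr (Subgroup.subgroupOfEquivOfLe hTN).toEquiv]
      exact hcardN)
    (by
      intro h
      exact zSL_ne_one h2 (congrArg Subtype.val h))
    (by
      rw [Subgroup.mem_subgroupOf]
      exact hzT)
    (by
      apply Subtype.ext
      exact zSL_mul_self)
    (by
      intro a ha b hb
      rw [Subgroup.mem_subgroupOf] at ha hb
      apply Subtype.ext
      have hb' : (b : SpecialLinearGroup (Fin 2) F) ∈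
          Subgroup.centralizer (T' : Set (SpecialLinearGroup (Fin 2) F)) := by
        rw [hcc]; exact hb
      exact Subgroup.mem_centralizer_iff.mp hb' _ ha)
    (by
      intro a ha t ht
      rw [Subgroup.mem_subgroupOf] at ha ht
      apply Subtype.ext
      exact conj_eq_inv_of_mem_centralizer g hg _
        (inverts_of_mem_normalizer_not_mem g hg _ a.2 ha) _ ht)
    (by
      intro t _ htt
      have h1 : (t : SpecialLinearGroup (Fin 2) F) * (t : SpecialLinearGroup (Fin 2) F) = 1 :=
        congrArg Subtype.val htt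
      rcases sq_eq_one_cases h2 _ h1 with h3 | h3
      · left; exact Subtype.ext h3
      · right; exact Subtype.ext h3)
  rw [Nat.card_congr (Subgroup.subgroupOfEquivOfLe hTN).toEquiv] at hcount
  exact hcount

/-- Elements of `N(T) ∖ T` square to `-1`. -/
theorem coe_mul_self_of_mem_normalizer_not_mem (h2 : (2 : F) ≠ 0)
    (g : SpecialLinearGroup (Fin 2) F)
    (hg : (g : Matrix (Fin 2) (Fin 2) F).trace ^ 2 ≠ 4) (hne : g ≠ g⁻¹)
    (h : SpecialLinearGroup (Fin 2) F)
    (hN : h ∈ Subgroup.normalizer ((Subgroup.centralizer ({g} : Set (SpecialLinearGroup (Fin 2) F)) :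
      Subgroup (SpecialLinearGroup (Fin 2) F)) : Set (SpecialLinearGroup (Fin 2) F)))
    (hT : h ∉ Subgroup.centralizer ({g} : Set (SpecialLinearGroup (Fin 2) F))) :
    (h : Matrix (Fin 2) (Fin 2) F) * (h : Matrix (Fin 2) (Fin 2) F) = -1 := by
  have h1 := mul_self_eq_zSL_of_inverting h2 g hg hne h
    (inverts_of_mem_normalizer_not_mem g hg h hN hT)
  change ((h * h : SpecialLinearGroup (Fin 2) F) : Matrix (Fin 2) (Fin 2) F) = -1
  rw [h1, zSL_coe]
  ext i j
  fin_cases i <;> fin_cases j <;> simp

end Cfsg.Agent.Lib.Helper13
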