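/-
helper13: counting Klein four-subgroups of `PSL₂(F)`, `F` finite of odd order:
`12 · #{Klein four-subgroups} = |PSL₂(F)|`.
-/
import Mathlib
import Cfsg.Agent.Lib.Helper13.SL2TorusClasses
import Cfsg.Agent.Lib.Helper13.KleinCount

set_option autoImplicit false

namespace Cfsg.Agent.Lib.Helper13

open Matrix

section fibers

theorem card_eq_mul_of_fibers {A B : Type*} [Finite A] [Finite B] (φ : A → B) (n : ℕ)
    (h : ∀ b, Nat.card {a // φ a = b} = n) : Nat.card A = n * Nat.card B := by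
  classical
  have : Fintype B := Fintype.ofFinite B
  rw [← Nat.card_congr (Equiv.sigmaFiberEquiv φ), Nat.card_sigma,
    Finset.sum_congr rfl (fun b _ => h b), Finset.sum_const, Finset.card_univ, smul_eq_mul,
    Nat.card_eq_fintype_card, mul_comm]

theorem card_inverting_eq_card_centralizer {G : Type*} [Group G] (g h₀ : G)
    (hh₀ : h₀ * g * h₀⁻¹ = g⁻¹) :
    Nat.card {b : G // b * g * b⁻¹ = g⁻¹} = Nat.card (Subgroup.centralizer ({g} : Set G)) := by
  apply Nat.card_congr
  refine ⟨fun b => ⟨h₀⁻¹ * b.1, ?_⟩, fun c => ⟨h₀ * c.1, ?_⟩, ?_, ?_⟩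
  · rw [mem_centralizer_singleton_iff']
    have hinv : h₀⁻¹ * g⁻¹ * h₀ = g := by rw [← hh₀]; group
    calc h₀⁻¹ * b.1 * g * (h₀⁻¹ * b.1)⁻¹ = h₀⁻¹ * (b.1 * g * b.1⁻¹) * h₀ := by group
      _ = g := by rw [b.2, hinv]
  · have hc := (mem_centralizer_singleton_iff' g c.1).mp c.2
    calc h₀ * c.1 * g * (h₀ * c.1)⁻¹ = h₀ * (c.1 * g * c.1⁻¹) * h₀⁻¹ := by group
      _ = g⁻¹ := by rw [hc, hh₀]
  · intro b; apply Subtype.ext; simp
  · intro c; apply Subtype.ext; simp

end fibers

section stepA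

variable {F : Type*} [Field F] [Fintype F]

theorem trace_zero_sq_ne_four (h2 : (2 : F) ≠ 0) (g : SpecialLinearGroup (Fin 2) F)
    (hg0 : (g : Matrix (Fin 2) (Fin 2) F).trace = 0) :
    (g : Matrix (Fin 2) (Fin 2) F).trace ^ 2 ≠ 4 := by
  rw [hg0]
  intro h
  apply four_ne_zero_of_two h2
  rw [← h]
  ring

theorem card_trace_zero_mul_card_centralizer (h2 : (2 : F) ≠ 0)
    (g : SpecialLinearGroup (Fin 2) F) (hg0 : (g : Matrix (Fin 2) (Fin 2) F).trace = 0) :
    Nat.card {a : SpecialLinearGroup (Fin 2) F // (a : Matrix (Fin 2) (Fin 2) F).trace = 0} *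
      Nat.card (Subgroup.centralizer ({g} : Set (SpecialLinearGroup (Fin 2) F))) =
      Nat.card (SpecialLinearGroup (Fin 2) F) := by
  have hg := trace_zero_sq_ne_four h2 g hg0
  have h1 := Subgroup.card_mul_index
    (Subgroup.centralizer ({g} : Set (SpecialLinearGroup (Fin 2) F)))
  rw [index_centralizer_eq, carrier_eq_trace_fiber g hg, hg0] at h1
  rw [mul_comm]
  exact h1

theorem card_inverting_pairs (h2 : (2 : F) ≠ 0) :
    Nat.card {p : SpecialLinearGroup (Fin 2) F × SpecialLinearGroup (Fin 2) F //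
      (p.1 : Matrix (Fin 2) (Fin 2) F).trace = 0 ∧ p.2 * p.1 * p.2⁻¹ = p.1⁻¹} =
      Nat.card (SpecialLinearGroup (Fin 2) F) := by
  classical
  have : Fintype (SpecialLinearGroup (Fin 2) F) := Fintype.ofFinite _
  rw [Nat.card_congr (Equiv.subtypeProdEquivSigmaSubtype
    (fun a b : SpecialLinearGroup (Fin 2) F =>
      (a : Matrix (Fin 2) (Fin 2) F).trace = 0 ∧ b * a * b⁻¹ = a⁻¹)), Nat.card_sigma]
  have hterm : ∀ a : SpecialLinearGroup (Fin 2) F,
      Nat.card {b : SpecialLinearGroup (Fin 2) F //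
        (a : Matrix (Fin 2) (Fin 2) F).trace = 0 ∧ b * a * b⁻¹ = a⁻¹} =
      if (a : Matrix (Fin 2) (Fin 2) F).trace = 0 then
        Nat.card (Subgroup.centralizer ({a} : Set (SpecialLinearGroup (Fin 2) F))) else 0 := by
    intro a
    split_ifs with h0
    · obtain ⟨h₀, hh₀⟩ := exists_inverting a (trace_zero_sq_ne_four h2 a h0)
      rw [← card_inverting_eq_card_centralizer a h₀ hh₀]
      apply Nat.card_congr
      apply Equiv.subtypeEquivRight
      intro b
      simp only [h0, true_and]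
    · have : IsEmpty {b : SpecialLinearGroup (Fin 2) F //
          (a : Matrix (Fin 2) (Fin 2) F).trace = 0 ∧ b * a * b⁻¹ = a⁻¹} :=
        ⟨fun b => h0 b.2.1⟩
      exact Nat.card_of_isEmpty
  rw [Finset.sum_congr rfl (fun a _ => hterm a), ← Finset.sum_filter]
  set X := Finset.univ.filter (fun a : SpecialLinearGroup (Fin 2) F =>
    (a : Matrix (Fin 2) (Fin 2) F).trace = 0) with hX
  have hXcard : X.card =
      Nat.card {a : SpecialLinearGroup (Fin 2) F // (a : Matrix (Fin 2) (Fin 2) F).trace = 0} := by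
    rw [Nat.card_eq_fintype_card, Fintype.card_subtype]
  have hXpos : 0 < X.card := by
    rw [Finset.card_pos]
    refine ⟨traceSL 0, ?_⟩
    rw [hX, Finset.mem_filter]
    exact ⟨Finset.mem_univ _, trace_traceSL 0⟩
  have hmul : X.card * ∑ a ∈ X,
      Nat.card (Subgroup.centralizer ({a} : Set (SpecialLinearGroup (Fin 2) F))) =
      X.card * Nat.card (SpecialLinearGroup (Fin 2) F) := by
    rw [Finset.mul_sum]
    have : ∀ a ∈ X, X.card *
        Nat.card (Subgroup.centralizer ({a} : Set (SpecialLinearGroup (Fin 2) F))) =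
        Nat.card (SpecialLinearGroup (Fin 2) F) := by
      intro a ha
      rw [hX, Finset.mem_filter] at ha
      rw [hXcard]
      exact card_trace_zero_mul_card_centralizer h2 a ha.2
    rw [Finset.sum_congr rfl this, Finset.sum_const, smul_eq_mul]
  exact Nat.eq_of_mul_eq_mul_left hXpos hmul

end stepA

section stepB

variable {F : Type*} [Field F] [Fintype F]

local notation "G" => SpecialLinearGroup (Fin 2) F
local notation "PG" => ProjectiveSpecialLinearGroup (Fin 2) F

omit [Fintype F] in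
theorem mk_eq_one_iff' (g : SpecialLinearGroup (Fin 2) F) :
    (QuotientGroup.mk g : ProjectiveSpecialLinearGroup (Fin 2) F) = 1 ↔
      g ∈ Subgroup.center (SpecialLinearGroup (Fin 2) F) :=
  QuotientGroup.eq_one_iff g

omit [Fintype F] in
theorem mk_zSL : (QuotientGroup.mk (zSL F) : ProjectiveSpecialLinearGroup (Fin 2) F) = 1 :=
  (mk_eq_one_iff' _).mpr zSL_mem_center

omit [Fintype F] in
theorem not_mem_center_of_mul_self (h2 : (2 : F) ≠ 0) (g : SpecialLinearGroup (Fin 2) F)
    (hg : g * g = zSL F) : g ∉ Subgroup.center (SpecialLinearGroup (Fin 2) F) := by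
  intro hc
  apply zSL_ne_one h2
  rcases center_cases g hc with h | h
  · rw [← hg, h, mul_one]
  · rw [← hg, h, zSL_mul_self]

omit [Fintype F] in
theorem orderOf_mk_of_mul_self (h2 : (2 : F) ≠ 0) (g : SpecialLinearGroup (Fin 2) F)
    (hg : g * g = zSL F) :
    orderOf (QuotientGroup.mk g : ProjectiveSpecialLinearGroup (Fin 2) F) = 2 := by
  apply orderOf_eq_prime
  · rw [pow_two, ← QuotientGroup.mk_mul, hg]
    exact mk_zSL
  · intro h
    exact not_mem_center_of_mul_self h2 g hg ((mk_eq_one_iff' g).mp h)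

omit [Fintype F] in
theorem center_mul_self (c : SpecialLinearGroup (Fin 2) F)
    (hc : c ∈ Subgroup.center (SpecialLinearGroup (Fin 2) F)) : c * c = 1 := by
  rcases center_cases c hc with h | h
  · rw [h, mul_one]
  · rw [h, zSL_mul_self]

omit [Fintype F] in
theorem trace_mul_center (g c : SpecialLinearGroup (Fin 2) F)
    (hc : c ∈ Subgroup.center (SpecialLinearGroup (Fin 2) F))
    (hg0 : (g : Matrix (Fin 2) (Fin 2) F).trace = 0) :
    ((g * c : SpecialLinearGroup (Fin 2) F) : Matrix (Fin 2) (Fin 2) F).trace = 0 := by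
  obtain ⟨r, hr⟩ := scalar_of_mem_center c hc
  change ((g : Matrix (Fin 2) (Fin 2) F) * (c : Matrix (Fin 2) (Fin 2) F)).trace = 0
  rw [hr, Matrix.mul_smul, Matrix.mul_one, Matrix.trace_smul, hg0, smul_zero]

/-- The data of an inverting pair. -/
theorem inverting_pair_facts (h2 : (2 : F) ≠ 0) (g h : SpecialLinearGroup (Fin 2) F)
    (hg0 : (g : Matrix (Fin 2) (Fin 2) F).trace = 0) (hh : h * g * h⁻¹ = g⁻¹) :
    orderOf (QuotientGroup.mk g : ProjectiveSpecialLinearGroup (Fin 2) F) = 2 ∧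
    orderOf (QuotientGroup.mk h : ProjectiveSpecialLinearGroup (Fin 2) F) = 2 ∧
    (QuotientGroup.mk g : ProjectiveSpecialLinearGroup (Fin 2) F) ≠ QuotientGroup.mk h ∧
    Commute (QuotientGroup.mk g : ProjectiveSpecialLinearGroup (Fin 2) F) (QuotientGroup.mk h) := by
  have hg := trace_zero_sq_ne_four h2 g hg0
  have hgg := mul_self_of_trace_eq_zero g hg0
  have hginv : zSL F * g = g⁻¹ := zSL_mul_eq_inv g hgg
  have hne : g ≠ g⁻¹ := by
    intro h'
    apply zSL_ne_one h2
    rw [← hgg]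
    nth_rewrite 2 [h']
    exact mul_inv_cancel g
  have hhh := mul_self_eq_zSL_of_inverting h2 g hg hne h hh
  refine ⟨orderOf_mk_of_mul_self h2 g hgg, orderOf_mk_of_mul_self h2 h hhh, ?_, ?_⟩
  · intro heq
    have hmem : g⁻¹ * h ∈ Subgroup.center (SpecialLinearGroup (Fin 2) F) :=
      QuotientGroup.eq.mp heq
    apply hne
    have hcomm := Subgroup.mem_center_iff.mp hmem
    -- `h = g * c` with `c` central commutes with `g`
    have h3 : h * g * h⁻¹ = g := by
      have e1 : h = g * (g⁻¹ * h) := by group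
      have e2 : h * g = g * h := by
        calc h * g = g * (g⁻¹ * h) * g := by rw [← e1]
          _ = g * ((g⁻¹ * h) * g) := by group
          _ = g * (g * (g⁻¹ * h)) := by rw [← hcomm g]
          _ = g * h := by group
      rw [e2]; group
    rw [h3] at hh
    exact hh
  · change (QuotientGroup.mk g : ProjectiveSpecialLinearGroup (Fin 2) F) * QuotientGroup.mk h =
      QuotientGroup.mk h * QuotientGroup.mk g
    have e : h * g = zSL F * (g * h) := by
      have : h * g = (h * g * h⁻¹) * h := by group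
      rw [this, hh, ← hginv, mul_assoc]
    calc (QuotientGroup.mk g : ProjectiveSpecialLinearGroup (Fin 2) F) * QuotientGroup.mk h
        = QuotientGroup.mk (zSL F) * (QuotientGroup.mk g * QuotientGroup.mk h) := by
          rw [mk_zSL, one_mul]
      _ = QuotientGroup.mk (zSL F * (g * h)) := rfl
      _ = QuotientGroup.mk (h * g) := by rw [e]
      _ = QuotientGroup.mk h * QuotientGroup.mk g := rfl

/-- Surjectivity: a pair of distinct commuting involutions lifts to an inverting pair. -/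
theorem exists_lift_pair (h2 : (2 : F) ≠ 0) (x y : ProjectiveSpecialLinearGroup (Fin 2) F)
    (hx : orderOf x = 2) (hy : orderOf y = 2) (hxy : x ≠ y) (hc : Commute x y) :
    ∃ g h : SpecialLinearGroup (Fin 2) F, (g : Matrix (Fin 2) (Fin 2) F).trace = 0 ∧
      h * g * h⁻¹ = g⁻¹ ∧ (QuotientGroup.mk g : ProjectiveSpecialLinearGroup (Fin 2) F) = x ∧
      (QuotientGroup.mk h : ProjectiveSpecialLinearGroup (Fin 2) F) = y := by
  obtain ⟨g, rfl, hg0⟩ := exists_lift_of_orderOf_two h2 x hx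
  obtain ⟨h, rfl, hh0⟩ := exists_lift_of_orderOf_two h2 y hy
  refine ⟨g, h, hg0, ?_, rfl, rfl⟩
  have hg := trace_zero_sq_ne_four h2 g hg0
  have hgg := mul_self_of_trace_eq_zero g hg0
  have hginv : zSL F * g = g⁻¹ := zSL_mul_eq_inv g hgg
  have hcm : h * g * h⁻¹ * g⁻¹ ∈ Subgroup.center (SpecialLinearGroup (Fin 2) F) := by
    rw [← mk_eq_one_iff']
    rw [QuotientGroup.mk_mul, QuotientGroup.mk_mul, QuotientGroup.mk_mul, QuotientGroup.mk_inv,
      QuotientGroup.mk_inv]
    have : (QuotientGroup.mk h : ProjectiveSpecialLinearGroup (Fin 2) F) * QuotientGroup.mk g =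
        QuotientGroup.mk g * QuotientGroup.mk h := hc.eq.symm
    rw [this]
    group
  rcases center_cases _ hcm with h1 | h1
  · exfalso
    have h3 : h * g * h⁻¹ = g := by
      have := congrArg (fun t => t * g) h1
      simpa using this
    have hmem : h ∈ Subgroup.centralizer ({g} : Set (SpecialLinearGroup (Fin 2) F)) := by
      rw [mem_centralizer_singleton_iff']
      exact h3
    apply hxy
    rcases eq_or_eq_inv_of_trace_eq g hg h hmem (by rw [hh0, hg0]) with h4 | h4
    · rw [h4]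
    · rw [h4, ← hginv, QuotientGroup.mk_mul, mk_zSL, one_mul]
  · have := congrArg (fun t => t * g) h1
    simp only [inv_mul_cancel_right] at this
    rw [this, hginv]

/-- Step B: the map from inverting pairs to pairs of commuting involutions is `4`-to-`1`. -/
theorem card_inverting_pairs_eq (h2 : (2 : F) ≠ 0) :
    Nat.card {p : SpecialLinearGroup (Fin 2) F × SpecialLinearGroup (Fin 2) F //
      (p.1 : Matrix (Fin 2) (Fin 2) F).trace = 0 ∧ p.2 * p.1 * p.2⁻¹ = p.1⁻¹} =
    4 * Nat.card {p : ProjectiveSpecialLinearGroup (Fin 2) F ×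
      ProjectiveSpecialLinearGroup (Fin 2) F //
      orderOf p.1 = 2 ∧ orderOf p.2 = 2 ∧ p.1 ≠ p.2 ∧ Commute p.1 p.2} := by
  classical
  set φ : {p : SpecialLinearGroup (Fin 2) F × SpecialLinearGroup (Fin 2) F //
      (p.1 : Matrix (Fin 2) (Fin 2) F).trace = 0 ∧ p.2 * p.1 * p.2⁻¹ = p.1⁻¹} →
      {p : ProjectiveSpecialLinearGroup (Fin 2) F × ProjectiveSpecialLinearGroup (Fin 2) F //
      orderOf p.1 = 2 ∧ orderOf p.2 = 2 ∧ p.1 ≠ p.2 ∧ Commute p.1 p.2} :=
    fun p => ⟨(QuotientGroup.mk p.1.1, QuotientGroup.mk p.1.2),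
      inverting_pair_facts h2 p.1.1 p.1.2 p.2.1 p.2.2⟩ with hφ
  apply card_eq_mul_of_fibers φ 4
  rintro ⟨⟨x, y⟩, hx, hy, hxy, hc⟩
  obtain ⟨g, h, hg0, hh, rfl, rfl⟩ := exists_lift_pair h2 x y hx hy hxy hc
  have hZ : Nat.card (Subgroup.center (SpecialLinearGroup (Fin 2) F)) = 2 := card_center_SL2 h2
  have h4 : Nat.card (Subgroup.center (SpecialLinearGroup (Fin 2) F) ×
      Subgroup.center (SpecialLinearGroup (Fin 2) F)) = 4 := by
    rw [Nat.card_prod, hZ]
  rw [← h4]
  apply Nat.card_congr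
  refine ⟨fun p => (⟨g⁻¹ * p.1.1.1, ?_⟩, ⟨h⁻¹ * p.1.1.2, ?_⟩),
    fun c => ⟨⟨(g * c.1.1, h * c.2.1), ?_, ?_⟩, ?_⟩, ?_, ?_⟩
  · have := p.2
    simp only [hφ, Subtype.mk.injEq, Prod.mk.injEq] at this
    exact QuotientGroup.eq.mp this.1.symm
  · have := p.2
    simp only [hφ, Subtype.mk.injEq, Prod.mk.injEq] at this
    exact QuotientGroup.eq.mp this.2.symm
  · exact trace_mul_center g c.1.1 c.1.2 hg0
  · -- `(h c₂) (g c₁) (h c₂)⁻¹ = (g c₁)⁻¹`
    have hc1 := Subgroup.mem_center_iff.mp c.1.2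
    have hc2 := Subgroup.mem_center_iff.mp c.2.2
    have hc1sq := center_mul_self c.1.1 c.1.2
    have hc1inv : (c.1.1)⁻¹ = c.1.1 := inv_eq_of_mul_eq_one_right hc1sq
    calc h * c.2.1 * (g * c.1.1) * (h * c.2.1)⁻¹
        = h * (c.2.1 * (g * c.1.1) * (c.2.1)⁻¹) * h⁻¹ := by group
      _ = h * (g * c.1.1) * h⁻¹ := by
          rw [← hc2 (g * c.1.1), mul_inv_cancel_right]
      _ = h * g * (c.1.1 * h⁻¹) := by group
      _ = h * g * (h⁻¹ * c.1.1) := by rw [← hc1 h⁻¹]
      _ = (h * g * h⁻¹) * c.1.1 := by group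
      _ = g⁻¹ * c.1.1 := by rw [hh]
      _ = (g * c.1.1)⁻¹ := by
          rw [_root_.mul_inv_rev, hc1inv]
          exact hc1 g⁻¹
  · simp only [hφ, Subtype.mk.injEq, Prod.mk.injEq]
    constructor
    · rw [QuotientGroup.mk_mul, (mk_eq_one_iff' _).mpr c.1.2, mul_one]
    · rw [QuotientGroup.mk_mul, (mk_eq_one_iff' _).mpr c.2.2, mul_one]
  · intro p
    apply Subtype.ext
    apply Subtype.ext
    simp
  · intro c
    apply Prod.ext <;> apply Subtype.ext <;> simp

end stepB

/-- `12 · #{Klein four-subgroups of PSL₂(F)} = |PSL₂(F)|`, `F` finite of odd order. -/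
theorem twelve_mul_card_kleinFour_PSL2 {F : Type*} [Field F] [Fintype F] (h2 : (2 : F) ≠ 0) :
    12 * Nat.card {V : Subgroup (ProjectiveSpecialLinearGroup (Fin 2) F) // IsKleinFour V} =
      Nat.card (ProjectiveSpecialLinearGroup (Fin 2) F) := by
  have hA := card_inverting_pairs (F := F) h2
  have hB := card_inverting_pairs_eq (F := F) h2
  have hC := card_commuting_involution_pairs (P := ProjectiveSpecialLinearGroup (Fin 2) F)
  have hP := card_PSL2_mul_two (F := F) h2
  rw [← card_SL2] at hP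
  rw [hB, hC] at hA
  omega

end Cfsg.Agent.Lib.Helper13
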