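/-
helper13: Klein four-subgroups of `PSL₂(F)`, `q` odd: they are self-centralizing, and their
normalizers have order `24` when `q ≡ ±1 (mod 8)` and `12` when `q ≡ ±3 (mod 8)`.
-/
import Mathlib
import Cfsg.Agent.Lib.Helper13.KleinNormalizer
import Cfsg.Agent.Lib.Helper13.PSL2KleinCount

set_option autoImplicit false

namespace Cfsg.Agent.Lib.Helper13

open Matrix

variable {F : Type*} [Field F] [Fintype F]

/-- Base case: an element of `SL₂` commuting with both members of an inverting pair is central. -/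
theorem central_of_commute_pair (h2 : (2 : F) ≠ 0) (g h k : SpecialLinearGroup (Fin 2) F)
    (hg0 : (g : Matrix (Fin 2) (Fin 2) F).trace = 0) (hh : h * g * h⁻¹ = g⁻¹)
    (hkg : k * g * k⁻¹ = g) (hkh : k * h * k⁻¹ = h) :
    (QuotientGroup.mk k : ProjectiveSpecialLinearGroup (Fin 2) F) = 1 := by
  have hg := trace_zero_sq_ne_four h2 g hg0
  have hk : k ∈ Subgroup.centralizer ({g} : Set (SpecialLinearGroup (Fin 2) F)) := by
    rw [mem_centralizer_singleton_iff']
    exact hkg
  have hinv := conj_eq_inv_of_mem_centralizer g hg h hh k hk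
  have hcomm : h * k * h⁻¹ = k := by
    have : k * h = h * k := by
      have := congrArg (fun t => t * k) hkh
      simpa using this
    rw [← this]; group
  have hkk : k * k = 1 := by
    rw [hcomm] at hinv
    nth_rewrite 2 [hinv]
    exact mul_inv_cancel k
  rcases sq_eq_one_cases h2 k hkk with h1 | h1
  · rw [h1]; rfl
  · rw [h1]; exact mk_zSL

/-- Commuting in `PSL₂` lifts to conjugation up to sign. -/
theorem conj_cases_of_commute_mk (k g : SpecialLinearGroup (Fin 2) F)
    (hgg : g * g = zSL F)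
    (hc : Commute (QuotientGroup.mk k : ProjectiveSpecialLinearGroup (Fin 2) F)
      (QuotientGroup.mk g)) : k * g * k⁻¹ = g ∨ k * g * k⁻¹ = g⁻¹ := by
  have hcm : k * g * k⁻¹ * g⁻¹ ∈ Subgroup.center (SpecialLinearGroup (Fin 2) F) := by
    rw [← mk_eq_one_iff']
    rw [QuotientGroup.mk_mul, QuotientGroup.mk_mul, QuotientGroup.mk_mul, QuotientGroup.mk_inv,
      QuotientGroup.mk_inv, hc.eq]
    group
  rcases center_cases _ hcm with h1 | h1
  · left
    have := congrArg (fun t => t * g) h1
    simpa using this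
  · right
    have := congrArg (fun t => t * g) h1
    simp only [inv_mul_cancel_right] at this
    rw [this, zSL_mul_eq_inv g hgg]

/-- An element of `PSL₂` commuting with two distinct commuting involutions lies in the four-group
they generate. -/
theorem mem_klein_of_commute (h2 : (2 : F) ≠ 0) (g h : SpecialLinearGroup (Fin 2) F)
    (hg0 : (g : Matrix (Fin 2) (Fin 2) F).trace = 0) (hh : h * g * h⁻¹ = g⁻¹)
    (c : ProjectiveSpecialLinearGroup (Fin 2) F)
    (hcx : Commute c (QuotientGroup.mk g)) (hcy : Commute c (QuotientGroup.mk h)) :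
    c = 1 ∨ c = QuotientGroup.mk g ∨ c = QuotientGroup.mk h ∨
      c = (QuotientGroup.mk g : ProjectiveSpecialLinearGroup (Fin 2) F) * QuotientGroup.mk h := by
  obtain ⟨k, rfl⟩ := QuotientGroup.mk_surjective c
  have hg := trace_zero_sq_ne_four h2 g hg0
  have hgg := mul_self_of_trace_eq_zero g hg0
  have hne : g ≠ g⁻¹ := by
    intro h'
    apply zSL_ne_one h2
    rw [← hgg]
    nth_rewrite 2 [h']
    exact mul_inv_cancel g
  have hhh := mul_self_eq_zSL_of_inverting h2 g hg hne h hh
  have hginv : g⁻¹ = zSL F * g := (zSL_mul_eq_inv g hgg).symm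
  have hhinv : h⁻¹ = zSL F * h := (zSL_mul_eq_inv h hhh).symm
  have hzc : ∀ t : SpecialLinearGroup (Fin 2) F, zSL F * t = t * zSL F :=
    fun t => (Subgroup.mem_center_iff.mp zSL_mem_center t).symm
  -- relations
  have r1 : h⁻¹ * g⁻¹ * h = g := by rw [← hh]; group
  have e1 : h * g = g⁻¹ * h := by rw [← hh]; group
  have e2 : g * h * g = h := by
    calc g * h * g = g * (h * g) := by group
      _ = g * (g⁻¹ * h) := by rw [e1]
      _ = h := by group
  have r2 : g⁻¹ * h⁻¹ * g = h := by
    calc g⁻¹ * h⁻¹ * g = zSL F * g * (zSL F * h) * g := by rw [← hginv, ← hhinv]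
      _ = zSL F * (g * zSL F) * h * g := by group
      _ = zSL F * (zSL F * g) * h * g := by rw [← hzc g]
      _ = (zSL F * zSL F) * (g * h * g) := by group
      _ = h := by rw [zSL_mul_self, one_mul, e2]
  -- the case `k g k⁻¹ = g`
  have aux : ∀ k : SpecialLinearGroup (Fin 2) F, k * g * k⁻¹ = g →
      (k * h * k⁻¹ = h ∨ k * h * k⁻¹ = h⁻¹) →
      (QuotientGroup.mk k : ProjectiveSpecialLinearGroup (Fin 2) F) = 1 ∨
        (QuotientGroup.mk k : ProjectiveSpecialLinearGroup (Fin 2) F) = QuotientGroup.mk g := by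
    intro k hkg hkh
    rcases hkh with hkh | hkh
    · left
      exact central_of_commute_pair h2 g h k hg0 hh hkg hkh
    · right
      have h1 : (g⁻¹ * k) * g * (g⁻¹ * k)⁻¹ = g := by
        calc (g⁻¹ * k) * g * (g⁻¹ * k)⁻¹ = g⁻¹ * (k * g * k⁻¹) * g := by group
          _ = g := by rw [hkg]; group
      have h3 : (g⁻¹ * k) * h * (g⁻¹ * k)⁻¹ = h := by
        calc (g⁻¹ * k) * h * (g⁻¹ * k)⁻¹ = g⁻¹ * (k * h * k⁻¹) * g := by group
          _ = h := by rw [hkh, r2]
      have h4 := central_of_commute_pair h2 g h (g⁻¹ * k) hg0 hh h1 h3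
      rw [QuotientGroup.mk_mul, QuotientGroup.mk_inv, inv_mul_eq_one] at h4
      exact h4.symm
  rcases conj_cases_of_commute_mk k g hgg hcx with hkg | hkg
  · rcases aux k hkg (conj_cases_of_commute_mk k h hhh hcy) with h1 | h1
    · left; exact h1
    · right; left; exact h1
  · have h1 : (h⁻¹ * k) * g * (h⁻¹ * k)⁻¹ = g := by
      calc (h⁻¹ * k) * g * (h⁻¹ * k)⁻¹ = h⁻¹ * (k * g * k⁻¹) * h := by group
        _ = g := by rw [hkg, r1]
    have h3 : (h⁻¹ * k) * h * (h⁻¹ * k)⁻¹ = h ∨ (h⁻¹ * k) * h * (h⁻¹ * k)⁻¹ = h⁻¹ := by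
      have e : (h⁻¹ * k) * h * (h⁻¹ * k)⁻¹ = h⁻¹ * (k * h * k⁻¹) * h := by group
      rcases conj_cases_of_commute_mk k h hhh hcy with hkh | hkh
      · left; rw [e, hkh]; group
      · right; rw [e, hkh]; group
    rcases aux (h⁻¹ * k) h1 h3 with h4 | h4
    · right; right; left
      rw [QuotientGroup.mk_mul, QuotientGroup.mk_inv, inv_mul_eq_one] at h4
      exact h4.symm
    · right; right; right
      rw [QuotientGroup.mk_mul, QuotientGroup.mk_inv, inv_mul_eq_iff_eq_mul] at h4
      rw [h4]
      -- `mk h * mk g = mk g * mk h`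
      have hfacts := inverting_pair_facts h2 g h hg0 hh
      exact hfacts.2.2.2.eq.symm

/-- A Klein four-subgroup of `PSL₂(F)` is its own centralizer. -/
theorem centralizer_kleinFour_PSL2 (h2 : (2 : F) ≠ 0)
    (V : Subgroup (ProjectiveSpecialLinearGroup (Fin 2) F)) (hV : IsKleinFour V) :
    Subgroup.centralizer (V : Set (ProjectiveSpecialLinearGroup (Fin 2) F)) = V := by
  classical
  have hcard : Nat.card V = 4 := hV.card_four
  have : Finite V := Nat.finite_of_card_ne_zero (by rw [hcard]; norm_num)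
  have : Fintype V := Fintype.ofFinite V
  have hcard' : Fintype.card V = 4 := by rw [← Nat.card_eq_fintype_card, hcard]
  -- two distinct non-identity elements
  obtain ⟨x, hx1⟩ : ∃ x : V, x ≠ 1 := by
    by_contra hcon
    push Not at hcon
    have : Fintype.card V ≤ 1 := Fintype.card_le_one_iff.mpr (fun a b => by rw [hcon a, hcon b])
    omega
  obtain ⟨y, hy1, hxy⟩ : ∃ y : V, y ≠ 1 ∧ x ≠ y := by
    by_contra hcon
    push Not at hcon
    have hsub : (Finset.univ : Finset V) ⊆ {1, x} := by
      intro a _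
      rw [Finset.mem_insert, Finset.mem_singleton]
      by_cases ha : a = 1
      · left; exact ha
      · right; exact (hcon a ha).symm
    have := Finset.card_le_card hsub
    rw [Finset.card_univ, hcard'] at this
    have := this.trans Finset.card_le_two
    omega
  have hcomm : ∀ a b : V, a * b = b * a := fun a b =>
    mul_comm_of_exponent_two hV.exponent_two a b
  have hxx : x * x = 1 := IsKleinFour.mul_self x
  have hyy : y * y = 1 := IsKleinFour.mul_self y
  have hox : orderOf (x : ProjectiveSpecialLinearGroup (Fin 2) F) = 2 := by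
    apply orderOf_eq_prime
    · rw [pow_two]
      exact congrArg Subtype.val hxx
    · intro h
      exact hx1 (Subtype.ext h)
  have hoy : orderOf (y : ProjectiveSpecialLinearGroup (Fin 2) F) = 2 := by
    apply orderOf_eq_prime
    · rw [pow_two]
      exact congrArg Subtype.val hyy
    · intro h
      exact hy1 (Subtype.ext h)
  have hne : (x : ProjectiveSpecialLinearGroup (Fin 2) F) ≠ y := fun h => hxy (Subtype.ext h)
  have hc : Commute (x : ProjectiveSpecialLinearGroup (Fin 2) F) y :=
    congrArg Subtype.val (hcomm x y)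
  obtain ⟨g, h, hg0, hh, hgx, hhy⟩ := exists_lift_pair h2 _ _ hox hoy hne hc
  apply le_antisymm
  · intro c hcV
    have hcx : Commute c (QuotientGroup.mk g) := by
      rw [hgx]
      exact (Subgroup.mem_centralizer_iff.mp hcV x x.2).symm
    have hcy : Commute c (QuotientGroup.mk h) := by
      rw [hhy]
      exact (Subgroup.mem_centralizer_iff.mp hcV y y.2).symm
    rcases mem_klein_of_commute h2 g h hg0 hh c hcx hcy with h1 | h1 | h1 | h1
    · rw [h1]; exact V.one_mem
    · rw [h1, hgx]; exact x.2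
    · rw [h1, hhy]; exact y.2
    · rw [h1, hgx, hhy]; exact V.mul_mem x.2 y.2
  · intro v hv
    rw [Subgroup.mem_centralizer_iff]
    intro w hw
    exact congrArg Subtype.val (hcomm ⟨w, hw⟩ ⟨v, hv⟩)

/-- Conjugates of Klein four-subgroups are Klein four-subgroups. -/
theorem isKleinFour_map_conj {G : Type*} [Group G] (V : Subgroup G) (hV : IsKleinFour V) (g : G) :
    IsKleinFour (V.map (MulAut.conj g).toMonoidHom) := by
  have hinj : Function.Injective (MulAut.conj g).toMonoidHom := (MulAut.conj g).injective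
  let e : V ≃* V.map (MulAut.conj g).toMonoidHom := V.equivMapOfInjective _ hinj
  exact ⟨by rw [← Nat.card_congr e.toEquiv]; exact hV.card_four,
    by rw [← Monoid.exponent_eq_of_mulEquiv e]; exact hV.exponent_two⟩

/-- The order of the normalizer of a Klein four-subgroup of `PSL₂(F)` divides `24`, and the
conjugates of `V` number `|G| / |N(V)|`. -/
theorem card_normalizer_kleinFour_dvd (h2 : (2 : F) ≠ 0)
    (V : Subgroup (ProjectiveSpecialLinearGroup (Fin 2) F)) (hV : IsKleinFour V) :
    Nat.card (Subgroup.normalizer (V : Set (ProjectiveSpecialLinearGroup (Fin 2) F))) ∣ 24 :=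
  card_normalizer_dvd_of_self_centralizing V hV.card_four (centralizer_kleinFour_PSL2 h2 V hV)

/-- `12 ≤ |N(V)|` for a Klein four-subgroup of `PSL₂(F)`. -/
theorem twelve_le_card_normalizer_kleinFour (h2 : (2 : F) ≠ 0)
    (V : Subgroup (ProjectiveSpecialLinearGroup (Fin 2) F)) (hV : IsKleinFour V) :
    12 ≤ Nat.card (Subgroup.normalizer (V : Set (ProjectiveSpecialLinearGroup (Fin 2) F))) := by
  classical
  have horb := card_conjugates_mul_card_normalizer V
  have h12 := twelve_mul_card_kleinFour_PSL2 (F := F) h2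
  have hle : Nat.card {K : Subgroup (ProjectiveSpecialLinearGroup (Fin 2) F) //
      ∃ g, K = V.map (MulAut.conj g).toMonoidHom} ≤
      Nat.card {W : Subgroup (ProjectiveSpecialLinearGroup (Fin 2) F) // IsKleinFour W} := by
    apply Nat.card_le_card_of_injective
      (fun K => (⟨K.1, by obtain ⟨g, hg⟩ := K.2; rw [hg]; exact isKleinFour_map_conj V hV g⟩ :
        {W : Subgroup (ProjectiveSpecialLinearGroup (Fin 2) F) // IsKleinFour W}))
    intro a b hab
    exact Subtype.ext (by simpa using congrArg Subtype.val hab)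
  have hGpos : 0 < Nat.card (ProjectiveSpecialLinearGroup (Fin 2) F) := Nat.card_pos
  by_contra hlt
  push Not at hlt
  have hNpos : 0 < Nat.card (Subgroup.normalizer
      (V : Set (ProjectiveSpecialLinearGroup (Fin 2) F))) := Nat.card_pos
  have hOpos : 0 < Nat.card {K : Subgroup (ProjectiveSpecialLinearGroup (Fin 2) F) //
      ∃ g, K = V.map (MulAut.conj g).toMonoidHom} := by
    rcases Nat.eq_zero_or_pos (Nat.card {K : Subgroup (ProjectiveSpecialLinearGroup (Fin 2) F) //
      ∃ g, K = V.map (MulAut.conj g).toMonoidHom}) with h | h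
    · rw [h, zero_mul] at horb; omega
    · exact h
  nlinarith

/-- `|N(V)| = 24` for `q ≡ ±1 (mod 8)`. -/
theorem card_normalizer_kleinFour_of_one_seven (h2 : (2 : F) ≠ 0)
    (hq : Fintype.card F % 8 = 1 ∨ Fintype.card F % 8 = 7)
    (V : Subgroup (ProjectiveSpecialLinearGroup (Fin 2) F)) (hV : IsKleinFour V) :
    Nat.card (Subgroup.normalizer (V : Set (ProjectiveSpecialLinearGroup (Fin 2) F))) = 24 := by
  have hP := card_PSL2_mul_two (F := F) h2
  have h16 : 16 ∣ Fintype.card F ^ 2 - 1 := by
    rcases hq with h | h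
    · obtain ⟨m, hm⟩ : ∃ m, Fintype.card F = 8 * m + 1 := ⟨Fintype.card F / 8, by omega⟩
      rw [hm]
      have : (8 * m + 1) ^ 2 = 16 * (4 * m ^ 2 + m) + 1 := by ring
      rw [this, Nat.add_sub_cancel]
      exact dvd_mul_right _ _
    · obtain ⟨m, hm⟩ : ∃ m, Fintype.card F = 8 * m + 7 := ⟨Fintype.card F / 8, by omega⟩
      rw [hm]
      have : (8 * m + 7) ^ 2 = 16 * (4 * m ^ 2 + 7 * m + 3) + 1 := by ring
      rw [this, Nat.add_sub_cancel]
      exact dvd_mul_right _ _
  have h8 : 8 ∣ Nat.card (ProjectiveSpecialLinearGroup (Fin 2) F) := by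
    have : 8 * 2 ∣ Nat.card (ProjectiveSpecialLinearGroup (Fin 2) F) * 2 := by
      rw [hP]
      exact Dvd.dvd.mul_left h16 _
    exact Nat.dvd_of_mul_dvd_mul_right (by norm_num) this
  have hd8 := eight_dvd_card_normalizer h8 V hV.card_four
  have hd24 := card_normalizer_kleinFour_dvd h2 V hV
  have hd12 := twelve_le_card_normalizer_kleinFour h2 V hV
  have hle : Nat.card (Subgroup.normalizer
      (V : Set (ProjectiveSpecialLinearGroup (Fin 2) F))) ≤ 24 := Nat.le_of_dvd (by norm_num) hd24
  obtain ⟨c, hc⟩ := hd8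
  have hc23 : c = 2 ∨ c = 3 := by omega
  rcases hc23 with rfl | rfl
  · exfalso
    rw [hc] at hd24
    norm_num at hd24
  · omega

end Cfsg.Agent.Lib.Helper13
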