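/-
helper13: Sylow 2-subgroups of `SL₂(F)`, `F` finite of odd order: they sit in the normalizer of a
torus `C(a)`, `a² = -1`; consequences for their centralizer and normalizer.
-/
import Mathlib
import Cfsg.Agent.Lib.Helper13.SL2TorusClasses
import Cfsg.Agent.Lib.Helper13.PSL2KleinNorm

set_option autoImplicit false

namespace Cfsg.Agent.Lib.Helper13

open Matrix

variable {F : Type*} [Field F] [Fintype F]

section torus

variable (h2 : (2 : F) ≠ 0) (a : SpecialLinearGroup (Fin 2) F)
  (ha0 : (a : Matrix (Fin 2) (Fin 2) F).trace = 0)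

omit [Fintype F] in
include h2 ha0 in
theorem ne_inv_of_trace_zero : a ≠ a⁻¹ := by
  intro h
  have haa := mul_self_of_trace_eq_zero a ha0
  apply zSL_ne_one h2
  rw [← haa]
  nth_rewrite 2 [h]
  exact mul_inv_cancel a

include h2 ha0 in
/-- Elements of the torus `C(a)` commute. -/
theorem commute_of_mem_torus (x t : SpecialLinearGroup (Fin 2) F)
    (hx : x ∈ Subgroup.centralizer ({a} : Set (SpecialLinearGroup (Fin 2) F)))
    (ht : t ∈ Subgroup.centralizer ({a} : Set (SpecialLinearGroup (Fin 2) F))) :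
    x * t * x⁻¹ = t := by
  have hg := trace_zero_sq_ne_four h2 a ha0
  have hcc := centralizer_centralizer_eq a hg
  rw [← hcc] at hx
  rw [Subgroup.mem_centralizer_iff] at hx
  have := hx t ht
  rw [← this, mul_inv_cancel_right]

include h2 ha0 in
/-- `N(C(a))` normalizes every cyclic subgroup of `C(a)`. -/
theorem normalizer_torus_le_normalizer_zpowers (t : SpecialLinearGroup (Fin 2) F)
    (ht : t ∈ Subgroup.centralizer ({a} : Set (SpecialLinearGroup (Fin 2) F))) :
    Subgroup.normalizer ((Subgroup.centralizer ({a} : Set (SpecialLinearGroup (Fin 2) F)) :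
      Subgroup (SpecialLinearGroup (Fin 2) F)) : Set (SpecialLinearGroup (Fin 2) F)) ≤
    Subgroup.normalizer ((Subgroup.zpowers t : Subgroup (SpecialLinearGroup (Fin 2) F)) :
      Set (SpecialLinearGroup (Fin 2) F)) := by
  have hg := trace_zero_sq_ne_four h2 a ha0
  intro x hx
  rw [Subgroup.mem_normalizer_iff_map_conj_eq]
  change (Subgroup.zpowers t).map (MulAut.conj x).toMonoidHom = Subgroup.zpowers t
  rw [map_conj_zpowers]
  by_cases hxT : x ∈ Subgroup.centralizer ({a} : Set (SpecialLinearGroup (Fin 2) F))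
  · rw [commute_of_mem_torus h2 a ha0 x t hxT ht]
  · have hinv := inverts_of_mem_normalizer_not_mem a hg x hx hxT
    rw [conj_eq_inv_of_mem_centralizer a hg x hinv t ht, Subgroup.zpowers_inv]

variable (S : Sylow 2 (SpecialLinearGroup (Fin 2) F))
  (hSN : (S : Subgroup (SpecialLinearGroup (Fin 2) F)) ≤
    Subgroup.normalizer ((Subgroup.centralizer ({a} : Set (SpecialLinearGroup (Fin 2) F)) :
      Subgroup (SpecialLinearGroup (Fin 2) F)) : Set (SpecialLinearGroup (Fin 2) F)))

include h2 ha0 hSN in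
/-- Every `2`-element of the torus lies in `S`. -/
theorem two_elt_mem_sylow (t : SpecialLinearGroup (Fin 2) F)
    (ht : t ∈ Subgroup.centralizer ({a} : Set (SpecialLinearGroup (Fin 2) F)))
    (k : ℕ) (htk : t ^ (2 ^ k) = 1) : t ∈ (S : Subgroup (SpecialLinearGroup (Fin 2) F)) := by
  have : Fact (Nat.Prime 2) := ⟨Nat.prime_two⟩
  obtain ⟨j, -, hj⟩ := (Nat.dvd_prime_pow Nat.prime_two).mp (orderOf_dvd_of_pow_eq_one htk)
  have hzp : IsPGroup 2 (Subgroup.zpowers t) :=
    IsPGroup.of_card (n := j) (by rw [Nat.card_zpowers]; exact hj)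
  have hle : (S : Subgroup (SpecialLinearGroup (Fin 2) F)) ≤
      Subgroup.normalizer ((Subgroup.zpowers t : Subgroup (SpecialLinearGroup (Fin 2) F)) :
      Set (SpecialLinearGroup (Fin 2) F)) :=
    hSN.trans (normalizer_torus_le_normalizer_zpowers h2 a ha0 t ht)
  have hp := S.isPGroup'.to_sup_of_normal_right' hzp hle
  have heq := S.is_maximal' hp le_sup_left
  have : Subgroup.zpowers t ≤ (S : Subgroup (SpecialLinearGroup (Fin 2) F)) := by
    rw [← heq]
    exact le_sup_right
  exact this (Subgroup.mem_zpowers t)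

include h2 ha0 hSN in
theorem zSL_mem_sylow : zSL F ∈ (S : Subgroup (SpecialLinearGroup (Fin 2) F)) := by
  apply two_elt_mem_sylow h2 a ha0 S hSN (zSL F) (zSL_mem_centralizer a) 1
  rw [pow_one, pow_two, zSL_mul_self]

include h2 ha0 hSN in
theorem self_mem_sylow : a ∈ (S : Subgroup (SpecialLinearGroup (Fin 2) F)) := by
  apply two_elt_mem_sylow h2 a ha0 S hSN a (self_mem_centralizer a) 2
  have haa := mul_self_of_trace_eq_zero a ha0
  calc a ^ (2 ^ 2) = (a * a) * (a * a) := by
        rw [show (2 ^ 2 : ℕ) = 4 by norm_num, pow_succ, pow_succ, pow_succ, pow_one, mul_assoc,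
          mul_assoc]
    _ = 1 := by rw [haa, zSL_mul_self]

include h2 ha0 in
/-- `S` is not contained in the torus. -/
theorem exists_mem_sylow_not_mem_torus :
    ∃ s ∈ (S : Subgroup (SpecialLinearGroup (Fin 2) F)),
      s ∉ Subgroup.centralizer ({a} : Set (SpecialLinearGroup (Fin 2) F)) := by
  have : Fact (Nat.Prime 2) := ⟨Nat.prime_two⟩
  by_contra hcon
  push Not at hcon
  have hg := trace_zero_sq_ne_four h2 a ha0
  have hne := ne_inv_of_trace_zero h2 a ha0
  obtain ⟨h, hh⟩ := exists_inverting a hg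
  have hh' : h⁻¹ * a * h⁻¹⁻¹ = a⁻¹ := by
    rw [inv_inv]
    have : a = h⁻¹ * a⁻¹ * h := by rw [← hh]; group
    calc h⁻¹ * a * h = (h⁻¹ * a⁻¹ * h)⁻¹ := by group
      _ = a⁻¹ := by rw [← this]
  have hhh := mul_self_eq_zSL_of_inverting h2 a hg hne h hh
  have hnotT : h ∉ Subgroup.centralizer ({a} : Set (SpecialLinearGroup (Fin 2) F)) := by
    intro hc
    rw [mem_centralizer_singleton_iff'] at hc
    exact hne (hc.symm.trans hh)
  -- `h` normalizes `S`
  have hnorm : h ∈ Subgroup.normalizer ((S : Subgroup (SpecialLinearGroup (Fin 2) F)) :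
      Set (SpecialLinearGroup (Fin 2) F)) := by
    rw [Subgroup.mem_normalizer_iff]
    intro n
    constructor
    · intro hn
      rw [conj_eq_inv_of_mem_centralizer a hg h hh n (hcon n hn)]
      exact inv_mem hn
    · intro hn
      have hm := conj_eq_inv_of_mem_centralizer a hg h⁻¹ hh' _ (hcon _ hn)
      have e : h⁻¹ * (h * n * h⁻¹) * h⁻¹⁻¹ = n := by group
      rw [e] at hm
      rw [hm]
      exact inv_mem hn
  have hzp : IsPGroup 2 (Subgroup.zpowers h) := by
    apply IsPGroup.of_card (n := 2)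
    rw [Nat.card_zpowers]
    apply orderOf_eq_prime_pow (n := 1)
    · rw [pow_one, pow_two, hhh]
      exact zSL_ne_one h2
    · calc h ^ (2 ^ (1 + 1)) = (h * h) * (h * h) := by
            rw [show (2 ^ (1 + 1) : ℕ) = 4 by norm_num, pow_succ, pow_succ, pow_succ, pow_one,
              mul_assoc, mul_assoc]
        _ = 1 := by rw [hhh, zSL_mul_self]
  have hle : Subgroup.zpowers h ≤ Subgroup.normalizer
      ((S : Subgroup (SpecialLinearGroup (Fin 2) F)) : Set (SpecialLinearGroup (Fin 2) F)) := by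
    rw [Subgroup.zpowers_le]
    exact hnorm
  have hp := hzp.to_sup_of_normal_right' S.isPGroup' hle
  have heq := S.is_maximal' hp le_sup_right
  have : Subgroup.zpowers h ≤ (S : Subgroup (SpecialLinearGroup (Fin 2) F)) := by
    rw [← heq]
    exact le_sup_left
  exact hnotT (hcon h (this (Subgroup.mem_zpowers h)))

include h2 ha0 hSN in
/-- The centralizer of `S` is the centre. -/
theorem centralizer_sylow_two_eq :
    Subgroup.centralizer ((S : Subgroup (SpecialLinearGroup (Fin 2) F)) :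
      Set (SpecialLinearGroup (Fin 2) F)) = Subgroup.center (SpecialLinearGroup (Fin 2) F) := by
  have hg := trace_zero_sq_ne_four h2 a ha0
  apply le_antisymm
  · intro x hx
    rw [Subgroup.mem_centralizer_iff] at hx
    have haS := self_mem_sylow h2 a ha0 S hSN
    obtain ⟨s, hsS, hsT⟩ := exists_mem_sylow_not_mem_torus h2 a ha0 S
    have hxT : x ∈ Subgroup.centralizer ({a} : Set (SpecialLinearGroup (Fin 2) F)) := by
      rw [mem_centralizer_singleton_comm]
      exact (hx a haS).symm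
    have hinv := inverts_of_mem_normalizer_not_mem a hg s (hSN hsS) hsT
    have h1 := conj_eq_inv_of_mem_centralizer a hg s hinv x hxT
    have h3 : s * x * s⁻¹ = x := by rw [hx s hsS, mul_inv_cancel_right]
    have hxx : x * x = 1 := by
      have : x = x⁻¹ := h3.symm.trans h1
      nth_rewrite 2 [this]
      exact mul_inv_cancel x
    rcases sq_eq_one_cases h2 x hxx with h | h
    · rw [h]; exact one_mem _
    · rw [h]; exact zSL_mem_center
  · exact Subgroup.center_le_centralizer _

omit [Fintype F] in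
theorem inv_inverts_of_inverts (s : SpecialLinearGroup (Fin 2) F) (hs : s * a * s⁻¹ = a⁻¹) :
    s⁻¹ * a * s⁻¹⁻¹ = a⁻¹ := by
  rw [inv_inv]
  have : a = s⁻¹ * a⁻¹ * s := by rw [← hs]; group
  calc s⁻¹ * a * s = (s⁻¹ * a⁻¹ * s)⁻¹ := by group
    _ = a⁻¹ := by rw [← this]

include h2 ha0 hSN in
/-- Elements of the torus normalizing `S` lie in `S`. -/
theorem mem_sylow_of_mem_normalizer_of_mem_torus (g : SpecialLinearGroup (Fin 2) F)
    (hgN : g ∈ Subgroup.normalizer ((S : Subgroup (SpecialLinearGroup (Fin 2) F)) :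
      Set (SpecialLinearGroup (Fin 2) F)))
    (hgT : g ∈ Subgroup.centralizer ({a} : Set (SpecialLinearGroup (Fin 2) F))) :
    g ∈ (S : Subgroup (SpecialLinearGroup (Fin 2) F)) := by
  have hg := trace_zero_sq_ne_four h2 a ha0
  obtain ⟨s, hsS, hsT⟩ := exists_mem_sylow_not_mem_torus h2 a ha0 S
  have hinv := inverts_of_mem_normalizer_not_mem a hg s (hSN hsS) hsT
  have hm : g * s * g⁻¹ ∈ (S : Subgroup (SpecialLinearGroup (Fin 2) F)) :=
    ((Subgroup.mem_normalizer_iff.mp hgN) s).mp hsS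
  have h1 : s * g⁻¹ * s⁻¹ = g := by
    rw [conj_eq_inv_of_mem_centralizer a hg s hinv g⁻¹ (inv_mem hgT), inv_inv]
  have hgg : g * g = (g * s * g⁻¹) * s⁻¹ := by
    nth_rewrite 2 [← h1]
    group
  have hggS : g * g ∈ (S : Subgroup (SpecialLinearGroup (Fin 2) F)) := by
    rw [hgg]
    exact mul_mem hm (inv_mem hsS)
  obtain ⟨k, hk⟩ := S.isPGroup' ⟨g * g, hggS⟩
  have hk' : (g * g) ^ (2 ^ k) = 1 := by
    have := congrArg Subtype.val hk
    simpa using this
  apply two_elt_mem_sylow h2 a ha0 S hSN g hgT (k + 1)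
  rw [pow_succ, mul_comm, pow_mul, pow_two]
  exact hk'

include h2 ha0 hSN in
/-- Elements of `N(T)` normalizing `S` lie in `S`. -/
theorem mem_sylow_of_mem_normalizer_of_mem_normalizer_torus (g : SpecialLinearGroup (Fin 2) F)
    (hgN : g ∈ Subgroup.normalizer ((S : Subgroup (SpecialLinearGroup (Fin 2) F)) :
      Set (SpecialLinearGroup (Fin 2) F)))
    (hgNT : g ∈ Subgroup.normalizer ((Subgroup.centralizer
      ({a} : Set (SpecialLinearGroup (Fin 2) F)) :
      Subgroup (SpecialLinearGroup (Fin 2) F)) : Set (SpecialLinearGroup (Fin 2) F))) :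
    g ∈ (S : Subgroup (SpecialLinearGroup (Fin 2) F)) := by
  have hg := trace_zero_sq_ne_four h2 a ha0
  by_cases hgT : g ∈ Subgroup.centralizer ({a} : Set (SpecialLinearGroup (Fin 2) F))
  · exact mem_sylow_of_mem_normalizer_of_mem_torus h2 a ha0 S hSN g hgN hgT
  · obtain ⟨s, hsS, hsT⟩ := exists_mem_sylow_not_mem_torus h2 a ha0 S
    have hinv := inverts_of_mem_normalizer_not_mem a hg s (hSN hsS) hsT
    have hinv' := inv_inverts_of_inverts a s hinv
    rw [inv_inv] at hinv'
    have hginv := inverts_of_mem_normalizer_not_mem a hg g hgNT hgT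
    have hT' : g * s⁻¹ ∈ Subgroup.centralizer ({a} : Set (SpecialLinearGroup (Fin 2) F)) := by
      rw [mem_centralizer_singleton_iff']
      calc g * s⁻¹ * a * (g * s⁻¹)⁻¹ = g * (s⁻¹ * a * s) * g⁻¹ := by group
        _ = (g * a * g⁻¹)⁻¹ := by rw [hinv']; group
        _ = a := by rw [hginv, inv_inv]
    have hN' : g * s⁻¹ ∈ Subgroup.normalizer ((S : Subgroup (SpecialLinearGroup (Fin 2) F)) :
        Set (SpecialLinearGroup (Fin 2) F)) :=
      mul_mem hgN (inv_mem (Subgroup.le_normalizer hsS))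
    have := mem_sylow_of_mem_normalizer_of_mem_torus h2 a ha0 S hSN _ hN' hT'
    have e : g = (g * s⁻¹) * s := by group
    rw [e]
    exact mul_mem this hsS

include h2 ha0 hSN in
/-- If the torus has an element of order `8`, then `S` is self-normalizing. -/
theorem normalizer_sylow_two_eq_of_order_eight (c₀ : SpecialLinearGroup (Fin 2) F)
    (hc₀T : c₀ ∈ Subgroup.centralizer ({a} : Set (SpecialLinearGroup (Fin 2) F)))
    (hc₀ : orderOf c₀ = 8) :
    Subgroup.normalizer ((S : Subgroup (SpecialLinearGroup (Fin 2) F)) :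
      Set (SpecialLinearGroup (Fin 2) F)) = (S : Subgroup (SpecialLinearGroup (Fin 2) F)) := by
  have hg := trace_zero_sq_ne_four h2 a ha0
  have hne := ne_inv_of_trace_zero h2 a ha0
  apply le_antisymm _ Subgroup.le_normalizer
  intro g hgN
  have hc₀S : c₀ ∈ (S : Subgroup (SpecialLinearGroup (Fin 2) F)) := by
    apply two_elt_mem_sylow h2 a ha0 S hSN c₀ hc₀T 3
    rw [show (2 ^ 3 : ℕ) = 8 by norm_num, ← hc₀]
    exact pow_orderOf_eq_one c₀
  have hc₀4 : c₀ ^ 4 ≠ 1 := by
    intro h
    have := orderOf_dvd_of_pow_eq_one h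
    rw [hc₀] at this
    omega
  -- elements `c` with `c⁴ ≠ 1` are non-scalar
  have hns : ∀ c : SpecialLinearGroup (Fin 2) F, c ^ 4 ≠ 1 →
      ¬ ((c : Matrix (Fin 2) (Fin 2) F) 0 1 = 0 ∧ (c : Matrix (Fin 2) (Fin 2) F) 1 0 = 0 ∧
      (c : Matrix (Fin 2) (Fin 2) F) 0 0 = (c : Matrix (Fin 2) (Fin 2) F) 1 1) := by
    intro c hc4 hs
    apply hc4
    have hcc : c * c = 1 := by
      apply Subtype.ext
      rw [coe_mul_self]
      rcases scalar_cases c hs with h | h
      · rw [h, mul_one]; rfl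
      · rw [h, neg_mul_neg, mul_one]; rfl
    calc c ^ 4 = (c * c) * (c * c) := by
          rw [pow_succ, pow_succ, pow_succ, pow_one, mul_assoc, mul_assoc]
      _ = 1 := by rw [hcc, mul_one]
  set c₁ := g * c₀ * g⁻¹ with hc₁
  have hc₁S : c₁ ∈ (S : Subgroup (SpecialLinearGroup (Fin 2) F)) :=
    ((Subgroup.mem_normalizer_iff.mp hgN) c₀).mp hc₀S
  have hc₁4 : c₁ ^ 4 ≠ 1 := by
    intro h
    apply hc₀4
    rw [hc₁, conj_pow] at h
    have : c₀ ^ 4 = g⁻¹ * (g * c₀ ^ 4 * g⁻¹) * g := by group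
    rw [this, h]
    group
  have hc₁T : c₁ ∈ Subgroup.centralizer ({a} : Set (SpecialLinearGroup (Fin 2) F)) := by
    by_contra hnot
    apply hc₁4
    have hinv := inverts_of_mem_normalizer_not_mem a hg c₁ (hSN hc₁S) hnot
    have hcc := mul_self_eq_zSL_of_inverting h2 a hg hne c₁ hinv
    calc c₁ ^ 4 = (c₁ * c₁) * (c₁ * c₁) := by
          rw [pow_succ, pow_succ, pow_succ, pow_one, mul_assoc, mul_assoc]
      _ = 1 := by rw [hcc, zSL_mul_self]
  have hC₁ := centralizer_eq_of_mem a hg c₁ hc₁T (hns c₁ hc₁4)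
  have hC₀ := centralizer_eq_of_mem a hg c₀ hc₀T (hns c₀ hc₀4)
  have hgNT : g ∈ Subgroup.normalizer ((Subgroup.centralizer
      ({a} : Set (SpecialLinearGroup (Fin 2) F)) :
      Subgroup (SpecialLinearGroup (Fin 2) F)) : Set (SpecialLinearGroup (Fin 2) F)) := by
    rw [mem_normalizer_centralizer_iff a hg]
    apply conj_eq_cases a hg
    rw [← hC₁, hc₁, conj_mem_centralizer_iff, hC₀]
    exact self_mem_centralizer a
  exact mem_sylow_of_mem_normalizer_of_mem_normalizer_torus h2 a ha0 S hSN g hgN hgNT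

end torus

section general

/-- Cardinality of a preimage under the quotient map. -/
theorem card_comap_mk' {G : Type*} [Group G] [Finite G] (Z : Subgroup G) [Z.Normal]
    (K : Subgroup (G ⧸ Z)) :
    Nat.card (K.comap (QuotientGroup.mk' Z)) = Nat.card K * Nat.card Z := by
  have h1 : (K.comap (QuotientGroup.mk' Z)).index = K.index :=
    Subgroup.index_comap_of_surjective K (QuotientGroup.mk'_surjective Z)
  have h2 := (K.comap (QuotientGroup.mk' Z)).card_mul_index
  have h3 := K.card_mul_index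
  have h4 := Subgroup.card_eq_card_quotient_mul_card_subgroup Z
  have hpos : 0 < K.index := Nat.pos_of_ne_zero Subgroup.index_ne_zero_of_finite
  rw [h1, h4, ← h3] at h2
  have : Nat.card (K.comap (QuotientGroup.mk' Z)) * K.index =
      (Nat.card K * Nat.card Z) * K.index := by rw [h2]; ring
  exact Nat.eq_of_mul_eq_mul_right hpos this

/-- A cyclic group has elements of every order dividing the group order. -/
theorem exists_orderOf_eq_of_dvd_card {G : Type*} [Group G] [Finite G] [IsCyclic G] (d : ℕ)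
    (hd : d ∣ Nat.card G) : ∃ g : G, orderOf g = d := by
  obtain ⟨x, hx⟩ := IsCyclic.exists_ofOrder_eq_natCard (α := G)
  obtain ⟨e, he⟩ := hd
  have hpos : 0 < Nat.card G := Nat.card_pos
  have he0 : e ≠ 0 := by
    rintro rfl
    rw [mul_zero] at he
    omega
  have hd0 : d ≠ 0 := by
    rintro rfl
    rw [zero_mul] at he
    omega
  refine ⟨x ^ e, ?_⟩
  rw [orderOf_pow_of_dvd he0 (by rw [hx, he]; exact dvd_mul_left e d), hx, he]
  exact Nat.mul_div_cancel d (Nat.pos_of_ne_zero he0)

end general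

section lemmaA

/-- The index of the normalizer of the torus `C(a)`, `a² = -1`, is odd. -/
theorem not_two_dvd_index_normalizer_torus (h2 : (2 : F) ≠ 0)
    (hodd : Odd (Fintype.card F)) (a : SpecialLinearGroup (Fin 2) F)
    (ha0 : (a : Matrix (Fin 2) (Fin 2) F).trace = 0) :
    ¬ 2 ∣ (Subgroup.normalizer ((Subgroup.centralizer
      ({a} : Set (SpecialLinearGroup (Fin 2) F)) :
      Subgroup (SpecialLinearGroup (Fin 2) F)) : Set (SpecialLinearGroup (Fin 2) F))).index := by
  have hg := trace_zero_sq_ne_four h2 a ha0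
  have hne := ne_inv_of_trace_zero h2 a ha0
  have hN := card_normalizer_centralizer a hg hne
  have hT := card_centralizer_of_trace_zero h2 a ha0
  have hG := card_SL2 (F := F)
  have hci := (Subgroup.normalizer ((Subgroup.centralizer
      ({a} : Set (SpecialLinearGroup (Fin 2) F)) :
      Subgroup (SpecialLinearGroup (Fin 2) F)) : Set (SpecialLinearGroup (Fin 2) F))).card_mul_index
  rw [hN, hG] at hci
  set idx := (Subgroup.normalizer ((Subgroup.centralizer
      ({a} : Set (SpecialLinearGroup (Fin 2) F)) :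
      Subgroup (SpecialLinearGroup (Fin 2) F)) : Set (SpecialLinearGroup (Fin 2) F))).index
  have hq1 : 1 < Fintype.card F := Fintype.one_lt_card
  have hq4 : Fintype.card F % 4 = 1 ∨ Fintype.card F % 4 = 3 := by
    obtain ⟨r, hr⟩ := hodd
    omega
  rcases hq4 with h | h
  · obtain ⟨j, hj⟩ : ∃ j, Fintype.card F = 4 * j + 1 := ⟨Fintype.card F / 4, by omega⟩
    rw [hT.1 h, hj] at hci
    have hj0 : 0 < j := by omega
    have e1 : (4 * j + 1) ^ 2 - 1 = 8 * j * (2 * j + 1) := by
      have : (4 * j + 1) ^ 2 = 8 * j * (2 * j + 1) + 1 := by ring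
      omega
    have e2 : 4 * j + 1 - 1 = 4 * j := by omega
    rw [e1, e2] at hci
    have : (8 * j) * idx = (8 * j) * ((4 * j + 1) * (2 * j + 1)) := by
      rw [show 8 * j * idx = 2 * (4 * j) * idx by ring, hci]; ring
    have hidx : idx = (4 * j + 1) * (2 * j + 1) :=
      Nat.eq_of_mul_eq_mul_left (by omega) this
    rw [hidx, Nat.Prime.dvd_mul Nat.prime_two]
    omega
  · obtain ⟨j, hj⟩ : ∃ j, Fintype.card F = 4 * j + 3 := ⟨Fintype.card F / 4, by omega⟩
    rw [hT.2 h, hj] at hci
    have e1 : (4 * j + 3) ^ 2 - 1 = 8 * (j + 1) * (2 * j + 1) := by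
      have : (4 * j + 3) ^ 2 = 8 * (j + 1) * (2 * j + 1) + 1 := by ring
      omega
    rw [e1] at hci
    have : (8 * (j + 1)) * idx = (8 * (j + 1)) * ((4 * j + 3) * (2 * j + 1)) := by
      rw [show 8 * (j + 1) * idx = 2 * (4 * j + 3 + 1) * idx by ring, hci]; ring
    have hidx : idx = (4 * j + 3) * (2 * j + 1) :=
      Nat.eq_of_mul_eq_mul_left (by omega) this
    rw [hidx, Nat.Prime.dvd_mul Nat.prime_two]
    omega

/-- Every Sylow 2-subgroup of `SL₂(F)`, `q` odd, lies in the normalizer of a torus `C(a)`,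
`a² = -1`. -/
theorem exists_torus_normalizer_ge_sylow (hodd : Odd (Fintype.card F))
    (S : Sylow 2 (SpecialLinearGroup (Fin 2) F)) :
    ∃ a : SpecialLinearGroup (Fin 2) F, (a : Matrix (Fin 2) (Fin 2) F).trace = 0 ∧
      (S : Subgroup (SpecialLinearGroup (Fin 2) F)) ≤
        Subgroup.normalizer ((Subgroup.centralizer ({a} : Set (SpecialLinearGroup (Fin 2) F)) :
          Subgroup (SpecialLinearGroup (Fin 2) F)) : Set (SpecialLinearGroup (Fin 2) F)) := by
  classical
  have : Fact (Nat.Prime 2) := ⟨Nat.prime_two⟩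
  have h2 : (2 : F) ≠ 0 := two_ne_zero_of_odd_card hodd
  set a₀ : SpecialLinearGroup (Fin 2) F := traceSL 0 with ha₀
  have ha₀0 : (a₀ : Matrix (Fin 2) (Fin 2) F).trace = 0 := trace_traceSL 0
  have hg := trace_zero_sq_ne_four h2 a₀ ha₀0
  set N₀ := Subgroup.normalizer ((Subgroup.centralizer
      ({a₀} : Set (SpecialLinearGroup (Fin 2) F)) :
      Subgroup (SpecialLinearGroup (Fin 2) F)) : Set (SpecialLinearGroup (Fin 2) F)) with hN₀
  have hidx : ¬ 2 ∣ N₀.index := not_two_dvd_index_normalizer_torus h2 hodd a₀ ha₀0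
  obtain ⟨P₀⟩ := (inferInstance : Nonempty (Sylow 2 N₀))
  have hP : IsPGroup 2 ((P₀ : Subgroup N₀).map N₀.subtype) := P₀.isPGroup'.map _
  have hPidx : ¬ 2 ∣ ((P₀ : Subgroup N₀).map N₀.subtype).index := by
    rw [Subgroup.index_map_subtype, Nat.Prime.dvd_mul Nat.prime_two]
    rintro (h | h)
    · exact P₀.not_dvd_index h
    · exact hidx h
  obtain ⟨g, hgS⟩ := sylow_conj_exists (hP.toSylow hPidx) S
  rw [IsPGroup.toSylow_coe] at hgS
  refine ⟨g * a₀ * g⁻¹, ?_, ?_⟩
  · rw [trace_conj_SL]; exact ha₀0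
  · have hg' : ((g * a₀ * g⁻¹ : SpecialLinearGroup (Fin 2) F) :
        Matrix (Fin 2) (Fin 2) F).trace ^ 2 ≠ 4 := by
      rw [trace_conj_SL]; exact hg
    intro x hx
    rw [hgS] at hx
    obtain ⟨y, hy, rfl⟩ := hx
    obtain ⟨y', -, rfl⟩ := hy
    have hyN := (mem_normalizer_centralizer_iff a₀ hg (y' : SpecialLinearGroup (Fin 2) F)).mp y'.2
    rw [mem_normalizer_centralizer_iff _ hg']
    change g * (N₀.subtype y') * g⁻¹ * (g * a₀ * g⁻¹) * (g * (N₀.subtype y') * g⁻¹)⁻¹ = _ ∨
      g * (N₀.subtype y') * g⁻¹ * (g * a₀ * g⁻¹) * (g * (N₀.subtype y') * g⁻¹)⁻¹ = _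
    have e : g * (N₀.subtype y') * g⁻¹ * (g * a₀ * g⁻¹) * (g * (N₀.subtype y') * g⁻¹)⁻¹ =
        g * ((y' : SpecialLinearGroup (Fin 2) F) * a₀ * (y' : SpecialLinearGroup (Fin 2) F)⁻¹) *
          g⁻¹ := by
      rw [Subgroup.coe_subtype]; group
    rw [e]
    rcases hyN with h | h
    · left; rw [h]
    · right; rw [h]; group

end lemmaA

end Cfsg.Agent.Lib.Helper13
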