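/-
helper13: the normalizer of a Sylow 2-subgroup of `SL₂(F)`, `q ≡ ±3 (mod 8)`, has order `24`.
-/
import Mathlib
import Cfsg.Agent.Lib.Helper13.SL2SylowTwoNorm
import Cfsg.Agent.S0808

set_option autoImplicit false

namespace Cfsg.Agent.Lib.Helper13

open Matrix

variable {F : Type*} [Field F] [Fintype F]

/-- `|S| = 8` for `q ≡ ±3 (mod 8)`. -/
theorem card_sylow_two_SL2_of_three_five (hq : Fintype.card F % 8 = 3 ∨ Fintype.card F % 8 = 5)
    (S : Sylow 2 (SpecialLinearGroup (Fin 2) F)) :
    Nat.card (S : Subgroup (SpecialLinearGroup (Fin 2) F)) = 8 := by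
  have : Fact (Nat.Prime 2) := ⟨Nat.prime_two⟩
  have hG := card_SL2 (F := F)
  have hfac : (Nat.card (SpecialLinearGroup (Fin 2) F)).factorization 2 = 3 := by
    obtain ⟨k, hk, hkodd⟩ : ∃ k, Nat.card (SpecialLinearGroup (Fin 2) F) = 8 * k ∧ k % 2 = 1 := by
      rcases hq with h | h
      · obtain ⟨m, hm⟩ : ∃ m, Fintype.card F = 8 * m + 3 := ⟨Fintype.card F / 8, by omega⟩
        refine ⟨(8 * m + 3) * ((4 * m + 1) * (2 * m + 1)), ?_, ?_⟩
        · rw [hG, hm]
          have : (8 * m + 3) ^ 2 - 1 = 8 * ((4 * m + 1) * (2 * m + 1)) := by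
            have : (8 * m + 3) ^ 2 = 8 * ((4 * m + 1) * (2 * m + 1)) + 1 := by ring
            omega
          rw [this]; ring
        · rw [Nat.mul_mod, Nat.mul_mod (4 * m + 1)]
          have e1 : (8 * m + 3) % 2 = 1 := by omega
          have e2 : (4 * m + 1) % 2 = 1 := by omega
          have e3 : (2 * m + 1) % 2 = 1 := by omega
          rw [e1, e2, e3]
      · obtain ⟨m, hm⟩ : ∃ m, Fintype.card F = 8 * m + 5 := ⟨Fintype.card F / 8, by omega⟩
        refine ⟨(8 * m + 5) * ((2 * m + 1) * (4 * m + 3)), ?_, ?_⟩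
        · rw [hG, hm]
          have : (8 * m + 5) ^ 2 - 1 = 8 * ((2 * m + 1) * (4 * m + 3)) := by
            have : (8 * m + 5) ^ 2 = 8 * ((2 * m + 1) * (4 * m + 3)) + 1 := by ring
            omega
          rw [this]; ring
        · rw [Nat.mul_mod, Nat.mul_mod (2 * m + 1)]
          have e1 : (8 * m + 5) % 2 = 1 := by omega
          have e2 : (2 * m + 1) % 2 = 1 := by omega
          have e3 : (4 * m + 3) % 2 = 1 := by omega
          rw [e1, e2, e3]
    have hk0 : k ≠ 0 := by
      rintro rfl
      omega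
    rw [hk, Nat.factorization_mul (by norm_num) hk0]
    have h8 : (8 : ℕ) = 2 ^ 3 := by norm_num
    rw [h8, Nat.Prime.factorization_pow Nat.prime_two]
    have hk2 : k.factorization 2 = 0 := by
      apply Nat.factorization_eq_zero_of_not_dvd
      omega
    simp [hk2]
  have := S.card_eq_multiplicity
  rw [hfac] at this
  rw [this]
  norm_num

section torus

variable (h2 : (2 : F) ≠ 0) (a : SpecialLinearGroup (Fin 2) F)
  (ha0 : (a : Matrix (Fin 2) (Fin 2) F).trace = 0)
  (S : Sylow 2 (SpecialLinearGroup (Fin 2) F))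
  (hSN : (S : Subgroup (SpecialLinearGroup (Fin 2) F)) ≤
    Subgroup.normalizer ((Subgroup.centralizer ({a} : Set (SpecialLinearGroup (Fin 2) F)) :
      Subgroup (SpecialLinearGroup (Fin 2) F)) : Set (SpecialLinearGroup (Fin 2) F)))
  (hq : Fintype.card F % 8 = 3 ∨ Fintype.card F % 8 = 5)

include h2 ha0 hSN hq in
/-- Squares of elements of `S` are central when `q ≡ ±3 (mod 8)`. -/
theorem mul_self_mem_center_of_mem_sylow (x : SpecialLinearGroup (Fin 2) F)
    (hx : x ∈ (S : Subgroup (SpecialLinearGroup (Fin 2) F))) :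
    x * x ∈ Subgroup.center (SpecialLinearGroup (Fin 2) F) := by
  have hg := trace_zero_sq_ne_four h2 a ha0
  have hne := ne_inv_of_trace_zero h2 a ha0
  by_cases hxT : x ∈ Subgroup.centralizer ({a} : Set (SpecialLinearGroup (Fin 2) F))
  · have h8 := card_sylow_two_SL2_of_three_five hq S
    have hT := card_centralizer_of_trace_zero h2 a ha0
    have hd1 : orderOf x ∣ 8 := by
      rw [← h8]
      exact Subgroup.orderOf_dvd_natCard _ hx
    have hd2 : orderOf x ∣ Nat.card (Subgroup.centralizer
        ({a} : Set (SpecialLinearGroup (Fin 2) F))) := Subgroup.orderOf_dvd_natCard _ hxT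
    have hd4 : orderOf x ∣ 4 := by
      obtain ⟨m, hm⟩ : ∃ m, Nat.card (Subgroup.centralizer
          ({a} : Set (SpecialLinearGroup (Fin 2) F))) = 8 * m + 4 := by
        rcases hq with h | h
        · refine ⟨Fintype.card F / 8, ?_⟩
          rw [hT.2 (by omega)]
          omega
        · refine ⟨Fintype.card F / 8, ?_⟩
          rw [hT.1 (by omega)]
          omega
      rw [hm] at hd2
      exact (Nat.dvd_add_right (dvd_mul_of_dvd_left hd1 m)).mp hd2
    have hx4 : x ^ 4 = 1 := orderOf_dvd_iff_pow_eq_one.mp hd4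
    have hxx : (x * x) * (x * x) = 1 := by
      rw [← hx4, pow_succ, pow_succ, pow_succ, pow_one, mul_assoc, mul_assoc, mul_assoc]
    rcases sq_eq_one_cases h2 (x * x) hxx with h | h
    · rw [h]; exact one_mem _
    · rw [h]; exact zSL_mem_center
  · have hinv := inverts_of_mem_normalizer_not_mem a hg x (hSN hx) hxT
    rw [mul_self_eq_zSL_of_inverting h2 a hg hne x hinv]
    exact zSL_mem_center

include h2 ha0 hSN in
theorem center_le_sylow_two :
    Subgroup.center (SpecialLinearGroup (Fin 2) F) ≤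
      (S : Subgroup (SpecialLinearGroup (Fin 2) F)) := by
  intro x hx
  rcases center_cases x hx with h | h
  · rw [h]; exact one_mem _
  · rw [h]; exact zSL_mem_sylow h2 a ha0 S hSN

include h2 ha0 hSN hq in
/-- The image of `S` in `PSL₂(F)` is a Klein four-group when `q ≡ ±3 (mod 8)`. -/
theorem isKleinFour_map_sylow_two :
    IsKleinFour ((S : Subgroup (SpecialLinearGroup (Fin 2) F)).map
      (QuotientGroup.mk' (Subgroup.center (SpecialLinearGroup (Fin 2) F)))) := by
  set π := QuotientGroup.mk' (Subgroup.center (SpecialLinearGroup (Fin 2) F)) with hπ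
  set V := (S : Subgroup (SpecialLinearGroup (Fin 2) F)).map π with hV
  have hcomap : V.comap π = (S : Subgroup (SpecialLinearGroup (Fin 2) F)) := by
    apply Subgroup.comap_map_eq_self
    rw [hπ, QuotientGroup.ker_mk']
    exact center_le_sylow_two h2 a ha0 S hSN
  have h8 := card_sylow_two_SL2_of_three_five hq S
  have hc := card_comap_mk' (Subgroup.center (SpecialLinearGroup (Fin 2) F)) V
  rw [← hπ, hcomap, h8, card_center_SL2 h2] at hc
  have hV4 : Nat.card V = 4 := by omega
  refine ⟨hV4, ?_⟩
  have hd : Monoid.exponent V ∣ 2 := by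
    apply Monoid.exponent_dvd_of_forall_pow_eq_one
    rintro ⟨v, hv⟩
    obtain ⟨x, hx, rfl⟩ := hv
    apply Subtype.ext
    change (π x) ^ 2 = 1
    rw [← map_pow, pow_two]
    exact (mk_eq_one_iff' (x * x)).mpr (mul_self_mem_center_of_mem_sylow h2 a ha0 S hSN hq x hx)
  rcases (Nat.dvd_prime Nat.prime_two).mp hd with h | h
  · exfalso
    rw [Monoid.exp_eq_one_iff] at h
    have := Nat.card_unique (α := V)
    omega
  · exact h

end torus

/-- `|N(V)| = 12` for a Klein four-subgroup of `PSL₂(F)`, `q ≡ ±3 (mod 8)`. -/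
theorem card_normalizer_kleinFour_of_three_five (hodd : Odd (Fintype.card F))
    (hq : Fintype.card F % 8 = 3 ∨ Fintype.card F % 8 = 5)
    (V : Subgroup (ProjectiveSpecialLinearGroup (Fin 2) F)) (hV : IsKleinFour V) :
    Nat.card (Subgroup.normalizer (V : Set (ProjectiveSpecialLinearGroup (Fin 2) F))) = 12 := by
  classical
  have h2 := two_ne_zero_of_odd_card hodd
  have horb := card_conjugates_mul_card_normalizer V
  have h12 := twelve_mul_card_kleinFour_PSL2 (F := F) h2
  have hconj := (Cfsg.Agent.S0808.result (F := F) rfl hodd).1 hq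
  have heq : Nat.card {K : Subgroup (ProjectiveSpecialLinearGroup (Fin 2) F) //
      ∃ g, K = V.map (MulAut.conj g).toMonoidHom} =
      Nat.card {K : Subgroup (ProjectiveSpecialLinearGroup (Fin 2) F) // IsKleinFour K} := by
    apply Nat.card_congr
    apply Equiv.subtypeEquivRight
    intro K
    constructor
    · rintro ⟨g, rfl⟩
      exact isKleinFour_map_conj V hV g
    · intro hK
      exact hconj V K hV hK
  rw [heq] at horb
  have hGpos : 0 < Nat.card (ProjectiveSpecialLinearGroup (Fin 2) F) := Nat.card_pos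
  have hpos : 0 < Nat.card {K : Subgroup (ProjectiveSpecialLinearGroup (Fin 2) F) //
      IsKleinFour K} := by
    rcases Nat.eq_zero_or_pos (Nat.card {K : Subgroup (ProjectiveSpecialLinearGroup (Fin 2) F) //
      IsKleinFour K}) with h | h
    · rw [h, mul_zero] at h12
      omega
    · exact h
  apply Nat.eq_of_mul_eq_mul_left hpos
  rw [horb, ← h12, mul_comm]

section torus2

variable (h2 : (2 : F) ≠ 0) (a : SpecialLinearGroup (Fin 2) F)
  (ha0 : (a : Matrix (Fin 2) (Fin 2) F).trace = 0)
  (S : Sylow 2 (SpecialLinearGroup (Fin 2) F))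
  (hSN : (S : Subgroup (SpecialLinearGroup (Fin 2) F)) ≤
    Subgroup.normalizer ((Subgroup.centralizer ({a} : Set (SpecialLinearGroup (Fin 2) F)) :
      Subgroup (SpecialLinearGroup (Fin 2) F)) : Set (SpecialLinearGroup (Fin 2) F)))
  (hq : Fintype.card F % 8 = 3 ∨ Fintype.card F % 8 = 5)

include h2 ha0 hSN hq in
/-- `|N(S)| = 24` for `q ≡ ±3 (mod 8)`. -/
theorem card_normalizer_sylow_two_of_three_five (hodd : Odd (Fintype.card F)) :
    Nat.card (Subgroup.normalizer ((S : Subgroup (SpecialLinearGroup (Fin 2) F)) :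
      Set (SpecialLinearGroup (Fin 2) F))) = 24 := by
  have hV := isKleinFour_map_sylow_two h2 a ha0 S hSN hq
  set π := QuotientGroup.mk' (Subgroup.center (SpecialLinearGroup (Fin 2) F)) with hπ
  set V := (S : Subgroup (SpecialLinearGroup (Fin 2) F)).map π with hVdef
  have hcomap : V.comap π = (S : Subgroup (SpecialLinearGroup (Fin 2) F)) := by
    apply Subgroup.comap_map_eq_self
    rw [hπ, QuotientGroup.ker_mk']
    exact center_le_sylow_two h2 a ha0 S hSN
  have hN := card_normalizer_kleinFour_of_three_five hodd hq V hV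
  have hnorm := Subgroup.comap_normalizer_eq_of_surjective V (f := π)
    (QuotientGroup.mk'_surjective _)
  rw [hcomap] at hnorm
  have hc := card_comap_mk' (Subgroup.center (SpecialLinearGroup (Fin 2) F))
    (Subgroup.normalizer (V : Set (ProjectiveSpecialLinearGroup (Fin 2) F)))
  rw [← hπ, hnorm, hN, card_center_SL2 h2] at hc
  exact hc

end torus2

end Cfsg.Agent.Lib.Helper13
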