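/-
helper13: redundant Sylow subgroups of `SL₂(F)` (every `p`-element lies in another Sylow
`p`-subgroup): they exist iff `p = 2` and none of `q - 1`, `q`, `q + 1` is a power of `2`.
-/
import Mathlib
import Cfsg.Agent.Lib.Helper13.SL2SylowTwoNorm2
import Cfsg.Agent.Lib.Helper13.SL2Sylow
import Cfsg.Agent.Lib.Helper13.SL2SylowOdd
import Cfsg.Agent.S2431

set_option autoImplicit false

namespace Cfsg.Agent.Lib.Helper13

open Matrix

section general

variable {G : Type*} [Group G]

/-- A Sylow `p`-subgroup `Q` is *redundant* if every `p`-element lies in a Sylow `p`-subgroup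
other than `Q`. -/
def IsRedundantSylow {p : ℕ} (Q : Sylow p G) : Prop :=
  ∀ x : G, (∃ k : ℕ, orderOf x = p ^ k) → ∃ P : Sylow p G, P ≠ Q ∧ x ∈ P

/-- A `p`-element lying in a unique Sylow `p`-subgroup `Q` shows that `Q` is not redundant. -/
theorem not_isRedundantSylow_of_unique {p : ℕ} (Q : Sylow p G) (x : G)
    (hx : ∃ k : ℕ, orderOf x = p ^ k) (huniq : ∀ P : Sylow p G, x ∈ P → P = Q) :
    ¬ IsRedundantSylow Q := by
  intro h
  obtain ⟨P, hPQ, hxP⟩ := h x hx
  exact hPQ (huniq P hxP)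

theorem exists_orderOf_eq_of_mem_sylow {p : ℕ} [Fact p.Prime] (Q : Sylow p G) (x : G)
    (hx : x ∈ Q) : ∃ k : ℕ, orderOf x = p ^ k := by
  obtain ⟨k, hk⟩ := Q.isPGroup' ⟨x, hx⟩
  have hk' : x ^ (p ^ k) = 1 := by
    have := congrArg Subtype.val hk
    simpa using this
  obtain ⟨j, -, hj⟩ := (Nat.dvd_prime_pow Fact.out).mp (orderOf_dvd_of_pow_eq_one hk')
  exact ⟨j, hj⟩

/-- A generator of a cyclic Sylow subgroup lies in no other Sylow subgroup. -/
theorem exists_unique_sylow_of_isCyclic {p : ℕ} [Fact p.Prime] (Q : Sylow p G)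
    (hcyc : IsCyclic (Q : Subgroup G)) :
    ∃ x : G, (∃ k : ℕ, orderOf x = p ^ k) ∧ ∀ P : Sylow p G, x ∈ P → P = Q := by
  obtain ⟨g, hg⟩ := hcyc.exists_generator
  refine ⟨(g : G), exists_orderOf_eq_of_mem_sylow Q _ g.2, ?_⟩
  intro P hP
  have hle : (Q : Subgroup G) ≤ (P : Subgroup G) := by
    intro y hy
    obtain ⟨k, hk⟩ := Subgroup.mem_zpowers_iff.mp (hg ⟨y, hy⟩)
    have : y = (g : G) ^ k := by
      have := congrArg Subtype.val hk
      simpa using this.symm
    rw [this]
    exact zpow_mem hP k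
  exact Sylow.ext (Q.is_maximal' P.isPGroup' hle)

/-- Conjugating by a centralizing element outside the normalizer gives another Sylow subgroup
through `x`. -/
theorem exists_ne_sylow_of_centralizer {p : ℕ} [Fact p.Prime] [Finite G] (Q : Sylow p G) (x c : G)
    (hx : x ∈ Q) (hc : c * x * c⁻¹ = x)
    (hcN : c ∉ Subgroup.normalizer ((Q : Subgroup G) : Set G)) :
    ∃ P : Sylow p G, P ≠ Q ∧ x ∈ P := by
  refine ⟨c • Q, ?_, ?_⟩
  · intro h
    exact hcN (Sylow.smul_eq_iff_mem_normalizer.mp h)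
  · rw [← hc]
    have : c * x * c⁻¹ = MulAut.conj c • x := rfl
    rw [this, ← SetLike.mem_coe, Sylow.coe_smul]
    exact Set.smul_mem_smul_set hx

end general

section unipotent

variable {K : Type*} [Field K]

theorem coe_mul_SL (a b : SpecialLinearGroup (Fin 2) K) :
    ((a * b : SpecialLinearGroup (Fin 2) K) : Matrix (Fin 2) (Fin 2) K) =
      (a : Matrix (Fin 2) (Fin 2) K) * (b : Matrix (Fin 2) (Fin 2) K) := rfl

/-- Upper triangular matrices conjugate transvections to transvections. -/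
theorem conj_tSL_of_upper (k : SpecialLinearGroup (Fin 2) K)
    (hk : (k : Matrix (Fin 2) (Fin 2) K) 1 0 = 0) (t : K) :
    k * tSL t * k⁻¹ = tSL ((k : Matrix (Fin 2) (Fin 2) K) 0 0 ^ 2 * t) := by
  rw [mul_inv_eq_iff_eq_mul]
  apply Subtype.ext
  rw [coe_mul_SL, coe_mul_SL, tSL_coe, tSL_coe]
  have hd := k.2
  rw [Matrix.det_fin_two, hk, mul_zero, sub_zero] at hd
  ext i j
  fin_cases i <;> fin_cases j <;> simp [Matrix.mul_apply, Fin.sum_univ_two, hk]
  linear_combination (-(k : Matrix (Fin 2) (Fin 2) K) 0 0 * t) * hd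

theorem mem_normalizer_range_tSLHom_of_upper (k : SpecialLinearGroup (Fin 2) K)
    (hk : (k : Matrix (Fin 2) (Fin 2) K) 1 0 = 0) :
    k ∈ Subgroup.normalizer (((tSLHom (K := K)).range : Subgroup (SpecialLinearGroup (Fin 2) K)) :
      Set (SpecialLinearGroup (Fin 2) K)) := by
  have hfwd : ∀ (k : SpecialLinearGroup (Fin 2) K), (k : Matrix (Fin 2) (Fin 2) K) 1 0 = 0 →
      ∀ n, n ∈ (tSLHom (K := K)).range → k * n * k⁻¹ ∈ (tSLHom (K := K)).range := by
    rintro k hk n ⟨t, rfl⟩
    refine ⟨Multiplicative.ofAdd ((k : Matrix (Fin 2) (Fin 2) K) 0 0 ^ 2 * Multiplicative.toAdd t), ?_⟩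
    exact (conj_tSL_of_upper k hk _).symm
  have hkinv : ((k⁻¹ : SpecialLinearGroup (Fin 2) K) : Matrix (Fin 2) (Fin 2) K) 1 0 = 0 := by
    rw [Matrix.SpecialLinearGroup.coe_inv, Matrix.adjugate_fin_two]
    simp [hk]
  rw [Subgroup.mem_normalizer_iff]
  intro n
  constructor
  · exact hfwd k hk n
  · intro h
    have := hfwd k⁻¹ hkinv _ h
    have e : k⁻¹ * (k * n * k⁻¹) * k⁻¹⁻¹ = n := by group
    rwa [e] at this

/-- If a conjugate of a nontrivial transvection is a transvection, the conjugating matrix is upper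
triangular. -/
theorem upper_of_conj_tSL_mem (k : SpecialLinearGroup (Fin 2) K) (b : K) (hb : b ≠ 0)
    (h : k * tSL b * k⁻¹ ∈ (tSLHom (K := K)).range) :
    (k : Matrix (Fin 2) (Fin 2) K) 1 0 = 0 := by
  obtain ⟨t, ht⟩ := h
  have h1 : tSLHom t * k = k * tSL b := by rw [ht]; group
  have h2 := congrArg (fun g : SpecialLinearGroup (Fin 2) K =>
    (g : Matrix (Fin 2) (Fin 2) K) 1 1) h1
  simp only [coe_mul_SL] at h2
  have h3 : ((tSLHom t : SpecialLinearGroup (Fin 2) K) : Matrix (Fin 2) (Fin 2) K) =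
      !![1, Multiplicative.toAdd t; 0, 1] := rfl
  rw [h3, tSL_coe] at h2
  simp [Matrix.mul_apply, Fin.sum_univ_two] at h2
  rcases h2 with h2 | h2
  · exact h2
  · exact absurd h2 hb

end unipotent

section charp

variable {K : Type*} [Field K] [Fintype K]

/-- The upper unitriangular group is a Sylow `p`-subgroup in characteristic `p`. -/
theorem exists_sylow_eq_range_tSLHom (p : ℕ) [Fact p.Prime] [CharP K p] :
    ∃ U : Sylow p (SpecialLinearGroup (Fin 2) K),
      (U : Subgroup (SpecialLinearGroup (Fin 2) K)) = (tSLHom (K := K)).range := by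
  have hp : p.Prime := Fact.out
  obtain ⟨n, -, hq⟩ := FiniteField.card K p
  have hcardU : Nat.card (tSLHom (K := K)).range = p ^ (n : ℕ) := by
    rw [card_range_tSLHom, Nat.card_eq_fintype_card, hq]
  have hPG : IsPGroup p (tSLHom (K := K)).range := IsPGroup.of_card hcardU
  have hindex : ¬ p ∣ (tSLHom (K := K)).range.index := by
    have h1 := Subgroup.card_mul_index (tSLHom (K := K)).range
    rw [card_SL2, hcardU, hq] at h1
    have hpos : 0 < p ^ (n : ℕ) := pow_pos hp.pos _
    have h2 : (tSLHom (K := K)).range.index = (p ^ (n : ℕ)) ^ 2 - 1 :=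
      Nat.eq_of_mul_eq_mul_left hpos h1
    rw [h2]
    intro hdvd
    have h3 : p ∣ (p ^ (n : ℕ)) ^ 2 := by
      rw [← pow_mul]
      exact dvd_pow_self p (by positivity)
    have h4 : 1 ≤ (p ^ (n : ℕ)) ^ 2 := Nat.one_le_pow _ _ hpos
    have h5 : p ∣ 1 := by
      have := Nat.dvd_sub h3 hdvd
      rwa [Nat.sub_sub_self h4] at this
    exact hp.one_lt.ne' (Nat.dvd_one.mp h5)
  exact ⟨hPG.toSylow hindex, IsPGroup.toSylow_coe hPG hindex⟩

/-- In characteristic `p`, every Sylow `p`-subgroup of `SL₂` contains a `p`-element lying in no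
other Sylow `p`-subgroup. -/
theorem exists_unique_sylow_char (p : ℕ) [Fact p.Prime] [CharP K p]
    (Q : Sylow p (SpecialLinearGroup (Fin 2) K)) :
    ∃ x : SpecialLinearGroup (Fin 2) K, (∃ k : ℕ, orderOf x = p ^ k) ∧
      ∀ P : Sylow p (SpecialLinearGroup (Fin 2) K), x ∈ P → P = Q := by
  obtain ⟨U, hU⟩ := exists_sylow_eq_range_tSLHom (K := K) p
  obtain ⟨g₀, hg₀⟩ := sylow_conj_exists U Q
  have hxQ : g₀ * tSL (1 : K) * g₀⁻¹ ∈ (Q : Subgroup (SpecialLinearGroup (Fin 2) K)) := by
    rw [hg₀, hU]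
    exact ⟨tSL 1, ⟨Multiplicative.ofAdd 1, rfl⟩, rfl⟩
  refine ⟨g₀ * tSL (1 : K) * g₀⁻¹, exists_orderOf_eq_of_mem_sylow Q _ hxQ, ?_⟩
  intro P hxP
  obtain ⟨g, hg⟩ := sylow_conj_exists U P
  have hxP' : g₀ * tSL (1 : K) * g₀⁻¹ ∈ (P : Subgroup (SpecialLinearGroup (Fin 2) K)) := hxP
  rw [hg, hU] at hxP'
  obtain ⟨u, ⟨t, rfl⟩, hu⟩ := hxP'
  have hu' : g * tSLHom t * g⁻¹ = g₀ * tSL (1 : K) * g₀⁻¹ := hu
  -- `k = g⁻¹ g₀` conjugates `tSL 1` into `U`
  have hk : (g⁻¹ * g₀) * tSL (1 : K) * (g⁻¹ * g₀)⁻¹ ∈ (tSLHom (K := K)).range := by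
    refine ⟨t, ?_⟩
    have : (g⁻¹ * g₀) * tSL (1 : K) * (g⁻¹ * g₀)⁻¹ = g⁻¹ * (g₀ * tSL (1 : K) * g₀⁻¹) * g := by group
    rw [this, ← hu']
    group
  have hupper := upper_of_conj_tSL_mem _ (1 : K) one_ne_zero hk
  have hnorm := mem_normalizer_range_tSLHom_of_upper _ hupper
  apply Sylow.ext
  rw [hg, hg₀, hU]
  exact ((map_conj_eq_iff _ g₀ g).mpr hnorm).symm

end charp

section twopower

variable {F : Type*} [Field F] [Fintype F]

/-- If `q + 1` or `q - 1` is a power of `2` (`q` odd), the torus of a trace-zero element is a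
`2`-group. -/
theorem card_torus_two_pow (h2 : (2 : F) ≠ 0) (hodd : Odd (Fintype.card F))
    (hq : (∃ k : ℕ, Fintype.card F + 1 = 2 ^ k) ∨ (∃ k : ℕ, Fintype.card F = 2 ^ k + 1))
    (a : SpecialLinearGroup (Fin 2) F) (ha0 : (a : Matrix (Fin 2) (Fin 2) F).trace = 0) :
    ∃ j : ℕ, Nat.card (Subgroup.centralizer ({a} : Set (SpecialLinearGroup (Fin 2) F))) = 2 ^ j := by
  have hT := card_centralizer_of_trace_zero h2 a ha0
  have hq1 : 1 < Fintype.card F := Fintype.one_lt_card
  obtain ⟨r, hr⟩ := hodd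
  rcases hq with ⟨k, hk⟩ | ⟨k, hk⟩
  · rcases k with _ | _ | k
    · simp at hk
    · simp at hk; omega
    · have h4 : 2 ^ (k + 1 + 1) = 4 * 2 ^ k := by ring
      refine ⟨k + 1 + 1, ?_⟩
      rw [hT.2 (by omega), hk]
  · rcases k with _ | _ | k
    · simp at hk; omega
    · simp at hk
      refine ⟨2, ?_⟩
      rw [hT.2 (by omega), hk]
      norm_num
    · have h4 : 2 ^ (k + 1 + 1) = 4 * 2 ^ k := by ring
      refine ⟨k + 1 + 1, ?_⟩
      rw [hT.1 (by omega), hk]
      omega

theorem isPGroup_normalizer_torus (h2 : (2 : F) ≠ 0)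
    (a : SpecialLinearGroup (Fin 2) F) (ha0 : (a : Matrix (Fin 2) (Fin 2) F).trace = 0)
    (j : ℕ) (hj : Nat.card (Subgroup.centralizer
      ({a} : Set (SpecialLinearGroup (Fin 2) F))) = 2 ^ j) :
    IsPGroup 2 (Subgroup.normalizer ((Subgroup.centralizer
      ({a} : Set (SpecialLinearGroup (Fin 2) F)) :
      Subgroup (SpecialLinearGroup (Fin 2) F)) : Set (SpecialLinearGroup (Fin 2) F))) := by
  have hg := trace_zero_sq_ne_four h2 a ha0
  have hne := ne_inv_of_trace_zero h2 a ha0
  apply IsPGroup.of_card (n := j + 1)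
  rw [card_normalizer_centralizer a hg hne, hj, pow_succ, mul_comm]

/-- If the tori `C(a)`, `a² = -1`, are `2`-groups, every Sylow `2`-subgroup contains a `2`-element
lying in no other Sylow `2`-subgroup. -/
theorem exists_unique_sylow_two_of_torus (hodd : Odd (Fintype.card F))
    (hT2 : ∀ a : SpecialLinearGroup (Fin 2) F, (a : Matrix (Fin 2) (Fin 2) F).trace = 0 →
      ∃ j : ℕ, Nat.card (Subgroup.centralizer
        ({a} : Set (SpecialLinearGroup (Fin 2) F))) = 2 ^ j)
    (Q : Sylow 2 (SpecialLinearGroup (Fin 2) F)) :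
    ∃ x : SpecialLinearGroup (Fin 2) F, (∃ k : ℕ, orderOf x = 2 ^ k) ∧
      ∀ P : Sylow 2 (SpecialLinearGroup (Fin 2) F), x ∈ P → P = Q := by
  have : Fact (Nat.Prime 2) := ⟨Nat.prime_two⟩
  have h2 : (2 : F) ≠ 0 := two_ne_zero_of_odd_card hodd
  obtain ⟨a, ha0, hQN⟩ := exists_torus_normalizer_ge_sylow hodd Q
  have hg := trace_zero_sq_ne_four h2 a ha0
  have haa := mul_self_of_trace_eq_zero a ha0
  obtain ⟨j, hj⟩ := hT2 a ha0
  have hNa := isPGroup_normalizer_torus h2 a ha0 j hj
  have hQeq := Q.is_maximal' hNa hQN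
  have hcyc := isCyclic_centralizer a hg
  obtain ⟨x₀, hx₀⟩ := hcyc.exists_generator
  -- elements of the torus are powers of `x`
  have hpow : ∀ y, y ∈ Subgroup.centralizer ({a} : Set (SpecialLinearGroup (Fin 2) F)) →
      ∃ k : ℤ, y = (x₀ : SpecialLinearGroup (Fin 2) F) ^ k := by
    intro y hy
    obtain ⟨k, hk⟩ := Subgroup.mem_zpowers_iff.mp (hx₀ ⟨y, hy⟩)
    refine ⟨k, ?_⟩
    have := congrArg Subtype.val hk
    simpa using this.symm
  have hxT : (x₀ : SpecialLinearGroup (Fin 2) F) ∈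
      Subgroup.centralizer ({a} : Set (SpecialLinearGroup (Fin 2) F)) := x₀.2
  have hxQ : (x₀ : SpecialLinearGroup (Fin 2) F) ∈ (Q : Subgroup (SpecialLinearGroup (Fin 2) F)) := by
    rw [← hQeq]
    exact Subgroup.le_normalizer hxT
  -- `x` is not scalar
  have hns : ¬ (((x₀ : SpecialLinearGroup (Fin 2) F) : Matrix (Fin 2) (Fin 2) F) 0 1 = 0 ∧
      ((x₀ : SpecialLinearGroup (Fin 2) F) : Matrix (Fin 2) (Fin 2) F) 1 0 = 0 ∧
      ((x₀ : SpecialLinearGroup (Fin 2) F) : Matrix (Fin 2) (Fin 2) F) 0 0 =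
        ((x₀ : SpecialLinearGroup (Fin 2) F) : Matrix (Fin 2) (Fin 2) F) 1 1) := by
    intro hs
    have hxc : (x₀ : SpecialLinearGroup (Fin 2) F) ∈
        Subgroup.center (SpecialLinearGroup (Fin 2) F) := by
      rcases scalar_cases _ hs with h | h
      · have : (x₀ : SpecialLinearGroup (Fin 2) F) = 1 := Subtype.ext h
        rw [this]; exact one_mem _
      · have : (x₀ : SpecialLinearGroup (Fin 2) F) = zSL F := by
          apply Subtype.ext
          rw [h, zSL_coe]
          ext i j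
          fin_cases i <;> fin_cases j <;> simp
        rw [this]; exact zSL_mem_center
    obtain ⟨k, hk⟩ := hpow a (self_mem_centralizer a)
    have hac : a ∈ Subgroup.center (SpecialLinearGroup (Fin 2) F) := by
      rw [hk]; exact zpow_mem hxc k
    apply zSL_ne_one h2
    rw [← haa]
    exact center_mul_self a hac
  have hCx := centralizer_eq_of_mem a hg _ hxT hns
  refine ⟨(x₀ : SpecialLinearGroup (Fin 2) F), exists_orderOf_eq_of_mem_sylow Q _ hxQ, ?_⟩
  intro P hxP
  obtain ⟨b, hb0, hPN⟩ := exists_torus_normalizer_ge_sylow hodd P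
  have hgb := trace_zero_sq_ne_four h2 b hb0
  have hneb := ne_inv_of_trace_zero h2 b hb0
  have hbb := mul_self_of_trace_eq_zero b hb0
  obtain ⟨j', hj'⟩ := hT2 b hb0
  have hNb := isPGroup_normalizer_torus h2 b hb0 j' hj'
  have hPeq := P.is_maximal' hNb hPN
  by_cases hxTb : (x₀ : SpecialLinearGroup (Fin 2) F) ∈
      Subgroup.centralizer ({b} : Set (SpecialLinearGroup (Fin 2) F))
  · have hCx' := centralizer_eq_of_mem b hgb _ hxTb hns
    apply Sylow.ext
    rw [← hPeq, ← hQeq, ← hCx, ← hCx']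
  · set x : SpecialLinearGroup (Fin 2) F := (x₀ : SpecialLinearGroup (Fin 2) F) with hxdef
    have hinv := inverts_of_mem_normalizer_not_mem b hgb x (hPN hxP) hxTb
    have hxx := mul_self_eq_zSL_of_inverting h2 b hgb hneb x hinv
    have hzc : ∀ y : SpecialLinearGroup (Fin 2) F, zSL F * y = y * zSL F :=
      fun y => (Subgroup.mem_center_iff.mp zSL_mem_center y).symm
    -- `b` inverts `x`
    have hbx : b * x * b⁻¹ = x⁻¹ := by
      have h1 : x * b = b⁻¹ * x := by rw [← hinv]; group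
      rw [← zSL_mul_eq_inv b hbb] at h1
      rw [← zSL_mul_eq_inv x hxx, mul_inv_eq_iff_eq_mul]
      have h3 : zSL F * (x * b) = zSL F * (zSL F * b * x) := by rw [h1]
      rw [← mul_assoc, ← mul_assoc, ← mul_assoc, zSL_mul_self, one_mul] at h3
      rw [h3]
    have hbx' : b⁻¹ * x⁻¹ * b = x := by
      rw [← hbx]; group
    have hbP : b ∈ (P : Subgroup (SpecialLinearGroup (Fin 2) F)) := self_mem_sylow h2 b hb0 P hPN
    have hle : (Q : Subgroup (SpecialLinearGroup (Fin 2) F)) ≤
        (P : Subgroup (SpecialLinearGroup (Fin 2) F)) := by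
      intro g hgQ
      rw [← hQeq] at hgQ
      by_cases hgT : g ∈ Subgroup.centralizer ({a} : Set (SpecialLinearGroup (Fin 2) F))
      · obtain ⟨k, hk⟩ := hpow g hgT
        rw [hk]
        exact zpow_mem hxP k
      · have hginv := inverts_of_mem_normalizer_not_mem a hg g hgQ hgT
        have hgx := conj_eq_inv_of_mem_centralizer a hg g hginv x hxT
        have hcx : b⁻¹ * g ∈ Subgroup.centralizer ({x} : Set (SpecialLinearGroup (Fin 2) F)) := by
          rw [mem_centralizer_singleton_iff']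
          calc b⁻¹ * g * x * (b⁻¹ * g)⁻¹ = b⁻¹ * (g * x * g⁻¹) * b := by group
            _ = x := by rw [hgx, hbx']
        rw [hCx] at hcx
        obtain ⟨k, hk⟩ := hpow _ hcx
        have e : g = b * (b⁻¹ * g) := by group
        rw [e, hk]
        exact mul_mem hbP (zpow_mem hxP k)
    exact Sylow.ext (Q.is_maximal' P.isPGroup' hle)

end twopower

section redundant

variable {F : Type*} [Field F] [Fintype F]

/-- Non-central `2`-elements of `SL₂(F)`, `q` odd, are regular semisimple. -/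
theorem trace_sq_ne_four_of_two_elt (h2 : (2 : F) ≠ 0) (x : SpecialLinearGroup (Fin 2) F)
    (k : ℕ) (hxk : x ^ (2 ^ k) = 1)
    (hxc : x ∉ Subgroup.center (SpecialLinearGroup (Fin 2) F)) :
    (x : Matrix (Fin 2) (Fin 2) F).trace ^ 2 ≠ 4 := by
  intro h4
  obtain ⟨p, hp⟩ := CharP.exists F
  have := hp
  have hpp : Fact p.Prime := ⟨CharP.char_is_prime F p⟩
  have hp2 : p ≠ 2 := by
    rintro rfl
    apply h2
    have := CharP.cast_eq_zero F 2
    exact_mod_cast this
  have h1 := pow_char_mul_two_of_trace_sq p x h4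
  obtain ⟨j, -, hj⟩ := (Nat.dvd_prime_pow Nat.prime_two).mp (orderOf_dvd_of_pow_eq_one hxk)
  have hd : orderOf x ∣ p * 2 := orderOf_dvd_of_pow_eq_one h1
  rw [hj] at hd
  have hcop : Nat.Coprime (2 ^ j) p := by
    apply Nat.Coprime.pow_left
    rw [Nat.coprime_primes Nat.prime_two hpp.out]
    exact fun h => hp2 h.symm
  have hd2 : 2 ^ j ∣ 2 := hcop.dvd_of_dvd_mul_left hd
  have hx2 : x ^ 2 = 1 := by
    rw [← hj] at hd2
    exact orderOf_dvd_iff_pow_eq_one.mp hd2
  apply hxc
  rw [pow_two] at hx2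
  rcases sq_eq_one_cases h2 x hx2 with h | h
  · rw [h]; exact one_mem _
  · rw [h]; exact zSL_mem_center

/-- If neither `q + 1` nor `q - 1` is a power of `2` (`q` odd), every Sylow `2`-subgroup of
`SL₂(F)` is redundant. -/
theorem isRedundantSylow_two (hodd : Odd (Fintype.card F))
    (hq1 : ¬ ∃ k : ℕ, Fintype.card F + 1 = 2 ^ k) (hq2 : ¬ ∃ k : ℕ, Fintype.card F = 2 ^ k + 1)
    (Q : Sylow 2 (SpecialLinearGroup (Fin 2) F)) : IsRedundantSylow Q := by
  classical
  have : Fact (Nat.Prime 2) := ⟨Nat.prime_two⟩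
  have h2 : (2 : F) ≠ 0 := two_ne_zero_of_odd_card hodd
  obtain ⟨a, ha0, hQN⟩ := exists_torus_normalizer_ge_sylow hodd Q
  have haa := mul_self_of_trace_eq_zero a ha0
  have hq1' : 1 < Fintype.card F := Fintype.one_lt_card
  have key : ∀ x : SpecialLinearGroup (Fin 2) F,
      x ∈ (Q : Subgroup (SpecialLinearGroup (Fin 2) F)) →
      x ∉ Subgroup.center (SpecialLinearGroup (Fin 2) F) →
      ∃ P : Sylow 2 (SpecialLinearGroup (Fin 2) F), P ≠ Q ∧ x ∈ P := by
    intro x hxQ hxc
    obtain ⟨k, hk⟩ := Q.isPGroup' ⟨x, hxQ⟩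
    have hxk : x ^ (2 ^ k) = 1 := by
      have := congrArg Subtype.val hk
      simpa using this
    have hgx := trace_sq_ne_four_of_two_elt h2 x k hxk hxc
    by_contra hno
    push Not at hno
    have hCN : ∀ c, c ∈ Subgroup.centralizer ({x} : Set (SpecialLinearGroup (Fin 2) F)) →
        c ∈ Subgroup.normalizer ((Q : Subgroup (SpecialLinearGroup (Fin 2) F)) :
          Set (SpecialLinearGroup (Fin 2) F)) := by
      intro c hc
      by_contra hcN
      rw [mem_centralizer_singleton_iff'] at hc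
      obtain ⟨P, hPQ, hxP⟩ := exists_ne_sylow_of_centralizer Q x c hxQ hc hcN
      exact hno P hPQ hxP
    have hCQ : Subgroup.centralizer ({x} : Set (SpecialLinearGroup (Fin 2) F)) ≤
        (Q : Subgroup (SpecialLinearGroup (Fin 2) F)) := by
      have hq8 : (Fintype.card F % 8 = 1 ∨ Fintype.card F % 8 = 7) ∨
          (Fintype.card F % 8 = 3 ∨ Fintype.card F % 8 = 5) := by
        obtain ⟨r, hr⟩ := hodd
        omega
      rcases hq8 with hq | hq
      · have hNQ := (Cfsg.Agent.S2431.result hodd Q).2.1 hq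
        intro c hc
        have := hCN c hc
        rw [hNQ] at this
        exact this
      · have hxx : x * x = zSL F := by
          have hc := mul_self_mem_center_of_mem_sylow h2 a ha0 Q hQN hq x hxQ
          rcases center_cases _ hc with h | h
          · exfalso
            apply hxc
            rcases sq_eq_one_cases h2 x h with h' | h'
            · rw [h']; exact one_mem _
            · rw [h']; exact zSL_mem_center
          · exact h
        have hx0 := trace_eq_zero_of_mul_self x hxx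
        have hQNx : (Q : Subgroup (SpecialLinearGroup (Fin 2) F)) ≤
            Subgroup.normalizer ((Subgroup.centralizer
              ({x} : Set (SpecialLinearGroup (Fin 2) F)) :
              Subgroup (SpecialLinearGroup (Fin 2) F)) : Set (SpecialLinearGroup (Fin 2) F)) := by
          intro y hy
          rw [mem_normalizer_centralizer_iff x hgx]
          have hc1 := mul_self_mem_center_of_mem_sylow h2 a ha0 Q hQN hq (y * x) (mul_mem hy hxQ)
          have hc3 := mul_self_mem_center_of_mem_sylow h2 a ha0 Q hQN hq y hy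
          have hc3' : (y * y)⁻¹ ∈ Subgroup.center (SpecialLinearGroup (Fin 2) F) := inv_mem hc3
          have hcomm := (Subgroup.mem_center_iff.mp hc3') (y * x)
          have hwx : y * x * y⁻¹ * x ∈ Subgroup.center (SpecialLinearGroup (Fin 2) F) := by
            have e : y * x * y⁻¹ * x = (y * y)⁻¹ * ((y * x) * (y * x)) := by
              calc y * x * y⁻¹ * x = (y * x) * (y * y)⁻¹ * (y * x) := by group
                _ = (y * y)⁻¹ * ((y * x) * (y * x)) := by rw [hcomm, mul_assoc]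
            rw [e]
            exact mul_mem hc3' hc1
          rcases center_cases _ hwx with h | h
          · right
            exact eq_inv_of_mul_eq_one_left h
          · left
            have h' : y * x * y⁻¹ = zSL F * x⁻¹ := by
              rw [← h]; group
            rw [h', ← zSL_mul_eq_inv x hxx, ← mul_assoc, zSL_mul_self, one_mul]
        intro c hc
        exact mem_sylow_of_mem_normalizer_of_mem_torus h2 x hx0 Q hQNx c (hCN c hc) hc
    have hCp : IsPGroup 2 (Subgroup.centralizer ({x} : Set (SpecialLinearGroup (Fin 2) F))) :=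
      Q.isPGroup'.to_le hCQ
    obtain ⟨j, hj⟩ := IsPGroup.iff_card.mp hCp
    rcases card_centralizer_cases x hgx with h | h
    · apply hq2
      refine ⟨j, ?_⟩
      rw [h] at hj
      omega
    · apply hq1
      refine ⟨j, ?_⟩
      rw [h] at hj
      exact hj
  intro x hx2
  by_cases hxQ : x ∈ (Q : Subgroup (SpecialLinearGroup (Fin 2) F))
  · by_cases hxc : x ∈ Subgroup.center (SpecialLinearGroup (Fin 2) F)
    · have haQ := self_mem_sylow h2 a ha0 Q hQN
      obtain ⟨P, hPQ, haP⟩ := key a haQ (not_mem_center_of_mul_self h2 a haa)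
      refine ⟨P, hPQ, ?_⟩
      rcases center_cases x hxc with h | h
      · rw [h]; exact one_mem _
      · rw [h, ← haa]; exact mul_mem haP haP
    · exact key x hxQ hxc
  · obtain ⟨k, hk⟩ := hx2
    have hzp : IsPGroup 2 (Subgroup.zpowers x) :=
      IsPGroup.of_card (n := k) (by rw [Nat.card_zpowers]; exact hk)
    obtain ⟨P, hP⟩ := hzp.exists_le_sylow
    refine ⟨P, ?_, hP (Subgroup.mem_zpowers x)⟩
    intro h
    apply hxQ
    rw [← h]
    exact hP (Subgroup.mem_zpowers x)

end redundant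

end Cfsg.Agent.Lib.Helper13
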