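/-
helper13: redundant Sylow subgroups pass to and from the quotient by the centre.
-/
import Mathlib
import Cfsg.Agent.Lib.Helper13.SL2Redundant

set_option autoImplicit false

namespace Cfsg.Agent.Lib.Helper13

section quotient

variable {G : Type*} [Group G] [Finite G] (p : ℕ) [Fact p.Prime]

omit [Finite G] in
/-- `P ⊔ Z(G)` normalizes `P`. -/
theorem sup_center_le_normalizer (P : Subgroup G) :
    P ⊔ Subgroup.center G ≤ Subgroup.normalizer (P : Set G) := by
  apply sup_le Subgroup.le_normalizer
  intro z hz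
  rw [Subgroup.mem_normalizer_iff]
  intro n
  have hzc := Subgroup.mem_center_iff.mp hz
  have : z * n * z⁻¹ = n := by rw [← hzc n, mul_inv_cancel_right]
  rw [this]

omit [Finite G] [Fact p.Prime] in
/-- A `p`-subgroup of the normalizer of a Sylow `p`-subgroup `P` lies in `P`. -/
theorem le_sylow_of_le_normalizer (P : Sylow p G) (H : Subgroup G) (hH : IsPGroup p H)
    (hHN : H ≤ Subgroup.normalizer ((P : Subgroup G) : Set G)) : H ≤ (P : Subgroup G) := by
  have hp := hH.to_sup_of_normal_right' P.isPGroup' hHN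
  have heq := P.is_maximal' hp le_sup_right
  rw [← heq]
  exact le_sup_left

variable {p}

/-- A `p`-element whose image lies in the image of a Sylow `p`-subgroup `P` lies in `P`. -/
theorem mem_sylow_of_mk_mem_map (P : Sylow p G) (x : G) (k : ℕ) (hx : orderOf x = p ^ k)
    (hxP : (QuotientGroup.mk' (Subgroup.center G)) x ∈
      (P : Subgroup G).map (QuotientGroup.mk' (Subgroup.center G))) :
    x ∈ (P : Subgroup G) := by
  have h1 : x ∈ ((P : Subgroup G).map (QuotientGroup.mk' (Subgroup.center G))).comap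
      (QuotientGroup.mk' (Subgroup.center G)) := hxP
  rw [Subgroup.comap_map_eq, QuotientGroup.ker_mk'] at h1
  have h2 := sup_center_le_normalizer (P : Subgroup G) h1
  have hzp : IsPGroup p (Subgroup.zpowers x) :=
    IsPGroup.of_card (n := k) (by rw [Nat.card_zpowers]; exact hx)
  have hle : Subgroup.zpowers x ≤ Subgroup.normalizer ((P : Subgroup G) : Set G) := by
    rw [Subgroup.zpowers_le]; exact h2
  exact le_sylow_of_le_normalizer p P _ hzp hle (Subgroup.mem_zpowers x)

/-- Sylow subgroups with the same image in `G / Z(G)` coincide. -/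
theorem sylow_eq_of_map_mk_eq (P Q : Sylow p G)
    (h : (P : Subgroup G).map (QuotientGroup.mk' (Subgroup.center G)) =
      (Q : Subgroup G).map (QuotientGroup.mk' (Subgroup.center G))) : P = Q := by
  have h1 : (P : Subgroup G) ≤ ((Q : Subgroup G).map (QuotientGroup.mk' (Subgroup.center G))).comap
      (QuotientGroup.mk' (Subgroup.center G)) := by
    rw [← h]
    exact Subgroup.le_comap_map _ _
  rw [Subgroup.comap_map_eq, QuotientGroup.ker_mk'] at h1
  have h2 := h1.trans (sup_center_le_normalizer (Q : Subgroup G))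
  have hle := le_sylow_of_le_normalizer p Q _ P.isPGroup' h2
  exact Sylow.ext (P.is_maximal' Q.isPGroup' hle).symm

theorem exists_isRedundantSylow_quotient_center_iff :
    (∃ Q : Sylow p (G ⧸ Subgroup.center G), IsRedundantSylow Q) ↔
      (∃ Q : Sylow p G, IsRedundantSylow Q) := by
  have hsurj : Function.Surjective (QuotientGroup.mk' (Subgroup.center G)) :=
    QuotientGroup.mk'_surjective _
  constructor
  · rintro ⟨Qb, hQb⟩
    obtain ⟨Q, rfl⟩ := Sylow.mapSurjective_surjective hsurj p Qb
    refine ⟨Q, ?_⟩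
    intro x ⟨k, hk⟩
    have hdvd : orderOf ((QuotientGroup.mk' (Subgroup.center G)) x) ∣ p ^ k := by
      rw [← hk]
      exact orderOf_map_dvd _ x
    obtain ⟨j, -, hj⟩ := (Nat.dvd_prime_pow Fact.out).mp hdvd
    obtain ⟨Pb, hPb, hxPb⟩ := hQb _ ⟨j, hj⟩
    obtain ⟨P, rfl⟩ := Sylow.mapSurjective_surjective hsurj p Pb
    refine ⟨P, ?_, ?_⟩
    · rintro rfl
      exact hPb rfl
    · exact mem_sylow_of_mk_mem_map P x k hk hxPb
  · rintro ⟨Q, hQ⟩
    refine ⟨Q.mapSurjective hsurj, ?_⟩
    intro xb ⟨k, hk⟩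
    -- lift `xb` to a `p`-element
    have hzp : IsPGroup p (Subgroup.zpowers xb) :=
      IsPGroup.of_card (n := k) (by rw [Nat.card_zpowers]; exact hk)
    obtain ⟨Rb, hRb⟩ := hzp.exists_le_sylow
    obtain ⟨R, rfl⟩ := Sylow.mapSurjective_surjective hsurj p Rb
    have hxR : xb ∈ (R : Subgroup G).map (QuotientGroup.mk' (Subgroup.center G)) :=
      hRb (Subgroup.mem_zpowers xb)
    obtain ⟨x, hxR', rfl⟩ := hxR
    obtain ⟨P, hPQ, hxP⟩ := hQ x (exists_orderOf_eq_of_mem_sylow R x hxR')
    refine ⟨P.mapSurjective hsurj, ?_, ?_⟩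
    · intro h
      apply hPQ
      apply sylow_eq_of_map_mk_eq
      have := congrArg (fun S : Sylow p (G ⧸ Subgroup.center G) =>
        (S : Subgroup (G ⧸ Subgroup.center G))) h
      exact this
    · exact Subgroup.mem_map_of_mem _ hxP

end quotient

end Cfsg.Agent.Lib.Helper13
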