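import Mathlib
import Cfsg.Agent.Lib.Helper13.CAGroup
import Cfsg.Agent.Lib.Helper13.SL2
import Cfsg.Agent.Lib.Helper13.PSL2
import Cfsg.Agent.Lib.Helper13.PSL2ClassSizeOdd
import Cfsg.Agent.Lib.Helper13.SL2Torus
import Cfsg.Agent.Lib.Helper13.SL2OrderFour
import Cfsg.Agent.Lib.Helper13.SL2Redundant
import Cfsg.Agent.Lib.Helper13.RedundantQuotient
import Cfsg.Agent.Lib.Helper10.TICount
import Cfsg.Agent.Lib.Helper17.Card

/-!
Helper lemmas (helper13): finite groups of odd order embedded in `SL₂(F)` (char `F ≠ 2`).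
Main result: any two unipotent elements of such a group commute (class equation argument).
-/

set_option autoImplicit false
set_option linter.unusedSectionVars false

namespace Cfsg.Agent.Lib.Helper13

open Matrix

section oddSL2

variable {F : Type*} [Field F] {G : Type*} [Group G] [Finite G]

omit [Finite G] in
theorem coe_map_mul (φ : G →* SpecialLinearGroup (Fin 2) F) (a b : G) :
    ((φ (a * b) : SpecialLinearGroup (Fin 2) F) : Matrix (Fin 2) (Fin 2) F) =
      (φ a : Matrix (Fin 2) (Fin 2) F) * (φ b : Matrix (Fin 2) (Fin 2) F) := by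
  rw [map_mul]; rfl

omit [Finite G] in
/-- In a group of odd order, an element whose square is trivial is trivial. -/
theorem eq_one_of_sq_eq_one_of_odd (hodd : Odd (Nat.card G)) (g : G) (h : g ^ 2 = 1) : g = 1 := by
  have h1 : orderOf g ∣ 2 := orderOf_dvd_of_pow_eq_one h
  have h2 : orderOf g ∣ Nat.card G := orderOf_dvd_natCard g
  have h3 : Odd (orderOf g) := Odd.of_dvd_nat hodd h2
  have h4 : orderOf g = 1 := by
    have h5 : orderOf g ≤ 2 := Nat.le_of_dvd (by norm_num) h1
    rcases h3 with ⟨k, hk⟩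
    omega
  exact orderOf_eq_one_iff.mp h4

omit [Finite G] in
/-- In a group of odd order every element is a square. -/
theorem exists_sq_eq_of_odd (hodd : Odd (Nat.card G)) (g : G) : ∃ k : G, k ^ 2 = g := by
  have h2 : orderOf g ∣ Nat.card G := orderOf_dvd_natCard g
  have h3 : Odd (orderOf g) := Odd.of_dvd_nat hodd h2
  obtain ⟨m, hm⟩ := h3
  refine ⟨g ^ (m + 1), ?_⟩
  rw [← pow_mul]
  have : (m + 1) * 2 = orderOf g + 1 := by omega
  rw [this, pow_succ, pow_orderOf_eq_one, one_mul]

variable (φ : G →* SpecialLinearGroup (Fin 2) F) (hinj : Function.Injective φ)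
  (hodd : Odd (Nat.card G)) (h2 : (2 : F) ≠ 0)

include hinj hodd in
/-- Non-identity elements are not scalar. -/
theorem not_scalar_of_ne_one (g : G) (hg : g ≠ 1) :
    ¬ ((φ g : Matrix (Fin 2) (Fin 2) F) 0 1 = 0 ∧ (φ g : Matrix (Fin 2) (Fin 2) F) 1 0 = 0 ∧
      (φ g : Matrix (Fin 2) (Fin 2) F) 0 0 = (φ g : Matrix (Fin 2) (Fin 2) F) 1 1) := by
  rintro ⟨h01, h10, h00⟩
  have hc : φ g ∈ Subgroup.center (SpecialLinearGroup (Fin 2) F) := by
    apply mem_center_of_scalar (φ g) ((φ g : Matrix (Fin 2) (Fin 2) F) 0 0)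
    ext i j
    fin_cases i <;> fin_cases j <;> simp [h01, h10, h00]
  apply hg
  apply eq_one_of_sq_eq_one_of_odd hodd
  apply hinj
  rw [map_pow, map_one, pow_two]
  rcases center_cases (φ g) hc with h | h
  · rw [h, one_mul]
  · rw [h, zSL_mul_self]

include hinj hodd in
/-- Commutative transitivity. -/
theorem oddSL2_CA (z : G) (hz : z ≠ 1) (a b : G) (ha : a * z = z * a) (hb : b * z = z * b) :
    a * b = b * a := by
  apply hinj
  apply Subtype.ext
  change ((φ (a * b) : SpecialLinearGroup (Fin 2) F) : Matrix (Fin 2) (Fin 2) F) =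
    ((φ (b * a) : SpecialLinearGroup (Fin 2) F) : Matrix (Fin 2) (Fin 2) F)
  rw [coe_map_mul, coe_map_mul]
  apply commute_of_commute_nonscalar (φ z : Matrix (Fin 2) (Fin 2) F) _ _
    (not_scalar_of_ne_one φ hinj hodd z hz)
  · rw [← coe_map_mul, ← coe_map_mul, ha]
  · rw [← coe_map_mul, ← coe_map_mul, hb]

include hinj hodd in
theorem oddSL2_centralizer_eq (g h : G) (hg : g ≠ 1) (hh : h ≠ 1) (hc : h * g = g * h) :
    Subgroup.centralizer ({h} : Set G) = Subgroup.centralizer ({g} : Set G) := by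
  ext k
  rw [mem_centralizer_singleton_comm, mem_centralizer_singleton_comm]
  constructor
  · intro hk
    exact oddSL2_CA φ hinj hodd h hh k g hk hc.symm
  · intro hk
    exact oddSL2_CA φ hinj hodd g hg k h hk hc

include hinj hodd in
theorem oddSL2_isTI (g : G) :
    Cfsg.IsTISubset (Subgroup.centralizer ({g} : Set G) : Set G) :=
  isTISubset_centralizer_of_CA (oddSL2_CA φ hinj hodd) g

omit [Finite G] in
theorem trace_map_sq (k : G) :
    ((φ (k ^ 2) : SpecialLinearGroup (Fin 2) F) : Matrix (Fin 2) (Fin 2) F).trace =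
      ((φ k : SpecialLinearGroup (Fin 2) F) : Matrix (Fin 2) (Fin 2) F).trace ^ 2 - 2 := by
  rw [pow_two, coe_map_mul]
  have hch := cayley_hamilton_two (φ k : Matrix (Fin 2) (Fin 2) F) (φ k).2
  rw [hch, Matrix.trace_sub, Matrix.trace_smul, Matrix.trace_one, ← Matrix.trace_fin_two,
    Fintype.card_fin]
  simp only [smul_eq_mul]
  ring

include hinj hodd h2 in
/-- No element has trace `-2`. -/
theorem trace_ne_neg_two (g : G) :
    ((φ g : SpecialLinearGroup (Fin 2) F) : Matrix (Fin 2) (Fin 2) F).trace ≠ -2 := by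
  intro htr
  obtain ⟨k, hk⟩ := exists_sq_eq_of_odd hodd g
  have h1 := trace_map_sq φ k
  rw [hk, htr] at h1
  have ht : ((φ k : SpecialLinearGroup (Fin 2) F) : Matrix (Fin 2) (Fin 2) F).trace = 0 := by
    have : ((φ k : SpecialLinearGroup (Fin 2) F) : Matrix (Fin 2) (Fin 2) F).trace ^ 2 = 0 := by
      linear_combination -h1
    exact pow_eq_zero_iff (two_ne_zero) |>.mp this
  -- `φ g = -1`
  have hch := cayley_hamilton_two (φ k : Matrix (Fin 2) (Fin 2) F) (φ k).2
  rw [← Matrix.trace_fin_two, ht, zero_smul, zero_sub] at hch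
  have hg : φ g = zSL F := by
    apply Subtype.ext
    rw [← hk, pow_two, coe_map_mul, hch, zSL_coe]
    ext i j
    fin_cases i <;> fin_cases j <;> simp
  have hg1 : g = 1 := by
    apply eq_one_of_sq_eq_one_of_odd hodd
    apply hinj
    rw [map_pow, map_one, pow_two, hg, zSL_mul_self]
  rw [hg1, map_one] at htr
  have : ((1 : SpecialLinearGroup (Fin 2) F) : Matrix (Fin 2) (Fin 2) F).trace = 2 := by
    rw [Matrix.SpecialLinearGroup.coe_one, Matrix.trace_one, Fintype.card_fin]
    norm_num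
  rw [this] at htr
  apply h2
  have h4 : (2 : F) * 2 = 0 := by linear_combination htr
  exact (mul_self_eq_zero.mp h4)

include hinj hodd h2 in
theorem trace_cases (g : G) :
    ((φ g : SpecialLinearGroup (Fin 2) F) : Matrix (Fin 2) (Fin 2) F).trace ^ 2 ≠ 4 ∨
      ((φ g : SpecialLinearGroup (Fin 2) F) : Matrix (Fin 2) (Fin 2) F).trace = 2 := by
  by_cases h : ((φ g : SpecialLinearGroup (Fin 2) F) : Matrix (Fin 2) (Fin 2) F).trace ^ 2 = 4
  · right
    have h3 : (((φ g : SpecialLinearGroup (Fin 2) F) : Matrix (Fin 2) (Fin 2) F).trace - 2) *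
        (((φ g : SpecialLinearGroup (Fin 2) F) : Matrix (Fin 2) (Fin 2) F).trace + 2) = 0 := by
      linear_combination h
    rcases mul_eq_zero.mp h3 with h4 | h4
    · exact sub_eq_zero.mp h4
    · exact absurd (eq_neg_of_add_eq_zero_left h4) (trace_ne_neg_two φ hinj hodd h2 g)
  · left; exact h

omit [Finite G] in
theorem trace_map_one :
    ((φ 1 : SpecialLinearGroup (Fin 2) F) : Matrix (Fin 2) (Fin 2) F).trace = 2 := by
  rw [map_one, Matrix.SpecialLinearGroup.coe_one, Matrix.trace_one, Fintype.card_fin]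
  norm_num

omit [Finite G] in
theorem trace_map_conj (x g : G) :
    ((φ (x * g * x⁻¹) : SpecialLinearGroup (Fin 2) F) : Matrix (Fin 2) (Fin 2) F).trace =
      ((φ g : SpecialLinearGroup (Fin 2) F) : Matrix (Fin 2) (Fin 2) F).trace := by
  rw [coe_map_mul, coe_map_mul, Matrix.trace_mul_comm, ← Matrix.mul_assoc, ← coe_map_mul,
    inv_mul_cancel, map_one, Matrix.SpecialLinearGroup.coe_one, Matrix.one_mul]

omit [Finite G] in
theorem ne_one_of_trace_sq_ne_four (g : G)
    (hg : ((φ g : SpecialLinearGroup (Fin 2) F) : Matrix (Fin 2) (Fin 2) F).trace ^ 2 ≠ 4) :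
    g ≠ 1 := by
  rintro rfl
  apply hg
  rw [trace_map_one]
  norm_num

include hinj hodd in
/-- Semisimple pieces are self-normalizing. -/
theorem normalizer_centralizer_eq_of_trace (g : G)
    (hg : ((φ g : SpecialLinearGroup (Fin 2) F) : Matrix (Fin 2) (Fin 2) F).trace ^ 2 ≠ 4) :
    Subgroup.normalizer ((Subgroup.centralizer ({g} : Set G) : Subgroup G) : Set G) =
      Subgroup.centralizer ({g} : Set G) := by
  apply le_antisymm _ Subgroup.le_normalizer
  intro n hn
  have hg1 : g ≠ 1 := ne_one_of_trace_sq_ne_four φ g hg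
  have h1 : n * g * n⁻¹ ∈ Subgroup.centralizer ({g} : Set G) :=
    (Subgroup.mem_normalizer_iff.mp hn g).mp (self_mem_centralizer g)
  have h1' : φ (n * g * n⁻¹) ∈
      Subgroup.centralizer ({φ g} : Set (SpecialLinearGroup (Fin 2) F)) := by
    rw [mem_centralizer_singleton_comm] at h1 ⊢
    rw [← map_mul, ← map_mul, h1]
  rcases eq_or_eq_inv_of_trace_eq (φ g) hg (φ (n * g * n⁻¹)) h1' (trace_map_conj φ n g)
    with h3 | h3
  · have h4 : n * g * n⁻¹ = g := hinj h3
    rw [mem_centralizer_singleton_comm]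
    calc n * g = (n * g * n⁻¹) * n := by group
      _ = g * n := by rw [h4]
  · exfalso
    have h4 : n * g * n⁻¹ = g⁻¹ := by
      apply hinj; rw [h3, map_inv]
    -- `n ^ 2` commutes with `g`
    have h5 : n ^ 2 * g = g * n ^ 2 := by
      have e : n ^ 2 * g * (n ^ 2)⁻¹ = n * (n * g * n⁻¹) * n⁻¹ := by rw [pow_two]; group
      have e2 : n * g⁻¹ * n⁻¹ = (n * g * n⁻¹)⁻¹ := by group
      have e3 : n ^ 2 * g * (n ^ 2)⁻¹ = g := by
        rw [e, h4, e2, h4, inv_inv]
      calc n ^ 2 * g = (n ^ 2 * g * (n ^ 2)⁻¹) * n ^ 2 := by group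
        _ = g * n ^ 2 := by rw [e3]
    -- `n` is a power of `n ^ 2`
    obtain ⟨k, hk⟩ : ∃ k : ℕ, (n ^ 2) ^ k = n := by
      have h6 : orderOf n ∣ Nat.card G := orderOf_dvd_natCard n
      obtain ⟨m, hm⟩ := Odd.of_dvd_nat hodd h6
      refine ⟨m + 1, ?_⟩
      rw [← pow_mul]
      have : 2 * (m + 1) = orderOf n + 1 := by omega
      rw [this, pow_succ, pow_orderOf_eq_one, one_mul]
    have h7 : n * g = g * n := by
      have : Commute (n ^ 2) g := h5
      have h8 := this.pow_left k
      rw [hk] at h8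
      exact h8
    have h9 : g = g⁻¹ := by
      rw [← h4]
      calc g = (g * n) * n⁻¹ := by group
        _ = n * g * n⁻¹ := by rw [← h7]
    apply hg1
    apply eq_one_of_sq_eq_one_of_odd hodd
    rw [pow_two]
    calc g * g = g * g⁻¹ := by rw [← h9]
      _ = 1 := mul_inv_cancel g

/-! ### Unipotent elements -/

omit [Finite G] in
theorem sq_sub_one_eq_zero_of_trace_two (g : G)
    (hg : ((φ g : SpecialLinearGroup (Fin 2) F) : Matrix (Fin 2) (Fin 2) F).trace = 2) :
    ((φ g : Matrix (Fin 2) (Fin 2) F) - 1) ^ 2 = 0 := by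
  have hch := cayley_hamilton_two (φ g : Matrix (Fin 2) (Fin 2) F) (φ g).2
  rw [← Matrix.trace_fin_two, hg] at hch
  rw [pow_two, sub_mul, mul_sub, mul_sub, hch]
  simp only [Matrix.mul_one, Matrix.one_mul]
  module

variable (p : ℕ) [Fact p.Prime] [CharP F p]

include hinj in
omit [Finite G] in
theorem pow_char_eq_one_of_trace_two (g : G)
    (hg : ((φ g : SpecialLinearGroup (Fin 2) F) : Matrix (Fin 2) (Fin 2) F).trace = 2) :
    g ^ p = 1 := by
  apply hinj
  rw [map_pow, map_one]
  apply Subtype.ext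
  change (φ g : Matrix (Fin 2) (Fin 2) F) ^ p = 1
  have hN := sq_sub_one_eq_zero_of_trace_two φ g hg
  set N : Matrix (Fin 2) (Fin 2) F := (φ g : Matrix (Fin 2) (Fin 2) F) - 1 with hNdef
  have e : (φ g : Matrix (Fin 2) (Fin 2) F) = 1 + N := by rw [hNdef]; abel
  have hp2 : 2 ≤ p := (Fact.out : p.Prime).two_le
  have hNp : N ^ p = 0 := by
    have : p = 2 + (p - 2) := by omega
    rw [this, pow_add, hN, zero_mul]
  rw [e, add_pow_char_of_commute p (Commute.one_left N), one_pow, hNp, add_zero]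

include hinj in
omit [Finite G] in
theorem trace_two_of_pow_char_pow (g : G) (k : ℕ) (hg : g ^ (p ^ k) = 1) :
    ((φ g : SpecialLinearGroup (Fin 2) F) : Matrix (Fin 2) (Fin 2) F).trace = 2 := by
  have h1 : (φ g : Matrix (Fin 2) (Fin 2) F) ^ (p ^ k) = 1 := by
    have := congrArg (fun x : G => ((φ x : SpecialLinearGroup (Fin 2) F) :
      Matrix (Fin 2) (Fin 2) F)) hg
    simpa using this
  have h3 : ((φ g : Matrix (Fin 2) (Fin 2) F) - 1) ^ (p ^ k) = 0 := by
    rw [sub_pow_char_pow_of_commute p k (Commute.one_right _), h1, one_pow, sub_self]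
  have h4 : IsNilpotent ((φ g : Matrix (Fin 2) (Fin 2) F) - 1) := ⟨p ^ k, h3⟩
  have h5 := Matrix.isNilpotent_trace_of_isNilpotent h4
  have h6 : ((φ g : Matrix (Fin 2) (Fin 2) F) - 1).trace = 0 := h5.eq_zero
  rw [Matrix.trace_sub, Matrix.trace_one, Fintype.card_fin] at h6
  have h7 := sub_eq_zero.mp h6
  rw [h7]; norm_num

include hinj hodd h2 in
/-- Elements commuting with a non-identity unipotent element are unipotent. -/
theorem trace_two_of_commute_unip (u : G) (hu1 : u ≠ 1)
    (hu : ((φ u : SpecialLinearGroup (Fin 2) F) : Matrix (Fin 2) (Fin 2) F).trace = 2)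
    (h : G) (hc : h * u = u * h) :
    ((φ h : SpecialLinearGroup (Fin 2) F) : Matrix (Fin 2) (Fin 2) F).trace = 2 := by
  have hm : (φ h : Matrix (Fin 2) (Fin 2) F) * (φ u : Matrix (Fin 2) (Fin 2) F) =
      (φ u : Matrix (Fin 2) (Fin 2) F) * (φ h : Matrix (Fin 2) (Fin 2) F) := by
    rw [← coe_map_mul, ← coe_map_mul, hc]
  obtain ⟨x, y, hxy⟩ := exists_eq_smul_add_of_commute _ _
    (not_scalar_of_ne_one φ hinj hodd u hu1) hm
  have hdet := det_coords (φ u : Matrix (Fin 2) (Fin 2) F) x y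
  rw [← hxy, (φ h).2, hu, (φ u).2] at hdet
  have htr := trace_coords (φ u : Matrix (Fin 2) (Fin 2) F) x y
  rw [← hxy, hu] at htr
  have h3 : (x + y - 1) * (x + y + 1) = 0 := by linear_combination -hdet
  rcases mul_eq_zero.mp h3 with h4 | h4
  · rw [htr]; linear_combination 2 * h4
  · exfalso
    apply trace_ne_neg_two φ hinj hodd h2 h
    rw [htr]; linear_combination 2 * h4

include hinj hodd h2 in
theorem isPGroup_centralizer_unip (u : G) (hu1 : u ≠ 1)
    (hu : ((φ u : SpecialLinearGroup (Fin 2) F) : Matrix (Fin 2) (Fin 2) F).trace = 2) :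
    IsPGroup p (Subgroup.centralizer ({u} : Set G)) := by
  rintro ⟨h, hh⟩
  refine ⟨1, ?_⟩
  rw [mem_centralizer_singleton_comm] at hh
  apply Subtype.ext
  rw [pow_one, Subgroup.coe_pow, Subgroup.coe_one]
  exact pow_char_eq_one_of_trace_two φ hinj p h
    (trace_two_of_commute_unip φ hinj hodd h2 u hu1 hu h hh)

include hinj hodd h2 in
/-- The centralizer of a non-identity unipotent element is a Sylow `p`-subgroup. -/
theorem exists_sylow_eq_centralizer_unip (u : G) (hu1 : u ≠ 1)
    (hu : ((φ u : SpecialLinearGroup (Fin 2) F) : Matrix (Fin 2) (Fin 2) F).trace = 2) :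
    ∃ Q : Sylow p G, (Q : Subgroup G) = Subgroup.centralizer ({u} : Set G) := by
  obtain ⟨Q, hQ⟩ := (isPGroup_centralizer_unip φ hinj hodd h2 p u hu1 hu).exists_le_sylow
  refine ⟨Q, le_antisymm ?_ hQ⟩
  have huQ : u ∈ (Q : Subgroup G) := hQ (self_mem_centralizer u)
  have : Nontrivial (Q : Subgroup G) := ⟨⟨⟨u, huQ⟩, 1, fun h => hu1 (congrArg Subtype.val h)⟩⟩
  have hcn := Q.isPGroup'.center_nontrivial
  obtain ⟨⟨z, hz⟩, hz1⟩ := exists_ne (1 : Subgroup.center (Q : Subgroup G))
  have hzne : (z : G) ≠ 1 := by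
    intro h
    apply hz1
    apply Subtype.ext
    apply Subtype.ext
    exact h
  have hzu : (z : G) * u = u * (z : G) := by
    have := Subgroup.mem_center_iff.mp hz ⟨u, huQ⟩
    have := congrArg Subtype.val this
    exact this.symm
  have hceq := oddSL2_centralizer_eq φ hinj hodd u (z : G) hu1 hzne hzu
  intro q hq
  rw [← hceq, mem_centralizer_singleton_comm]
  have h5 := Subgroup.mem_center_iff.mp hz ⟨q, hq⟩
  have h6 : q * (z : G) = (z : G) * q := congrArg Subtype.val h5
  exact h6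

include hinj hodd h2 p in
/-- All unipotent pieces are conjugate. -/
theorem exists_conj_centralizer_unip (u u' : G) (hu1 : u ≠ 1) (hu1' : u' ≠ 1)
    (hu : ((φ u : SpecialLinearGroup (Fin 2) F) : Matrix (Fin 2) (Fin 2) F).trace = 2)
    (hu' : ((φ u' : SpecialLinearGroup (Fin 2) F) : Matrix (Fin 2) (Fin 2) F).trace = 2) :
    ∃ x : G, x * u' * x⁻¹ ∈ Subgroup.centralizer ({u} : Set G) := by
  obtain ⟨Q, hQ⟩ := exists_sylow_eq_centralizer_unip φ hinj hodd h2 p u hu1 hu
  obtain ⟨Q', hQ'⟩ := exists_sylow_eq_centralizer_unip φ hinj hodd h2 p u' hu1' hu'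
  obtain ⟨x, hx⟩ := MulAction.exists_smul_eq G Q' Q
  refine ⟨x, ?_⟩
  rw [← hQ, ← hx, Sylow.coe_subgroup_smul, Subgroup.mem_smul_pointwise_iff_exists]
  refine ⟨u', ?_, ?_⟩
  · rw [hQ']; exact self_mem_centralizer u'
  · rfl

end oddSL2

section borel

variable {F : Type*} [Field F]

/-- If `K (tSL t) = X K` with `X` commuting with transvections, then `K` is upper triangular. -/
theorem lower_zero_of_conj_tSL (K X : SpecialLinearGroup (Fin 2) F) (t : F) (ht : t ≠ 0)
    (h : K * tSL t = X * K) (hX10 : (X : Matrix (Fin 2) (Fin 2) F) 1 0 = 0)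
    (hX : (X : Matrix (Fin 2) (Fin 2) F) 0 0 = (X : Matrix (Fin 2) (Fin 2) F) 1 1) :
    (K : Matrix (Fin 2) (Fin 2) F) 1 0 = 0 := by
  have h' := congrArg (fun g : SpecialLinearGroup (Fin 2) F => (g : Matrix (Fin 2) (Fin 2) F)) h
  simp only [coe_mul_SL, tSL_coe] at h'
  have h10 := congrFun (congrFun h' 1) 0
  have h11 := congrFun (congrFun h' 1) 1
  simp [Matrix.mul_apply, Fin.sum_univ_two, hX10] at h10 h11
  by_contra hne
  have hX1 : (X : Matrix (Fin 2) (Fin 2) F) 1 1 = 1 := by
    have : (K : Matrix (Fin 2) (Fin 2) F) 1 0 * (1 - (X : Matrix (Fin 2) (Fin 2) F) 1 1) = 0 := by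
      linear_combination h10
    rcases mul_eq_zero.mp this with h3 | h3
    · exact absurd h3 hne
    · exact (sub_eq_zero.mp h3).symm
  rw [hX1] at h11
  have : (K : Matrix (Fin 2) (Fin 2) F) 1 0 * t = 0 := by linear_combination h11
  rcases mul_eq_zero.mp this with h3 | h3
  · exact hne h3
  · exact ht h3

end borel

section oddSL2b

variable {F : Type*} [Field F] {G : Type*} [Group G] [Finite G]
  (φ : G →* SpecialLinearGroup (Fin 2) F) (hinj : Function.Injective φ)
  (hodd : Odd (Nat.card G)) (h2 : (2 : F) ≠ 0)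

include hinj hodd in
/-- Normalized form of the next lemma. -/
theorem centralizer_le_normalizer_unip_aux (u : G) (t : F) (ht : t ≠ 0) (hφu : φ u = tSL t)
    (s : G) (hs1 : s ≠ 1)
    (hs : s ∈ Subgroup.normalizer ((Subgroup.centralizer ({u} : Set G) : Subgroup G) : Set G)) :
    Subgroup.centralizer ({s} : Set G) ≤
      Subgroup.normalizer ((Subgroup.centralizer ({u} : Set G) : Subgroup G) : Set G) := by
  have hu1 : u ≠ 1 := by
    rintro rfl
    rw [map_one] at hφu
    have := congrArg (fun g : SpecialLinearGroup (Fin 2) F => (g : Matrix (Fin 2) (Fin 2) F) 0 1) hφu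
    simp [tSL_coe] at this
    exact ht this.symm
  -- commuting with `u` in terms of matrices
  have hcomm : ∀ g : G, g * u = u * g ↔ ((φ g : Matrix (Fin 2) (Fin 2) F) 1 0 = 0 ∧
      (φ g : Matrix (Fin 2) (Fin 2) F) 0 0 = (φ g : Matrix (Fin 2) (Fin 2) F) 1 1) := by
    intro g
    rw [← mem_centralizer_tSL_iff t ht, mem_centralizer_singleton_comm, ← hφu, ← map_mul, ← map_mul]
    exact ⟨fun h => by rw [h], fun h => hinj h⟩
  -- `φ s` is upper triangular
  have h1 : s * u * s⁻¹ ∈ Subgroup.centralizer ({u} : Set G) :=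
    (Subgroup.mem_normalizer_iff.mp hs u).mp (self_mem_centralizer u)
  rw [mem_centralizer_singleton_comm] at h1
  obtain ⟨hX10, hX⟩ := (hcomm _).mp h1
  have hs10 : (φ s : Matrix (Fin 2) (Fin 2) F) 1 0 = 0 := by
    apply lower_zero_of_conj_tSL (φ s) (φ (s * u * s⁻¹)) t ht _ hX10 hX
    rw [← hφu, ← map_mul, ← map_mul]
    congr 1
    group
  intro a ha
  rw [mem_centralizer_singleton_comm] at ha
  have hm : (φ a : Matrix (Fin 2) (Fin 2) F) * (φ s : Matrix (Fin 2) (Fin 2) F) =
      (φ s : Matrix (Fin 2) (Fin 2) F) * (φ a : Matrix (Fin 2) (Fin 2) F) := by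
    rw [← coe_map_mul, ← coe_map_mul, ha]
  obtain ⟨x, y, hxy⟩ := exists_eq_smul_add_of_commute _ _
    (not_scalar_of_ne_one φ hinj hodd s hs1) hm
  have ha10 : (φ a : Matrix (Fin 2) (Fin 2) F) 1 0 = 0 := by
    rw [hxy]
    simp [hs10]
  have hconj := conj_tSL_of_upper (φ a) ha10 t
  have h3 : a * u * a⁻¹ ∈ Subgroup.centralizer ({u} : Set G) := by
    rw [mem_centralizer_singleton_comm, hcomm]
    have e : φ (a * u * a⁻¹) = φ a * tSL t * (φ a)⁻¹ := by
      rw [map_mul, map_mul, map_inv, hφu]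
    rw [e, hconj, tSL_coe]
    simp
  exact Cfsg.Agent.Lib.Helper10.mem_normalizer_of_ti (oddSL2_isTI φ hinj hodd u)
    (self_mem_centralizer u) hu1 h3

include hinj hodd in
/-- A semisimple piece meeting the normalizer of a unipotent piece lies in that normalizer. -/
theorem centralizer_le_normalizer_unip (u : G) (hu1 : u ≠ 1)
    (hu : ((φ u : SpecialLinearGroup (Fin 2) F) : Matrix (Fin 2) (Fin 2) F).trace = 2)
    (s : G) (hs1 : s ≠ 1)
    (hs : s ∈ Subgroup.normalizer ((Subgroup.centralizer ({u} : Set G) : Subgroup G) : Set G)) :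
    Subgroup.centralizer ({s} : Set G) ≤
      Subgroup.normalizer ((Subgroup.centralizer ({u} : Set G) : Subgroup G) : Set G) := by
  obtain ⟨B, t, ht, hB⟩ := exists_conj_tSL (φ u) (sq_sub_one_eq_zero_of_trace_two φ u hu)
    (fun h => hu1 (hinj (by rw [h, map_one])))
  set ψ : G →* SpecialLinearGroup (Fin 2) F := (MulAut.conj B⁻¹).toMonoidHom.comp φ with hψ
  have hψinj : Function.Injective ψ := by
    rw [hψ]
    exact (MulAut.conj B⁻¹).injective.comp hinj
  have hψu : ψ u = tSL t := by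
    rw [hψ]
    simp only [MonoidHom.coe_comp, MulEquiv.coe_toMonoidHom, Function.comp_apply,
      MulAut.conj_apply, inv_inv]
    rw [mul_assoc, hB]
    group
  exact centralizer_le_normalizer_unip_aux ψ hψinj hodd u t ht hψu s hs1 hs

end oddSL2b

section counting

variable {G : Type*} [Group G] [Finite G]

/-- The number of non-identity elements of a subgroup. -/
theorem card_ne_one_add_one (H : Subgroup G) :
    Nat.card {h : G // h ∈ H ∧ h ≠ 1} + 1 = Nat.card H := by
  classical
  have : Fintype G := Fintype.ofFinite G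
  have e : {h : G // h ∈ H ∧ h ≠ 1} ≃ {h : H // h ≠ 1} :=
    { toFun := fun h => ⟨⟨h.1, h.2.1⟩, fun hh => h.2.2 (congrArg Subtype.val hh)⟩
      invFun := fun h => ⟨h.1.1, h.1.2, fun hh => h.2 (Subtype.ext hh)⟩
      left_inv := fun h => rfl
      right_inv := fun h => rfl }
  rw [Nat.card_congr e, Nat.card_eq_fintype_card, Nat.card_eq_fintype_card,
    Fintype.card_subtype_compl, Fintype.card_subtype_eq]
  have : 0 < Fintype.card H := Fintype.card_pos
  omega

/-- TI counting with the normalizer order and `|H| - 1`. -/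
theorem ti_count' (H : Subgroup G) (hTI : Cfsg.IsTISubset (H : Set G)) (k : ℕ)
    (hk : Nat.card H = k + 1) :
    Nat.card {g : G // g ≠ 1 ∧ ∃ x : G, x * g * x⁻¹ ∈ H} *
      Nat.card (Subgroup.normalizer (H : Set G)) = Nat.card G * k := by
  rw [Cfsg.Agent.Lib.Helper10.ti_count H hTI]
  have := card_ne_one_add_one H
  rw [hk] at this
  have h2 : Nat.card {h : G // h ∈ H ∧ h ≠ 1} = k := by omega
  rw [h2]

/-- Two families of conjugates without common non-identity element. -/
theorem card_conj_add_card_conj_lt (A A' : Subgroup G)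
    (hdisj : ∀ g : G, g ≠ 1 → (∃ x : G, x * g * x⁻¹ ∈ A) → (∃ y : G, y * g * y⁻¹ ∈ A') → False) :
    Nat.card {g : G // g ≠ 1 ∧ ∃ x : G, x * g * x⁻¹ ∈ A} +
      Nat.card {g : G // g ≠ 1 ∧ ∃ x : G, x * g * x⁻¹ ∈ A'} + 1 ≤ Nat.card G := by
  classical
  let f : ({g : G // g ≠ 1 ∧ ∃ x : G, x * g * x⁻¹ ∈ A} ⊕
      {g : G // g ≠ 1 ∧ ∃ x : G, x * g * x⁻¹ ∈ A'}) ⊕ Unit → G := fun o =>
    match o with
    | Sum.inl (Sum.inl g) => g.1
    | Sum.inl (Sum.inr g) => g.1
    | Sum.inr _ => 1
  have hf : Function.Injective f := by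
    rintro ((⟨a, ha⟩ | ⟨a, ha⟩) | _) ((⟨b, hb⟩ | ⟨b, hb⟩) | _) h
    · simp only [f] at h; subst h; rfl
    · simp only [f] at h; subst h; exact (hdisj a ha.1 ha.2 hb.2).elim
    · simp only [f] at h; exact (ha.1 h).elim
    · simp only [f] at h; subst h; exact (hdisj a ha.1 hb.2 ha.2).elim
    · simp only [f] at h; subst h; rfl
    · simp only [f] at h; exact (ha.1 h).elim
    · simp only [f] at h; exact (hb.1 h.symm).elim
    · simp only [f] at h; exact (hb.1 h.symm).elim
    · rfl
  have := Nat.card_le_card_of_injective f hf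
  have hu : Nat.card Unit = 1 := Nat.card_unique
  rw [Nat.card_sum, Nat.card_sum, hu] at this
  exact this

omit [Finite G] in
theorem three_le_card_of_mem (hodd : Odd (Nat.card G)) (H : Subgroup G) (g : G) (hg : g ∈ H)
    (hg1 : g ≠ 1) : 3 ≤ Nat.card H := by
  have h1 : Nat.card H ∣ Nat.card G := Subgroup.card_subgroup_dvd_card H
  obtain ⟨m, hm⟩ := Odd.of_dvd_nat hodd h1
  have h3 : Nat.card H ≠ 1 := by
    intro h
    rw [Subgroup.card_eq_one] at h
    rw [h, Subgroup.mem_bot] at hg
    exact hg1 hg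
  omega

end counting

section main

variable {F : Type*} [Field F] {G : Type*} [Group G] [Finite G]
  (φ : G →* SpecialLinearGroup (Fin 2) F) (hinj : Function.Injective φ)
  (hodd : Odd (Nat.card G)) (h2 : (2 : F) ≠ 0)

/-- The trace of the image of `g`. -/
abbrev trOf (g : G) : F := ((φ g : SpecialLinearGroup (Fin 2) F) : Matrix (Fin 2) (Fin 2) F).trace

include hinj hodd h2 in
/-- All semisimple pieces are conjugate. -/
theorem exists_conj_mem_centralizer_semisimple (s s' : G) (hs : trOf φ s ^ 2 ≠ 4)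
    (hs' : trOf φ s' ^ 2 ≠ 4) :
    ∃ x : G, x * s' * x⁻¹ ∈ Subgroup.centralizer ({s} : Set G) := by
  by_contra hno
  have hs1 : s ≠ 1 := ne_one_of_trace_sq_ne_four φ s hs
  have hs1' : s' ≠ 1 := ne_one_of_trace_sq_ne_four φ s' hs'
  have hdisj : ∀ g : G, g ≠ 1 → (∃ x : G, x * g * x⁻¹ ∈ Subgroup.centralizer ({s} : Set G)) →
      (∃ y : G, y * g * y⁻¹ ∈ Subgroup.centralizer ({s'} : Set G)) → False := by
    rintro g hg ⟨x, hx⟩ ⟨y, hy⟩
    apply hno
    have hh1 : x * g * x⁻¹ ≠ 1 := Cfsg.Agent.Lib.Helper10.conj_ne_one_of_ne_one hg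
    have hc : (x * g * x⁻¹) * s = s * (x * g * x⁻¹) := (mem_centralizer_singleton_comm _ _).mp hx
    have hc' : (y * g * y⁻¹) * s' = s' * (y * g * y⁻¹) :=
      (mem_centralizer_singleton_comm _ _).mp hy
    refine ⟨x * y⁻¹, ?_⟩
    rw [← oddSL2_centralizer_eq φ hinj hodd s (x * g * x⁻¹) hs1 hh1 hc,
      mem_centralizer_singleton_comm]
    have e1 : x * y⁻¹ * s' * (x * y⁻¹)⁻¹ * (x * g * x⁻¹) =
        (x * y⁻¹) * (s' * (y * g * y⁻¹)) * (x * y⁻¹)⁻¹ := by group
    have e2 : (x * g * x⁻¹) * (x * y⁻¹ * s' * (x * y⁻¹)⁻¹) =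
        (x * y⁻¹) * ((y * g * y⁻¹) * s') * (x * y⁻¹)⁻¹ := by group
    rw [e1, e2, hc']
  have hcount := card_conj_add_card_conj_lt _ _ hdisj
  have h3 := three_le_card_of_mem hodd (Subgroup.centralizer ({s} : Set G)) s
    (self_mem_centralizer s) hs1
  have h3' := three_le_card_of_mem hodd (Subgroup.centralizer ({s'} : Set G)) s'
    (self_mem_centralizer s') hs1'
  obtain ⟨k, hk⟩ : ∃ k, Nat.card (Subgroup.centralizer ({s} : Set G)) = k + 1 :=
    ⟨Nat.card (Subgroup.centralizer ({s} : Set G)) - 1, by omega⟩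
  obtain ⟨k', hk'⟩ : ∃ k', Nat.card (Subgroup.centralizer ({s'} : Set G)) = k' + 1 :=
    ⟨Nat.card (Subgroup.centralizer ({s'} : Set G)) - 1, by omega⟩
  have hc1 := ti_count' _ (oddSL2_isTI φ hinj hodd s) k hk
  have hc2 := ti_count' _ (oddSL2_isTI φ hinj hodd s') k' hk'
  rw [normalizer_centralizer_eq_of_trace φ hinj hodd s hs, hk] at hc1
  rw [normalizer_centralizer_eq_of_trace φ hinj hodd s' hs', hk'] at hc2
  set c := Nat.card {g : G // g ≠ 1 ∧ ∃ x : G, x * g * x⁻¹ ∈ Subgroup.centralizer ({s} : Set G)}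
  set c' := Nat.card {g : G // g ≠ 1 ∧ ∃ x : G, x * g * x⁻¹ ∈ Subgroup.centralizer ({s'} : Set G)}
  set γ := Nat.card G
  have hk2 : 2 ≤ k := by omega
  have hk2' : 2 ≤ k' := by omega
  have e1 : 2 * γ ≤ 3 * c := by
    have : 2 * γ * (k + 1) ≤ 3 * c * (k + 1) := by nlinarith
    exact Nat.le_of_mul_le_mul_right this (by omega)
  have e2 : 2 * γ ≤ 3 * c' := by
    have : 2 * γ * (k' + 1) ≤ 3 * c' * (k' + 1) := by nlinarith
    exact Nat.le_of_mul_le_mul_right this (by omega)
  omega

variable (p : ℕ) [Fact p.Prime] [CharP F p]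

include hinj hodd h2 p in
/-- **Main theorem**: in a finite group of odd order embedded in `SL₂(F)`, any two unipotent
elements commute. -/
theorem unip_commute_of_odd (u u' : G) (hu : trOf φ u = 2) (hu' : trOf φ u' = 2) :
    u * u' = u' * u := by
  classical
  by_cases hu1 : u = 1
  · subst hu1; simp
  by_cases hu1' : u' = 1
  · subst hu1'; simp
  by_contra hnc
  set P := Subgroup.centralizer ({u} : Set G) with hP
  have hTI : Cfsg.IsTISubset (P : Set G) := oddSL2_isTI φ hinj hodd u
  have hr3 := three_le_card_of_mem hodd P u (self_mem_centralizer u) hu1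
  obtain ⟨r', hr'⟩ : ∃ r', Nat.card P = r' + 1 := ⟨Nat.card P - 1, by omega⟩
  have hr2 : 2 ≤ r' := by omega
  have hPN : P ≤ Subgroup.normalizer (P : Set G) := Subgroup.le_normalizer
  have hrn : r' + 1 ≤ Nat.card (Subgroup.normalizer (P : Set G)) := by
    rw [← hr']; exact Subgroup.card_le_of_le hPN
  have hnγ : Nat.card (Subgroup.normalizer (P : Set G)) ≤ Nat.card G :=
    Subgroup.card_le_card_group _
  have hcU := ti_count' P hTI r' hr'
  -- description of the conjugates of `P`
  have hXP : ∀ g : G, (g ≠ 1 ∧ ∃ x : G, x * g * x⁻¹ ∈ P) ↔ (g ≠ 1 ∧ trOf φ g = 2) := by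
    intro g
    constructor
    · rintro ⟨hg, x, hx⟩
      refine ⟨hg, ?_⟩
      have := trace_two_of_commute_unip φ hinj hodd h2 u hu1 hu (x * g * x⁻¹)
        ((mem_centralizer_singleton_comm _ _).mp hx)
      rwa [trace_map_conj] at this
    · rintro ⟨hg, hgu⟩
      exact ⟨hg, exists_conj_centralizer_unip φ hinj hodd h2 p u g hu1 hg hu hgu⟩
  -- partition of `G`
  have hpart : Nat.card G = 1 + Nat.card {g : G // g ≠ 1 ∧ ∃ x : G, x * g * x⁻¹ ∈ P} +
      Nat.card {g : G // trOf φ g ^ 2 ≠ 4} := by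
    have hu1c : Nat.card Unit = 1 := Nat.card_unique
    rw [← hu1c, ← Nat.card_sum, ← Nat.card_sum]
    symm
    let f : (Unit ⊕ {g : G // g ≠ 1 ∧ ∃ x : G, x * g * x⁻¹ ∈ P}) ⊕
        {g : G // trOf φ g ^ 2 ≠ 4} → G := fun o =>
      match o with
      | Sum.inl (Sum.inl _) => 1
      | Sum.inl (Sum.inr g) => g.1
      | Sum.inr g => g.1
    apply Nat.card_congr (Equiv.ofBijective f ⟨?_, ?_⟩)
    · rintro ((_ | ⟨a, ha⟩) | ⟨a, ha⟩) ((_ | ⟨b, hb⟩) | ⟨b, hb⟩) h
      · rfl
      · simp only [f] at h; exact (hb.1 h.symm).elim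
      · simp only [f] at h; subst h
        exact (ne_one_of_trace_sq_ne_four φ _ hb rfl).elim
      · simp only [f] at h; exact (ha.1 h).elim
      · simp only [f] at h; subst h; rfl
      · simp only [f] at h; subst h
        exfalso
        have := ((hXP a).mp ha).2
        apply hb
        rw [this]; norm_num
      · simp only [f] at h; subst h
        exact (ne_one_of_trace_sq_ne_four φ _ ha rfl).elim
      · simp only [f] at h; subst h
        exfalso
        have := ((hXP a).mp hb).2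
        apply ha
        rw [this]; norm_num
      · simp only [f] at h; subst h; rfl
    · intro g
      by_cases hg : g = 1
      · exact ⟨Sum.inl (Sum.inl ()), hg.symm⟩
      · rcases trace_cases φ hinj hodd h2 g with h | h
        · exact ⟨Sum.inr ⟨g, h⟩, rfl⟩
        · exact ⟨Sum.inl (Sum.inr ⟨g, (hXP g).mpr ⟨hg, h⟩⟩), rfl⟩
  -- semisimple count
  have hsemi : ∀ s : G, trOf φ s ^ 2 ≠ 4 → ∀ k : ℕ,
      Nat.card (Subgroup.centralizer ({s} : Set G)) = k + 1 →
      Nat.card {g : G // trOf φ g ^ 2 ≠ 4} * (k + 1) = Nat.card G * k := by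
    intro s hs k hk
    have hc1 := ti_count' _ (oddSL2_isTI φ hinj hodd s) k hk
    rw [normalizer_centralizer_eq_of_trace φ hinj hodd s hs, hk] at hc1
    rw [← hc1]
    congr 1
    apply Nat.card_congr
    apply Equiv.subtypeEquivRight
    intro g
    constructor
    · intro hg
      exact ⟨ne_one_of_trace_sq_ne_four φ g hg,
        exists_conj_mem_centralizer_semisimple φ hinj hodd h2 s g hs hg⟩
    · rintro ⟨hg, x, hx⟩
      rcases trace_cases φ hinj hodd h2 (x * g * x⁻¹) with h | h
      · rwa [trace_map_conj] at h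
      · exfalso
        have hh1 : x * g * x⁻¹ ≠ 1 := Cfsg.Agent.Lib.Helper10.conj_ne_one_of_ne_one hg
        have hc : s * (x * g * x⁻¹) = (x * g * x⁻¹) * s :=
          ((mem_centralizer_singleton_comm _ _).mp hx).symm
        have := trace_two_of_commute_unip φ hinj hodd h2 (x * g * x⁻¹) hh1 h s hc
        apply hs
        change ((φ s : SpecialLinearGroup (Fin 2) F) : Matrix (Fin 2) (Fin 2) F).trace ^ 2 = 4
        rw [this]; norm_num
  set n := Nat.card (Subgroup.normalizer (P : Set G)) with hn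
  set γ := Nat.card G with hγ
  set cU := Nat.card {g : G // g ≠ 1 ∧ ∃ x : G, x * g * x⁻¹ ∈ P} with hcUdef
  set cS := Nat.card {g : G // trOf φ g ^ 2 ≠ 4} with hcSdef
  have hkey : γ ≤ n := by
    by_cases hS : Nonempty {g : G // trOf φ g ^ 2 ≠ 4}
    · by_cases hnr : n = r' + 1
      · -- `N(P) = P`: impossible
        exfalso
        obtain ⟨⟨s, hs⟩⟩ := hS
        have hs1 : s ≠ 1 := ne_one_of_trace_sq_ne_four φ s hs
        have h3 := three_le_card_of_mem hodd (Subgroup.centralizer ({s} : Set G)) s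
          (self_mem_centralizer s) hs1
        obtain ⟨k, hk⟩ : ∃ k, Nat.card (Subgroup.centralizer ({s} : Set G)) = k + 1 :=
          ⟨Nat.card (Subgroup.centralizer ({s} : Set G)) - 1, by omega⟩
        have hk2 : 2 ≤ k := by omega
        have hcS := hsemi s hs k hk
        rw [hnr] at hcU
        -- cU (r'+1) = γ r', cS (k+1) = γ k, γ = 1 + cU + cS
        have e1 : γ * (r' + 1) * (k + 1) =
            (r' + 1) * (k + 1) + γ * r' * (k + 1) + γ * k * (r' + 1) := by
          rw [← hcU, ← hcS, hpart]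
          ring
        nlinarith [Nat.zero_le γ, Nat.zero_le (γ * r' * k), Nat.mul_le_mul hr2 hk2]
      · -- `N(P) > P`
        have hlt : P < Subgroup.normalizer (P : Set G) := by
          apply lt_of_le_of_ne hPN
          intro h
          apply hnr
          rw [hn, ← h, hr']
        obtain ⟨s₀, hs₀N, hs₀P⟩ := SetLike.exists_of_lt hlt
        have hs₀1 : s₀ ≠ 1 := by
          rintro rfl
          exact hs₀P (Subgroup.one_mem _)
        have hs₀S : trOf φ s₀ ^ 2 ≠ 4 := by
          rcases trace_cases φ hinj hodd h2 s₀ with h | h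
          · exact h
          · exfalso
            obtain ⟨Q, hQ⟩ := exists_sylow_eq_centralizer_unip φ hinj hodd h2 p u hu1 hu
            have hz : IsPGroup p (Subgroup.zpowers s₀) := by
              rw [IsPGroup.iff_orderOf]
              rintro ⟨x, hx⟩
              obtain ⟨j, rfl⟩ := Subgroup.mem_zpowers_iff.mp hx
              have hp1 : (s₀ ^ j) ^ p = 1 := by
                rw [← zpow_natCast, ← _root_.zpow_mul, mul_comm, _root_.zpow_mul, zpow_natCast,
                  pow_char_eq_one_of_trace_two φ hinj p s₀ h, _root_.one_zpow]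
              have hd : orderOf (⟨s₀ ^ j, hx⟩ : Subgroup.zpowers s₀) ∣ p := by
                rw [Subgroup.orderOf_mk]
                exact orderOf_dvd_of_pow_eq_one hp1
              rcases (Nat.dvd_prime (Fact.out : p.Prime)).mp hd with h1 | h1
              · exact ⟨0, by rw [h1, pow_zero]⟩
              · exact ⟨1, by rw [h1, pow_one]⟩
            have hle := le_sylow_of_le_normalizer p Q (Subgroup.zpowers s₀) hz (by
              rw [Subgroup.zpowers_le, hQ]; exact hs₀N)
            apply hs₀P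
            rw [hP, ← hQ]
            exact hle (Subgroup.mem_zpowers s₀)
        have h3 := three_le_card_of_mem hodd (Subgroup.centralizer ({s₀} : Set G)) s₀
          (self_mem_centralizer s₀) hs₀1
        obtain ⟨k, hk⟩ : ∃ k, Nat.card (Subgroup.centralizer ({s₀} : Set G)) = k + 1 :=
          ⟨Nat.card (Subgroup.centralizer ({s₀} : Set G)) - 1, by omega⟩
        have hcS := hsemi s₀ hs₀S k hk
        -- `C(s₀) ≤ N(P)` and `C(s₀) ⊓ P = ⊥`
        have hAN := centralizer_le_normalizer_unip φ hinj hodd u hu1 hu s₀ hs₀1 hs₀N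
        have hAP : Subgroup.centralizer ({s₀} : Set G) ⊓ P = ⊥ := by
          rw [eq_bot_iff]
          intro h hh
          rw [Subgroup.mem_bot]
          by_contra hh1
          obtain ⟨hhA, hhP⟩ := Subgroup.mem_inf.mp hh
          have e1 := oddSL2_centralizer_eq φ hinj hodd s₀ h hs₀1 hh1
            ((mem_centralizer_singleton_comm _ _).mp hhA)
          have e2 := oddSL2_centralizer_eq φ hinj hodd u h hu1 hh1
            ((mem_centralizer_singleton_comm _ _).mp hhP)
          apply hs₀P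
          rw [hP, ← e2, e1]
          exact self_mem_centralizer s₀
        have hle := Cfsg.Agent.Lib.Helper17.card_mul_card_le_card_sup_mul_card_inf
          (Subgroup.centralizer ({s₀} : Set G)) P
        rw [hAP, Subgroup.card_bot, mul_one, hk, hr'] at hle
        have hsup : Nat.card ↥(Subgroup.centralizer ({s₀} : Set G) ⊔ P) ≤ n :=
          Subgroup.card_le_of_le (sup_le hAN hPN)
        have hern : (k + 1) * (r' + 1) ≤ n := le_trans hle hsup
        -- arithmetic
        have e1 : γ * n * (k + 1) = n * (k + 1) + γ * r' * (k + 1) + γ * k * n := by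
          rw [← hcU, ← hcS, hpart]
          ring
        have e3 : γ * (k + 1) ≤ n * (k + 1) := by nlinarith
        exact Nat.le_of_mul_le_mul_right e3 (by omega)
    · -- no semisimple elements
      have hS0 : cS = 0 := by
        rw [hcSdef, Nat.card_eq_zero]
        left
        exact not_nonempty_iff.mp hS
      rw [hS0, add_zero] at hpart
      by_contra hlt
      push Not at hlt
      nlinarith
  have hN : Subgroup.normalizer (P : Set G) = ⊤ :=
    Subgroup.eq_top_of_card_eq _ (le_antisymm hnγ hkey)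
  obtain ⟨x, hx⟩ := exists_conj_centralizer_unip φ hinj hodd h2 p u u' hu1 hu1' hu hu'
  have hxN : x⁻¹ ∈ Subgroup.normalizer (P : Set G) := by rw [hN]; trivial
  have h3 := (Subgroup.mem_normalizer_iff.mp hxN (x * u' * x⁻¹)).mp hx
  have h4 : u' ∈ P := by
    have e : x⁻¹ * (x * u' * x⁻¹) * x⁻¹⁻¹ = u' := by group
    rwa [e] at h3
  exact hnc ((mem_centralizer_singleton_comm _ _).mp h4).symm

end main

end Cfsg.Agent.Lib.Helper13
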