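import Mathlib
import Cfsg.Agent.Lib.Helper13.SL2Sylow

/-!
Helper lemmas (helper13): the upper unitriangular Sylow `p`-subgroup of `SL₂(F)`, its normaliser contains the
Borel subgroup, and two distinct Sylow `p`-subgroups generate `SL₂(F)`.
-/

set_option autoImplicit false

namespace Cfsg.Agent.Lib.Helper13

open Matrix

variable {F : Type*} [Field F]

/-- The lower unitriangular matrix `[[1, 0], [s, 1]]` in `SL₂`. -/
def lSL (s : F) : SpecialLinearGroup (Fin 2) F :=
  ⟨!![1, 0; s, 1], by simp [Matrix.det_fin_two]⟩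

theorem lSL_coe (s : F) :
    ((lSL s : SpecialLinearGroup (Fin 2) F) : Matrix (Fin 2) (Fin 2) F) = !![1, 0; s, 1] := rfl

/-- The upper unitriangular subgroup of `SL₂(F)`. -/
def unipSL (F : Type*) [Field F] : Subgroup (SpecialLinearGroup (Fin 2) F) := (tSLHom (K := F)).range

theorem mem_unipSL {g : SpecialLinearGroup (Fin 2) F} : g ∈ unipSL F ↔ ∃ t : F, tSL t = g := by
  constructor
  · rintro ⟨t, rfl⟩
    exact ⟨Multiplicative.toAdd t, rfl⟩
  · rintro ⟨t, rfl⟩
    exact ⟨Multiplicative.ofAdd t, rfl⟩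

theorem tSL_mem_unipSL (t : F) : tSL t ∈ unipSL F := mem_unipSL.mpr ⟨t, rfl⟩

/-- Bruhat-type decomposition: `SL₂(F)` is generated by upper and lower unitriangular matrices. -/
theorem mem_of_tSL_lSL_mem (H : Subgroup (SpecialLinearGroup (Fin 2) F)) (hU : ∀ t : F, tSL t ∈ H)
    (hL : ∀ s : F, lSL s ∈ H) (g : SpecialLinearGroup (Fin 2) F) : g ∈ H := by
  have key : ∀ g : SpecialLinearGroup (Fin 2) F, (g : Matrix (Fin 2) (Fin 2) F) 1 0 ≠ 0 → g ∈ H := by
    intro g hc
    set m : Matrix (Fin 2) (Fin 2) F := (g : Matrix (Fin 2) (Fin 2) F) with hm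
    have hdet : m 0 0 * m 1 1 - m 0 1 * m 1 0 = 1 := by
      have := g.2
      rwa [Matrix.det_fin_two] at this
    have : g = tSL ((m 0 0 - 1) / m 1 0) * lSL (m 1 0) * tSL ((m 1 1 - 1) / m 1 0) := by
      apply Subtype.ext
      change m = !![1, (m 0 0 - 1) / m 1 0; 0, 1] * !![1, 0; m 1 0, 1] * !![1, (m 1 1 - 1) / m 1 0; 0, 1]
      ext i j
      fin_cases i <;> fin_cases j <;> simp [Matrix.mul_apply, Fin.sum_univ_two]
      · field_simp
        ring
      · field_simp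
        linear_combination -hdet
      · field_simp
        ring
    rw [this]
    exact H.mul_mem (H.mul_mem (hU _) (hL _)) (hU _)
  by_cases hc : (g : Matrix (Fin 2) (Fin 2) F) 1 0 = 0
  · have ha : (g : Matrix (Fin 2) (Fin 2) F) 0 0 ≠ 0 := by
      intro ha
      have := g.2
      rw [Matrix.det_fin_two, ha, hc] at this
      simp at this
    have h1 : lSL 1 * g ∈ H := by
      apply key
      change (!![1, 0; (1 : F), 1] * (g : Matrix (Fin 2) (Fin 2) F)) 1 0 ≠ 0
      simp [Matrix.mul_apply, Fin.sum_univ_two, hc, ha]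
    have h2 : g = (lSL 1)⁻¹ * (lSL 1 * g) := by group
    rw [h2]
    exact H.mul_mem (H.inv_mem (hL 1)) h1
  · exact key g hc

theorem conj_conj_aux (a b c d t : F) (hc : c ≠ 0) (hdet : a * d - b * c = 1) :
    !![1, -a / c; 0, 1] * !![a, b; c, d] * !![1, t; 0, 1] =
      !![1, 0; -t * c ^ 2, 1] * !![1, -a / c; 0, 1] * !![a, b; c, d] := by
  ext i j
  fin_cases i <;> fin_cases j <;> simp [Matrix.mul_apply, Fin.sum_univ_two]
  · left
    field_simp
    ring
  · field_simp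
    ring
  · have h1 : -a / c = -(a / c) := by ring
    have h2 : t * c ^ 2 * (a / c) = t * c * a := by field_simp
    rw [h1, mul_neg, neg_neg, h2]
    linear_combination (-(t * c)) * hdet

/-- Conjugating the upper unitriangular group by `h` with `h 1 0 ≠ 0`, and then by a suitable upper
unitriangular matrix, gives the lower unitriangular group. -/
theorem conj_conj_tSL (h : SpecialLinearGroup (Fin 2) F)
    (hc : (h : Matrix (Fin 2) (Fin 2) F) 1 0 ≠ 0) (t : F) :
    tSL (-(h : Matrix (Fin 2) (Fin 2) F) 0 0 / (h : Matrix (Fin 2) (Fin 2) F) 1 0) * (h * tSL t * h⁻¹) *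
      (tSL (-(h : Matrix (Fin 2) (Fin 2) F) 0 0 / (h : Matrix (Fin 2) (Fin 2) F) 1 0))⁻¹ =
      lSL (-t * (h : Matrix (Fin 2) (Fin 2) F) 1 0 ^ 2) := by
  set m : Matrix (Fin 2) (Fin 2) F := (h : Matrix (Fin 2) (Fin 2) F) with hm
  have hdet : m 0 0 * m 1 1 - m 0 1 * m 1 0 = 1 := by
    have := h.2
    rwa [Matrix.det_fin_two] at this
  rw [mul_inv_eq_iff_eq_mul]
  have e : tSL (-m 0 0 / m 1 0) * (h * tSL t * h⁻¹) = (tSL (-m 0 0 / m 1 0) * h * tSL t) * h⁻¹ := by
    group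
  rw [e, mul_inv_eq_iff_eq_mul]
  apply Subtype.ext
  change !![1, -m 0 0 / m 1 0; 0, 1] * m * !![1, t; 0, 1] =
    !![1, 0; -t * m 1 0 ^ 2, 1] * !![1, -m 0 0 / m 1 0; 0, 1] * m
  have := conj_conj_aux (m 0 0) (m 0 1) (m 1 0) (m 1 1) t hc hdet
  rw [← Matrix.eta_fin_two m] at this
  exact this

/-- The upper unitriangular group and a conjugate by `h` with `h 1 0 ≠ 0` generate `SL₂(F)`. -/
theorem unipSL_sup_conj_eq_top (h : SpecialLinearGroup (Fin 2) F)
    (hc : (h : Matrix (Fin 2) (Fin 2) F) 1 0 ≠ 0) (H : Subgroup (SpecialLinearGroup (Fin 2) F))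
    (hU : ∀ t : F, tSL t ∈ H) (hQ : ∀ t : F, h * tSL t * h⁻¹ ∈ H) : H = ⊤ := by
  rw [eq_top_iff]
  intro g _
  apply mem_of_tSL_lSL_mem H hU
  intro s
  have hc2 : (h : Matrix (Fin 2) (Fin 2) F) 1 0 ^ 2 ≠ 0 := pow_ne_zero 2 hc
  have := conj_conj_tSL h hc (-s / (h : Matrix (Fin 2) (Fin 2) F) 1 0 ^ 2)
  have e : -(-s / (h : Matrix (Fin 2) (Fin 2) F) 1 0 ^ 2) * (h : Matrix (Fin 2) (Fin 2) F) 1 0 ^ 2 = s := by
    field_simp
  rw [e] at this
  rw [← this]
  exact H.mul_mem (H.mul_mem (hU _) (hQ _)) (H.inv_mem (hU _))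

/-- Upper triangular matrices normalise the upper unitriangular group. -/
theorem upper_conj_tSL {b : SpecialLinearGroup (Fin 2) F}
    (hb : (b : Matrix (Fin 2) (Fin 2) F) 1 0 = 0) (t : F) :
    b * tSL t * b⁻¹ = tSL (t * (b : Matrix (Fin 2) (Fin 2) F) 0 0 ^ 2) := by
  rw [mul_inv_eq_iff_eq_mul]
  set m : Matrix (Fin 2) (Fin 2) F := (b : Matrix (Fin 2) (Fin 2) F) with hm
  have hdet : m 0 0 * m 1 1 = 1 := by
    have := b.2
    rw [Matrix.det_fin_two, ← hm, hb, mul_zero, sub_zero] at this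
    exact this
  apply Subtype.ext
  change m * !![1, t; 0, 1] = !![1, t * m 0 0 ^ 2; 0, 1] * m
  ext i j
  fin_cases i <;> fin_cases j <;> simp [Matrix.mul_apply, Fin.sum_univ_two, hb]
  linear_combination (-(t * m 0 0)) * hdet

theorem inv_upper {b : SpecialLinearGroup (Fin 2) F}
    (hb : (b : Matrix (Fin 2) (Fin 2) F) 1 0 = 0) :
    ((b⁻¹ : SpecialLinearGroup (Fin 2) F) : Matrix (Fin 2) (Fin 2) F) 1 0 = 0 := by
  change (Matrix.adjugate (b : Matrix (Fin 2) (Fin 2) F)) 1 0 = 0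
  rw [Matrix.adjugate_fin_two]
  simp [hb]

theorem upper_mem_normalizer_unipSL {b : SpecialLinearGroup (Fin 2) F}
    (hb : (b : Matrix (Fin 2) (Fin 2) F) 1 0 = 0) :
    b ∈ Subgroup.normalizer ((unipSL F : Subgroup (SpecialLinearGroup (Fin 2) F)) : Set (SpecialLinearGroup (Fin 2) F)) := by
  rw [Subgroup.mem_normalizer_iff]
  intro x
  constructor
  · intro hx
    obtain ⟨t, rfl⟩ := mem_unipSL.mp hx
    rw [upper_conj_tSL hb]
    exact tSL_mem_unipSL _
  · intro hx
    obtain ⟨t, ht⟩ := mem_unipSL.mp hx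
    have : x = b⁻¹ * tSL t * b⁻¹⁻¹ := by rw [ht]; group
    rw [this, upper_conj_tSL (inv_upper hb)]
    exact tSL_mem_unipSL _

section sylow

variable [Fintype F] (p : ℕ) [Fact p.Prime] [CharP F p]

omit [Fact p.Prime] in
theorem isPGroup_unipSL : IsPGroup p (unipSL F) := by
  obtain ⟨n, -, hq⟩ := FiniteField.card F p
  apply IsPGroup.of_card (n := n)
  change Nat.card (tSLHom (K := F)).range = _
  rw [card_range_tSLHom, Nat.card_eq_fintype_card, hq]

theorem not_dvd_index_unipSL : ¬ p ∣ (unipSL F).index := by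
  have hp : p.Prime := Fact.out
  obtain ⟨n, -, hq⟩ := FiniteField.card F p
  have hcardU : Nat.card (unipSL F) = p ^ (n : ℕ) := by
    change Nat.card (tSLHom (K := F)).range = _
    rw [card_range_tSLHom, Nat.card_eq_fintype_card, hq]
  have h1 := Subgroup.card_mul_index (unipSL F)
  rw [card_SL2, hcardU, hq] at h1
  have hpos : 0 < p ^ (n : ℕ) := pow_pos hp.pos _
  have h2 : (unipSL F).index = (p ^ (n : ℕ)) ^ 2 - 1 := Nat.eq_of_mul_eq_mul_left hpos h1
  rw [h2]
  intro hdvd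
  have h3 : p ∣ (p ^ (n : ℕ)) ^ 2 := by
    rw [← pow_mul]
    exact dvd_pow_self p (by positivity)
  have h4 : 1 ≤ (p ^ (n : ℕ)) ^ 2 := Nat.one_le_pow _ _ hpos
  have h5 : p ∣ 1 := by
    have := Nat.dvd_sub h3 hdvd
    rwa [Nat.sub_sub_self h4] at this
  exact hp.one_lt.ne' (Nat.dvd_one.mp h5)

/-- The upper unitriangular group as a Sylow `p`-subgroup of `SL₂(F)`. -/
noncomputable def sylowUnipSL : Sylow p (SpecialLinearGroup (Fin 2) F) :=
  (isPGroup_unipSL p).toSylow (not_dvd_index_unipSL p)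

theorem coe_sylowUnipSL : ((sylowUnipSL (F := F) p : Sylow p (SpecialLinearGroup (Fin 2) F)) :
    Subgroup (SpecialLinearGroup (Fin 2) F)) = unipSL F := rfl

/-- A Sylow `p`-subgroup of `SL₂(F)` other than the upper unitriangular group generates `SL₂(F)` together
with it. -/
theorem sylowUnipSL_sup_eq_top (R : Sylow p (SpecialLinearGroup (Fin 2) F))
    (hR : R ≠ sylowUnipSL p) :
    (unipSL F : Subgroup (SpecialLinearGroup (Fin 2) F)) ⊔ (R : Subgroup (SpecialLinearGroup (Fin 2) F)) = ⊤ := by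
  obtain ⟨h, rfl⟩ := MulAction.exists_smul_eq (SpecialLinearGroup (Fin 2) F) (sylowUnipSL (F := F) p) R
  have hc : (h : Matrix (Fin 2) (Fin 2) F) 1 0 ≠ 0 := by
    intro hc
    apply hR
    rw [Sylow.smul_eq_iff_mem_normalizer]
    exact upper_mem_normalizer_unipSL hc
  apply unipSL_sup_conj_eq_top h hc
  · intro t
    exact Subgroup.mem_sup_left (tSL_mem_unipSL t)
  · intro t
    apply Subgroup.mem_sup_right
    rw [Sylow.coe_subgroup_smul, Subgroup.mem_pointwise_smul_iff_inv_smul_mem, coe_sylowUnipSL]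
    simp only [MulAut.smul_def, ← map_inv, MulAut.conj_apply, inv_inv]
    have : h⁻¹ * (h * tSL t * h⁻¹) * h = tSL t := by group
    rw [this]
    exact tSL_mem_unipSL t

/-- Any two distinct Sylow `p`-subgroups of `SL₂(q)` generate `SL₂(q)`. -/
theorem sylow_sup_eq_top_SL2 (P Q : Sylow p (SpecialLinearGroup (Fin 2) F)) (h : P ≠ Q) :
    (P : Subgroup (SpecialLinearGroup (Fin 2) F)) ⊔ (Q : Subgroup (SpecialLinearGroup (Fin 2) F)) = ⊤ := by
  obtain ⟨g, rfl⟩ := MulAction.exists_smul_eq (SpecialLinearGroup (Fin 2) F) (sylowUnipSL (F := F) p) P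
  set R : Sylow p (SpecialLinearGroup (Fin 2) F) := g⁻¹ • Q with hRdef
  have hQ : Q = g • R := by rw [hRdef, smul_inv_smul]
  have hR : R ≠ sylowUnipSL p := by
    intro hR
    apply h
    rw [hQ, hR]
  have key := sylowUnipSL_sup_eq_top p R hR
  rw [hQ, Sylow.coe_subgroup_smul, Sylow.coe_subgroup_smul, coe_sylowUnipSL, ← Subgroup.smul_sup, key]
  rw [eq_top_iff]
  intro x _
  rw [Subgroup.mem_pointwise_smul_iff_inv_smul_mem]
  exact Subgroup.mem_top _

end sylow

end Cfsg.Agent.Lib.Helper13
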