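import Mathlib
import Cfsg.Prelude.Def_PLocal
import Cfsg.Agent.Lib.Helper13.AbSylow

/-!
Helper lemmas (helper13): `Qd(p)` has non-abelian Sylow `p`-subgroups, hence is not involved in a finite group
with abelian Sylow `p`-subgroups.
-/

set_option autoImplicit false

namespace Cfsg.Agent.Lib.Helper13

open Matrix

/-- Upper unitriangular matrices in `SL₃(R)`. -/
def unitri3 (R : Type*) [CommRing R] : Subgroup (SpecialLinearGroup (Fin 3) R) where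
  carrier := {M | (M : Matrix (Fin 3) (Fin 3) R) 0 0 = 1 ∧ (M : Matrix (Fin 3) (Fin 3) R) 1 1 = 1 ∧
    (M : Matrix (Fin 3) (Fin 3) R) 2 2 = 1 ∧ (M : Matrix (Fin 3) (Fin 3) R) 1 0 = 0 ∧
    (M : Matrix (Fin 3) (Fin 3) R) 2 0 = 0 ∧ (M : Matrix (Fin 3) (Fin 3) R) 2 1 = 0}
  mul_mem' := by
    rintro a b ⟨h1, h2, h3, h4, h5, h6⟩ ⟨k1, k2, k3, k4, k5, k6⟩
    refine ⟨?_, ?_, ?_, ?_, ?_, ?_⟩ <;>
      simp [Matrix.mul_apply, Fin.sum_univ_three,
        h1, h2, h3, h4, h5, h6, k1, k2, k3, k4, k5, k6]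
  one_mem' := by
    refine ⟨?_, ?_, ?_, ?_, ?_, ?_⟩ <;> simp
  inv_mem' := by
    rintro a ⟨h1, h2, h3, h4, h5, h6⟩
    refine ⟨?_, ?_, ?_, ?_, ?_, ?_⟩ <;>
      simp [Matrix.adjugate_fin_three, h1, h2, h3, h4, h5, h6]

theorem mem_unitri3 {R : Type*} [CommRing R] (M : SpecialLinearGroup (Fin 3) R) :
    M ∈ unitri3 R ↔ (M : Matrix (Fin 3) (Fin 3) R) 0 0 = 1 ∧ (M : Matrix (Fin 3) (Fin 3) R) 1 1 = 1 ∧
    (M : Matrix (Fin 3) (Fin 3) R) 2 2 = 1 ∧ (M : Matrix (Fin 3) (Fin 3) R) 1 0 = 0 ∧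
    (M : Matrix (Fin 3) (Fin 3) R) 2 0 = 0 ∧ (M : Matrix (Fin 3) (Fin 3) R) 2 1 = 0 := Iff.rfl

theorem unitri3_sub_one_pow {R : Type*} [CommRing R] {M : SpecialLinearGroup (Fin 3) R}
    (hM : M ∈ unitri3 R) : ((M : Matrix (Fin 3) (Fin 3) R) - 1) ^ 3 = 0 := by
  obtain ⟨h1, h2, h3, h4, h5, h6⟩ := hM
  ext i j
  fin_cases i <;> fin_cases j <;>
    simp [pow_succ, Matrix.mul_apply, Fin.sum_univ_three, h1, h2, h3, h4, h5, h6]

theorem isPGroup_unitri3 (p : ℕ) [Fact p.Prime] {R : Type*} [CommRing R] [CharP R p] :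
    IsPGroup p (unitri3 R) := by
  rintro ⟨M, hM⟩
  refine ⟨2, ?_⟩
  have key : ((M ^ p ^ 2 : SpecialLinearGroup (Fin 3) R) : Matrix (Fin 3) (Fin 3) R) =
      ((1 : SpecialLinearGroup (Fin 3) R) : Matrix (Fin 3) (Fin 3) R) := by
    change (M : Matrix (Fin 3) (Fin 3) R) ^ (p ^ 2) = 1
    have hN := unitri3_sub_one_pow hM
    set N := (M : Matrix (Fin 3) (Fin 3) R) - 1 with hNdef
    have hMN : (M : Matrix (Fin 3) (Fin 3) R) = 1 + N := by rw [hNdef]; abel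
    have hp : p.Prime := Fact.out
    have : CharP (Matrix (Fin 3) (Fin 3) R) p := Matrix.charP p
    rw [hMN, add_pow_char_pow_of_commute (p := p) (n := 2) (Commute.one_left N), one_pow]
    have h3 : 3 ≤ p ^ 2 := by nlinarith [hp.two_le]
    rw [← Nat.sub_add_cancel h3, pow_add, hN, mul_zero, add_zero]
  exact Subtype.ext (Subtype.ext key)

/-- The transvection `[[1,1,0],[0,1,0],[0,0,1]]`. -/
def qdX (R : Type*) [CommRing R] : SpecialLinearGroup (Fin 3) R :=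
  ⟨!![1, 1, 0; 0, 1, 0; 0, 0, 1], by simp [Matrix.det_fin_three]⟩

/-- The translation `[[1,0,0],[0,1,1],[0,0,1]]`. -/
def qdY (R : Type*) [CommRing R] : SpecialLinearGroup (Fin 3) R :=
  ⟨!![1, 0, 0; 0, 1, 1; 0, 0, 1], by simp [Matrix.det_fin_three]⟩

theorem qdX_coe (R : Type*) [CommRing R] :
    (qdX R : Matrix (Fin 3) (Fin 3) R) = !![1, 1, 0; 0, 1, 0; 0, 0, 1] := rfl

theorem qdY_coe (R : Type*) [CommRing R] :
    (qdY R : Matrix (Fin 3) (Fin 3) R) = !![1, 0, 0; 0, 1, 1; 0, 0, 1] := rfl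

theorem qdX_mul_qdY_ne {R : Type*} [CommRing R] [Nontrivial R] : qdX R * qdY R ≠ qdY R * qdX R := by
  intro h
  have := congrArg (fun M : SpecialLinearGroup (Fin 3) R => (M : Matrix (Fin 3) (Fin 3) R) 0 2) h
  simp [qdX_coe, qdY_coe, Matrix.mul_apply, Fin.sum_univ_three] at this

/-- `Qd(p)` has non-abelian Sylow `p`-subgroups. -/
theorem not_abSylow_qd (p : ℕ) [Fact p.Prime] : ¬ AbSylow p (Cfsg.qd p) := by
  intro h
  have hx : qdX (ZMod p) ∈ Cfsg.qd p := by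
    apply Subgroup.subset_closure
    refine ⟨?_, ?_, ?_⟩ <;> simp [qdX_coe]
  have hy : qdY (ZMod p) ∈ Cfsg.qd p := by
    apply Subgroup.subset_closure
    refine ⟨?_, ?_, ?_⟩ <;> simp [qdY_coe]
  have hS : IsPGroup p ((unitri3 (ZMod p)).subgroupOf (Cfsg.qd p)) :=
    (isPGroup_unitri3 p).comap_subtype
  have hx' : (⟨qdX (ZMod p), hx⟩ : Cfsg.qd p) ∈ (unitri3 (ZMod p)).subgroupOf (Cfsg.qd p) := by
    rw [Subgroup.mem_subgroupOf, mem_unitri3]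
    refine ⟨?_, ?_, ?_, ?_, ?_, ?_⟩ <;> simp [qdX_coe]
  have hy' : (⟨qdY (ZMod p), hy⟩ : Cfsg.qd p) ∈ (unitri3 (ZMod p)).subgroupOf (Cfsg.qd p) := by
    rw [Subgroup.mem_subgroupOf, mem_unitri3]
    refine ⟨?_, ?_, ?_, ?_, ?_, ?_⟩ <;> simp [qdY_coe]
  have := h.comm_of_isPGroup _ hS hx' hy'
  exact qdX_mul_qdY_ne (congrArg Subtype.val this)

/-- `Qd(p)` is not involved in a finite group with abelian Sylow `p`-subgroups. -/
theorem not_involves_qd_of_abSylow (p : ℕ) [Fact p.Prime] {G : Type*} [Group G] [Finite G]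
    (h : AbSylow p G) : ¬ Cfsg.Involves (Cfsg.qd p) G :=
  fun hinv => not_abSylow_qd p (h.of_involves hinv)

end Cfsg.Agent.Lib.Helper13
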