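/-
helper13: DEFECT-ONE cluster, PART O (planner helper27), leaf DO-ROOT `exists_root`
(helper23 `induced_from_iff_le_defectGroup` with `H := C_G(P)`, then LOC3).
`exists_root_of` has LOC3 as a hypothesis.
-/
import Mathlib
import Cfsg.Prelude.Def_BlockRank
import Cfsg.Agent.Lib.Helper27.DODefs
import Cfsg.Agent.Lib.Helper27.BlkAlgDefs2
import Cfsg.Agent.Lib.Helper23.BrauerInduced
import Cfsg.Agent.Lib.Helper23.DOLOC3

set_option autoImplicit false

namespace Cfsg.Agent.Lib.Helper13.DOROOT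

open Cfsg Cfsg.Agent.Lib.Helper8.DOM Cfsg.Agent.Lib.Helper27.DO Cfsg.Agent.Lib.Helper27.BlkAlg
open scoped ComplexConjugate

universe u

section glob

variable {G : Type u} [Group G] [Finite G] {p : ℕ} [Fact p.Prime] {M : Ideal AlgInt}

omit [Finite G] in
/-- a subgroup of prime order is contained in its centralizer -/
theorem le_Cz_of_card (P : Subgroup G) (hP : Nat.card P = p) : P ≤ Cz P := by
  have hp : p.Prime := Fact.out
  have : IsCyclic P := isCyclic_of_prime_card hP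
  intro x hx
  rw [Subgroup.mem_centralizer_iff]
  intro y hy
  have h := IsCyclic.commGroup.mul_comm (⟨y, hy⟩ : P) ⟨x, hx⟩
  exact congrArg Subtype.val h

/-- ROOT in `_of` form (LOC3 as a hypothesis). -/
theorem exists_root_of (hM : IsPModular p M) (P : Subgroup G) (hP : Nat.card P = p)
    (B : Set (IrrCharacter G)) (hB : IsPBlock M B)
    (hBP : IsDefectGroup p M B P)
    (hloc3 : ∀ φ : IrrCharacter (Cz P), ∃ θ' : IrrCharacter (Cz P),
      θ' ∈ blockOf M (φ : Cz P → ℂ) ∧ PTriv P (θ' : Cz P → ℂ)) :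
    ∃ θ : IrrCharacter (Cz P), PTriv P (θ : Cz P → ℂ) ∧
      IsInducedBlock M (Cz P) (blockOf M (θ : Cz P → ℂ)) B := by
  have hp : p.Prime := Fact.out
  have hprime : M.IsPrime := hM.2.1.isPrime
  have hPp : IsPGroup p P := IsPGroup.of_card (n := 1) (by rw [hP, pow_one])
  have hPC : P ≤ Cz P := le_Cz_of_card P hP
  have hPH : P ⊔ Subgroup.centralizer (P : Set G) ≤ Cz P := sup_le hPC le_rfl
  have hHN : Cz P ≤ Subgroup.normalizer (P : Set G) := Subgroup.centralizer_le_normalizer _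
  obtain ⟨b, hb⟩ := (Cfsg.Agent.Lib.Helper23.induced_from_iff_le_defectGroup p hM P (Cz P) hPp hPH
    hHN B hB).mpr ⟨P, hBP, 1, by
      intro w hw
      obtain ⟨q, hq, rfl⟩ := hw
      simpa using hq⟩
  obtain ⟨φ, hφ⟩ := hb.1
  obtain ⟨θ', hθ'mem, hθ'P⟩ := hloc3 φ
  refine ⟨θ', hθ'P, ?_⟩
  have hbb : blockOf M (θ' : Cz P → ℂ) = b := by
    rw [hφ]
    exact Cfsg.Agent.Lib.Helper6.isPBlock_eq_of_mem ⟨θ', rfl⟩ ⟨φ, rfl⟩
      (Cfsg.Agent.Lib.Helper6.mem_blockOf_self θ') hθ'mem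
  rw [hbb]
  exact hb

/-- ROOT : a block with defect group `P` has a root. -/
theorem exists_root (hM : IsPModular p M) (P : Subgroup G) (hP : Nat.card P = p)
    (hSyl : ¬ p ∣ P.index) (B : Set (IrrCharacter G)) (hB : IsPBlock M B)
    (hBP : IsDefectGroup p M B P) :
    ∃ θ : IrrCharacter (Cz P), PTriv P (θ : Cz P → ℂ) ∧
      IsInducedBlock M (Cz P) (blockOf M (θ : Cz P → ℂ)) B :=
  exists_root_of hM P hP B hB hBP
    (Cfsg.Agent.Lib.Helper23.DOLOC3.exists_pTriv_mem hM P hP hSyl)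

end glob

end Cfsg.Agent.Lib.Helper13.DOROOT
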