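import Mathlib
import Cfsg.Agent.Lib.Helper25.SpTK
import Cfsg.Agent.Lib.Helper15.SymIso

/-!
S5704 leaf (SB) `exists_symp_basis` (helper25's market, part I), by helper13:
a non-degenerate alternating form on `F^n` is the standard form `sf` in a suitable basis, `n` even.
Uses helper15's abstract symplectic basis theorem `SymIso.exists_symp_equiv` + reindexing
`Fin k ⊕ Fin k ≃ Fin n` (`inr i ↦ 2i`, `inl i ↦ 2i+1`).
-/

set_option autoImplicit false
set_option linter.unusedSectionVars false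
set_option linter.unusedVariables false

namespace Cfsg.Agent.Lib.Helper13.SpTLeaf
open Matrix
open Cfsg.Agent.Lib.Helper25.SpT

variable {F : Type*} [Field F]

/-- `2i ↦ inr i`, `2i+1 ↦ inl i`. -/
def sbTo {n k : ℕ} (hk : 2 * k = n) (i : Fin n) : Fin k ⊕ Fin k :=
  if i.val % 2 = 0 then Sum.inr ⟨i.val / 2, by have := i.2; omega⟩
  else Sum.inl ⟨i.val / 2, by have := i.2; omega⟩

/-- the inverse map. -/
def sbInv {n k : ℕ} (hk : 2 * k = n) (s : Fin k ⊕ Fin k) : Fin n :=
  Sum.elim (fun j => ⟨2 * j.val + 1, by have := j.2; omega⟩)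
    (fun j => ⟨2 * j.val, by have := j.2; omega⟩) s

lemma sbTo_even {n k : ℕ} (hk : 2 * k = n) (i : Fin n) (h : i.val % 2 = 0) :
    sbTo hk i = Sum.inr ⟨i.val / 2, by have := i.2; omega⟩ := by
  unfold sbTo; rw [if_pos h]

lemma sbTo_odd {n k : ℕ} (hk : 2 * k = n) (i : Fin n) (h : ¬ i.val % 2 = 0) :
    sbTo hk i = Sum.inl ⟨i.val / 2, by have := i.2; omega⟩ := by
  unfold sbTo; rw [if_neg h]

/-- the reindexing `Fin n ≃ Fin k ⊕ Fin k` for `n = 2k`. -/
def sbEquiv {n k : ℕ} (hk : 2 * k = n) : Fin n ≃ Fin k ⊕ Fin k where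
  toFun := sbTo hk
  invFun := sbInv hk
  left_inv i := by
    by_cases h : i.val % 2 = 0
    · rw [sbTo_even hk i h]
      apply Fin.ext
      show 2 * (i.val / 2) = i.val
      omega
    · rw [sbTo_odd hk i h]
      apply Fin.ext
      show 2 * (i.val / 2) + 1 = i.val
      omega
  right_inv s := by
    rcases s with j | j
    · have h : ¬ (sbInv hk (Sum.inl j)).val % 2 = 0 := by
        show ¬ (2 * j.val + 1) % 2 = 0
        omega
      rw [sbTo_odd hk _ h]
      congr 1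
      apply Fin.ext
      show (2 * j.val + 1) / 2 = j.val
      omega
    · have h : (sbInv hk (Sum.inr j)).val % 2 = 0 := by
        show (2 * j.val) % 2 = 0
        omega
      rw [sbTo_even hk _ h]
      congr 1
      apply Fin.ext
      show (2 * j.val) / 2 = j.val
      omega

lemma sbEquiv_even {n k : ℕ} (hk : 2 * k = n) (i : Fin n) (h : i.val % 2 = 0) :
    sbEquiv hk i = Sum.inr ⟨i.val / 2, by have := i.2; omega⟩ := sbTo_even hk i h

lemma sbEquiv_odd {n k : ℕ} (hk : 2 * k = n) (i : Fin n) (h : ¬ i.val % 2 = 0) :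
    sbEquiv hk i = Sum.inl ⟨i.val / 2, by have := i.2; omega⟩ := sbTo_odd hk i h

/-- the Gram matrices correspond. -/
lemma J_sbEquiv {n k : ℕ} (hk : 2 * k = n) (i j : Fin n) :
    Matrix.J (Fin k) F (sbEquiv hk i) (sbEquiv hk j) = (Jm n : Matrix (Fin n) (Fin n) F) i j := by
  rw [Jm_apply]
  by_cases hi : i.val % 2 = 0
  · by_cases hj : j.val % 2 = 0
    · rw [sbEquiv_even hk i hi, sbEquiv_even hk j hj, Cfsg.Agent.Lib.Helper14.J_inr_inr]
      split_ifs <;> first | rfl | (exfalso; omega)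
    · rw [sbEquiv_even hk i hi, sbEquiv_odd hk j hj, Cfsg.Agent.Lib.Helper14.J_inr_inl]
      simp only [Fin.mk.injEq]
      split_ifs <;> first | rfl | (exfalso; omega)
  · by_cases hj : j.val % 2 = 0
    · rw [sbEquiv_odd hk i hi, sbEquiv_even hk j hj, Cfsg.Agent.Lib.Helper14.J_inl_inr]
      simp only [Fin.mk.injEq]
      split_ifs <;> first | rfl | (exfalso; omega)
    · rw [sbEquiv_odd hk i hi, sbEquiv_odd hk j hj, Cfsg.Agent.Lib.Helper14.J_inl_inl]
      split_ifs <;> first | rfl | (exfalso; omega)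

/-- `sympForm` after reindexing is `sf`. -/
lemma sympForm_comp_sbEquiv {n k : ℕ} (hk : 2 * k = n) (x y : Fin n → F) :
    Cfsg.sympForm k F (x ∘ (sbEquiv hk).symm) (y ∘ (sbEquiv hk).symm) = sf x y := by
  rw [sf_eq_sum]
  unfold Cfsg.sympForm
  simp only [dotProduct, Matrix.mulVec, Finset.mul_sum]
  rw [← Equiv.sum_comp (sbEquiv hk)]
  apply Finset.sum_congr rfl
  intro i _
  rw [← Equiv.sum_comp (sbEquiv hk)]
  apply Finset.sum_congr rfl
  intro j _
  simp only [Function.comp_apply, Equiv.symm_apply_apply]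
  rw [J_sbEquiv hk i j]
  ring

/-- (SB) symplectic basis: a non-degenerate alternating form on `F^n` is the standard one in a
suitable basis (and `n` is even). -/
theorem exists_symp_basis {n : ℕ} (f : (Fin n → F) → (Fin n → F) → F)
    (hf : Cfsg.Geo.IsSymplecticForm f) :
    Even n ∧ ∃ P : GL (Fin n) F, ∀ x y : Fin n → F,
      f ((P : Matrix (Fin n) (Fin n) F) *ᵥ x) ((P : Matrix (Fin n) (Fin n) F) *ᵥ y) = sf x y := by
  classical
  -- the bilinear form
  let γ : LinearMap.BilinForm F (Fin n → F) :=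
    LinearMap.mk₂ F f hf.bilinear.add_left hf.bilinear.smul_left hf.bilinear.add_right
      hf.bilinear.smul_right
  have hγ : ∀ x y, γ x y = f x y := fun x y => rfl
  have halt : ∀ x, γ x x = 0 := fun x => hf.alternating x
  have hnd : ∀ x, (∀ y, γ x y = 0) → x = 0 := by
    intro x hx
    by_contra hne
    obtain ⟨y, hy⟩ := (hf.nondegenerate x hne).2
    exact hy (hx y)
  obtain ⟨k, φ, hk, hφ⟩ :=
    Cfsg.Agent.Lib.Helper15.SymIso.exists_symp_equiv (F := F) (Fin n → F) γ halt hnd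
  have hk' : 2 * k = n := by
    rw [hk, Module.finrank_fintype_fun_eq_card, Fintype.card_fin]
  refine ⟨⟨k, by omega⟩, ?_⟩
  -- the linear equivalence ψ x = φ⁻¹ (x ∘ σ⁻¹)
  let ρ : (Fin n → F) ≃ₗ[F] (Fin k ⊕ Fin k → F) := LinearEquiv.funCongrLeft F F (sbEquiv hk').symm
  have hρ : ∀ x, ρ x = x ∘ (sbEquiv hk').symm := fun x => rfl
  let ψ : (Fin n → F) ≃ₗ[F] (Fin n → F) := ρ.trans φ.symm
  have hψ : ∀ x y, f (ψ x) (ψ y) = sf x y := by
    intro x y
    rw [← hγ, ← hφ]
    show Cfsg.sympForm k F (φ (φ.symm (ρ x))) (φ (φ.symm (ρ y))) = _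
    rw [LinearEquiv.apply_symm_apply, LinearEquiv.apply_symm_apply, hρ, hρ]
    exact sympForm_comp_sbEquiv hk' x y
  -- as a matrix
  let A : Matrix (Fin n) (Fin n) F := LinearMap.toMatrix' (ψ : (Fin n → F) →ₗ[F] (Fin n → F))
  let B : Matrix (Fin n) (Fin n) F := LinearMap.toMatrix' (ψ.symm : (Fin n → F) →ₗ[F] (Fin n → F))
  have hAB : A * B = 1 := by
    show LinearMap.toMatrix' _ * LinearMap.toMatrix' _ = 1
    rw [← LinearMap.toMatrix'_comp]
    have : (ψ : (Fin n → F) →ₗ[F] (Fin n → F)) ∘ₗ (ψ.symm : (Fin n → F) →ₗ[F] (Fin n → F))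
        = LinearMap.id := by
      ext x : 1
      simp
    rw [this, LinearMap.toMatrix'_id]
  have hBA : B * A = 1 := by
    show LinearMap.toMatrix' _ * LinearMap.toMatrix' _ = 1
    rw [← LinearMap.toMatrix'_comp]
    have : (ψ.symm : (Fin n → F) →ₗ[F] (Fin n → F)) ∘ₗ (ψ : (Fin n → F) →ₗ[F] (Fin n → F))
        = LinearMap.id := by
      ext x : 1
      simp
    rw [this, LinearMap.toMatrix'_id]
  refine ⟨⟨A, B, hAB, hBA⟩, ?_⟩
  intro x y
  show f (A *ᵥ x) (A *ᵥ y) = _
  have hA : ∀ z, A *ᵥ z = ψ z := fun z => LinearMap.toMatrix'_mulVec _ z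
  rw [hA, hA]
  exact hψ x y

end Cfsg.Agent.Lib.Helper13.SpTLeaf
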