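/-
helper13: S4840 market (planner helper1), leaf T3 `card_iSup_pCore_coprime`.
-/
import Mathlib
import Cfsg.Prelude.Def_Solvable
import Cfsg.Prelude.Def_Transfer
import Cfsg.Prelude.Def_CaseTheorems
import Cfsg.Agent.Lib.Helper1.Fitting

set_option autoImplicit false

universe u

namespace Cfsg.Agent.Lib.Helper13.Gag

open Cfsg

/-- (T3) if `O_p(X) = 1` then the Fitting subgroup `⨆ r, O_r(X)` is a `p'`-group. -/
theorem card_iSup_pCore_coprime {X : Type u} [Group X] [Finite X] (p : ℕ) [Fact p.Prime]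
    (hcore : Cfsg.pCore p X = ⊥) :
    (Nat.card (⨆ r : Nat.Primes, Cfsg.pCore (r : ℕ) X : Subgroup X)).Coprime p := by
  classical
  set F : Subgroup X := ⨆ r : Nat.Primes, Cfsg.pCore (r : ℕ) X with hF
  have hFn : F.Normal := by
    rw [hF]
    exact Subgroup.iSup_normal (fun r : Nat.Primes => Cfsg.pCore (r : ℕ) X)
  have hnil : Group.IsNilpotent F := Cfsg.Agent.Lib.Helper1.iSup_pCore_isNilpotent X
  have hp : p.Prime := Fact.out
  apply Nat.Coprime.symm
  rw [Nat.Prime.coprime_iff_not_dvd hp]
  intro hdvd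
  obtain ⟨P⟩ : Nonempty (Sylow p F) := inferInstance
  have hPn : (P : Subgroup F).Normal := inferInstance
  have hPc : (P : Subgroup F).Characteristic := Sylow.characteristic_of_normal P hPn
  have h1 : ((P : Subgroup F).map F.subtype).Normal := inferInstance
  have h2 : IsPGroup p ((P : Subgroup F).map F.subtype) := P.isPGroup'.map F.subtype
  have h3 : (P : Subgroup F).map F.subtype ≤ Cfsg.pCore p X :=
    Cfsg.Agent.Lib.Helper1.le_pCore h1 h2
  rw [hcore, le_bot_iff] at h3
  have h4 : (P : Subgroup F) = ⊥ := by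
    rw [← Subgroup.map_eq_bot_iff_of_injective (P : Subgroup F) F.subtype_injective]
    exact h3
  exact P.ne_bot_of_dvd_card hdvd h4

end Cfsg.Agent.Lib.Helper13.Gag
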