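/-
helper13: S4840 market (planner helper1), leaves GA4 `exists_action` and GA3 `card_quotient_pCore`.
-/
import Mathlib
import Cfsg.Prelude.Def_Solvable
import Cfsg.Prelude.Def_Transfer
import Cfsg.Prelude.Def_CaseTheorems
import Cfsg.Agent.Lib.Helper1.Fitting

set_option autoImplicit false

universe u

namespace Cfsg.Agent.Lib.Helper13.Gag

open Cfsg

variable {G : Type u} [Group G] [Finite G] (p : ℕ) [Fact p.Prime] (N : Subgroup G) [N.Normal]

/-- `O_p(G)` centralises `N` when the centralisers of the non-identity elements of `N` are Sylow. -/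
theorem pCore_le_centralizer
    (hcent : ∀ x ∈ N, x ≠ 1 → ∃ P : Sylow p G, Subgroup.centralizer ({x} : Set G) = P) :
    Cfsg.pCore p G ≤ Subgroup.centralizer (N : Set G) := by
  intro g hg
  rw [Subgroup.mem_centralizer_iff]
  intro x hx
  by_cases hx1 : x = 1
  · subst hx1; simp
  · obtain ⟨P, hP⟩ := hcent x hx hx1
    have h1 : g ∈ (P : Subgroup G) := Cfsg.Agent.Lib.Helper1.pCore_le_sylow P hg
    rw [← hP, Subgroup.mem_centralizer_iff] at h1
    exact h1 x (Set.mem_singleton x)

/-- (GA4) the action of `G / O_p(G)` on `N`, with `p'`-elements fixed-point-free. -/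
theorem exists_action (hN1 : N ≠ ⊥)
    (hcent : ∀ x ∈ N, x ≠ 1 → ∃ P : Sylow p G, Subgroup.centralizer ({x} : Set G) = P) :
    ∃ φ : (G ⧸ Cfsg.pCore p G) →* MulAut N,
      (∀ (g : G) (n : N), ((φ (g : G ⧸ Cfsg.pCore p G) n : N) : G) = g * n * g⁻¹) ∧
      ∀ x : G ⧸ Cfsg.pCore p G, x ≠ 1 → (orderOf x).Coprime p → ∀ n : N, φ x n = n → n = 1 := by
  have hker : Cfsg.pCore p G ≤ (MulAut.conjNormal (H := N)).ker := by
    intro g hg
    rw [MonoidHom.mem_ker]
    have hc := pCore_le_centralizer p N hcent hg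
    rw [Subgroup.mem_centralizer_iff] at hc
    ext n
    rw [MulAut.conjNormal_apply]
    have := hc n n.2
    rw [MulAut.one_apply, ← this]
    group
  refine ⟨QuotientGroup.lift (Cfsg.pCore p G) (MulAut.conjNormal (H := N)) hker, ?_, ?_⟩
  · intro g n
    rw [QuotientGroup.lift_mk, MulAut.conjNormal_apply]
  · intro x hx hcop n hn
    by_contra hn1
    obtain ⟨g, rfl⟩ := QuotientGroup.mk_surjective x
    rw [QuotientGroup.lift_mk] at hn
    have hn' : g * (n : G) * g⁻¹ = n := by
      rw [← MulAut.conjNormal_apply, hn]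
    have hn1' : (n : G) ≠ 1 := fun h => hn1 (Subtype.ext h)
    obtain ⟨P, hP⟩ := hcent n n.2 hn1'
    have hgP : g ∈ (P : Subgroup G) := by
      rw [← hP, Subgroup.mem_centralizer_iff]
      intro y hy
      rw [Set.mem_singleton_iff] at hy
      subst hy
      calc (n : G) * g = (g * (n : G) * g⁻¹) * g := by rw [hn']
        _ = g * n := by group
    obtain ⟨k, hk⟩ := P.isPGroup' ⟨g, hgP⟩
    have hk' : g ^ (p ^ k) = 1 := by
      have := congrArg Subtype.val hk
      simpa using this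
    have h1 : (QuotientGroup.mk g : G ⧸ Cfsg.pCore p G) ^ (p ^ k) = 1 := by
      rw [← QuotientGroup.mk_pow, hk', QuotientGroup.mk_one]
    have hdvd : orderOf (QuotientGroup.mk g : G ⧸ Cfsg.pCore p G) ∣ p ^ k :=
      orderOf_dvd_of_pow_eq_one h1
    have hcop' : (orderOf (QuotientGroup.mk g : G ⧸ Cfsg.pCore p G)).Coprime (p ^ k) :=
      Nat.Coprime.pow_right k hcop
    have h2 : orderOf (QuotientGroup.mk g : G ⧸ Cfsg.pCore p G) = 1 :=
      Nat.Coprime.eq_one_of_dvd hcop' hdvd
    exact hx (orderOf_eq_one_iff.1 h2)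

/-- (GA3) `|G / O_p(G)| = (|N| - 1) p^a`. -/
theorem card_quotient_pCore (hN1 : N ≠ ⊥)
    (hcent : ∀ x ∈ N, x ≠ 1 → ∃ P : Sylow p G, Subgroup.centralizer ({x} : Set G) = P)
    (htr : ∀ x ∈ N, ∀ y ∈ N, x ≠ 1 → y ≠ 1 → ∃ g : G, g * x * g⁻¹ = y) :
    ∃ a : ℕ, Nat.card (G ⧸ Cfsg.pCore p G) = (Nat.card N - 1) * p ^ a := by
  classical
  obtain ⟨x₀, hx₀N, hx₀1⟩ : ∃ x ∈ N, x ≠ 1 := by
    by_contra h
    push Not at h
    exact hN1 ((Subgroup.eq_bot_iff_forall _).2 h)
  obtain ⟨P, hP⟩ := hcent x₀ hx₀N hx₀1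
  let _ : MulAction G N := MulAction.compHom N (MulAut.conjNormal (H := N))
  have hsmul : ∀ (g : G) (n : N), ((g • n : N) : G) = g * n * g⁻¹ := by
    intro g n
    exact MulAut.conjNormal_apply g n
  let x : N := ⟨x₀, hx₀N⟩
  have hstab : MulAction.stabilizer G x = Subgroup.centralizer ({x₀} : Set G) := by
    ext g
    rw [MulAction.mem_stabilizer_iff, Subgroup.mem_centralizer_iff]
    constructor
    · intro h y hy
      rw [Set.mem_singleton_iff] at hy
      subst hy
      have h' : g * y * g⁻¹ = y := by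
        have := congrArg Subtype.val h
        rw [hsmul] at this
        exact this
      calc y * g = (g * y * g⁻¹) * g := by rw [h']
        _ = g * y := by group
    · intro h
      apply Subtype.ext
      rw [hsmul]
      have := h x₀ (Set.mem_singleton x₀)
      change g * x₀ * g⁻¹ = x₀
      rw [← this]
      group
  have horb : MulAction.orbit G x = {n : N | n ≠ 1} := by
    ext n
    rw [MulAction.mem_orbit_iff, Set.mem_ofPred_eq]
    constructor
    · rintro ⟨g, rfl⟩ h
      have := congrArg Subtype.val h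
      rw [hsmul] at this
      apply hx₀1
      change g * x₀ * g⁻¹ = 1 at this
      have h2 : x₀ = g⁻¹ * (g * x₀ * g⁻¹) * g := by group
      rw [h2, this]
      group
    · intro hn
      have hn1 : (n : G) ≠ 1 := fun h => hn (Subtype.ext h)
      obtain ⟨g, hg⟩ := htr x₀ hx₀N n n.2 hx₀1 hn1
      refine ⟨g, Subtype.ext ?_⟩
      rw [hsmul]
      exact hg
  have hidx : (Subgroup.centralizer ({x₀} : Set G)).index = Nat.card N - 1 := by
    rw [← hstab, MulAction.index_stabilizer, horb]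
    have : ({n : N | n ≠ 1} : Set N) = ({1} : Set N)ᶜ := by
      ext n; simp
    rw [this, Set.ncard_compl, Set.ncard_singleton]
  -- orders
  obtain ⟨b, hb⟩ := IsPGroup.iff_card.1 P.isPGroup'
  obtain ⟨c, hc⟩ := IsPGroup.iff_card.1 (Cfsg.Agent.Lib.Helper1.pCore_isPGroup p G)
  have hle : Cfsg.pCore p G ≤ (P : Subgroup G) := Cfsg.Agent.Lib.Helper1.pCore_le_sylow P
  have hcb : c ≤ b := by
    have hdvd : Nat.card (Cfsg.pCore p G) ∣ Nat.card (P : Subgroup G) := Subgroup.card_dvd_of_le hle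
    rw [hb, hc] at hdvd
    exact (Nat.pow_dvd_pow_iff_le_right (Nat.Prime.one_lt (Fact.out))).1 hdvd
  have h1 : Nat.card G = (Nat.card N - 1) * p ^ b := by
    rw [← hidx, hP, ← hb]
    exact (Subgroup.index_mul_card (P : Subgroup G)).symm
  have h2 : Nat.card G = Nat.card (G ⧸ Cfsg.pCore p G) * p ^ c := by
    rw [← hc]
    exact Subgroup.card_eq_card_quotient_mul_card_subgroup _
  refine ⟨b - c, ?_⟩
  have hpc : 0 < p ^ c := pow_pos (Nat.Prime.pos Fact.out) c
  apply Nat.eq_of_mul_eq_mul_right hpc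
  rw [← h2, h1, mul_assoc, ← pow_add, Nat.sub_add_cancel hcb]

end Cfsg.Agent.Lib.Helper13.Gag
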