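import Mathlib
import Cfsg.Prelude.Def_GeometricClasses
import Cfsg.Agent.Lib.Helper25.TensDefs
import Cfsg.Agent.Lib.Helper25.TensStmt

/-!
S5637 leaf TA (`lemmaA`): a set of `a × a` matrices closed under `+`, `-`, scalars and conjugation
by determinant-one units, and containing a non-scalar matrix, contains an elementary matrix
`E_{ki}` with `k ≠ i`.
-/

set_option autoImplicit false
set_option linter.unusedSectionVars false
set_option linter.unusedVariables false

namespace Cfsg.Agent.Lib.Helper13.TensLeaf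
open Matrix Cfsg.Agent.Lib.Helper25.Tens Cfsg.Agent.Lib.Helper25.TensLeaves
open scoped Kronecker

variable {F : Type*} [Field F] {a : ℕ}

/-- `X θ - θ X - X θ X`, the effect of conjugating by `1 + X` (`X² = 0`) and subtracting -/
def Dm (X θ : Matrix (Fin a) (Fin a) F) : Matrix (Fin a) (Fin a) F :=
  X * θ - θ * X - X * θ * X

lemma conj_sub_eq (X θ : Matrix (Fin a) (Fin a) F) : (1 + X) * θ * (1 - X) - θ = Dm X θ := by
  unfold Dm
  noncomm_ring

lemma single_sq (p r : Fin a) (h : p ≠ r) (c : F) :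
    (Matrix.single p r c : Matrix (Fin a) (Fin a) F) * Matrix.single p r c = 0 :=
  Matrix.single_mul_single_of_ne c p r p h.symm c

/-- the transvection unit `1 + c E_{pr}` -/
noncomputable def tu (p r : Fin a) (h : p ≠ r) (c : F) : GL (Fin a) F where
  val := 1 + Matrix.single p r c
  inv := 1 - Matrix.single p r c
  val_inv := by
    have h1 := single_sq p r h c
    calc (1 + Matrix.single p r c) * (1 - Matrix.single p r c)
        = 1 - Matrix.single p r c * Matrix.single p r c := by noncomm_ring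
      _ = 1 := by rw [h1, sub_zero]
  inv_val := by
    have h1 := single_sq p r h c
    calc (1 - Matrix.single p r c) * (1 + Matrix.single p r c)
        = 1 - Matrix.single p r c * Matrix.single p r c := by noncomm_ring
      _ = 1 := by rw [h1, sub_zero]

lemma tu_det (p r : Fin a) (h : p ≠ r) (c : F) :
    ((tu p r h c : GL (Fin a) F) : Matrix (Fin a) (Fin a) F).det = 1 :=
  Matrix.det_transvection_of_ne p r h c

lemma mss_ne (M : Matrix (Fin a) (Fin a) F) (p q r s : Fin a) (h : q ≠ r) (c d : F) :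
    M * Matrix.single p q c * Matrix.single r s d = 0 := by
  rw [Matrix.mul_assoc, Matrix.single_mul_single_of_ne c p q r h d, Matrix.mul_zero]

lemma mss_same (M : Matrix (Fin a) (Fin a) F) (p q s : Fin a) (c d : F) :
    M * Matrix.single p q c * Matrix.single q s d = M * Matrix.single p s (c * d) := by
  rw [Matrix.mul_assoc, Matrix.single_mul_single_same]

lemma single_mul_diag {θ : Matrix (Fin a) (Fin a) F} (hd : ∀ i k, i ≠ k → θ i k = 0)
    (i k : Fin a) (c : F) : Matrix.single i k c * θ = Matrix.single i k (c * θ k k) := by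
  ext x y
  by_cases hx : x = i
  · subst hx
    rw [Matrix.single_mul_apply_same]
    by_cases hy : y = k
    · subst hy
      rw [Matrix.single_apply_same]
    · rw [hd k y (Ne.symm hy), mul_zero, Matrix.single_apply_of_col_ne _ _ (Ne.symm hy)]
  · rw [Matrix.single_mul_apply_of_ne _ _ _ _ _ hx, Matrix.single_apply_of_row_ne (Ne.symm hx)]

lemma diag_mul_single {θ : Matrix (Fin a) (Fin a) F} (hd : ∀ i k, i ≠ k → θ i k = 0)
    (i k : Fin a) (c : F) : θ * Matrix.single i k c = Matrix.single i k (θ i i * c) := by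
  ext x y
  by_cases hy : y = k
  · subst hy
    rw [Matrix.mul_single_apply_same]
    by_cases hx : x = i
    · subst hx
      rw [Matrix.single_apply_same]
    · rw [hd x i hx, zero_mul, Matrix.single_apply_of_row_ne (Ne.symm hx)]
  · rw [Matrix.mul_single_apply_of_ne _ _ _ _ _ hy, Matrix.single_apply_of_col_ne _ _ (Ne.symm hy)]

/-- three steps for `a ≥ 3` -/
lemma chain3 (θ : Matrix (Fin a) (Fin a) F) {i j k : Fin a} (hik : i ≠ k) (hji : j ≠ i)
    (hjk : j ≠ k) :
    Dm (Matrix.single j i 1) (Dm (Matrix.single k j 1) (Dm (Matrix.single k i 1) θ)) =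
      Matrix.single k i (θ i k) := by
  unfold Dm
  simp only [Matrix.mul_sub, Matrix.sub_mul, ← Matrix.mul_assoc]
  simp [Matrix.single_mul_single_of_ne, Matrix.single_mul_mul_single, mss_ne, hik, hji.symm, hjk]

/-- the two-parameter trick for `a = 2` -/
lemma twoparam (θ : Matrix (Fin a) (Fin a) F) (i k : Fin a) (c : F) :
    Dm (Matrix.single k i c) θ - c • Dm (Matrix.single k i 1) θ =
      Matrix.single k i (c * (1 - c) * θ i k) := by
  have hc : (Matrix.single k i c : Matrix (Fin a) (Fin a) F) = c • Matrix.single k i (1 : F) := by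
    rw [Matrix.smul_single, smul_eq_mul, mul_one]
  unfold Dm
  rw [hc]
  simp only [Matrix.smul_mul, Matrix.mul_smul, Matrix.single_mul_mul_single, smul_sub, one_mul,
    mul_one]
  ext x y
  simp only [Matrix.sub_apply, Matrix.smul_apply, Matrix.single_apply, smul_eq_mul]
  split_ifs <;> ring

/-- (TA) Lemma A. -/
theorem lemmaA (ha : 2 ≤ a) (hex : a = 2 → ∃ c : F, c ≠ 0 ∧ c ≠ 1)
    (S : Set (Matrix (Fin a) (Fin a) F))
    (hadd : ∀ θ θ', θ ∈ S → θ' ∈ S → θ + θ' ∈ S) (hneg : ∀ θ, θ ∈ S → -θ ∈ S)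
    (hsmul : ∀ (c : F) θ, θ ∈ S → c • θ ∈ S)
    (hconj : ∀ α : GL (Fin a) F, (α : Matrix (Fin a) (Fin a) F).det = 1 → ∀ θ, θ ∈ S →
      (α : Matrix (Fin a) (Fin a) F) * θ * ((α⁻¹ : GL (Fin a) F) : Matrix (Fin a) (Fin a) F) ∈ S)
    (θ : Matrix (Fin a) (Fin a) F) (hθ : θ ∈ S) (hns : ¬ IsScalarMat θ) :
    ∃ k i : Fin a, k ≠ i ∧ Matrix.single k i (1 : F) ∈ S := by
  have hsub : ∀ θ θ', θ ∈ S → θ' ∈ S → θ - θ' ∈ S := fun θ θ' h h' => by
    rw [sub_eq_add_neg]
    exact hadd _ _ h (hneg _ h')
  have hD : ∀ p r : Fin a, p ≠ r → ∀ (c : F) θ, θ ∈ S → Dm (Matrix.single p r c) θ ∈ S := by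
    intro p r hpr c θ hθ
    rw [← conj_sub_eq]
    exact hsub _ _ (hconj (tu p r hpr c) (tu_det p r hpr c) θ hθ) hθ
  have hext : ∀ (k i : Fin a) (c : F), c ≠ 0 → Matrix.single k i c ∈ S →
      Matrix.single k i (1 : F) ∈ S := by
    intro k i c hc h
    have := hsmul c⁻¹ _ h
    rwa [Matrix.smul_single, smul_eq_mul, inv_mul_cancel₀ hc] at this
  by_cases hoff : ∃ i k : Fin a, i ≠ k ∧ θ i k ≠ 0
  · obtain ⟨i, k, hik, hθik⟩ := hoff
    by_cases ha2 : a = 2
    · obtain ⟨c, hc0, hc1⟩ := hex ha2
      have h1 := hD k i hik.symm c θ hθ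
      have h2 := hD k i hik.symm 1 θ hθ
      have h3 := hsub _ _ h1 (hsmul c _ h2)
      rw [twoparam] at h3
      exact ⟨k, i, hik.symm, hext k i _
        (mul_ne_zero (mul_ne_zero hc0 (sub_ne_zero.mpr hc1.symm)) hθik) h3⟩
    · have ha3 : 3 ≤ a := by omega
      obtain ⟨j, hji, hjk⟩ : ∃ j : Fin a, j ≠ i ∧ j ≠ k := by
        by_contra hcon
        push Not at hcon
        have hsub : (Finset.univ : Finset (Fin a)) ⊆ {i, k} := by
          intro j _
          by_cases hji : j = i
          · simp [hji]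
          · simp [hcon j hji]
        have := Finset.card_le_card hsub
        rw [Finset.card_univ, Fintype.card_fin] at this
        have h2 : ({i, k} : Finset (Fin a)).card ≤ 2 := Finset.card_le_two
        omega
      have h1 := hD k i hik.symm 1 θ hθ
      have h2 := hD k j hjk.symm 1 _ h1
      have h3 := hD j i hji 1 _ h2
      rw [chain3 θ hik hji hjk] at h3
      exact ⟨k, i, hik.symm, hext k i _ hθik h3⟩
  · push Not at hoff
    have hex2 : ∃ i k : Fin a, θ i i ≠ θ k k := by
      by_contra hcon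
      push Not at hcon
      apply hns
      refine ⟨θ ⟨0, by omega⟩ ⟨0, by omega⟩, ?_⟩
      ext x y
      by_cases hxy : x = y
      · subst hxy
        rw [Matrix.smul_apply, Matrix.one_apply_eq, smul_eq_mul, mul_one]
        exact hcon x _
      · rw [hoff x y hxy, Matrix.smul_apply, Matrix.one_apply_ne hxy, smul_zero]
    obtain ⟨i, k, hne⟩ := hex2
    have hik : i ≠ k := fun h => hne (by rw [h])
    have h1 := hD i k hik 1 θ hθ
    have e : Dm (Matrix.single i k 1) θ = Matrix.single i k (θ k k - θ i i) := by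
      unfold Dm
      rw [Matrix.single_mul_mul_single, single_mul_diag hoff, diag_mul_single hoff,
        hoff k i hik.symm]
      ext x y
      simp only [Matrix.sub_apply, Matrix.single_apply]
      split_ifs <;> ring
    rw [e] at h1
    exact ⟨i, k, hik, hext i k _ (sub_ne_zero.mpr hne.symm) h1⟩

end Cfsg.Agent.Lib.Helper13.TensLeaf
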