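/-
helper13: the arithmetic of the class equation for subgroups of `SL₂(q)` (Dickson's theorem).
-/
import Mathlib

set_option autoImplicit false

namespace Cfsg.Agent.Lib.Helper13.Dk

theorem inv_le_of_le (n c : ℕ) (hn : 0 < n) (h : n ≤ c) : ((c : ℚ))⁻¹ ≤ ((n : ℚ))⁻¹ := by
  apply inv_anti₀
  · exact_mod_cast hn
  · exact_mod_cast h

theorem eq_of_inv_eq {g n : ℕ} (h : (g : ℚ)⁻¹ = (n : ℚ)⁻¹) : g = n := by
  have := inv_injective h
  exact_mod_cast this

/-- The contribution of a class with `|C| = e c`, `|N| = e c t`. -/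
def wt (c t : ℕ) : ℚ := (1 - (c : ℚ)⁻¹) * (t : ℚ)⁻¹

theorem wt_one (c : ℕ) : wt c 1 = 1 - (c : ℚ)⁻¹ := by simp [wt]

theorem wt_two (c : ℕ) : wt c 2 = (1 - (c : ℚ)⁻¹) / 2 := by
  simp [wt, div_eq_mul_inv]

theorem inv_le_half {c : ℕ} (hc : 2 ≤ c) : (c : ℚ)⁻¹ ≤ 1 / 2 := by
  have := inv_le_of_le 2 c (by norm_num) hc
  norm_num at this ⊢
  exact this

theorem inv_pos' {c : ℕ} (hc : 1 ≤ c) : (0 : ℚ) < (c : ℚ)⁻¹ := by
  have : (0 : ℚ) < c := by exact_mod_cast hc
  positivity

theorem wt_ge {c t : ℕ} (hc : 2 ≤ c) (ht : t = 1 ∨ t = 2) : 1 / 4 ≤ wt c t := by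
  have := inv_le_half hc
  rcases ht with rfl | rfl
  · rw [wt_one]; linarith
  · rw [wt_two]; linarith

theorem wt_one_ge {c : ℕ} (hc : 2 ≤ c) : 1 / 2 ≤ wt c 1 := by
  have := inv_le_half hc
  rw [wt_one]; linarith

theorem wt_two_lt {c : ℕ} (hc : 1 ≤ c) : wt c 2 < 1 / 2 := by
  have := inv_pos' hc
  rw [wt_two]; linarith

theorem card_le_of_sum {ι : Type*} (R : Finset ι) (f : ι → ℚ) (hf : ∀ i ∈ R, 1 / 4 ≤ f i) :
    (R.card : ℚ) / 4 ≤ ∑ i ∈ R, f i := by
  have h := Finset.card_nsmul_le_sum R f (1 / 4) hf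
  simp only [nsmul_eq_mul] at h
  linarith

/-- sorted triple -/
theorem ar3_sorted (c1 c2 c3 g : ℕ) (h1 : 2 ≤ c1) (h12 : c1 ≤ c2) (h23 : c2 ≤ c3) (hg : 1 ≤ g)
    (h : ((c1 : ℚ))⁻¹ + (c2 : ℚ)⁻¹ + (c3 : ℚ)⁻¹ = 1 + 2 * (g : ℚ)⁻¹) :
    (2 * c3 = g) ∨ (g = 12 ∧ c3 ≤ 3) ∨ (g = 24 ∧ c3 ≤ 4) ∨ (g = 60 ∧ c3 = 5) := by
  have hc3 : (c3 : ℚ) ≠ 0 := by
    have : 0 < c3 := by omega
    positivity
  have hgq : (0 : ℚ) < g := by positivity
  have hgne : (g : ℚ) ≠ 0 := hgq.ne'
  have hpos : (0 : ℚ) < (g : ℚ)⁻¹ := by positivity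
  have e1 : c1 = 2 := by
    by_contra hne
    have a1 := inv_le_of_le 3 c1 (by norm_num) (by omega)
    have a2 := inv_le_of_le 3 c2 (by norm_num) (by omega)
    have a3 := inv_le_of_le 3 c3 (by norm_num) (by omega)
    norm_num at a1 a2 a3
    linarith
  subst e1
  have e2 : c2 = 2 ∨ c2 = 3 := by
    by_contra hne
    have a2 := inv_le_of_le 4 c2 (by norm_num) (by omega)
    have a3 := inv_le_of_le 4 c3 (by norm_num) (by omega)
    norm_num at a2 a3 h
    linarith
  rcases e2 with rfl | rfl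
  · left
    have h' : (c3 : ℚ)⁻¹ = 2 * (g : ℚ)⁻¹ := by
      norm_num at h
      linarith
    field_simp at h'
    have : g = c3 * 2 := by exact_mod_cast h'
    omega
  · right
    have e3 : c3 ≤ 5 := by
      by_contra hne
      have a3 := inv_le_of_le 6 c3 (by norm_num) (by omega)
      norm_num at h a3
      linarith
    interval_cases c3
    · left
      norm_num at h
      have h' : (g : ℚ)⁻¹ = ((12 : ℕ) : ℚ)⁻¹ := by push_cast; linarith
      exact ⟨eq_of_inv_eq h', le_refl _⟩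
    · right; left
      norm_num at h
      have h' : (g : ℚ)⁻¹ = ((24 : ℕ) : ℚ)⁻¹ := by push_cast; linarith
      exact ⟨eq_of_inv_eq h', le_refl _⟩
    · right; right
      norm_num at h
      have h' : (g : ℚ)⁻¹ = ((60 : ℕ) : ℚ)⁻¹ := by push_cast; linarith
      exact ⟨eq_of_inv_eq h', rfl⟩

/-- The symmetric conclusion for three classes. -/
def Concl3 (c1 c2 c3 g : ℕ) : Prop :=
  (2 * c1 = g ∨ 2 * c2 = g ∨ 2 * c3 = g) ∨ (g = 12 ∧ c1 ≤ 3 ∧ c2 ≤ 3 ∧ c3 ≤ 3) ∨
    (g = 24 ∧ c1 ≤ 4 ∧ c2 ≤ 4 ∧ c3 ≤ 4) ∨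
    (g = 60 ∧ c1 ≤ 5 ∧ c2 ≤ 5 ∧ c3 ≤ 5 ∧ (c1 = 5 ∨ c2 = 5 ∨ c3 = 5))

theorem concl3_of_sorted (c1 c2 c3 g : ℕ) (h1 : 2 ≤ c1) (h12 : c1 ≤ c2) (h23 : c2 ≤ c3)
    (hg : 1 ≤ g)
    (h : ((c1 : ℚ))⁻¹ + (c2 : ℚ)⁻¹ + (c3 : ℚ)⁻¹ = 1 + 2 * (g : ℚ)⁻¹) : Concl3 c1 c2 c3 g := by
  rcases ar3_sorted c1 c2 c3 g h1 h12 h23 hg h with h' | ⟨h', h''⟩ | ⟨h', h''⟩ | ⟨h', h''⟩
  · exact Or.inl (Or.inr (Or.inr h'))
  · exact Or.inr (Or.inl ⟨h', by omega, by omega, h''⟩)
  · exact Or.inr (Or.inr (Or.inl ⟨h', by omega, by omega, h''⟩))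
  · exact Or.inr (Or.inr (Or.inr ⟨h', by omega, by omega, by omega, Or.inr (Or.inr h'')⟩))

theorem Concl3.perm12 {c1 c2 c3 g : ℕ} (h : Concl3 c1 c2 c3 g) : Concl3 c2 c1 c3 g := by
  unfold Concl3 at h ⊢
  tauto

theorem Concl3.perm23 {c1 c2 c3 g : ℕ} (h : Concl3 c1 c2 c3 g) : Concl3 c1 c3 c2 g := by
  unfold Concl3 at h ⊢
  tauto

theorem ar3 (c1 c2 c3 g : ℕ) (h1 : 2 ≤ c1) (h2 : 2 ≤ c2) (h3 : 2 ≤ c3) (hg : 1 ≤ g)
    (h : ((c1 : ℚ))⁻¹ + (c2 : ℚ)⁻¹ + (c3 : ℚ)⁻¹ = 1 + 2 * (g : ℚ)⁻¹) : Concl3 c1 c2 c3 g := by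
  rcases le_total c1 c2 with h12 | h12
  · rcases le_total c2 c3 with h23 | h23
    · exact concl3_of_sorted c1 c2 c3 g h1 h12 h23 hg h
    · rcases le_total c1 c3 with h13 | h13
      · -- c1 ≤ c3 ≤ c2
        exact (concl3_of_sorted c1 c3 c2 g h1 h13 h23 hg (by linarith)).perm23
      · -- c3 ≤ c1 ≤ c2
        exact ((concl3_of_sorted c3 c1 c2 g h3 h13 h12 hg (by linarith)).perm12).perm23
  · rcases le_total c1 c3 with h13 | h13
    · -- c2 ≤ c1 ≤ c3
      exact (concl3_of_sorted c2 c1 c3 g h2 h12 h13 hg (by linarith)).perm12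
    · rcases le_total c2 c3 with h23 | h23
      · -- c2 ≤ c3 ≤ c1
        exact ((concl3_of_sorted c2 c3 c1 g h2 h23 h13 hg (by linarith)).perm23).perm12
      · -- c3 ≤ c2 ≤ c1
        exact (((concl3_of_sorted c3 c2 c1 g h3 h23 h12 hg (by linarith)).perm12).perm23).perm12



/-- The numerical outcomes of the class equation. -/
def ConclA {ι : Type*} (R : Finset ι) (c t : ι → ℕ) (g : ℕ) : Prop :=
  (∃ i ∈ R, c i * t i = g ∧ t i = 2) ∨ (g = 12 ∧ ∀ i ∈ R, c i ≤ 3) ∨
    (g = 24 ∧ ∀ i ∈ R, c i ≤ 4) ∨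
    (g = 60 ∧ (∀ i ∈ R, c i ≤ 5) ∧ ∃ i ∈ R, c i = 5 ∧ t i = 2)

theorem two_mul_le_of_dvd {c g : ℕ} (hg : 1 ≤ g) (h : c * 2 ∣ g) : 2 * c ≤ g := by
  have := Nat.le_of_dvd (by omega) h
  omega

theorem arithA {ι : Type*} [DecidableEq ι] (R : Finset ι) (c t : ι → ℕ) (g : ℕ) (hg : 2 ≤ g)
    (hc : ∀ i ∈ R, 2 ≤ c i) (ht : ∀ i ∈ R, t i = 1 ∨ t i = 2) (hdvd : ∀ i ∈ R, c i * t i ∣ g)
    (hlt : ∀ i ∈ R, c i < g)
    (heq : (1 : ℚ) = (g : ℚ)⁻¹ + ∑ i ∈ R, wt (c i) (t i)) : ConclA R c t g := by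
  have hgpos : (0 : ℚ) < (g : ℚ)⁻¹ := inv_pos' (by omega)
  have hghalf : (g : ℚ)⁻¹ ≤ 1 / 2 := inv_le_half hg
  have hcard := card_le_of_sum R (fun i => wt (c i) (t i)) (fun i hi => wt_ge (hc i hi) (ht i hi))
  have hcard3 : R.card ≤ 3 := by
    by_contra hcon
    have : (4 : ℚ) ≤ R.card := by exact_mod_cast (by omega : 4 ≤ R.card)
    linarith
  have hcases : R.card = 0 ∨ R.card = 1 ∨ R.card = 2 ∨ R.card = 3 := by omega
  rcases hcases with h0 | h1 | h2 | h3
  · rw [Finset.card_eq_zero] at h0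
    rw [h0, Finset.sum_empty] at heq
    linarith
  · obtain ⟨i, rfl⟩ := Finset.card_eq_one.mp h1
    rw [Finset.sum_singleton] at heq
    have hi : i ∈ ({i} : Finset ι) := Finset.mem_singleton_self i
    exfalso
    rcases ht i hi with h | h
    · rw [h, wt_one] at heq
      have h' : (g : ℚ)⁻¹ = (c i : ℚ)⁻¹ := by linarith
      have := eq_of_inv_eq h'
      have := hlt i hi
      omega
    · rw [h] at heq
      have := wt_two_lt (c := c i) (by have := hc i hi; omega)
      linarith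
  · obtain ⟨i, j, hij, rfl⟩ := Finset.card_eq_two.mp h2
    rw [Finset.sum_pair hij] at heq
    have hi : i ∈ ({i, j} : Finset ι) := by simp
    have hj : j ∈ ({i, j} : Finset ι) := by simp
    have hci := hc i hi
    have hcj := hc j hj
    -- the mixed case
    have mixed : ∀ a b : ι, a ∈ ({i, j} : Finset ι) → b ∈ ({i, j} : Finset ι) →
        (∀ x ∈ ({i, j} : Finset ι), x = a ∨ x = b) → t a = 1 → t b = 2 →
        (1 : ℚ) = (g : ℚ)⁻¹ + (wt (c a) (t a) + wt (c b) (t b)) → ConclA {i, j} c t g := by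
      intro a b ha hb hall hta htb hab
      have hca := hc a ha
      have hcb := hc b hb
      rw [hta, htb, wt_one, wt_two] at hab
      have hcb' := inv_le_half hcb
      have hcbpos := inv_pos' (c := c b) (by omega)
      have hca23 : c a = 2 ∨ c a = 3 := by
        by_contra hne
        have a1 := inv_le_of_le 4 (c a) (by norm_num) (by omega)
        norm_num at a1
        linarith
      rcases hca23 with h | h
      · left
        refine ⟨b, hb, ?_, htb⟩
        rw [h] at hab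
        norm_num at hab
        have h' : (g : ℚ)⁻¹ = ((c b * 2 : ℕ) : ℚ)⁻¹ := by
          push_cast
          rw [mul_inv]
          linarith
        rw [htb]
        exact (eq_of_inv_eq h').symm
      · right; left
        rw [h] at hab
        norm_num at hab
        have hcb2 : c b = 2 := by
          by_contra hne
          have a1 := inv_le_of_le 3 (c b) (by norm_num) (by omega)
          norm_num at a1
          linarith
        rw [hcb2] at hab
        norm_num at hab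
        have h' : (g : ℚ)⁻¹ = ((12 : ℕ) : ℚ)⁻¹ := by push_cast; linarith
        refine ⟨eq_of_inv_eq h', ?_⟩
        intro x hx
        rcases hall x hx with rfl | rfl <;> omega
    rcases ht i hi with hti | hti <;> rcases ht j hj with htj | htj
    · exfalso
      have := wt_one_ge hci
      have := wt_one_ge hcj
      rw [hti, htj] at heq
      linarith
    · exact mixed i j hi hj (by intro x hx; simpa using hx) hti htj heq
    · exact mixed j i hj hi (by intro x hx; simp at hx; tauto) htj hti (by linarith)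
    · exfalso
      have di := two_mul_le_of_dvd (by omega) (hti ▸ hdvd i hi)
      have a1 := inv_le_of_le (2 * c i) g (by omega) di
      push_cast at a1
      rw [mul_inv] at a1
      rw [hti, htj, wt_two, wt_two] at heq
      have := inv_pos' (c := c j) (by omega)
      linarith
  · obtain ⟨i, j, k, hij, hik, hjk, rfl⟩ := Finset.card_eq_three.mp h3
    have hi : i ∈ ({i, j, k} : Finset ι) := by simp
    have hj : j ∈ ({i, j, k} : Finset ι) := by simp
    have hk : k ∈ ({i, j, k} : Finset ι) := by simp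
    have hsum : ∑ x ∈ ({i, j, k} : Finset ι), wt (c x) (t x) =
        wt (c i) (t i) + wt (c j) (t j) + wt (c k) (t k) := by
      rw [Finset.sum_insert (by simp [hij, hik]), Finset.sum_pair hjk]
      ring
    rw [hsum] at heq
    have wi := wt_ge (hc i hi) (ht i hi)
    have wj := wt_ge (hc j hj) (ht j hj)
    have wk := wt_ge (hc k hk) (ht k hk)
    have hti : t i = 2 := by
      rcases ht i hi with h | h
      · exfalso
        have := wt_one_ge (hc i hi)
        rw [h] at heq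
        linarith
      · exact h
    have htj : t j = 2 := by
      rcases ht j hj with h | h
      · exfalso
        have := wt_one_ge (hc j hj)
        rw [h] at heq
        linarith
      · exact h
    have htk : t k = 2 := by
      rcases ht k hk with h | h
      · exfalso
        have := wt_one_ge (hc k hk)
        rw [h] at heq
        linarith
      · exact h
    rw [hti, htj, htk, wt_two, wt_two, wt_two] at heq
    have key := ar3 (c i) (c j) (c k) g (hc i hi) (hc j hj) (hc k hk) (by omega) (by linarith)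
    have hall : ∀ x ∈ ({i, j, k} : Finset ι), x = i ∨ x = j ∨ x = k := by
      intro x hx; simpa using hx
    rcases key with h | ⟨h, h1, h2, h3⟩ | ⟨h, h1, h2, h3⟩ | ⟨h, h1, h2, h3, h5⟩
    · left
      rcases h with h | h | h
      · exact ⟨i, hi, by rw [hti]; omega, hti⟩
      · exact ⟨j, hj, by rw [htj]; omega, htj⟩
      · exact ⟨k, hk, by rw [htk]; omega, htk⟩
    · right; left
      refine ⟨h, ?_⟩
      intro x hx
      rcases hall x hx with rfl | rfl | rfl <;> assumption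
    · right; right; left
      refine ⟨h, ?_⟩
      intro x hx
      rcases hall x hx with rfl | rfl | rfl <;> assumption
    · right; right; right
      refine ⟨h, ?_, ?_⟩
      · intro x hx
        rcases hall x hx with rfl | rfl | rfl <;> assumption
      · rcases h5 with h5 | h5 | h5
        · exact ⟨i, hi, h5, hti⟩
        · exact ⟨j, hj, h5, htj⟩
        · exact ⟨k, hk, h5, htk⟩



theorem key_eq (c k s m : ℕ) (hc : 2 ≤ c) (hk : 2 ≤ k)
    (h : (c : ℚ)⁻¹ = (k : ℚ)⁻¹ * (1 - 2 * ((s : ℚ) + 2)⁻¹ * (1 - (1 + ((s : ℚ) + 2) * m)⁻¹))) :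
    c * (1 + s * m) = k * (1 + (s + 2) * m) := by
  have hc0 : (c : ℚ) ≠ 0 := by positivity
  have hk0 : (k : ℚ) ≠ 0 := by positivity
  have hs0 : ((s : ℚ) + 2) ≠ 0 := by positivity
  have hq0 : (1 + ((s : ℚ) + 2) * m) ≠ 0 := by positivity
  field_simp at h
  have h' : (c : ℚ) * (1 + s * m) = k * (1 + (s + 2) * m) := by
    apply mul_left_cancel₀ hs0
    linear_combination -h
  exact_mod_cast h'

theorem nat_key (c k s m : ℕ) (hk2 : 2 ≤ k) (hks : k ≤ s + 1) (hm : 1 ≤ m) (hs : 1 ≤ s)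
    (h : c * (1 + s * m) = k * (1 + (s + 2) * m)) :
    (m = 1 ∧ (2 * k = s + 1 ∨ k = s + 1)) ∨ (s = 1 ∧ k = 2 ∧ m = 3 ∧ c = 5) := by
  have hck : k < c := by
    by_contra hcon
    push Not at hcon
    have h1 : c * (1 + s * m) ≤ k * (1 + s * m) := Nat.mul_le_mul_right _ hcon
    have h2 : k * (1 + s * m) < k * (1 + (s + 2) * m) := by
      apply Nat.mul_lt_mul_of_pos_left
      · nlinarith
      · omega
    omega
  obtain ⟨j, rfl⟩ := Nat.exists_eq_add_of_lt hck
  have hj : (j + 1) * (1 + s * m) = 2 * m * k := by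
    have : (k + j + 1) * (1 + s * m) = k * (1 + s * m) + (j + 1) * (1 + s * m) := by ring
    have h3 : k * (1 + (s + 2) * m) = k * (1 + s * m) + 2 * m * k := by ring
    omega
  have hmdvd : ∀ x : ℕ, 1 + s * m = m * x → m = 1 := by
    intro x hx
    have h1 : m ∣ s * m + 1 := by
      rw [add_comm, hx]
      exact Dvd.intro _ rfl
    have h2 : m ∣ 1 := (Nat.dvd_add_right (Dvd.intro_left s rfl)).mp h1
    exact Nat.dvd_one.mp h2
  rcases Nat.lt_or_ge s 2 with hs1 | hs2
  · have hs1' : s = 1 := by omega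
    subst hs1'
    have hk2' : k = 2 := by omega
    subst hk2'
    have hj3 : j + 1 < 4 := by
      by_contra hcon
      push Not at hcon
      have : 4 * (1 + 1 * m) ≤ (j + 1) * (1 + 1 * m) := Nat.mul_le_mul_right _ hcon
      omega
    have : j = 0 ∨ j = 1 ∨ j = 2 := by omega
    rcases this with rfl | rfl | rfl
    · omega
    · left
      refine ⟨by omega, Or.inr rfl⟩
    · right
      refine ⟨rfl, rfl, by omega, by omega⟩
  · left
    have hj2 : j + 1 < 3 := by
      by_contra hcon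
      push Not at hcon
      have h1 : 3 * (1 + s * m) ≤ (j + 1) * (1 + s * m) := Nat.mul_le_mul_right _ hcon
      have h2 : 2 * m * k ≤ 2 * m * (s + 1) := Nat.mul_le_mul_left _ hks
      have h3 : 2 * m ≤ s * m := Nat.mul_le_mul_right _ hs2
      nlinarith
    have : j = 0 ∨ j = 1 := by omega
    rcases this with rfl | rfl
    · have hm1 := hmdvd (2 * k) (by rw [← mul_assoc, mul_comm m 2]; simpa using hj)
      subst hm1
      refine ⟨rfl, Or.inl ?_⟩
      omega
    · have h1 : 1 + s * m = m * k := by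
        have : 2 * (1 + s * m) = 2 * (m * k) := by
          rw [← mul_assoc]; simpa using hj
        omega
      have hm1 := hmdvd k h1
      subst hm1
      refine ⟨rfl, Or.inr ?_⟩
      omega

/-- The numerical outcomes of the class equation when `p` divides the order. -/
def ConclB {ι : Type*} (R : Finset ι) (c t : ι → ℕ) (g r k m : ℕ) : Prop :=
  (∃ i ∈ R, c i * t i = g ∧ t i = 2) ∨
    (g = 60 ∧ r = 3 ∧ (∀ i ∈ R, c i ≤ 5) ∧ ∃ i ∈ R, c i = 5 ∧ t i = 2) ∨
    (m = 1 ∧ (2 * k + 1 = r ∨ k + 1 = r))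

set_option maxHeartbeats 800000 in
theorem arithB {ι : Type*} [DecidableEq ι] (R : Finset ι) (c t : ι → ℕ) (g r k m : ℕ)
    (hr : 2 ≤ r) (hk : 1 ≤ k) (hkr : k + 1 ≤ r) (hm : 1 ≤ m) (hg : g = r * k * (1 + r * m))
    (hc : ∀ i ∈ R, 2 ≤ c i) (ht : ∀ i ∈ R, t i = 1 ∨ t i = 2)
    (hK : 2 ≤ k → ∃ i ∈ R, c i = k)
    (heq : (1 : ℚ) = (g : ℚ)⁻¹ + (1 - (r : ℚ)⁻¹) * (k : ℚ)⁻¹ + ∑ i ∈ R, wt (c i) (t i)) :
    ConclB R c t g r k m := by
  have hgq : (g : ℚ)⁻¹ = (r : ℚ)⁻¹ * (k : ℚ)⁻¹ * (1 + (r : ℚ) * m)⁻¹ := by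
    rw [hg]; push_cast; rw [mul_inv, mul_inv]
  set Q : ℚ := (1 + (r : ℚ) * m)⁻¹ with hQ
  have hrq : (2 : ℚ) ≤ r := by exact_mod_cast hr
  have hmq : (1 : ℚ) ≤ m := by exact_mod_cast hm
  have hQpos : 0 < Q := by rw [hQ]; positivity
  have hQle : Q ≤ 1 / 3 := by
    rw [hQ, inv_le_comm₀ (by positivity) (by norm_num)]
    norm_num
    nlinarith
  have hrinv : (r : ℚ)⁻¹ ≤ 1 / 2 := inv_le_half hr
  have hrpos : (0 : ℚ) < (r : ℚ)⁻¹ := inv_pos' (by omega)
  have hcard := card_le_of_sum R (fun i => wt (c i) (t i)) (fun i hi => wt_ge (hc i hi) (ht i hi))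
  rcases Nat.lt_or_ge k 2 with hk1 | hk2
  · -- `k = 1`
    have hk1' : k = 1 := by omega
    subst hk1'
    rw [hgq] at heq
    norm_num at heq
    have hsum : ∑ i ∈ R, wt (c i) (t i) = (r : ℚ)⁻¹ * (1 - Q) := by linarith
    have hsumlt : ∑ i ∈ R, wt (c i) (t i) < 1 / 2 := by rw [hsum]; nlinarith
    have hsumpos : 0 < ∑ i ∈ R, wt (c i) (t i) := by rw [hsum]; nlinarith
    have hcard1 : R.card = 1 := by
      have h1 : R.card < 2 := by
        by_contra hcon
        have : (2 : ℚ) ≤ R.card := by exact_mod_cast (by omega : 2 ≤ R.card)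
        linarith
      have h0 : R.card ≠ 0 := by
        intro h0
        rw [Finset.card_eq_zero] at h0
        rw [h0, Finset.sum_empty] at hsumpos
        exact lt_irrefl _ hsumpos
      omega
    obtain ⟨i, rfl⟩ := Finset.card_eq_one.mp hcard1
    rw [Finset.sum_singleton] at hsum
    have hi : i ∈ ({i} : Finset ι) := Finset.mem_singleton_self i
    have hci := hc i hi
    rcases ht i hi with hti | hti
    · exfalso
      have := wt_one_ge hci
      rw [Finset.sum_singleton, hti] at hsumlt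
      linarith
    · have hw := wt_ge hci (ht i hi)
      rw [hti] at hsum hw
      rw [wt_two] at hsum
      have hr4 : r < 4 := by
        by_contra hcon
        have a1 := inv_le_of_le 4 r (by norm_num) (by omega)
        norm_num at a1
        rw [wt_two, hsum] at hw
        nlinarith
      have hr23 : r = 2 ∨ r = 3 := by omega
      rcases hr23 with rfl | rfl
      · left
        refine ⟨i, hi, ?_, hti⟩
        norm_num at hsum
        have h1 : (c i : ℚ)⁻¹ = Q := by linarith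
        have h2 : (c i : ℚ)⁻¹ = ((1 + 2 * m : ℕ) : ℚ)⁻¹ := by
          rw [h1, hQ]; push_cast; rfl
        have h3 := eq_of_inv_eq h2
        rw [hg, hti, h3]
        ring
      · right; right
        norm_num at hsum
        have hc2 : c i = 2 := by
          by_contra hne
          have a1 := inv_le_of_le 3 (c i) (by norm_num) (by omega)
          norm_num at a1
          linarith
        rw [hc2] at hsum
        norm_num at hsum
        have h1 : Q = ((4 : ℕ) : ℚ)⁻¹ := by push_cast; linarith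
        have h2 : ((1 + 3 * m : ℕ) : ℚ)⁻¹ = ((4 : ℕ) : ℚ)⁻¹ := by
          rw [← h1, hQ]; push_cast; rfl
        have h3 := eq_of_inv_eq h2
        exact ⟨by omega, Or.inl rfl⟩
  · -- `k ≥ 2`
    obtain ⟨s, rfl⟩ : ∃ s, r = s + 2 := ⟨r - 2, by omega⟩
    have hs1 : 1 ≤ s := by omega
    obtain ⟨i₀, hi₀, hci₀⟩ := hK hk2
    have hsplit : wt (c i₀) (t i₀) + ∑ i ∈ R.erase i₀, wt (c i) (t i) =
        ∑ i ∈ R, wt (c i) (t i) := Finset.add_sum_erase R (fun i => wt (c i) (t i)) hi₀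
    rw [← hsplit, hgq, hci₀] at heq
    have hkinv : (k : ℚ)⁻¹ ≤ 1 / 2 := inv_le_half hk2
    have hkpos : (0 : ℚ) < (k : ℚ)⁻¹ := inv_pos' (by omega)
    have hrinv3 : ((s + 2 : ℕ) : ℚ)⁻¹ ≤ 1 / 3 := by
      have := inv_le_of_le 3 (s + 2) (by norm_num) (by omega)
      norm_num at this ⊢
      exact this
    have hcard' := card_le_of_sum (R.erase i₀) (fun i => wt (c i) (t i))
      (fun i hi => wt_ge (hc i (Finset.mem_of_mem_erase hi)) (ht i (Finset.mem_of_mem_erase hi)))
    set S' := ∑ i ∈ R.erase i₀, wt (c i) (t i) with hS'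
    have hrk : ((s + 2 : ℕ) : ℚ)⁻¹ * (k : ℚ)⁻¹ ≤ 1 / 6 := by nlinarith
    have hrkpos : 0 < ((s + 2 : ℕ) : ℚ)⁻¹ * (k : ℚ)⁻¹ := by positivity
    rcases ht i₀ hi₀ with ht₀ | ht₀
    · exfalso
      rw [ht₀, wt_one] at heq
      have hS : S' = ((s + 2 : ℕ) : ℚ)⁻¹ * (k : ℚ)⁻¹ * (1 - Q) := by linarith
      have hSpos : 0 < S' := by rw [hS]; nlinarith
      have hSlt : S' < 1 / 4 := by rw [hS]; nlinarith
      have h0 : (R.erase i₀).card ≠ 0 := by
        intro h0
        rw [Finset.card_eq_zero] at h0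
        rw [hS', h0, Finset.sum_empty] at hSpos
        exact lt_irrefl _ hSpos
      have : (1 : ℚ) ≤ (R.erase i₀).card := by exact_mod_cast (by omega : 1 ≤ (R.erase i₀).card)
      linarith
    · rw [ht₀, wt_two] at heq
      have hS : S' = 1 / 2 - (k : ℚ)⁻¹ / 2 + ((s + 2 : ℕ) : ℚ)⁻¹ * (k : ℚ)⁻¹ * (1 - Q) := by
        linarith
      have hSgt : 1 / 4 < S' := by rw [hS]; nlinarith
      have hSlt : S' < 1 / 2 := by rw [hS]; nlinarith
      have hcard1 : (R.erase i₀).card = 1 := by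
        have h1 : (R.erase i₀).card < 2 := by
          by_contra hcon
          have : (2 : ℚ) ≤ (R.erase i₀).card := by
            exact_mod_cast (by omega : 2 ≤ (R.erase i₀).card)
          linarith
        have h0 : (R.erase i₀).card ≠ 0 := by
          intro h0
          rw [Finset.card_eq_zero] at h0
          rw [hS', h0, Finset.sum_empty] at hSgt
          linarith
        omega
      obtain ⟨j, hj⟩ := Finset.card_eq_one.mp hcard1
      have hjR : j ∈ R := Finset.mem_of_mem_erase (by rw [hj]; exact Finset.mem_singleton_self j)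
      have hall : ∀ x ∈ R, x = i₀ ∨ x = j := by
        intro x hx
        by_cases hxi : x = i₀
        · exact Or.inl hxi
        · right
          have : x ∈ R.erase i₀ := Finset.mem_erase.mpr ⟨hxi, hx⟩
          rw [hj] at this
          exact Finset.mem_singleton.mp this
      rw [hS', hj, Finset.sum_singleton] at hS
      have hcj := hc j hjR
      rcases ht j hjR with htj | htj
      · exfalso
        have := wt_one_ge hcj
        rw [hS', hj, Finset.sum_singleton, htj] at hSlt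
        linarith
      · rw [htj, wt_two] at hS
        have hceq : (c j : ℚ)⁻¹ = (k : ℚ)⁻¹ *
            (1 - 2 * ((s : ℚ) + 2)⁻¹ * (1 - (1 + ((s : ℚ) + 2) * m)⁻¹)) := by
          have : Q = (1 + ((s : ℚ) + 2) * m)⁻¹ := by rw [hQ]; push_cast; rfl
          rw [← this]
          push_cast at hS
          linarith
        have hnat := key_eq (c j) k s m hcj hk2 hceq
        have hfin := nat_key (c j) k s m hk2 (by omega) hm hs1 hnat
        rcases hfin with ⟨hm1, h | h⟩ | ⟨hs, hk', hm3, hc5⟩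
        · right; right
          exact ⟨hm1, Or.inl (by omega)⟩
        · right; right
          exact ⟨hm1, Or.inr (by omega)⟩
        · right; left
          subst hs hk' hm3
          refine ⟨by rw [hg], rfl, ?_, j, hjR, hc5, htj⟩
          intro x hx
          rcases hall x hx with rfl | rfl <;> omega

end Cfsg.Agent.Lib.Helper13.Dk
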