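/-
helper13: class equation over representatives for groups whose noncentral centralizers are
abelian (`CAZ`, from helper29's `DicksonCount`).
-/
import Mathlib
import Cfsg.Agent.Lib.Helper29.DicksonCount

set_option autoImplicit false

namespace Cfsg.Agent.Lib.Helper13.Dk

open Subgroup Cfsg.Agent.Lib.Helper29.Dickson

variable {G : Type*} [Group G]

/-- A set of representatives of the `cls`-classes of noncentral elements. -/
structure IsReps (R : Finset G) : Prop where
  notMem : ∀ g ∈ R, g ∉ center G
  indep : ∀ g ∈ R, ∀ g' ∈ R, g ≠ g' → g' ∉ cls g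
  cover : ∀ y, y ∉ center G → ∃ g ∈ R, y ∈ cls g

theorem exists_reps [Finite G] :
    ∃ R : Finset G, IsReps R := by
  classical
  let _ : Fintype G := Fintype.ofFinite G
  let P : Finset G → Prop := fun R => (∀ g ∈ R, g ∉ center G) ∧
    (∀ g ∈ R, ∀ g' ∈ R, g ≠ g' → g' ∉ cls g)
  have h0 : P ∅ := ⟨by simp, by simp⟩
  obtain ⟨R, -, hR⟩ := Finite.exists_le_maximal (p := P) h0
  refine ⟨R, hR.prop.1, hR.prop.2, ?_⟩
  intro y hy
  by_contra hcon
  push Not at hcon
  have hyR : y ∉ R := fun h => hcon y h (mem_cls_self hy)
  have hP : P (insert y R) := by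
    refine ⟨?_, ?_⟩
    · intro g hg
      rcases Finset.mem_insert.mp hg with rfl | hg
      · exact hy
      · exact hR.prop.1 g hg
    · intro g hg g' hg' hne
      rcases Finset.mem_insert.mp hg with hgy | hg
      · rcases Finset.mem_insert.mp hg' with hgy' | hg'
        · exact absurd (hgy.trans hgy'.symm) hne
        · intro h
          rw [hgy] at h
          exact hcon g' hg' (cls_symm hy h)
      · rcases Finset.mem_insert.mp hg' with hgy' | hg'
        · rw [hgy']
          exact hcon g hg
        · exact hR.prop.2 g hg g' hg' hne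
  have := hR.le_of_ge hP (Finset.subset_insert y R)
  exact hyR (this (Finset.mem_insert_self y R))

theorem card_eq_sum [Finite G] (hCA : CAZ G) {R : Finset G} (hR : IsReps R) :
    Nat.card G = Nat.card (center G) + ∑ g ∈ R, Nat.card (cls g) := by
  classical
  let _ : Fintype G := Fintype.ofFinite G
  have huniv : (Finset.univ : Finset G) =
      (Finset.univ.filter (fun y : G => y ∈ center G)) ∪
        R.biUnion (fun g => Finset.univ.filter (fun y : G => y ∈ cls g)) := by
    ext y
    simp only [Finset.mem_univ, Finset.mem_union, Finset.mem_filter, true_and,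
      Finset.mem_biUnion, true_iff]
    by_cases hy : y ∈ center G
    · exact Or.inl hy
    · exact Or.inr (hR.cover y hy)
  have hdisj1 : Disjoint (Finset.univ.filter (fun y : G => y ∈ center G))
      (R.biUnion (fun g => Finset.univ.filter (fun y : G => y ∈ cls g))) := by
    rw [Finset.disjoint_left]
    intro y hy hy'
    simp only [Finset.mem_filter, Finset.mem_univ, true_and] at hy
    simp only [Finset.mem_biUnion, Finset.mem_filter, Finset.mem_univ, true_and] at hy'
    obtain ⟨g, -, hg⟩ := hy'
    exact hg.1 hy
  have hdisj2 : ∀ g ∈ R, ∀ g' ∈ R, g ≠ g' →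
      Disjoint (Finset.univ.filter (fun y : G => y ∈ cls g))
        (Finset.univ.filter (fun y : G => y ∈ cls g')) := by
    intro g hg g' hg' hne
    rw [Finset.disjoint_left]
    intro y hy hy'
    simp only [Finset.mem_filter, Finset.mem_univ, true_and] at hy hy'
    have := cls_disjoint hCA (hR.notMem g hg) (hR.notMem g' hg') (hR.indep g hg g' hg' hne)
    exact (Set.disjoint_left.mp this) hy hy'
  have h1 : Fintype.card G = (Finset.univ : Finset G).card := rfl
  rw [Nat.card_eq_fintype_card, h1, huniv, Finset.card_union_of_disjoint hdisj1,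
    Finset.card_biUnion hdisj2]
  congr 1
  · rw [Nat.card_eq_fintype_card, ← Fintype.card_coe]
    apply Fintype.card_congr
    exact ⟨fun y => ⟨y.1, (Finset.mem_filter.mp y.2).2⟩,
      fun y => ⟨y.1, Finset.mem_filter.mpr ⟨Finset.mem_univ _, y.2⟩⟩, fun y => rfl, fun y => rfl⟩
  · apply Finset.sum_congr rfl
    intro g _
    rw [Nat.card_eq_fintype_card, ← Fintype.card_coe]
    apply Fintype.card_congr
    exact ⟨fun y => ⟨y.1, (Finset.mem_filter.mp y.2).2⟩,
      fun y => ⟨y.1, Finset.mem_filter.mpr ⟨Finset.mem_univ _, y.2⟩⟩, fun y => rfl, fun y => rfl⟩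

/-- The class equation in rational form. -/
theorem class_eq [Finite G] (hCA : CAZ G) {R : Finset G} (hR : IsReps R) :
    (1 : ℚ) = (Nat.card (center G) : ℚ) / Nat.card G +
      ∑ g ∈ R, ((Nat.card (centralizer ({g} : Set G)) : ℚ) - Nat.card (center G)) /
        Nat.card (normalizer (centralizer ({g} : Set G) : Set G)) := by
  have hX : (Nat.card G : ℚ) ≠ 0 := by
    have : 0 < Nat.card G := Nat.card_pos
    positivity
  have hsum := card_eq_sum hCA hR
  have hterm : ∀ g ∈ R, (Nat.card (cls g) : ℚ) = (Nat.card G : ℚ) *
      (((Nat.card (centralizer ({g} : Set G)) : ℚ) - Nat.card (center G)) /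
        Nat.card (normalizer (centralizer ({g} : Set G) : Set G))) := by
    intro g hg
    have h := card_cls_mul hCA (hR.notMem g hg)
    have hN : (Nat.card (normalizer (centralizer ({g} : Set G) : Set G)) : ℚ) ≠ 0 := by
      have : 0 < Nat.card (normalizer (centralizer ({g} : Set G) : Set G)) := Nat.card_pos
      positivity
    have h' : (Nat.card (cls g) : ℚ) * Nat.card (normalizer (centralizer ({g} : Set G) : Set G)) +
        Nat.card G * Nat.card (center G) = Nat.card G * Nat.card (centralizer ({g} : Set G)) := by
      exact_mod_cast h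
    field_simp
    linarith
  have h2 : (Nat.card G : ℚ) = Nat.card (center G) + ∑ g ∈ R, (Nat.card (cls g) : ℚ) := by
    exact_mod_cast hsum
  rw [Finset.sum_congr rfl hterm, ← Finset.mul_sum] at h2
  field_simp
  linarith

end Cfsg.Agent.Lib.Helper13.Dk
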