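/-
helper13: finite groups embedded in `SL₂(F)`: basic structure (centralizers of noncentral elements
are abelian, semisimple classes have cyclic centralizers of index at most two in their normalizers).
Part of the Dickson subgroup theorem development.
-/
import Mathlib
import Cfsg.Agent.Lib.Helper13.SL2Torus
import Cfsg.Agent.Lib.Helper13.SL2Gen
import Cfsg.Agent.Lib.Helper13.SL2b
import Cfsg.Agent.Lib.Helper13.PSL2
import Cfsg.Agent.Lib.Helper13.DkClassEq

set_option autoImplicit false

namespace Cfsg.Agent.Lib.Helper13.Dk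

open Subgroup Matrix Cfsg.Agent.Lib.Helper13 Cfsg.Agent.Lib.Helper29.Dickson

/-- A group embedded in `SL₂(F)`. -/
structure Emb (F : Type*) [Field F] (G : Type*) [Group G] where
  φ : G →* SpecialLinearGroup (Fin 2) F
  inj : Function.Injective φ

namespace Emb

variable {F : Type*} [Field F] {G : Type*} [Group G] (S : Emb F G)

/-- The matrix of `g`. -/
def m (g : G) : Matrix (Fin 2) (Fin 2) F := (S.φ g : Matrix (Fin 2) (Fin 2) F)

theorem m_mul (g h : G) : S.m (g * h) = S.m g * S.m h := by
  simp [m, map_mul]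

theorem m_one : S.m 1 = 1 := by simp [m]

theorem m_mul_apply (g h : G) (i j : Fin 2) :
    S.m (g * h) i j = S.m g i 0 * S.m h 0 j + S.m g i 1 * S.m h 1 j := by
  rw [m_mul, Matrix.mul_apply, Fin.sum_univ_two]

theorem m_pow (g : G) (n : ℕ) : S.m (g ^ n) = S.m g ^ n := by
  induction n with
  | zero => simp [m_one]
  | succ n ih => rw [pow_succ, m_mul, ih, pow_succ]

theorem m_det (g : G) : (S.m g).det = 1 := (S.φ g).2

theorem m_det' (g : G) : S.m g 0 0 * S.m g 1 1 - S.m g 0 1 * S.m g 1 0 = 1 := by
  have := S.m_det g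
  rwa [Matrix.det_fin_two] at this

theorem m_inv (g : G) : S.m g⁻¹ = !![S.m g 1 1, -S.m g 0 1; -S.m g 1 0, S.m g 0 0] := by
  simp only [m, map_inv, Matrix.SpecialLinearGroup.coe_inv, Matrix.adjugate_fin_two]

theorem m_injective : Function.Injective S.m := by
  intro g h hgh
  exact S.inj (Subtype.ext hgh)

theorem commute_iff (g h : G) : Commute g h ↔ S.m g * S.m h = S.m h * S.m g := by
  rw [← m_mul, ← m_mul]
  exact ⟨fun hc => by rw [hc.eq], fun hc => S.m_injective hc⟩

/-- scalar matrices -/
def sc (M : Matrix (Fin 2) (Fin 2) F) : Prop := M 0 1 = 0 ∧ M 1 0 = 0 ∧ M 0 0 = M 1 1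

theorem m_eq_of_sc {g : G} (h : sc (S.m g)) : S.m g = 1 ∨ S.m g = -1 :=
  scalar_cases (S.φ g) h

/-- The trace of `g`. -/
def tr (g : G) : F := (S.m g).trace

theorem tr_eq (g : G) : S.tr g = S.m g 0 0 + S.m g 1 1 := by
  rw [tr, Matrix.trace_fin_two]

theorem caz' {g : G} (hg : ¬ sc (S.m g)) {x y : G} (hx : Commute x g) (hy : Commute y g) :
    Commute x y := by
  rw [S.commute_iff] at hx hy ⊢
  exact commute_of_commute_nonscalar (S.m g) (S.m x) (S.m y) hg hx hy

theorem mem_center_of_sc {g : G} (hg : sc (S.m g)) : g ∈ center G := by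
  rw [Subgroup.mem_center_iff]
  intro x
  apply (S.commute_iff x g).mpr
  rcases S.m_eq_of_sc hg with h | h
  · rw [h, mul_one, one_mul]
  · rw [h, mul_neg, neg_mul, mul_one, one_mul]

theorem mem_center_iff_sc (hna : ∃ x y : G, x * y ≠ y * x) (g : G) :
    g ∈ center G ↔ sc (S.m g) := by
  constructor
  · intro hg
    by_contra hsc
    obtain ⟨x, y, hxy⟩ := hna
    have hx : Commute x g := (Subgroup.mem_center_iff.mp hg x)
    have hy : Commute y g := (Subgroup.mem_center_iff.mp hg y)
    exact hxy (S.caz' hsc hx hy).eq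
  · exact S.mem_center_of_sc

include S in
theorem caz (hna : ∃ x y : G, x * y ≠ y * x) : CAZ G := by
  intro g hg x y hx hy
  rw [S.mem_center_iff_sc hna] at hg
  exact S.caz' hg hx hy

theorem sc_of_tr_sq {g : G} (hg : S.tr g ^ 2 ≠ 4) : ¬ sc (S.m g) :=
  nonscalar_of_trace_sq (S.φ g) hg

theorem mem_centralizer_iff (g x : G) :
    x ∈ centralizer ({g} : Set G) ↔
      S.φ x ∈ centralizer ({S.φ g} : Set (SpecialLinearGroup (Fin 2) F)) := by
  rw [mem_centralizer_singleton_iff, mem_centralizer_singleton_iff, ← map_mul, ← map_mul]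
  exact ⟨fun h => by rw [h], fun h => S.inj h⟩

theorem centralizer_eq_comap (g : G) :
    centralizer ({g} : Set G) =
      (centralizer ({S.φ g} : Set (SpecialLinearGroup (Fin 2) F))).comap S.φ := by
  ext x
  rw [S.mem_centralizer_iff, mem_comap]

theorem card_comap_dvd [Finite G] (K : Subgroup (SpecialLinearGroup (Fin 2) F)) [Finite K] :
    Nat.card (K.comap S.φ) ∣ Nat.card K := by
  apply Subgroup.card_dvd_of_injective (S.φ.subgroupComap K)
  intro x y hxy
  apply Subtype.ext
  apply S.inj
  exact congrArg Subtype.val hxy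

section finite

variable [Fintype F] [Finite G]

theorem card_centralizer_dvd (g : G) (hg : S.tr g ^ 2 ≠ 4) :
    Nat.card (centralizer ({g} : Set G)) ∣ Fintype.card F - 1 ∨
      Nat.card (centralizer ({g} : Set G)) ∣ Fintype.card F + 1 := by
  have h1 := S.card_comap_dvd (centralizer ({S.φ g} : Set (SpecialLinearGroup (Fin 2) F)))
  rw [← S.centralizer_eq_comap] at h1
  rcases card_centralizer_cases (S.φ g) hg with h | h
  · left; rwa [h] at h1
  · right; rwa [h] at h1

omit [Finite G] in
theorem isCyclic_centralizer (g : G) (hg : S.tr g ^ 2 ≠ 4) :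
    IsCyclic (centralizer ({g} : Set G)) := by
  have := Cfsg.Agent.Lib.Helper13.isCyclic_centralizer (S.φ g) hg
  rw [S.centralizer_eq_comap]
  apply isCyclic_of_injective
    (S.φ.subgroupComap (centralizer ({S.φ g} : Set (SpecialLinearGroup (Fin 2) F))))
  intro x y hxy
  apply Subtype.ext
  apply S.inj
  exact congrArg Subtype.val hxy

omit [Finite G] in
theorem mem_normalizer_centralizer_iff (g : G) (hg : S.tr g ^ 2 ≠ 4) (n : G) :
    n ∈ normalizer (centralizer ({g} : Set G) : Set G) ↔
      n * g * n⁻¹ = g ∨ n * g * n⁻¹ = g⁻¹ := by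
  constructor
  · intro hn
    have h1 : n * g * n⁻¹ ∈ centralizer ({g} : Set G) :=
      (mem_normalizer_iff.mp hn g).mp (self_mem_centralizer g)
    rw [S.mem_centralizer_iff] at h1
    have h2 : S.φ n * S.φ g * (S.φ n)⁻¹ ∈
        centralizer ({S.φ g} : Set (SpecialLinearGroup (Fin 2) F)) := by
      simpa [map_mul, map_inv] using h1
    rcases conj_eq_cases (S.φ g) hg (S.φ n) h2 with h | h
    · left
      apply S.inj
      simpa [map_mul, map_inv] using h
    · right
      apply S.inj
      simpa [map_mul, map_inv] using h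
  · intro h
    have hC : centralizer ({n * g * n⁻¹} : Set G) = centralizer ({g} : Set G) := by
      rcases h with h | h
      · rw [h]
      · rw [h, centralizer_singleton_inv]
    rw [mem_normalizer_iff]
    intro x
    nth_rewrite 2 [← hC]
    exact (conj_mem_centralizer_iff g n x).symm

omit [Fintype F] [Finite G] in
theorem ne_inv_of_tr_sq {g : G} (hg : S.tr g ^ 2 ≠ 4) : g ≠ g⁻¹ := by
  intro h
  -- `g * g = 1`
  have hgg : g * g = 1 := by
    nth_rewrite 2 [h]
    exact mul_inv_cancel g
  have h1 : S.m g * S.m g = 1 := by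
    rw [← m_mul, hgg, m_one]
  have hch := cayley_hamilton_two (S.m g) (S.m_det g)
  rw [← Matrix.trace_fin_two] at hch
  -- `tr g • g = 2`
  have h2 : (S.m g).trace • S.m g = (2 : F) • (1 : Matrix (Fin 2) (Fin 2) F) := by
    rw [h1] at hch
    rw [two_smul]
    rw [eq_sub_iff_add_eq] at hch
    exact hch.symm
  have hsc : ¬ sc (S.m g) := S.sc_of_tr_sq hg
  by_cases ht : (S.m g).trace = 0
  · rw [ht, zero_smul] at h2
    have h3 := congr_fun (congr_fun h2 0) 0
    simp at h3
    apply hg
    change (S.m g).trace ^ 2 = 4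
    rw [ht]
    have : (4 : F) = 2 * 2 := by norm_num
    rw [this, ← h3]
    ring
  · apply hsc
    have e01 := congr_fun (congr_fun h2 0) 1
    have e10 := congr_fun (congr_fun h2 1) 0
    have e00 := congr_fun (congr_fun h2 0) 0
    have e11 := congr_fun (congr_fun h2 1) 1
    simp at e01 e10 e00 e11
    refine ⟨e01.resolve_left ht, e10.resolve_left ht, ?_⟩
    have : (S.m g).trace * (S.m g 0 0 - S.m g 1 1) = 0 := by
      rw [mul_sub, e00, e11, sub_self]
    exact sub_eq_zero.mp ((mul_eq_zero.mp this).resolve_left ht)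

theorem card_normalizer_cases (g : G) (hg : S.tr g ^ 2 ≠ 4) :
    Nat.card (normalizer (centralizer ({g} : Set G) : Set G)) =
        Nat.card (centralizer ({g} : Set G)) ∨
      Nat.card (normalizer (centralizer ({g} : Set G) : Set G)) =
        2 * Nat.card (centralizer ({g} : Set G)) := by
  by_cases h : ∃ h₀ : G, h₀ * g * h₀⁻¹ = g⁻¹
  · obtain ⟨h₀, hh₀⟩ := h
    right
    exact card_eq_two_mul_card_centralizer _ g (S.ne_inv_of_tr_sq hg)
      (S.mem_normalizer_centralizer_iff g hg) h₀ hh₀
  · left
    push Not at h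
    have : normalizer (centralizer ({g} : Set G) : Set G) = centralizer ({g} : Set G) := by
      apply le_antisymm
      · intro n hn
        rcases (S.mem_normalizer_centralizer_iff g hg n).mp hn with h' | h'
        · rw [mem_centralizer_singleton_comm]
          rw [mul_inv_eq_iff_eq_mul] at h'
          exact h'
        · exact absurd h' (h n)
      · exact le_normalizer
    rw [this]

end finite

end Emb

end Cfsg.Agent.Lib.Helper13.Dk
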