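/-
helper13: Borel and unipotent subgroups of a group embedded in `SL₂(F)` (adapted from helper29's
`DicksonSL2`, without the two-generator hypothesis).
-/
import Mathlib
import Cfsg.Agent.Lib.Helper13.DkEmb

set_option autoImplicit false

namespace Cfsg.Agent.Lib.Helper13.Dk

open Subgroup Matrix Cfsg.Agent.Lib.Helper13 Cfsg.Agent.Lib.Helper29.Dickson

namespace Emb

variable {F : Type*} [Field F] {G : Type*} [Group G] (S : Emb F G)

/-- The Borel subgroup: upper triangular elements. -/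
def borel : Subgroup G where
  carrier := {g | S.m g 1 0 = 0}
  one_mem' := by simp [m_one]
  mul_mem' := by
    intro g h hg hh
    change S.m g 1 0 = 0 at hg
    change S.m h 1 0 = 0 at hh
    change S.m (g * h) 1 0 = 0
    rw [m_mul, Matrix.mul_apply, Fin.sum_univ_two, hg, hh]
    ring
  inv_mem' := by
    intro g hg
    change S.m g 1 0 = 0 at hg
    change S.m g⁻¹ 1 0 = 0
    rw [m_inv]
    simp [hg]

theorem mem_borel (g : G) : g ∈ S.borel ↔ S.m g 1 0 = 0 := Iff.rfl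

/-- The unipotent subgroup: upper unitriangular elements. -/
def unip : Subgroup G where
  carrier := {g | S.m g 1 0 = 0 ∧ S.m g 0 0 = 1}
  one_mem' := by simp [m_one]
  mul_mem' := by
    rintro g h ⟨hg, hg'⟩ ⟨hh, hh'⟩
    change S.m (g * h) 1 0 = 0 ∧ S.m (g * h) 0 0 = 1
    rw [m_mul, Matrix.mul_apply, Fin.sum_univ_two, hg, hh, Matrix.mul_apply, Fin.sum_univ_two, hg',
      hh', hh]
    simp
  inv_mem' := by
    rintro g ⟨hg, hg'⟩
    have hd := S.m_det' g
    rw [hg, hg'] at hd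
    have h11 : S.m g 1 1 = 1 := by linear_combination hd
    change S.m g⁻¹ 1 0 = 0 ∧ S.m g⁻¹ 0 0 = 1
    rw [m_inv]
    simp [hg, h11]

theorem mem_unip (g : G) : g ∈ S.unip ↔ S.m g 1 0 = 0 ∧ S.m g 0 0 = 1 := Iff.rfl

theorem m_of_mem_unip {g : G} (hg : g ∈ S.unip) : S.m g = !![1, S.m g 0 1; 0, 1] := by
  obtain ⟨h1, h2⟩ := hg
  have hd := S.m_det' g
  rw [h1, h2] at hd
  ext i j
  fin_cases i <;> fin_cases j <;> simp [h1, h2]
  linear_combination hd

theorem phi_of_mem_unip {g : G} (hg : g ∈ S.unip) : S.φ g = tSL (S.m g 0 1) := by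
  apply Subtype.ext
  exact S.m_of_mem_unip hg

theorem mem_unip_iff_phi (g : G) : g ∈ S.unip ↔ ∃ x : F, S.φ g = tSL x := by
  constructor
  · intro hg
    exact ⟨_, S.phi_of_mem_unip hg⟩
  · rintro ⟨x, hx⟩
    have : S.m g = !![1, x; 0, 1] := by
      change ((S.φ g : SpecialLinearGroup (Fin 2) F) : Matrix (Fin 2) (Fin 2) F) = _
      rw [hx]; rfl
    rw [mem_unip, this]
    simp

theorem m_diag_of_mem_borel {g : G} (hg : g ∈ S.borel) : S.m g 0 0 * S.m g 1 1 = 1 := by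
  have hd := S.m_det' g
  rw [(S.mem_borel g).mp hg, mul_zero, sub_zero] at hd
  exact hd

/-- The diagonal character of the Borel subgroup. -/
def delta : S.borel →* Fˣ where
  toFun g := ⟨S.m g.1 0 0, S.m g.1 1 1, S.m_diag_of_mem_borel g.2, by
    rw [mul_comm]; exact S.m_diag_of_mem_borel g.2⟩
  map_one' := by
    apply Units.ext
    simp [m_one]
  map_mul' := by
    intro g h
    apply Units.ext
    change S.m (g.1 * h.1) 0 0 = S.m g.1 0 0 * S.m h.1 0 0
    rw [m_mul, Matrix.mul_apply, Fin.sum_univ_two, (S.mem_borel h.1).mp h.2, mul_zero, add_zero]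

theorem delta_val (g : S.borel) : ((S.delta g : Fˣ) : F) = S.m g.1 0 0 := rfl

theorem mem_ker_delta (g : S.borel) : g ∈ S.delta.ker ↔ g.1 ∈ S.unip := by
  rw [MonoidHom.mem_ker, mem_unip, Units.ext_iff, delta_val]
  constructor
  · intro h
    exact ⟨g.2, h⟩
  · intro h
    exact h.2

theorem unip_le_borel : S.unip ≤ S.borel := fun _ hg => hg.1

theorem card_borel [Finite G] :
    Nat.card S.borel = Nat.card S.unip * Nat.card S.delta.range := by
  have h1 := Subgroup.card_mul_index S.delta.ker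
  rw [Subgroup.index_ker] at h1
  rw [← h1]
  congr 1
  apply Nat.card_congr
  refine ⟨fun g => ⟨g.1.1, (S.mem_ker_delta _).mp g.2⟩,
    fun g => ⟨⟨g.1, S.unip_le_borel g.2⟩, (S.mem_ker_delta _).mpr g.2⟩, fun g => rfl, fun g => rfl⟩

theorem eq_one_of_mem_unip_of_sc {g : G} (hu : g ∈ S.unip) (hz : sc (S.m g)) : g = 1 := by
  apply S.m_injective
  rw [m_one]
  obtain ⟨h01, h10, h00⟩ := hz
  rw [S.m_of_mem_unip hu, h01]
  ext i j
  fin_cases i <;> fin_cases j <;> simp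

theorem unip_inf_center (hna : ∃ x y : G, x * y ≠ y * x) : S.unip ⊓ center G = ⊥ := by
  rw [eq_bot_iff]
  rintro g ⟨hu, hz⟩
  rw [mem_bot]
  have hz' : g ∈ center G := hz
  rw [S.mem_center_iff_sc hna] at hz'
  exact S.eq_one_of_mem_unip_of_sc hu hz'

theorem m_pow_00 {g : G} (hg : g ∈ S.borel) (n : ℕ) : S.m (g ^ n) 0 0 = S.m g 0 0 ^ n := by
  have h1 : S.delta (⟨g, hg⟩ ^ n) = S.delta ⟨g, hg⟩ ^ n := map_pow _ _ _
  have h2 := congrArg (fun u : Fˣ => (u : F)) h1
  simpa [delta_val] using h2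

theorem m_mul_00 {g h : G} (hh : h ∈ S.borel) : S.m (g * h) 0 0 = S.m g 0 0 * S.m h 0 0 := by
  rw [m_mul, Matrix.mul_apply, Fin.sum_univ_two, (S.mem_borel h).mp hh, mul_zero, add_zero]

theorem conj_mem_unip {x u : G} (hx : x ∈ S.borel) (hu : u ∈ S.unip) : x * u * x⁻¹ ∈ S.unip := by
  have h1 : S.φ (x * u * x⁻¹) = tSL (S.m u 0 1 * S.m x 0 0 ^ 2) := by
    rw [map_mul, map_mul, map_inv, S.phi_of_mem_unip hu]
    exact upper_conj_tSL hx _
  exact (S.mem_unip_iff_phi _).mpr ⟨_, h1⟩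

theorem conj_unip_entry {x u : G} (hx : x ∈ S.borel) (hu : u ∈ S.unip) :
    S.m (x * u * x⁻¹) 0 1 = S.m u 0 1 * S.m x 0 0 ^ 2 := by
  have h1 : S.φ (x * u * x⁻¹) = tSL (S.m u 0 1 * S.m x 0 0 ^ 2) := by
    rw [map_mul, map_mul, map_inv, S.phi_of_mem_unip hu]
    exact upper_conj_tSL hx _
  change ((S.φ (x * u * x⁻¹) : SpecialLinearGroup (Fin 2) F) : Matrix (Fin 2) (Fin 2) F) 0 1 = _
  rw [h1]
  rfl

/-- lower-left entry of a conjugate of a unipotent element -/
theorem conj_unip_entry_10 (x : G) {u : G} (hu : u ∈ S.unip) :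
    S.m (x * u * x⁻¹) 1 0 = -S.m u 0 1 * S.m x 1 0 ^ 2 := by
  rw [m_mul, m_mul, m_inv, S.m_of_mem_unip hu]
  simp [Matrix.mul_apply, Fin.sum_univ_two]
  ring

section charp

variable {p : ℕ} [hpF : Fact p.Prime] [CharP F p]

omit hpF in
theorem pow_p_of_mem_unip {g : G} (hg : g ∈ S.unip) : g ^ p = 1 := by
  apply S.inj
  rw [map_pow, S.phi_of_mem_unip hg, tSL_pow, CharP.cast_eq_zero, zero_mul, tSL_zero, map_one]

omit hpF in
theorem isPGroup_unip : IsPGroup p S.unip := by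
  rintro ⟨g, hg⟩
  refine ⟨1, ?_⟩
  apply Subtype.ext
  rw [pow_one]
  exact S.pow_p_of_mem_unip hg

include hpF in
theorem mem_unip_of_pow {y : G} (hyB : y ∈ S.borel) (j : ℕ) (hy : y ^ p ^ j = 1) :
    y ∈ S.unip := by
  refine ⟨hyB, ?_⟩
  have h3 := S.m_pow_00 hyB (p ^ j)
  rw [hy, m_one] at h3
  simp at h3
  have h4 : (S.m y 0 0 - 1) ^ p ^ j = 0 := by
    rw [sub_pow_char_pow, one_pow, ← h3, sub_self]
  exact sub_eq_zero.mp (pow_eq_zero_iff (pow_ne_zero j hpF.out.ne_zero) |>.mp h4)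

include hpF S in
/-- `p`-subgroups are abelian. -/
theorem commute_of_isPGroup [Fintype F] (P : Subgroup G) (hP : IsPGroup p P) {x y : G}
    (hx : x ∈ P) (hy : y ∈ P) : Commute x y := by
  have h1 := (abSylow_SL2 (K := F) p).comm_of_isPGroup (P.map S.φ) (hP.map S.φ)
    (Subgroup.mem_map_of_mem S.φ hx) (Subgroup.mem_map_of_mem S.φ hy)
  rw [← map_mul, ← map_mul] at h1
  exact S.inj h1

end charp

end Emb

end Cfsg.Agent.Lib.Helper13.Dk
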