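/-
helper13: the unipotent class of a nonabelian group embedded in `SL₂(F)` containing an upper
transvection (adapted and extended from helper29's `DicksonSL2`).
-/
import Mathlib
import Cfsg.Agent.Lib.Helper13.DkBorel

set_option autoImplicit false

namespace Cfsg.Agent.Lib.Helper13.Dk

open Subgroup Matrix Cfsg.Agent.Lib.Helper13 Cfsg.Agent.Lib.Helper29.Dickson

/-- A nonabelian group embedded in `SL₂(F)` containing an upper transvection. -/
structure UEmb (F : Type*) [Field F] (G : Type*) [Group G] extends Emb F G where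
  a : G
  τ : F
  hτ : τ ≠ 0
  ha : φ a = tSL τ
  hna : ∃ x y : G, x * y ≠ y * x

namespace UEmb

variable {F : Type*} [Field F] {G : Type*} [Group G] (S : UEmb F G)

theorem m_a : S.m S.a = !![1, S.τ; 0, 1] := by
  simp only [Emb.m, S.ha]; rfl

include S in
theorem caz : CAZ G := S.toEmb.caz S.hna

theorem mem_center_iff_sc (g : G) : g ∈ center G ↔ Emb.sc (S.m g) :=
  S.toEmb.mem_center_iff_sc S.hna g

theorem a_not_mem_center : S.a ∉ center G := by
  rw [S.mem_center_iff_sc, m_a]
  rintro ⟨h, -, -⟩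
  simp at h
  exact S.hτ h

theorem a_mem_unip : S.a ∈ S.unip := by
  rw [Emb.mem_unip, m_a]
  simp

theorem m_a_01 : S.m S.a 0 1 = S.τ := by
  rw [m_a]; simp

theorem center_le_borel : center G ≤ S.borel := by
  intro z hz
  exact ((S.mem_center_iff_sc z).mp hz).2.1

theorem mem_centralizer_a (g : G) :
    g ∈ centralizer ({S.a} : Set G) ↔ S.m g 1 0 = 0 ∧ S.m g 0 0 = S.m g 1 1 := by
  have key := mem_centralizer_tSL_iff S.τ S.hτ (S.φ g)
  change _ ↔ ((S.φ g : SpecialLinearGroup (Fin 2) F) : Matrix (Fin 2) (Fin 2) F) 1 0 = 0 ∧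
    ((S.φ g : SpecialLinearGroup (Fin 2) F) : Matrix (Fin 2) (Fin 2) F) 0 0 =
      ((S.φ g : SpecialLinearGroup (Fin 2) F) : Matrix (Fin 2) (Fin 2) F) 1 1
  rw [← key, mem_centralizer_singleton_iff, mem_centralizer_singleton_iff, ← S.ha, ← map_mul,
    ← map_mul]
  exact ⟨fun h => by rw [h], fun h => S.inj h⟩

theorem unip_le_centralizer : S.unip ≤ centralizer ({S.a} : Set G) := by
  intro g hg
  rw [mem_centralizer_a]
  have := S.m_of_mem_unip hg
  refine ⟨hg.1, ?_⟩
  rw [this]
  simp

theorem centralizer_le_borel : centralizer ({S.a} : Set G) ≤ S.borel := by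
  intro g hg
  exact ((S.mem_centralizer_a g).mp hg).1

theorem normalizer_centralizer_a :
    normalizer (centralizer ({S.a} : Set G) : Set G) = S.borel := by
  ext x
  rw [← conj_mem_centralizer_iff_mem_normalizer S.caz S.a_not_mem_center S.a_not_mem_center
    (Commute.refl S.a) x, Emb.mem_borel]
  constructor
  · intro h
    have h1 : x * S.a * x⁻¹ ∈ centralizer ({S.a} : Set G) := mem_centralizer_singleton_iff.mpr h.eq
    have h2 := ((S.mem_centralizer_a _).mp h1).1
    rw [S.conj_unip_entry_10 x S.a_mem_unip, m_a_01] at h2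
    have h3 : S.m x 1 0 ^ 2 = 0 := by
      rcases mul_eq_zero.mp h2 with h | h
      · exact absurd (neg_eq_zero.mp h) S.hτ
      · exact h
    exact pow_eq_zero_iff (two_ne_zero) |>.mp h3
  · intro h
    have h2 : x * S.a * x⁻¹ ∈ centralizer ({S.a} : Set G) :=
      S.unip_le_centralizer (S.conj_mem_unip h S.a_mem_unip)
    exact mem_centralizer_singleton_iff.mp h2

theorem mem_centralizer_a_of_sq {g : G} (hg : g ∈ S.borel) (h : S.m g 0 0 ^ 2 = 1) :
    g ∈ centralizer ({S.a} : Set G) := by
  rw [mem_centralizer_a]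
  refine ⟨hg, ?_⟩
  have hd := S.m_diag_of_mem_borel hg
  have h0 : S.m g 0 0 ≠ 0 := by
    intro h0
    rw [h0, zero_mul] at hd
    exact zero_ne_one hd
  apply mul_left_cancel₀ h0
  rw [hd, ← pow_two, h]

section charp

variable {p : ℕ} [hpF : Fact p.Prime] [CharP F p]

include hpF in
theorem card_centralizer_a [Finite G] :
    Nat.card (centralizer ({S.a} : Set G)) = Nat.card (center G) * Nat.card S.unip := by
  rw [← Nat.card_prod]
  symm
  refine Nat.card_congr (Equiv.ofBijective
    (fun zu : center G × S.unip =>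
      (⟨zu.2.1 * zu.1.1, (centralizer ({S.a} : Set G)).mul_mem (S.unip_le_centralizer zu.2.2)
        (center_le_centralizer _ zu.1.2)⟩ : centralizer ({S.a} : Set G))) ⟨?_, ?_⟩)
  · rintro ⟨⟨z, hz⟩, ⟨u, hu⟩⟩ ⟨⟨z', hz'⟩, ⟨u', hu'⟩⟩ h
    have h1 : u * z = u' * z' := congrArg Subtype.val h
    have h3 : u'⁻¹ * u = z' * z⁻¹ := by
      have : u'⁻¹ * (u * z) * z⁻¹ = u'⁻¹ * (u' * z') * z⁻¹ := by rw [h1]
      calc u'⁻¹ * u = u'⁻¹ * (u * z) * z⁻¹ := by group
        _ = u'⁻¹ * (u' * z') * z⁻¹ := this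
        _ = z' * z⁻¹ := by group
    have h4 : u'⁻¹ * u ∈ S.unip ⊓ center G := by
      refine ⟨S.unip.mul_mem (S.unip.inv_mem hu') hu, ?_⟩
      rw [h3]
      exact (center G).mul_mem hz' ((center G).inv_mem hz)
    rw [S.unip_inf_center S.hna, mem_bot] at h4
    have h5 : u = u' := by
      have := congrArg (fun x => u' * x) h4
      simpa using this
    subst h5
    have h6 : z = z' := mul_left_cancel h1
    subst h6
    rfl
  · rintro ⟨g, hg⟩
    obtain ⟨h10, h00⟩ := (S.mem_centralizer_a g).mp hg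
    have hgB : g ∈ S.borel := h10
    have hd := S.m_diag_of_mem_borel hgB
    rw [← h00] at hd
    have hsq : (S.m g 0 0 - 1) * (S.m g 0 0 + 1) = 0 := by linear_combination hd
    have hcase1 : S.m g 0 0 = 1 → ∃ a_1 : center G × S.unip,
        (⟨a_1.2.1 * a_1.1.1, (centralizer ({S.a} : Set G)).mul_mem
          (S.unip_le_centralizer a_1.2.2) (center_le_centralizer _ a_1.1.2)⟩ :
          centralizer ({S.a} : Set G)) = ⟨g, hg⟩ := by
      intro h
      have hgu : g ∈ S.unip := ⟨h10, h⟩
      refine ⟨(⟨1, (center G).one_mem⟩, ⟨g, hgu⟩), ?_⟩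
      apply Subtype.ext
      simp
    rcases mul_eq_zero.mp hsq with h | h
    · exact hcase1 (sub_eq_zero.mp h)
    · have h00' : S.m g 0 0 = -1 := eq_neg_of_add_eq_zero_left h
      by_cases hp2 : p = 2
      · apply hcase1
        rw [h00']
        have : CharP F 2 := by rw [← hp2]; infer_instance
        exact CharTwo.neg_eq (1 : F)
      have h2F : (2 : F) ≠ 0 := by
        intro h
        have h1 : ((2 : ℕ) : F) = 0 := by exact_mod_cast h
        rw [CharP.cast_eq_zero_iff F p] at h1
        exact hp2 ((Nat.prime_dvd_prime_iff_eq hpF.out Nat.prime_two).mp h1)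
      set z := g ^ p with hz
      have hzB : z ∈ S.borel := S.borel.pow_mem hgB p
      have hz00 : S.m z 0 0 = -1 := by
        rw [hz, S.m_pow_00 hgB, h00']
        exact Odd.neg_one_pow (hpF.out.odd_of_ne_two hp2)
      have hg2 : g * g ∈ S.unip := by
        refine ⟨S.borel.mul_mem hgB hgB, ?_⟩
        rw [S.m_mul_00 hgB, h00']
        ring
      have hz2 : z * z = 1 := by
        rw [hz, ← pow_add, ← two_mul, pow_mul, pow_two]
        exact S.pow_p_of_mem_unip hg2
      have hz11 : S.m z 1 1 = -1 := by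
        have := S.m_diag_of_mem_borel hzB
        rw [hz00] at this
        linear_combination -this
      have hz01 : S.m z 0 1 = 0 := by
        have h1 : S.m (z * z) 0 1 = 0 := by rw [hz2, Emb.m_one]; simp
        rw [Emb.m_mul, Matrix.mul_apply, Fin.sum_univ_two, hz00, hz11] at h1
        have h2 : (2 : F) * S.m z 0 1 = 0 := by linear_combination -h1
        rcases mul_eq_zero.mp h2 with h | h
        · exact absurd h h2F
        · exact h
      have hzZ : z ∈ center G := by
        rw [S.mem_center_iff_sc]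
        exact ⟨hz01, hzB, by rw [hz00, hz11]⟩
      have hgz : g * z ∈ S.unip := by
        refine ⟨S.borel.mul_mem hgB hzB, ?_⟩
        rw [S.m_mul_00 hzB, h00', hz00]
        ring
      refine ⟨(⟨z⁻¹, (center G).inv_mem hzZ⟩, ⟨g * z, hgz⟩), ?_⟩
      apply Subtype.ext
      change g * z * z⁻¹ = g
      group

include hpF in
theorem exists_sylow_eq_unip [Fintype F] [Finite G] :
    ∃ P : Sylow p G, (P : Subgroup G) = S.unip := by
  obtain ⟨P, hP⟩ := (S.isPGroup_unip (p := p)).exists_le_sylow
  refine ⟨P, le_antisymm ?_ hP⟩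
  intro y hy
  have h1 : Commute y S.a := S.commute_of_isPGroup (p := p) P P.2 hy (hP S.a_mem_unip)
  have h2 : y ∈ centralizer ({S.a} : Set G) := mem_centralizer_singleton_iff.mpr h1.eq
  obtain ⟨h10, -⟩ := (S.mem_centralizer_a y).mp h2
  obtain ⟨j, hj⟩ := P.2 ⟨y, hy⟩
  have hj' : y ^ p ^ j = 1 := by
    have := congrArg (fun z : (P : Subgroup G) => (z : G)) hj
    simpa using this
  exact S.mem_unip_of_pow h10 j hj'

end charp

end UEmb

end Cfsg.Agent.Lib.Helper13.Dk
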