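/-
helper13: numerical data of the Borel subgroup of a nonabelian group embedded in `SL₂(F)`:
the index of `Z × Q` in `N(Q)`, the diagonal torus, the index congruence, uniqueness of the
unipotent class.
-/
import Mathlib
import Cfsg.Agent.Lib.Helper13.DkUnip

set_option autoImplicit false

namespace Cfsg.Agent.Lib.Helper13.Dk

open Subgroup Matrix Cfsg.Agent.Lib.Helper13 Cfsg.Agent.Lib.Helper29.Dickson

namespace UEmb

variable {F : Type*} [Field F] {G : Type*} [Group G] (S : UEmb F G)

/-- the diagonal character restricted to the center -/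
def deltaZ : center G →* S.delta.range :=
  S.delta.rangeRestrict.comp (Subgroup.inclusion S.center_le_borel)

theorem deltaZ_injective : Function.Injective S.deltaZ := by
  rw [injective_iff_map_eq_one]
  intro z hz
  have h1 : S.delta (Subgroup.inclusion S.center_le_borel z) = 1 := by
    have := congrArg (fun x : S.delta.range => (x : Fˣ)) hz
    simpa [deltaZ] using this
  have h2 : (Subgroup.inclusion S.center_le_borel z).1 ∈ S.unip :=
    (S.mem_ker_delta _).mp h1
  have h3 : z.1 ∈ S.unip ⊓ center G := ⟨h2, z.2⟩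
  rw [S.unip_inf_center S.hna, mem_bot] at h3
  exact Subtype.ext h3

/-- The index of `Z × Q` in the Borel subgroup. -/
noncomputable def kk : ℕ := Nat.card S.delta.range / Nat.card (center G)

section finite

variable [Finite G]

instance : Finite S.delta.range := by
  have : Finite (Set.range S.delta) := Set.finite_coe_iff.mpr (Set.finite_range S.delta)
  exact this

theorem card_delta_range : Nat.card S.delta.range = Nat.card (center G) * S.kk := by
  have h := Subgroup.card_dvd_of_injective S.deltaZ S.deltaZ_injective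
  rw [kk, Nat.mul_div_cancel' h]

theorem kk_pos : 0 < S.kk := by
  have h := S.card_delta_range
  have h1 : 0 < Nat.card S.delta.range := Nat.card_pos
  rw [h] at h1
  exact Nat.pos_of_mul_pos_left h1

theorem card_borel' :
    Nat.card S.borel = Nat.card (center G) * Nat.card S.unip * S.kk := by
  rw [S.card_borel, S.card_delta_range]
  ring

section charp

variable {p : ℕ} [hpF : Fact p.Prime] [CharP F p]

include hpF in
theorem card_borel_eq_centralizer_mul :
    Nat.card S.borel = Nat.card (centralizer ({S.a} : Set G)) * S.kk := by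
  rw [S.card_borel', S.card_centralizer_a (p := p)]

theorem a_ne_one : S.a ≠ 1 := fun h => S.a_not_mem_center (h ▸ (center G).one_mem)

include hpF in
theorem kk_lt : S.kk + 1 ≤ Nat.card S.unip := by
  classical
  have hk := S.card_borel_eq_centralizer_mul (p := p)
  set k := S.kk
  set T := {u : S.unip // u ≠ 1} with hT
  have hTcard : Nat.card T + 1 = Nat.card S.unip := by
    haveI : Fintype S.unip := Fintype.ofFinite _
    rw [Nat.card_eq_fintype_card, Nat.card_eq_fintype_card, Fintype.card_subtype_compl,
      Fintype.card_subtype_eq]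
    have : 1 ≤ Fintype.card S.unip := Fintype.card_pos
    omega
  have hconj : ∀ x : S.borel, (x.1 * S.a * x.1⁻¹) ∈ S.unip := fun x =>
    S.conj_mem_unip x.2 S.a_mem_unip
  have hconj1 : ∀ x : S.borel, (⟨x.1 * S.a * x.1⁻¹, hconj x⟩ : S.unip) ≠ 1 := by
    intro x h
    have h1 : x.1 * S.a * x.1⁻¹ = 1 := congrArg Subtype.val h
    have h2 : S.a = 1 := by
      have := congrArg (fun y => x.1⁻¹ * y * x.1) h1
      simpa [mul_assoc] using this
    exact S.a_ne_one h2
  let f : S.borel → T := fun x => ⟨⟨x.1 * S.a * x.1⁻¹, hconj x⟩, hconj1 x⟩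
  let rep : T → S.borel := fun t => if h : ∃ x : S.borel, f x = t then h.choose else 1
  have hrep : ∀ x : S.borel, f (rep (f x)) = f x := by
    intro x
    have h : ∃ x' : S.borel, f x' = f x := ⟨x, rfl⟩
    simp only [rep, dif_pos h]
    exact h.choose_spec
  have hmem : ∀ x : S.borel, (rep (f x)).1⁻¹ * x.1 ∈ centralizer ({S.a} : Set G) := by
    intro x
    have h1 := hrep x
    have h2 : (rep (f x)).1 * S.a * (rep (f x)).1⁻¹ = x.1 * S.a * x.1⁻¹ := by
      have := congrArg (fun t : T => ((t.1 : S.unip) : G)) h1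
      exact this
    rw [mem_centralizer_singleton_iff]
    calc (rep (f x)).1⁻¹ * x.1 * S.a
        = (rep (f x)).1⁻¹ * (x.1 * S.a * x.1⁻¹) * x.1 := by group
      _ = (rep (f x)).1⁻¹ * ((rep (f x)).1 * S.a * (rep (f x)).1⁻¹) * x.1 := by rw [h2]
      _ = S.a * ((rep (f x)).1⁻¹ * x.1) := by group
  let F' : S.borel → T × centralizer ({S.a} : Set G) :=
    fun x => (f x, ⟨(rep (f x)).1⁻¹ * x.1, hmem x⟩)
  have hinj : Function.Injective F' := by
    intro x x' h
    have h1 : f x = f x' := congrArg Prod.fst h
    have h2 : (rep (f x)).1⁻¹ * x.1 = (rep (f x')).1⁻¹ * x'.1 := by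
      have := congrArg (fun t : T × centralizer ({S.a} : Set G) => (t.2 : G)) h
      exact this
    rw [h1] at h2
    exact Subtype.ext (mul_left_cancel h2)
  have hle := Nat.card_le_card_of_injective F' hinj
  rw [Nat.card_prod, hk] at hle
  have hpos : 0 < Nat.card (centralizer ({S.a} : Set G)) := Nat.card_pos
  have : k ≤ Nat.card T := by
    have h3 : Nat.card (centralizer ({S.a} : Set G)) * k ≤
        Nat.card (centralizer ({S.a} : Set G)) * Nat.card T := by
      rw [mul_comm _ (Nat.card T)]; exact hle
    exact Nat.le_of_mul_le_mul_left h3 hpos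
  omega

include hpF in
/-- If `k ≥ 2` there is a semisimple element of the Borel subgroup with centralizer of order
`e k`. -/
theorem exists_torus (hk2 : 2 ≤ S.kk) :
    ∃ h : G, h ∈ S.borel ∧ S.tr h ^ 2 ≠ 4 ∧
      Nat.card (centralizer ({h} : Set G)) = Nat.card (center G) * S.kk := by
  have hk := S.card_borel'
  have hCa := S.card_centralizer_a (p := p)
  obtain ⟨⟨d₀, hd₀⟩, hgen⟩ := IsCyclic.exists_generator (α := S.delta.range)
  obtain ⟨⟨h, hhB⟩, hh⟩ := hd₀
  -- every diagonal entry is a power of `d₀`
  have hpow : ∀ g : S.borel, ∃ i : ℤ, S.delta g = d₀ ^ i := by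
    intro g
    have h1 := hgen ⟨S.delta g, ⟨g, rfl⟩⟩
    obtain ⟨i, hi⟩ := mem_zpowers_iff.mp h1
    refine ⟨i, ?_⟩
    have h2 := congrArg (fun x : S.delta.range => (x : Fˣ)) hi
    simpa using h2.symm
  have hq : 0 < Nat.card S.unip := Nat.card_pos
  have hrange := S.card_delta_range
  -- `d₀ ^ 2 ≠ 1`
  have hd2 : d₀ ^ 2 ≠ 1 := by
    intro hd
    have hle : S.borel ≤ centralizer ({S.a} : Set G) := by
      intro g hg
      apply S.mem_centralizer_a_of_sq hg
      obtain ⟨i, hi⟩ := hpow ⟨g, hg⟩
      have h1 : (S.delta ⟨g, hg⟩) ^ 2 = 1 := by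
        rw [hi, ← zpow_natCast, ← _root_.zpow_mul, mul_comm, _root_.zpow_mul, zpow_natCast, hd,
          _root_.one_zpow]
      have h2 := congrArg (fun u : Fˣ => (u : F)) h1
      simpa [Emb.delta_val] using h2
    have heq : S.borel = centralizer ({S.a} : Set G) := le_antisymm hle S.centralizer_le_borel
    rw [heq, hCa] at hk
    have hpos : 0 < Nat.card (center G) * Nat.card S.unip := Nat.mul_pos Nat.card_pos hq
    have : S.kk = 1 := by
      have h3 : Nat.card (center G) * Nat.card S.unip * 1 =
          Nat.card (center G) * Nat.card S.unip * S.kk := by rw [mul_one]; exact hk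
      exact (Nat.eq_of_mul_eq_mul_left hpos h3).symm
    omega
  have hd : S.m h 0 0 = (d₀ : F) := by
    rw [← hh]; rfl
  have hdd := S.m_diag_of_mem_borel hhB
  have hne : S.m h 0 0 ≠ S.m h 1 1 := by
    intro he
    apply hd2
    apply Units.ext
    rw [Units.val_pow_eq_pow_val, ← hd, pow_two]
    nth_rewrite 2 [he]
    rw [hdd]; rfl
  refine ⟨h, hhB, ?_, ?_⟩
  · rw [Emb.tr_eq]
    intro h4
    apply hne
    have : (S.m h 0 0 - S.m h 1 1) ^ 2 = 0 := by linear_combination h4 - 4 * hdd
    exact sub_eq_zero.mp (pow_eq_zero_iff (two_ne_zero) |>.mp this)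
  · -- the centralizer of `h`
    have hCB : centralizer ({h} : Set G) ≤ S.borel := by
      intro y hy
      have h1 := (S.commute_iff y h).mp (mem_centralizer_singleton_iff.mp hy)
      have e10 := congr_fun (congr_fun h1 1) 0
      rw [Matrix.mul_apply, Matrix.mul_apply, Fin.sum_univ_two, Fin.sum_univ_two,
        (S.mem_borel h).mp hhB] at e10
      have h2 : S.m y 1 0 * (S.m h 0 0 - S.m h 1 1) = 0 := by linear_combination e10
      rcases mul_eq_zero.mp h2 with h3 | h3
      · exact h3
      · exact absurd (sub_eq_zero.mp h3) hne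
    set ψ : centralizer ({h} : Set G) →* Fˣ := S.delta.comp (Subgroup.inclusion hCB) with hψ
    have hψinj : Function.Injective ψ := by
      rw [injective_iff_map_eq_one]
      intro y hy
      have hyu : y.1 ∈ S.unip := by
        have : (Subgroup.inclusion hCB y) ∈ S.delta.ker := hy
        exact (S.mem_ker_delta _).mp this
      have h1 := (S.commute_iff y.1 h).mp (mem_centralizer_singleton_iff.mp y.2)
      have e01 := congr_fun (congr_fun h1 0) 1
      rw [Matrix.mul_apply, Matrix.mul_apply, Fin.sum_univ_two, Fin.sum_univ_two,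
        S.m_of_mem_unip hyu] at e01
      simp at e01
      have h2 : S.m y.1 0 1 * (S.m h 1 1 - S.m h 0 0) = 0 := by linear_combination e01
      have h3 : S.m y.1 0 1 = 0 := by
        rcases mul_eq_zero.mp h2 with h3 | h3
        · exact h3
        · exact absurd (sub_eq_zero.mp h3).symm hne
      apply Subtype.ext
      apply S.m_injective
      rw [S.m_of_mem_unip hyu, h3, OneMemClass.coe_one, Emb.m_one]
      ext i j
      fin_cases i <;> fin_cases j <;> simp
    have hrangeψ : ψ.range = S.delta.range := by
      apply le_antisymm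
      · rintro _ ⟨y, rfl⟩
        exact ⟨Subgroup.inclusion hCB y, rfl⟩
      · rintro _ ⟨g, rfl⟩
        obtain ⟨i, hi⟩ := hpow g
        have hhi : h ^ i ∈ centralizer ({h} : Set G) :=
          (centralizer ({h} : Set G)).zpow_mem (mem_centralizer_singleton_iff.mpr rfl) i
        refine ⟨⟨h ^ i, hhi⟩, ?_⟩
        rw [hi, hψ, MonoidHom.comp_apply]
        have : Subgroup.inclusion hCB ⟨h ^ i, hhi⟩ = (⟨h, hhB⟩ : S.borel) ^ i := by
          apply Subtype.ext
          simp
        rw [this, map_zpow, hh]
    rw [← hrange, ← hrangeψ]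
    exact Nat.card_congr (MonoidHom.ofInjective hψinj).toEquiv

end charp

end finite

end UEmb

end Cfsg.Agent.Lib.Helper13.Dk
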