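/-
helper13: the index congruence `[G : N(Q)] ≡ 1 (mod |Q|)` and uniqueness of the unipotent class for
a nonabelian group embedded in `SL₂(F)`.
-/
import Mathlib
import Cfsg.Agent.Lib.Helper13.DkUnip2

set_option autoImplicit false

namespace Cfsg.Agent.Lib.Helper13.Dk

open Subgroup Matrix Cfsg.Agent.Lib.Helper13 Cfsg.Agent.Lib.Helper29.Dickson

/-- A free action of a finite group: the order of the group divides the size of the set. -/
theorem card_eq_of_free {K X : Type*} [Group K] [MulAction K X]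
    (h : ∀ x : X, MulAction.stabilizer K x = ⊥) :
    Nat.card X = Nat.card (Quotient (MulAction.orbitRel K X)) * Nat.card K := by
  rw [Nat.card_congr (MulAction.selfEquivOrbitsQuotientProd h), Nat.card_prod]

namespace UEmb

variable {F : Type*} [Field F] {G : Type*} [Group G] (S : UEmb F G)

/-- `Q × B` acts on the complement of `B` by `(u, b) • g = u g b⁻¹`. -/
instance actUB : MulAction (S.unip × S.borel) {g : G // g ∉ S.borel} where
  smul ub g := ⟨ub.1.1 * g.1 * ub.2.1⁻¹, fun h => g.2 (by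
    have h1 := S.borel.mul_mem (S.borel.mul_mem (S.borel.inv_mem (S.unip_le_borel ub.1.2)) h) ub.2.2
    have h2 : (ub.1.1)⁻¹ * (ub.1.1 * g.1 * ub.2.1⁻¹) * ub.2.1 = g.1 := by group
    rwa [h2] at h1)⟩
  one_smul g := by
    apply Subtype.ext
    change (1 : G) * g.1 * (1 : G)⁻¹ = g.1
    group
  mul_smul x y g := by
    apply Subtype.ext
    change (x.1.1 * y.1.1) * g.1 * (x.2.1 * y.2.1)⁻¹ = x.1.1 * (y.1.1 * g.1 * y.2.1⁻¹) * x.2.1⁻¹
    group

section charp

variable {p : ℕ} [hpF : Fact p.Prime] [CharP F p]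

omit hpF [CharP F p] in
theorem actUB_free (g : {g : G // g ∉ S.borel}) :
    MulAction.stabilizer (S.unip × S.borel) g = ⊥ := by
  rw [eq_bot_iff]
  rintro ⟨⟨u, hu⟩, ⟨b, hb⟩⟩ hub
  have h1 : u * g.1 * b⁻¹ = g.1 := congrArg Subtype.val (MulAction.mem_stabilizer_iff.mp hub)
  -- `g⁻¹ u g = b`
  have h2 : g.1⁻¹ * u * g.1⁻¹⁻¹ = b := by
    have : u * g.1 = g.1 * b := by
      calc u * g.1 = u * g.1 * b⁻¹ * b := by group
        _ = g.1 * b := by rw [h1]
    calc g.1⁻¹ * u * g.1⁻¹⁻¹ = g.1⁻¹ * (u * g.1) := by group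
      _ = g.1⁻¹ * (g.1 * b) := by rw [this]
      _ = b := by group
  have h3 : g.1⁻¹ * u * g.1⁻¹⁻¹ ∈ S.borel := by rw [h2]; exact hb
  have h4 := (S.mem_borel _).mp h3
  rw [S.conj_unip_entry_10 g.1⁻¹ hu] at h4
  have hg : S.m g.1⁻¹ 1 0 ≠ 0 := by
    intro h
    exact g.2 (by
      have := S.borel.inv_mem ((S.mem_borel _).mpr h)
      simpa using this)
  have h5 : S.m u 0 1 = 0 := by
    rcases mul_eq_zero.mp h4 with h | h
    · exact neg_eq_zero.mp h
    · exact absurd (pow_eq_zero_iff (two_ne_zero) |>.mp h) hg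
  have hu1 : u = 1 := by
    apply S.m_injective
    rw [S.m_of_mem_unip hu, h5, Emb.m_one]
    ext i j
    fin_cases i <;> fin_cases j <;> simp
  have hb1 : b = 1 := by
    rw [← h2, hu1]
    group
  rw [mem_bot]
  apply Prod.ext
  · exact Subtype.ext hu1
  · exact Subtype.ext hb1

omit hpF [CharP F p] in
theorem index_eq_orbits [Finite G] : S.borel.index = 1 + Nat.card S.unip *
    Nat.card (Quotient (MulAction.orbitRel (S.unip × S.borel) {g : G // g ∉ S.borel})) := by
  classical
  have h1 := card_eq_of_free (K := S.unip × S.borel) (X := {g : G // g ∉ S.borel})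
    (fun g => S.actUB_free g)
  rw [Nat.card_prod] at h1
  set m := Nat.card (Quotient (MulAction.orbitRel (S.unip × S.borel) {g : G // g ∉ S.borel}))
  have h2 : Nat.card {g : G // g ∉ S.borel} + Nat.card S.borel = Nat.card G := by
    let _ : Fintype G := Fintype.ofFinite G
    rw [Nat.card_eq_fintype_card, Nat.card_eq_fintype_card, Nat.card_eq_fintype_card,
      Fintype.card_subtype_compl]
    have : Fintype.card S.borel ≤ Fintype.card G := Fintype.card_subtype_le _
    omega
  have h3 := Subgroup.card_mul_index S.borel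
  have hB : 0 < Nat.card S.borel := Nat.card_pos
  have h4 : Nat.card S.borel * S.borel.index =
      Nat.card S.borel * (1 + Nat.card S.unip * m) := by
    rw [h3, ← h2, h1]
    ring
  exact Nat.eq_of_mul_eq_mul_left hB h4

omit hpF [CharP F p] in
theorem exists_index_eq [Finite G] : ∃ m : ℕ, S.borel.index = 1 + Nat.card S.unip * m :=
  ⟨_, S.index_eq_orbits⟩

omit hpF [CharP F p] in
/-- If the index of the Borel subgroup is `|Q| + 1` then `G = B ∪ Q w B`. -/
theorem exists_eq_of_index [Finite G] (hidx : S.borel.index = Nat.card S.unip + 1) (g g' : G)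
    (hg : g ∉ S.borel) (hg' : g' ∉ S.borel) :
    ∃ u ∈ S.unip, ∃ b ∈ S.borel, g' = u * g * b⁻¹ := by
  have h1 := S.index_eq_orbits
  rw [hidx] at h1
  have hr : 0 < Nat.card S.unip := Nat.card_pos
  have h2 : Nat.card (Quotient (MulAction.orbitRel (S.unip × S.borel) {g : G // g ∉ S.borel}))
      = 1 := by
    have : Nat.card S.unip * 1 = Nat.card S.unip * Nat.card (Quotient (MulAction.orbitRel
        (S.unip × S.borel) {g : G // g ∉ S.borel})) := by omega
    exact (Nat.eq_of_mul_eq_mul_left hr this).symm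
  obtain ⟨hsub, -⟩ := Nat.card_eq_one_iff_unique.mp h2
  have h3 : (Quotient.mk (MulAction.orbitRel (S.unip × S.borel) {g : G // g ∉ S.borel})
      ⟨g', hg'⟩) = Quotient.mk _ ⟨g, hg⟩ := Subsingleton.elim _ _
  have h4 := Quotient.exact h3
  obtain ⟨⟨⟨u, hu⟩, ⟨b, hb⟩⟩, hub⟩ := (MulAction.orbitRel_apply.mp h4)
  refine ⟨u, hu, b, hb, ?_⟩
  have := congrArg Subtype.val hub
  exact this.symm

include hpF in
/-- Every noncentral element with `tr² = 4` lies in the class of `a`. -/
theorem mem_cls_a [Fintype F] [Finite G] (y : G) (hy : ¬ Emb.sc (S.m y)) (htr : S.tr y ^ 2 = 4) :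
    y ∈ cls S.a := by
  have hp : p.Prime := hpF.out
  obtain ⟨ε, hε, htε⟩ := (trace_sq_eq_four_iff (S.tr y)).mp htr
  have hch := cayley_hamilton_two (S.m y) (S.m_det y)
  rw [← Matrix.trace_fin_two] at hch
  have htε' : (S.m y).trace = 2 * ε := htε
  -- `ε ^ p = ε`
  have hεp : ε ^ p = ε := by
    have h1 : (ε - 1) * (ε + 1) = 0 := by linear_combination hε
    rcases mul_eq_zero.mp h1 with h | h
    · rw [sub_eq_zero.mp h, one_pow]
    · have hε1 : ε = -1 := eq_neg_of_add_eq_zero_left h
      by_cases hp2 : p = 2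
      · rw [hp2, hε]
        have : CharP F 2 := by rw [← hp2]; infer_instance
        rw [hε1]
        exact (CharTwo.neg_eq (1 : F)).symm
      · rw [hε1]
        exact Odd.neg_one_pow (hp.odd_of_ne_two hp2)
  set N : Matrix (Fin 2) (Fin 2) F := ε • S.m y - 1 with hN
  have hN2 : N * N = 0 := by
    have : N * N = (ε * ε) • (S.m y * S.m y) - ε • S.m y - ε • S.m y + 1 := by
      simp only [hN, sub_mul, mul_sub, mul_one, one_mul, smul_mul_smul_comm]
      abel
    have hεε : ε * ε = 1 := by rw [← pow_two, hε]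
    rw [this, hch, htε', hεε]
    module
  have hc : CharP (Matrix (Fin 2) (Fin 2) F) p := Matrix.charP p
  have hNp : N ^ p = 0 := by
    rw [← Nat.sub_add_cancel hp.two_le, pow_add, pow_two, hN2, mul_zero]
  have hpow : (ε • S.m y) ^ p = 1 := by
    have hMN : ε • S.m y = N + 1 := by rw [hN]; abel
    rw [hMN, add_pow_char_of_commute (p := p) (Commute.one_right N), hNp, one_pow, zero_add]
  -- `u = y ^ (p + 1)`
  set u := y ^ (p + 1) with hu
  have hmpow : ∀ n : ℕ, S.m (y ^ n) = S.m y ^ n := fun n => S.m_pow y n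
  have hyp : S.m y ^ p = ε • 1 := by
    rw [smul_pow, hεp] at hpow
    have := congrArg (fun M => ε • M) hpow
    simp only [smul_smul] at this
    rw [← pow_two, hε, one_smul] at this
    exact this
  have hmu : S.m u = ε • S.m y := by
    rw [hu, hmpow, pow_succ, hyp, smul_mul_assoc, one_mul]
  have hup : u ^ p = 1 := by
    apply S.m_injective
    rw [S.m_pow, hmu, hpow, Emb.m_one]
  have hu1 : u ≠ 1 := by
    intro h
    apply hy
    have h1 : ε • S.m y = 1 := by rw [← hmu, h, Emb.m_one]
    have h2 : S.m y = ε • 1 := by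
      have := congrArg (fun M => ε • M) h1
      simp only [smul_smul] at this
      rw [← pow_two, hε, one_smul] at this
      exact this
    rw [h2]
    refine ⟨by simp, by simp, by simp⟩
  -- conjugate `u` into `unip`
  obtain ⟨Q, hQ⟩ := S.exists_sylow_eq_unip (p := p)
  have hzp : IsPGroup p (zpowers u) := by
    apply IsPGroup.of_card (n := 1)
    rw [Nat.card_zpowers, pow_one]
    exact orderOf_eq_prime hup hu1
  obtain ⟨P', hP'⟩ := hzp.exists_le_sylow
  obtain ⟨h, hh⟩ := MulAction.exists_smul_eq G P' Q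
  have hv : h * u * h⁻¹ ∈ S.unip := by
    rw [← hQ, ← hh, Sylow.coe_subgroup_smul]
    have : h * u * h⁻¹ = MulAut.conj h • u := by rw [MulAut.smul_def, MulAut.conj_apply]
    rw [this]
    exact Subgroup.smul_mem_pointwise_smul _ _ _ (hP' (mem_zpowers u))
  have hv1 : h * u * h⁻¹ ≠ 1 := by
    intro h1
    apply hu1
    have := congrArg (fun z => h⁻¹ * z * h) h1
    simpa [mul_assoc] using this
  have hvZ : ¬ Emb.sc (S.m (h * u * h⁻¹)) := fun hsc =>
    hv1 (S.eq_one_of_mem_unip_of_sc hv hsc)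
  have hva : Commute S.a (h * u * h⁻¹) := by
    have := mem_centralizer_singleton_iff.mp (S.unip_le_centralizer hv)
    exact this.symm
  have hyu : Commute (h * y * h⁻¹) (h * u * h⁻¹) := by
    apply (Commute.conj_iff h).mpr
    rw [hu]
    exact (Commute.refl y).pow_right _
  refine ⟨?_, h, ?_⟩
  · rw [S.mem_center_iff_sc]
    exact hy
  · exact S.caz' hvZ hyu hva

end charp

end UEmb

end Cfsg.Agent.Lib.Helper13.Dk
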