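/-
helper13: the class equation of a nonabelian group embedded in `SL₂(F)` and its numerical outcomes
(Dickson's theorem, counting part).
-/
import Mathlib
import Cfsg.Agent.Lib.Helper13.DkUnip3
import Cfsg.Agent.Lib.Helper13.DkArith

set_option autoImplicit false

namespace Cfsg.Agent.Lib.Helper13.Dk

open Subgroup Matrix Cfsg.Agent.Lib.Helper13 Cfsg.Agent.Lib.Helper29.Dickson

/-- representatives containing a prescribed noncentral element -/
theorem exists_reps_mem {G : Type*} [Group G] [Finite G] (a : G) (ha : a ∉ center G) :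
    ∃ R : Finset G, IsReps R ∧ a ∈ R := by
  classical
  let _ : Fintype G := Fintype.ofFinite G
  let P : Finset G → Prop := fun R => (∀ g ∈ R, g ∉ center G) ∧
    (∀ g ∈ R, ∀ g' ∈ R, g ≠ g' → g' ∉ cls g)
  have h0 : P {a} := by
    refine ⟨?_, ?_⟩
    · intro g hg
      rw [Finset.mem_singleton.mp hg]
      exact ha
    · intro g hg g' hg' hne
      rw [Finset.mem_singleton.mp hg, Finset.mem_singleton.mp hg'] at hne
      exact absurd rfl hne
  obtain ⟨R, haR, hR⟩ := Finite.exists_le_maximal (p := P) h0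
  refine ⟨R, ⟨hR.prop.1, hR.prop.2, ?_⟩, haR (Finset.mem_singleton_self a)⟩
  intro y hy
  by_contra hcon
  push Not at hcon
  have hyR : y ∉ R := fun h => hcon y h (mem_cls_self hy)
  have hP : P (insert y R) := by
    refine ⟨?_, ?_⟩
    · intro g hg
      rcases Finset.mem_insert.mp hg with rfl | hg
      · exact hy
      · exact hR.prop.1 g hg
    · intro g hg g' hg' hne
      rcases Finset.mem_insert.mp hg with hgy | hg
      · rcases Finset.mem_insert.mp hg' with hgy' | hg'
        · exact absurd (hgy.trans hgy'.symm) hne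
        · intro h
          rw [hgy] at h
          exact hcon g' hg' (cls_symm hy h)
      · rcases Finset.mem_insert.mp hg' with hgy' | hg'
        · rw [hgy']
          exact hcon g hg
        · exact hR.prop.2 g hg g' hg' hne
  have := hR.le_of_ge hP (Finset.subset_insert y R)
  exact hyR (this (Finset.mem_insert_self y R))

namespace Emb

variable {F : Type*} [Field F] [Fintype F] {G : Type*} [Group G] [Finite G] (S : Emb F G)

/-- `|C(g)| / |Z|` -/
noncomputable def cF (g : G) : ℕ := Nat.card (centralizer ({g} : Set G)) / Nat.card (center G)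

/-- `|N(C(g))| / |C(g)|` -/
noncomputable def tF (g : G) : ℕ :=
  Nat.card (normalizer (centralizer ({g} : Set G) : Set G)) / Nat.card (centralizer ({g} : Set G))

/-- `|G| / |Z|` -/
noncomputable def gF (G : Type*) [Group G] : ℕ := Nat.card G / Nat.card (center G)

omit [Finite G] in
theorem card_centralizer_eq (g : G) :
    Nat.card (centralizer ({g} : Set G)) = Nat.card (center G) * cF g := by
  rw [cF, Nat.mul_div_cancel' (Subgroup.card_dvd_of_le (center_le_centralizer _))]

omit [Finite G] in
theorem card_eq_gF : Nat.card G = Nat.card (center G) * gF G := by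
  rw [gF, Nat.mul_div_cancel' (Subgroup.card_subgroup_dvd_card _)]

theorem two_le_cF {g : G} (hg : g ∉ center G) : 2 ≤ cF g := by
  have h1 := card_centralizer_eq g
  have hpos : 0 < Nat.card (center G) := Nat.card_pos
  have hne : Nat.card (centralizer ({g} : Set G)) ≠ Nat.card (center G) := by
    intro h
    have := Subgroup.eq_of_le_of_card_ge (center_le_centralizer ({g} : Set G)) h.le
    apply hg
    rw [this]
    exact self_mem_centralizer g
  have hcpos : 0 < Nat.card (centralizer ({g} : Set G)) := Nat.card_pos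
  by_contra hcon
  have : cF g = 0 ∨ cF g = 1 := by omega
  rcases this with h | h
  · rw [h, mul_zero] at h1; omega
  · rw [h, mul_one] at h1; exact hne h1

theorem card_normalizer_eq (g : G) (hg : S.tr g ^ 2 ≠ 4) :
    Nat.card (normalizer (centralizer ({g} : Set G) : Set G)) =
      Nat.card (centralizer ({g} : Set G)) * tF g ∧ (tF g = 1 ∨ tF g = 2) := by
  have hcpos : 0 < Nat.card (centralizer ({g} : Set G)) := Nat.card_pos
  rcases S.card_normalizer_cases g hg with h | h
  · have : tF g = 1 := by rw [tF, h, Nat.div_self hcpos]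
    rw [this, mul_one]
    exact ⟨h, Or.inl rfl⟩
  · have : tF g = 2 := by rw [tF, h, Nat.mul_div_cancel _ hcpos]
    rw [this, mul_comm]
    exact ⟨h, Or.inr rfl⟩

theorem term_eq (g : G) (hgZ : g ∉ center G) (hg : S.tr g ^ 2 ≠ 4) :
    ((Nat.card (centralizer ({g} : Set G)) : ℚ) - Nat.card (center G)) /
        Nat.card (normalizer (centralizer ({g} : Set G) : Set G)) = wt (cF g) (tF g) := by
  obtain ⟨h1, h2⟩ := S.card_normalizer_eq g hg
  rw [h1, card_centralizer_eq g, wt]
  have he : (Nat.card (center G) : ℚ) ≠ 0 := by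
    have : 0 < Nat.card (center G) := Nat.card_pos
    positivity
  have hc : (cF g : ℚ) ≠ 0 := by
    have := two_le_cF hgZ
    positivity
  have ht : (tF g : ℚ) ≠ 0 := by
    rcases h2 with h | h <;> rw [h] <;> norm_num
  push_cast
  field_simp

theorem two_le_gF (hna : ∃ x y : G, x * y ≠ y * x) : 2 ≤ gF G := by
  have h1 := card_eq_gF (G := G)
  have hpos : 0 < Nat.card (center G) := Nat.card_pos
  have hGpos : 0 < Nat.card G := Nat.card_pos
  by_contra hcon
  have : gF G = 0 ∨ gF G = 1 := by omega
  rcases this with h | h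
  · rw [h, mul_zero] at h1; omega
  · rw [h, mul_one] at h1
    have htop : center G = ⊤ := Subgroup.eq_top_of_card_eq _ h1.symm
    obtain ⟨x, y, hxy⟩ := hna
    apply hxy
    have hx : x ∈ center G := by rw [htop]; exact mem_top x
    exact (Subgroup.mem_center_iff.mp hx y).symm

theorem cF_mul_tF_dvd (g : G) (hg : S.tr g ^ 2 ≠ 4) : cF g * tF g ∣ gF G := by
  obtain ⟨h1, -⟩ := S.card_normalizer_eq g hg
  have h2 := Subgroup.card_subgroup_dvd_card (normalizer (centralizer ({g} : Set G) : Set G))
  rw [h1, card_centralizer_eq g, card_eq_gF (G := G), mul_assoc] at h2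
  exact Nat.dvd_of_mul_dvd_mul_left Nat.card_pos h2

omit [Fintype F] [Finite G] in
theorem cF_lt_gF [Finite G] {g : G} (hg : g ∉ center G) : cF g < gF G := by
  have h1 := card_centralizer_eq g
  have h2 := card_eq_gF (G := G)
  have hpos : 0 < Nat.card (center G) := Nat.card_pos
  have hlt : Nat.card (centralizer ({g} : Set G)) < Nat.card G := by
    apply lt_of_le_of_ne (Subgroup.card_le_card_group _)
    intro h
    have htop : centralizer ({g} : Set G) = ⊤ := Subgroup.eq_top_of_card_eq _ h
    apply hg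
    rw [Subgroup.mem_center_iff]
    intro x
    have hx : x ∈ centralizer ({g} : Set G) := by rw [htop]; exact mem_top x
    exact mem_centralizer_singleton_iff.mp hx
  rw [h1, h2] at hlt
  exact Nat.lt_of_mul_lt_mul_left hlt

end Emb

/-- `|G/Z| = n` and all centralizers of noncentral elements have order at most `b |Z|`. -/
def Small (G : Type*) [Group G] (n b : ℕ) : Prop :=
  Nat.card G = Nat.card (center G) * n ∧
    ∀ y : G, y ∉ center G → Nat.card (centralizer ({y} : Set G)) ≤ Nat.card (center G) * b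

/-- There is a self-centralizing-type class with `|C| = 5|Z|`, `|N(C)| = 10|Z|`. -/
def HasFive (G : Type*) [Group G] : Prop :=
  ∃ g : G, g ∉ center G ∧ Nat.card (centralizer ({g} : Set G)) = Nat.card (center G) * 5 ∧
    Nat.card (normalizer (centralizer ({g} : Set G) : Set G)) = Nat.card (center G) * 10

namespace Emb

variable {F : Type*} [Field F] [Fintype F] {G : Type*} [Group G] [Finite G] (S : Emb F G)

/-- A semisimple element whose centralizer has index two. -/
def DihType : Prop :=
  ∃ g : G, S.tr g ^ 2 ≠ 4 ∧ Nat.card (centralizer ({g} : Set G)) * 2 = Nat.card G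

omit [Fintype F] in
theorem inv_gF_eq : ((Nat.card (center G) : ℚ)) / Nat.card G = ((gF G : ℕ) : ℚ)⁻¹ := by
  have he : (Nat.card (center G) : ℚ) ≠ 0 := by
    have : 0 < Nat.card (center G) := Nat.card_pos
    positivity
  have h1 : (Nat.card G : ℚ) = Nat.card (center G) * gF G := by
    exact_mod_cast card_eq_gF (G := G)
  have hg : (gF G : ℚ) ≠ 0 := by
    intro h
    rw [h, mul_zero] at h1
    have : 0 < Nat.card G := Nat.card_pos
    have : (0 : ℚ) < Nat.card G := by positivity
    linarith
  rw [h1]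
  field_simp

omit [Fintype F] [Finite G] in
theorem small_of_reps (hCA : CAZ G) {R : Finset G} (hR : IsReps R) (n b : ℕ) (hn : gF G = n)
    (hb : ∀ g ∈ R, cF g ≤ b) : Small G n b := by
  refine ⟨by rw [← hn]; exact card_eq_gF, ?_⟩
  intro y hy
  obtain ⟨g, hg, hyg⟩ := hR.cover y hy
  rw [card_centralizer_of_mem_cls hCA (hR.notMem g hg) hyg, card_centralizer_eq g]
  exact Nat.mul_le_mul_left _ (hb g hg)

theorem caseI (hna : ∃ x y : G, x * y ≠ y * x)
    (hss : ∀ y : G, ¬ sc (S.m y) → S.tr y ^ 2 ≠ 4) :
    S.DihType ∨ Small G 12 3 ∨ Small G 24 4 ∨ (Small G 60 5 ∧ HasFive G) := by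
  classical
  have hCA := S.caz hna
  obtain ⟨R, hR⟩ := exists_reps (G := G)
  have heq := class_eq hCA hR
  have htr : ∀ g ∈ R, S.tr g ^ 2 ≠ 4 := fun g hg =>
    hss g (fun h => hR.notMem g hg (S.mem_center_of_sc h))
  rw [Finset.sum_congr rfl (fun g hg => S.term_eq g (hR.notMem g hg) (htr g hg)), inv_gF_eq] at heq
  have key := arithA R cF tF (gF G) (two_le_gF hna)
    (fun g hg => two_le_cF (hR.notMem g hg))
    (fun g hg => (S.card_normalizer_eq g (htr g hg)).2)
    (fun g hg => S.cF_mul_tF_dvd g (htr g hg))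
    (fun g hg => cF_lt_gF (hR.notMem g hg)) heq
  rcases key with ⟨g, hg, h1, h2⟩ | ⟨h1, h2⟩ | ⟨h1, h2⟩ | ⟨h1, h2, g, hg, h3, h4⟩
  · left
    refine ⟨g, htr g hg, ?_⟩
    rw [card_centralizer_eq g, card_eq_gF (G := G), ← h1, h2]
    ring
  · right; left
    exact small_of_reps hCA hR 12 3 h1 h2
  · right; right; left
    exact small_of_reps hCA hR 24 4 h1 h2
  · right; right; right
    refine ⟨small_of_reps hCA hR 60 5 h1 h2, g, hR.notMem g hg, ?_, ?_⟩
    · rw [card_centralizer_eq g, h3]
    · rw [(S.card_normalizer_eq g (htr g hg)).1, card_centralizer_eq g, h3, h4]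
      ring

end Emb

namespace UEmb

variable {F : Type*} [Field F] [Fintype F] {G : Type*} [Group G] [Finite G] (S : UEmb F G)
  {p : ℕ} [hpF : Fact p.Prime] [CharP F p]

omit [Fintype F] in
include hpF in
theorem two_le_card_unip : 2 ≤ Nat.card S.unip := by
  have h := S.kk_lt (p := p)
  have := S.kk_pos
  omega

include hpF in
theorem caseII (hnn : S.borel ≠ ⊤) :
    S.DihType ∨ (Small G 60 5 ∧ HasFive G) ∨
      (S.borel.index = Nat.card S.unip + 1 ∧
        (2 * S.kk + 1 = Nat.card S.unip ∨ S.kk + 1 = Nat.card S.unip)) := by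
  classical
  have hCA := S.caz
  obtain ⟨R, hR, haR⟩ := exists_reps_mem S.a S.a_not_mem_center
  have heq := class_eq hCA hR
  rw [← Finset.add_sum_erase R _ haR, Emb.inv_gF_eq] at heq
  -- the other classes are semisimple
  have htr : ∀ g ∈ R.erase S.a, S.tr g ^ 2 ≠ 4 := by
    intro g hg h4
    have hgR := Finset.mem_of_mem_erase hg
    have hne : S.a ≠ g := (Finset.ne_of_mem_erase hg).symm
    have hsc : ¬ Emb.sc (S.m g) := fun h => hR.notMem g hgR (S.mem_center_of_sc h)
    exact hR.indep S.a haR g hgR hne (S.mem_cls_a (p := p) g hsc h4)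
  have hnot : ∀ g ∈ R.erase S.a, g ∉ center G := fun g hg =>
    hR.notMem g (Finset.mem_of_mem_erase hg)
  rw [Finset.sum_congr rfl (fun g hg => S.term_eq g (hnot g hg) (htr g hg))] at heq
  -- data
  set e := Nat.card (center G) with he
  set r := Nat.card S.unip with hr
  set k := S.kk with hk
  have hepos : 0 < e := Nat.card_pos
  have hr2 : 2 ≤ r := S.two_le_card_unip (p := p)
  have hk1 : 1 ≤ k := S.kk_pos
  have hkr : k + 1 ≤ r := S.kk_lt (p := p)
  obtain ⟨m, hm⟩ := S.exists_index_eq
  have hm1 : 1 ≤ m := by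
    by_contra hcon
    have hm0 : m = 0 := by omega
    rw [hm0, mul_zero, add_zero] at hm
    exact hnn (Subgroup.index_eq_one.mp hm)
  have hCa : Nat.card (centralizer ({S.a} : Set G)) = e * r := S.card_centralizer_a (p := p)
  have hNa : Nat.card (normalizer (centralizer ({S.a} : Set G) : Set G)) = e * r * k := by
    rw [S.normalizer_centralizer_a, S.card_borel']
  have hG : Nat.card G = e * (r * k * (1 + r * m)) := by
    rw [← Subgroup.card_mul_index S.borel, S.card_borel', hm]
    ring
  have hgF : Emb.gF G = r * k * (1 + r * m) := by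
    have h1 := Emb.card_eq_gF (G := G)
    rw [hG] at h1
    exact (Nat.eq_of_mul_eq_mul_left hepos h1).symm
  have hterm : ((Nat.card (centralizer ({S.a} : Set G)) : ℚ) - Nat.card (center G)) /
      Nat.card (normalizer (centralizer ({S.a} : Set G) : Set G)) =
      (1 - (r : ℚ)⁻¹) * (k : ℚ)⁻¹ := by
    rw [hCa, hNa, ← he]
    have he0 : (e : ℚ) ≠ 0 := by positivity
    have hr0 : (r : ℚ) ≠ 0 := by positivity
    have hk0 : (k : ℚ) ≠ 0 := by positivity
    push_cast
    field_simp
  rw [hterm, ← add_assoc] at heq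
  -- the diagonal torus
  have hK : 2 ≤ k → ∃ g ∈ R.erase S.a, Emb.cF g = k := by
    intro hk2
    obtain ⟨b, -, hbtr, hbC⟩ := S.exists_torus (p := p) hk2
    have hbZ : b ∉ center G := fun h => S.sc_of_tr_sq hbtr ((S.mem_center_iff_sc b).mp h)
    obtain ⟨g, hg, hbg⟩ := hR.cover b hbZ
    have hCg := card_centralizer_of_mem_cls hCA (hR.notMem g hg) hbg
    have hga : g ≠ S.a := by
      intro h
      rw [h, hCa, hbC] at hCg
      have : k = r := Nat.eq_of_mul_eq_mul_left hepos hCg
      omega
    refine ⟨g, Finset.mem_erase.mpr ⟨hga, hg⟩, ?_⟩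
    have h1 := Emb.card_centralizer_eq g
    rw [← hCg, hbC] at h1
    exact (Nat.eq_of_mul_eq_mul_left hepos h1).symm
  have key := arithB (R.erase S.a) Emb.cF Emb.tF (Emb.gF G) r k m hr2 hk1 hkr hm1 hgF
    (fun g hg => Emb.two_le_cF (hnot g hg))
    (fun g hg => (S.card_normalizer_eq g (htr g hg)).2) hK heq
  rcases key with ⟨g, hg, h1, h2⟩ | ⟨h1, h2, h3, g, hg, h4, h5⟩ | ⟨h1, h2⟩
  · left
    refine ⟨g, htr g hg, ?_⟩
    rw [Emb.card_centralizer_eq g, Emb.card_eq_gF (G := G), ← h1, h2]
    ring
  · right; left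
    refine ⟨Emb.small_of_reps hCA hR 60 5 h1 ?_, g, hnot g hg, ?_, ?_⟩
    · intro x hx
      by_cases hxa : x = S.a
      · have h6 := Emb.card_centralizer_eq S.a
        rw [hCa, h2] at h6
        have : Emb.cF S.a = 3 := (Nat.eq_of_mul_eq_mul_left hepos h6).symm
        rw [hxa, this]
        norm_num
      · exact h3 x (Finset.mem_erase.mpr ⟨hxa, hx⟩)
    · rw [Emb.card_centralizer_eq g, h4]
    · rw [(S.card_normalizer_eq g (htr g hg)).1, Emb.card_centralizer_eq g, h4, h5]
      ring
  · right; right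
    refine ⟨?_, h2⟩
    rw [hm, h1, mul_one, add_comm]

end UEmb

end Cfsg.Agent.Lib.Helper13.Dk
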