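/-
helper13: central quotients `π : G → X` and the identification of the small cases
(`A₄`, `S₄`, `A₅`) in Dickson's theorem.
-/
import Mathlib
import Cfsg.Agent.Lib.Helper13.DkCases
import Cfsg.Agent.S0228
import Cfsg.Agent.S1012
import Cfsg.Agent.Lib.Helper19.Order60

set_option autoImplicit false

namespace Cfsg.Agent.Lib.Helper13.Dk

open Subgroup

section quot

variable {G X : Type*} [Group G] [Group X] (π : G →* X)

theorem card_eq_ker_mul [Finite G] (hπ : Function.Surjective π) :
    Nat.card G = Nat.card π.ker * Nat.card X := by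
  rw [← Subgroup.card_mul_index π.ker, Subgroup.index_ker, MonoidHom.range_eq_top.mpr hπ,
    Subgroup.card_top]

theorem comap_map_of_ker_le (C : Subgroup G) (hC : π.ker ≤ C) : (C.map π).comap π = C := by
  rw [Subgroup.comap_map_eq, sup_eq_left.mpr hC]

theorem card_eq_ker_mul_map [Finite G] (hπ : Function.Surjective π) (C : Subgroup G)
    (hC : π.ker ≤ C) : Nat.card C = Nat.card π.ker * Nat.card (C.map π) := by
  have hX : Finite X := Finite.of_surjective π hπ
  have h2 : (C.map π).index = C.index := by
    rw [← Subgroup.index_comap_of_surjective (C.map π) hπ, comap_map_of_ker_le π C hC]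
  have h3 := Subgroup.card_mul_index C
  have h4 := Subgroup.card_mul_index (C.map π)
  have h5 := card_eq_ker_mul π hπ
  have hidx : 0 < C.index := Nat.pos_of_ne_zero Subgroup.index_ne_zero_of_finite
  have : Nat.card C * C.index = (Nat.card π.ker * Nat.card (C.map π)) * C.index := by
    rw [h3, h5, ← h4, h2]; ring
  exact Nat.eq_of_mul_eq_mul_right hidx this

theorem ker_mul_orderOf_le [Finite G] (hπ : Function.Surjective π) (hZ : π.ker ≤ center G)
    (x : G) : Nat.card π.ker * orderOf (π x) ≤ Nat.card (centralizer ({x} : Set G)) := by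
  have hX : Finite X := Finite.of_surjective π hπ
  have hC : π.ker ≤ centralizer ({x} : Set G) := hZ.trans (Subgroup.center_le_centralizer _)
  rw [card_eq_ker_mul_map π hπ _ hC]
  apply Nat.mul_le_mul_left
  rw [← Nat.card_zpowers]
  apply Subgroup.card_le_of_le
  rw [Subgroup.zpowers_le]
  exact Subgroup.mem_map_of_mem _ (mem_centralizer_singleton_iff.mpr rfl)

/-- `X ≃* G ⧸ Z(G)` when `ker π = Z(G)`. -/
noncomputable def equivQuot (hπ : Function.Surjective π) (hZ : π.ker = center G) :
    X ≃* G ⧸ center G :=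
  (QuotientGroup.quotientKerEquivOfSurjective π hπ).symm.trans
    (QuotientGroup.quotientMulEquivOfEq hZ)

theorem card_of_small [Finite G] (hπ : Function.Surjective π) (hZ : π.ker = center G) {n b : ℕ}
    (h : Small G n b) : Nat.card X = n := by
  have h1 := card_eq_ker_mul π hπ
  rw [h.1, hZ] at h1
  have hpos : 0 < Nat.card (center G) := Nat.card_pos
  exact (Nat.eq_of_mul_eq_mul_left hpos h1).symm

theorem orderOf_le_of_small [Finite G] (hπ : Function.Surjective π) (hZ : π.ker = center G)
    {n b : ℕ} (h : Small G n b) (x : X) (hx : x ≠ 1) : orderOf x ≤ b := by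
  obtain ⟨g, rfl⟩ := hπ x
  have hg : g ∉ center G := by
    intro hg
    rw [← hZ] at hg
    exact hx hg
  have h1 := ker_mul_orderOf_le π hπ hZ.le g
  have h2 := h.2 g hg
  rw [hZ] at h1
  have hpos : 0 < Nat.card (center G) := Nat.card_pos
  exact Nat.le_of_mul_le_mul_left (h1.trans h2) hpos

end quot

/-- A group of order `12` without elements of order `6` is `A₄`. -/
theorem alt4_of_card_twelve {X : Type*} [Group X] [Finite X] (h12 : Nat.card X = 12)
    (h6 : ∀ x : X, orderOf x ≠ 6) : Nonempty (X ≃* alternatingGroup (Fin 4)) := by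
  apply Cfsg.Agent.S0228.result h12
  intro z hz hzc
  have : Fact (Nat.Prime 3) := ⟨Nat.prime_three⟩
  obtain ⟨t, ht⟩ := exists_prime_orderOf_dvd_card' (G := X) 3 (by rw [h12]; norm_num)
  apply h6 (z * t)
  have hcomm : Commute z t := (Subgroup.mem_center_iff.mp hzc t).symm
  rw [hcomm.orderOf_mul_eq_mul_orderOf_of_coprime (by rw [hz, ht]; norm_num), hz, ht]

section small

variable {G X : Type*} [Group G] [Group X] [Finite G] (π : G →* X)

theorem alt4_of_small (hπ : Function.Surjective π) (hZ : π.ker = center G) (h : Small G 12 3) :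
    Nonempty (X ≃* alternatingGroup (Fin 4)) := by
  have hX : Finite X := Finite.of_surjective π hπ
  apply alt4_of_card_twelve (card_of_small π hπ hZ h)
  intro x h6
  have hx : x ≠ 1 := by
    intro h1
    rw [h1, orderOf_one] at h6
    omega
  have := orderOf_le_of_small π hπ hZ h x hx
  omega

theorem sym4_of_small (hπ : Function.Surjective π) (hZ : π.ker = center G) (h : Small G 24 4) :
    Nonempty (X ≃* Equiv.Perm (Fin 4)) := by
  have hX : Finite X := Finite.of_surjective π hπ
  apply Cfsg.Agent.S1012.result (card_of_small π hπ hZ h)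
  intro x h6
  have hx : x ≠ 1 := by
    intro h1
    rw [h1, orderOf_one] at h6
    omega
  have := orderOf_le_of_small π hπ hZ h x hx
  omega

theorem alt5_of_small (hπ : Function.Surjective π) (hZ : π.ker = center G) (h : Small G 60 5)
    (h5 : HasFive G) : Nonempty (X ≃* alternatingGroup (Fin 5)) := by
  have hX : Finite X := Finite.of_surjective π hπ
  have hX60 : Nat.card X = 60 := card_of_small π hπ hZ h
  apply Cfsg.Agent.Lib.Helper19.mulEquiv_A5_of_card_sixty hX60
  rintro ⟨Q, hQ⟩
  have : Fact (Nat.Prime 5) := ⟨by norm_num⟩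
  obtain ⟨g, hgZ, hC, hN⟩ := h5
  have hpos : 0 < Nat.card (center G) := Nat.card_pos
  set C := centralizer ({g} : Set G) with hCdef
  have hker : π.ker ≤ C := hZ.le.trans (Subgroup.center_le_centralizer _)
  have hcard : Nat.card (C.map π) = 5 := by
    have h1 := card_eq_ker_mul_map π hπ C hker
    rw [hC, hZ] at h1
    exact (Nat.eq_of_mul_eq_mul_left hpos h1).symm
  have hp : IsPGroup 5 (C.map π) := IsPGroup.of_card (n := 1) (by rw [hcard]; norm_num)
  obtain ⟨Q', hQ'⟩ := hp.exists_le_sylow
  have huniq := Sylow.unique_of_normal Q hQ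
  have hQQ : Q' = Q := Subsingleton.elim _ _
  rw [hQQ] at hQ'
  -- `|Q| ≤ 5`
  have hQcard : Nat.card (Q : Subgroup X) ≤ 5 := by
    obtain ⟨k, hk⟩ := (IsPGroup.iff_card.mp Q.isPGroup')
    have hdvd : Nat.card (Q : Subgroup X) ∣ 60 := by
      rw [← hX60]; exact Subgroup.card_subgroup_dvd_card _
    rw [hk] at hdvd ⊢
    have hk1 : k ≤ 1 := by
      by_contra hcon
      have h2 : 2 ≤ k := by omega
      have : 5 ^ 2 ∣ 60 := (pow_dvd_pow 5 h2).trans hdvd
      norm_num at this
    calc 5 ^ k ≤ 5 ^ 1 := Nat.pow_le_pow_right (by norm_num) hk1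
      _ = 5 := by norm_num
  have heq : C.map π = (Q : Subgroup X) := by
    apply Subgroup.eq_of_le_of_card_ge hQ'
    rw [hcard]; exact hQcard
  have hCn : C.Normal := by
    rw [← comap_map_of_ker_le π C hker, heq]
    exact hQ.comap π
  have htop : normalizer (C : Set G) = ⊤ := Subgroup.normalizer_eq_top_iff.mpr hCn
  rw [htop, Subgroup.card_top, h.1] at hN
  have := Nat.eq_of_mul_eq_mul_left hpos hN
  omega

end small

end Cfsg.Agent.Lib.Helper13.Dk
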