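/-
helper13: the dihedral case of Dickson's theorem: a semisimple element whose centralizer has index
two gives a dihedral central quotient.
-/
import Mathlib
import Cfsg.Agent.Lib.Helper13.DkQuot
import Cfsg.Agent.Lib.Helper13.SL2TorusNorm
import Cfsg.Agent.Lib.Helper14.DihedralCrit

set_option autoImplicit false

namespace Cfsg.Agent.Lib.Helper13.Dk

open Subgroup Matrix Cfsg.Agent.Lib.Helper13 Cfsg.Agent.Lib.Helper29.Dickson

namespace Emb

variable {F : Type*} [Field F] {G : Type*} [Group G] (S : Emb F G)

/-- An element inverting a non-scalar element has trace zero. -/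
theorem tr_eq_zero_of_inverting {x g : G} (hg : ¬ sc (S.m g)) (hxg : x * g * x⁻¹ = g⁻¹) :
    S.tr x = 0 := by
  have h1 : x * g = g⁻¹ * x := by
    rw [← hxg]; group
  have h2 : S.m x * S.m g = S.m g⁻¹ * S.m x := by rw [← m_mul, ← m_mul, h1]
  rw [S.m_inv g] at h2
  have e00 := congr_fun (congr_fun h2 0) 0
  have e01 := congr_fun (congr_fun h2 0) 1
  have e10 := congr_fun (congr_fun h2 1) 0
  have e11 := congr_fun (congr_fun h2 1) 1
  simp only [Matrix.mul_apply, Fin.sum_univ_two, Matrix.of_apply, Matrix.cons_val', Matrix.cons_val_zero,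
    Matrix.cons_val_one, Matrix.empty_val', Matrix.cons_val_fin_one] at e00 e01 e10 e11
  rw [S.tr_eq]
  by_contra ht
  apply hg
  refine ⟨?_, ?_, ?_⟩
  · have : (S.m x 0 0 + S.m x 1 1) * S.m g 0 1 = 0 := by linear_combination e01
    exact (mul_eq_zero.mp this).resolve_left ht
  · have : (S.m x 0 0 + S.m x 1 1) * S.m g 1 0 = 0 := by linear_combination e10
    exact (mul_eq_zero.mp this).resolve_left ht
  · have : (S.m x 0 0 + S.m x 1 1) * (S.m g 0 0 - S.m g 1 1) = 0 := by
      linear_combination e00 - e11
    exact sub_eq_zero.mp ((mul_eq_zero.mp this).resolve_left ht)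

/-- An element of trace zero squares to `-1`. -/
theorem sc_sq_of_tr_eq_zero {x : G} (hx : S.tr x = 0) : sc (S.m (x * x)) := by
  have hch := cayley_hamilton_two (S.m x) (S.m_det x)
  rw [← Matrix.trace_fin_two] at hch
  change S.m x * S.m x = S.tr x • S.m x - 1 at hch
  rw [hx, zero_smul, zero_sub] at hch
  rw [S.m_mul, hch]
  refine ⟨by simp, by simp, by simp⟩

variable [Fintype F] [Finite G]

/-- The dihedral case. -/
theorem dih_of_dihType {X : Type*} [Group X]
    (π : G →* X) (hπ : Function.Surjective π) (hZ : π.ker = center G) (h : S.DihType) :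
    ∃ k : ℕ, (Nat.card (center G) * k ∣ Fintype.card F - 1 ∨
        Nat.card (center G) * k ∣ Fintype.card F + 1) ∧ Nonempty (X ≃* DihedralGroup k) := by
  have hX : Finite X := Finite.of_surjective π hπ
  obtain ⟨g, hg, hcard⟩ := h
  have hgsc : ¬ sc (S.m g) := S.sc_of_tr_sq hg
  set C := centralizer ({g} : Set G) with hCdef
  have hcyc : IsCyclic C := S.isCyclic_centralizer g hg
  obtain ⟨⟨c, hcC⟩, hc⟩ := hcyc.exists_generator
  have hker : π.ker ≤ C := hZ.le.trans (Subgroup.center_le_centralizer _)
  have hpos : 0 < Nat.card (center G) := Nat.card_pos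
  have hCpos : 0 < Nat.card C := Nat.card_pos
  -- index two
  have hidx : C.index = 2 := by
    have h1 := Subgroup.card_mul_index C
    rw [← hcard] at h1
    exact Nat.eq_of_mul_eq_mul_left hCpos h1
  have hCn : C.Normal := Subgroup.normal_of_index_eq_two hidx
  -- an element outside
  have hne : ∃ x : G, x ∉ C := by
    by_contra hcon
    push Not at hcon
    have : C = ⊤ := eq_top_iff.mpr (fun x _ => hcon x)
    rw [this, Subgroup.index_top] at hidx
    omega
  obtain ⟨x, hx⟩ := hne
  have hxN : x ∈ normalizer (C : Set G) := by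
    rw [Subgroup.normalizer_eq_top_iff.mpr hCn]; exact mem_top x
  have hxg : x * g * x⁻¹ = g⁻¹ := by
    rcases (S.mem_normalizer_centralizer_iff g hg x).mp hxN with h' | h'
    · exfalso
      apply hx
      rw [hCdef, mem_centralizer_singleton_comm]
      rw [mul_inv_eq_iff_eq_mul] at h'
      exact h'
    · exact h'
  -- `x` inverts `C`
  have hinv : ∀ t ∈ C, x * t * x⁻¹ = t⁻¹ := by
    intro t ht
    apply S.inj
    rw [map_mul, map_mul, map_inv, map_inv]
    apply conj_eq_inv_of_mem_centralizer (S.φ g) hg (S.φ x)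
    · rw [← map_inv, ← map_mul, ← map_mul, hxg, map_inv]
    · exact (S.mem_centralizer_iff g t).mp ht
  -- `x²` is central
  have hxx : x * x ∈ center G :=
    S.mem_center_of_sc (S.sc_sq_of_tr_eq_zero (S.tr_eq_zero_of_inverting hgsc hxg))
  have hxxk : π (x * x) = 1 := by
    have : x * x ∈ π.ker := by rw [hZ]; exact hxx
    exact this
  -- the generator
  have hCz : C = zpowers c := by
    ext y
    constructor
    · intro hy
      obtain ⟨n, hn⟩ := Subgroup.mem_zpowers_iff.mp (hc ⟨y, hy⟩)
      refine Subgroup.mem_zpowers_iff.mpr ⟨n, ?_⟩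
      have := congrArg Subtype.val hn
      simpa using this
    · intro hy
      obtain ⟨n, hn⟩ := Subgroup.mem_zpowers_iff.mp hy
      rw [← hn]
      exact C.zpow_mem hcC n
  have hmap : C.map π = zpowers (π c) := by
    rw [← MonoidHom.map_zpowers, ← hCz]
  set k := Nat.card (C.map π) with hk
  have hCk : Nat.card C = Nat.card (center G) * k := by
    rw [hk, ← hZ]; exact card_eq_ker_mul_map π hπ C hker
  have hXk : Nat.card X = 2 * k := by
    have h1 := card_eq_ker_mul π hπ
    rw [← hcard, hCk, hZ] at h1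
    have : Nat.card (center G) * Nat.card X = Nat.card (center G) * (2 * k) := by
      rw [← h1]; ring
    exact Nat.eq_of_mul_eq_mul_left hpos this
  have hord : orderOf (π c) = k := by
    rw [hk, hmap, Nat.card_zpowers]
  refine ⟨k, ?_, ?_⟩
  · rw [← hCk]
    exact S.card_centralizer_dvd g hg
  · apply Cfsg.Agent.Lib.Helper14.nonempty_mulEquiv_dihedral k hXk (π c) (π x)
    · rw [← hord]; exact pow_orderOf_eq_one _
    · rw [← map_mul]; exact hxxk
    · have h1 : x * c * x = c⁻¹ * (x * x) := by
        have := hinv c hcC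
        calc x * c * x = (x * c * x⁻¹) * (x * x) := by group
          _ = c⁻¹ * (x * x) := by rw [this]
      rw [← map_mul, ← map_mul, h1, map_mul, hxxk, mul_one, map_inv]
    · exact hord
    · rw [← hmap]
      rintro ⟨c', hc', hcx⟩
      apply hx
      have h1 : c'⁻¹ * x ∈ π.ker := by
        rw [MonoidHom.mem_ker, map_mul, map_inv, hcx, inv_mul_cancel]
      have h2 : c'⁻¹ * x ∈ C := hker h1
      have := C.mul_mem hc' h2
      rwa [mul_inv_cancel_left] at this

end Emb

end Cfsg.Agent.Lib.Helper13.Dk
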