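/-
helper13: subfield subgroups of `PSL₂(F)`: `PSL₂(K) ≤ PSL₂(F)` and `PGL₂(K) ≤ PSL₂(F)` iff the
degree `[F : K]` is even (finite fields of odd order).
-/
import Mathlib
import Cfsg.Agent.Lib.Helper13.PSL2
import Cfsg.Agent.Lib.Helper13.SL2
import Cfsg.Agent.Lib.Helper2.GLCard

set_option autoImplicit false

namespace Cfsg.Agent.Lib.Helper13

open Matrix

section fields

variable {F K : Type*} [Field F] [Fintype F] [Field K] [Fintype K]

/-- A finite field `K` embeds in a finite field `F` with `|K|^m = |F|`. -/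
theorem exists_ringHom_of_card_pow (m : ℕ)
    (hK : Fintype.card K ^ m = Fintype.card F) : Nonempty (K →+* F) := by
  obtain ⟨p, hp⟩ := CharP.exists K
  have hpp : Fact p.Prime := ⟨CharP.char_is_prime K p⟩
  obtain ⟨a, -, ha⟩ := FiniteField.card K p
  obtain ⟨p', hp'⟩ := CharP.exists F
  have hpp' : Fact p'.Prime := ⟨CharP.char_is_prime F p'⟩
  obtain ⟨b, -, hb⟩ := FiniteField.card F p'
  have hpeq : p' = p := by
    have h1 : p' ∣ p ^ ((a : ℕ) * m) := by
      rw [pow_mul, ← ha, hK, hb]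
      exact dvd_pow_self _ b.ne_zero
    exact (Nat.prime_dvd_prime_iff_eq hpp'.out hpp.out).mp (hpp'.out.dvd_of_dvd_pow h1)
  subst hpeq
  let _ : Algebra (ZMod p') K := ZMod.algebra K p'
  let _ : Algebra (ZMod p') F := ZMod.algebra F p'
  have h1 := FiniteField.pow_finrank_eq_card p' K
  have h2 := FiniteField.pow_finrank_eq_card p' F
  have hdvd : Module.finrank (ZMod p') K ∣ Module.finrank (ZMod p') F := by
    refine ⟨m, ?_⟩
    apply Nat.pow_right_injective hpp'.out.two_le
    change p' ^ Module.finrank (ZMod p') F = p' ^ (Module.finrank (ZMod p') K * m)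
    rw [h2, pow_mul, h1, hK]
  obtain ⟨f⟩ := FiniteField.nonempty_algHom_of_finrank_dvd (F := ZMod p') (K := K) (L := F) hdvd
  exact ⟨f.toRingHom⟩

end fields

section groups

/-- If `f` is injective and `R ≤ range f` then `comap f R ≃* R`. -/
theorem nonempty_comap_mulEquiv {A C : Type*} [Group A] [Group C] (f : A →* C)
    (hf : Function.Injective f) (R : Subgroup C) (hR : R ≤ f.range) :
    Nonempty (↥(R.comap f) ≃* ↥R) := by
  refine ⟨MulEquiv.ofBijective (f.subgroupComap R) ⟨?_, ?_⟩⟩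
  · intro x y h
    apply Subtype.ext
    apply hf
    exact congrArg Subtype.val h
  · rintro ⟨c, hc⟩
    obtain ⟨a, rfl⟩ := hR hc
    exact ⟨⟨a, hc⟩, rfl⟩

end groups

section pgl

variable {F K : Type*} [Field F] [Field K]

theorem center_le_comap_map (ι : K →+* F) :
    Subgroup.center (GL (Fin 2) K) ≤
      (Subgroup.center (GL (Fin 2) F)).comap (Matrix.GeneralLinearGroup.map ι) := by
  intro z hz
  rw [GeneralLinearGroup.center_eq_range_scalar] at hz
  obtain ⟨u, rfl⟩ := hz
  rw [Subgroup.mem_comap, GeneralLinearGroup.map_scalar, GeneralLinearGroup.center_eq_range_scalar]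
  exact ⟨_, rfl⟩

/-- The map `PGL₂(K) → PGL₂(F)` induced by a field embedding. -/
def pglMap (ι : K →+* F) :
    Matrix.ProjGenLinGroup (Fin 2) K →* Matrix.ProjGenLinGroup (Fin 2) F :=
  QuotientGroup.map (Subgroup.center (GL (Fin 2) K)) (Subgroup.center (GL (Fin 2) F))
    (Matrix.GeneralLinearGroup.map ι) (center_le_comap_map ι)

theorem pglMap_mk (ι : K →+* F) (g : GL (Fin 2) K) :
    pglMap ι (Matrix.ProjGenLinGroup.mk g) =
      Matrix.ProjGenLinGroup.mk (Matrix.GeneralLinearGroup.map ι g) := rfl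

theorem pglMap_injective (ι : K →+* F) : Function.Injective (pglMap ι) := by
  rw [injective_iff_map_eq_one]
  intro x hx
  induction x using Matrix.ProjGenLinGroup.induction_on with | mk g =>
  rw [pglMap_mk, Matrix.ProjGenLinGroup.mk_eq_one, GeneralLinearGroup.center_eq_range_scalar] at hx
  obtain ⟨u, hu⟩ := hx
  rw [Matrix.ProjGenLinGroup.mk_eq_one, GeneralLinearGroup.center_eq_range_scalar]
  have hent : ∀ i j : Fin 2, ι ((g : Matrix (Fin 2) (Fin 2) K) i j) =
      (Matrix.scalar (Fin 2) (u : F)) i j := by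
    intro i j
    rw [← Matrix.GeneralLinearGroup.map_apply, ← hu]
    rfl
  have h01 : (g : Matrix (Fin 2) (Fin 2) K) 0 1 = 0 := by
    apply ι.injective
    rw [hent, map_zero]
    simp
  have h10 : (g : Matrix (Fin 2) (Fin 2) K) 1 0 = 0 := by
    apply ι.injective
    rw [hent, map_zero]
    simp
  have h11 : (g : Matrix (Fin 2) (Fin 2) K) 1 1 = (g : Matrix (Fin 2) (Fin 2) K) 0 0 := by
    apply ι.injective
    rw [hent, hent]
    simp
  have h00 : (g : Matrix (Fin 2) (Fin 2) K) 0 0 ≠ 0 := by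
    intro h
    have := hent 0 0
    rw [h, map_zero] at this
    simp at this
    exact u.ne_zero this.symm
  refine ⟨Units.mk0 _ h00, ?_⟩
  apply Units.ext
  rw [GeneralLinearGroup.coe_scalar]
  ext i j
  fin_cases i <;> fin_cases j <;> simp [h01, h10, h11]

theorem map_toGL (ι : K →+* F) (s : SpecialLinearGroup (Fin 2) K) :
    Matrix.GeneralLinearGroup.map ι (SpecialLinearGroup.toGL s) =
      SpecialLinearGroup.toGL (SpecialLinearGroup.map ι s) := by
  apply Units.ext
  ext i j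
  rfl

/-- `PSL₂(K)` embeds in `PSL₂(F)`. -/
theorem exists_subgroup_PSL2 (ι : K →+* F) :
    ∃ H : Subgroup (Matrix.ProjectiveSpecialLinearGroup (Fin 2) F),
      Nonempty (H ≃* Matrix.ProjectiveSpecialLinearGroup (Fin 2) K) := by
  set f : Matrix.ProjectiveSpecialLinearGroup (Fin 2) K →* Matrix.ProjGenLinGroup (Fin 2) F :=
    (pglMap ι).comp Matrix.ProjectiveSpecialLinearGroup.toPGL with hf
  have hfinj : Function.Injective f :=
    (pglMap_injective ι).comp Matrix.ProjectiveSpecialLinearGroup.toPGL_injective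
  have hle : f.range ≤ (Matrix.ProjectiveSpecialLinearGroup.toPGL (n := Fin 2) (R := F)).range := by
    rintro _ ⟨x, rfl⟩
    obtain ⟨s, rfl⟩ := QuotientGroup.mk_surjective x
    refine ⟨QuotientGroup.mk (SpecialLinearGroup.map ι s), ?_⟩
    rw [Matrix.ProjectiveSpecialLinearGroup.toPGL_mk, ← map_toGL]
    rfl
  obtain ⟨e⟩ := nonempty_comap_mulEquiv (Matrix.ProjectiveSpecialLinearGroup.toPGL (n := Fin 2) (R := F))
    Matrix.ProjectiveSpecialLinearGroup.toPGL_injective f.range hle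
  exact ⟨_, ⟨e.trans (MonoidHom.ofInjective hfinj).symm⟩⟩

/-- If every `ι a` (`a ≠ 0`) is a square in `F` then `PGL₂(K)` embeds in `PSL₂(F)`. -/
theorem exists_subgroup_PGL2 (ι : K →+* F)
    (hsq : ∀ a : K, a ≠ 0 → ∃ r : F, r * r = ι a) :
    ∃ H : Subgroup (Matrix.ProjectiveSpecialLinearGroup (Fin 2) F),
      Nonempty (H ≃* Matrix.ProjGenLinGroup (Fin 2) K) := by
  have hfinj := pglMap_injective ι
  have hle : (pglMap ι).range ≤
      (Matrix.ProjectiveSpecialLinearGroup.toPGL (n := Fin 2) (R := F)).range := by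
    rintro _ ⟨x, rfl⟩
    induction x using Matrix.ProjGenLinGroup.induction_on with | mk g =>
    have hdet0 : (g : Matrix (Fin 2) (Fin 2) K).det ≠ 0 := by
      have := (Matrix.GeneralLinearGroup.det g).ne_zero
      rwa [Matrix.GeneralLinearGroup.val_det_apply] at this
    obtain ⟨r, hr⟩ := hsq _ hdet0
    have hr0 : r ≠ 0 := by
      rintro rfl
      rw [mul_zero] at hr
      exact hdet0 (ι.injective (by rw [← hr, map_zero]))
    set M : Matrix (Fin 2) (Fin 2) F :=
      ((Matrix.GeneralLinearGroup.map ι g : GL (Fin 2) F) : Matrix (Fin 2) (Fin 2) F) with hM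
    have hMdet : M.det = ι (g : Matrix (Fin 2) (Fin 2) K).det := by
      rw [hM, Matrix.det_fin_two, Matrix.det_fin_two]
      simp only [Matrix.GeneralLinearGroup.map_apply, map_sub, map_mul]
    have hsdet : (r⁻¹ • M).det = 1 := by
      rw [Matrix.det_smul, Fintype.card_fin, hMdet, ← hr]
      field_simp
    set s : SpecialLinearGroup (Fin 2) F := ⟨r⁻¹ • M, hsdet⟩ with hs
    refine ⟨QuotientGroup.mk s, ?_⟩
    rw [Matrix.ProjectiveSpecialLinearGroup.toPGL_mk, pglMap_mk, Matrix.ProjGenLinGroup.mk_eq_mk_iff]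
    refine ⟨Units.mk0 r hr0, ?_⟩
    apply Units.ext
    rw [Units.val_mul, GeneralLinearGroup.coe_scalar]
    change (r⁻¹ • M) * Matrix.scalar (Fin 2) r = M
    ext i j
    simp only [Matrix.mul_apply, Matrix.smul_apply, Matrix.scalar_apply, Matrix.diagonal_apply,
      smul_eq_mul, Fin.sum_univ_two]
    fin_cases j <;> simp <;> field_simp
  obtain ⟨e⟩ := nonempty_comap_mulEquiv (Matrix.ProjectiveSpecialLinearGroup.toPGL (n := Fin 2) (R := F))
    Matrix.ProjectiveSpecialLinearGroup.toPGL_injective (pglMap ι).range hle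
  exact ⟨_, ⟨e.trans (MonoidHom.ofInjective hfinj).symm⟩⟩

end pgl

section arithmetic

/-- `2 (k - 1) ∣ k^m - 1` for `k` odd and `m` even. -/
theorem two_mul_pred_dvd_pow_sub_one (k m : ℕ) (hk : Odd k) (hm : Even m) :
    2 * (k - 1) ∣ k ^ m - 1 := by
  obtain ⟨m', rfl⟩ := hm
  obtain ⟨j, rfl⟩ := hk
  have h1 : (2 * j + 1) ^ (m' + m') = ((2 * j + 1) ^ 2) ^ m' := by
    rw [← pow_mul]; congr 1; ring
  have h2 : (2 * j + 1) ^ 2 - 1 ∣ ((2 * j + 1) ^ 2) ^ m' - 1 := by
    have := Nat.sub_dvd_pow_sub_pow ((2 * j + 1) ^ 2) 1 m'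
    rwa [one_pow] at this
  have h3 : (2 * j + 1) ^ 2 - 1 = 2 * (2 * j + 1 - 1) * (j + 1) := by
    have : (2 * j + 1) ^ 2 = 2 * (2 * j + 1 - 1) * (j + 1) + 1 := by
      simp only [Nat.add_sub_cancel]
      ring
    omega
  rw [h1]
  exact Dvd.dvd.trans ⟨j + 1, h3⟩ h2

/-- For `k`, `m` odd, `k (k² - 1)` does not divide `k^m ((k^m)² - 1) / 2`. -/
theorem not_dvd_of_odd (k m c : ℕ) (hk : Odd k) (hk3 : 3 ≤ k) (hm : Odd m)
    (h : k * (k ^ 2 - 1) * c * 2 = k ^ m * ((k ^ m) ^ 2 - 1)) : False := by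
  set S := ∑ i ∈ Finset.range m, (k ^ 2) ^ i with hS
  have hk2 : 1 ≤ k ^ 2 := Nat.one_le_pow _ _ (by omega)
  have hgeom : S * (k ^ 2 - 1) + 1 = (k ^ 2) ^ m := by
    have := geom_sum_mul_add (k ^ 2 - 1) m
    rwa [Nat.sub_add_cancel hk2] at this
  have hqq : (k ^ m) ^ 2 - 1 = S * (k ^ 2 - 1) := by
    have : (k ^ m) ^ 2 = (k ^ 2) ^ m := by rw [← pow_mul, ← pow_mul, mul_comm]
    rw [this, ← hgeom]
    simp
  have hSodd : Odd S := by
    rw [hS, Finset.odd_sum_iff_odd_card_odd]
    have : (Finset.range m).filter (fun i => Odd ((k ^ 2) ^ i)) = Finset.range m := by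
      apply Finset.filter_true_of_mem
      intro i _
      exact (hk.pow).pow
    rw [this, Finset.card_range]
    exact hm
  rw [hqq] at h
  have hpos : 0 < k ^ 2 - 1 := by
    have : 9 ≤ k ^ 2 := by nlinarith
    omega
  have h' : (k * c * 2) * (k ^ 2 - 1) = (k ^ m * S) * (k ^ 2 - 1) := by
    calc (k * c * 2) * (k ^ 2 - 1) = k * (k ^ 2 - 1) * c * 2 := by ring
      _ = k ^ m * (S * (k ^ 2 - 1)) := h
      _ = (k ^ m * S) * (k ^ 2 - 1) := by ring
  have h'' := Nat.eq_of_mul_eq_mul_right hpos h'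
  have hodd : Odd (k ^ m * S) := (hk.pow).mul hSodd
  rw [← h''] at hodd
  have heven : Even (k * c * 2) := ⟨k * c, by ring⟩
  exact (Nat.not_even_iff_odd.mpr hodd) heven

end arithmetic

section final

variable {F K : Type*} [Field F] [Fintype F] [Field K] [Fintype K]

omit [Field F] [Field K] in
theorem odd_card_of_pow (m : ℕ) (hK : Fintype.card K ^ m = Fintype.card F)
    (hodd : Odd (Fintype.card F)) (hm : 1 ≤ m) : Odd (Fintype.card K) := by
  rw [← hK] at hodd
  rcases Nat.even_or_odd (Fintype.card K) with h | h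
  · exact absurd ((Nat.even_pow' (by omega)).mpr h) (Nat.not_even_iff_odd.mpr hodd)
  · exact h

/-- For `[F : K]` even, every non-zero element of `K` is a square in `F`. -/
theorem exists_sq_of_even (ι : K →+* F) (m : ℕ) (hK : Fintype.card K ^ m = Fintype.card F)
    (hodd : Odd (Fintype.card F)) (hm1 : 1 ≤ m) (hm : Even m) (a : K) (ha : a ≠ 0) :
    ∃ r : F, r * r = ι a := by
  have hchar : ringChar F ≠ 2 := by
    intro h
    have := FiniteField.even_card_iff_char_two.mp h
    obtain ⟨j, hj⟩ := hodd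
    omega
  have hι0 : ι a ≠ 0 := fun h => ha (ι.injective (by rw [h, map_zero]))
  have hkodd := odd_card_of_pow m hK hodd hm1
  obtain ⟨t, ht⟩ := two_mul_pred_dvd_pow_sub_one (Fintype.card K) m hkodd hm
  rw [hK] at ht
  have hhalf : Fintype.card F / 2 = (Fintype.card K - 1) * t := by
    obtain ⟨j, hj⟩ := hodd
    have : Fintype.card F - 1 = 2 * ((Fintype.card K - 1) * t) := by rw [ht]; ring
    omega
  have hsq : IsSquare (ι a) := by
    rw [FiniteField.isSquare_iff hchar hι0, hhalf, ← map_pow, pow_mul,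
      FiniteField.pow_card_sub_one_eq_one a ha, one_pow, map_one]
  obtain ⟨r, hr⟩ := hsq
  exact ⟨r, hr.symm⟩

/-- **Subfield subgroups of `PSL₂`**. -/
theorem subfield_subgroups (hodd : Odd (Fintype.card F)) (m : ℕ) (hm : 1 ≤ m)
    (hK : Fintype.card K ^ m = Fintype.card F) :
    (∃ H : Subgroup (Matrix.ProjectiveSpecialLinearGroup (Fin 2) F),
      Nonempty (H ≃* Matrix.ProjectiveSpecialLinearGroup (Fin 2) K)) ∧
    ((∃ H : Subgroup (Matrix.ProjectiveSpecialLinearGroup (Fin 2) F),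
      Nonempty (H ≃* Matrix.ProjGenLinGroup (Fin 2) K)) ↔ Even m) := by
  obtain ⟨ι⟩ := exists_ringHom_of_card_pow (F := F) (K := K) m hK
  refine ⟨exists_subgroup_PSL2 ι, ?_, fun hm2 =>
    exists_subgroup_PGL2 ι (exists_sq_of_even ι m hK hodd hm hm2)⟩
  rintro ⟨H, ⟨e⟩⟩
  by_contra hnot
  have hmodd : Odd m := Nat.not_even_iff_odd.mp hnot
  have hkodd := odd_card_of_pow m hK hodd hm
  have hk3 : 3 ≤ Fintype.card K := by
    have h2 : 2 ≤ Fintype.card K := Fintype.one_lt_card
    obtain ⟨j, hj⟩ := hkodd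
    omega
  have h2F : (2 : F) ≠ 0 := by
    intro h
    have hchar : ringChar F = 2 := by
      have h' : ((2 : ℕ) : F) = 0 := by exact_mod_cast h
      have hdvd := (ringChar.spec F 2).mp h'
      rcases (Nat.dvd_prime Nat.prime_two).mp hdvd with h1 | h1
      · exact absurd h1 CharP.ringChar_ne_one
      · exact h1
    have := FiniteField.even_card_iff_char_two.mp hchar
    obtain ⟨j, hj⟩ := hodd
    omega
  have hcardH : Nat.card H = Fintype.card K * (Fintype.card K ^ 2 - 1) := by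
    rw [Nat.card_congr e.toEquiv, Cfsg.Agent.Lib.Helper2.card_PGL_field, card_SL2]
  obtain ⟨c, hc⟩ := Subgroup.card_subgroup_dvd_card H
  have hPSL := card_PSL2_mul_two (F := F) h2F
  rw [hc, hcardH, ← hK] at hPSL
  exact not_dvd_of_odd (Fintype.card K) m c hkodd hk3 hmodd hPSL

end final

end Cfsg.Agent.Lib.Helper13
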