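/-
helper13: the projective image of a group embedded in `SL₂(F)` and its identification with
`PGL₂(K)` or `PSL₂(K)` for a subfield `K` (Dickson's theorem, final identification).
-/
import Mathlib
import Cfsg.Agent.Lib.Helper13.DkEmb
import Cfsg.Agent.Lib.Helper13.PSL2Subfield
import Cfsg.Agent.Lib.Helper2.GLCard
import Cfsg.Agent.Lib.Helper29.DicksonTwist

set_option autoImplicit false

namespace Cfsg.Agent.Lib.Helper13.Dk

open Subgroup Matrix Cfsg.Agent.Lib.Helper13 Cfsg.Agent.Lib.Helper29.Dickson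

/-- Elements of odd order lie in every subgroup of index two. -/
theorem mem_of_two_mul_card {P : Type*} [Group P] (N R : Subgroup P) [Finite R] (hNR : N ≤ R)
    (hcard : 2 * Nat.card N = Nat.card R) (u : P) (hu : u ∈ R) (n : ℕ) (hn : Odd n)
    (hun : u ^ n = 1) : u ∈ N := by
  have : Finite N := Finite.of_injective (Subgroup.inclusion hNR) (Subgroup.inclusion_injective hNR)
  have h1 := Subgroup.card_mul_index (N.subgroupOf R)
  have h2 : Nat.card (N.subgroupOf R) = Nat.card N :=
    Nat.card_congr (Subgroup.subgroupOfEquivOfLe hNR).toEquiv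
  rw [h2, ← hcard] at h1
  have hNpos : 0 < Nat.card N := Nat.card_pos
  have hidx : (N.subgroupOf R).index = 2 := by
    have : Nat.card N * (N.subgroupOf R).index = Nat.card N * 2 := by rw [h1]; ring
    exact Nat.eq_of_mul_eq_mul_left hNpos this
  obtain ⟨j, rfl⟩ := hn
  have hsq : (⟨u, hu⟩ : R) ^ 2 ∈ N.subgroupOf R := Subgroup.sq_mem_of_index_two hidx _
  have hsq' : u ^ 2 ∈ N := by
    have := Subgroup.mem_subgroupOf.mp hsq
    simpa using this
  have h3 : u = ((u ^ 2) ^ j)⁻¹ := by
    rw [eq_inv_iff_mul_eq_one, ← pow_mul, ← pow_succ']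
    exact hun
  rw [h3]
  exact N.inv_mem (N.pow_mem hsq' j)

namespace Emb

variable {F : Type*} [Field F] {G : Type*} [Group G] (S : Emb F G)

/-- The projective image. -/
def Φ : G →* Matrix.ProjGenLinGroup (Fin 2) F :=
  (Matrix.SpecialLinearGroup.toPGL (n := Fin 2) (R := F)).comp S.φ

theorem Φ_apply (g : G) : S.Φ g = Matrix.ProjGenLinGroup.mk (SpecialLinearGroup.toGL (S.φ g)) := rfl

theorem sc_iff_mem_center (g : G) :
    sc (S.m g) ↔ S.φ g ∈ center (SpecialLinearGroup (Fin 2) F) := by
  rw [Matrix.SpecialLinearGroup.mem_center_iff]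
  constructor
  · rintro ⟨h01, h10, h00⟩
    refine ⟨S.m g 0 0, ?_, ?_⟩
    · have hd := S.m_det' g
      rw [h01, zero_mul, sub_zero, ← h00] at hd
      rw [Fintype.card_fin, pow_two]
      exact hd
    · ext i j
      fin_cases i <;> fin_cases j
      · simp [Matrix.scalar_apply]; rfl
      · simp [Matrix.scalar_apply]; exact h01.symm
      · simp [Matrix.scalar_apply]; exact h10.symm
      · simp [Matrix.scalar_apply]; exact h00
  · rintro ⟨r, -, hr⟩
    have h : ∀ i j, S.m g i j = (Matrix.scalar (Fin 2) r) i j := by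
      intro i j
      rw [hr]; rfl
    refine ⟨?_, ?_, ?_⟩
    · rw [h]; simp [Matrix.scalar_apply]
    · rw [h]; simp [Matrix.scalar_apply]
    · rw [h, h]; simp [Matrix.scalar_apply]

theorem ker_Φ (hna : ∃ x y : G, x * y ≠ y * x) : S.Φ.ker = center G := by
  ext g
  rw [MonoidHom.mem_ker, S.mem_center_iff_sc hna, S.sc_iff_mem_center,
    ← Matrix.SpecialLinearGroup.toPGL_ker, MonoidHom.mem_ker]
  rfl

/-- `G / Z(G)` is isomorphic to the projective image. -/
noncomputable def quotEquiv (hna : ∃ x y : G, x * y ≠ y * x) : G ⧸ center G ≃* S.Φ.range :=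
  (QuotientGroup.quotientMulEquivOfEq (S.ker_Φ hna).symm).trans
    (QuotientGroup.quotientKerEquivRange S.Φ)

theorem card_range_Φ [Finite G] (hna : ∃ x y : G, x * y ≠ y * x) :
    Nat.card S.Φ.range * Nat.card (center G) = Nat.card G := by
  rw [← Nat.card_congr (S.quotEquiv hna).toEquiv]
  exact (Subgroup.card_eq_card_quotient_mul_card_subgroup (center G)).symm

theorem Φ_mem_range {K : Type*} [Field K] (ι : K →+* F) (g : G) (μ : F) (hμ : μ ≠ 0)
    (h : ∀ i j, ∃ a : K, ι a = μ * S.m g i j) :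
    S.Φ g ∈ (Matrix.ProjGenLinGroup.map (n := Fin 2) ι).range := by
  set A : Matrix (Fin 2) (Fin 2) K := fun i j => Classical.choose (h i j) with hA
  have hAmap : A.map ι = μ • S.m g := by
    ext i j
    rw [Matrix.map_apply, Matrix.smul_apply, smul_eq_mul]
    exact Classical.choose_spec (h i j)
  have hdet : A.det ≠ 0 := by
    intro h0
    have h1 : (A.map ι).det = ι A.det := (RingHom.map_det ι A).symm
    rw [h0, map_zero, hAmap, Matrix.det_smul, S.m_det, Fintype.card_fin, mul_one] at h1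
    exact hμ (pow_eq_zero_iff (two_ne_zero) |>.mp h1)
  refine ⟨Matrix.ProjGenLinGroup.mk (Matrix.GeneralLinearGroup.mkOfDetNeZero A hdet), ?_⟩
  rw [Matrix.ProjGenLinGroup.map_mk, Φ_apply, eq_comm, Matrix.ProjGenLinGroup.mk_eq_mk_iff]
  refine ⟨Units.mk0 μ hμ, ?_⟩
  apply Units.ext
  have h2 : ((Matrix.GeneralLinearGroup.map ι
      (Matrix.GeneralLinearGroup.mkOfDetNeZero A hdet) : GL (Fin 2) F) :
      Matrix (Fin 2) (Fin 2) F) = A.map ι := rfl
  rw [h2, hAmap]
  ext i j
  simp [Matrix.GeneralLinearGroup.coe_scalar, Matrix.mul_apply,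
    Matrix.scalar_apply, Matrix.diagonal_apply]
  fin_cases i <;> fin_cases j <;> simp [m, mul_comm]

theorem range_Φ_le {K : Type*} [Field K] (ι : K →+* F)
    (hK : ∀ g : G, ∃ μ : F, μ ≠ 0 ∧ ∀ i j, ∃ a : K, ι a = μ * S.m g i j) :
    S.Φ.range ≤ (Matrix.ProjGenLinGroup.map (n := Fin 2) ι).range := by
  rintro _ ⟨g, rfl⟩
  obtain ⟨μ, hμ, h⟩ := hK g
  exact S.Φ_mem_range ι g μ hμ h

omit S in
theorem pglmap_injective {K : Type*} [Field K] (ι : K →+* F) :
    Function.Injective (Matrix.ProjGenLinGroup.map (n := Fin 2) ι) :=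
  pglMap_injective ι

omit S in
theorem finite_range_map {K : Type*} [Field K] [Finite K] (ι : K →+* F) :
    Finite (Matrix.ProjGenLinGroup.map (n := Fin 2) ι).range := by
  have : Fintype K := Fintype.ofFinite K
  have h : Nat.card (Matrix.ProjGenLinGroup.map (n := Fin 2) ι).range ≠ 0 := by
    rw [← Nat.card_congr (MonoidHom.ofInjective (pglmap_injective ι)).toEquiv,
      Cfsg.Agent.Lib.Helper2.card_PGL_field]
    exact Nat.card_pos.ne'
  exact Nat.finite_of_card_ne_zero h

omit S in
theorem card_range_map {K : Type*} [Field K] [Finite K] (ι : K →+* F) :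
    Nat.card (Matrix.ProjGenLinGroup.map (n := Fin 2) ι).range =
      Nat.card K * (Nat.card K ^ 2 - 1) := by
  have : Fintype K := Fintype.ofFinite K
  rw [← Nat.card_congr (MonoidHom.ofInjective (pglmap_injective ι)).toEquiv,
    Cfsg.Agent.Lib.Helper2.card_PGL_field, card_SL2, Nat.card_eq_fintype_card]

theorem nonempty_equiv_PGL [Finite G] (hna : ∃ x y : G, x * y ≠ y * x)
    {K : Type*} [Field K] [Finite K] (ι : K →+* F)
    (hK : ∀ g : G, ∃ μ : F, μ ≠ 0 ∧ ∀ i j, ∃ a : K, ι a = μ * S.m g i j)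
    (hcard : Nat.card G = Nat.card (center G) * (Nat.card K * (Nat.card K ^ 2 - 1))) :
    Nonempty (G ⧸ center G ≃* Matrix.ProjGenLinGroup (Fin 2) K) := by
  have hle := S.range_Φ_le ι hK
  have h1 := S.card_range_Φ hna
  have hZ : 0 < Nat.card (center G) := Nat.card_pos
  have h2 : Nat.card S.Φ.range = Nat.card K * (Nat.card K ^ 2 - 1) := by
    rw [hcard, mul_comm] at h1
    exact Nat.eq_of_mul_eq_mul_left hZ h1
  have := finite_range_map ι
  have heq : S.Φ.range = (Matrix.ProjGenLinGroup.map (n := Fin 2) ι).range := by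
    apply Subgroup.eq_of_le_of_card_ge hle
    rw [card_range_map, h2]
  exact ⟨(S.quotEquiv hna).trans ((MulEquiv.subgroupCongr heq).trans
    (MonoidHom.ofInjective (pglmap_injective ι)).symm)⟩

theorem nonempty_equiv_PSL [Finite G] (hna : ∃ x y : G, x * y ≠ y * x)
    {K : Type*} [Field K] [Finite K] (ι : K →+* F)
    (hK : ∀ g : G, ∃ μ : F, μ ≠ 0 ∧ ∀ i j, ∃ a : K, ι a = μ * S.m g i j)
    {p : ℕ} [hpF : Fact p.Prime] [CharP F p] (hp2 : p ≠ 2)
    (hcard : 2 * Nat.card G = Nat.card (center G) * (Nat.card K * (Nat.card K ^ 2 - 1))) :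
    Nonempty (G ⧸ center G ≃* Matrix.ProjectiveSpecialLinearGroup (Fin 2) K) := by
  have : Fintype K := Fintype.ofFinite K
  have hpK : CharP K p := (RingHom.charP_iff ι ι.injective p).mpr inferInstance
  have hRfin := finite_range_map ι
  have hle := S.range_Φ_le ι hK
  have h1 := S.card_range_Φ hna
  have hZ : 0 < Nat.card (center G) := Nat.card_pos
  set N := S.Φ.range with hN
  set R := (Matrix.ProjGenLinGroup.map (n := Fin 2) ι).range with hR
  have h2 : 2 * Nat.card N = Nat.card R := by
    rw [card_range_map]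
    have : Nat.card (center G) * (2 * Nat.card N) =
        Nat.card (center G) * (Nat.card K * (Nat.card K ^ 2 - 1)) := by
      rw [← hcard, ← h1]; ring
    exact Nat.eq_of_mul_eq_mul_left hZ this
  -- the image of `PSL₂(K)`
  set f : Matrix.ProjectiveSpecialLinearGroup (Fin 2) K →* Matrix.ProjGenLinGroup (Fin 2) F :=
    (Matrix.ProjGenLinGroup.map (n := Fin 2) ι).comp
      Matrix.ProjectiveSpecialLinearGroup.toPGL with hf
  have hfinj : Function.Injective f :=
    (pglmap_injective ι).comp Matrix.ProjectiveSpecialLinearGroup.toPGL_injective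
  have hodd : Odd p := hpF.out.odd_of_ne_two hp2
  -- all of `SL₂(K)` maps into `N`
  have hall : ∀ X : SpecialLinearGroup (Fin 2) K, f (QuotientGroup.mk X) ∈ N := by
    intro X
    have hmemR : ∀ Y : SpecialLinearGroup (Fin 2) K, f (QuotientGroup.mk Y) ∈ R := fun Y =>
      ⟨Matrix.ProjectiveSpecialLinearGroup.toPGL (QuotientGroup.mk Y), rfl⟩
    let H' : Subgroup (SpecialLinearGroup (Fin 2) K) :=
      N.comap (f.comp (QuotientGroup.mk' (center (SpecialLinearGroup (Fin 2) K))))
    have hpow : ∀ Y : SpecialLinearGroup (Fin 2) K, Y ^ p = 1 → Y ∈ H' := by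
      intro Y hY
      change f (QuotientGroup.mk Y) ∈ N
      apply mem_of_two_mul_card N R hle h2 _ (hmemR Y) p hodd
      rw [← map_pow, ← QuotientGroup.mk_pow, hY]
      simp
    have : X ∈ H' := by
      apply mem_of_tSL_lSL_mem H'
      · intro t
        apply hpow
        rw [tSL_pow, CharP.cast_eq_zero, zero_mul, tSL_zero]
      · intro s
        apply hpow
        rw [lSL_pow, CharP.cast_eq_zero, zero_mul, lSL_zero]
    exact this
  have hTN : f.range ≤ N := by
    rintro _ ⟨X, rfl⟩
    induction X using QuotientGroup.induction_on with | H X =>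
    exact hall X
  have h2K : (2 : K) ≠ 0 := by
    intro h
    have h1 : ((2 : ℕ) : K) = 0 := by exact_mod_cast h
    rw [CharP.cast_eq_zero_iff K p] at h1
    exact hp2 ((Nat.prime_dvd_prime_iff_eq hpF.out Nat.prime_two).mp h1)
  have hcardT : Nat.card f.range * 2 = Nat.card K * (Nat.card K ^ 2 - 1) := by
    rw [← Nat.card_congr (MonoidHom.ofInjective hfinj).toEquiv, card_PSL2_mul_two h2K,
      Nat.card_eq_fintype_card]
  have hNfin : Finite N :=
    Finite.of_injective (Subgroup.inclusion hle) (Subgroup.inclusion_injective hle)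
  have heq : f.range = N := by
    apply Subgroup.eq_of_le_of_card_ge hTN
    rw [card_range_map] at h2
    omega
  exact ⟨(S.quotEquiv hna).trans ((MulEquiv.subgroupCongr heq.symm).trans
    (MonoidHom.ofInjective hfinj).symm)⟩

end Emb

end Cfsg.Agent.Lib.Helper13.Dk
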