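/-
helper13: the stabilizer subfield of a finite additive subgroup of a field.
-/
import Mathlib

set_option autoImplicit false

namespace Cfsg.Agent.Lib.Helper13.Dk

variable {F : Type*} [Field F]

/-- The elements `y` with `y T ⊆ T`, for a finite additive subgroup `T`. -/
def stabField (T : AddSubgroup F) (hT : (T : Set F).Finite) : Subfield F where
  carrier := {y | ∀ x ∈ T, y * x ∈ T}
  mul_mem' := by
    intro a b ha hb x hx
    rw [mul_assoc]
    exact ha _ (hb x hx)
  one_mem' := by
    intro x hx
    rwa [one_mul]
  add_mem' := by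
    intro a b ha hb x hx
    rw [add_mul]
    exact T.add_mem (ha x hx) (hb x hx)
  zero_mem' := by
    intro x _
    rw [zero_mul]
    exact T.zero_mem
  neg_mem' := by
    intro a ha x hx
    rw [neg_mul]
    exact T.neg_mem (ha x hx)
  inv_mem' := by
    intro a ha
    by_cases ha0 : a = 0
    · rw [ha0, inv_zero]
      intro x _
      rw [zero_mul]
      exact T.zero_mem
    · intro x hx
      have : Finite T := hT
      let f : T → T := fun t => ⟨a * t.1, ha t.1 t.2⟩
      have hinj : Function.Injective f := by
        intro s t hst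
        have h1 : a * s.1 = a * t.1 := congrArg Subtype.val hst
        exact Subtype.ext (mul_left_cancel₀ ha0 h1)
      have hsurj : Function.Surjective f := Finite.surjective_of_injective hinj
      obtain ⟨t, ht⟩ := hsurj ⟨x, hx⟩
      have h1 : a * t.1 = x := congrArg Subtype.val ht
      rw [← h1, ← mul_assoc, inv_mul_cancel₀ ha0, one_mul]
      exact t.2

theorem mem_stabField (T : AddSubgroup F) (hT : (T : Set F).Finite) (y : F) :
    y ∈ stabField T hT ↔ ∀ x ∈ T, y * x ∈ T := Iff.rfl

theorem stabField_le (T : AddSubgroup F) (hT : (T : Set F).Finite) (h1 : (1 : F) ∈ T) :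
    ∀ y ∈ stabField T hT, y ∈ T := by
  intro y hy
  have := hy 1 h1
  rwa [mul_one] at this

/-- If `1 ∈ T` and the stabilizer field has more than `|T|/2` elements then it equals `T`. -/
theorem stabField_eq (T : AddSubgroup F) (hT : (T : Set F).Finite) (h1 : (1 : F) ∈ T)
    (hbig : Nat.card T < 2 * Nat.card (stabField T hT)) :
    ∀ y, y ∈ T → y ∈ stabField T hT := by
  have : Finite T := hT
  set K := stabField T hT with hK
  have hle : K.toSubring.toAddSubgroup ≤ T := stabField_le T hT h1
  have hdvd : Nat.card K.toSubring.toAddSubgroup ∣ Nat.card T := AddSubgroup.card_dvd_of_le hle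
  have hcardK : Nat.card K.toSubring.toAddSubgroup = Nat.card K := rfl
  rw [hcardK] at hdvd
  obtain ⟨c, hc⟩ := hdvd
  have hTpos : 0 < Nat.card T := Nat.card_pos
  have hc1 : c = 1 := by
    rcases Nat.lt_or_ge c 2 with h | h
    · interval_cases c
      · rw [mul_zero] at hc; omega
      · rfl
    · exfalso
      have : 2 * Nat.card K ≤ Nat.card K * c := by
        rw [mul_comm]; exact Nat.mul_le_mul_left _ h
      omega
  rw [hc1, mul_one] at hc
  have heq : K.toSubring.toAddSubgroup = T :=
    AddSubgroup.eq_of_le_of_card_ge hle (by rw [hcardK, hc])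
  intro y hy
  rw [← heq] at hy
  exact hy

end Cfsg.Agent.Lib.Helper13.Dk
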