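/-
helper13: the doubly transitive case of Dickson's theorem: a group embedded in `SL₂(F)` with
`[G : N(Q)] = |Q| + 1` is projectively defined over the subfield of order `|Q|`.
-/
import Mathlib
import Cfsg.Agent.Lib.Helper13.DkCases
import Cfsg.Agent.Lib.Helper13.DkField

set_option autoImplicit false

namespace Cfsg.Agent.Lib.Helper13.Dk

open Subgroup Matrix Cfsg.Agent.Lib.Helper13 Cfsg.Agent.Lib.Helper29.Dickson

namespace UEmb

variable {F : Type*} [Field F] {G : Type*} [Group G] (S : UEmb F G)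

theorem tSL_inv (x : F) : (tSL x)⁻¹ = tSL (-x) := by
  rw [inv_eq_iff_mul_eq_one, tSL_mul, add_neg_cancel, tSL_zero]

/-- The parameters of the unipotent elements. -/
def TT : AddSubgroup F where
  carrier := {x | ∃ u : G, S.φ u = tSL x}
  zero_mem' := ⟨1, by rw [map_one, tSL_zero]⟩
  add_mem' := by
    rintro x y ⟨u, hu⟩ ⟨v, hv⟩
    exact ⟨u * v, by rw [map_mul, hu, hv, tSL_mul]⟩
  neg_mem' := by
    rintro x ⟨u, hu⟩
    exact ⟨u⁻¹, by rw [map_inv, hu, tSL_inv]⟩

theorem mem_TT (x : F) : x ∈ S.TT ↔ ∃ u : G, S.φ u = tSL x := Iff.rfl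

theorem mem_TT_of_mem_unip {u : G} (hu : u ∈ S.unip) : S.m u 0 1 ∈ S.TT :=
  ⟨u, S.phi_of_mem_unip hu⟩

theorem exists_unip_of_mem_TT {x : F} (hx : x ∈ S.TT) : ∃ u ∈ S.unip, S.m u = !![1, x; 0, 1] := by
  obtain ⟨u, hu⟩ := hx
  refine ⟨u, (S.mem_unip_iff_phi u).mpr ⟨x, hu⟩, ?_⟩
  change ((S.φ u : SpecialLinearGroup (Fin 2) F) : Matrix (Fin 2) (Fin 2) F) = _
  rw [hu]; rfl

theorem card_TT : Nat.card S.TT = Nat.card S.unip := by
  symm
  refine Nat.card_congr (Equiv.ofBijective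
    (fun u : S.unip => (⟨S.m u.1 0 1, S.mem_TT_of_mem_unip u.2⟩ : S.TT)) ⟨?_, ?_⟩)
  · intro u v huv
    have h1 : S.m u.1 0 1 = S.m v.1 0 1 := congrArg Subtype.val huv
    apply Subtype.ext
    apply S.inj
    rw [S.phi_of_mem_unip u.2, S.phi_of_mem_unip v.2, h1]
  · rintro ⟨x, hx⟩
    obtain ⟨u, hu, hm⟩ := S.exists_unip_of_mem_TT hx
    refine ⟨⟨u, hu⟩, ?_⟩
    apply Subtype.ext
    change S.m u 0 1 = x
    rw [hm]; simp

theorem one_mem_TT (hτ : S.τ = 1) : (1 : F) ∈ S.TT := ⟨S.a, by rw [S.ha, hτ]⟩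

section finite

variable [Fintype F] [Finite G]

/-- The subfield stabilizing `TT`. -/
def K0 : Subfield F := stabField S.TT (Set.toFinite _)

omit [Finite G] in
theorem sq_mem_K0 {b : G} (hb : b ∈ S.borel) : S.m b 0 0 ^ 2 ∈ S.K0 := by
  intro x hx
  obtain ⟨u, hu, hm⟩ := S.exists_unip_of_mem_TT hx
  have h1 := S.mem_TT_of_mem_unip (S.conj_mem_unip hb hu)
  rw [S.conj_unip_entry hb hu, hm] at h1
  simp only [Matrix.of_apply, Matrix.cons_val', Matrix.cons_val_one, Matrix.cons_val_zero] at h1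
  rwa [mul_comm]

/-- The squared diagonal character. -/
def sigma : S.borel →* Fˣ where
  toFun b := S.delta b ^ 2
  map_one' := by simp
  map_mul' := by
    intro x y
    rw [map_mul, mul_pow]

omit [Fintype F] [Finite G] in
theorem mem_ker_sigma (b : S.borel) : b ∈ S.sigma.ker ↔ b.1 ∈ centralizer ({S.a} : Set G) := by
  rw [MonoidHom.mem_ker]
  change S.delta b ^ 2 = 1 ↔ _
  rw [Units.ext_iff, Units.val_pow_eq_pow_val, S.delta_val, Units.val_one]
  constructor
  · intro h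
    exact S.mem_centralizer_a_of_sq b.2 h
  · intro h
    obtain ⟨-, h00⟩ := (S.mem_centralizer_a b.1).mp h
    have hd := S.m_diag_of_mem_borel b.2
    rw [← h00] at hd
    rw [pow_two]
    exact hd

section charp

variable {p : ℕ} [hpF : Fact p.Prime] [CharP F p]

include hpF in
omit [Fintype F] in
theorem card_range_sigma : Nat.card S.sigma.range = S.kk := by
  have h1 := Subgroup.card_mul_index S.sigma.ker
  rw [Subgroup.index_ker] at h1
  have h2 : Nat.card S.sigma.ker = Nat.card (centralizer ({S.a} : Set G)) := by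
    apply Nat.card_congr
    refine ⟨fun b => ⟨b.1.1, (S.mem_ker_sigma b.1).mp b.2⟩,
      fun c => ⟨⟨c.1, S.centralizer_le_borel c.2⟩, (S.mem_ker_sigma _).mpr c.2⟩,
      fun b => rfl, fun c => rfl⟩
  rw [h2, S.card_borel_eq_centralizer_mul (p := p)] at h1
  have hpos : 0 < Nat.card (centralizer ({S.a} : Set G)) := Nat.card_pos
  exact Nat.eq_of_mul_eq_mul_left hpos h1

include hpF in
theorem kk_lt_card_K0 : S.kk + 1 ≤ Nat.card S.K0 := by
  classical
  rw [← S.card_range_sigma (p := p)]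
  have hinj : Function.Injective
      (fun v : S.sigma.range => (⟨⟨(v.1 : F), by
        obtain ⟨b, hb⟩ := v.2
        rw [← hb]
        change ((S.delta b ^ 2 : Fˣ) : F) ∈ S.K0
        rw [Units.val_pow_eq_pow_val, S.delta_val]
        exact S.sq_mem_K0 b.2⟩, by
        intro h
        have : (v.1 : F) = 0 := congrArg Subtype.val h
        exact v.1.ne_zero this⟩ : {y : S.K0 // y ≠ 0})) := by
    intro v w hvw
    have h1 : (v.1 : F) = (w.1 : F) := congrArg (fun y : {y : S.K0 // y ≠ 0} => (y.1.1 : F)) hvw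
    exact Subtype.ext (Units.ext h1)
  have hle := Nat.card_le_card_of_injective _ hinj
  have hcard : Nat.card {y : S.K0 // y ≠ 0} + 1 = Nat.card S.K0 := by
    haveI : Fintype S.K0 := Fintype.ofFinite _
    rw [Nat.card_eq_fintype_card, Nat.card_eq_fintype_card, Fintype.card_subtype_compl,
      Fintype.card_subtype_eq]
    have : 1 ≤ Fintype.card S.K0 := Fintype.card_pos
    omega
  omega

include hpF in
/-- `T = K₀` when `τ = 1` and `k` is large. -/
theorem mem_K0_iff (hτ : S.τ = 1)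
    (hk : 2 * S.kk + 1 = Nat.card S.unip ∨ S.kk + 1 = Nat.card S.unip) (x : F) :
    x ∈ S.K0 ↔ x ∈ S.TT := by
  constructor
  · exact stabField_le S.TT (Set.toFinite _) (S.one_mem_TT hτ) x
  · apply stabField_eq S.TT (Set.toFinite _) (S.one_mem_TT hτ)
    rw [S.card_TT]
    have := S.kk_lt_card_K0 (p := p)
    change S.kk + 1 ≤ Nat.card (stabField S.TT (Set.toFinite _)) at this
    rcases hk with h | h <;> omega

end charp

end finite

section normalized

variable [Fintype F] [Finite G] {p : ℕ} [hpF : Fact p.Prime] [CharP F p]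

omit [Fintype F] [Finite G] in
theorem not_mem_borel_of_zero {w : G} (hw : S.m w 0 0 = 0) : w ∉ S.borel := by
  intro h
  have := S.m_det' w
  rw [hw, (S.mem_borel w).mp h] at this
  simp at this

omit [Fintype F] in
theorem ratio_mem (hidx : S.borel.index = Nat.card S.unip + 1) {w : G} (hw : S.m w 0 0 = 0)
    (g : G) (hg : g ∉ S.borel) : ∃ x ∈ S.TT, S.m g 0 0 = x * S.m g 1 0 := by
  obtain ⟨u, hu, b, hb, rfl⟩ := S.exists_eq_of_index hidx w g (S.not_mem_borel_of_zero hw) hg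
  refine ⟨S.m u 0 1, S.mem_TT_of_mem_unip hu, ?_⟩
  have hb' : S.m b⁻¹ 1 0 = 0 := (S.mem_borel _).mp (S.borel.inv_mem hb)
  have hu10 : S.m u 1 0 = 0 := hu.1
  have hu00 : S.m u 0 0 = 1 := hu.2
  have hu11 : S.m u 1 1 = 1 := by
    have := S.m_diag_of_mem_borel (S.unip_le_borel hu)
    rw [hu00, one_mul] at this
    exact this
  simp only [Emb.m_mul_apply, hb', hw, hu10, hu00, hu11]
  ring

omit [Fintype F] in
theorem borel_entry_mem (hidx : S.borel.index = Nat.card S.unip + 1) {w : G}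
    (hw : S.m w 0 0 = 0) {b : G} (hb : b ∈ S.borel) : S.m b 0 0 * S.m b 0 1 ∈ S.TT := by
  have hwB := S.not_mem_borel_of_zero hw
  have hbw : b * w ∉ S.borel := by
    intro h
    apply hwB
    have := S.borel.mul_mem (S.borel.inv_mem hb) h
    simpa using this
  obtain ⟨x, hx, hxe⟩ := S.ratio_mem hidx hw (b * w) hbw
  have hb10 : S.m b 1 0 = 0 := (S.mem_borel b).mp hb
  have hw10 : S.m w 1 0 ≠ 0 := fun h => hwB ((S.mem_borel w).mpr h)
  simp only [Emb.m_mul_apply, hw, hb10, mul_zero, zero_mul, zero_add] at hxe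
  have h1 : S.m b 0 1 = x * S.m b 1 1 := by
    apply mul_right_cancel₀ hw10
    linear_combination hxe
  have hd := S.m_diag_of_mem_borel hb
  have : S.m b 0 0 * S.m b 0 1 = x := by
    rw [h1]
    linear_combination x * hd
  rw [this]
  exact hx

include hpF in
/-- Every element is a scalar multiple of a matrix over `K₀`. -/
theorem exists_scalar (hτ : S.τ = 1)
    (hk : 2 * S.kk + 1 = Nat.card S.unip ∨ S.kk + 1 = Nat.card S.unip)
    (hidx : S.borel.index = Nat.card S.unip + 1) {w : G} (hw : S.m w 0 0 = 0) (g : G) :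
    ∃ μ : F, μ ≠ 0 ∧ ∀ i j, μ * S.m g i j ∈ S.K0 := by
  have hK : ∀ x, x ∈ S.K0 ↔ x ∈ S.TT := S.mem_K0_iff (p := p) hτ hk
  by_cases hg : g ∈ S.borel
  · have hd := S.m_diag_of_mem_borel hg
    have hd0 : S.m g 0 0 ≠ 0 := left_ne_zero_of_mul_eq_one hd
    refine ⟨S.m g 0 0, hd0, ?_⟩
    intro i j
    fin_cases i <;> fin_cases j
    · change S.m g 0 0 * S.m g 0 0 ∈ S.K0
      rw [← pow_two]
      exact S.sq_mem_K0 hg
    · change S.m g 0 0 * S.m g 0 1 ∈ S.K0
      rw [hK]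
      exact S.borel_entry_mem hidx hw hg
    · change S.m g 0 0 * S.m g 1 0 ∈ S.K0
      rw [(S.mem_borel g).mp hg, mul_zero]
      exact S.K0.zero_mem
    · change S.m g 0 0 * S.m g 1 1 ∈ S.K0
      rw [hd]
      exact S.K0.one_mem
  · have hc : S.m g 1 0 ≠ 0 := fun h => hg ((S.mem_borel g).mpr h)
    have hginv : g⁻¹ ∉ S.borel := fun h => hg (by simpa using S.borel.inv_mem h)
    obtain ⟨x₁, hx₁, he₁⟩ := S.ratio_mem hidx hw g hg
    obtain ⟨x₂, hx₂, he₂⟩ := S.ratio_mem hidx hw g⁻¹ hginv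
    rw [Emb.m_inv] at he₂
    simp only [Matrix.of_apply, Matrix.cons_val', Matrix.cons_val_one, Matrix.cons_val_zero] at he₂
    -- `x₀ = 1 - (x₁ - x₂)`
    have hx₀ : 1 - (x₁ - x₂) ∈ S.TT :=
      S.TT.sub_mem (S.one_mem_TT hτ) (S.TT.sub_mem hx₁ hx₂)
    obtain ⟨u₀, hu₀, hm₀⟩ := S.exists_unip_of_mem_TT hx₀
    have hdet := S.m_det' g
    have hh10 : S.m (g * u₀ * g) 1 0 = S.m g 1 0 ^ 2 := by
      rw [Emb.m_mul, Emb.m_mul, hm₀]
      simp [Matrix.mul_apply, Fin.sum_univ_two]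
      rw [he₁, he₂]
      ring
    have hh : g * u₀ * g ∉ S.borel := by
      intro h
      rw [S.mem_borel, hh10] at h
      exact hc (pow_eq_zero_iff (two_ne_zero) |>.mp h)
    obtain ⟨x₃, hx₃, he₃⟩ := S.ratio_mem hidx hw (g * u₀ * g) hh
    rw [hh10] at he₃
    have hh00 : S.m (g * u₀ * g) 0 0 = S.m g 0 0 ^ 2 + S.m g 0 0 * S.m g 1 0 * (1 - (x₁ - x₂)) +
        S.m g 0 1 * S.m g 1 0 := by
      rw [Emb.m_mul, Emb.m_mul, hm₀]
      simp [Matrix.mul_apply, Fin.sum_univ_two]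
      ring
    rw [hh00] at he₃
    refine ⟨(S.m g 1 0)⁻¹, inv_ne_zero hc, ?_⟩
    intro i j
    fin_cases i <;> fin_cases j
    · change (S.m g 1 0)⁻¹ * S.m g 0 0 ∈ S.K0
      rw [he₁, mul_comm, mul_assoc, mul_inv_cancel₀ hc, mul_one, hK]
      exact hx₁
    · change (S.m g 1 0)⁻¹ * S.m g 0 1 ∈ S.K0
      have : (S.m g 1 0)⁻¹ * S.m g 0 1 = x₃ - x₁ ^ 2 - x₁ * (1 - (x₁ - x₂)) := by
        rw [he₁] at he₃
        have hβ : S.m g 0 1 = S.m g 1 0 * (x₃ - x₁ ^ 2 - x₁ * (1 - (x₁ - x₂))) := by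
          apply mul_right_cancel₀ hc
          linear_combination he₃
        rw [hβ, ← mul_assoc, inv_mul_cancel₀ hc, one_mul]
      rw [this, hK]
      rw [← hK] at hx₁ hx₂ hx₃ hx₀
      rw [← hK]
      exact S.K0.sub_mem (S.K0.sub_mem hx₃ (S.K0.pow_mem hx₁ 2)) (S.K0.mul_mem hx₁ hx₀)
    · change (S.m g 1 0)⁻¹ * S.m g 1 0 ∈ S.K0
      rw [inv_mul_cancel₀ hc]
      exact S.K0.one_mem
    · change (S.m g 1 0)⁻¹ * S.m g 1 1 ∈ S.K0
      have : (S.m g 1 0)⁻¹ * S.m g 1 1 = -x₂ := by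
        field_simp
        linear_combination he₂
      rw [this, hK]
      exact S.TT.neg_mem hx₂

end normalized

end UEmb

end Cfsg.Agent.Lib.Helper13.Dk
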