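/-
helper13: normalisation of an embedding `G → SL₂(F)` containing a non-scalar element of trace `±2`:
after conjugation a unipotent element becomes the standard transvection.
-/
import Mathlib
import Cfsg.Agent.Lib.Helper13.DkTwoTrans
import Cfsg.Agent.Lib.Helper13.DkPGL

set_option autoImplicit false

namespace Cfsg.Agent.Lib.Helper13.Dk

open Subgroup Matrix Cfsg.Agent.Lib.Helper13 Cfsg.Agent.Lib.Helper29.Dickson

section mat

variable {F : Type*} [Field F]

theorem twist_injective (c : F) (hc : c ≠ 0) : Function.Injective (twist c hc) := by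
  intro X Y h
  have h' : ((twist c hc X : SpecialLinearGroup (Fin 2) F) : Matrix (Fin 2) (Fin 2) F) =
      ((twist c hc Y : SpecialLinearGroup (Fin 2) F) : Matrix (Fin 2) (Fin 2) F) := by rw [h]
  rw [twist_coe, twist_coe] at h'
  have e00 := congr_fun (congr_fun h' 0) 0
  have e01 := congr_fun (congr_fun h' 0) 1
  have e10 := congr_fun (congr_fun h' 1) 0
  have e11 := congr_fun (congr_fun h' 1) 1
  simp only [Matrix.of_apply, Matrix.cons_val', Matrix.cons_val_zero,
    Matrix.cons_val_one, Matrix.empty_val', Matrix.cons_val_fin_one] at e00 e01 e10 e11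
  apply Subtype.ext
  ext i j
  fin_cases i <;> fin_cases j
  · exact e00
  · exact mul_right_cancel₀ (inv_ne_zero hc) e01
  · exact mul_right_cancel₀ hc e10
  · exact e11

theorem twist_tSL (t : F) (ht : t ≠ 0) : twist t ht (tSL t) = tSL 1 := by
  apply Subtype.ext
  rw [twist_coe, tSL_coe, tSL_coe]
  ext i j
  fin_cases i <;> fin_cases j <;> simp [ht]

/-- A non-scalar element of `SL₂(F)` with trace `±2` has a non-trivial unipotent power. -/
theorem exists_unipotent_pow (M : SpecialLinearGroup (Fin 2) F)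
    (hsc : ¬ Emb.sc (M : Matrix (Fin 2) (Fin 2) F))
    (htr : (M : Matrix (Fin 2) (Fin 2) F).trace ^ 2 = 4) :
    ∃ n : ℕ, (((M ^ n : SpecialLinearGroup (Fin 2) F) : Matrix (Fin 2) (Fin 2) F) - 1) ^ 2 = 0 ∧
      M ^ n ≠ 1 := by
  set A : Matrix (Fin 2) (Fin 2) F := (M : Matrix (Fin 2) (Fin 2) F) with hA
  have hch := cayley_hamilton_two A M.2
  rw [← Matrix.trace_fin_two] at hch
  set t := A.trace with ht
  have hne1 : ∀ n : ℕ, ((M ^ n : SpecialLinearGroup (Fin 2) F) : Matrix (Fin 2) (Fin 2) F) ≠ 1 →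
      M ^ n ≠ 1 := by
    intro n h h1
    apply h
    rw [h1]; rfl
  by_cases h2 : t = 2
  · refine ⟨1, ?_, ?_⟩
    · rw [pow_one, ← hA]
      have : (A - 1) ^ 2 = A * A - A - A + 1 := by noncomm_ring
      rw [this, hch, h2, two_smul]
      abel
    · apply hne1
      rw [pow_one, ← hA]
      intro h1
      apply hsc
      rw [h1]
      refine ⟨by simp, by simp, by simp⟩
  · have h3 : t = -2 := by
      have : (t - 2) * (t + 2) = 0 := by linear_combination htr
      rcases mul_eq_zero.mp this with h | h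
      · exact absurd (sub_eq_zero.mp h) h2
      · exact eq_neg_of_add_eq_zero_left h
    have hM2 : ((M ^ 2 : SpecialLinearGroup (Fin 2) F) : Matrix (Fin 2) (Fin 2) F) = A * A := by
      rw [pow_two, Matrix.SpecialLinearGroup.coe_mul]
    have h20 : (2 : F) ≠ 0 := by
      intro h0
      apply h2
      rw [h3]
      linear_combination (-2 : F) * h0
    refine ⟨2, ?_, ?_⟩
    · rw [hM2]
      have h1 : A * A - 1 = (-2 : F) • (A + 1) := by
        rw [hch, h3, smul_add]
        have : ((-2 : F) • (1 : Matrix (Fin 2) (Fin 2) F)) = -1 - 1 := by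
          rw [neg_smul, two_smul]; abel
        rw [this]; abel
      have h4 : (A + 1) * (A + 1) = 0 := by
        have : (A + 1) * (A + 1) = A * A + A + A + 1 := by noncomm_ring
        rw [this, hch, h3, neg_smul, two_smul]
        abel
      rw [pow_two, h1, smul_mul_smul_comm, h4, smul_zero]
    · apply hne1
      rw [hM2]
      intro h1
      apply hsc
      rw [h1, h3] at hch
      have e00 := congr_fun (congr_fun hch 0) 0
      have e01 := congr_fun (congr_fun hch 0) 1
      have e10 := congr_fun (congr_fun hch 1) 0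
      have e11 := congr_fun (congr_fun hch 1) 1
      simp at e00 e01 e10 e11
      refine ⟨e01.resolve_left h20, e10.resolve_left h20, ?_⟩
      have : (2 : F) * (A 0 0 - A 1 1) = 0 := by linear_combination e00 - e11
      exact sub_eq_zero.mp ((mul_eq_zero.mp this).resolve_left h20)

end mat

namespace Emb

variable {F : Type*} [Field F] {G : Type*} [Group G] (S : Emb F G)

/-- The conjugate embedding `g ↦ B⁻¹ φ(g) B`. -/
def conj (B : SpecialLinearGroup (Fin 2) F) : Emb F G where
  φ := (MulAut.conj B⁻¹).toMonoidHom.comp S.φ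
  inj := (MulAut.conj B⁻¹).injective.comp S.inj

theorem conj_φ (B : SpecialLinearGroup (Fin 2) F) (g : G) :
    (S.conj B).φ g = B⁻¹ * S.φ g * B := by
  simp [conj, MulAut.conj_apply]

/-- The twisted embedding. -/
def tw (c : F) (hc : c ≠ 0) : Emb F G where
  φ := (twist c hc).comp S.φ
  inj := (twist_injective c hc).comp S.inj

theorem tw_φ (c : F) (hc : c ≠ 0) (g : G) : (S.tw c hc).φ g = twist c hc (S.φ g) := rfl

theorem sc_conj_iff (B : SpecialLinearGroup (Fin 2) F) (g : G) :
    sc ((S.conj B).m g) ↔ sc (S.m g) := by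
  rw [sc_iff_mem_center, sc_iff_mem_center, conj_φ]
  have hn : (center (SpecialLinearGroup (Fin 2) F)).Normal := inferInstance
  constructor
  · intro h
    have := hn.conj_mem _ h B
    simpa [mul_assoc] using this
  · intro h
    have := hn.conj_mem _ h B⁻¹
    simpa [mul_assoc] using this

theorem sc_tw_iff (c : F) (hc : c ≠ 0) (g : G) :
    sc ((S.tw c hc).m g) ↔ sc (S.m g) := by
  have : (S.tw c hc).m g = !![S.m g 0 0, S.m g 0 1 * c⁻¹; S.m g 1 0 * c, S.m g 1 1] := by
    change ((twist c hc (S.φ g) : SpecialLinearGroup (Fin 2) F) : Matrix (Fin 2) (Fin 2) F) = _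
    rw [twist_coe]; rfl
  rw [this]
  simp [sc, hc]

/-- Normal form: a standard transvection in the image, and either the image is triangular or some
element has zero upper-left entry. -/
theorem exists_normal_form (y : G) (hy : ¬ sc (S.m y)) (htr : S.tr y ^ 2 = 4) :
    ∃ (S' : Emb F G) (u : G), S'.φ u = tSL 1 ∧ (∀ g, sc (S'.m g) ↔ sc (S.m g)) ∧
      ((∀ g, S'.m g 1 0 = 0) ∨ ∃ w, S'.m w 0 0 = 0) := by
  obtain ⟨n, hn1, hn2⟩ := exists_unipotent_pow (S.φ y) hy htr
  set u := y ^ n with hu
  rw [← map_pow] at hn1 hn2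
  obtain ⟨B, t, ht, hB⟩ := exists_conj_tSL (S.φ u) hn1 hn2
  set S₁ := S.conj B with hS₁
  have h₁ : S₁.φ u = tSL t := by
    rw [hS₁, conj_φ, mul_assoc, hB, ← mul_assoc, inv_mul_cancel, one_mul]
  set S₂ := S₁.tw t ht with hS₂
  have h₂ : S₂.φ u = tSL 1 := by
    rw [hS₂, tw_φ, h₁, twist_tSL]
  have hsc₂ : ∀ g, sc (S₂.m g) ↔ sc (S.m g) := fun g =>
    (S₁.sc_tw_iff t ht g).trans (S.sc_conj_iff B g)
  by_cases hall : ∀ g, S₂.m g 1 0 = 0
  · exact ⟨S₂, u, h₂, hsc₂, Or.inl hall⟩
  · push Not at hall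
    obtain ⟨w, hw⟩ := hall
    set x := S₂.m w 0 0 / S₂.m w 1 0 with hx
    set S₃ := S₂.conj (tSL x) with hS₃
    have h₃ : S₃.φ u = tSL 1 := by
      rw [hS₃, conj_φ, h₂, UEmb.tSL_inv, tSL_mul, tSL_mul]
      congr 1
      ring
    refine ⟨S₃, u, h₃, fun g => (S₂.sc_conj_iff (tSL x) g).trans (hsc₂ g), Or.inr ⟨w, ?_⟩⟩
    have hm : S₃.m w = !![1, -x; 0, 1] * S₂.m w * !![1, x; 0, 1] := by
      change ((S₃.φ w : SpecialLinearGroup (Fin 2) F) : Matrix (Fin 2) (Fin 2) F) = _
      rw [hS₃, conj_φ, UEmb.tSL_inv, Matrix.SpecialLinearGroup.coe_mul,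
        Matrix.SpecialLinearGroup.coe_mul, tSL_coe, tSL_coe]
      rfl
    rw [hm, Matrix.mul_apply, Fin.sum_univ_two, Matrix.mul_apply, Matrix.mul_apply,
      Fin.sum_univ_two, Fin.sum_univ_two]
    simp
    rw [hx]
    field_simp
    ring

end Emb

end Cfsg.Agent.Lib.Helper13.Dk
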