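/-
helper13: Dickson's theorem on the subgroups of `PSL₂(q)` (weak isomorphism-type form), assembled
from the class equation analysis.
-/
import Mathlib
import Cfsg.Agent.Lib.Helper13.DkNorm
import Cfsg.Agent.Lib.Helper13.DkDih
import Cfsg.Agent.Lib.Helper13.PSSL

set_option autoImplicit false

namespace Cfsg.Agent.Lib.Helper13.Dk

open Subgroup Matrix Cfsg.Agent.Lib.Helper13 Cfsg.Agent.Lib.Helper29.Dickson

/-- The conclusion of Dickson's theorem for a group `X`. -/
def Concl (F : Type*) [Field F] [Fintype F] (q p : ℕ) [Fact p.Prime] (X : Type*) [Group X] : Prop :=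
  (∃ k : ℕ, (k ∣ (q + 1) / Nat.gcd 2 (q - 1) ∨ k ∣ (q - 1) / Nat.gcd 2 (q - 1)) ∧
    ((IsCyclic X ∧ Nat.card X = k) ∨ Nonempty (X ≃* DihedralGroup k))) ∨
  (∃ (P : Sylow p (Matrix.ProjectiveSpecialLinearGroup (Fin 2) F))
    (K : Subgroup (Matrix.ProjectiveSpecialLinearGroup (Fin 2) F)),
    K ≤ Subgroup.normalizer ((P : Subgroup (Matrix.ProjectiveSpecialLinearGroup (Fin 2) F)) :
      Set (Matrix.ProjectiveSpecialLinearGroup (Fin 2) F)) ∧ Nonempty (X ≃* K)) ∨
  Nonempty (X ≃* alternatingGroup (Fin 4)) ∨ Nonempty (X ≃* Equiv.Perm (Fin 4)) ∨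
  Nonempty (X ≃* alternatingGroup (Fin 5)) ∨
  (∃ (K : Type) (_ : Field K) (_ : Fintype K) (m : ℕ), Fintype.card K ^ m = q ∧
    (Nonempty (X ≃* Matrix.ProjectiveSpecialLinearGroup (Fin 2) K) ∨
      Nonempty (X ≃* Matrix.ProjGenLinGroup (Fin 2) K)))

/-- The refined triangular alternative: `X` embeds in the normaliser of a Sylow `p`-subgroup, its
order divides `q (q - 1) / d`, and its commutator subgroup is a `p`-group. -/
def ConclN (F : Type*) [Field F] [Fintype F] (q p : ℕ) [Fact p.Prime] (X : Type*) [Group X] :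
    Prop :=
  (∃ (P : Sylow p (Matrix.ProjectiveSpecialLinearGroup (Fin 2) F))
    (K : Subgroup (Matrix.ProjectiveSpecialLinearGroup (Fin 2) F)),
    K ≤ Subgroup.normalizer ((P : Subgroup (Matrix.ProjectiveSpecialLinearGroup (Fin 2) F)) :
      Set (Matrix.ProjectiveSpecialLinearGroup (Fin 2) F)) ∧ Nonempty (X ≃* K)) ∧
  Nat.card X * Nat.gcd 2 (q - 1) ∣ q * (q - 1) ∧ IsPGroup p (commutator X)

/-- The refined conclusion of Dickson's theorem. -/
def Concl' (F : Type*) [Field F] [Fintype F] (q p : ℕ) [Fact p.Prime] (X : Type*) [Group X] :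
    Prop :=
  (∃ k : ℕ, (k ∣ (q + 1) / Nat.gcd 2 (q - 1) ∨ k ∣ (q - 1) / Nat.gcd 2 (q - 1)) ∧
    ((IsCyclic X ∧ Nat.card X = k) ∨ Nonempty (X ≃* DihedralGroup k))) ∨
  ConclN F q p X ∨
  Nonempty (X ≃* alternatingGroup (Fin 4)) ∨ Nonempty (X ≃* Equiv.Perm (Fin 4)) ∨
  Nonempty (X ≃* alternatingGroup (Fin 5)) ∨
  (∃ (K : Type) (_ : Field K) (_ : Fintype K) (m : ℕ), Fintype.card K ^ m = q ∧
    (Nonempty (X ≃* Matrix.ProjectiveSpecialLinearGroup (Fin 2) K) ∨
      Nonempty (X ≃* Matrix.ProjGenLinGroup (Fin 2) K)))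

theorem Concl'.toConcl {F : Type*} [Field F] [Fintype F] {q p : ℕ} [Fact p.Prime] {X : Type*}
    [Group X] (h : Concl' F q p X) : Concl F q p X := by
  rcases h with h | h | h | h | h | h
  · exact Or.inl h
  · exact Or.inr (Or.inl h.1)
  · exact Or.inr (Or.inr (Or.inl h))
  · exact Or.inr (Or.inr (Or.inr (Or.inl h)))
  · exact Or.inr (Or.inr (Or.inr (Or.inr (Or.inl h))))
  · exact Or.inr (Or.inr (Or.inr (Or.inr (Or.inr h))))

namespace UEmb

variable {F : Type*} [Field F] [Fintype F] {G : Type*} [Group G] [Finite G] (S : UEmb F G)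
  {p : ℕ} [hpF : Fact p.Prime] [CharP F p]

include hpF in
theorem card_K0 (hτ : S.τ = 1)
    (hk : 2 * S.kk + 1 = Nat.card S.unip ∨ S.kk + 1 = Nat.card S.unip) :
    Nat.card S.K0 = Nat.card S.unip := by
  rw [← S.card_TT]
  apply Nat.card_congr
  exact Equiv.subtypeEquivRight (fun x => S.mem_K0_iff (p := p) hτ hk x)

include hpF in
/-- The doubly transitive case: `G / Z(G)` is `PSL₂(K)` or `PGL₂(K)`. -/
theorem exists_field (hτ : S.τ = 1)
    (hk : 2 * S.kk + 1 = Nat.card S.unip ∨ S.kk + 1 = Nat.card S.unip)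
    (hidx : S.borel.index = Nat.card S.unip + 1) {w : G} (hw : S.m w 0 0 = 0) :
    ∃ (K : Type) (_ : Field K) (_ : Fintype K) (m : ℕ), Fintype.card K ^ m = Fintype.card F ∧
      (Nonempty (G ⧸ center G ≃* Matrix.ProjectiveSpecialLinearGroup (Fin 2) K) ∨
        Nonempty (G ⧸ center G ≃* Matrix.ProjGenLinGroup (Fin 2) K)) := by
  classical
  let K := Shrink.{0} S.K0
  let σ : K ≃+* S.K0 := Shrink.ringEquiv _
  have hfin : Finite K := Finite.of_equiv S.K0 σ.symm.toEquiv
  let hft : Fintype K := Fintype.ofFinite K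
  let ι : K →+* F := S.K0.subtype.comp σ.toRingHom
  have hcardK : Nat.card K = Nat.card S.unip :=
    (Nat.card_congr σ.toEquiv).trans (S.card_K0 (p := p) hτ hk)
  have hK : ∀ g : G, ∃ μ : F, μ ≠ 0 ∧ ∀ i j, ∃ a : K, ι a = μ * S.m g i j := by
    intro g
    obtain ⟨μ, hμ, h⟩ := S.exists_scalar (p := p) hτ hk hidx hw g
    refine ⟨μ, hμ, fun i j => ⟨σ.symm ⟨_, h i j⟩, ?_⟩⟩
    simp [ι]
  have hpow : Fintype.card K ^ Module.finrank S.K0 F = Fintype.card F := by
    have h1 := Module.natCard_eq_pow_finrank (K := S.K0) (V := F)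
    rw [← Nat.card_eq_fintype_card, ← Nat.card_eq_fintype_card, h1,
      Nat.card_congr σ.toEquiv]
  have hG : Nat.card G =
      Nat.card (center G) * (Nat.card S.unip * S.kk * (Nat.card S.unip + 1)) := by
    rw [← Subgroup.card_mul_index S.borel, S.card_borel', hidx]
    ring
  refine ⟨K, inferInstance, hft, Module.finrank S.K0 F, hpow, ?_⟩
  rcases hk with h | h
  · left
    have hp2 : p ≠ 2 := by
      intro hp2
      obtain ⟨n, hn⟩ := IsPGroup.iff_card.mp (S.isPGroup_unip (p := p))
      have h2 := S.two_le_card_unip (p := p)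
      rw [hn, hp2] at h h2
      have hn0 : n ≠ 0 := by
        intro h0
        rw [h0] at h2
        norm_num at h2
      have : 2 ∣ 2 ^ n := dvd_pow_self 2 hn0
      omega
    apply S.toEmb.nonempty_equiv_PSL S.hna ι hK hp2
    rw [hG, hcardK, ← h]
    have : (2 * S.kk + 1) ^ 2 - 1 = 2 * S.kk * (2 * S.kk + 2) := by
      apply Nat.sub_eq_of_eq_add
      ring
    rw [this]
    ring
  · right
    apply S.toEmb.nonempty_equiv_PGL S.hna ι hK
    rw [hG, hcardK, ← h]
    have : (S.kk + 1) ^ 2 - 1 = S.kk * (S.kk + 2) := by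
      apply Nat.sub_eq_of_eq_add
      ring
    rw [this]
    ring

end UEmb

namespace Emb

variable {F : Type*} [Field F] [Fintype F] {G : Type*} [Group G] [Finite G] (S : Emb F G)
  {X : Type*} [Group X]

theorem card_borelSL_eq : Nat.card (borelSL F) = Fintype.card F * (Fintype.card F - 1) := by
  classical
  rw [Nat.card_congr (slEquiv F), Nat.card_prod, Nat.card_eq_fintype_card, Nat.card_eq_fintype_card,
    Fintype.card_units, mul_comm]

/-- The triangular case: the projective image normalises a Sylow `p`-subgroup. -/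
theorem borel_case (p : ℕ) [hpF : Fact p.Prime] [CharP F p] (hall : ∀ g, S.m g 1 0 = 0)
    (π : G →* X) (hπ : Function.Surjective π) (hker : ∀ g, π g = 1 ↔ sc (S.m g))
    (d : ℕ) (hd : Nat.card π.ker = d) :
    (∃ (P : Sylow p (Matrix.ProjectiveSpecialLinearGroup (Fin 2) F))
      (K : Subgroup (Matrix.ProjectiveSpecialLinearGroup (Fin 2) F)),
      K ≤ Subgroup.normalizer ((P : Subgroup (Matrix.ProjectiveSpecialLinearGroup (Fin 2) F)) :
        Set (Matrix.ProjectiveSpecialLinearGroup (Fin 2) F)) ∧ Nonempty (X ≃* K)) ∧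
    Nat.card X * d ∣ Fintype.card F * (Fintype.card F - 1) ∧ IsPGroup p (commutator X) := by
  classical
  let q' : SpecialLinearGroup (Fin 2) F →* Matrix.ProjectiveSpecialLinearGroup (Fin 2) F :=
    QuotientGroup.mk' (center (SpecialLinearGroup (Fin 2) F))
  have hq' : Function.Surjective q' := QuotientGroup.mk'_surjective _
  let ψ : G →* Matrix.ProjectiveSpecialLinearGroup (Fin 2) F := q'.comp S.φ
  refine ⟨⟨(sylowUnipSL (F := F) p).mapSurjective hq', ψ.range, ?_, ?_⟩, ?_, ?_⟩
  · rintro _ ⟨g, rfl⟩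
    have h1 : S.φ g ∈ normalizer ((unipSL F : Subgroup (SpecialLinearGroup (Fin 2) F)) :
        Set (SpecialLinearGroup (Fin 2) F)) := upper_mem_normalizer_unipSL (hall g)
    rw [Sylow.coe_mapSurjective, coe_sylowUnipSL]
    exact Subgroup.le_normalizer_map q' (Subgroup.mem_map_of_mem q' h1)
  · have hkk : π.ker = ψ.ker := by
      ext g
      rw [MonoidHom.mem_ker, MonoidHom.mem_ker, hker, S.sc_iff_mem_center]
      change _ ↔ q' (S.φ g) = 1
      rw [QuotientGroup.mk'_apply, QuotientGroup.eq_one_iff]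
    exact ⟨(QuotientGroup.quotientKerEquivOfSurjective π hπ).symm.trans
      ((QuotientGroup.quotientMulEquivOfEq hkk).trans (QuotientGroup.quotientKerEquivRange ψ))⟩
  · -- the order
    have h1 := card_eq_ker_mul π hπ
    rw [hd] at h1
    let f : G →* borelSL F :=
      S.φ.codRestrict (borelSL F) (fun g => mem_borelSL.mpr (hall g))
    have hf : Function.Injective f := by
      intro a b hab
      apply S.inj
      exact congrArg Subtype.val hab
    have h2 := Subgroup.card_dvd_of_injective f hf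
    rw [card_borelSL_eq, h1] at h2
    rwa [mul_comm]
  · -- the commutator subgroup
    let ι : G →* S.borel := (MonoidHom.id G).codRestrict S.borel (fun g => hall g)
    let δ' : G →* Fˣ := S.delta.comp ι
    have h1 : commutator G ≤ δ'.ker := Abelianization.commutator_subset_ker δ'
    have h2 : δ'.ker ≤ S.unip := by
      intro g hg
      have : ι g ∈ S.delta.ker := hg
      exact (S.mem_ker_delta (ι g)).mp this
    have h3 : IsPGroup p (commutator G) := (S.isPGroup_unip (p := p)).to_le (h1.trans h2)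
    have h4 : commutator X = (commutator G).map π := by
      rw [commutator_def, commutator_def, Subgroup.map_commutator,
        Subgroup.map_top_of_surjective π hπ]
    rw [h4]
    exact h3.map π

/-- The abelian semisimple case. -/
theorem cyclic_case (hab : ∀ x y : G, x * y = y * x)
    (hss : ∀ y : G, ¬ sc (S.m y) → S.tr y ^ 2 ≠ 4)
    (π : G →* X) (hπ : Function.Surjective π) (hker : ∀ g, π g = 1 ↔ sc (S.m g)) (d : ℕ)
    (hd : Nat.card π.ker = d) :
    ∃ k : ℕ, (k ∣ (Fintype.card F + 1) / d ∨ k ∣ (Fintype.card F - 1) / d) ∧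
      IsCyclic X ∧ Nat.card X = k := by
  by_cases hall : ∀ g, sc (S.m g)
  · have hsub : Subsingleton X := by
      constructor
      intro a b
      obtain ⟨g, rfl⟩ := hπ a
      obtain ⟨h, rfl⟩ := hπ b
      rw [(hker g).mpr (hall g), (hker h).mpr (hall h)]
    refine ⟨1, Or.inl (one_dvd _), isCyclic_of_subsingleton, ?_⟩
    exact Nat.card_unique
  · push Not at hall
    obtain ⟨g₀, hg₀⟩ := hall
    have htr := hss g₀ hg₀
    have htop : centralizer ({g₀} : Set G) = ⊤ := by
      rw [eq_top_iff]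
      intro x _
      rw [mem_centralizer_singleton_iff]
      exact (hab _ _).symm
    have hcyc := S.isCyclic_centralizer g₀ htr
    have hdvd := S.card_centralizer_dvd g₀ htr
    rw [htop] at hcyc hdvd
    rw [Subgroup.card_top] at hdvd
    have hG : IsCyclic G :=
      isCyclic_of_surjective (Subgroup.topEquiv (G := G)) Subgroup.topEquiv.surjective
    have hXc : IsCyclic X := isCyclic_of_surjective π hπ
    have hcard := card_eq_ker_mul π hπ
    rw [hd] at hcard
    rw [hcard] at hdvd
    refine ⟨Nat.card X, ?_, hXc, rfl⟩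
    rcases hdvd with h | h
    · right; exact Nat.dvd_div_of_mul_dvd h
    · left; exact Nat.dvd_div_of_mul_dvd h

/-- **Dickson's theorem** for a finite group embedded in `SL₂(F)` and a quotient `X` by its
scalars. -/
theorem dickson_main (p : ℕ) [hpF : Fact p.Prime] [CharP F p]
    (π : G →* X) (hπ : Function.Surjective π) (hker : ∀ g, π g = 1 ↔ sc (S.m g))
    (hd : Nat.card π.ker = Nat.gcd 2 (Fintype.card F - 1)) :
    Concl' F (Fintype.card F) p X := by
  unfold Concl'
  by_cases hss : ∀ y : G, ¬ sc (S.m y) → S.tr y ^ 2 ≠ 4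
  · by_cases hna : ∃ x y : G, x * y ≠ y * x
    · have hZ : π.ker = center G := by
        ext g
        rw [MonoidHom.mem_ker, hker, S.mem_center_iff_sc hna]
      rcases S.caseI hna hss with h | h | h | ⟨h, h5⟩
      · obtain ⟨k, hk, hiso⟩ := S.dih_of_dihType π hπ hZ h
        left
        refine ⟨k, ?_, Or.inr hiso⟩
        rw [← hZ, hd] at hk
        rcases hk with hk | hk
        · right; exact Nat.dvd_div_of_mul_dvd hk
        · left; exact Nat.dvd_div_of_mul_dvd hk
      · right; right; left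
        exact alt4_of_small π hπ hZ h
      · right; right; right; left
        exact sym4_of_small π hπ hZ h
      · right; right; right; right; left
        exact alt5_of_small π hπ hZ h h5
    · push Not at hna
      obtain ⟨k, hk, hc, hcard⟩ := S.cyclic_case hna hss π hπ hker _ hd
      left
      exact ⟨k, hk, Or.inl ⟨hc, hcard⟩⟩
  · push Not at hss
    obtain ⟨y, hy, htr⟩ := hss
    obtain ⟨S', u, hu, hsc, hcase⟩ := S.exists_normal_form y hy htr
    have hker' : ∀ g, π g = 1 ↔ sc (S'.m g) := fun g => (hker g).trans (hsc g).symm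
    rcases hcase with hall | ⟨w, hw⟩
    · right; left
      exact S'.borel_case p hall π hπ hker' _ hd
    · have hmu : S'.m u = !![1, 1; 0, 1] := by
        change ((S'.φ u : SpecialLinearGroup (Fin 2) F) : Matrix (Fin 2) (Fin 2) F) = _
        rw [hu, tSL_coe]
      have hw10 : S'.m w 1 0 ≠ 0 := by
        intro h0
        have := S'.m_det' w
        rw [hw, h0] at this
        simp at this
      have hna : ∃ x y : G, x * y ≠ y * x := by
        refine ⟨w, u, ?_⟩
        intro h
        have h1 : S'.m (w * u) 0 0 = S'.m (u * w) 0 0 := by rw [h]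
        rw [S'.m_mul_apply, S'.m_mul_apply, hmu, hw] at h1
        simp at h1
        exact hw10 h1.symm
      let U : UEmb F G :=
        { toEmb := S', a := u, τ := 1, hτ := one_ne_zero, ha := hu, hna := hna }
      have hnn : U.borel ≠ ⊤ := by
        intro h
        have : w ∈ U.borel := h ▸ mem_top w
        exact U.not_mem_borel_of_zero hw this
      have hZ : π.ker = center G := by
        ext g
        rw [MonoidHom.mem_ker, hker', S'.mem_center_iff_sc hna]
      rcases U.caseII (p := p) hnn with h | ⟨h, h5⟩ | ⟨hidx, hk⟩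
      · obtain ⟨k, hk, hiso⟩ := S'.dih_of_dihType π hπ hZ h
        left
        refine ⟨k, ?_, Or.inr hiso⟩
        rw [← hZ, hd] at hk
        rcases hk with hk | hk
        · right; exact Nat.dvd_div_of_mul_dvd hk
        · left; exact Nat.dvd_div_of_mul_dvd hk
      · right; right; right; right; left
        exact alt5_of_small π hπ hZ h h5
      · obtain ⟨K, hKf, hKt, m, hm, hiso⟩ := U.exists_field (p := p) rfl hk hidx hw
        right; right; right; right; right
        refine ⟨K, hKf, hKt, m, hm, ?_⟩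
        rcases hiso with ⟨⟨e⟩⟩ | ⟨⟨e⟩⟩
        · left; exact ⟨(equivQuot π hπ hZ).trans e⟩
        · right; exact ⟨(equivQuot π hπ hZ).trans e⟩

end Emb

end Cfsg.Agent.Lib.Helper13.Dk
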