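/-
helper13: refined form of Dickson's theorem for subgroups of `SL₂(F)`: the case distinction of the
proof is exported together with the normalising automorphism of `SL₂(F)`; in the subfield case the
(normalised) group consists of scalar multiples of matrices over a subfield.
-/
import Mathlib
import Cfsg.Agent.Lib.Helper13.DkFinal

set_option autoImplicit false

namespace Cfsg.Agent.Lib.Helper13.Dk

open Subgroup Matrix Cfsg.Agent.Lib.Helper13 Cfsg.Agent.Lib.Helper29.Dickson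

/-- Trace preserving injective endomorphisms of `SL₂(F)` (conjugations by elements of `GL₂(F)`). -/
structure Tw (F : Type*) [Field F] where
  hom : SpecialLinearGroup (Fin 2) F →* SpecialLinearGroup (Fin 2) F
  inj : Function.Injective hom
  tr_eq : ∀ A : SpecialLinearGroup (Fin 2) F,
    ((hom A : SpecialLinearGroup (Fin 2) F) : Matrix (Fin 2) (Fin 2) F).trace =
      (A : Matrix (Fin 2) (Fin 2) F).trace

namespace Tw

variable {F : Type*} [Field F]

/-- The identity. -/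
def id : Tw F where
  hom := MonoidHom.id _
  inj := Function.injective_id
  tr_eq := fun _ => rfl

/-- Conjugation `A ↦ B⁻¹ A B`. -/
def conj (B : SpecialLinearGroup (Fin 2) F) : Tw F where
  hom := (MulAut.conj B⁻¹).toMonoidHom
  inj := (MulAut.conj B⁻¹).injective
  tr_eq := by
    intro A
    change ((B⁻¹ * A * B⁻¹⁻¹ : SpecialLinearGroup (Fin 2) F) : Matrix (Fin 2) (Fin 2) F).trace = _
    rw [inv_inv, Matrix.SpecialLinearGroup.coe_mul, Matrix.SpecialLinearGroup.coe_mul,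
      Matrix.trace_mul_comm, ← Matrix.mul_assoc, ← Matrix.SpecialLinearGroup.coe_mul,
      mul_inv_cancel, Matrix.SpecialLinearGroup.coe_one, Matrix.one_mul]

/-- The twist. -/
def tw (c : F) (hc : c ≠ 0) : Tw F where
  hom := twist c hc
  inj := twist_injective c hc
  tr_eq := by
    intro A
    rw [twist_coe, Matrix.trace_fin_two, Matrix.trace_fin_two]
    rfl

/-- Composition. -/
def comp (Θ₂ Θ₁ : Tw F) : Tw F where
  hom := Θ₂.hom.comp Θ₁.hom
  inj := Θ₂.inj.comp Θ₁.inj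
  tr_eq := fun A => (Θ₂.tr_eq _).trans (Θ₁.tr_eq A)

theorem bijective [Finite F] (Θ : Tw F) : Function.Bijective Θ.hom :=
  Finite.injective_iff_bijective.mp Θ.inj

end Tw

namespace Emb

variable {F : Type*} [Field F] {G : Type*} [Group G] (S : Emb F G)

/-- Transport of an embedding along a `Tw`. -/
def app (Θ : Tw F) : Emb F G where
  φ := Θ.hom.comp S.φ
  inj := Θ.inj.comp S.inj

theorem app_φ (Θ : Tw F) (g : G) : (S.app Θ).φ g = Θ.hom (S.φ g) := rfl

theorem app_tr (Θ : Tw F) (g : G) : (S.app Θ).tr g = S.tr g := Θ.tr_eq (S.φ g)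

/-- Normal form with the normalising map. -/
theorem exists_normal_form' (y : G) (hy : ¬ sc (S.m y)) (htr : S.tr y ^ 2 = 4) :
    ∃ (Θ : Tw F) (u : G), (S.app Θ).φ u = tSL 1 ∧ (∀ g, sc ((S.app Θ).m g) ↔ sc (S.m g)) ∧
      ((∀ g, (S.app Θ).m g 1 0 = 0) ∨ ∃ w, (S.app Θ).m w 0 0 = 0) := by
  obtain ⟨n, hn1, hn2⟩ := exists_unipotent_pow (S.φ y) hy htr
  set u := y ^ n with hu
  rw [← map_pow] at hn1 hn2
  obtain ⟨B, t, ht, hB⟩ := exists_conj_tSL (S.φ u) hn1 hn2
  set S₁ := S.conj B with hS₁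
  have h₁ : S₁.φ u = tSL t := by
    rw [hS₁, conj_φ, mul_assoc, hB, ← mul_assoc, inv_mul_cancel, one_mul]
  set S₂ := S₁.tw t ht with hS₂
  have h₂ : S₂.φ u = tSL 1 := by
    rw [hS₂, tw_φ, h₁, twist_tSL]
  have hsc₂ : ∀ g, sc (S₂.m g) ↔ sc (S.m g) := fun g =>
    (S₁.sc_tw_iff t ht g).trans (S.sc_conj_iff B g)
  have e₂ : S₂ = S.app ((Tw.tw t ht).comp (Tw.conj B)) := rfl
  by_cases hall : ∀ g, S₂.m g 1 0 = 0
  · exact ⟨(Tw.tw t ht).comp (Tw.conj B), u, e₂ ▸ h₂, e₂ ▸ hsc₂, Or.inl (e₂ ▸ hall)⟩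
  · push Not at hall
    obtain ⟨w, hw⟩ := hall
    set x := S₂.m w 0 0 / S₂.m w 1 0 with hx
    set S₃ := S₂.conj (tSL x) with hS₃
    have h₃ : S₃.φ u = tSL 1 := by
      rw [hS₃, conj_φ, h₂, UEmb.tSL_inv, tSL_mul, tSL_mul]
      congr 1
      ring
    have e₃ : S₃ = S.app ((Tw.conj (tSL x)).comp ((Tw.tw t ht).comp (Tw.conj B))) := rfl
    refine ⟨(Tw.conj (tSL x)).comp ((Tw.tw t ht).comp (Tw.conj B)), u, e₃ ▸ h₃,
      e₃ ▸ (fun g => (S₂.sc_conj_iff (tSL x) g).trans (hsc₂ g)), Or.inr ⟨w, ?_⟩⟩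
    rw [← e₃]
    have hm : S₃.m w = !![1, -x; 0, 1] * S₂.m w * !![1, x; 0, 1] := by
      change ((S₃.φ w : SpecialLinearGroup (Fin 2) F) : Matrix (Fin 2) (Fin 2) F) = _
      rw [hS₃, conj_φ, UEmb.tSL_inv, Matrix.SpecialLinearGroup.coe_mul,
        Matrix.SpecialLinearGroup.coe_mul, tSL_coe, tSL_coe]
      rfl
    rw [hm, Matrix.mul_apply, Fin.sum_univ_two, Matrix.mul_apply, Matrix.mul_apply,
      Fin.sum_univ_two, Fin.sum_univ_two]
    simp
    rw [hx]
    field_simp
    ring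

end Emb

namespace UEmb

variable {F : Type*} [Field F] [Fintype F] {G : Type*} [Group G] [Finite G] (S : UEmb F G)
  {p : ℕ} [hpF : Fact p.Prime] [CharP F p]

include hpF in
theorem caseII' (hnn : S.borel ≠ ⊤) :
    S.DihType ∨ (Small G 60 5 ∧ HasFive G ∧ Nat.card S.unip = 3) ∨
      (S.borel.index = Nat.card S.unip + 1 ∧
        (2 * S.kk + 1 = Nat.card S.unip ∨ S.kk + 1 = Nat.card S.unip)) := by
  classical
  have hCA := S.caz
  obtain ⟨R, hR, haR⟩ := exists_reps_mem S.a S.a_not_mem_center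
  have heq := class_eq hCA hR
  rw [← Finset.add_sum_erase R _ haR, Emb.inv_gF_eq] at heq
  -- the other classes are semisimple
  have htr : ∀ g ∈ R.erase S.a, S.tr g ^ 2 ≠ 4 := by
    intro g hg h4
    have hgR := Finset.mem_of_mem_erase hg
    have hne : S.a ≠ g := (Finset.ne_of_mem_erase hg).symm
    have hsc : ¬ Emb.sc (S.m g) := fun h => hR.notMem g hgR (S.mem_center_of_sc h)
    exact hR.indep S.a haR g hgR hne (S.mem_cls_a (p := p) g hsc h4)
  have hnot : ∀ g ∈ R.erase S.a, g ∉ center G := fun g hg =>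
    hR.notMem g (Finset.mem_of_mem_erase hg)
  rw [Finset.sum_congr rfl (fun g hg => S.term_eq g (hnot g hg) (htr g hg))] at heq
  -- data
  set e := Nat.card (center G) with he
  set r := Nat.card S.unip with hr
  set k := S.kk with hk
  have hepos : 0 < e := Nat.card_pos
  have hr2 : 2 ≤ r := S.two_le_card_unip (p := p)
  have hk1 : 1 ≤ k := S.kk_pos
  have hkr : k + 1 ≤ r := S.kk_lt (p := p)
  obtain ⟨m, hm⟩ := S.exists_index_eq
  have hm1 : 1 ≤ m := by
    by_contra hcon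
    have hm0 : m = 0 := by omega
    rw [hm0, mul_zero, add_zero] at hm
    exact hnn (Subgroup.index_eq_one.mp hm)
  have hCa : Nat.card (centralizer ({S.a} : Set G)) = e * r := S.card_centralizer_a (p := p)
  have hNa : Nat.card (normalizer (centralizer ({S.a} : Set G) : Set G)) = e * r * k := by
    rw [S.normalizer_centralizer_a, S.card_borel']
  have hG : Nat.card G = e * (r * k * (1 + r * m)) := by
    rw [← Subgroup.card_mul_index S.borel, S.card_borel', hm]
    ring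
  have hgF : Emb.gF G = r * k * (1 + r * m) := by
    have h1 := Emb.card_eq_gF (G := G)
    rw [hG] at h1
    exact (Nat.eq_of_mul_eq_mul_left hepos h1).symm
  have hterm : ((Nat.card (centralizer ({S.a} : Set G)) : ℚ) - Nat.card (center G)) /
      Nat.card (normalizer (centralizer ({S.a} : Set G) : Set G)) =
      (1 - (r : ℚ)⁻¹) * (k : ℚ)⁻¹ := by
    rw [hCa, hNa, ← he]
    have he0 : (e : ℚ) ≠ 0 := by positivity
    have hr0 : (r : ℚ) ≠ 0 := by positivity
    have hk0 : (k : ℚ) ≠ 0 := by positivity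
    push_cast
    field_simp
  rw [hterm, ← add_assoc] at heq
  -- the diagonal torus
  have hK : 2 ≤ k → ∃ g ∈ R.erase S.a, Emb.cF g = k := by
    intro hk2
    obtain ⟨b, -, hbtr, hbC⟩ := S.exists_torus (p := p) hk2
    have hbZ : b ∉ center G := fun h => S.sc_of_tr_sq hbtr ((S.mem_center_iff_sc b).mp h)
    obtain ⟨g, hg, hbg⟩ := hR.cover b hbZ
    have hCg := card_centralizer_of_mem_cls hCA (hR.notMem g hg) hbg
    have hga : g ≠ S.a := by
      intro h
      rw [h, hCa, hbC] at hCg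
      have : k = r := Nat.eq_of_mul_eq_mul_left hepos hCg
      omega
    refine ⟨g, Finset.mem_erase.mpr ⟨hga, hg⟩, ?_⟩
    have h1 := Emb.card_centralizer_eq g
    rw [← hCg, hbC] at h1
    exact (Nat.eq_of_mul_eq_mul_left hepos h1).symm
  have key := arithB (R.erase S.a) Emb.cF Emb.tF (Emb.gF G) r k m hr2 hk1 hkr hm1 hgF
    (fun g hg => Emb.two_le_cF (hnot g hg))
    (fun g hg => (S.card_normalizer_eq g (htr g hg)).2) hK heq
  rcases key with ⟨g, hg, h1, h2⟩ | ⟨h1, h2, h3, g, hg, h4, h5⟩ | ⟨h1, h2⟩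
  · left
    refine ⟨g, htr g hg, ?_⟩
    rw [Emb.card_centralizer_eq g, Emb.card_eq_gF (G := G), ← h1, h2]
    ring
  · right; left
    refine ⟨Emb.small_of_reps hCA hR 60 5 h1 ?_, ⟨g, hnot g hg, ?_, ?_⟩, h2⟩
    · intro x hx
      by_cases hxa : x = S.a
      · have h6 := Emb.card_centralizer_eq S.a
        rw [hCa, h2] at h6
        have : Emb.cF S.a = 3 := (Nat.eq_of_mul_eq_mul_left hepos h6).symm
        rw [hxa, this]
        norm_num
      · exact h3 x (Finset.mem_erase.mpr ⟨hxa, hx⟩)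
    · rw [Emb.card_centralizer_eq g, h4]
    · rw [(S.card_normalizer_eq g (htr g hg)).1, Emb.card_centralizer_eq g, h4, h5]
      ring
  · right; right
    refine ⟨?_, h2⟩
    rw [hm, h1, mul_one, add_comm]


include hpF in
/-- The doubly transitive case: `G / Z(G)` is `PSL₂(K)` or `PGL₂(K)`. -/
theorem exists_field' (hτ : S.τ = 1)
    (hk : 2 * S.kk + 1 = Nat.card S.unip ∨ S.kk + 1 = Nat.card S.unip)
    (hidx : S.borel.index = Nat.card S.unip + 1) {w : G} (hw : S.m w 0 0 = 0) :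
    ∃ (K : Type) (_ : Field K) (_ : Fintype K) (m : ℕ), Fintype.card K ^ m = Fintype.card F ∧
      Fintype.card K = Nat.card S.K0 ∧
      ((2 * S.kk + 1 = Nat.card S.unip ∧
        Nonempty (G ⧸ center G ≃* Matrix.ProjectiveSpecialLinearGroup (Fin 2) K)) ∨
        (S.kk + 1 = Nat.card S.unip ∧
        Nonempty (G ⧸ center G ≃* Matrix.ProjGenLinGroup (Fin 2) K))) := by
  classical
  let K := Shrink.{0} S.K0
  let σ : K ≃+* S.K0 := Shrink.ringEquiv _
  have hfin : Finite K := Finite.of_equiv S.K0 σ.symm.toEquiv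
  let hft : Fintype K := Fintype.ofFinite K
  let ι : K →+* F := S.K0.subtype.comp σ.toRingHom
  have hcardK : Nat.card K = Nat.card S.unip :=
    (Nat.card_congr σ.toEquiv).trans (S.card_K0 (p := p) hτ hk)
  have hK : ∀ g : G, ∃ μ : F, μ ≠ 0 ∧ ∀ i j, ∃ a : K, ι a = μ * S.m g i j := by
    intro g
    obtain ⟨μ, hμ, h⟩ := S.exists_scalar (p := p) hτ hk hidx hw g
    refine ⟨μ, hμ, fun i j => ⟨σ.symm ⟨_, h i j⟩, ?_⟩⟩
    simp [ι]
  have hpow : Fintype.card K ^ Module.finrank S.K0 F = Fintype.card F := by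
    have h1 := Module.natCard_eq_pow_finrank (K := S.K0) (V := F)
    rw [← Nat.card_eq_fintype_card, ← Nat.card_eq_fintype_card, h1,
      Nat.card_congr σ.toEquiv]
  have hG : Nat.card G =
      Nat.card (center G) * (Nat.card S.unip * S.kk * (Nat.card S.unip + 1)) := by
    rw [← Subgroup.card_mul_index S.borel, S.card_borel', hidx]
    ring
  refine ⟨K, inferInstance, hft, Module.finrank S.K0 F, hpow, ?_, ?_⟩
  · rw [← Nat.card_eq_fintype_card]
    exact Nat.card_congr σ.toEquiv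
  rcases hk with h | h
  · left
    refine ⟨h, ?_⟩
    have hp2 : p ≠ 2 := by
      intro hp2
      obtain ⟨n, hn⟩ := IsPGroup.iff_card.mp (S.isPGroup_unip (p := p))
      have h2 := S.two_le_card_unip (p := p)
      rw [hn, hp2] at h h2
      have hn0 : n ≠ 0 := by
        intro h0
        rw [h0] at h2
        norm_num at h2
      have : 2 ∣ 2 ^ n := dvd_pow_self 2 hn0
      omega
    apply S.toEmb.nonempty_equiv_PSL S.hna ι hK hp2
    rw [hG, hcardK, ← h]
    have : (2 * S.kk + 1) ^ 2 - 1 = 2 * S.kk * (2 * S.kk + 2) := by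
      apply Nat.sub_eq_of_eq_add
      ring
    rw [this]
    ring
  · right
    refine ⟨h, ?_⟩
    apply S.toEmb.nonempty_equiv_PGL S.hna ι hK
    rw [hG, hcardK, ← h]
    have : (S.kk + 1) ^ 2 - 1 = S.kk * (S.kk + 2) := by
      apply Nat.sub_eq_of_eq_add
      ring
    rw [this]
    ring

end UEmb

namespace Emb

variable {F : Type*} [Field F] [Fintype F] {G : Type*} [Group G] [Finite G] (S : Emb F G)

/-- The subfield alternative: after normalisation every element is a scalar multiple of a matrix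
over the subfield `K₀`, and `G / Z(G)` is `PSL₂(K₀)` or `PGL₂(K₀)`. -/
def SubfieldCase : Prop :=
  ∃ (Θ : Tw F) (K₀ : Subfield F) (k : ℕ),
    (∀ g : G, ∃ μ : F, μ ≠ 0 ∧ ∀ i j, μ * (S.app Θ).m g i j ∈ K₀) ∧
    Nat.card G = Nat.card (center G) * (Nat.card K₀ * k * (Nat.card K₀ + 1)) ∧
    (∃ x y : G, x * y ≠ y * x) ∧
    ∃ (K : Type) (_ : Field K) (_ : Fintype K) (m : ℕ), Fintype.card K ^ m = Fintype.card F ∧
      Fintype.card K = Nat.card K₀ ∧
      ((2 * k + 1 = Nat.card K₀ ∧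
        Nonempty (G ⧸ center G ≃* Matrix.ProjectiveSpecialLinearGroup (Fin 2) K)) ∨
      (k + 1 = Nat.card K₀ ∧ Nonempty (G ⧸ center G ≃* Matrix.ProjGenLinGroup (Fin 2) K)))

/-- **Dickson's theorem, refined form**: the case distinction of the proof. -/
theorem dickson_refined (p : ℕ) [hpF : Fact p.Prime] [CharP F p] :
    (∀ y : G, ¬ sc (S.m y) → S.tr y ^ 2 ≠ 4) ∨
    (∃ Θ : Tw F, ∀ g, (S.app Θ).m g 1 0 = 0) ∨
    S.DihType ∨ (Small G 60 5 ∧ HasFive G ∧ p = 3) ∨ S.SubfieldCase := by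
  by_cases hss : ∀ y : G, ¬ sc (S.m y) → S.tr y ^ 2 ≠ 4
  · exact Or.inl hss
  right
  push Not at hss
  obtain ⟨y, hy, htr⟩ := hss
  obtain ⟨Θ, u, hu, hsc, hcase⟩ := S.exists_normal_form' y hy htr
  set S' := S.app Θ with hS'
  rcases hcase with hall | ⟨w, hw⟩
  · exact Or.inl ⟨Θ, hall⟩
  right
  have hmu : S'.m u = !![1, 1; 0, 1] := by
    change ((S'.φ u : SpecialLinearGroup (Fin 2) F) : Matrix (Fin 2) (Fin 2) F) = _
    rw [hu, tSL_coe]
  have hw10 : S'.m w 1 0 ≠ 0 := by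
    intro h0
    have := S'.m_det' w
    rw [hw, h0] at this
    simp at this
  have hna : ∃ x y : G, x * y ≠ y * x := by
    refine ⟨w, u, ?_⟩
    intro h
    have h1 : S'.m (w * u) 0 0 = S'.m (u * w) 0 0 := by rw [h]
    rw [S'.m_mul_apply, S'.m_mul_apply, hmu, hw] at h1
    simp at h1
    exact hw10 h1.symm
  let U : UEmb F G :=
    { toEmb := S', a := u, τ := 1, hτ := one_ne_zero, ha := hu, hna := hna }
  have hnn : U.borel ≠ ⊤ := by
    intro h
    have : w ∈ U.borel := h ▸ mem_top w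
    exact U.not_mem_borel_of_zero hw this
  rcases U.caseII' (p := p) hnn with h | ⟨h, h5, h3⟩ | ⟨hidx, hk⟩
  · left
    obtain ⟨g, hg1, hg2⟩ := h
    refine ⟨g, ?_, hg2⟩
    rw [← S.app_tr Θ g]
    exact hg1
  · right; left
    refine ⟨h, h5, ?_⟩
    obtain ⟨n, hn⟩ := IsPGroup.iff_card.mp (U.isPGroup_unip (p := p))
    rw [h3] at hn
    exact ((Nat.Prime.pow_eq_iff Nat.prime_three).mp hn.symm).1
  · right; right
    obtain ⟨K, hKf, hKt, m, hm, hcK, hiso⟩ := U.exists_field' (p := p) rfl hk hidx hw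
    have hcK0 : Nat.card U.K0 = Nat.card U.unip := U.card_K0 (p := p) rfl hk
    refine ⟨Θ, U.K0, U.kk, fun g => U.exists_scalar (p := p) rfl hk hidx hw g, ?_, hna,
      K, hKf, hKt, m, hm, hcK, ?_⟩
    · rw [hcK0, ← Subgroup.card_mul_index U.borel, U.card_borel', hidx]
      ring
    · rw [hcK0]
      exact hiso

end Emb

end Cfsg.Agent.Lib.Helper13.Dk
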