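/-
helper13: arithmetic for subfield subgroups of `PSL₂(q)`.
-/
import Mathlib

set_option autoImplicit false

namespace Cfsg.Agent.Lib.Helper13.Dk

/-- If `p^{2a} - 1` divides `2 (p^{2b} - 1)` then `a ∣ b`. -/
theorem dvd_of_sq_sub_one_dvd {p a b : ℕ} (hp : 2 ≤ p) (ha : 1 ≤ a)
    (h : (p ^ a) ^ 2 - 1 ∣ 2 * ((p ^ b) ^ 2 - 1)) : a ∣ b := by
  apply Nat.dvd_of_mod_eq_zero
  set t := b / a with ht
  set c := b % a with hc
  have hb : b = a * t + c := (Nat.div_add_mod b a).symm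
  have hca : c < a := Nat.mod_lt b ha
  set X := (p ^ a) ^ 2 with hX
  set Y := (p ^ c) ^ 2 with hY
  have hbXY : (p ^ b) ^ 2 = X ^ t * Y := by
    rw [hX, hY]
    nth_rewrite 1 [hb]
    ring
  have hX1 : 1 ≤ X ^ t := Nat.one_le_pow _ _ (Nat.one_le_pow _ _ (Nat.one_le_pow _ _ (by omega)))
  have hY1 : 1 ≤ Y := Nat.one_le_pow _ _ (Nat.one_le_pow _ _ (by omega))
  obtain ⟨U, hU⟩ : ∃ U, X ^ t = U + 1 := ⟨X ^ t - 1, by omega⟩
  obtain ⟨V, hV⟩ : ∃ V, Y = V + 1 := ⟨Y - 1, by omega⟩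
  have h1 : X - 1 ∣ U := by
    have := Nat.sub_dvd_pow_sub_pow X 1 t
    rw [one_pow, hU, Nat.add_sub_cancel] at this
    exact this
  have h2 : 2 * ((p ^ b) ^ 2 - 1) = 2 * (V + 1) * U + 2 * V := by
    rw [hbXY, hU, hV]
    have : (U + 1) * (V + 1) - 1 = (V + 1) * U + V := by
      apply Nat.sub_eq_of_eq_add; ring
    rw [this]; ring
  rw [h2] at h
  have h3 : X - 1 ∣ 2 * V := (Nat.dvd_add_right (Dvd.dvd.mul_left h1 _)).mp h
  -- size
  have h4 : 4 * Y ≤ X := by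
    have hp2 : 4 ≤ p ^ 2 := by nlinarith
    have h5 : (p ^ c) ^ 2 * p ^ 2 ≤ (p ^ a) ^ 2 := by
      rw [← pow_mul, ← pow_add, ← pow_mul]
      apply Nat.pow_le_pow_right (by omega)
      omega
    calc 4 * Y ≤ p ^ 2 * Y := Nat.mul_le_mul_right _ hp2
      _ = (p ^ c) ^ 2 * p ^ 2 := by rw [hY]; ring
      _ ≤ X := h5
  have h6 : 2 * V < X - 1 := by omega
  have h7 : 2 * V = 0 := Nat.eq_zero_of_dvd_of_lt h3 h6
  have h8 : Y = 1 := by omega
  rw [hY] at h8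
  have h9 : p ^ c = 1 := by
    rcases Nat.eq_zero_or_pos c with h0 | h0
    · rw [h0, pow_zero]
    · have : 2 ≤ p ^ c := by
        calc 2 ≤ p := hp
          _ = p ^ 1 := (pow_one p).symm
          _ ≤ p ^ c := Nat.pow_le_pow_right (by omega) h0
      nlinarith
  by_contra hc0
  have hc1 : 1 ≤ c := Nat.pos_of_ne_zero hc0
  have : 2 ≤ p ^ c := by
    calc 2 ≤ p := hp
      _ = p ^ 1 := (pow_one p).symm
      _ ≤ p ^ c := Nat.pow_le_pow_right (by omega) hc1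
  omega

/-- `b = a` or `b = a r` when `a ∣ b`, `b m = a r`, `r` prime. -/
theorem eq_or_eq_of_dvd_of_mul_eq {a b m r : ℕ} (ha : 1 ≤ a) (hr : r.Prime) (hab : a ∣ b)
    (h : b * m = a * r) : (b = a ∧ m = r) ∨ (b = a * r ∧ m = 1) := by
  obtain ⟨t, rfl⟩ := hab
  have h1 : t * m = r := by
    have : a * (t * m) = a * r := by rw [← h]; ring
    exact Nat.eq_of_mul_eq_mul_left ha this
  have h2 : t ∣ r := Dvd.intro m h1
  rcases (Nat.dvd_prime hr).mp h2 with rfl | rfl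
  · left
    exact ⟨by ring, by omega⟩
  · right
    refine ⟨rfl, ?_⟩
    have : t * m = t * 1 := by rw [h1, mul_one]
    exact Nat.eq_of_mul_eq_mul_left hr.pos this

/-- A number whose power is a prime power is a power of the same prime. -/
theorem exists_eq_pow_of_pow_eq {p s m e : ℕ} (hp : p.Prime) (hm : m ≠ 0) (h : s ^ m = p ^ e) :
    ∃ b, s = p ^ b ∧ b * m = e := by
  have hdvd : s ∣ p ^ e := by rw [← h]; exact dvd_pow_self s hm
  obtain ⟨b, -, rfl⟩ := (Nat.dvd_prime_pow hp).mp hdvd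
  refine ⟨b, rfl, ?_⟩
  rw [← pow_mul] at h
  exact Nat.pow_right_injective hp.two_le h

/-- The subfield case: the intermediate field has order `q₀` or `q₀ ^ r`. -/
theorem subfield_case {p q₀ r e s m : ℕ} (hp : p.Prime) (hq₀ : 2 ≤ q₀) (hr : r.Prime)
    (hQ : q₀ ^ r = p ^ e) (hs : s ^ m = p ^ e) (hm : m ≠ 0)
    (hdiv : q₀ ^ 2 - 1 ∣ 2 * (s * (s ^ 2 - 1))) :
    (s = q₀ ∧ m = r) ∨ (s = q₀ ^ r ∧ m = 1) := by
  obtain ⟨a, rfl, har⟩ := exists_eq_pow_of_pow_eq hp hr.ne_zero hQ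
  obtain ⟨b, rfl, hbm⟩ := exists_eq_pow_of_pow_eq hp hm hs
  have ha : 1 ≤ a := by
    by_contra hcon
    have : a = 0 := by omega
    rw [this, pow_zero] at hq₀
    omega
  have hcop : Nat.Coprime ((p ^ a) ^ 2 - 1) (p ^ b) := by
    apply Nat.Coprime.pow_right
    apply Nat.Coprime.symm
    rw [Nat.Prime.coprime_iff_not_dvd hp]
    intro hd
    have h1 : p ∣ (p ^ a) ^ 2 := by
      rw [← pow_mul]
      exact dvd_pow_self p (by omega)
    have h2 : 1 ≤ (p ^ a) ^ 2 := Nat.one_le_pow _ _ (Nat.one_le_pow _ _ hp.pos)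
    have h3 : p ∣ (p ^ a) ^ 2 - ((p ^ a) ^ 2 - 1) := Nat.dvd_sub h1 hd
    have h4 : (p ^ a) ^ 2 - ((p ^ a) ^ 2 - 1) = 1 := by omega
    rw [h4] at h3
    exact hp.one_lt.ne' (Nat.dvd_one.mp h3)
  have hdiv' : (p ^ a) ^ 2 - 1 ∣ 2 * ((p ^ b) ^ 2 - 1) := by
    have h1 : 2 * (p ^ b * ((p ^ b) ^ 2 - 1)) = 2 * ((p ^ b) ^ 2 - 1) * p ^ b := by ring
    rw [h1] at hdiv
    exact hcop.dvd_of_dvd_mul_right hdiv
  have hab := dvd_of_sq_sub_one_dvd hp.two_le ha hdiv'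
  rcases eq_or_eq_of_dvd_of_mul_eq ha hr hab (hbm.trans har.symm) with ⟨h1, h2⟩ | ⟨h1, h2⟩
  · left; exact ⟨by rw [h1], h2⟩
  · right; exact ⟨by rw [h1, pow_mul], h2⟩

end Cfsg.Agent.Lib.Helper13.Dk
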