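/-
helper13: maximal subgroups of `SL₂(F)`: consequences of the refined Dickson theorem.
-/
import Mathlib
import Cfsg.Agent.Lib.Helper13.DkRefine
import Cfsg.Agent.Lib.Helper13.DkSubArith
import Cfsg.Agent.Lib.Helper13.SL2OrderFour

set_option autoImplicit false

namespace Cfsg.Agent.Lib.Helper13.Dk

open Subgroup Matrix Cfsg.Agent.Lib.Helper13 Cfsg.Agent.Lib.Helper29.Dickson

section subfieldSL

variable {F : Type*} [Field F]

/-- Elements of `SL₂(F)` that are scalar multiples of matrices over the subfield `K₀`. -/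
def subfieldSL (K₀ : Subfield F) : Subgroup (SpecialLinearGroup (Fin 2) F) where
  carrier := {A | ∃ μ : F, μ ≠ 0 ∧ ∀ i j, μ * (A : Matrix (Fin 2) (Fin 2) F) i j ∈ K₀}
  one_mem' := by
    refine ⟨1, one_ne_zero, fun i j => ?_⟩
    rw [one_mul, Matrix.SpecialLinearGroup.coe_one, Matrix.one_apply]
    split_ifs
    · exact K₀.one_mem
    · exact K₀.zero_mem
  mul_mem' := by
    rintro A B ⟨μ, hμ, hA⟩ ⟨ν, hν, hB⟩
    refine ⟨μ * ν, mul_ne_zero hμ hν, fun i j => ?_⟩
    rw [Matrix.SpecialLinearGroup.coe_mul, Matrix.mul_apply, Fin.sum_univ_two]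
    have : μ * ν * ((A : Matrix (Fin 2) (Fin 2) F) i 0 * (B : Matrix (Fin 2) (Fin 2) F) 0 j +
        (A : Matrix (Fin 2) (Fin 2) F) i 1 * (B : Matrix (Fin 2) (Fin 2) F) 1 j) =
        (μ * (A : Matrix (Fin 2) (Fin 2) F) i 0) * (ν * (B : Matrix (Fin 2) (Fin 2) F) 0 j) +
        (μ * (A : Matrix (Fin 2) (Fin 2) F) i 1) * (ν * (B : Matrix (Fin 2) (Fin 2) F) 1 j) := by
      ring
    rw [this]
    exact K₀.add_mem (K₀.mul_mem (hA _ _) (hB _ _)) (K₀.mul_mem (hA _ _) (hB _ _))
  inv_mem' := by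
    rintro A ⟨μ, hμ, hA⟩
    refine ⟨μ, hμ, fun i j => ?_⟩
    rw [Matrix.SpecialLinearGroup.coe_inv, Matrix.adjugate_fin_two]
    fin_cases i <;> fin_cases j
    · simpa using hA 1 1
    · have := K₀.neg_mem (hA 0 1)
      simpa using this
    · have := K₀.neg_mem (hA 1 0)
      simpa using this
    · simpa using hA 0 0

theorem mem_subfieldSL (K₀ : Subfield F) (A : SpecialLinearGroup (Fin 2) F) :
    A ∈ subfieldSL K₀ ↔ ∃ μ : F, μ ≠ 0 ∧ ∀ i j, μ * (A : Matrix (Fin 2) (Fin 2) F) i j ∈ K₀ :=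
  Iff.rfl

theorem subfieldSL_mono {K₀ K₁ : Subfield F} (h : K₀ ≤ K₁) : subfieldSL K₀ ≤ subfieldSL K₁ := by
  rintro A ⟨μ, hμ, hA⟩
  exact ⟨μ, hμ, fun i j => h (hA i j)⟩

theorem tSL_mem_subfieldSL_iff (K₀ : Subfield F) (x : F) : tSL x ∈ subfieldSL K₀ ↔ x ∈ K₀ := by
  constructor
  · rintro ⟨μ, hμ, hA⟩
    have h00 := hA 0 0
    have h01 := hA 0 1
    rw [tSL_coe] at h00 h01
    simp only [Matrix.of_apply, Matrix.cons_val', Matrix.cons_val_zero, Matrix.cons_val_one,
      Matrix.cons_val_fin_one, mul_one] at h00 h01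
    have : x = (μ * x) * μ⁻¹ := by field_simp
    rw [this]
    exact K₀.mul_mem h01 (K₀.inv_mem h00)
  · intro hx
    refine ⟨1, one_ne_zero, fun i j => ?_⟩
    rw [one_mul, tSL_coe]
    fin_cases i <;> fin_cases j
    · simpa using K₀.one_mem
    · simpa using hx
    · simpa using K₀.zero_mem
    · simpa using K₀.one_mem

/-- The trace squared of an element of `subfieldSL K₀` lies in `K₀`. -/
theorem trace_sq_mem_of_mem_subfieldSL (K₀ : Subfield F) (A : SpecialLinearGroup (Fin 2) F)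
    (hA : A ∈ subfieldSL K₀) : (A : Matrix (Fin 2) (Fin 2) F).trace ^ 2 ∈ K₀ := by
  obtain ⟨μ, hμ, h⟩ := hA
  have hdet := A.2
  rw [Matrix.det_fin_two] at hdet
  set a := (A : Matrix (Fin 2) (Fin 2) F) 0 0
  set b := (A : Matrix (Fin 2) (Fin 2) F) 0 1
  set c := (A : Matrix (Fin 2) (Fin 2) F) 1 0
  set d := (A : Matrix (Fin 2) (Fin 2) F) 1 1
  have hμ2 : μ ^ 2 ∈ K₀ := by
    have : μ ^ 2 = (μ * a) * (μ * d) - (μ * b) * (μ * c) := by
      linear_combination (μ ^ 2) * hdet.symm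
    rw [this]
    exact K₀.sub_mem (K₀.mul_mem (h 0 0) (h 1 1)) (K₀.mul_mem (h 0 1) (h 1 0))
  have htr : (μ * a + μ * d) ^ 2 ∈ K₀ := K₀.pow_mem (K₀.add_mem (h 0 0) (h 1 1)) 2
  rw [Matrix.trace_fin_two]
  have : (a + d) ^ 2 = (μ * a + μ * d) ^ 2 * (μ ^ 2)⁻¹ := by
    field_simp
  rw [this]
  exact K₀.mul_mem htr (K₀.inv_mem hμ2)

end subfieldSL

section intermediate

variable {F : Type*} [Field F] [Fintype F]

theorem pow_pow_eq_self {x : F} {r : ℕ} (h : x ^ r = x) (b : ℕ) : x ^ r ^ b = x := by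
  induction b with
  | zero => simp
  | succ b ih => rw [pow_succ, pow_mul, ih, h]

/-- Between a subfield of composite degree and the whole finite field there is a strictly
intermediate subfield. -/
theorem exists_intermediate (K₀ : Subfield F) (m : ℕ)
    (hm : Nat.card K₀ ^ m = Fintype.card F) (b c : ℕ) (hb : 2 ≤ b) (hc : 2 ≤ c) (hbc : m = b * c) :
    ∃ K₁ : Subfield F, K₀ < K₁ ∧ K₁ < ⊤ := by
  classical
  obtain ⟨p, hp⟩ := CharP.exists F
  haveI hpp : Fact p.Prime := ⟨CharP.char_is_prime F p⟩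
  obtain ⟨n, -, hn⟩ := FiniteField.card F p
  set r := Nat.card K₀ with hr
  have hm0 : m ≠ 0 := by
    rw [hbc]
    positivity
  rw [hn] at hm
  obtain ⟨a, hra, ham⟩ := exists_eq_pow_of_pow_eq hpp.out hm0 hm
  have hr2 : 2 ≤ r := by
    haveI : Fintype K₀ := Fintype.ofFinite K₀
    rw [hr, Nat.card_eq_fintype_card]
    exact Fintype.one_lt_card
  have ha1 : 1 ≤ a := by
    by_contra hcon
    have : a = 0 := by omega
    rw [this, pow_zero] at hra
    omega
  -- elements of `K₀` satisfy `x ^ r = x`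
  have hK₀ : ∀ x ∈ K₀, x ^ r = x := by
    intro x hx
    haveI : Fintype K₀ := Fintype.ofFinite K₀
    have h1 := FiniteField.pow_card (⟨x, hx⟩ : K₀)
    rw [← Nat.card_eq_fintype_card] at h1
    exact congrArg Subtype.val h1
  have hK₀' : ∀ x ∈ K₀, x ≠ 0 → x ^ (r - 1) = 1 := by
    intro x hx hx0
    haveI : Fintype K₀ := Fintype.ofFinite K₀
    have h1 := FiniteField.pow_card_sub_one_eq_one (⟨x, hx⟩ : K₀)
      (fun h => hx0 (congrArg Subtype.val h))
    rw [← Nat.card_eq_fintype_card] at h1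
    exact congrArg Subtype.val h1
  set t := a * b with ht
  set K₁ : Subfield F := (iterateFrobenius F p t).eqLocusField (RingHom.id F) with hK₁
  have hmem : ∀ x : F, x ∈ K₁ ↔ x ^ p ^ t = x := by
    intro x
    rw [hK₁]
    change (iterateFrobenius F p t) x = (RingHom.id F) x ↔ _
    rw [iterateFrobenius_def, RingHom.id_apply]
  have hpt : p ^ t = r ^ b := by rw [ht, pow_mul, hra]
  have hq : Fintype.card F = (p ^ t) ^ c := by
    rw [hn, ← ham, hbc, ht, ← pow_mul]
    congr 1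
    ring
  have hpt2 : 2 ≤ p ^ t := by
    rw [hpt]
    calc 2 ≤ r := hr2
      _ = r ^ 1 := (pow_one r).symm
      _ ≤ r ^ b := Nat.pow_le_pow_right (by omega) (by omega)
  have hlt1 : r < p ^ t := by
    rw [hpt]
    calc r = r ^ 1 := (pow_one r).symm
      _ < r ^ b := Nat.pow_lt_pow_right (by omega) (by omega)
  have hlt2 : p ^ t < Fintype.card F := by
    rw [hq]
    calc p ^ t = (p ^ t) ^ 1 := (pow_one _).symm
      _ < (p ^ t) ^ c := Nat.pow_lt_pow_right (by omega) (by omega)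
  -- a generator of the multiplicative group
  obtain ⟨ζ, hζ⟩ := IsCyclic.exists_generator (α := Fˣ)
  have hord : orderOf ζ = Fintype.card F - 1 := by
    rw [orderOf_eq_card_of_forall_mem_zpowers hζ, Nat.card_eq_fintype_card, Fintype.card_units]
  have hdvd : p ^ t - 1 ∣ Fintype.card F - 1 := by
    rw [hq]
    have := Nat.sub_dvd_pow_sub_pow (p ^ t) 1 c
    rwa [one_pow] at this
  obtain ⟨e, he⟩ := hdvd
  have hle : K₀ ≤ K₁ := by
    intro x hx
    rw [hmem, hpt]
    exact pow_pow_eq_self (hK₀ x hx) b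
  refine ⟨K₁, lt_of_le_of_ne hle ?_, lt_top_iff_ne_top.mpr ?_⟩
  · -- `K₀ ≠ K₁`
    intro heq
    set x : Fˣ := ζ ^ e with hx
    have hx1 : x ^ (p ^ t - 1) = 1 := by
      rw [hx, ← pow_mul, mul_comm, ← he, ← hord]
      exact pow_orderOf_eq_one ζ
    have hxK₁ : (x : F) ∈ K₁ := by
      rw [hmem]
      have h1 : (x : F) ^ (p ^ t - 1) = 1 := by
        rw [← Units.val_pow_eq_pow_val, hx1, Units.val_one]
      calc (x : F) ^ p ^ t = (x : F) ^ (p ^ t - 1 + 1) := by
            congr 1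
            omega
        _ = x := by rw [pow_succ, h1, one_mul]
    rw [← heq] at hxK₁
    have h2 := hK₀' (x : F) hxK₁ (Units.ne_zero x)
    have h3 : x ^ (r - 1) = 1 := by
      apply Units.ext
      rw [Units.val_pow_eq_pow_val, h2, Units.val_one]
    rw [hx, ← pow_mul] at h3
    have h4 := orderOf_dvd_of_pow_eq_one h3
    rw [hord, he] at h4
    have he0 : 0 < e := by
      rcases Nat.eq_zero_or_pos e with h0 | h0
      · rw [h0, mul_zero] at he
        omega
      · exact h0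
    have h5 : p ^ t - 1 ∣ r - 1 := by
      rw [mul_comm] at h4
      exact Nat.dvd_of_mul_dvd_mul_left he0 h4
    have := Nat.le_of_dvd (by omega) h5
    omega
  · -- `K₁ ≠ ⊤`
    intro heq
    have hζ1 : ((ζ : Fˣ) : F) ∈ K₁ := by rw [heq]; exact Subfield.mem_top _
    rw [hmem] at hζ1
    have h1 : ζ ^ (p ^ t - 1) = 1 := by
      apply Units.ext
      rw [Units.val_pow_eq_pow_val, Units.val_one]
      have h2 : (ζ : F) ^ (p ^ t - 1) * (ζ : F) = 1 * (ζ : F) := by
        rw [← pow_succ, one_mul]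
        have : p ^ t - 1 + 1 = p ^ t := by omega
        rw [this]
        exact hζ1
      exact mul_right_cancel₀ (Units.ne_zero ζ) h2
    have h2 := orderOf_dvd_of_pow_eq_one h1
    rw [hord] at h2
    have := Nat.le_of_dvd (by omega) h2
    omega

end intermediate

section coatom

variable {F : Type*} [Field F] [Fintype F]

/-- The inclusion of a subgroup of `SL₂(F)` as an embedded group. -/
def subEmb (H : Subgroup (SpecialLinearGroup (Fin 2) F)) : Emb F H :=
  ⟨H.subtype, H.subtype_injective⟩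

theorem subEmb_app_m (H : Subgroup (SpecialLinearGroup (Fin 2) F)) (Θ : Tw F) (g : H) :
    ((subEmb H).app Θ).m g =
      ((Θ.hom (g : SpecialLinearGroup (Fin 2) F) : SpecialLinearGroup (Fin 2) F) :
        Matrix (Fin 2) (Fin 2) F) := rfl

/-- A maximal subgroup conjugate into the Borel subgroup is conjugate to it. -/
theorem coatom_borel (H : Subgroup (SpecialLinearGroup (Fin 2) F)) (hH : IsCoatom H) (Θ : Tw F)
    (h : ∀ g : H, ((subEmb H).app Θ).m g 1 0 = 0) :
    Nat.card H = Fintype.card F * (Fintype.card F - 1) := by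
  let e : SpecialLinearGroup (Fin 2) F ≃* SpecialLinearGroup (Fin 2) F :=
    MulEquiv.ofBijective Θ.hom Θ.bijective
  set X := (borelSL F).comap Θ.hom with hX
  have hHX : H ≤ X := fun g hg => mem_borelSL.mpr (h ⟨g, hg⟩)
  have hXtop : X ≠ ⊤ := by
    intro htop
    obtain ⟨A, hA⟩ := Θ.bijective.2 (Cfsg.Agent.Lib.Helper13.lSL 1)
    have h1 : A ∈ X := htop ▸ mem_top A
    have h2 : Θ.hom A ∈ borelSL F := h1
    rw [hA, mem_borelSL, Cfsg.Agent.Lib.Helper13.lSL_coe] at h2
    simp at h2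
  have hHeq : X = H := (hH.le_iff.mp hHX).resolve_left hXtop
  rw [← hHeq, ← Emb.card_borelSL_eq (F := F)]
  have : X = (borelSL F).comap (e : SpecialLinearGroup (Fin 2) F →* SpecialLinearGroup (Fin 2) F) :=
    rfl
  rw [this, Subgroup.comap_equiv_eq_map_symm]
  exact Subgroup.card_map_of_injective e.symm.injective

/-- A maximal subgroup of dihedral type is the normaliser of a maximal torus. -/
theorem coatom_dih (H : Subgroup (SpecialLinearGroup (Fin 2) F)) (hH : IsCoatom H)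
    (h4 : 4 ≤ Fintype.card F) (h : (subEmb H).DihType) :
    ∃ g₀ : SpecialLinearGroup (Fin 2) F, (g₀ : Matrix (Fin 2) (Fin 2) F).trace ^ 2 ≠ 4 ∧
      Nat.card H = 2 * Nat.card (centralizer ({g₀} : Set (SpecialLinearGroup (Fin 2) F))) := by
  classical
  obtain ⟨g, hg, hcard⟩ := h
  set g₀ : SpecialLinearGroup (Fin 2) F := (g : SpecialLinearGroup (Fin 2) F) with hg₀def
  have hg₀ : (g₀ : Matrix (Fin 2) (Fin 2) F).trace ^ 2 ≠ 4 := hg
  set C := centralizer ({g} : Set H) with hC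
  have hidx : C.index = 2 := by
    have h1 := Subgroup.card_mul_index C
    rw [← hcard] at h1
    have hpos : 0 < Nat.card C := Nat.card_pos
    exact Nat.eq_of_mul_eq_mul_left hpos h1
  have hnorm : C.Normal := Subgroup.normal_of_index_eq_two hidx
  set T := centralizer ({g₀} : Set (SpecialLinearGroup (Fin 2) F)) with hT
  set N := normalizer (T : Set (SpecialLinearGroup (Fin 2) F)) with hN
  have hne : g₀ ≠ g₀⁻¹ := by
    intro h
    have h1 : g = g⁻¹ := Subtype.ext h
    exact (subEmb H).ne_inv_of_tr_sq hg h1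
  have hcardN : Nat.card N = 2 * Nat.card T := card_normalizer_centralizer g₀ hg₀ hne
  have hHN : H ≤ N := by
    intro x hx
    rw [hN, hT, mem_normalizer_centralizer_iff g₀ hg₀ x]
    have hc : (⟨x, hx⟩ : H) * g * (⟨x, hx⟩ : H)⁻¹ ∈ C :=
      hnorm.conj_mem g (mem_centralizer_singleton_iff.mpr rfl) ⟨x, hx⟩
    rw [hC, mem_centralizer_singleton_iff] at hc
    have hc' : x * g₀ * x⁻¹ ∈ centralizer ({g₀} : Set (SpecialLinearGroup (Fin 2) F)) := by
      rw [mem_centralizer_singleton_iff]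
      exact congrArg Subtype.val hc
    exact eq_or_eq_inv_of_trace_eq g₀ hg₀ (x * g₀ * x⁻¹) hc' (trace_conj_SL x g₀)
  have hNtop : N ≠ ⊤ := by
    intro htop
    have h1 : Nat.card N = Nat.card (SpecialLinearGroup (Fin 2) F) := by
      rw [htop, Subgroup.card_top]
    rw [hcardN, card_SL2] at h1
    have hq := Fintype.card F
    have h2 : Nat.card T ≤ Fintype.card F + 1 := by
      rcases card_centralizer_cases g₀ hg₀ with h | h <;> rw [hT, h] <;> omega
    have h3 : 4 ^ 2 ≤ Fintype.card F ^ 2 := Nat.pow_le_pow_left h4 2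
    have h4' : 4 * 15 ≤ Fintype.card F * (Fintype.card F ^ 2 - 1) :=
      Nat.mul_le_mul h4 (by omega)
    have h5 : Fintype.card F * (Fintype.card F ^ 2 - 1) =
        Fintype.card F * (Fintype.card F - 1) * (Fintype.card F + 1) := by
      obtain ⟨u, hu⟩ : ∃ u, Fintype.card F = u + 1 := ⟨Fintype.card F - 1, by omega⟩
      rw [hu]
      have : (u + 1) ^ 2 - 1 = u * (u + 2) := by
        apply Nat.sub_eq_of_eq_add
        ring
      rw [this, Nat.add_sub_cancel]
      ring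
    have h6' : 3 ≤ Fintype.card F - 1 := by omega
    have h6 : 4 * 3 ≤ Fintype.card F * (Fintype.card F - 1) := Nat.mul_le_mul h4 h6'
    have h7 : 4 * 3 * (Fintype.card F + 1) ≤
        Fintype.card F * (Fintype.card F - 1) * (Fintype.card F + 1) :=
      Nat.mul_le_mul_right _ h6
    omega
  have hHeq : N = H := (hH.le_iff.mp hHN).resolve_left hNtop
  exact ⟨g₀, hg₀, by rw [← hHeq, hcardN]⟩

/-- A maximal subgroup in the subfield case has prime degree. -/
theorem coatom_subfield (H : Subgroup (SpecialLinearGroup (Fin 2) F)) (hH : IsCoatom H) (Θ : Tw F)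
    (K₀ : Subfield F)
    (hsub : ∀ g : H, ∃ μ : F, μ ≠ 0 ∧ ∀ i j, μ * ((subEmb H).app Θ).m g i j ∈ K₀)
    (m : ℕ) (hm : Nat.card K₀ ^ m = Fintype.card F) (hm2 : 2 ≤ m) : m.Prime := by
  by_contra hnp
  obtain ⟨b, hbm, hb2, hblt⟩ := Nat.exists_dvd_of_not_prime2 hm2 hnp
  obtain ⟨c, hc⟩ := hbm
  have hc2 : 2 ≤ c := by
    by_contra hcon
    have : c = 0 ∨ c = 1 := by omega
    rcases this with rfl | rfl
    · omega
    · omega
  obtain ⟨K₁, h01, h1⟩ := exists_intermediate K₀ m hm b c hb2 hc2 hc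
  set X := (subfieldSL K₁).comap Θ.hom with hX
  have hHX : H ≤ X := by
    intro g hg
    exact subfieldSL_mono h01.le (hsub ⟨g, hg⟩)
  have hXtop : X ≠ ⊤ := by
    intro htop
    obtain ⟨x, -, hx⟩ := SetLike.exists_of_lt h1
    obtain ⟨A, hA⟩ := Θ.bijective.2 (tSL x)
    have h2 : A ∈ X := htop ▸ mem_top A
    have h3 : Θ.hom A ∈ subfieldSL K₁ := h2
    rw [hA, tSL_mem_subfieldSL_iff] at h3
    exact hx h3
  have hHeq : X = H := (hH.le_iff.mp hHX).resolve_left hXtop
  obtain ⟨x, hx1, hx0⟩ := SetLike.exists_of_lt h01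
  obtain ⟨A, hA⟩ := Θ.bijective.2 (tSL x)
  have h2 : A ∈ X := by
    change Θ.hom A ∈ subfieldSL K₁
    rw [hA, tSL_mem_subfieldSL_iff]
    exact hx1
  rw [hHeq] at h2
  have h3 : Θ.hom A ∈ subfieldSL K₀ := hsub ⟨A, h2⟩
  rw [hA, tSL_mem_subfieldSL_iff] at h3
  exact hx0 h3

end coatom

end Cfsg.Agent.Lib.Helper13.Dk
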