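import Mathlib
import Cfsg.Agent.S3377
import Cfsg.Agent.Lib.Helper13.SL2
import Cfsg.Agent.Lib.Helper13.PSL2
import Cfsg.Agent.Lib.Helper13.PSL2ClassSizeOdd
import Cfsg.Agent.Lib.Helper13.SL2OrderFour

/-!
Helper lemmas (helper13): a copy of the alternating group of degree five inside `PSL₂(F)` whenever
`5` divides `|SL₂(F)|`, built from the `(3, 5, 2)` presentation of `Alt(5)` (S3377).
-/

set_option autoImplicit false

namespace Cfsg.Agent.Lib.Helper13

open Matrix

section general

variable {F : Type*} [Field F]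

/-- The fifth power of a `2 × 2` matrix of determinant one, by Cayley–Hamilton. -/
theorem pow_five_two (m : Matrix (Fin 2) (Fin 2) F) (hdet : m.det = 1) :
    m ^ 5 = ((m 0 0 + m 1 1) ^ 4 - 3 * (m 0 0 + m 1 1) ^ 2 + 1) • m -
      ((m 0 0 + m 1 1) ^ 3 - 2 * (m 0 0 + m 1 1)) • (1 : Matrix (Fin 2) (Fin 2) F) := by
  have h1 := cayley_hamilton_two m hdet
  have h4 := pow_four_two m hdet
  set t := m 0 0 + m 1 1
  have e : m ^ 5 = m ^ 4 * m := by noncomm_ring
  rw [e, h4, sub_mul, Matrix.smul_mul, Matrix.smul_mul, h1, Matrix.one_mul]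
  module

/-- The trace of an element of order five of `SL₂(F)` is a root of `x² + x - 1`. -/
theorem trace_of_orderOf_five (g : SpecialLinearGroup (Fin 2) F) (hg : orderOf g = 5) :
    ((g : Matrix (Fin 2) (Fin 2) F) 0 0 + (g : Matrix (Fin 2) (Fin 2) F) 1 1) ^ 2 +
      ((g : Matrix (Fin 2) (Fin 2) F) 0 0 + (g : Matrix (Fin 2) (Fin 2) F) 1 1) - 1 = 0 := by
  have h5 : (g : Matrix (Fin 2) (Fin 2) F) ^ 5 = 1 := by
    have := pow_orderOf_eq_one g
    rw [hg] at this
    have h := congrArg (fun x : SpecialLinearGroup (Fin 2) F => (x : Matrix (Fin 2) (Fin 2) F)) this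
    simpa using h
  have hp := pow_five_two (g : Matrix (Fin 2) (Fin 2) F) g.2
  set m : Matrix (Fin 2) (Fin 2) F := (g : Matrix (Fin 2) (Fin 2) F) with hm
  set t := m 0 0 + m 1 1 with ht
  rw [h5] at hp
  set P := t ^ 4 - 3 * t ^ 2 + 1 with hP
  set Q := t ^ 3 - 2 * t with hQ
  -- entries
  have e00 : (1 : F) = P * m 0 0 - Q := by
    have := congrFun (congrFun hp 0) 0
    simpa using this
  have e01 : (0 : F) = P * m 0 1 := by
    have := congrFun (congrFun hp 0) 1
    simpa using this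
  have e10 : (0 : F) = P * m 1 0 := by
    have := congrFun (congrFun hp 1) 0
    simpa using this
  have e11 : (1 : F) = P * m 1 1 - Q := by
    have := congrFun (congrFun hp 1) 1
    simpa using this
  have hP0 : P = 0 := by
    by_contra hne
    have h01 : m 0 1 = 0 := by
      rcases mul_eq_zero.mp e01.symm with h | h
      · exact absurd h hne
      · exact h
    have h10 : m 1 0 = 0 := by
      rcases mul_eq_zero.mp e10.symm with h | h
      · exact absurd h hne
      · exact h
    have h0011 : m 0 0 = m 1 1 := by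
      have : P * (m 0 0 - m 1 1) = 0 := by linear_combination e11 - e00
      rcases mul_eq_zero.mp this with h | h
      · exact absurd h hne
      · exact sub_eq_zero.mp h
    have hc : g ∈ Subgroup.center (SpecialLinearGroup (Fin 2) F) := by
      apply mem_center_of_scalar g (m 0 0)
      rw [← hm]
      ext i j
      fin_cases i <;> fin_cases j <;> simp [h01, h10, h0011]
    have hsq : g ^ 2 = 1 := by
      rcases center_cases g hc with h | h
      · rw [h, one_pow]
      · rw [h, pow_two, zSL_mul_self]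
    have := orderOf_dvd_of_pow_eq_one hsq
    rw [hg] at this
    omega
  have hQ1 : Q = -1 := by
    rw [hP0] at e00
    linear_combination e00
  -- P = (t²+t-1)(t²-t-1), Q + 1 = (t-1)(t²+t-1)
  by_contra hne
  have h1 : t - 1 = 0 := by
    have : (t - 1) * (t ^ 2 + t - 1) = 0 := by
      rw [hQ] at hQ1
      linear_combination hQ1
    rcases mul_eq_zero.mp this with h | h
    · exact h
    · exact absurd h hne
  have h2 : t ^ 2 - t - 1 = 0 := by
    have : (t ^ 2 + t - 1) * (t ^ 2 - t - 1) = 0 := by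
      rw [hP] at hP0
      linear_combination hP0
    rcases mul_eq_zero.mp this with h | h
    · exact absurd h hne
    · exact h
  have ht1 : t = 1 := sub_eq_zero.mp h1
  rw [ht1] at h2
  have : (1 : F) = 0 := by linear_combination -h2
  exact one_ne_zero this

end general

section finite

variable {F : Type*} [Field F] [Fintype F]

/-- A point on the conic `a² - t a + b² - b + 1 = 0`, for `t` a root of `x² + x - 1`. -/
theorem exists_conic_point (t : F) (ht : t ^ 2 + t - 1 = 0) :
    ∃ a b : F, a ^ 2 - t * a + (b ^ 2 - b + 1) = 0 := by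
  rcases Nat.even_or_odd (Fintype.card F) with he | ho
  · have hchar : ringChar F = 2 :=
      FiniteField.even_card_iff_char_two.mpr (Nat.even_iff.mp he)
    have h2 : (2 : F) = 0 := by
      have := ringChar.Nat.cast_ringChar (R := F)
      rw [hchar] at this
      exact_mod_cast this
    refine ⟨0, t, ?_⟩
    linear_combination ht + (1 - t) * h2
  · open Polynomial in
    have hf : degree (C (1 : F) * X ^ 2 + C (-t) * X + C 0 : F[X]) = 2 :=
      degree_quadratic one_ne_zero
    open Polynomial in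
    have hg : degree (C (1 : F) * X ^ 2 + C (-1) * X + C 1 : F[X]) = 2 :=
      degree_quadratic one_ne_zero
    obtain ⟨a, b, hab⟩ := FiniteField.exists_root_sum_quadratic hf hg (by
      rcases ho with ⟨k, hk⟩
      omega)
    simp only [Polynomial.eval_add, Polynomial.eval_mul, Polynomial.eval_C, Polynomial.eval_pow,
      Polynomial.eval_X] at hab
    refine ⟨a, b, ?_⟩
    linear_combination hab

/-- If `5` divides `|SL₂(F)|`, then `PSL₂(F)` has elements `x`, `y` with `x³ = y⁵ = (xy)² = 1` and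
`y ≠ 1`. -/
theorem exists_two_three_five_PSL2 (h5 : 5 ∣ Nat.card (SpecialLinearGroup (Fin 2) F)) :
    ∃ x y : Matrix.ProjectiveSpecialLinearGroup (Fin 2) F,
      x ^ 3 = 1 ∧ y ^ 5 = 1 ∧ (x * y) ^ 2 = 1 ∧ y ≠ 1 := by
  have : Fact (Nat.Prime 5) := ⟨by norm_num⟩
  obtain ⟨g, hg⟩ := exists_prime_orderOf_dvd_card' 5 h5
  have ht := trace_of_orderOf_five g hg
  set t := (g : Matrix (Fin 2) (Fin 2) F) 0 0 + (g : Matrix (Fin 2) (Fin 2) F) 1 1 with htdef
  obtain ⟨a, b, hab⟩ := exists_conic_point t ht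
  -- the matrices
  obtain ⟨Y, hY⟩ : ∃ Y : SpecialLinearGroup (Fin 2) F,
      (Y : Matrix (Fin 2) (Fin 2) F) = !![a, b; b - 1, t - a] :=
    ⟨⟨!![a, b; b - 1, t - a], by rw [Matrix.det_fin_two_of]; linear_combination -hab⟩, rfl⟩
  obtain ⟨Z, hZ⟩ : ∃ Z : SpecialLinearGroup (Fin 2) F,
      (Z : Matrix (Fin 2) (Fin 2) F) = !![0, -1; 1, 0] :=
    ⟨⟨!![0, -1; 1, 0], by rw [Matrix.det_fin_two_of]; ring⟩, rfl⟩
  obtain ⟨X, hX⟩ : ∃ X : SpecialLinearGroup (Fin 2) F, X = Z * Y⁻¹ := ⟨_, rfl⟩
  have hXY : X * Y = Z := by rw [hX, inv_mul_cancel_right]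
  have hZ2 : Z ^ 2 = zSL F := by
    apply Subtype.ext
    rw [pow_two]
    change (Z : Matrix (Fin 2) (Fin 2) F) * (Z : Matrix (Fin 2) (Fin 2) F) = !![-1, 0; 0, -1]
    rw [hZ]
    ext i j
    fin_cases i <;> fin_cases j <;> simp
  have hXc : (X : Matrix (Fin 2) (Fin 2) F) = !![b - 1, -a; t - a, -b] := by
    have e1 : (X : Matrix (Fin 2) (Fin 2) F) = (Z : Matrix (Fin 2) (Fin 2) F) *
        ((Y⁻¹ : SpecialLinearGroup (Fin 2) F) : Matrix (Fin 2) (Fin 2) F) := by
      rw [hX]; rfl
    rw [e1, Matrix.SpecialLinearGroup.coe_inv, hY, hZ, Matrix.adjugate_fin_two_of]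
    ext i j
    fin_cases i <;> fin_cases j <;> simp
  have hX3 : X ^ 3 = 1 := by
    apply Subtype.ext
    change (X : Matrix (Fin 2) (Fin 2) F) ^ 3 = 1
    have hch := cayley_hamilton_two (X : Matrix (Fin 2) (Fin 2) F) X.2
    have htr : (X : Matrix (Fin 2) (Fin 2) F) 0 0 + (X : Matrix (Fin 2) (Fin 2) F) 1 1 = -1 := by
      rw [hXc]; simp
      ring
    rw [htr] at hch
    have e : (X : Matrix (Fin 2) (Fin 2) F) ^ 3 =
        (X : Matrix (Fin 2) (Fin 2) F) * (X : Matrix (Fin 2) (Fin 2) F) *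
          (X : Matrix (Fin 2) (Fin 2) F) := by noncomm_ring
    rw [e, hch, sub_mul, Matrix.smul_mul, hch, Matrix.one_mul]
    module
  have hY5 : Y ^ 5 = 1 := by
    apply Subtype.ext
    change (Y : Matrix (Fin 2) (Fin 2) F) ^ 5 = 1
    have hp := pow_five_two (Y : Matrix (Fin 2) (Fin 2) F) Y.2
    have htr : (Y : Matrix (Fin 2) (Fin 2) F) 0 0 + (Y : Matrix (Fin 2) (Fin 2) F) 1 1 = t := by
      rw [hY]; simp
    rw [htr] at hp
    have hP : t ^ 4 - 3 * t ^ 2 + 1 = 0 := by
      linear_combination (t ^ 2 - t - 1) * ht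
    have hQ : t ^ 3 - 2 * t = -1 := by
      linear_combination (t - 1) * ht
    rw [hp, hP, hQ]
    simp
  have hYc : Y ∉ Subgroup.center (SpecialLinearGroup (Fin 2) F) := by
    intro hc
    obtain ⟨r, hr⟩ := scalar_of_mem_center Y hc
    have h01 := congrFun (congrFun hr 0) 1
    have h10 := congrFun (congrFun hr 1) 0
    rw [hY] at h01 h10
    simp at h01 h10
    rw [h01] at h10
    have : (1 : F) = 0 := by linear_combination -h10
    exact one_ne_zero this
  refine ⟨QuotientGroup.mk X, QuotientGroup.mk Y, ?_, ?_, ?_, ?_⟩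
  · change ((X ^ 3 : SpecialLinearGroup (Fin 2) F) :
      SpecialLinearGroup (Fin 2) F ⧸ Subgroup.center (SpecialLinearGroup (Fin 2) F)) = 1
    rw [hX3]; rfl
  · change ((Y ^ 5 : SpecialLinearGroup (Fin 2) F) :
      SpecialLinearGroup (Fin 2) F ⧸ Subgroup.center (SpecialLinearGroup (Fin 2) F)) = 1
    rw [hY5]; rfl
  · change (((X * Y) ^ 2 : SpecialLinearGroup (Fin 2) F) :
      SpecialLinearGroup (Fin 2) F ⧸ Subgroup.center (SpecialLinearGroup (Fin 2) F)) = 1
    rw [hXY, hZ2]
    exact (QuotientGroup.eq_one_iff _).mpr zSL_mem_center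
  · intro h
    exact hYc ((QuotientGroup.eq_one_iff _).mp h)

/-- If `5` divides `|SL₂(F)|`, then `PSL₂(F)` has a subgroup isomorphic to `Alt(5)`. -/
theorem exists_alt_five_PSL2 (h5 : 5 ∣ Nat.card (SpecialLinearGroup (Fin 2) F)) :
    ∃ H : Subgroup (Matrix.ProjectiveSpecialLinearGroup (Fin 2) F),
      Nonempty (H ≃* alternatingGroup (Fin 5)) := by
  obtain ⟨x, y, hx, hy, hxy, hy1⟩ := exists_two_three_five_PSL2 h5
  obtain ⟨e⟩ := Cfsg.Agent.S3377.result
  set rels : Set (FreeGroup (Fin 2)) := {FreeGroup.of (0 : Fin 2) ^ 3, FreeGroup.of (1 : Fin 2) ^ 5,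
        (FreeGroup.of (0 : Fin 2) * FreeGroup.of 1) ^ 2} with hrels
  set f : Fin 2 → Matrix.ProjectiveSpecialLinearGroup (Fin 2) F := ![x, y] with hf
  have hrel : ∀ r ∈ rels, FreeGroup.lift f r = 1 := by
    intro r hr
    rw [hrels] at hr
    rcases hr with rfl | rfl | rfl
    · simp [hf, hx]
    · simp [hf, hy]
    · simp [hf, hxy]
  set φ : PresentedGroup rels →* Matrix.ProjectiveSpecialLinearGroup (Fin 2) F :=
    PresentedGroup.toGroup hrel with hφ
  set ψ : alternatingGroup (Fin 5) →* Matrix.ProjectiveSpecialLinearGroup (Fin 2) F :=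
    φ.comp e.symm.toMonoidHom with hψ
  have hinj : Function.Injective ψ := by
    rw [← MonoidHom.ker_eq_bot_iff]
    have hsimple : IsSimpleGroup (alternatingGroup (Fin 5)) :=
      alternatingGroup.isSimpleGroup (by simp)
    rcases (ψ.normal_ker).eq_bot_or_eq_top with h | h
    · exact h
    · exfalso
      apply hy1
      have h1 : ψ (e (PresentedGroup.of 1)) = 1 := by
        have : e (PresentedGroup.of 1) ∈ ψ.ker := by rw [h]; trivial
        exact this
      rw [hψ] at h1
      simp only [MonoidHom.coe_comp, MulEquiv.coe_toMonoidHom, Function.comp_apply,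
        MulEquiv.symm_apply_apply] at h1
      rw [hφ, PresentedGroup.toGroup.of] at h1
      simpa [hf] using h1
  exact ⟨ψ.range, ⟨(MonoidHom.ofInjective hinj).symm⟩⟩

end finite

end Cfsg.Agent.Lib.Helper13
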