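/-
helper13: the Steinberg character of `SL₂(F)`: restriction of `stChar 1`; it is the unique irreducible
character of degree `q` (and of degree divisible by `p`), and is trivial on the centre.
-/
import Mathlib
import Cfsg.Agent.Lib.Helper13.SLBridge4
import Cfsg.Agent.Lib.Helper24.Deflation

set_option autoImplicit false

namespace Cfsg.Agent.Lib.Helper13

open Matrix Cfsg Cfsg.Agent.CharLib Cfsg.Agent.Lib.Helper6
open scoped ComplexConjugate

section deflation

universe u
variable {G : Type u} [Group G] [Finite G]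

/-- An irreducible character that is constant (= its degree) on a normal subgroup `N` comes from
an irreducible character of `G ⧸ N`. -/
theorem exists_deflate (N : Subgroup G) [N.Normal] {θ : G → ℂ} (hθ : IsIrrCharacter G θ)
    (hN : ∀ n ∈ N, θ n = θ 1) :
    ∃ χ : G ⧸ N → ℂ, IsIrrCharacter (G ⧸ N) χ ∧ ∀ g : G, χ (g : G ⧸ N) = θ g := by
  obtain ⟨n, ρ, hirr, rfl⟩ := hθ
  have hN' : ∀ x ∈ N, ρ x = 1 := by
    intro x hx
    apply Cfsg.Agent.Lib.Helper24.rep_eq_one_of_char_eq_finrank ρ x
    rw [hN x hx]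
    simp
  refine ⟨(Cfsg.Agent.Lib.Helper24.deflate N ρ hN').character,
    ⟨n, Cfsg.Agent.Lib.Helper24.deflate N ρ hN', ?_, rfl⟩, ?_⟩
  · have : ρ.IsIrreducible := hirr
    exact Cfsg.Agent.Lib.Helper24.deflate_isIrreducible N ρ hN'
  · intro g
    exact Cfsg.Agent.Lib.Helper24.deflate_character N ρ hN' g

end deflation

variable {F : Type*} [Field F] [Fintype F] [DecidableEq F]

/-- On `SL₂` all the characters `stChar α` agree. -/
theorem resSL_stChar (α : MulChar F ℂ) : resSL (stChar α) = resSL (stChar (1 : MulChar F ℂ)) := by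
  funext s
  rw [resSL_apply, resSL_apply]
  unfold stChar
  rw [Pi.sub_apply, Pi.sub_apply, detChar_apply, detChar_apply]
  have hdet : ((SpecialLinearGroup.toGL s : GL (Fin 2) F) : Matrix (Fin 2) (Fin 2) F).det = 1 := s.2
  rw [hdet, map_one, map_one]
  congr 1
  unfold Cfsg.indFun
  congr 1
  apply Finset.sum_congr rfl
  intro x _
  by_cases hx : x⁻¹ * SpecialLinearGroup.toGL s * x ∈ Cfsg.upperTriangularGL 2 F
  · have e0 : x⁻¹ * SpecialLinearGroup.toGL s * x =
        ((⟨x⁻¹ * SpecialLinearGroup.toGL s * x, hx⟩ : ↥(Cfsg.upperTriangularGL 2 F)) : GL (Fin 2) F) := rfl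
    rw [e0, extendByZero_apply_coe, extendByZero_apply_coe, psChar_apply, psChar_apply, ← map_mul,
      ← map_mul]
    have h10 := mem_upperTriangularGL_two.mp hx
    have hd : ((x⁻¹ * SpecialLinearGroup.toGL s * x : GL (Fin 2) F) : Matrix (Fin 2) (Fin 2) F).det = 1 := by
      rw [Units.val_mul, Units.val_mul, Matrix.det_mul, Matrix.det_mul, hdet, mul_one, ← Matrix.det_mul,
        ← Units.val_mul, inv_mul_cancel, Units.val_one, Matrix.det_one]
    rw [Matrix.det_fin_two, h10, mul_zero, sub_zero] at hd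
    change α (((x⁻¹ * SpecialLinearGroup.toGL s * x : GL (Fin 2) F) : Matrix (Fin 2) (Fin 2) F) 0 0 *
      ((x⁻¹ * SpecialLinearGroup.toGL s * x : GL (Fin 2) F) : Matrix (Fin 2) (Fin 2) F) 1 1) =
      (1 : MulChar F ℂ) (((x⁻¹ * SpecialLinearGroup.toGL s * x : GL (Fin 2) F) : Matrix (Fin 2) (Fin 2) F) 0 0 *
      ((x⁻¹ * SpecialLinearGroup.toGL s * x : GL (Fin 2) F) : Matrix (Fin 2) (Fin 2) F) 1 1)
    rw [hd, map_one, map_one]
  · rw [extendByZero_apply_of_not_mem _ _ hx, extendByZero_apply_of_not_mem _ _ hx]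

/-- An irreducible character of `SL₂` under a Steinberg-type character of `GL₂` is its restriction. -/
theorem eq_resSL_of_under_degree_q {χ : GL (Fin 2) F → ℂ} (hχ : IsIrrCharacter (GL (Fin 2) F) χ)
    (hdeg : χ 1 = (Fintype.card F : ℂ))
    {θ : SpecialLinearGroup (Fin 2) F → ℂ} (hθ : IsIrrCharacter (SpecialLinearGroup (Fin 2) F) θ)
    (h1 : classInner (resSL χ) θ ≠ 0) : θ = resSL (stChar (1 : MulChar F ℂ)) := by
  have hq : 1 < Fintype.card F := Fintype.one_lt_card
  obtain ⟨m, k, hm0, hm, hk, hσ⟩ := unip_sum_prop hχ hθ h1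
  obtain ⟨d, hd0, hd⟩ := IsIrrCharacter.apply_one_pos hθ
  -- type T2
  have hT2 : (∃ α : MulChar F ℂ, χ = stChar α) ∧
      χ 1 + ((Fintype.card F : ℂ) - 1) * χ (tGL 1) = (Fintype.card F : ℂ) := by
    rcases irr_GL2_cases hχ with ⟨-, h2⟩ | ⟨⟨α, rfl⟩, h2⟩ | ⟨-, h2⟩ | ⟨h2, -⟩
    · exfalso
      rw [hdeg] at h2
      have : Fintype.card F = 1 := by exact_mod_cast h2
      omega
    · refine ⟨⟨α, rfl⟩, ?_⟩
      rw [h2, stChar_unip α (tGL 1) 1 one_ne_zero (tGL_coe 1)]
      ring
    · exfalso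
      rw [hdeg] at h2
      have : ((Fintype.card F : ℕ) : ℂ) = ((Fintype.card F + 1 : ℕ) : ℂ) := by
        push_cast; exact h2
      have : Fintype.card F = Fintype.card F + 1 := by exact_mod_cast this
      omega
    · exfalso
      rw [hdeg] at h2
      have : ((0 + 1 : ℕ) : ℂ) = ((0 : ℕ) : ℂ) := by
        push_cast; linear_combination h2
      have : 0 + 1 = 0 := by exact_mod_cast this
      omega
  obtain ⟨⟨α, rfl⟩, hσ'⟩ := hT2
  rw [hσ] at hσ'
  have h3 : m * (Fintype.card F * k) = Fintype.card F := by exact_mod_cast hσ'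
  have hm1 : m = 1 := by
    have h4 : Fintype.card F * (m * k) = Fintype.card F * 1 := by
      rw [mul_one]
      calc Fintype.card F * (m * k) = m * (Fintype.card F * k) := by ring
        _ = Fintype.card F := h3
    have h5 := Nat.eq_of_mul_eq_mul_left (by omega) h4
    exact Nat.eq_one_of_mul_eq_one_right h5
  rw [hm1, Nat.cast_one, one_mul] at hm
  obtain ⟨-, n, hn, hn0⟩ := constituent_degree (isCharacter_resSL (IsIrrCharacter.isCharacter hχ)) hθ h1
  rw [resSL_one, hm] at hn
  have hn' : n = 0 := by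
    have : (n : ℂ) = 0 := by linear_combination -hn
    exact_mod_cast this
  rw [← hn0 hn', resSL_stChar]

/-- The restriction of `stChar 1` to `SL₂` is irreducible. -/
theorem isIrrCharacter_resSL_stChar :
    IsIrrCharacter (SpecialLinearGroup (Fin 2) F) (resSL (stChar (1 : MulChar F ℂ))) := by
  have hχ := isIrrCharacter_stChar (1 : MulChar F ℂ)
  have hres := isCharacter_resSL (IsIrrCharacter.isCharacter hχ)
  have hne : resSL (stChar (1 : MulChar F ℂ)) ≠ 0 := by
    intro h0
    have h1 := congrFun h0 1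
    rw [resSL_one, stChar_one, Pi.zero_apply] at h1
    have : Fintype.card F = 0 := by exact_mod_cast h1
    have := Fintype.card_pos (α := F)
    omega
  obtain ⟨θ, hθ, h1⟩ := IsCharacter.exists_constituent hres hne
  have := eq_resSL_of_under_degree_q hχ (stChar_one 1) hθ h1
  rw [← this]
  exact hθ

theorem resSL_stChar_one :
    resSL (stChar (1 : MulChar F ℂ)) 1 = (Fintype.card F : ℂ) := by
  rw [resSL_one, stChar_one]

/-- The Steinberg character of `SL₂` is trivial on the centre. -/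
theorem resSL_stChar_center {z : SpecialLinearGroup (Fin 2) F}
    (hz : z ∈ Subgroup.center (SpecialLinearGroup (Fin 2) F)) :
    resSL (stChar (1 : MulChar F ℂ)) z = resSL (stChar (1 : MulChar F ℂ)) 1 := by
  rw [resSL_stChar_one, resSL_apply]
  obtain ⟨r, hr, hrz⟩ := Matrix.SpecialLinearGroup.mem_center_iff.mp hz
  have hzc : ((SpecialLinearGroup.toGL z : GL (Fin 2) F) : Matrix (Fin 2) (Fin 2) F) = !![r, 0; 0, r] := by
    change (z : Matrix (Fin 2) (Fin 2) F) = _
    rw [← hrz]
    ext i j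
    fin_cases i <;> fin_cases j <;> simp [Matrix.scalar]
  have hr0 : r ≠ 0 := by
    intro h0
    rw [h0] at hr
    simp at hr
  unfold stChar
  rw [Pi.sub_apply, indFun_psChar_scalar 1 1 _ r hzc, detChar_apply, hzc,
    MulChar.one_apply hr0.isUnit]
  have : (!![r, 0; 0, r] : Matrix (Fin 2) (Fin 2) F).det ≠ 0 := by
    rw [Matrix.det_fin_two]
    simp [hr0]
  rw [MulChar.one_apply this.isUnit]
  ring

/-- An irreducible character of `SL₂` whose degree is divisible by the characteristic is the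
Steinberg character. -/
theorem eq_steinberg_of_dvd (p : ℕ) [Fact p.Prime] [CharP F p]
    {θ : SpecialLinearGroup (Fin 2) F → ℂ} (hθ : IsIrrCharacter (SpecialLinearGroup (Fin 2) F) θ)
    {d : ℕ} (hd : θ 1 = d) (hp : p ∣ d) : θ = resSL (stChar (1 : MulChar F ℂ)) := by
  obtain ⟨χ, hχ, h1⟩ := exists_irr_over_SL hθ
  obtain ⟨m, hm0, hm⟩ :=
    degree_dvd SpecialLinearGroup.toGL SpecialLinearGroup.toGL_injective hχ hθ h1
  obtain ⟨n, hpr, hcard⟩ := FiniteField.card F p
  have hpq : p ∣ Fintype.card F := by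
    rw [hcard]
    exact dvd_pow_self p n.pos.ne'
  have hp2 : 2 ≤ p := hpr.two_le
  have hq : 1 < Fintype.card F := Fintype.one_lt_card
  rw [hd] at hm
  have hpD : ∀ D : ℕ, χ 1 = D → p ∣ D := by
    intro D hD
    rw [hD] at hm
    have : D = m * d := by exact_mod_cast hm
    rw [this]
    exact Dvd.dvd.mul_left hp m
  apply eq_resSL_of_under_degree_q hχ ?_ hθ h1
  rcases irr_GL2_cases hχ with ⟨-, h2⟩ | ⟨-, h2⟩ | ⟨-, h2⟩ | ⟨h2, -⟩
  · exfalso
    have := hpD 1 (by rw [h2]; norm_num)
    have := Nat.le_of_dvd (by norm_num) this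
    omega
  · exact h2
  · exfalso
    have := hpD (Fintype.card F + 1) (by rw [h2]; push_cast; ring)
    have h3 : p ∣ 1 := (Nat.dvd_add_right hpq).mp this
    have := Nat.le_of_dvd (by norm_num) h3
    omega
  · exfalso
    have := hpD (Fintype.card F - 1) (by rw [h2]; push_cast [Nat.cast_sub hq.le]; ring)
    have h3 : p ∣ 1 := by
      have h4 : Fintype.card F = (Fintype.card F - 1) + 1 := by omega
      rw [h4] at hpq
      exact (Nat.dvd_add_right this).mp hpq
    have := Nat.le_of_dvd (by norm_num) h3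
    omega

end Cfsg.Agent.Lib.Helper13
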