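/-
helper13: the `p`-blocks of `SL₂(F)` in the defining characteristic `p` (odd).
-/
import Mathlib
import Cfsg.Agent.S0914
import Cfsg.Agent.Lib.Helper6.NormalPBlock
import Cfsg.Agent.Lib.Helper6.FirstMain
import Cfsg.Agent.Lib.Helper6.DefectOrder
import Cfsg.Agent.Lib.Helper6.SylowIn
import Cfsg.Agent.Lib.Helper6.BlockCoeff
import Cfsg.Agent.Lib.Helper23.DefectClassValues
import Cfsg.Agent.Lib.Lead.BlockBasic
import Cfsg.Agent.Lib.Lead.RealOddBlock
import Cfsg.Agent.Lib.Helper13.SL2ClassSize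
import Cfsg.Agent.Lib.Helper13.SLSteinberg
import Cfsg.Agent.Lib.Helper13.PSL2ClassSizeOdd

set_option autoImplicit false
set_option linter.unusedSectionVars false

namespace Cfsg.Agent.Lib.Helper13

open Matrix Cfsg Cfsg.Agent.CharLib
open scoped ComplexConjugate

section general

variable {G : Type*} [Group G] [Finite G]

/-- A central involution takes the value `± χ(1)`. -/
theorem irr_central_involution (χ : IrrCharacter G) (z : G) (hz : ∀ h : G, h * z = z * h)
    (hz2 : z * z = 1) :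
    (χ : G → ℂ) z = (χ : G → ℂ) 1 ∨ (χ : G → ℂ) z = -(χ : G → ℂ) 1 := by
  let _ : Fintype G := Fintype.ofFinite G
  have h1 := Cfsg.Agent.Lib.Helper6.irr_mul_central χ z hz z
  rw [hz2] at h1
  have hidx : (Subgroup.centralizer ({z} : Set G)).index = 1 := by
    have : Subgroup.centralizer ({z} : Set G) = ⊤ := by
      rw [eq_top_iff]
      intro g _
      rw [Subgroup.mem_centralizer_singleton_iff]
      exact hz g
    rw [this, Subgroup.index_top]
  unfold centralChar at h1
  rw [hidx, Nat.cast_one, one_mul] at h1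
  have h0 := Cfsg.Agent.Lib.Helper24.irr_apply_one_ne_zero χ
  have h2 : (χ : G → ℂ) 1 * (χ : G → ℂ) 1 = (χ : G → ℂ) z * (χ : G → ℂ) z := by
    rw [div_mul_eq_mul_div, eq_div_iff h0] at h1
    exact h1
  have h3 : ((χ : G → ℂ) z - (χ : G → ℂ) 1) * ((χ : G → ℂ) z + (χ : G → ℂ) 1) = 0 := by
    linear_combination -h2
  rcases mul_eq_zero.mp h3 with h | h
  · left; exact sub_eq_zero.mp h
  · right; exact eq_neg_of_add_eq_zero_left h

omit [Finite G] in
/-- The central character at the identity. -/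
theorem centralChar_one (χ : IrrCharacter G) : centralChar (χ : G → ℂ) 1 = 1 := by
  have h0 := Cfsg.Agent.Lib.Helper24.irr_apply_one_ne_zero χ
  have hidx : (Subgroup.centralizer ({1} : Set G)).index = 1 := by
    have : Subgroup.centralizer ({1} : Set G) = ⊤ := by
      rw [eq_top_iff]
      intro g _
      rw [Subgroup.mem_centralizer_singleton_iff]
      simp
    rw [this, Subgroup.index_top]
  unfold centralChar
  rw [hidx, Nat.cast_one, one_mul, div_self h0]

omit [Finite G] in
/-- The central character at a central element. -/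
theorem centralChar_central (χ : IrrCharacter G) (z : G) (hz : ∀ h : G, h * z = z * h) :
    centralChar (χ : G → ℂ) z = (χ : G → ℂ) z / (χ : G → ℂ) 1 := by
  have hidx : (Subgroup.centralizer ({z} : Set G)).index = 1 := by
    have : Subgroup.centralizer ({z} : Set G) = ⊤ := by
      rw [eq_top_iff]
      intro g _
      rw [Subgroup.mem_centralizer_singleton_iff]
      exact hz g
    rw [this, Subgroup.index_top]
  unfold centralChar
  rw [hidx, Nat.cast_one, one_mul]

end general

section sl2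

variable {F : Type*} [Field F] [Fintype F] [DecidableEq F]

theorem neg_one_eq_zSL : (-1 : SpecialLinearGroup (Fin 2) F) = zSL F := by
  apply Subtype.ext
  rw [zSL_coe, Matrix.SpecialLinearGroup.coe_neg, Matrix.SpecialLinearGroup.coe_one]
  ext i j
  fin_cases i <;> fin_cases j <;> simp

theorem mul_neg_one_comm (g : SpecialLinearGroup (Fin 2) F) : g * (-1) = (-1) * g := by
  rw [neg_one_eq_zSL]
  exact Subgroup.mem_center_iff.mp zSL_mem_center g

theorem neg_one_mul_neg_one : (-1 : SpecialLinearGroup (Fin 2) F) * (-1) = 1 := by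
  simp

theorem neg_one_ne_one (h2 : (2 : F) ≠ 0) : (-1 : SpecialLinearGroup (Fin 2) F) ≠ 1 := by
  rw [neg_one_eq_zSL]
  exact zSL_ne_one h2

variable (p : ℕ) [Fact p.Prime] [CharP F p]

omit [Fintype F] [DecidableEq F] in
theorem pow_char_eq_one_of_trace_eq_two (g : SpecialLinearGroup (Fin 2) F)
    (h : (g : Matrix (Fin 2) (Fin 2) F).trace = 2) : g ^ p = 1 := by
  have hch := cayley_hamilton_two (g : Matrix (Fin 2) (Fin 2) F) g.2
  rw [← Matrix.trace_fin_two, h] at hch
  set N : Matrix (Fin 2) (Fin 2) F := (g : Matrix (Fin 2) (Fin 2) F) - 1 with hNdef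
  have hN : N ^ 2 = 0 := by
    rw [hNdef, pow_two, sub_mul, mul_sub, mul_sub, hch]
    simp only [Matrix.mul_one, Matrix.one_mul]
    module
  have e : (g : Matrix (Fin 2) (Fin 2) F) = 1 + N := by rw [hNdef]; abel
  have hp2 : 2 ≤ p := (Fact.out : p.Prime).two_le
  have hNp : N ^ p = 0 := by
    have : p = 2 + (p - 2) := by omega
    rw [this, pow_add, hN, zero_mul]
  apply Subtype.ext
  rw [Matrix.SpecialLinearGroup.coe_pow, Matrix.SpecialLinearGroup.coe_one, e,
    add_pow_char_of_commute p (Commute.one_left N), one_pow, hNp, add_zero]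

theorem char_dvd_card : p ∣ Fintype.card F := by
  obtain ⟨n, -, hcard⟩ := FiniteField.card F p
  rw [hcard]
  exact dvd_pow_self p n.pos.ne'

/-- A `p`-regular element of `SL₂(F)` is central or has class size divisible by `p`. -/
theorem central_or_dvd_index (hp2 : p ≠ 2) (g : SpecialLinearGroup (Fin 2) F)
    (hg : ¬ p ∣ orderOf g) :
    g = 1 ∨ g = -1 ∨
      p ∣ (Subgroup.centralizer ({g} : Set (SpecialLinearGroup (Fin 2) F))).index := by
  have hpp : p.Prime := Fact.out
  by_cases htr : (g : Matrix (Fin 2) (Fin 2) F).trace ^ 2 = 4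
  · have h0 : ((g : Matrix (Fin 2) (Fin 2) F).trace - 2) *
        ((g : Matrix (Fin 2) (Fin 2) F).trace + 2) = 0 := by linear_combination htr
    have key : ∀ h : SpecialLinearGroup (Fin 2) F,
        (h : Matrix (Fin 2) (Fin 2) F).trace = 2 → h = 1 ∨ orderOf h = p := by
      intro h hh
      have hgp : h ^ p = 1 := pow_char_eq_one_of_trace_eq_two p h hh
      have : orderOf h ∣ p := orderOf_dvd_of_pow_eq_one hgp
      rcases (Nat.dvd_prime hpp).mp this with h1 | h1
      · left; exact orderOf_eq_one_iff.mp h1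
      · right; exact h1
    rcases mul_eq_zero.mp h0 with h | h
    · left
      rcases key g (sub_eq_zero.mp h) with h1 | h1
      · exact h1
      · exact absurd (h1 ▸ dvd_rfl) hg
    · right; left
      have hneg : ((-g : SpecialLinearGroup (Fin 2) F) : Matrix (Fin 2) (Fin 2) F).trace = 2 := by
        rw [Matrix.SpecialLinearGroup.coe_neg, Matrix.trace_neg]
        linear_combination -h
      rcases key (-g) hneg with h1 | h1
      · have : g = -(-g) := (neg_neg g).symm
        rw [this, h1]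
      · exfalso
        apply hg
        have hsq : g ^ 2 = (-g) ^ 2 := by rw [neg_sq]
        have hcop : Nat.Coprime (orderOf (-g)) 2 := by
          rw [h1]
          exact (Nat.coprime_primes hpp Nat.prime_two).mpr hp2
        have h3 : orderOf ((-g) ^ 2) = p := by
          rw [hcop.orderOf_pow, h1]
        rw [← hsq] at h3
        rw [← h3]
        exact orderOf_pow_dvd 2
  · right; right
    rw [index_centralizer_of_trace g htr]
    have hpq := char_dvd_card (F := F) p
    exact Dvd.dvd.add (Dvd.dvd.mul_right hpq _) (Dvd.dvd.mul_right hpq _)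

end sl2

section defect

variable {G : Type*} [Group G] [Finite G] {M : Ideal AlgInt}

/-- If the block idempotent has a unit coefficient at `1`, every Sylow `p`-subgroup is a defect
group. -/
theorem isDefectGroup_sylow_of_blockCoeff_one {p : ℕ} [Fact p.Prime] (hM : IsPModular p M)
    (B : Set (IrrCharacter G)) (h1 : MemLocalRing M (blockCoeff B 1))
    (h2 : ¬ MemLocalIdeal M (blockCoeff B 1)) (P : Sylow p G) :
    IsDefectGroup p M B (P : Subgroup G) := by
  have hprime : M.IsPrime := Cfsg.Agent.Lib.Helper24.isPrime_of_isPModular hM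
  refine ⟨1, ⟨h1, h2, fun χ _ => ?_⟩, ?_⟩
  · rw [centralChar_one]
    exact Cfsg.Agent.Lib.Helper24.not_memLocalIdeal_one
  · obtain ⟨S, hS, hPS⟩ := Cfsg.Agent.Lib.Helper6.exists_isSylowIn_ge
      (Subgroup.centralizer ({1} : Set G)) P.isPGroup' (by
        intro x _
        rw [Subgroup.mem_centralizer_singleton_iff]
        simp)
    have hSP : S = (P : Subgroup G) := P.is_maximal' hS.isPGroup hPS
    rw [hSP] at hS
    exact hS

end defect

section blocks

variable {F : Type*} [Field F] [Fintype F] [DecidableEq F] (p : ℕ) [Fact p.Prime] [CharP F p]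
variable {M : Ideal AlgInt}

/-- The Steinberg character of `SL₂(F)`. -/
noncomputable def stIrr (F : Type*) [Field F] [Fintype F] [DecidableEq F] :
    IrrCharacter (SpecialLinearGroup (Fin 2) F) :=
  ⟨resSL (stChar (1 : MulChar F ℂ)), isIrrCharacter_resSL_stChar⟩

theorem stIrr_one : (stIrr F : SpecialLinearGroup (Fin 2) F → ℂ) 1 = (Fintype.card F : ℂ) :=
  resSL_stChar_one

theorem stIrr_neg_one :
    (stIrr F : SpecialLinearGroup (Fin 2) F → ℂ) (-1) = (Fintype.card F : ℂ) := by
  have h : (-1 : SpecialLinearGroup (Fin 2) F) ∈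
      Subgroup.center (SpecialLinearGroup (Fin 2) F) := by
    rw [neg_one_eq_zSL]; exact zSL_mem_center
  have := resSL_stChar_center (F := F) h
  rw [resSL_stChar_one] at this
  exact this

theorem charDegree_stIrr :
    charDegree (stIrr F : SpecialLinearGroup (Fin 2) F → ℂ) = Fintype.card F := by
  have := Cfsg.Agent.Lib.Helper24.irr_apply_one (stIrr F)
  rw [stIrr_one] at this
  exact_mod_cast this.symm

theorem eq_stIrr_of_dvd (χ : IrrCharacter (SpecialLinearGroup (Fin 2) F))
    (h : p ∣ charDegree (χ : SpecialLinearGroup (Fin 2) F → ℂ)) : χ = stIrr F :=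
  Subtype.ext (eq_steinberg_of_dvd p χ.2 (Cfsg.Agent.Lib.Helper24.irr_apply_one χ) h)

include p in
theorem eq_stIrr_of_apply_one (χ : IrrCharacter (SpecialLinearGroup (Fin 2) F))
    (h : (χ : SpecialLinearGroup (Fin 2) F → ℂ) 1 = (Fintype.card F : ℂ)) : χ = stIrr F := by
  apply eq_stIrr_of_dvd p
  have : charDegree (χ : SpecialLinearGroup (Fin 2) F → ℂ) = Fintype.card F := by
    have := Cfsg.Agent.Lib.Helper24.irr_apply_one χ
    rw [h] at this
    exact_mod_cast this.symm
  rw [this]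
  exact char_dvd_card p

theorem not_dvd_of_ne (χ : IrrCharacter (SpecialLinearGroup (Fin 2) F))
    (h : (χ : SpecialLinearGroup (Fin 2) F → ℂ) 1 ≠ (Fintype.card F : ℂ)) :
    ¬ p ∣ charDegree (χ : SpecialLinearGroup (Fin 2) F → ℂ) := by
  intro hd
  apply h
  rw [eq_stIrr_of_dvd p χ hd]
  exact stIrr_one

theorem not_dvd_sq_sub_one : ¬ p ∣ Fintype.card F ^ 2 - 1 := by
  intro h
  have hq : p ∣ Fintype.card F ^ 2 := Dvd.dvd.pow (char_dvd_card (F := F) p) (by norm_num)
  have hpos : 1 ≤ Fintype.card F ^ 2 := Nat.one_le_pow _ _ Fintype.card_pos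
  have : p ∣ 1 := by
    have h3 : Fintype.card F ^ 2 = (Fintype.card F ^ 2 - 1) + 1 := by omega
    rw [h3] at hq
    exact (Nat.dvd_add_right h).mp hq
  exact (Fact.out : p.Prime).one_lt.ne' (Nat.dvd_one.mp this)

theorem blockOf_stIrr (hM : IsPModular p M) :
    blockOf M (stIrr F : SpecialLinearGroup (Fin 2) F → ℂ) = {stIrr F} := by
  apply (Cfsg.Agent.S0914.result p M hM (stIrr F)).mp
  rw [charDegree_stIrr, card_SL2, Nat.mul_div_cancel_left _ Fintype.card_pos]
  exact not_dvd_sq_sub_one p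

theorem sameBlock_of_sign (hp2 : p ≠ 2) (hM : IsPModular p M)
    (χ ψ : IrrCharacter (SpecialLinearGroup (Fin 2) F))
    (hχ : (χ : SpecialLinearGroup (Fin 2) F → ℂ) 1 ≠ (Fintype.card F : ℂ))
    (hψ : (ψ : SpecialLinearGroup (Fin 2) F → ℂ) 1 ≠ (Fintype.card F : ℂ)) (ε : ℂ)
    (h1 : (χ : SpecialLinearGroup (Fin 2) F → ℂ) (-1) =
      ε * (χ : SpecialLinearGroup (Fin 2) F → ℂ) 1)
    (h2 : (ψ : SpecialLinearGroup (Fin 2) F → ℂ) (-1) =
      ε * (ψ : SpecialLinearGroup (Fin 2) F → ℂ) 1) :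
    SameBlock M (χ : SpecialLinearGroup (Fin 2) F → ℂ) (ψ : SpecialLinearGroup (Fin 2) F → ℂ) := by
  have hprime : M.IsPrime := Cfsg.Agent.Lib.Helper24.isPrime_of_isPModular hM
  apply Cfsg.Agent.Lib.Helper6.sameBlock_of_forall_pRegular hM χ ψ
  intro g hg
  rcases central_or_dvd_index p hp2 g hg with rfl | rfl | hdvd
  · rw [centralChar_one, centralChar_one, sub_self]
    exact Cfsg.Agent.Lib.Helper24.memLocalIdeal_zero
      (Cfsg.Agent.Lib.Helper24.one_not_mem_of_isPModular hM)
  · rw [centralChar_central χ (-1) mul_neg_one_comm, centralChar_central ψ (-1) mul_neg_one_comm,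
      h1, h2, mul_div_assoc, mul_div_assoc,
      div_self (Cfsg.Agent.Lib.Helper24.irr_apply_one_ne_zero χ),
      div_self (Cfsg.Agent.Lib.Helper24.irr_apply_one_ne_zero ψ), sub_self]
    exact Cfsg.Agent.Lib.Helper24.memLocalIdeal_zero
      (Cfsg.Agent.Lib.Helper24.one_not_mem_of_isPModular hM)
  · have key : ∀ θ : IrrCharacter (SpecialLinearGroup (Fin 2) F),
        (θ : SpecialLinearGroup (Fin 2) F → ℂ) 1 ≠ (Fintype.card F : ℂ) →
        MemLocalIdeal M (centralChar (θ : SpecialLinearGroup (Fin 2) F → ℂ) g) := by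
      intro θ hθ
      unfold centralChar
      rw [mul_div_assoc]
      apply Cfsg.Agent.Lib.Helper24.memLocalIdeal_mul_right
        (Cfsg.Agent.CharLib.memLocalIdeal_natCast_of_dvd hM hdvd)
      rw [div_eq_mul_inv, Cfsg.Agent.Lib.Helper24.irr_apply_one θ]
      exact Cfsg.Agent.Lib.Helper24.memLocalRing_mul
        (Cfsg.Agent.CharLib.memLocalRing_char (IsIrrCharacter.isCharacter θ.2) g)
        (Cfsg.Agent.CharLib.memLocalRing_inv_natCast_of_not_dvd hM (not_dvd_of_ne p θ hθ))
    exact Cfsg.Agent.Lib.Helper24.memLocalIdeal_sub (key χ hχ) (key ψ hψ)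

theorem not_memLocalIdeal_two (hp2 : p ≠ 2) (hM : IsPModular p M) : ¬ MemLocalIdeal M (2 : ℂ) := by
  have hpp : p.Prime := Fact.out
  have h := (Cfsg.Agent.Lib.Helper23.natCast_div_unit hM (k := 2) (c := 1)
    (fun h => hp2 ((Nat.prime_dvd_prime_iff_eq hpp Nat.prime_two).mp h))
    (fun h => hpp.one_lt.ne' (Nat.dvd_one.mp h))).2
  simpa using h

omit [CharP F p] in
theorem not_sameBlock_of_sign (hp2 : p ≠ 2) (hM : IsPModular p M)
    (χ ψ : IrrCharacter (SpecialLinearGroup (Fin 2) F))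
    (h1 : (χ : SpecialLinearGroup (Fin 2) F → ℂ) (-1) = (χ : SpecialLinearGroup (Fin 2) F → ℂ) 1)
    (h2 : (ψ : SpecialLinearGroup (Fin 2) F → ℂ) (-1) =
      -(ψ : SpecialLinearGroup (Fin 2) F → ℂ) 1) :
    ¬ SameBlock M (χ : SpecialLinearGroup (Fin 2) F → ℂ)
      (ψ : SpecialLinearGroup (Fin 2) F → ℂ) := by
  intro h
  have h3 := h (-1)
  rw [centralChar_central χ (-1) mul_neg_one_comm, centralChar_central ψ (-1) mul_neg_one_comm,
    h1, h2, neg_div, div_self (Cfsg.Agent.Lib.Helper24.irr_apply_one_ne_zero χ),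
    div_self (Cfsg.Agent.Lib.Helper24.irr_apply_one_ne_zero ψ)] at h3
  have : (1 : ℂ) - -1 = 2 := by norm_num
  rw [this] at h3
  exact not_memLocalIdeal_two p hp2 hM h3

end blocks

section blocks2

variable {F : Type*} [Field F] [Fintype F] [DecidableEq F] (p : ℕ) [Fact p.Prime] [CharP F p]
variable {M : Ideal AlgInt}

theorem two_ne_zero_of_char (hp2 : p ≠ 2) : (2 : F) ≠ 0 := by
  intro h
  have h2 : ((2 : ℕ) : F) = 0 := by exact_mod_cast h
  have := (CharP.cast_eq_zero_iff F p 2).mp h2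
  exact hp2 ((Nat.prime_dvd_prime_iff_eq (Fact.out : p.Prime) Nat.prime_two).mp this)

theorem card_ne_one_complex : ((Fintype.card F : ℕ) : ℂ) ≠ 1 := by
  have : 1 < Fintype.card F := Fintype.one_lt_card
  exact_mod_cast this.ne'

include p in
theorem apply_one_ne_of_odd (ψ : IrrCharacter (SpecialLinearGroup (Fin 2) F))
    (ho : (ψ : SpecialLinearGroup (Fin 2) F → ℂ) (-1) =
      -(ψ : SpecialLinearGroup (Fin 2) F → ℂ) 1) :
    (ψ : SpecialLinearGroup (Fin 2) F → ℂ) 1 ≠ (Fintype.card F : ℂ) := by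
  intro h
  have hst := eq_stIrr_of_apply_one p ψ h
  rw [hst, stIrr_neg_one, stIrr_one] at ho
  have hq : (Fintype.card F : ℂ) ≠ 0 := by exact_mod_cast (Fintype.card_pos (α := F)).ne'
  apply hq
  linear_combination (1 / 2 : ℂ) * ho

theorem blockOf_eq_of_even (hp2 : p ≠ 2) (hM : IsPModular p M)
    (χ : IrrCharacter (SpecialLinearGroup (Fin 2) F))
    (hq : (χ : SpecialLinearGroup (Fin 2) F → ℂ) 1 ≠ (Fintype.card F : ℂ))
    (he : (χ : SpecialLinearGroup (Fin 2) F → ℂ) (-1) =
      (χ : SpecialLinearGroup (Fin 2) F → ℂ) 1) :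
    blockOf M (χ : SpecialLinearGroup (Fin 2) F → ℂ) =
      {ψ : IrrCharacter (SpecialLinearGroup (Fin 2) F) |
        (ψ : SpecialLinearGroup (Fin 2) F → ℂ) (-1) = (ψ : SpecialLinearGroup (Fin 2) F → ℂ) 1 ∧
        (ψ : SpecialLinearGroup (Fin 2) F → ℂ) 1 ≠ (Fintype.card F : ℂ)} := by
  have hprime : M.IsPrime := Cfsg.Agent.Lib.Helper24.isPrime_of_isPModular hM
  ext ψ
  simp only [blockOf, Set.mem_ofPred_eq]
  constructor
  · intro h
    have hψq : (ψ : SpecialLinearGroup (Fin 2) F → ℂ) 1 ≠ (Fintype.card F : ℂ) := by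
      intro hψ
      have hst := eq_stIrr_of_apply_one p ψ hψ
      have hmem : χ ∈ blockOf M (stIrr F : SpecialLinearGroup (Fin 2) F → ℂ) := by
        rw [← hst]
        exact Cfsg.Agent.Lib.Helper6.sameBlock_symm h
      rw [blockOf_stIrr p hM, Set.mem_singleton_iff] at hmem
      apply hq
      rw [hmem]
      exact stIrr_one
    refine ⟨?_, hψq⟩
    rcases irr_central_involution ψ (-1) mul_neg_one_comm neg_one_mul_neg_one with e | o
    · exact e
    · exact absurd h (not_sameBlock_of_sign p hp2 hM χ ψ he o)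
  · rintro ⟨he', hq'⟩
    exact sameBlock_of_sign p hp2 hM χ ψ hq hq' 1 (by rw [he, one_mul]) (by rw [he', one_mul])

theorem blockOf_eq_of_odd (hp2 : p ≠ 2) (hM : IsPModular p M)
    (χ : IrrCharacter (SpecialLinearGroup (Fin 2) F))
    (ho : (χ : SpecialLinearGroup (Fin 2) F → ℂ) (-1) =
      -(χ : SpecialLinearGroup (Fin 2) F → ℂ) 1) :
    blockOf M (χ : SpecialLinearGroup (Fin 2) F → ℂ) =
      {ψ : IrrCharacter (SpecialLinearGroup (Fin 2) F) |
        (ψ : SpecialLinearGroup (Fin 2) F → ℂ) (-1) =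
          -(ψ : SpecialLinearGroup (Fin 2) F → ℂ) 1} := by
  have hprime : M.IsPrime := Cfsg.Agent.Lib.Helper24.isPrime_of_isPModular hM
  ext ψ
  simp only [blockOf, Set.mem_ofPred_eq]
  constructor
  · intro h
    rcases irr_central_involution ψ (-1) mul_neg_one_comm neg_one_mul_neg_one with e | o
    · exact absurd (Cfsg.Agent.Lib.Helper6.sameBlock_symm h)
        (not_sameBlock_of_sign p hp2 hM ψ χ e ho)
    · exact o
  · intro ho'
    exact sameBlock_of_sign p hp2 hM χ ψ (apply_one_ne_of_odd p χ ho)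
      (apply_one_ne_of_odd p ψ ho') (-1) (by rw [ho]; ring) (by rw [ho']; ring)

end blocks2

section sums

variable {F : Type*} [Field F] [Fintype F] [DecidableEq F] (p : ℕ) [Fact p.Prime] [CharP F p]
variable {M : Ideal AlgInt}

/-- The sums of squares of degrees over the even and over the odd characters. -/
theorem sum_even_odd_sq (h2 : (2 : F) ≠ 0)
    [Fintype (IrrCharacter (SpecialLinearGroup (Fin 2) F))] :
    (∑ χ : IrrCharacter (SpecialLinearGroup (Fin 2) F),
      (if (χ : SpecialLinearGroup (Fin 2) F → ℂ) (-1) = (χ : SpecialLinearGroup (Fin 2) F → ℂ) 1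
        then (χ : SpecialLinearGroup (Fin 2) F → ℂ) 1 * (χ : SpecialLinearGroup (Fin 2) F → ℂ) 1
        else 0)) = (Nat.card (SpecialLinearGroup (Fin 2) F) : ℂ) / 2 ∧
    (∑ χ : IrrCharacter (SpecialLinearGroup (Fin 2) F),
      (if (χ : SpecialLinearGroup (Fin 2) F → ℂ) (-1) = -(χ : SpecialLinearGroup (Fin 2) F → ℂ) 1
        then (χ : SpecialLinearGroup (Fin 2) F → ℂ) 1 * (χ : SpecialLinearGroup (Fin 2) F → ℂ) 1
        else 0)) = (Nat.card (SpecialLinearGroup (Fin 2) F) : ℂ) / 2 := by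
  classical
  let _ : Fintype (SpecialLinearGroup (Fin 2) F) := Fintype.ofFinite _
  have hA := Cfsg.Agent.Lib.Helper24.sum_irr_degree_mul (G := SpecialLinearGroup (Fin 2) F) 1
  have hB := Cfsg.Agent.Lib.Helper24.sum_irr_degree_mul (G := SpecialLinearGroup (Fin 2) F) (-1)
  rw [if_pos rfl] at hA
  rw [if_neg (neg_one_ne_one h2)] at hB
  set E := ∑ χ : IrrCharacter (SpecialLinearGroup (Fin 2) F),
      (if (χ : SpecialLinearGroup (Fin 2) F → ℂ) (-1) = (χ : SpecialLinearGroup (Fin 2) F → ℂ) 1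
        then (χ : SpecialLinearGroup (Fin 2) F → ℂ) 1 * (χ : SpecialLinearGroup (Fin 2) F → ℂ) 1
        else 0) with hE
  set O := ∑ χ : IrrCharacter (SpecialLinearGroup (Fin 2) F),
      (if (χ : SpecialLinearGroup (Fin 2) F → ℂ) (-1) = -(χ : SpecialLinearGroup (Fin 2) F → ℂ) 1
        then (χ : SpecialLinearGroup (Fin 2) F → ℂ) 1 * (χ : SpecialLinearGroup (Fin 2) F → ℂ) 1
        else 0) with hO
  have hterm : ∀ χ : IrrCharacter (SpecialLinearGroup (Fin 2) F),
      ((χ : SpecialLinearGroup (Fin 2) F → ℂ) 1 * (χ : SpecialLinearGroup (Fin 2) F → ℂ) 1 =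
        (if (χ : SpecialLinearGroup (Fin 2) F → ℂ) (-1) =
            (χ : SpecialLinearGroup (Fin 2) F → ℂ) 1
          then (χ : SpecialLinearGroup (Fin 2) F → ℂ) 1 *
            (χ : SpecialLinearGroup (Fin 2) F → ℂ) 1 else 0) +
        (if (χ : SpecialLinearGroup (Fin 2) F → ℂ) (-1) =
            -(χ : SpecialLinearGroup (Fin 2) F → ℂ) 1
          then (χ : SpecialLinearGroup (Fin 2) F → ℂ) 1 *
            (χ : SpecialLinearGroup (Fin 2) F → ℂ) 1 else 0)) ∧
      ((χ : SpecialLinearGroup (Fin 2) F → ℂ) 1 * (χ : SpecialLinearGroup (Fin 2) F → ℂ) (-1) =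
        (if (χ : SpecialLinearGroup (Fin 2) F → ℂ) (-1) =
            (χ : SpecialLinearGroup (Fin 2) F → ℂ) 1
          then (χ : SpecialLinearGroup (Fin 2) F → ℂ) 1 *
            (χ : SpecialLinearGroup (Fin 2) F → ℂ) 1 else 0) -
        (if (χ : SpecialLinearGroup (Fin 2) F → ℂ) (-1) =
            -(χ : SpecialLinearGroup (Fin 2) F → ℂ) 1
          then (χ : SpecialLinearGroup (Fin 2) F → ℂ) 1 *
            (χ : SpecialLinearGroup (Fin 2) F → ℂ) 1 else 0)) := by
    intro χ
    have h0 := Cfsg.Agent.Lib.Helper24.irr_apply_one_ne_zero χ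
    rcases irr_central_involution χ (-1) mul_neg_one_comm neg_one_mul_neg_one with e | o
    · have hne : ¬ ((χ : SpecialLinearGroup (Fin 2) F → ℂ) (-1) =
          -(χ : SpecialLinearGroup (Fin 2) F → ℂ) 1) := by
        rw [e]
        intro h
        apply h0
        linear_combination (1 / 2 : ℂ) * h
      rw [if_pos e, if_neg hne, e]
      constructor <;> ring
    · have hne : ¬ ((χ : SpecialLinearGroup (Fin 2) F → ℂ) (-1) =
          (χ : SpecialLinearGroup (Fin 2) F → ℂ) 1) := by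
        rw [o]
        intro h
        apply h0
        linear_combination (-1 / 2 : ℂ) * h
      rw [if_neg hne, if_pos o, o]
      constructor <;> ring
  have hsum1 : E + O = (Nat.card (SpecialLinearGroup (Fin 2) F) : ℂ) := by
    rw [hE, hO, ← Finset.sum_add_distrib, Nat.card_eq_fintype_card]
    refine Eq.trans ?_ hA
    exact Finset.sum_congr rfl (fun χ _ => ((hterm χ).1).symm)
  have hsum2 : E - O = 0 := by
    rw [hE, hO, ← Finset.sum_sub_distrib]
    refine Eq.trans ?_ hB
    exact Finset.sum_congr rfl (fun χ _ => ((hterm χ).2).symm)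
  constructor
  · linear_combination (1 / 2 : ℂ) * hsum1 + (1 / 2 : ℂ) * hsum2
  · linear_combination (1 / 2 : ℂ) * hsum1 - (1 / 2 : ℂ) * hsum2

include p in
/-- There is an irreducible character with `χ(-1) = -χ(1)`. -/
theorem exists_odd_irr (hp2 : p ≠ 2) :
    ∃ χ : IrrCharacter (SpecialLinearGroup (Fin 2) F),
      (χ : SpecialLinearGroup (Fin 2) F → ℂ) (-1) = -(χ : SpecialLinearGroup (Fin 2) F → ℂ) 1 := by
  classical
  let _ := fintypeIrr (SpecialLinearGroup (Fin 2) F)
  by_contra hcon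
  push Not at hcon
  have h := (sum_even_odd_sq (F := F) (two_ne_zero_of_char p hp2)).2
  rw [Finset.sum_eq_zero (fun χ _ => if_neg (hcon χ))] at h
  have hpos : (Nat.card (SpecialLinearGroup (Fin 2) F) : ℂ) ≠ 0 := by
    exact_mod_cast (Nat.card_pos (α := SpecialLinearGroup (Fin 2) F)).ne'
  apply hpos
  linear_combination (-2 : ℂ) * h

end sums

section coeff

variable {F : Type*} [Field F] [Fintype F] [DecidableEq F] (p : ℕ) [Fact p.Prime] [CharP F p]
variable {M : Ideal AlgInt}

theorem conj_apply_one {G : Type*} [Group G] (χ : IrrCharacter G) :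
    conj ((χ : G → ℂ) 1) = (χ : G → ℂ) 1 := by
  rw [Cfsg.Agent.Lib.Helper24.irr_apply_one χ, Complex.conj_natCast]

include p in
theorem blockCoeff_odd_one (hp2 : p ≠ 2) :
    blockCoeff {χ : IrrCharacter (SpecialLinearGroup (Fin 2) F) |
      (χ : SpecialLinearGroup (Fin 2) F → ℂ) (-1) =
        -(χ : SpecialLinearGroup (Fin 2) F → ℂ) 1} 1 = ((1 : ℕ) : ℂ) / ((2 : ℕ) : ℂ) := by
  classical
  let _ := fintypeIrr (SpecialLinearGroup (Fin 2) F)
  rw [Cfsg.Agent.Lib.Helper6.blockCoeff_eq_sum]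
  have hO := (sum_even_odd_sq (F := F) (two_ne_zero_of_char p hp2)).2
  have hcongr : (∑ χ : IrrCharacter (SpecialLinearGroup (Fin 2) F),
      if χ ∈ {χ : IrrCharacter (SpecialLinearGroup (Fin 2) F) |
        (χ : SpecialLinearGroup (Fin 2) F → ℂ) (-1) =
          -(χ : SpecialLinearGroup (Fin 2) F → ℂ) 1}
      then (χ : SpecialLinearGroup (Fin 2) F → ℂ) 1 *
        conj ((χ : SpecialLinearGroup (Fin 2) F → ℂ) 1) else 0) =
      ∑ χ : IrrCharacter (SpecialLinearGroup (Fin 2) F),
      (if (χ : SpecialLinearGroup (Fin 2) F → ℂ) (-1) = -(χ : SpecialLinearGroup (Fin 2) F → ℂ) 1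
        then (χ : SpecialLinearGroup (Fin 2) F → ℂ) 1 * (χ : SpecialLinearGroup (Fin 2) F → ℂ) 1
        else 0) := by
    apply Finset.sum_congr rfl
    intro χ _
    rw [conj_apply_one]
    rfl
  rw [hcongr, hO]
  have hpos : (Nat.card (SpecialLinearGroup (Fin 2) F) : ℂ) ≠ 0 := by
    exact_mod_cast (Nat.card_pos (α := SpecialLinearGroup (Fin 2) F)).ne'
  field_simp
  norm_num

include p in
theorem blockCoeff_even_one (hp2 : p ≠ 2) (r : ℕ) (hr : Fintype.card F = r + 3) :
    blockCoeff {χ : IrrCharacter (SpecialLinearGroup (Fin 2) F) |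
      (χ : SpecialLinearGroup (Fin 2) F → ℂ) (-1) = (χ : SpecialLinearGroup (Fin 2) F → ℂ) 1 ∧
      (χ : SpecialLinearGroup (Fin 2) F → ℂ) 1 ≠ (Fintype.card F : ℂ)} 1 =
      ((r ^ 2 + 4 * r + 2 : ℕ) : ℂ) / ((2 * (r ^ 2 + 6 * r + 8) : ℕ) : ℂ) := by
  classical
  let _ := fintypeIrr (SpecialLinearGroup (Fin 2) F)
  rw [Cfsg.Agent.Lib.Helper6.blockCoeff_eq_sum]
  have hE := (sum_even_odd_sq (F := F) (two_ne_zero_of_char p hp2)).1
  have hcongr : (∑ χ : IrrCharacter (SpecialLinearGroup (Fin 2) F),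
      if χ ∈ {χ : IrrCharacter (SpecialLinearGroup (Fin 2) F) |
        (χ : SpecialLinearGroup (Fin 2) F → ℂ) (-1) = (χ : SpecialLinearGroup (Fin 2) F → ℂ) 1 ∧
        (χ : SpecialLinearGroup (Fin 2) F → ℂ) 1 ≠ (Fintype.card F : ℂ)}
      then (χ : SpecialLinearGroup (Fin 2) F → ℂ) 1 *
        conj ((χ : SpecialLinearGroup (Fin 2) F → ℂ) 1) else 0) =
      (∑ χ : IrrCharacter (SpecialLinearGroup (Fin 2) F),
      (if (χ : SpecialLinearGroup (Fin 2) F → ℂ) (-1) = (χ : SpecialLinearGroup (Fin 2) F → ℂ) 1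
        then (χ : SpecialLinearGroup (Fin 2) F → ℂ) 1 * (χ : SpecialLinearGroup (Fin 2) F → ℂ) 1
        else 0)) -
      ∑ χ : IrrCharacter (SpecialLinearGroup (Fin 2) F),
        (if χ = stIrr F then (Fintype.card F : ℂ) * (Fintype.card F : ℂ) else 0) := by
    rw [← Finset.sum_sub_distrib]
    apply Finset.sum_congr rfl
    intro χ _
    rw [conj_apply_one]
    by_cases hst : χ = stIrr F
    · rw [if_pos hst]
      have h1 : (χ : SpecialLinearGroup (Fin 2) F → ℂ) 1 = (Fintype.card F : ℂ) := by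
        rw [hst]; exact stIrr_one
      have h2 : (χ : SpecialLinearGroup (Fin 2) F → ℂ) (-1) =
          (χ : SpecialLinearGroup (Fin 2) F → ℂ) 1 := by
        rw [hst, stIrr_neg_one, stIrr_one]
      have hmem : χ ∉ {χ : IrrCharacter (SpecialLinearGroup (Fin 2) F) |
          (χ : SpecialLinearGroup (Fin 2) F → ℂ) (-1) =
            (χ : SpecialLinearGroup (Fin 2) F → ℂ) 1 ∧
          (χ : SpecialLinearGroup (Fin 2) F → ℂ) 1 ≠ (Fintype.card F : ℂ)} :=
        fun hmem => hmem.2 h1
      rw [if_neg hmem, if_pos h2, h1, sub_self]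
    · rw [if_neg hst, sub_zero]
      have h1 : (χ : SpecialLinearGroup (Fin 2) F → ℂ) 1 ≠ (Fintype.card F : ℂ) :=
        fun h => hst (eq_stIrr_of_apply_one p χ h)
      by_cases he : (χ : SpecialLinearGroup (Fin 2) F → ℂ) (-1) =
          (χ : SpecialLinearGroup (Fin 2) F → ℂ) 1
      · rw [if_pos he]
        exact if_pos ⟨he, h1⟩
      · rw [if_neg he]
        apply if_neg
        intro hmem
        exact he hmem.1
  rw [hcongr, hE, Finset.sum_ite_eq' Finset.univ (stIrr F), if_pos (Finset.mem_univ _), card_SL2, hr]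
  have hsq : (r + 3) ^ 2 - 1 = r ^ 2 + 6 * r + 8 := by
    have : (r + 3) ^ 2 = r ^ 2 + 6 * r + 8 + 1 := by ring
    omega
  rw [hsq]
  have h1 : ((r : ℂ) + 3) ≠ 0 := by
    have : ((r + 3 : ℕ) : ℂ) ≠ 0 := Nat.cast_ne_zero.mpr (by omega)
    simpa using this
  have h2 : ((r : ℂ) ^ 2 + 6 * r + 8) ≠ 0 := by
    have : ((r ^ 2 + 6 * r + 8 : ℕ) : ℂ) ≠ 0 := Nat.cast_ne_zero.mpr (by positivity)
    simpa using this
  push_cast
  field_simp
  ring

end coeff

section main

variable {F : Type*} [Field F] [Fintype F] [DecidableEq F] (p : ℕ) [Fact p.Prime] [CharP F p]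
variable {M : Ideal AlgInt}

/-- The three `p`-blocks of `SL₂(F)` in the defining characteristic. -/
theorem sl2_blocks (hp2 : p ≠ 2) (hM : IsPModular p M) :
    (∀ B : Set (IrrCharacter (SpecialLinearGroup (Fin 2) F)), IsPBlock M B ↔
      (B = {χ : IrrCharacter (SpecialLinearGroup (Fin 2) F) |
          (χ : SpecialLinearGroup (Fin 2) F → ℂ) 1 = (Fintype.card F : ℂ)} ∨
       B = {χ : IrrCharacter (SpecialLinearGroup (Fin 2) F) |
          (χ : SpecialLinearGroup (Fin 2) F → ℂ) (-1) = (χ : SpecialLinearGroup (Fin 2) F → ℂ) 1 ∧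
          (χ : SpecialLinearGroup (Fin 2) F → ℂ) 1 ≠ (Fintype.card F : ℂ)} ∨
       B = {χ : IrrCharacter (SpecialLinearGroup (Fin 2) F) |
          (χ : SpecialLinearGroup (Fin 2) F → ℂ) (-1) =
            -(χ : SpecialLinearGroup (Fin 2) F → ℂ) 1})) ∧
    Nat.card {B : Set (IrrCharacter (SpecialLinearGroup (Fin 2) F)) // IsPBlock M B} = 3 ∧
    ∀ P : Sylow p (SpecialLinearGroup (Fin 2) F),
      IsDefectGroup p M {χ : IrrCharacter (SpecialLinearGroup (Fin 2) F) |
          (χ : SpecialLinearGroup (Fin 2) F → ℂ) (-1) = (χ : SpecialLinearGroup (Fin 2) F → ℂ) 1 ∧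
          (χ : SpecialLinearGroup (Fin 2) F → ℂ) 1 ≠ (Fintype.card F : ℂ)}
        (P : Subgroup (SpecialLinearGroup (Fin 2) F)) ∧
      IsDefectGroup p M {χ : IrrCharacter (SpecialLinearGroup (Fin 2) F) |
          (χ : SpecialLinearGroup (Fin 2) F → ℂ) (-1) =
            -(χ : SpecialLinearGroup (Fin 2) F → ℂ) 1}
        (P : Subgroup (SpecialLinearGroup (Fin 2) F)) := by
  have hpp : p.Prime := Fact.out
  have hprime : M.IsPrime := Cfsg.Agent.Lib.Helper24.isPrime_of_isPModular hM
  set B₁ := {χ : IrrCharacter (SpecialLinearGroup (Fin 2) F) |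
      (χ : SpecialLinearGroup (Fin 2) F → ℂ) 1 = (Fintype.card F : ℂ)} with hB₁
  set B₂ := {χ : IrrCharacter (SpecialLinearGroup (Fin 2) F) |
      (χ : SpecialLinearGroup (Fin 2) F → ℂ) (-1) = (χ : SpecialLinearGroup (Fin 2) F → ℂ) 1 ∧
      (χ : SpecialLinearGroup (Fin 2) F → ℂ) 1 ≠ (Fintype.card F : ℂ)} with hB₂
  set B₃ := {χ : IrrCharacter (SpecialLinearGroup (Fin 2) F) |
      (χ : SpecialLinearGroup (Fin 2) F → ℂ) (-1) =
        -(χ : SpecialLinearGroup (Fin 2) F → ℂ) 1} with hB₃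
  have hB₁' : B₁ = {stIrr F} := by
    ext χ
    simp only [hB₁, Set.mem_ofPred_eq, Set.mem_singleton_iff]
    constructor
    · exact eq_stIrr_of_apply_one p χ
    · rintro rfl; exact stIrr_one
  -- the trivial character
  have htriv1 : ((trivIrr (SpecialLinearGroup (Fin 2) F) : IrrCharacter _) :
      SpecialLinearGroup (Fin 2) F → ℂ) 1 = 1 := rfl
  have htrivn : ((trivIrr (SpecialLinearGroup (Fin 2) F) : IrrCharacter _) :
      SpecialLinearGroup (Fin 2) F → ℂ) (-1) = 1 := rfl
  have htrivB₂ : trivIrr (SpecialLinearGroup (Fin 2) F) ∈ B₂ := by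
    refine ⟨by rw [htriv1, htrivn], ?_⟩
    rw [htriv1]
    exact (card_ne_one_complex (F := F)).symm
  obtain ⟨χo, hχo⟩ := exists_odd_irr (F := F) p hp2
  have hstB₁ : stIrr F ∈ B₁ := stIrr_one
  have hpart1 : ∀ B : Set (IrrCharacter (SpecialLinearGroup (Fin 2) F)), IsPBlock M B ↔
      (B = B₁ ∨ B = B₂ ∨ B = B₃) := by
    intro B
    constructor
    · rintro ⟨χ, rfl⟩
      by_cases hq : (χ : SpecialLinearGroup (Fin 2) F → ℂ) 1 = (Fintype.card F : ℂ)
      · left
        rw [eq_stIrr_of_apply_one p χ hq, blockOf_stIrr p hM, hB₁']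
      · rcases irr_central_involution χ (-1) mul_neg_one_comm neg_one_mul_neg_one with e | o
        · right; left
          exact blockOf_eq_of_even p hp2 hM χ hq e
        · right; right
          exact blockOf_eq_of_odd p hp2 hM χ o
    · rintro (rfl | rfl | rfl)
      · exact ⟨stIrr F, by rw [blockOf_stIrr p hM, hB₁']⟩
      · exact ⟨trivIrr _, (blockOf_eq_of_even p hp2 hM _ htrivB₂.2 htrivB₂.1).symm⟩
      · exact ⟨χo, (blockOf_eq_of_odd p hp2 hM χo hχo).symm⟩
  -- the three blocks are distinct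
  have hq0 : (Fintype.card F : ℂ) ≠ 0 := by exact_mod_cast (Fintype.card_pos (α := F)).ne'
  have h12 : B₁ ≠ B₂ := by
    intro h
    have : stIrr F ∈ B₂ := h ▸ hstB₁
    exact this.2 stIrr_one
  have h13 : B₁ ≠ B₃ := by
    intro h
    have : stIrr F ∈ B₃ := h ▸ hstB₁
    exact apply_one_ne_of_odd p (stIrr F) this stIrr_one
  have h23 : B₂ ≠ B₃ := by
    intro h
    have : trivIrr (SpecialLinearGroup (Fin 2) F) ∈ B₃ := h ▸ htrivB₂
    have h' : (1 : ℂ) = -1 := by
      have := this
      simp only [hB₃, Set.mem_ofPred_eq, htriv1, htrivn] at this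
      exact this
    norm_num at h'
  refine ⟨hpart1, ?_, ?_⟩
  · have hset : {B : Set (IrrCharacter (SpecialLinearGroup (Fin 2) F)) | IsPBlock M B} =
        {B₁, B₂, B₃} := by
      ext B
      simp only [Set.mem_ofPred_eq, Set.mem_insert_iff, Set.mem_singleton_iff]
      exact hpart1 B
    have hcard : ({B₁, B₂, B₃} : Set (Set (IrrCharacter (SpecialLinearGroup (Fin 2) F)))).ncard
        = 3 := Set.ncard_eq_three.mpr ⟨B₁, B₂, B₃, h12, h13, h23, rfl⟩
    rw [← hcard, ← hset]
    exact Nat.card_coe_set_eq _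
  · obtain ⟨r, hr⟩ : ∃ r, Fintype.card F = r + 3 := by
      have h1 : 1 < Fintype.card F := Fintype.one_lt_card
      have h2 : Fintype.card F ≠ 2 := by
        intro h
        have hd := char_dvd_card (F := F) p
        rw [h] at hd
        exact hp2 ((Nat.prime_dvd_prime_iff_eq hpp Nat.prime_two).mp hd)
      exact ⟨Fintype.card F - 3, by omega⟩
    intro P
    constructor
    · have hval := blockCoeff_even_one (F := F) p hp2 r hr
      have hpq : p ∣ r + 3 := hr ▸ char_dvd_card (F := F) p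
      have hk : ¬ p ∣ r ^ 2 + 4 * r + 2 := by
        intro h
        have h1 : p ∣ (r ^ 2 + 4 * r + 2) + 1 := by
          have : r ^ 2 + 4 * r + 2 + 1 = (r + 1) * (r + 3) := by ring
          rw [this]
          exact Dvd.dvd.mul_left hpq _
        have : p ∣ 1 := (Nat.dvd_add_right h).mp h1
        exact hpp.one_lt.ne' (Nat.dvd_one.mp this)
      have hc : ¬ p ∣ 2 * (r ^ 2 + 6 * r + 8) := by
        intro h
        rcases (Nat.Prime.dvd_mul hpp).mp h with h | h
        · exact hp2 ((Nat.prime_dvd_prime_iff_eq hpp Nat.prime_two).mp h)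
        · have h1 : p ∣ (r ^ 2 + 6 * r + 8) + 1 := by
            have : r ^ 2 + 6 * r + 8 + 1 = (r + 3) * (r + 3) := by ring
            rw [this]
            exact Dvd.dvd.mul_left hpq _
          have : p ∣ 1 := (Nat.dvd_add_right h).mp h1
          exact hpp.one_lt.ne' (Nat.dvd_one.mp this)
      obtain ⟨u1, u2⟩ := Cfsg.Agent.Lib.Helper23.natCast_div_unit hM hk hc
      rw [← hval] at u1 u2
      exact isDefectGroup_sylow_of_blockCoeff_one hM B₂ u1 u2 P
    · have hval := blockCoeff_odd_one (F := F) p hp2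
      obtain ⟨u1, u2⟩ := Cfsg.Agent.Lib.Helper23.natCast_div_unit hM (k := 1) (c := 2)
        (fun h => hpp.one_lt.ne' (Nat.dvd_one.mp h))
        (fun h => hp2 ((Nat.prime_dvd_prime_iff_eq hpp Nat.prime_two).mp h))
      rw [← hval] at u1 u2
      exact isDefectGroup_sylow_of_blockCoeff_one hM B₃ u1 u2 P

end main

end Cfsg.Agent.Lib.Helper13
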