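import Mathlib
import Cfsg.Agent.S3377
import Cfsg.Agent.Lib.Helper13.SL2
import Cfsg.Agent.Lib.Helper13.PSL2
import Cfsg.Agent.Lib.Helper13.PSL2ClassSizeOdd
import Cfsg.Agent.Lib.Helper13.SL2OrderFour

/-!
Helper lemmas (helper13): the double cover `SL₂(5)` of `Alt(5)`: presentation
`⟨x, y, z | x³ = y⁵ = z² = 1, z central, (xy)² = z⟩` and recognition among groups of order `120`.
-/

set_option autoImplicit false

namespace Cfsg.Agent.Lib.Helper13

open Matrix

section presented

/-- The range of the canonical map out of a presented group. -/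
theorem range_toGroup_eq_closure {α : Type*} {H : Type*} [Group H] {rels : Set (FreeGroup α)}
    {f : α → H} (h : ∀ r ∈ rels, FreeGroup.lift f r = 1) :
    (PresentedGroup.toGroup h).range = Subgroup.closure (Set.range f) := by
  rw [MonoidHom.range_eq_map, ← PresentedGroup.closure_range_of rels, MonoidHom.map_closure,
    ← Set.range_comp]
  congr 2
  funext a
  simp

end presented

section abstract

variable {Γ : Type*} [Group Γ]

/-- An element commuting with a generating set is central. -/
theorem mem_center_of_commute_closure (S : Set Γ) (hS : Subgroup.closure S = ⊤) (z : Γ)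
    (hz : ∀ s ∈ S, z * s = s * z) : z ∈ Subgroup.center Γ := by
  have h1 : Subgroup.closure S ≤ Subgroup.centralizer ({z} : Set Γ) := by
    rw [Subgroup.closure_le]
    intro s hs
    rw [SetLike.mem_coe, Subgroup.mem_centralizer_singleton_iff]
    exact (hz s hs).symm
  rw [hS] at h1
  rw [Subgroup.mem_center_iff]
  intro g
  have := h1 (Subgroup.mem_top g)
  rw [Subgroup.mem_centralizer_singleton_iff] at this
  exact this

/-- A group generated by `x, y, z` with `x³ = y⁵ = z² = 1`, `z` commuting with `x, y` and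
`(xy)² = z` is finite of order at most `120`. -/
theorem card_le_one_twenty (x y z : Γ) (hx : x ^ 3 = 1) (hy : y ^ 5 = 1) (hz : z ^ 2 = 1)
    (hzx : z * x = x * z) (hzy : z * y = y * z) (hxy : (x * y) ^ 2 = z)
    (hgen : Subgroup.closure ({x, y, z} : Set Γ) = ⊤) : Finite Γ ∧ Nat.card Γ ≤ 120 := by
  have hzc : z ∈ Subgroup.center Γ := by
    apply mem_center_of_commute_closure _ hgen
    intro s hs
    rcases hs with rfl | rfl | rfl
    · exact hzx
    · exact hzy
    · rfl
  have hZc : Subgroup.zpowers z ≤ Subgroup.center Γ := by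
    rw [Subgroup.zpowers_le]; exact hzc
  have hZn : (Subgroup.zpowers z).Normal := by
    constructor
    intro n hn g
    have := Subgroup.mem_center_iff.mp (hZc hn) g
    have e : g * n * g⁻¹ = n := by
      rw [this]; group
    rw [e]; exact hn
  set Q := Γ ⧸ Subgroup.zpowers z with hQ
  have hmkz : (QuotientGroup.mk z : Q) = 1 :=
    (QuotientGroup.eq_one_iff _).mpr (Subgroup.mem_zpowers z)
  have hgenQ : Subgroup.closure ({(QuotientGroup.mk x : Q), (QuotientGroup.mk y : Q)} : Set Q) = ⊤ := by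
    have h1 : Subgroup.map (QuotientGroup.mk' (Subgroup.zpowers z))
        (Subgroup.closure ({x, y, z} : Set Γ)) = ⊤ := by
      rw [hgen, ← MonoidHom.range_eq_map]
      exact MonoidHom.range_eq_top.mpr (QuotientGroup.mk'_surjective _)
    rw [MonoidHom.map_closure] at h1
    rw [eq_top_iff, ← h1, Subgroup.closure_le]
    rintro _ ⟨s, hs, rfl⟩
    rcases hs with rfl | rfl | rfl
    · exact Subgroup.subset_closure (by simp)
    · exact Subgroup.subset_closure (by simp)
    · change (QuotientGroup.mk s : Q) ∈ _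
      rw [hmkz]
      exact Subgroup.one_mem _
  obtain ⟨hfin, hcard⟩ := Cfsg.Agent.Lib.Helper25.A5Pres.card_le_sixty
    (QuotientGroup.mk x : Q) (QuotientGroup.mk y : Q)
    (by rw [← QuotientGroup.mk_pow, hx]; rfl) (by rw [← QuotientGroup.mk_pow, hy]; rfl)
    (by rw [← QuotientGroup.mk_mul, ← QuotientGroup.mk_pow, hxy, hmkz]) hgenQ
  have hZcard : Nat.card (Subgroup.zpowers z) ≤ 2 := by
    rw [Nat.card_zpowers]
    exact orderOf_le_of_pow_eq_one (by norm_num) hz
  have hZpos : 0 < Nat.card (Subgroup.zpowers z) := by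
    rw [Nat.card_zpowers]
    exact orderOf_pos_iff.mpr (isOfFinOrder_iff_pow_eq_one.mpr ⟨2, by norm_num, hz⟩)
  have hQpos : 0 < Nat.card Q := Nat.card_pos
  have hmul := Subgroup.card_eq_card_quotient_mul_card_subgroup (Subgroup.zpowers z)
  have hpos : 0 < Nat.card Γ := by rw [hmul]; positivity
  refine ⟨Nat.finite_of_card_ne_zero hpos.ne', ?_⟩
  rw [hmul]
  calc Nat.card Q * Nat.card (Subgroup.zpowers z) ≤ 60 * 2 := Nat.mul_le_mul hcard hZcard
    _ = 120 := by norm_num

end abstract

section slfive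

/-- An element of order three of `SL₂(5)`. -/
def X5 : SpecialLinearGroup (Fin 2) (ZMod 5) := ⟨!![4, 4; 1, 0], by decide⟩

/-- An element of order five of `SL₂(5)`. -/
def Y5 : SpecialLinearGroup (Fin 2) (ZMod 5) := ⟨!![1, 0; 4, 1], by decide⟩

theorem X5_pow : X5 ^ 3 = 1 := by decide

theorem Y5_pow : Y5 ^ 5 = 1 := by decide

/-- The central involution of `SL₂(5)`. -/
def Z5 : SpecialLinearGroup (Fin 2) (ZMod 5) := ⟨!![4, 0; 0, 4], by decide⟩

theorem X5_mul_Y5_sq : (X5 * Y5) ^ 2 = Z5 := by decide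

theorem Z5_sq : Z5 ^ 2 = 1 := by decide

theorem Z5_ne_one : Z5 ≠ 1 := by decide

theorem Z5_central : ∀ g : SpecialLinearGroup (Fin 2) (ZMod 5), Z5 * g = g * Z5 := by
  intro g
  apply Subtype.ext
  change (!![4, 0; 0, 4] : Matrix (Fin 2) (Fin 2) (ZMod 5)) * (g : Matrix (Fin 2) (Fin 2) (ZMod 5)) =
    (g : Matrix (Fin 2) (Fin 2) (ZMod 5)) * !![4, 0; 0, 4]
  ext i j
  fin_cases i <;> fin_cases j <;> simp [Matrix.mul_apply, Fin.sum_univ_two, mul_comm]

theorem Y5_ne_one : Y5 ≠ 1 := by decide

theorem Y5_ne_Z5 : Y5 ≠ Z5 := by decide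

theorem card_alt_five : Nat.card (alternatingGroup (Fin 5)) = 60 := by
  rw [nat_card_alternatingGroup]
  simp [Nat.factorial]

/-- The relators of the `(3, 5, 2)` presentation of `Alt(5)`, as in S3377. -/
abbrev rels235 : Set (FreeGroup (Fin 2)) :=
  {FreeGroup.of (0 : Fin 2) ^ 3, FreeGroup.of (1 : Fin 2) ^ 5,
    (FreeGroup.of (0 : Fin 2) * FreeGroup.of 1) ^ 2}

/-- A homomorphism out of `Alt(5)` attached to a solution of `a³ = b⁵ = (ab)² = 1`. -/
theorem exists_hom_alt_five {H : Type*} [Group H] (a b : H) (ha : a ^ 3 = 1) (hb : b ^ 5 = 1)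
    (hab : (a * b) ^ 2 = 1) :
    ∃ θ : alternatingGroup (Fin 5) →* H, θ.range = Subgroup.closure ({a, b} : Set H) := by
  obtain ⟨e⟩ := Cfsg.Agent.S3377.result
  have hrel : ∀ r ∈ rels235, FreeGroup.lift ![a, b] r = 1 := by
    intro r hr
    rcases hr with rfl | rfl | rfl
    · simp [ha]
    · simp [hb]
    · simp [hab]
  refine ⟨(PresentedGroup.toGroup hrel).comp e.symm.toMonoidHom, ?_⟩
  rw [MonoidHom.range_comp, MonoidHom.range_eq_top.mpr e.symm.surjective,
    ← MonoidHom.range_eq_map, range_toGroup_eq_closure]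
  congr 1
  ext g
  simp only [Set.mem_range, Set.mem_insert_iff, Set.mem_singleton_iff, Fin.exists_fin_two]
  constructor
  · rintro (h | h)
    · exact Or.inl h.symm
    · exact Or.inr h.symm
  · rintro (h | h)
    · exact Or.inl h.symm
    · exact Or.inr h.symm

theorem two_ne_zero_zmod_five : (2 : ZMod 5) ≠ 0 := by decide

theorem neg_one_zmod_five : (-1 : ZMod 5) = 4 := by decide

theorem zSL_eq_Z5 [Fact (Nat.Prime 5)] : zSL (ZMod 5) = Z5 := by
  apply Subtype.ext
  change (!![-1, 0; 0, -1] : Matrix (Fin 2) (Fin 2) (ZMod 5)) = !![4, 0; 0, 4]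
  have h : (-1 : ZMod 5) = 4 := neg_one_zmod_five
  rw [h]

/-- `SL₂(5)` is generated by `X5` and `Y5`. -/
theorem closure_X5_Y5 :
    Subgroup.closure ({X5, Y5} : Set (SpecialLinearGroup (Fin 2) (ZMod 5))) = ⊤ := by
  have : Fact (Nat.Prime 5) := ⟨by norm_num⟩
  have h2 : (2 : ZMod 5) ≠ 0 := two_ne_zero_zmod_five
  have hzZ : zSL (ZMod 5) = Z5 := zSL_eq_Z5
  have hZ5c : Z5 ∈ Subgroup.center (SpecialLinearGroup (Fin 2) (ZMod 5)) := by
    rw [← hzZ]; exact zSL_mem_center
  set π := QuotientGroup.mk' (Subgroup.center (SpecialLinearGroup (Fin 2) (ZMod 5))) with hπ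
  have hx : (π X5) ^ 3 = 1 := by rw [← map_pow, X5_pow, map_one]
  have hy : (π Y5) ^ 5 = 1 := by rw [← map_pow, Y5_pow, map_one]
  have hxy : (π X5 * π Y5) ^ 2 = 1 := by
    rw [← map_mul, ← map_pow, X5_mul_Y5_sq]
    exact (QuotientGroup.eq_one_iff _).mpr hZ5c
  obtain ⟨θ, hθ⟩ := exists_hom_alt_five (π X5) (π Y5) hx hy hxy
  have hY5c : Y5 ∉ Subgroup.center (SpecialLinearGroup (Fin 2) (ZMod 5)) := by
    intro h
    rcases center_cases Y5 h with h | h
    · exact Y5_ne_one h
    · rw [hzZ] at h; exact Y5_ne_Z5 h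
  have hinj : Function.Injective θ := by
    rw [← MonoidHom.ker_eq_bot_iff]
    have hsimple : IsSimpleGroup (alternatingGroup (Fin 5)) :=
      alternatingGroup.isSimpleGroup (by simp)
    rcases (θ.normal_ker).eq_bot_or_eq_top with h | h
    · exact h
    · exfalso
      have h1 : θ.range = ⊥ := by
        rw [eq_bot_iff]
        rintro _ ⟨a, rfl⟩
        rw [Subgroup.mem_bot]
        have : a ∈ θ.ker := by rw [h]; trivial
        exact this
      rw [hθ] at h1
      have h3 : π Y5 ∈ Subgroup.closure ({π X5, π Y5} : Set _) :=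
        Subgroup.subset_closure (by simp)
      rw [h1, Subgroup.mem_bot] at h3
      exact hY5c ((QuotientGroup.eq_one_iff _).mp h3)
  have hcard : Nat.card θ.range = 60 := by
    rw [← card_alt_five]
    exact (Nat.card_congr (MonoidHom.ofInjective hinj).toEquiv).symm
  have hPSL : Nat.card (ProjectiveSpecialLinearGroup (Fin 2) (ZMod 5)) = 60 := by
    have := card_PSL2_mul_two (F := ZMod 5) h2
    rw [ZMod.card] at this
    have h120 : 5 * (5 ^ 2 - 1) = 120 := by norm_num
    rw [h120] at this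
    omega
  have htop : Subgroup.closure ({π X5, π Y5} : Set _) = ⊤ := by
    rw [← hθ]
    exact Subgroup.eq_top_of_card_eq _ (by rw [hcard]; exact hPSL.symm)
  set I := Subgroup.closure ({X5, Y5} : Set (SpecialLinearGroup (Fin 2) (ZMod 5))) with hI
  have hmap : I.map π = ⊤ := by
    rw [hI, MonoidHom.map_closure, Set.image_pair, htop]
  have hZI : Z5 ∈ I := by
    rw [← X5_mul_Y5_sq]
    exact Subgroup.pow_mem _ (Subgroup.mul_mem _ (Subgroup.subset_closure (by simp))
      (Subgroup.subset_closure (by simp))) 2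
  rw [eq_top_iff]
  intro g _
  have hg : π g ∈ I.map π := by rw [hmap]; trivial
  obtain ⟨i, hi, hig⟩ := hg
  have hc : i⁻¹ * g ∈ Subgroup.center (SpecialLinearGroup (Fin 2) (ZMod 5)) := by
    rw [← QuotientGroup.eq_one_iff]
    change π (i⁻¹ * g) = 1
    rw [map_mul, map_inv, hig, inv_mul_cancel]
  rcases center_cases _ hc with h | h
  · have : g = i := by
      have := congrArg (fun t => i * t) h
      simpa using this
    rw [this]; exact hi
  · rw [hzZ] at h
    have : g = i * Z5 := by
      have := congrArg (fun t => i * t) h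
      simpa using this
    rw [this]; exact Subgroup.mul_mem _ hi hZI

theorem card_SL2_five : Nat.card (SpecialLinearGroup (Fin 2) (ZMod 5)) = 120 := by
  have : Fact (Nat.Prime 5) := ⟨by norm_num⟩
  have := card_SL2 (F := ZMod 5)
  rw [ZMod.card] at this
  rw [this]
  norm_num

end slfive

section presentation

/-- The relators of the presentation of `SL₂(5)` in S3378. -/
abbrev rels5 : Set (FreeGroup (Fin 3)) :=
  {FreeGroup.of (0 : Fin 3) ^ 3, FreeGroup.of (1 : Fin 3) ^ 5, FreeGroup.of (2 : Fin 3) ^ 2,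
    (FreeGroup.of (2 : Fin 3))⁻¹ * FreeGroup.of 0 * FreeGroup.of 2 * (FreeGroup.of (0 : Fin 3))⁻¹,
    (FreeGroup.of (2 : Fin 3))⁻¹ * FreeGroup.of 1 * FreeGroup.of 2 * (FreeGroup.of (1 : Fin 3))⁻¹,
    (FreeGroup.of (0 : Fin 3) * FreeGroup.of 1) ^ 2 * (FreeGroup.of (2 : Fin 3))⁻¹}

theorem card_presented_le : Finite (PresentedGroup rels5) ∧ Nat.card (PresentedGroup rels5) ≤ 120 := by
  set gx : PresentedGroup rels5 := PresentedGroup.of 0 with hgx
  set gy : PresentedGroup rels5 := PresentedGroup.of 1 with hgy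
  set gz : PresentedGroup rels5 := PresentedGroup.of 2 with hgz
  have r1 : gx ^ 3 = 1 := by
    have := PresentedGroup.one_of_mem (rels := rels5) (x := FreeGroup.of (0 : Fin 3) ^ 3) (by simp)
    simp only [map_mul, map_pow, map_inv] at this
    exact this
  have r2 : gy ^ 5 = 1 := by
    have := PresentedGroup.one_of_mem (rels := rels5) (x := FreeGroup.of (1 : Fin 3) ^ 5) (by simp)
    simp only [map_mul, map_pow, map_inv] at this
    exact this
  have r3 : gz ^ 2 = 1 := by
    have := PresentedGroup.one_of_mem (rels := rels5) (x := FreeGroup.of (2 : Fin 3) ^ 2) (by simp)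
    simp only [map_mul, map_pow, map_inv] at this
    exact this
  have r4 : gz⁻¹ * gx * gz * gx⁻¹ = 1 := by
    have := PresentedGroup.one_of_mem (rels := rels5)
      (x := (FreeGroup.of (2 : Fin 3))⁻¹ * FreeGroup.of 0 * FreeGroup.of 2 *
        (FreeGroup.of (0 : Fin 3))⁻¹) (by simp)
    simp only [map_mul, map_pow, map_inv] at this
    exact this
  have r5 : gz⁻¹ * gy * gz * gy⁻¹ = 1 := by
    have := PresentedGroup.one_of_mem (rels := rels5)
      (x := (FreeGroup.of (2 : Fin 3))⁻¹ * FreeGroup.of 1 * FreeGroup.of 2 *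
        (FreeGroup.of (1 : Fin 3))⁻¹) (by simp)
    simp only [map_mul, map_pow, map_inv] at this
    exact this
  have r6 : (gx * gy) ^ 2 * gz⁻¹ = 1 := by
    have := PresentedGroup.one_of_mem (rels := rels5)
      (x := (FreeGroup.of (0 : Fin 3) * FreeGroup.of 1) ^ 2 * (FreeGroup.of (2 : Fin 3))⁻¹)
      (by simp)
    simp only [map_mul, map_pow, map_inv] at this
    exact this
  have hzx : gz * gx = gx * gz := by
    have h := mul_inv_eq_one.mp r4
    calc gz * gx = gz * (gz⁻¹ * gx * gz) := by rw [h]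
      _ = gx * gz := by group
  have hzy : gz * gy = gy * gz := by
    have h := mul_inv_eq_one.mp r5
    calc gz * gy = gz * (gz⁻¹ * gy * gz) := by rw [h]
      _ = gy * gz := by group
  have hxy : (gx * gy) ^ 2 = gz := mul_inv_eq_one.mp r6
  apply card_le_one_twenty gx gy gz r1 r2 r3 hzx hzy hxy
  rw [← PresentedGroup.closure_range_of rels5]
  congr 1
  ext g
  simp only [Set.mem_range, Set.mem_insert_iff, Set.mem_singleton_iff]
  constructor
  · rintro (h | h | h)
    · exact ⟨0, h.symm⟩
    · exact ⟨1, h.symm⟩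
    · exact ⟨2, h.symm⟩
  · rintro ⟨i, h⟩
    fin_cases i
    · exact Or.inl h.symm
    · exact Or.inr (Or.inl h.symm)
    · exact Or.inr (Or.inr h.symm)

/-- A group of order at least `120` generated by a solution of the relations is presented by
them. -/
theorem nonempty_presented_equiv {H : Type*} [Group H] (x y z : H) (hx : x ^ 3 = 1)
    (hy : y ^ 5 = 1) (hz : z ^ 2 = 1) (hzx : z * x = x * z) (hzy : z * y = y * z)
    (hxy : (x * y) ^ 2 = z) (hgen : Subgroup.closure ({x, y, z} : Set H) = ⊤)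
    (hcard : 120 ≤ Nat.card H) : Nonempty (PresentedGroup rels5 ≃* H) := by
  have hrel : ∀ r ∈ rels5, FreeGroup.lift ![x, y, z] r = 1 := by
    intro r hr
    rcases hr with rfl | rfl | rfl | rfl | rfl | rfl
    · simp [hx]
    · simp [hy]
    · simp [hz]
    · simp only [map_mul, map_inv, FreeGroup.lift_apply_of]
      change z⁻¹ * x * z * x⁻¹ = 1
      rw [mul_assoc z⁻¹, ← hzx]; group
    · simp only [map_mul, map_inv, FreeGroup.lift_apply_of]
      change z⁻¹ * y * z * y⁻¹ = 1
      rw [mul_assoc z⁻¹, ← hzy]; group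
    · simp only [map_mul, map_inv, map_pow, FreeGroup.lift_apply_of]
      change (x * y) ^ 2 * z⁻¹ = 1
      rw [hxy]; group
  have hsurj : Function.Surjective (PresentedGroup.toGroup hrel) := by
    rw [← MonoidHom.range_eq_top, range_toGroup_eq_closure, ← hgen]
    congr 1
    ext g
    simp only [Set.mem_range, Set.mem_insert_iff, Set.mem_singleton_iff]
    constructor
    · rintro ⟨i, h⟩
      fin_cases i
      · exact Or.inl h.symm
      · exact Or.inr (Or.inl h.symm)
      · exact Or.inr (Or.inr h.symm)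
    · rintro (h | h | h)
      · exact ⟨0, h.symm⟩
      · exact ⟨1, h.symm⟩
      · exact ⟨2, h.symm⟩
  obtain ⟨hfin, hle⟩ := card_presented_le
  have hbij := Function.Surjective.bijective_of_nat_card_le hsurj (hle.trans hcard)
  exact ⟨MulEquiv.ofBijective _ hbij⟩

theorem Z5_mul_X5 : Z5 * X5 = X5 * Z5 := Z5_central X5

theorem Z5_mul_Y5 : Z5 * Y5 = Y5 * Z5 := Z5_central Y5

/-- The presentation of `SL₂(5)`. -/
theorem nonempty_presented_equiv_SL2_five :
    Nonempty (PresentedGroup rels5 ≃* SpecialLinearGroup (Fin 2) (ZMod 5)) := by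
  apply nonempty_presented_equiv X5 Y5 Z5 X5_pow Y5_pow Z5_sq Z5_mul_X5 Z5_mul_Y5 X5_mul_Y5_sq
  · rw [eq_top_iff, ← closure_X5_Y5]
    apply Subgroup.closure_mono
    intro g hg
    rcases hg with rfl | rfl
    · simp
    · simp
  · rw [card_SL2_five]

end presentation

end Cfsg.Agent.Lib.Helper13
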