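import Mathlib
import Cfsg.Agent.Lib.Helper13.SL2FiveCover
import Cfsg.Agent.Lib.Helper22.FrobRing

/-!
Helper lemmas (helper13): `SL₂(5)` as a subgroup of `SL₂(11)` acting without fixed points, hence as
a Frobenius complement.
-/

set_option autoImplicit false

namespace Cfsg.Agent.Lib.Helper13

open Matrix

section abstract

variable {Γ : Type*} [Group Γ]

/-- A group generated by a nondegenerate solution of the relations of `SL₂(5)` is `SL₂(5)`. -/
theorem nonempty_equiv_SL2_five_of_gens (x y z : Γ) (hx : x ^ 3 = 1) (hy : y ^ 5 = 1)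
    (hz : z ^ 2 = 1) (hzx : z * x = x * z) (hzy : z * y = y * z) (hxy : (x * y) ^ 2 = z)
    (hgen : Subgroup.closure ({x, y, z} : Set Γ) = ⊤) (hz1 : z ≠ 1) (hy1 : y ≠ 1) :
    Nonempty (Γ ≃* SpecialLinearGroup (Fin 2) (ZMod 5)) := by
  obtain ⟨hfin, hle⟩ := card_le_one_twenty x y z hx hy hz hzx hzy hxy hgen
  have hzc : z ∈ Subgroup.center Γ := by
    apply mem_center_of_commute_closure _ hgen
    intro s hs
    rcases hs with rfl | rfl | rfl
    · exact hzx
    · exact hzy
    · rfl
  have hZc : Subgroup.zpowers z ≤ Subgroup.center Γ := by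
    rw [Subgroup.zpowers_le]; exact hzc
  have hZn : (Subgroup.zpowers z).Normal := by
    constructor
    intro n hn g
    have := Subgroup.mem_center_iff.mp (hZc hn) g
    have e : g * n * g⁻¹ = n := by
      rw [this]; group
    rw [e]; exact hn
  set Q := Γ ⧸ Subgroup.zpowers z with hQ
  have hmkz : (QuotientGroup.mk z : Q) = 1 :=
    (QuotientGroup.eq_one_iff _).mpr (Subgroup.mem_zpowers z)
  have hgenQ : Subgroup.closure ({(QuotientGroup.mk x : Q), (QuotientGroup.mk y : Q)} : Set Q)
      = ⊤ := by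
    have h1 : Subgroup.map (QuotientGroup.mk' (Subgroup.zpowers z))
        (Subgroup.closure ({x, y, z} : Set Γ)) = ⊤ := by
      rw [hgen, ← MonoidHom.range_eq_map]
      exact MonoidHom.range_eq_top.mpr (QuotientGroup.mk'_surjective _)
    rw [MonoidHom.map_closure] at h1
    rw [eq_top_iff, ← h1, Subgroup.closure_le]
    rintro _ ⟨s, hs, rfl⟩
    rcases hs with rfl | rfl | rfl
    · exact Subgroup.subset_closure (by simp)
    · exact Subgroup.subset_closure (by simp)
    · change (QuotientGroup.mk s : Q) ∈ _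
      rw [hmkz]
      exact Subgroup.one_mem _
  obtain ⟨θ, hθ⟩ := exists_hom_alt_five (QuotientGroup.mk x : Q) (QuotientGroup.mk y : Q)
    (by rw [← QuotientGroup.mk_pow, hx]; rfl) (by rw [← QuotientGroup.mk_pow, hy]; rfl)
    (by rw [← QuotientGroup.mk_mul, ← QuotientGroup.mk_pow, hxy, hmkz])
  have hyZ : y ∉ Subgroup.zpowers z := by
    intro h
    obtain ⟨k, hk⟩ := Subgroup.mem_zpowers_iff.mp h
    have h2 : y ^ 2 = 1 := by
      rw [← hk, ← zpow_natCast, ← _root_.zpow_mul, mul_comm, _root_.zpow_mul, zpow_natCast, hz, _root_.one_zpow]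
    apply hy1
    calc y = y ^ 5 * ((y ^ 2) ^ 2)⁻¹ := by group
      _ = 1 := by rw [hy, h2]; simp
  have hinj : Function.Injective θ := by
    rw [← MonoidHom.ker_eq_bot_iff]
    have hsimple : IsSimpleGroup (alternatingGroup (Fin 5)) :=
      alternatingGroup.isSimpleGroup (by simp)
    rcases (θ.normal_ker).eq_bot_or_eq_top with h | h
    · exact h
    · exfalso
      have h1 : θ.range = ⊥ := by
        rw [eq_bot_iff]
        rintro _ ⟨a, rfl⟩
        rw [Subgroup.mem_bot]
        have : a ∈ θ.ker := by rw [h]; trivial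
        exact this
      rw [hθ] at h1
      have h3 : (QuotientGroup.mk y : Q) ∈
          Subgroup.closure ({(QuotientGroup.mk x : Q), (QuotientGroup.mk y : Q)} : Set Q) :=
        Subgroup.subset_closure (by simp)
      rw [h1, Subgroup.mem_bot] at h3
      exact hyZ ((QuotientGroup.eq_one_iff _).mp h3)
  have hQcard : Nat.card Q = 60 := by
    rw [← card_alt_five]
    have hsurj : Function.Surjective θ := by
      rw [← MonoidHom.range_eq_top, hθ, hgenQ]
    exact (Nat.card_congr (Equiv.ofBijective θ ⟨hinj, hsurj⟩)).symm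
  have hZcard : Nat.card (Subgroup.zpowers z) = 2 := by
    rw [Nat.card_zpowers]
    exact orderOf_eq_prime hz hz1
  have hmul := Subgroup.card_eq_card_quotient_mul_card_subgroup (Subgroup.zpowers z)
  rw [hZcard] at hmul
  have hcard : 120 ≤ Nat.card Γ := by
    rw [hmul]
    change 120 ≤ Nat.card Q * 2
    rw [hQcard]
  obtain ⟨f₁⟩ := nonempty_presented_equiv x y z hx hy hz hzx hzy hxy hgen hcard
  obtain ⟨f₂⟩ := nonempty_presented_equiv_SL2_five
  exact ⟨f₁.symm.trans f₂⟩

/-- The subgroup generated by a nondegenerate solution of the relations of `SL₂(5)` is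
`SL₂(5)`. -/
theorem nonempty_closure_equiv_SL2_five (x y z : Γ) (hx : x ^ 3 = 1) (hy : y ^ 5 = 1)
    (hz : z ^ 2 = 1) (hzx : z * x = x * z) (hzy : z * y = y * z) (hxy : (x * y) ^ 2 = z)
    (hz1 : z ≠ 1) (hy1 : y ≠ 1) :
    Nonempty (Subgroup.closure ({x, y, z} : Set Γ) ≃* SpecialLinearGroup (Fin 2) (ZMod 5)) := by
  set H := Subgroup.closure ({x, y, z} : Set Γ) with hH
  have hxH : x ∈ H := Subgroup.subset_closure (by simp)
  have hyH : y ∈ H := Subgroup.subset_closure (by simp)
  have hzH : z ∈ H := Subgroup.subset_closure (by simp)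
  apply nonempty_equiv_SL2_five_of_gens (⟨x, hxH⟩ : H) ⟨y, hyH⟩ ⟨z, hzH⟩
  · exact Subtype.ext (by simpa using hx)
  · exact Subtype.ext (by simpa using hy)
  · exact Subtype.ext (by simpa using hz)
  · exact Subtype.ext (by simpa using hzx)
  · exact Subtype.ext (by simpa using hzy)
  · exact Subtype.ext (by simpa using hxy)
  · have h1 := Subgroup.closure_closure_coe_preimage (k := ({x, y, z} : Set Γ))
    rw [← h1]
    congr 1
    ext g
    simp only [Set.mem_insert_iff, Set.mem_singleton_iff, Set.mem_preimage]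
    constructor
    · rintro (h | h | h)
      · left; rw [h]
      · right; left; rw [h]
      · right; right; rw [h]
    · rintro (h | h | h)
      · left; exact Subtype.ext h
      · right; left; exact Subtype.ext h
      · right; right; exact Subtype.ext h
  · exact fun h => hz1 (congrArg Subtype.val h)
  · exact fun h => hy1 (congrArg Subtype.val h)

end abstract

section fixed

variable {F : Type*} [Field F] (p : ℕ) [Fact p.Prime] [CharP F p]

/-- An element of `SL₂(F)` fixing a nonzero matrix under left multiplication is unipotent. -/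
theorem pow_char_eq_one_of_fixed_ff (k : SpecialLinearGroup (Fin 2) F)
    (X : Matrix (Fin 2) (Fin 2) F) (hX : X ≠ 0)
    (hkX : (k : Matrix (Fin 2) (Fin 2) F) * X = X) : k ^ p = 1 := by
  set M : Matrix (Fin 2) (Fin 2) F := (k : Matrix (Fin 2) (Fin 2) F) - 1 with hM
  have hMX : M * X = 0 := by rw [hM, sub_mul, one_mul, hkX, sub_self]
  have hdet : M.det = 0 := by
    by_contra h
    have hu : IsUnit M.det := isUnit_iff_ne_zero.mpr h
    apply hX
    calc X = M⁻¹ * (M * X) := by rw [← mul_assoc, Matrix.nonsing_inv_mul _ hu, one_mul]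
      _ = 0 := by rw [hMX, mul_zero]
  have hk := k.det_coe
  rw [Matrix.det_fin_two] at hdet hk
  have e00 : M 0 0 = k 0 0 - 1 := by simp [hM]
  have e01 : M 0 1 = k 0 1 := by simp [hM]
  have e10 : M 1 0 = k 1 0 := by simp [hM]
  have e11 : M 1 1 = k 1 1 - 1 := by simp [hM]
  rw [e00, e01, e10, e11] at hdet
  have htr : k 0 0 + k 1 1 = 2 := by linear_combination hk - hdet
  have hMM : M * M = 0 := by
    ext i j
    fin_cases i <;> fin_cases j <;>
      simp only [Matrix.mul_apply, Fin.sum_univ_two, Fin.zero_eta, Fin.mk_one, Fin.isValue,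
        Matrix.zero_apply, e00, e01, e10, e11]
    · linear_combination (k 0 0) * htr - hk
    · linear_combination (k 0 1) * htr
    · linear_combination (k 1 0) * htr
    · linear_combination (k 1 1) * htr - hk
  have hp2 : 2 ≤ p := (Fact.out : p.Prime).two_le
  have hMp : M ^ p = 0 := by
    obtain ⟨m, rfl⟩ : ∃ m, p = 2 + m := ⟨p - 2, by omega⟩
    rw [pow_add, pow_two, hMM, zero_mul]
  apply Subtype.ext
  rw [Matrix.SpecialLinearGroup.coe_pow, Matrix.SpecialLinearGroup.coe_one]
  have hkM : (k : Matrix (Fin 2) (Fin 2) F) = M + 1 := by rw [hM]; abel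
  rw [hkM, add_pow_char_of_commute p (Commute.one_right M), hMp, one_pow, zero_add]

end fixed

section eleven

/-- An element of order three of `SL₂(11)`. -/
def X11 : SpecialLinearGroup (Fin 2) (ZMod 11) := ⟨!![0, 5; 2, 10], by decide⟩

/-- An element of order five of `SL₂(11)`. -/
def Y11 : SpecialLinearGroup (Fin 2) (ZMod 11) := ⟨!![0, 10; 1, 3], by decide⟩

/-- The central involution of `SL₂(11)`. -/
def Z11 : SpecialLinearGroup (Fin 2) (ZMod 11) := ⟨!![10, 0; 0, 10], by decide⟩

theorem X11_pow : X11 ^ 3 = 1 := by decide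

theorem Y11_pow : Y11 ^ 5 = 1 := by decide

theorem Z11_sq : Z11 ^ 2 = 1 := by decide

theorem X11_mul_Y11_sq : (X11 * Y11) ^ 2 = Z11 := by decide

theorem Z11_ne_one : Z11 ≠ 1 := by decide

theorem Y11_ne_one : Y11 ≠ 1 := by decide

theorem Z11_central : ∀ g : SpecialLinearGroup (Fin 2) (ZMod 11), Z11 * g = g * Z11 := by
  intro g
  apply Subtype.ext
  change (!![10, 0; 0, 10] : Matrix (Fin 2) (Fin 2) (ZMod 11)) *
    (g : Matrix (Fin 2) (Fin 2) (ZMod 11)) = (g : Matrix (Fin 2) (Fin 2) (ZMod 11)) * !![10, 0; 0, 10]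
  ext i j
  fin_cases i <;> fin_cases j <;> simp [Matrix.mul_apply, Fin.sum_univ_two, mul_comm]

/-- The copy of `SL₂(5)` inside `SL₂(11)`. -/
def H11 : Subgroup (SpecialLinearGroup (Fin 2) (ZMod 11)) :=
  Subgroup.closure {X11, Y11, Z11}

theorem nonempty_H11_equiv : Nonempty (H11 ≃* SpecialLinearGroup (Fin 2) (ZMod 5)) :=
  nonempty_closure_equiv_SL2_five X11 Y11 Z11 X11_pow Y11_pow Z11_sq (Z11_central X11)
    (Z11_central Y11) X11_mul_Y11_sq Z11_ne_one Y11_ne_one

/-- `SL₂(5)` is a Frobenius complement. -/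
theorem exists_frobenius_SL2_five :
    ∃ (L : Type) (_ : Group L) (_ : Finite L) (H : Subgroup L),
      Cfsg.IsFrobeniusComplement H ∧
        Nonempty (H ≃* Matrix.SpecialLinearGroup (Fin 2) (ZMod 5)) := by
  have hp : Fact (Nat.Prime 11) := ⟨by norm_num⟩
  obtain ⟨e⟩ := nonempty_H11_equiv
  have hfinH : Finite H11 := Finite.of_equiv _ e.symm.toEquiv
  have hcard : Nat.card H11 = 120 := by
    rw [Nat.card_congr e.toEquiv, card_SL2_five]
  have hnt : Nontrivial H11 := by
    rw [← Finite.one_lt_card_iff_nontrivial, hcard]; norm_num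
  let ψ : H11 →* Matrix (Fin 2) (Fin 2) (ZMod 11) :=
    { toFun := fun g => ((g : SpecialLinearGroup (Fin 2) (ZMod 11)) : Matrix (Fin 2) (Fin 2) (ZMod 11))
      map_one' := rfl
      map_mul' := fun a b => rfl }
  obtain ⟨L, hL, hLf, C, hC, ⟨f⟩⟩ :=
    Cfsg.Agent.Lib.Helper22.exists_frobenius_of_ring ψ (by
      intro k hk X hX
      by_contra hX0
      have h11 : (k : SpecialLinearGroup (Fin 2) (ZMod 11)) ^ 11 = 1 :=
        pow_char_eq_one_of_fixed_ff 11 (k : SpecialLinearGroup (Fin 2) (ZMod 11)) X hX0 hX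
      have h11' : k ^ 11 = 1 := Subtype.ext (by simpa using h11)
      have h120 : k ^ 120 = 1 := by rw [← hcard]; exact pow_card_eq_one'
      apply hk
      calc k = (k ^ 11) ^ 11 * (k ^ 120)⁻¹ := by group
        _ = 1 := by rw [h11', h120]; simp)
  exact ⟨L, hL, hLf, C, hC, ⟨f.symm.trans e⟩⟩

end eleven

end Cfsg.Agent.Lib.Helper13
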