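/-
helper13: Dickson's generation lemma: the subgroup of `SL₂(F)` generated by the transvections
`!![1, 0; 1, 1]` and `!![1, λ; 0, 1]`, where `λ` generates the finite field `F` of odd order.
-/
import Mathlib
import Cfsg.Agent.Lib.Helper13.DkMaxSL
import Cfsg.Agent.Lib.Helper13.DkQuot
import Cfsg.Agent.Lib.Helper13.SL2Blocks
import Cfsg.Agent.Lib.Helper13.PSL2AltFive
import Cfsg.Agent.Lib.Helper13.SL2FiveFrob
import Cfsg.Agent.Lib.Helper19.A5Spec

set_option autoImplicit false

namespace Cfsg.Agent.Lib.Helper13.Dk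

open Subgroup Matrix Cfsg.Agent.Lib.Helper13

section gen

variable {F : Type*} [Field F] (lam : F)

/-- The subgroup generated by the two transvections. -/
def genSL : Subgroup (SpecialLinearGroup (Fin 2) F) :=
  closure {Cfsg.Agent.Lib.Helper13.lSL 1, tSL lam}

theorem lSL_mem_genSL : Cfsg.Agent.Lib.Helper13.lSL 1 ∈ genSL lam :=
  subset_closure (Set.mem_insert _ _)

theorem tSL_mem_genSL : tSL lam ∈ genSL lam :=
  subset_closure (Set.mem_insert_of_mem _ rfl)

/-- The lower transvection as an element of `genSL`. -/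
def gA : genSL lam := ⟨Cfsg.Agent.Lib.Helper13.lSL 1, lSL_mem_genSL lam⟩

/-- The upper transvection as an element of `genSL`. -/
def gB : genSL lam := ⟨tSL lam, tSL_mem_genSL lam⟩

theorem m_gA : (subEmb (genSL lam)).m (gA lam) = !![1, 0; 1, 1] := rfl

theorem m_gB : (subEmb (genSL lam)).m (gB lam) = !![1, lam; 0, 1] := rfl

theorem m_gAB : (subEmb (genSL lam)).m (gA lam * gB lam) = !![1, lam; 1, 1 + lam] := by
  rw [Emb.m_mul, m_gA, m_gB]
  ext i j
  fin_cases i <;> fin_cases j <;> simp [Matrix.mul_apply, Fin.sum_univ_two]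
  ring

theorem m_gAB' : (subEmb (genSL lam)).m (gA lam * (gB lam)⁻¹) = !![1, -lam; 1, 1 - lam] := by
  rw [Emb.m_mul, Emb.m_inv, m_gA, m_gB]
  ext i j
  fin_cases i <;> fin_cases j <;> simp [Matrix.mul_apply, Fin.sum_univ_two]
  ring

theorem not_sc_of_one {g : genSL lam} (h : (subEmb (genSL lam)).m g 1 0 = 1) :
    ¬ Emb.sc ((subEmb (genSL lam)).m g) := by
  intro hsc
  rw [hsc.2.1] at h
  exact zero_ne_one h

theorem tr_gAB : (subEmb (genSL lam)).tr (gA lam * gB lam) = 2 + lam := by
  rw [Emb.tr_eq, m_gAB]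
  simp
  ring

theorem tr_gAB' : (subEmb (genSL lam)).tr (gA lam * (gB lam)⁻¹) = 2 - lam := by
  rw [Emb.tr_eq, m_gAB']
  simp
  ring

theorem not_sc_gAB : ¬ Emb.sc ((subEmb (genSL lam)).m (gA lam * gB lam)) := by
  apply not_sc_of_one
  rw [m_gAB]
  rfl

theorem not_sc_gAB' : ¬ Emb.sc ((subEmb (genSL lam)).m (gA lam * (gB lam)⁻¹)) := by
  apply not_sc_of_one
  rw [m_gAB']
  rfl

theorem genSL_hna (hlam : lam ≠ 0) : ∃ x y : genSL lam, x * y ≠ y * x := by
  refine ⟨gA lam, gB lam, fun h => ?_⟩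
  have h1 := congrArg (fun g => (subEmb (genSL lam)).m g 0 0) h
  simp only [Emb.m_mul_apply, m_gA, m_gB] at h1
  simp at h1
  exact hlam h1

/-- `genSL` contains a non-scalar unipotent element. -/
theorem not_hss (hlam : lam ≠ 0) :
    ¬ ∀ y : genSL lam, ¬ Emb.sc ((subEmb (genSL lam)).m y) →
      (subEmb (genSL lam)).tr y ^ 2 ≠ 4 := by
  intro h
  refine h (gB lam) ?_ ?_
  · intro hsc
    have := hsc.1
    rw [m_gB] at this
    exact hlam (by simpa using this)
  · rw [Emb.tr_eq, m_gB]
    simp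
    norm_num

theorem trace_comm_upper (P Q : Matrix (Fin 2) (Fin 2) F) (hP : P 1 0 = 0) (hQ : Q 1 0 = 0)
    (hPd : P 0 0 * P 1 1 = 1) (hQd : Q 0 0 * Q 1 1 = 1) :
    (P * Q * !![P 1 1, -P 0 1; -P 1 0, P 0 0] * !![Q 1 1, -Q 0 1; -Q 1 0, Q 0 0]).trace = 2 := by
  rw [Matrix.trace_fin_two]
  simp only [Matrix.mul_apply, Fin.sum_univ_two, hP, hQ]
  simp
  linear_combination (2 * Q 0 0 * Q 1 1) * hPd + 2 * hQd

/-- `genSL` is not conjugate into the Borel subgroup. -/
theorem not_borel (hlam : lam ≠ 0) (Θ : Tw F)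
    (h : ∀ g : genSL lam, ((subEmb (genSL lam)).app Θ).m g 1 0 = 0) : False := by
  set S := subEmb (genSL lam) with hS
  set S' := S.app Θ with hS'
  set c := gA lam * gB lam * (gA lam)⁻¹ * (gB lam)⁻¹ with hc
  have h1 : S'.tr c = S.tr c := S.app_tr Θ c
  have h2 : S.tr c = 2 + lam ^ 2 := by
    rw [Emb.tr_eq, hc, Emb.m_mul, Emb.m_mul, Emb.m_mul, Emb.m_inv, Emb.m_inv, hS, m_gA, m_gB]
    simp [Matrix.mul_apply, Fin.sum_univ_two]
    ring
  have h3 : S'.tr c = 2 := by
    rw [Emb.tr, hc, Emb.m_mul, Emb.m_mul, Emb.m_mul, Emb.m_inv, Emb.m_inv]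
    apply trace_comm_upper _ _ (h _) (h _)
    · have := S'.m_det' (gA lam)
      rw [h (gA lam)] at this
      linear_combination this
    · have := S'.m_det' (gB lam)
      rw [h (gB lam)] at this
      linear_combination this
  rw [h3, h2] at h1
  have : lam ^ 2 = 0 := by linear_combination -h1
  exact hlam (pow_eq_zero_iff two_ne_zero |>.mp this)

theorem pow_three_two' (m : Matrix (Fin 2) (Fin 2) F) (hdet : m.det = 1) :
    m ^ 3 = ((m 0 0 + m 1 1) ^ 2 - 1) • m - (m 0 0 + m 1 1) • (1 : Matrix (Fin 2) (Fin 2) F) := by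
  have h1 := cayley_hamilton_two m hdet
  set t := m 0 0 + m 1 1
  have e : m ^ 3 = (m * m) * m := by noncomm_ring
  rw [e, h1, sub_mul, Matrix.smul_mul, h1, Matrix.one_mul]
  module

/-- A non-scalar matrix `M` with `c • M - d • 1` scalar has `c = 0`. -/
theorem coeff_zero_of_sc (M : Matrix (Fin 2) (Fin 2) F) (hM : ¬ Emb.sc M) (c d : F)
    (h : Emb.sc (c • M - d • (1 : Matrix (Fin 2) (Fin 2) F))) : c = 0 := by
  by_contra hc
  apply hM
  obtain ⟨h01, h10, h00⟩ := h
  simp only [Matrix.sub_apply, Matrix.smul_apply, smul_eq_mul, ne_eq, zero_ne_one,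
    not_false_eq_true, Matrix.one_apply_ne, mul_zero, sub_zero, one_ne_zero, Matrix.one_apply_eq,
    mul_one] at h01 h10 h00
  refine ⟨(mul_eq_zero.mp h01).resolve_left hc, (mul_eq_zero.mp h10).resolve_left hc, ?_⟩
  have : c * (M 0 0 - M 1 1) = 0 := by linear_combination h00
  exact sub_eq_zero.mp ((mul_eq_zero.mp this).resolve_left hc)

/-- Trace conditions for non-scalar matrices with a scalar second, third or fifth power. -/
theorem trace_of_pow_sc (M : Matrix (Fin 2) (Fin 2) F) (hdet : M.det = 1) (hM : ¬ Emb.sc M)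
    (n : ℕ) (hn : n = 1 ∨ n = 2 ∨ n = 3 ∨ n = 5) (h : Emb.sc (M ^ n)) :
    M 0 0 + M 1 1 = 0 ∨ (M 0 0 + M 1 1) ^ 2 - 1 = 0 ∨
      (M 0 0 + M 1 1) ^ 4 - 3 * (M 0 0 + M 1 1) ^ 2 + 1 = 0 := by
  rcases hn with rfl | rfl | rfl | rfl
  · rw [pow_one] at h
    exact absurd h hM
  · left
    have h1 := cayley_hamilton_two M hdet
    rw [pow_two, h1] at h
    exact coeff_zero_of_sc M hM (M 0 0 + M 1 1) 1 (by rwa [one_smul])
  · right; left
    rw [pow_three_two' M hdet] at h
    exact coeff_zero_of_sc M hM _ _ h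
  · right; right
    rw [pow_five_two M hdet] at h
    exact coeff_zero_of_sc M hM _ _ h

end gen

section fin

variable {F : Type*} [Field F] [Fintype F] (lam : F)

/-- `genSL` is not of dihedral type. -/
theorem not_dih (p : ℕ) [Fact p.Prime] [CharP F p] (hp2 : p ≠ 2) :
    ¬ (subEmb (genSL lam)).DihType := by
  classical
  rintro ⟨g, -, hcard⟩
  set C := centralizer ({g} : Set (genSL lam)) with hC
  have hpos : 0 < Nat.card C := Nat.card_pos
  have hidx : C.index = 2 := by
    have h1 := Subgroup.card_mul_index C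
    rw [← hcard] at h1
    exact Nat.eq_of_mul_eq_mul_left hpos h1
  have hodd : Odd p := (Fact.out : p.Prime).odd_of_ne_two hp2
  have hmem : ∀ x : genSL lam, x ^ p = 1 → x ∈ C := by
    intro x hx
    obtain ⟨k, hk⟩ := hodd
    have h2 : x ^ 2 ∈ C := Subgroup.sq_mem_of_index_two hidx x
    have : x = (x ^ 2) ^ (k + 1) * (x ^ p)⁻¹ := by
      rw [hk, ← pow_mul, eq_mul_inv_iff_mul_eq, ← pow_succ']
      congr 1
    rw [this, hx, inv_one, mul_one]
    exact C.pow_mem h2 _
  have hA : gA lam ∈ C := by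
    apply hmem
    apply Subtype.ext
    rw [Subgroup.coe_pow, Subgroup.coe_one]
    apply pow_char_eq_one_of_trace_eq_two p
    change (!![1, 0; 1, 1] : Matrix (Fin 2) (Fin 2) F).trace = 2
    rw [Matrix.trace_fin_two]
    simp
    norm_num
  have hB : gB lam ∈ C := by
    apply hmem
    apply Subtype.ext
    rw [Subgroup.coe_pow, Subgroup.coe_one]
    apply pow_char_eq_one_of_trace_eq_two p
    change (!![1, lam; 0, 1] : Matrix (Fin 2) (Fin 2) F).trace = 2
    rw [Matrix.trace_fin_two]
    simp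
    norm_num
  have hle : genSL lam ≤ C.map (genSL lam).subtype := by
    unfold genSL
    rw [closure_le]
    rintro x (rfl | rfl)
    · exact ⟨gA lam, hA, rfl⟩
    · exact ⟨gB lam, hB, rfl⟩
  have h1 : Nat.card (genSL lam) ≤ Nat.card (C.map (genSL lam).subtype) :=
    Subgroup.card_le_of_le hle
  rw [Subgroup.card_map_of_injective (genSL lam).subtype_injective] at h1
  omega

/-- A subgroup of `SL₂(F)` of even order contains `-1`. -/
theorem zSL_mem_of_even (h2 : (2 : F) ≠ 0) (H : Subgroup (SpecialLinearGroup (Fin 2) F))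
    (hev : 2 ∣ Nat.card H) : zSL F ∈ H := by
  haveI : Fact (Nat.Prime 2) := ⟨Nat.prime_two⟩
  obtain ⟨t, ht⟩ := exists_prime_orderOf_dvd_card' 2 hev
  have ht2 : t ^ 2 = 1 := by
    have := pow_orderOf_eq_one t
    rwa [ht] at this
  have ht1 : t ≠ 1 := by
    intro h
    rw [h, orderOf_one] at ht
    omega
  have h3 : (t : SpecialLinearGroup (Fin 2) F) * t = 1 := by
    have := congrArg Subtype.val ht2
    rwa [pow_two] at this
  rcases sq_eq_one_cases h2 (t : SpecialLinearGroup (Fin 2) F) h3 with h | h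
  · exact absurd (Subtype.ext h) ht1
  · rw [← h]
    exact t.2

/-- In the subfield case `genSL` is everything. -/
theorem genSL_eq_top_of_subfield (h2 : (2 : F) ≠ 0)
    (hgen : Subfield.closure ({lam} : Set F) = ⊤)
    (hsub : (subEmb (genSL lam)).SubfieldCase) : genSL lam = ⊤ := by
  classical
  obtain ⟨Θ, K₀, k, hsc, hcard, hna, K, fK, ftK, m, hm, hcK, hiso⟩ := hsub
  set S := subEmb (genSL lam) with hS
  have htr : ∀ g : genSL lam, S.tr g ^ 2 ∈ K₀ := by
    intro g
    have h1 := trace_sq_mem_of_mem_subfieldSL K₀ (Θ.hom (g : SpecialLinearGroup (Fin 2) F)) (hsc g)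
    rw [Θ.tr_eq] at h1
    exact h1
  have h8 : (8 : F) ≠ 0 := by
    have : (8 : F) = 2 ^ 3 := by norm_num
    rw [this]
    exact pow_ne_zero 3 h2
  have hlamK : lam ∈ K₀ := by
    have h1 := htr (gA lam * gB lam)
    have h2' := htr (gA lam * (gB lam)⁻¹)
    rw [tr_gAB] at h1
    rw [tr_gAB'] at h2'
    have h3 : (8 : F) ∈ K₀ := by
      have := natCast_mem K₀ 8
      simpa using this
    have h4 : lam = ((2 + lam) ^ 2 - (2 - lam) ^ 2) * (8 : F)⁻¹ := by
      field_simp
      ring
    rw [h4]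
    exact K₀.mul_mem (K₀.sub_mem h1 h2') (K₀.inv_mem h3)
  have hK₀ : K₀ = ⊤ := by
    rw [eq_top_iff, ← hgen, Subfield.closure_le]
    intro x hx
    rw [Set.mem_singleton_iff] at hx
    rw [hx]
    exact hlamK
  have hcardK : Nat.card K₀ = Fintype.card F := by
    rw [hK₀, Nat.card_congr (Subfield.topEquiv (K := F)).toEquiv, Nat.card_eq_fintype_card]
  rw [hcardK] at hcard hiso
  set q := Fintype.card F with hq
  have hq2 : 2 ≤ q := Fintype.one_lt_card
  have hqodd : Odd q := by
    rw [Nat.odd_iff]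
    apply FiniteField.odd_card_of_char_ne_two
    intro hch
    haveI : CharP F 2 := ringChar.of_eq hch
    exact h2 CharTwo.two_eq_zero
  have hev : 2 ∣ Nat.card (genSL lam) := by
    rw [hcard]
    obtain ⟨j, hj⟩ := hqodd
    exact ⟨Nat.card (center (genSL lam)) * (q * k * (j + 1)), by rw [hj]; ring⟩
  have hz := zSL_mem_of_even h2 (genSL lam) hev
  have hZ2 : 2 ≤ Nat.card (center (genSL lam)) := by
    have : 1 < Nat.card (center (genSL lam)) := by
      rw [Subgroup.one_lt_card_iff_ne_bot]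
      intro hbot
      have hmem : (⟨zSL F, hz⟩ : genSL lam) ∈ center (genSL lam) := by
        rw [Subgroup.mem_center_iff]
        intro x
        apply Subtype.ext
        exact Subgroup.mem_center_iff.mp zSL_mem_center (x : SpecialLinearGroup (Fin 2) F)
      rw [hbot, Subgroup.mem_bot] at hmem
      exact zSL_ne_one h2 (congrArg Subtype.val hmem)
    omega
  apply Subgroup.eq_top_of_le_card
  rw [card_SL2, ← hq, hcard]
  have hk2 : q - 1 ≤ 2 * k := by
    rcases hiso with ⟨h, -⟩ | ⟨h, -⟩ <;> omega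
  have h5 : q ^ 2 - 1 = (q - 1) * (q + 1) := by
    obtain ⟨u, hu⟩ : ∃ u, q = u + 1 := ⟨q - 1, by omega⟩
    rw [hu, Nat.add_sub_cancel]
    apply Nat.sub_eq_of_eq_add
    ring
  rw [h5]
  calc q * ((q - 1) * (q + 1)) ≤ q * ((2 * k) * (q + 1)) :=
        Nat.mul_le_mul_left _ (Nat.mul_le_mul_right _ hk2)
    _ = 2 * (q * k * (q + 1)) := by ring
    _ ≤ Nat.card (center (genSL lam)) * (q * k * (q + 1)) := Nat.mul_le_mul_right _ hZ2

/-- If the generator `lam` of `F` satisfies `lam ^ p ^ n = lam` then `|F| ≤ p ^ n`. -/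
theorem card_le_of_pow_eq (p : ℕ) [hpp : Fact p.Prime] [CharP F p] (n : ℕ) (hn : 0 < n)
    (hgen : Subfield.closure ({lam} : Set F) = ⊤) (h : lam ^ p ^ n = lam) :
    Fintype.card F ≤ p ^ n := by
  classical
  set K₁ : Subfield F := (iterateFrobenius F p n).eqLocusField (RingHom.id F) with hK₁
  have hmem : ∀ x : F, x ∈ K₁ ↔ x ^ p ^ n = x := by
    intro x
    rw [hK₁]
    change (iterateFrobenius F p n) x = (RingHom.id F) x ↔ _
    rw [iterateFrobenius_def, RingHom.id_apply]
  have htop : K₁ = ⊤ := by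
    rw [eq_top_iff, ← hgen, Subfield.closure_le]
    intro x hx
    rw [Set.mem_singleton_iff] at hx
    rw [hx]
    exact (hmem lam).mpr h
  obtain ⟨ζ, hζ⟩ := IsCyclic.exists_generator (α := Fˣ)
  have hord : orderOf ζ = Fintype.card F - 1 := by
    rw [orderOf_eq_card_of_forall_mem_zpowers hζ, Nat.card_eq_fintype_card, Fintype.card_units]
  have hζ1 : ((ζ : Fˣ) : F) ∈ K₁ := by rw [htop]; exact Subfield.mem_top _
  rw [hmem] at hζ1
  have hp2 : 2 ≤ p ^ n := by
    calc 2 ≤ p := hpp.out.two_le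
      _ = p ^ 1 := (pow_one p).symm
      _ ≤ p ^ n := Nat.pow_le_pow_right hpp.out.pos hn
  have h1 : ζ ^ (p ^ n - 1) = 1 := by
    apply Units.ext
    rw [Units.val_pow_eq_pow_val, Units.val_one]
    have h2 : (ζ : F) ^ (p ^ n - 1) * (ζ : F) = 1 * (ζ : F) := by
      rw [← pow_succ, one_mul]
      have : p ^ n - 1 + 1 = p ^ n := by omega
      rw [this]
      exact hζ1
    exact mul_right_cancel₀ (Units.ne_zero ζ) h2
  have h2 := orderOf_dvd_of_pow_eq_one h1
  rw [hord] at h2
  have := Nat.le_of_dvd (by omega) h2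
  omega

/-- In the icosahedral case `|F| = 9` and `lam ^ 2 = -1`. -/
theorem nine_of_alt5 (hlam : lam ≠ 0)
    (hgen : Subfield.closure ({lam} : Set F) = ⊤) [CharP F 3]
    (hsm : Small (genSL lam) 60 5) (h5 : HasFive (genSL lam)) :
    Fintype.card F = 9 ∧ lam ^ 2 = -1 := by
  classical
  haveI : Fact (Nat.Prime 3) := ⟨Nat.prime_three⟩
  have h3 : (3 : F) = 0 := by
    have := CharP.cast_eq_zero F 3
    exact_mod_cast this
  set S := subEmb (genSL lam) with hS
  have hna := genSL_hna lam hlam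
  let π : genSL lam →* genSL lam ⧸ center (genSL lam) := QuotientGroup.mk' _
  have hπ : Function.Surjective π := QuotientGroup.mk'_surjective _
  have hZ : π.ker = center (genSL lam) := QuotientGroup.ker_mk' _
  obtain ⟨e⟩ := alt5_of_small π hπ hZ hsm h5
  have key : ∀ g : genSL lam, ¬ Emb.sc (S.m g) →
      S.tr g = 0 ∨ S.tr g ^ 2 - 1 = 0 ∨ S.tr g ^ 4 - 3 * S.tr g ^ 2 + 1 = 0 := by
    intro g hg
    have hn := Cfsg.Agent.Lib.Helper19.a5_orderOf (e (π g))
    have h1 : (e (π g)) ^ orderOf (e (π g)) = 1 := pow_orderOf_eq_one _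
    rw [← map_pow, ← map_pow] at h1
    have h2 : π (g ^ orderOf (e (π g))) = 1 := by
      apply e.injective
      rw [h1, map_one]
    have h4 : g ^ orderOf (e (π g)) ∈ center (genSL lam) := by
      have h5 : g ^ orderOf (e (π g)) ∈ π.ker := MonoidHom.mem_ker.mpr h2
      exact hZ.le h5
    rw [S.mem_center_iff_sc hna, S.m_pow] at h4
    rw [S.tr_eq]
    exact trace_of_pow_sc (S.m g) (S.m_det g) hg _ hn h4
  have hcard60 : 60 ≤ Nat.card (genSL lam) := by
    rw [hsm.1]
    have : 0 < Nat.card (center (genSL lam)) := Nat.card_pos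
    omega
  have hcardbad : Fintype.card F ≤ 3 → False := by
    intro hle
    have h1 : Nat.card (genSL lam) ≤ Nat.card (SpecialLinearGroup (Fin 2) F) :=
      Subgroup.card_le_card_group _
    rw [card_SL2] at h1
    have h2 : Fintype.card F ^ 2 ≤ 3 ^ 2 := Nat.pow_le_pow_left hle 2
    have h4 : Fintype.card F * (Fintype.card F ^ 2 - 1) ≤ 3 * 8 :=
      Nat.mul_le_mul hle (by omega)
    omega
  have hbad : lam ^ 2 = 1 → False := by
    intro h1
    apply hcardbad
    have := card_le_of_pow_eq lam 3 1 (by norm_num) hgen (by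
      rw [pow_one]
      calc lam ^ 3 = lam * lam ^ 2 := by ring
        _ = lam := by rw [h1, mul_one])
    simpa using this
  have k1 := key (gA lam * gB lam) (not_sc_gAB lam)
  have k2 := key (gA lam * (gB lam)⁻¹) (not_sc_gAB' lam)
  rw [tr_gAB] at k1
  rw [tr_gAB'] at k2
  have hsq : lam ^ 2 = -1 := by
    rcases k1 with k1 | k1 | k1
    · exfalso
      apply hbad
      have : lam = -2 := by linear_combination k1
      rw [this]
      linear_combination h3
    · exfalso
      apply hbad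
      have h : lam * (lam + 1) = 0 := by linear_combination k1 - (lam + 1) * h3
      have : lam = -1 := by
        rcases mul_eq_zero.mp h with h | h
        · exact absurd h hlam
        · linear_combination h
      rw [this]
      ring
    · rcases k2 with k2 | k2 | k2
      · exfalso
        apply hbad
        have : lam = 2 := by linear_combination -k2
        rw [this]
        linear_combination h3
      · exfalso
        apply hbad
        have h : lam * (lam - 1) = 0 := by linear_combination k2 + (lam - 1) * h3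
        have : lam = 1 := by
          rcases mul_eq_zero.mp h with h | h
          · exact absurd h hlam
          · linear_combination h
        rw [this]
        ring
      · have h : lam * (lam ^ 2 + 1) = 0 := by
          linear_combination k1 - k2 - (13 * lam + 5 * lam ^ 3) * h3
        rcases mul_eq_zero.mp h with h | h
        · exact absurd h hlam
        · linear_combination h
  refine ⟨?_, hsq⟩
  have h9 : Fintype.card F ≤ 3 ^ 2 := card_le_of_pow_eq lam 3 2 (by norm_num) hgen (by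
    calc lam ^ 3 ^ 2 = lam * (lam ^ 2) ^ 4 := by ring
      _ = lam := by rw [hsq]; ring)
  obtain ⟨n, -, hn⟩ := FiniteField.card F 3
  have hn1 : (n : ℕ) ≠ 1 := by
    intro h1
    apply hcardbad
    rw [hn, h1]
    norm_num
  have hnpos : 0 < (n : ℕ) := n.pos
  have hn2 : (n : ℕ) ≤ 2 := by
    by_contra hcon
    push Not at hcon
    have : 3 ^ 3 ≤ 3 ^ (n : ℕ) := Nat.pow_le_pow_right (by norm_num) hcon
    rw [hn] at h9
    omega
  have : (n : ℕ) = 2 := by omega
  rw [hn, this]
  norm_num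

/-- The exceptional case: `|F| = 9`, `lam ^ 2 = -1`. -/
theorem card_genSL_exc (h9 : Fintype.card F = 9) (hsq : lam ^ 2 = -1) :
    Nat.card (genSL lam) = 120 := by
  classical
  have h3 : (3 : F) = 0 := by
    have h := Nat.cast_card_eq_zero F
    rw [h9] at h
    have h' : (3 : F) * 3 = 0 := by
      have : ((9 : ℕ) : F) = 3 * 3 := by norm_num
      rw [← this]
      exact h
    exact (mul_self_eq_zero.mp h')
  have h2 : (2 : F) ≠ 0 := by
    intro h
    have : (1 : F) = 0 := by linear_combination h3 - h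
    exact one_ne_zero this
  set x : SpecialLinearGroup (Fin 2) F := Cfsg.Agent.Lib.Helper13.lSL 1 with hx
  set w : SpecialLinearGroup (Fin 2) F := x * tSL lam with hw
  set z : SpecialLinearGroup (Fin 2) F := zSL F with hz
  set y : SpecialLinearGroup (Fin 2) F := w ^ 2 with hy
  have hwm : (w : Matrix (Fin 2) (Fin 2) F) = !![1, lam; 1, 1 + lam] := by
    rw [hw, hx, Matrix.SpecialLinearGroup.coe_mul, Cfsg.Agent.Lib.Helper13.lSL_coe, tSL_coe]
    ext i j
    fin_cases i <;> fin_cases j <;> simp [Matrix.mul_apply, Fin.sum_univ_two]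
    ring
  have hx3 : x ^ 3 = 1 := by
    apply Subtype.ext
    rw [Matrix.SpecialLinearGroup.coe_pow, hx, Cfsg.Agent.Lib.Helper13.lSL_coe,
      Matrix.SpecialLinearGroup.coe_one]
    ext i j
    fin_cases i <;> fin_cases j <;> simp [pow_succ, Matrix.mul_apply, Fin.sum_univ_two]
    linear_combination h3
  have hw5 : w ^ 5 = z := by
    apply Subtype.ext
    rw [Matrix.SpecialLinearGroup.coe_pow, pow_five_two _ w.2, hwm, hz, zSL_coe]
    have hP : ((!![1, lam; 1, 1 + lam] : Matrix (Fin 2) (Fin 2) F) 0 0 +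
        (!![1, lam; 1, 1 + lam] : Matrix (Fin 2) (Fin 2) F) 1 1) ^ 4 -
        3 * ((!![1, lam; 1, 1 + lam] : Matrix (Fin 2) (Fin 2) F) 0 0 +
        (!![1, lam; 1, 1 + lam] : Matrix (Fin 2) (Fin 2) F) 1 1) ^ 2 + 1 = 0 := by
      simp
      linear_combination (lam ^ 2 + 8 * lam + 20) * hsq + (4 * lam - 5) * h3
    have hQ : ((!![1, lam; 1, 1 + lam] : Matrix (Fin 2) (Fin 2) F) 0 0 +
        (!![1, lam; 1, 1 + lam] : Matrix (Fin 2) (Fin 2) F) 1 1) ^ 3 -
        2 * ((!![1, lam; 1, 1 + lam] : Matrix (Fin 2) (Fin 2) F) 0 0 +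
        (!![1, lam; 1, 1 + lam] : Matrix (Fin 2) (Fin 2) F) 1 1) = 1 := by
      simp
      linear_combination (lam + 6) * hsq + (3 * lam - 1) * h3
    rw [hP, hQ, zero_smul, zero_sub, one_smul]
    ext i j
    fin_cases i <;> fin_cases j <;> simp
  have hzz : z * z = 1 := zSL_mul_self
  have hzc : ∀ g : SpecialLinearGroup (Fin 2) F, z * g = g * z := fun g =>
    (Subgroup.mem_center_iff.mp zSL_mem_center g).symm
  have hy5 : y ^ 5 = 1 := by
    rw [hy, ← pow_mul]
    have : w ^ (2 * 5) = (w ^ 5) ^ 2 := by rw [← pow_mul]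
    rw [this, hw5, pow_two, hzz]
  have hxy : (x * y) ^ 2 = z := by
    rw [pow_two]
    apply mul_self_of_trace_eq_zero
    rw [Matrix.trace_fin_two, hy, pow_two, Matrix.SpecialLinearGroup.coe_mul,
      Matrix.SpecialLinearGroup.coe_mul, hwm, hx, Cfsg.Agent.Lib.Helper13.lSL_coe]
    simp [Matrix.mul_apply, Fin.sum_univ_two]
    linear_combination 2 * hsq + (2 * lam) * h3
  have hz1 : z ≠ 1 := zSL_ne_one h2
  have hy1 : y ≠ 1 := by
    intro h1
    have h4 : w ^ 5 = w := by
      calc w ^ 5 = (w ^ 2) ^ 2 * w := by group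
        _ = w := by rw [← hy, h1, one_pow, one_mul]
    rw [hw5] at h4
    have h5 := congrArg (fun g : SpecialLinearGroup (Fin 2) F =>
      (g : Matrix (Fin 2) (Fin 2) F) 1 0) h4
    simp only [hwm, hz, zSL_coe] at h5
    simp at h5
  have hcl : closure ({x, y, z} : Set (SpecialLinearGroup (Fin 2) F)) = genSL lam := by
    have hxg : x ∈ genSL lam := lSL_mem_genSL lam
    have hwg : w ∈ genSL lam := (genSL lam).mul_mem hxg (tSL_mem_genSL lam)
    apply le_antisymm
    · rw [closure_le]
      rintro g (rfl | rfl | rfl)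
      · exact hxg
      · exact (genSL lam).pow_mem hwg 2
      · have h5 := (genSL lam).pow_mem hwg 5
        rw [hw5] at h5
        exact h5
    · unfold genSL
      rw [closure_le]
      have hxc : x ∈ closure ({x, y, z} : Set (SpecialLinearGroup (Fin 2) F)) :=
        subset_closure (by simp)
      have hyc : y ∈ closure ({x, y, z} : Set (SpecialLinearGroup (Fin 2) F)) :=
        subset_closure (by simp)
      have hzc' : z ∈ closure ({x, y, z} : Set (SpecialLinearGroup (Fin 2) F)) :=
        subset_closure (by simp)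
      rintro g (rfl | rfl)
      · exact hxc
      · have hwc : w ∈ closure ({x, y, z} : Set (SpecialLinearGroup (Fin 2) F)) := by
          have : w = y ^ 3 * z⁻¹ := by
            rw [hy, ← hw5]
            group
          rw [this]
          exact Subgroup.mul_mem _ (Subgroup.pow_mem _ hyc 3) (Subgroup.inv_mem _ hzc')
        have : tSL lam = x⁻¹ * w := by rw [hw]; group
        rw [this]
        exact Subgroup.mul_mem _ (Subgroup.inv_mem _ hxc) hwc
  obtain ⟨f⟩ := nonempty_closure_equiv_SL2_five x y z hx3 hy5 (by rw [pow_two, hzz]) (hzc x)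
    (hzc y) hxy hz1 hy1
  rw [← hcl, Nat.card_congr f.toEquiv, card_SL2_five]

end fin

end Cfsg.Agent.Lib.Helper13.Dk
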