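/-
helper13: Dickson's theorem for subgroups of `PSL₂(F)`.
-/
import Mathlib
import Cfsg.Agent.Lib.Helper13.DkFinal
import Cfsg.Agent.Lib.Helper13.SL2Spectrum

set_option autoImplicit false

namespace Cfsg.Agent.Lib.Helper13.Dk

open Subgroup Matrix Cfsg.Agent.Lib.Helper13 Cfsg.Agent.Lib.Helper29.Dickson

section

variable {F : Type*} [Field F] [Fintype F]

omit [Fintype F] in
theorem card_center_SL2_char_two (h2 : (2 : F) = 0) :
    Nat.card (Subgroup.center (SpecialLinearGroup (Fin 2) F)) = 1 := by
  have : Subgroup.center (SpecialLinearGroup (Fin 2) F) = ⊥ := by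
    rw [eq_bot_iff]
    intro A hA
    rw [Matrix.SpecialLinearGroup.mem_center_iff] at hA
    obtain ⟨r, hr, hA⟩ := hA
    rw [Fintype.card_fin] at hr
    have hr1 : r = 1 := by
      have : (r - 1) ^ 2 = 0 := by linear_combination hr - r * h2 + h2
      exact sub_eq_zero.mp (pow_eq_zero_iff (two_ne_zero) |>.mp this)
    rw [Subgroup.mem_bot]
    apply Subtype.ext
    rw [← hA, hr1]
    simp
  rw [this, Subgroup.card_bot]

theorem card_center_SL2_eq_gcd (p : ℕ) [hpF : Fact p.Prime] [CharP F p] :
    Nat.card (Subgroup.center (SpecialLinearGroup (Fin 2) F)) =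
      Nat.gcd 2 (Fintype.card F - 1) := by
  by_cases hp2 : p = 2
  · subst hp2
    have h2 : (2 : F) = 0 := CharTwo.two_eq_zero
    rw [card_center_SL2_char_two h2]
    obtain ⟨m, hm⟩ := even_card_of_char_two (F := F)
    have hpos : 0 < Fintype.card F := Fintype.card_pos
    have hodd : ¬ 2 ∣ Fintype.card F - 1 := by omega
    have hcop : Nat.Coprime 2 (Fintype.card F - 1) :=
      (Nat.Prime.coprime_iff_not_dvd Nat.prime_two).mpr hodd
    exact (Nat.Coprime.gcd_eq_one hcop).symm
  · have h2 : (2 : F) ≠ 0 := by
      intro h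
      have h1 : ((2 : ℕ) : F) = 0 := by exact_mod_cast h
      rw [CharP.cast_eq_zero_iff F p] at h1
      exact hp2 ((Nat.prime_dvd_prime_iff_eq hpF.out Nat.prime_two).mp h1)
    rw [card_center_SL2 h2]
    obtain ⟨m, hm⟩ := odd_card_of_char_ne_two (F := F) p hp2
    have : Fintype.card F - 1 = 2 * m := by omega
    rw [this]
    exact (Nat.gcd_mul_right_right m 2).symm

/-- **Dickson's theorem** (refined form): every subgroup of `PSL₂(F)` is of one of the listed
types. -/
theorem dickson_subgroup' (p : ℕ) [hpF : Fact p.Prime] [CharP F p]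
    (H : Subgroup (Matrix.ProjectiveSpecialLinearGroup (Fin 2) F)) :
    Concl' F (Fintype.card F) p H := by
  classical
  let q' : SpecialLinearGroup (Fin 2) F →* Matrix.ProjectiveSpecialLinearGroup (Fin 2) F :=
    QuotientGroup.mk' (center (SpecialLinearGroup (Fin 2) F))
  have hq' : Function.Surjective q' := QuotientGroup.mk'_surjective _
  let Hh : Subgroup (SpecialLinearGroup (Fin 2) F) := H.comap q'
  let S : Emb F Hh := ⟨Hh.subtype, Subgroup.subtype_injective Hh⟩
  let π : Hh →* H := q'.subgroupComap H
  have hπ : Function.Surjective π := q'.subgroupComap_surjective_of_surjective H hq'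
  have hker : ∀ g, π g = 1 ↔ Emb.sc (S.m g) := by
    intro g
    rw [S.sc_iff_mem_center]
    change π g = 1 ↔ (g : SpecialLinearGroup (Fin 2) F) ∈ center (SpecialLinearGroup (Fin 2) F)
    rw [← QuotientGroup.eq_one_iff (N := center (SpecialLinearGroup (Fin 2) F))]
    constructor
    · intro h
      have := congrArg Subtype.val h
      exact this
    · intro h
      apply Subtype.ext
      exact h
  have hle : center (SpecialLinearGroup (Fin 2) F) ≤ Hh := by
    intro z hz
    change q' z ∈ H
    have : q' z = 1 := (QuotientGroup.eq_one_iff z).mpr hz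
    rw [this]
    exact H.one_mem
  have hd : Nat.card π.ker = Nat.gcd 2 (Fintype.card F - 1) := by
    rw [← card_center_SL2_eq_gcd p]
    have hk : π.ker = (center (SpecialLinearGroup (Fin 2) F)).subgroupOf Hh := by
      ext g
      rw [MonoidHom.mem_ker, hker, S.sc_iff_mem_center, Subgroup.mem_subgroupOf]
      rfl
    rw [hk]
    exact Nat.card_congr (Subgroup.subgroupOfEquivOfLe hle).toEquiv
  exact S.dickson_main p π hπ hker hd

/-- **Dickson's theorem**: every subgroup of `PSL₂(F)` is of one of the listed types. -/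
theorem dickson_subgroup (p : ℕ) [hpF : Fact p.Prime] [CharP F p]
    (H : Subgroup (Matrix.ProjectiveSpecialLinearGroup (Fin 2) F)) :
    Concl F (Fintype.card F) p H :=
  (dickson_subgroup' p H).toConcl

end

end Cfsg.Agent.Lib.Helper13.Dk
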