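/-
helper13: tools for maximal subgroups of `PSL₂(q)` via Dickson's theorem.
-/
import Mathlib
import Cfsg.Agent.Lib.Helper13.DkWrap
import Cfsg.Agent.Lib.Helper19.A5Spec

set_option autoImplicit false

namespace Cfsg.Agent.Lib.Helper13.Dk

open Subgroup Matrix Cfsg.Agent.Lib.Helper13
open scoped commutatorElement

section cards

variable {K : Type*} [Field K] [Fintype K]

theorem card_PSL2_mul_gcd :
    Nat.card (Matrix.ProjectiveSpecialLinearGroup (Fin 2) K) * Nat.gcd 2 (Fintype.card K - 1) =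
      Fintype.card K * (Fintype.card K ^ 2 - 1) := by
  obtain ⟨p, hp⟩ := CharP.exists K
  have hpp : Fact p.Prime := ⟨CharP.char_is_prime K p⟩
  have h := Subgroup.card_eq_card_quotient_mul_card_subgroup
    (Subgroup.center (SpecialLinearGroup (Fin 2) K))
  rw [card_center_SL2_eq_gcd p, card_SL2] at h
  rw [h]

theorem card_PGL2 :
    Nat.card (Matrix.ProjGenLinGroup (Fin 2) K) = Fintype.card K * (Fintype.card K ^ 2 - 1) := by
  rw [Cfsg.Agent.Lib.Helper2.card_PGL_field, card_SL2]

theorem two_le_card_field : 2 ≤ Fintype.card K := Fintype.one_lt_card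

end cards

section orders

/-- A subgroup of a group with a cyclic subgroup `R` has an element of order at least
`|H| / [M : R]`. -/
theorem exists_orderOf_ge {M : Type*} [Group M] [Finite M] (R : Subgroup M) [IsCyclic R]
    (H : Subgroup M) : ∃ h ∈ H, Nat.card H ≤ R.index * orderOf h := by
  have hcyc : IsCyclic ↥(H ⊓ R) :=
    isCyclic_of_injective (Subgroup.inclusion (inf_le_right : H ⊓ R ≤ R))
      (Subgroup.inclusion_injective _)
  obtain ⟨g, hg⟩ := hcyc.exists_generator
  refine ⟨g.1, g.2.1, ?_⟩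
  have h1 : Nat.card ↥(H ⊓ R) = orderOf (g : M) := by
    rw [Subgroup.orderOf_coe]
    exact (orderOf_eq_card_of_forall_mem_zpowers hg).symm
  have h2 := Subgroup.card_mul_index ((H ⊓ R).subgroupOf H)
  have h3 : Nat.card ((H ⊓ R).subgroupOf H) = Nat.card ↥(H ⊓ R) :=
    Nat.card_congr (Subgroup.subgroupOfEquivOfLe inf_le_left).toEquiv
  have h4 : ((H ⊓ R).subgroupOf H).index ≤ R.index := by
    change (H ⊓ R).relIndex H ≤ R.index
    rw [Subgroup.inf_relIndex_left, ← Subgroup.relIndex_top_right]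
    apply Subgroup.relIndex_le_of_le_right le_top
    rw [Subgroup.relIndex_top_right]
    exact Subgroup.index_ne_zero_of_finite
  rw [← h2, h3, h1, mul_comm]
  exact Nat.mul_le_mul_right _ h4

/-- Subgroups of dihedral groups have a cyclic subgroup of index at most two. -/
theorem exists_orderOf_of_le_dihedral {k : ℕ} (hk : k ≠ 0) (H : Subgroup (DihedralGroup k)) :
    ∃ h ∈ H, Nat.card H ≤ 2 * orderOf h := by
  have : NeZero k := ⟨hk⟩
  let R : Subgroup (DihedralGroup k) := zpowers (DihedralGroup.r 1)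
  have hR : Nat.card R = k := by
    rw [Nat.card_zpowers, DihedralGroup.orderOf_r_one]
  have hidx : R.index = 2 := by
    have h := Subgroup.card_mul_index R
    rw [hR, DihedralGroup.nat_card] at h
    have hk0 : 0 < k := Nat.pos_of_ne_zero hk
    have : k * R.index = k * 2 := by rw [h]; ring
    exact Nat.eq_of_mul_eq_mul_left hk0 this
  have hcyc : IsCyclic R := inferInstance
  obtain ⟨h, hh, hle⟩ := exists_orderOf_ge R H
  rw [hidx] at hle
  exact ⟨h, hh, hle⟩

variable {G : Type*} [Group G]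

/-- Transfer to a subgroup isomorphic to a dihedral group. -/
theorem exists_orderOf_of_dihedral (M H : Subgroup G) (hHM : H ≤ M) {k : ℕ} (hk : k ≠ 0)
    (e : M ≃* DihedralGroup k) : ∃ h ∈ H, Nat.card H ≤ 2 * orderOf h := by
  let H' : Subgroup (DihedralGroup k) := (H.subgroupOf M).map e.toMonoidHom
  obtain ⟨h', hh', hle⟩ := exists_orderOf_of_le_dihedral hk H'
  obtain ⟨h, hh, rfl⟩ := hh'
  have hcard : Nat.card H' = Nat.card H := by
    rw [Subgroup.card_map_of_injective e.injective]
    exact Nat.card_congr (Subgroup.subgroupOfEquivOfLe hHM).toEquiv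
  refine ⟨h.1, Subgroup.mem_subgroupOf.mp hh, ?_⟩
  rw [← hcard, Subgroup.orderOf_coe]
  have : orderOf (e.toMonoidHom h) = orderOf h := MulEquiv.orderOf_eq e h
  rw [← this]
  exact hle

/-- Transfer to a cyclic subgroup. -/
theorem exists_orderOf_of_cyclic (M H : Subgroup G) (hHM : H ≤ M) [IsCyclic M] :
    ∃ h ∈ H, Nat.card H = orderOf h := by
  have hcyc : IsCyclic H :=
    isCyclic_of_injective (Subgroup.inclusion hHM) (Subgroup.inclusion_injective _)
  obtain ⟨g, hg⟩ := hcyc.exists_generator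
  refine ⟨g.1, g.2, ?_⟩
  rw [Subgroup.orderOf_coe]
  exact (orderOf_eq_card_of_forall_mem_zpowers hg).symm

/-- Commutators in a subgroup whose commutator subgroup is a `p`-group are `p`-elements. -/
theorem commutator_pow_eq_one {p : ℕ} (M : Subgroup G) (hc : IsPGroup p (commutator M)) {a b : G}
    (ha : a ∈ M) (hb : b ∈ M) : ∃ n : ℕ, ⁅a, b⁆ ^ p ^ n = 1 := by
  have hmem : ⁅(⟨a, ha⟩ : M), ⟨b, hb⟩⁆ ∈ commutator M := by
    rw [_root_.commutator_def]
    exact Subgroup.commutator_mem_commutator (mem_top _) (mem_top _)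
  obtain ⟨n, hn⟩ := hc ⟨_, hmem⟩
  refine ⟨n, ?_⟩
  have h1 := congrArg Subtype.val hn
  have h2 := congrArg Subtype.val h1
  simpa [commutatorElement_def] using h2

/-- The order of a commutator of `T ≅ H ≤ M` is a power of `p`. -/
theorem orderOf_commutator_dvd {p : ℕ} (M H : Subgroup G) (hHM : H ≤ M)
    (hc : IsPGroup p (commutator M)) {T : Type*} [Group T] (f : H ≃* T) (x y : T) :
    ∃ n : ℕ, orderOf ⁅x, y⁆ ∣ p ^ n := by
  obtain ⟨n, hn⟩ := commutator_pow_eq_one M hc (hHM (f.symm x).2) (hHM (f.symm y).2)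
  refine ⟨n, ?_⟩
  apply orderOf_dvd_of_pow_eq_one
  have h1 : ((⁅f.symm x, f.symm y⁆ : H) : G) ^ p ^ n = 1 := by
    simpa [commutatorElement_def] using hn
  have h2 : (⁅f.symm x, f.symm y⁆ : H) ^ p ^ n = 1 := by
    apply Subtype.ext
    simpa using h1
  have h3 : f (⁅f.symm x, f.symm y⁆ ^ p ^ n) = 1 := by rw [h2, map_one]
  rwa [map_pow, map_commutatorElement, MulEquiv.apply_symm_apply,
    MulEquiv.apply_symm_apply] at h3

end orders

section smallgroups

set_option maxRecDepth 100000 in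
theorem s4_perm_pow (g : Equiv.Perm (Fin 4)) : g ^ 3 = 1 ∨ g ^ 4 = 1 := by
  revert g
  decide

theorem s4_orderOf_le (g : Equiv.Perm (Fin 4)) : orderOf g ≤ 4 := by
  rcases s4_perm_pow g with h | h
  · exact (orderOf_le_of_pow_eq_one (by norm_num) h).trans (by norm_num)
  · exact orderOf_le_of_pow_eq_one (by norm_num) h

set_option maxRecDepth 100000 in
theorem a4_perm_pow (g : Equiv.Perm (Fin 4)) (hg : Equiv.Perm.sign g = 1) :
    g ^ 2 = 1 ∨ g ^ 3 = 1 := by
  revert g
  decide

theorem a4_orderOf_le (g : alternatingGroup (Fin 4)) : orderOf g ≤ 3 := by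
  have hs : Equiv.Perm.sign (g : Equiv.Perm (Fin 4)) = 1 := Equiv.Perm.mem_alternatingGroup.mp g.2
  rw [← Subgroup.orderOf_coe]
  rcases a4_perm_pow g.1 hs with h | h
  · exact (orderOf_le_of_pow_eq_one (by norm_num) h).trans (by norm_num)
  · exact orderOf_le_of_pow_eq_one (by norm_num) h

theorem a5_orderOf_le (g : alternatingGroup (Fin 5)) : orderOf g ≤ 5 := by
  rcases Cfsg.Agent.Lib.Helper19.a5_orderOf g with h | h | h | h <;> omega

end smallgroups

section coatom

variable {G : Type*} [Group G] [Finite G]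

theorem card_lt_of_lt {H M : Subgroup G} (h : H < M) : Nat.card H < Nat.card M := by
  by_contra hcon
  push Not at hcon
  exact h.ne (Subgroup.eq_of_le_of_card_ge h.le hcon)

theorem card_dvd_of_lt {H M : Subgroup G} (h : H < M) : Nat.card H ∣ Nat.card M :=
  Subgroup.card_dvd_of_le h.le

theorem two_mul_card_le_of_lt {H M : Subgroup G} (h : H < M) : 2 * Nat.card H ≤ Nat.card M := by
  obtain ⟨c, hc⟩ := card_dvd_of_lt h
  have hlt := card_lt_of_lt h
  have hpos : 0 < Nat.card H := Nat.card_pos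
  rw [hc] at hlt ⊢
  have hc2 : 2 ≤ c := by
    by_contra hcon
    have : c = 0 ∨ c = 1 := by omega
    rcases this with rfl | rfl
    · simp at hlt
    · simp at hlt
  calc 2 * Nat.card H = Nat.card H * 2 := by ring
    _ ≤ Nat.card H * c := Nat.mul_le_mul_left _ hc2

theorem eq_top_of_card_ge (M : Subgroup G) (h : Nat.card G ≤ Nat.card M) : M = ⊤ := by
  apply Subgroup.eq_of_le_of_card_ge le_top
  rwa [Subgroup.card_top]

end coatom

section subfield

variable {F : Type*} [Field F] [Fintype F]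

/-- A subgroup isomorphic to `PSL₂(K)` or `PGL₂(K)` with `|K| = |F|` is everything. -/
theorem eq_top_of_card_field_eq (M : Subgroup (Matrix.ProjectiveSpecialLinearGroup (Fin 2) F))
    (K : Type) [Field K] [Fintype K] (hK : Fintype.card K = Fintype.card F)
    (h : Nonempty (M ≃* Matrix.ProjectiveSpecialLinearGroup (Fin 2) K) ∨
      Nonempty (M ≃* Matrix.ProjGenLinGroup (Fin 2) K)) : M = ⊤ := by
  have hG := card_PSL2_mul_gcd (K := F)
  have hg : 0 < Nat.gcd 2 (Fintype.card F - 1) := Nat.gcd_pos_of_pos_left _ (by norm_num)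
  apply eq_top_of_card_ge
  rcases h with ⟨⟨e⟩⟩ | ⟨⟨e⟩⟩
  · have h1 := card_PSL2_mul_gcd (K := K)
    rw [← Nat.card_congr e.toEquiv, hK, ← hG] at h1
    exact (Nat.eq_of_mul_eq_mul_right hg h1).ge
  · have h1 := card_PGL2 (K := K)
    rw [← Nat.card_congr e.toEquiv, hK, ← hG] at h1
    rw [h1]
    exact Nat.le_mul_of_pos_right _ hg

/-- Over a prime field the subfield case of Dickson's theorem gives the whole group. -/
theorem eq_top_of_prime_field {p : ℕ} (hp : p.Prime) (hF : Fintype.card F = p)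
    (M : Subgroup (Matrix.ProjectiveSpecialLinearGroup (Fin 2) F))
    (K : Type) [Field K] [Fintype K] (m : ℕ) (hm : Fintype.card K ^ m = p)
    (h : Nonempty (M ≃* Matrix.ProjectiveSpecialLinearGroup (Fin 2) K) ∨
      Nonempty (M ≃* Matrix.ProjGenLinGroup (Fin 2) K)) : M = ⊤ := by
  have h1 := (Nat.Prime.pow_eq_iff hp).mp hm
  exact eq_top_of_card_field_eq M K (h1.1.trans hF.symm) h

end subfield

end Cfsg.Agent.Lib.Helper13.Dk
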