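import Cfsg.Agent.Lib.Helper13.R3Defs

/-!
# S4404 (helper13): definitions for the endgame

* `kerB e b₀ p = ⋂_{i<p} N_H(e^i • b₀)`
* `fixB e b₀ p = ⋂_{i<p} C_H(e^i • b₀)`
-/

set_option autoImplicit false

namespace Cfsg.Agent.Lib.Helper13.R3

open Pointwise

variable {H : Type*} [Group H] {M : Type*} [CommGroup M] [MulDistribMulAction H M]

/-- `⋂_{i<p} N_H(e^i • b₀)` -/
def kerB (e : H) (b₀ : Subgroup M) (p : ℕ) : Subgroup H :=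
  ⨅ i : Fin p, MulAction.stabilizer H (e ^ (i : ℕ) • b₀)

/-- `⋂_{i<p} C_H(e^i • b₀)` -/
def fixB (e : H) (b₀ : Subgroup M) (p : ℕ) : Subgroup H :=
  ⨅ i : Fin p, fixer (e ^ (i : ℕ) • b₀)

lemma mem_kerB {e : H} {b₀ : Subgroup M} {p : ℕ} {g : H} :
    g ∈ kerB e b₀ p ↔ ∀ i : Fin p, g • (e ^ (i : ℕ) • b₀) = e ^ (i : ℕ) • b₀ := by
  simp [kerB, Subgroup.mem_iInf, MulAction.mem_stabilizer_iff]

lemma mem_fixB {e : H} {b₀ : Subgroup M} {p : ℕ} {g : H} :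
    g ∈ fixB e b₀ p ↔ ∀ i : Fin p, g ∈ fixer (e ^ (i : ℕ) • b₀) := by
  simp [fixB, Subgroup.mem_iInf]

end Cfsg.Agent.Lib.Helper13.R3
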