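import Mathlib
import Cfsg.Prelude.Def_Transfer

/-!
# S4404 (helper13): definitions for the "root element" analysis

Setting: a finite group `H` (of odd order, solvable) acting on a finite elementary abelian
2-group `M` (`CommGroup M`, `∀ m, m ^ 2 = 1`) through `MulDistribMulAction H M`.

* `cHom M y : M →* M`   the map `m ↦ (y • m) / m`            (additively `y - 1`)
* `cSub M y`            its range  `[M, y]`
* `fSub M y`            its kernel `C_M(y)`
* `fixer P`             `C_H(P)` for `P : Subgroup M`
* `IsRoot M y`          `y ^ 3` acts trivially on `M` and `|[M, y]| = 4`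
* `Blk x b₀`            the block package used by the endgame
-/

set_option autoImplicit false

namespace Cfsg.Agent.Lib.Helper13.R3

open Pointwise

variable {H : Type*} [Group H]

/-- `m ↦ (y • m) / m` as an endomorphism of the commutative group `M`. -/
def cHom (M : Type*) [CommGroup M] [MulDistribMulAction H M] (y : H) : M →* M :=
  MulDistribMulAction.toMonoidHom M y / MonoidHom.id M

@[simp] lemma cHom_apply (M : Type*) [CommGroup M] [MulDistribMulAction H M] (y : H) (m : M) :
    cHom M y m = (y • m) / m := rfl

/-- `[M, y]`, the range of `m ↦ (y • m) / m`. -/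
def cSub (M : Type*) [CommGroup M] [MulDistribMulAction H M] (y : H) : Subgroup M :=
  (cHom M y).range

/-- `C_M(y)`, the kernel of `m ↦ (y • m) / m`. -/
def fSub (M : Type*) [CommGroup M] [MulDistribMulAction H M] (y : H) : Subgroup M :=
  (cHom M y).ker

lemma mem_cSub {M : Type*} [CommGroup M] [MulDistribMulAction H M] {y : H} {v : M} :
    v ∈ cSub M y ↔ ∃ m : M, (y • m) / m = v := Iff.rfl

lemma mem_fSub {M : Type*} [CommGroup M] [MulDistribMulAction H M] {y : H} {m : M} :
    m ∈ fSub M y ↔ y • m = m := by
  rw [fSub, MonoidHom.mem_ker, cHom_apply, div_eq_one]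

/-- `C_H(P)`: the elements of `H` fixing the subgroup `P` of `M` pointwise. -/
def fixer {M : Type*} [CommGroup M] [MulDistribMulAction H M] (P : Subgroup M) : Subgroup H where
  carrier := {h | ∀ m ∈ P, h • m = m}
  one_mem' := fun m _ => one_smul H m
  mul_mem' := fun {a b} ha hb m hm => by rw [mul_smul, hb m hm, ha m hm]
  inv_mem' := fun {a} ha m hm => by
    have := ha m hm
    calc a⁻¹ • m = a⁻¹ • (a • m) := by rw [this]
      _ = m := inv_smul_smul a m

lemma mem_fixer {M : Type*} [CommGroup M] [MulDistribMulAction H M] {P : Subgroup M} {h : H} :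
    h ∈ fixer P ↔ ∀ m ∈ P, h • m = m := Iff.rfl

/-- A "root element": `y ^ 3` acts trivially on `M` and `[M, y]` has order 4. -/
def IsRoot (M : Type*) [CommGroup M] [MulDistribMulAction H M] (y : H) : Prop :=
  (∀ m : M, (y ^ 3) • m = m) ∧ Nat.card (cSub M y) = 4

/-- The block package: `b₀` contains `[M, x]`, has at most 8 elements, is `x`-invariant, and `x`
fixes every other `H`-translate of `b₀` pointwise. -/
def Blk {M : Type*} [CommGroup M] [MulDistribMulAction H M] (x : H) (b₀ : Subgroup M) : Prop :=
  cSub M x ≤ b₀ ∧ Nat.card b₀ ≤ 8 ∧ x • b₀ = b₀ ∧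
    ∀ h : H, h • b₀ ≠ b₀ → ∀ m ∈ h • b₀, x • m = m

end Cfsg.Agent.Lib.Helper13.R3
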