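import Mathlib
import Cfsg.Agent.Lib.Helper25.SpTNDefs

/-!
S5704 leaf (N2e0) `kel_conj_kA` (owner of the market: helper25): conjugation of `kA x c` by a tensor
similitude.
-/

set_option autoImplicit false
set_option linter.unusedSectionVars false
set_option linter.unusedVariables false

namespace Cfsg.Agent.Lib.Helper13.SpTNLeaf
open Matrix QuadraticMap
open Cfsg.Agent.Lib.Helper25.Tens Cfsg.Agent.Lib.Helper25.TensLeaves Cfsg.Agent.Lib.Helper19.OSub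
open Cfsg.Agent.Lib.Helper25.SpT
open scoped Kronecker

variable {F : Type*} [Field F] {a b : ℕ}

lemma mv_kel_pt (α : GL (Fin a) F) (β : GL (Fin b) F) (x : Fin a → F) (y : Fin b → F) :
    mv (kel α β : GL (Idx a b) F) (pt x y) =
      pt ((α : Matrix (Fin a) (Fin a) F) *ᵥ x) ((β : Matrix (Fin b) (Fin b) F) *ᵥ y) :=
  kel_mulVec_pt α β x y

/-- (N2e0) conjugation of `kA` by a tensor similitude: `α₀ τ_{x,c} α₀⁻¹ = τ_{α₀ x, c μ⁻¹}` -/
theorem kel_conj_kA (α₀ : GL (Fin a) F) (β₀ : GL (Fin b) F) (μ : F) (hμ : μ ≠ 0)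
    (hα : ∀ x x' : Fin a → F, sf ((α₀ : Matrix (Fin a) (Fin a) F) *ᵥ x)
      ((α₀ : Matrix (Fin a) (Fin a) F) *ᵥ x') = μ * sf x x') (x : Fin a → F) (c : F) :
    (kel α₀ β₀ * kA x c * (kel α₀ β₀)⁻¹ : GL (Idx a b) F) =
      kA ((α₀ : Matrix (Fin a) (Fin a) F) *ᵥ x) (c * μ⁻¹) := by
  rw [mul_inv_eq_iff_eq_mul]
  apply gl_ext_pt
  intro x' y'
  rw [mv_mul, mv_mul, mv_kA_pt, mv_kel_pt, mv_kel_pt, mv_kA_pt, hα, Matrix.mulVec_add,
    Matrix.mulVec_smul]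
  congr 3
  field_simp

end Cfsg.Agent.Lib.Helper13.SpTNLeaf
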