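/- helper13: abstract group lemmas for the Suzuki subgroup theorem (S2251, S2239):
odd dihedral conjugation, a finite group is not the union of conjugates of a proper subgroup,
CA-groups with self-normalizing centralizers are abelian, involution counting per coset. -/
import Mathlib
import Cfsg.Agent.Lib.Helper24.BGCount
import Cfsg.Agent.Lib.Helper13.SL2

set_option autoImplicit false

namespace Cfsg.Agent.Lib.Helper13.SzSub

open Cfsg.Agent.Lib.Helper24.BGCount

variable {G : Type*} [Group G]

/-- two involutions whose product has odd order are conjugate by a power of the product -/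
theorem invol_conj_pow {u v : G} (hu : u * u = 1) (hv : v * v = 1) {k : ℕ}
    (h : (u * v) ^ (2 * k + 1) = 1) : (u * v) ^ k * u * ((u * v) ^ k)⁻¹ = v := by
  have huinv : u⁻¹ = u := inv_eq_of_mul_eq_one_left hu
  have hvinv : v⁻¹ = v := inv_eq_of_mul_eq_one_left hv
  have h1 : u * (u * v) * u⁻¹ = (u * v)⁻¹ := by
    rw [mul_inv_rev, huinv, hvinv, ← mul_assoc, hu, one_mul]
  have h2 : u * (u * v) ^ k * u⁻¹ = ((u * v)⁻¹) ^ k := by
    have := map_pow (MulAut.conj u) (u * v) k
    rw [MulAut.conj_apply, MulAut.conj_apply, h1] at this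
    exact this
  have h3 : u * ((u * v) ^ k)⁻¹ = (u * v) ^ k * u := by
    have h4 : u * ((u * v) ^ k)⁻¹ * u⁻¹ = (u * v) ^ k := by
      have h5 := map_inv (MulAut.conj u) ((u * v) ^ k)
      rw [MulAut.conj_apply, MulAut.conj_apply, h2, inv_pow, inv_inv] at h5
      exact h5
    calc u * ((u * v) ^ k)⁻¹ = u * ((u * v) ^ k)⁻¹ * u⁻¹ * u := by group
      _ = (u * v) ^ k * u := by rw [h4]
  calc (u * v) ^ k * u * ((u * v) ^ k)⁻¹ = (u * v) ^ k * (u * ((u * v) ^ k)⁻¹) := by group
    _ = (u * v) ^ k * ((u * v) ^ k * u) := by rw [h3]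
    _ = (u * v) ^ (2 * k) * u := by rw [← mul_assoc, ← pow_add, two_mul]
    _ = (u * v)⁻¹ * u := by
        congr 1
        apply eq_inv_of_mul_eq_one_left
        rw [← pow_succ]; exact h
    _ = v := by rw [mul_inv_rev, huinv, hvinv, mul_assoc, hu, mul_one]

/-- a finite group is not the union of the conjugates of a proper subgroup -/
theorem exists_not_mem_conj [Finite G] {A : Subgroup G} (hA : A ≠ ⊤) :
    ∃ g : G, ∀ l : G, l * g * l⁻¹ ∉ A := by
  by_contra hcon
  push Not at hcon
  apply hA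
  let S : Set G := {a | a ∈ A ∧ a ≠ 1}
  let Φ : Option ((G ⧸ A) × S) → G := fun x =>
    match x with
    | none => 1
    | some x => cmap A S x
  have hsurj : Function.Surjective Φ := by
    intro g
    by_cases hg : g = 1
    · exact ⟨none, hg.symm⟩
    · obtain ⟨l, hl⟩ := hcon g
      obtain ⟨a', ha'⟩ := QuotientGroup.mk_out_eq_mul A (l⁻¹)
      -- ((l⁻¹ : G) : G ⧸ A).out = l⁻¹ * a'
      have hmem : (a' : G)⁻¹ * (l * g * l⁻¹) * (a' : G) ∈ S := by
        refine ⟨A.mul_mem (A.mul_mem (A.inv_mem a'.2) hl) a'.2, ?_⟩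
        intro h
        apply hg
        have : l * g * l⁻¹ = 1 := by
          have := congrArg (fun z => (a' : G) * z * (a' : G)⁻¹) h
          simpa [mul_assoc] using this
        have h2 := congrArg (fun z => l⁻¹ * z * l) this
        simpa [mul_assoc] using h2
      refine ⟨some (((l⁻¹ : G) : G ⧸ A), ⟨_, hmem⟩), ?_⟩
      show cmap A S _ = g
      unfold cmap
      simp only
      rw [ha']
      group
  have hcard := Nat.card_le_card_of_surjective Φ hsurj
  have hS : Nat.card S + 1 = Nat.card A := by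
    have e : S ≃ {a : A // a ≠ 1} :=
      { toFun := fun s => ⟨⟨s.1, s.2.1⟩, fun h => s.2.2 (congrArg Subtype.val h)⟩
        invFun := fun a => ⟨a.1.1, a.1.2, fun h => a.2 (Subtype.ext h)⟩
        left_inv := fun s => rfl
        right_inv := fun a => rfl }
    rw [Nat.card_congr e]
    have : Nat.card {a : A // a ≠ 1} = Nat.card A - 1 := by
      classical
      have : Fintype A := Fintype.ofFinite A
      rw [Nat.card_eq_fintype_card, Nat.card_eq_fintype_card, Fintype.card_subtype_compl,
        Fintype.card_subtype_eq]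
    rw [this]
    have : 0 < Nat.card A := Nat.card_pos
    omega
  rw [Finite.card_option, Nat.card_prod] at hcard
  have hidx := A.index_mul_card
  rw [← Subgroup.index] at hcard
  have hpos : 0 < A.index := Nat.pos_of_ne_zero Subgroup.index_ne_zero_of_finite
  have hle : A.index ≤ 1 := by
    by_contra hlt
    push Not at hlt
    have h3 : A.index * Nat.card S + A.index = Nat.card G := by
      rw [← hidx, ← hS]; ring
    omega
  exact Subgroup.index_eq_one.mp (by omega)

theorem conj_mem_centralizer_iff (g a z : G) :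
    g * z * g⁻¹ ∈ Subgroup.centralizer ({g * a * g⁻¹} : Set G) ↔
      z ∈ Subgroup.centralizer ({a} : Set G) := by
  rw [Subgroup.mem_centralizer_singleton_iff, Subgroup.mem_centralizer_singleton_iff]
  have e1 : g * z * g⁻¹ * (g * a * g⁻¹) = g * (z * a) * g⁻¹ := by group
  have e2 : g * a * g⁻¹ * (g * z * g⁻¹) = g * (a * z) * g⁻¹ := by group
  rw [e1, e2]
  constructor
  · intro h
    have := congrArg (fun w => g⁻¹ * w * g) h
    simpa [mul_assoc] using this
  · intro h
    rw [h]

/-- a finite group in which centralizers of non-identity elements are "TI" (`C(y) = C(x)` for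
`1 ≠ y ∈ C(x)`) and self-normalizing is abelian -/
theorem centralizer_eq_top_of_ti [Finite G]
    (h1 : ∀ x y : G, x ≠ 1 → y ≠ 1 → y ∈ Subgroup.centralizer ({x} : Set G) →
      Subgroup.centralizer ({y} : Set G) = Subgroup.centralizer ({x} : Set G))
    (h2 : ∀ x l : G, x ≠ 1 →
      l ∈ Subgroup.normalizer ((Subgroup.centralizer ({x} : Set G) : Subgroup G) : Set G) →
      l ∈ Subgroup.centralizer ({x} : Set G))
    (x : G) (hx : x ≠ 1) : Subgroup.centralizer ({x} : Set G) = ⊤ := by
  by_contra hne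
  obtain ⟨g', hg'⟩ := exists_not_mem_conj hne
  have hg'1 : g' ≠ 1 := by
    rintro rfl
    apply hg' 1
    simp
  set A := Subgroup.centralizer ({x} : Set G) with hA
  set A' := Subgroup.centralizer ({g'} : Set G) with hA'
  have hxA : x ∈ A := Subgroup.mem_centralizer_singleton_iff.mpr rfl
  have hgA' : g' ∈ A' := Subgroup.mem_centralizer_singleton_iff.mpr rfl
  -- the TI property
  have hTI : ∀ y : G, y ≠ 1 → ∀ g a : G, a ∈ Subgroup.centralizer ({y} : Set G) → a ≠ 1 →
      g * a * g⁻¹ ∈ Subgroup.centralizer ({y} : Set G) → g ∈ Subgroup.centralizer ({y} : Set G) := by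
    intro y hy g a ha ha1 hb
    have hb1 : g * a * g⁻¹ ≠ 1 := by
      intro h
      apply ha1
      have := congrArg (fun w => g⁻¹ * w * g) h
      simpa [mul_assoc] using this
    have e1 := h1 y a hy ha1 ha
    have e2 := h1 y _ hy hb1 hb
    apply h2 y g hy
    rw [Subgroup.mem_normalizer_iff]
    intro z
    calc z ∈ Subgroup.centralizer ({y} : Set G) ↔ z ∈ Subgroup.centralizer ({a} : Set G) := by rw [e1]
      _ ↔ g * z * g⁻¹ ∈ Subgroup.centralizer ({g * a * g⁻¹} : Set G) :=
          (conj_mem_centralizer_iff g a z).symm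
      _ ↔ g * z * g⁻¹ ∈ Subgroup.centralizer ({y} : Set G) := by rw [e2]
  have key := card_add_one_le (G := G) (A₁ := {a | a ∈ A ∧ a ≠ 1}) (A₂ := {a | a ∈ A' ∧ a ≠ 1})
    (A₃ := ∅) (N₁ := A) (N₂ := A') (N₃ := ⊤)
    (fun g a ha hb => hTI x hx g a ha.1 ha.2 hb.1)
    (fun g a ha hb => hTI g' hg'1 g a ha.1 ha.2 hb.1)
    (fun g a ha => absurd ha (Set.notMem_empty a))
    (fun h => h.2 rfl) (fun h => h.2 rfl) (Set.notMem_empty 1)
    (by
      intro g a ha hb
      have hb1 : g * a * g⁻¹ ≠ 1 := hb.2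
      have e1 := h1 x a hx ha.2 ha.1
      have e2 := h1 g' _ hg'1 hb1 hb.1
      apply hg' g⁻¹
      have h3 : g' ∈ Subgroup.centralizer ({g * a * g⁻¹} : Set G) := by rw [e2]; exact hgA'
      have h4 : g * (g⁻¹ * g' * g⁻¹⁻¹) * g⁻¹ = g' := by group
      rw [← h4, conj_mem_centralizer_iff, e1] at h3
      exact h3)
    (fun g a _ => Set.notMem_empty _) (fun g a _ => Set.notMem_empty _)
  have hcardS : ∀ B : Subgroup G, Nat.card {a | a ∈ B ∧ a ≠ 1} + 1 = Nat.card B := by
    intro B
    have e : ({a | a ∈ B ∧ a ≠ 1} : Set G) ≃ {a : B // a ≠ 1} :=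
      { toFun := fun s => ⟨⟨s.1, s.2.1⟩, fun h => s.2.2 (congrArg Subtype.val h)⟩
        invFun := fun a => ⟨a.1.1, a.1.2, fun h => a.2 (Subtype.ext h)⟩
        left_inv := fun s => rfl
        right_inv := fun a => rfl }
    rw [Nat.card_congr e]
    have : Nat.card {a : B // a ≠ 1} = Nat.card B - 1 := by
      classical
      have : Fintype B := Fintype.ofFinite B
      rw [Nat.card_eq_fintype_card, Nat.card_eq_fintype_card, Fintype.card_subtype_compl,
        Fintype.card_subtype_eq]
    rw [this]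
    have : 0 < Nat.card B := Nat.card_pos
    omega
  have hA2 : 2 ≤ Nat.card A := by
    have : Nontrivial A := ⟨⟨⟨x, hxA⟩, 1, fun h => hx (congrArg Subtype.val h)⟩⟩
    exact Finite.one_lt_card
  have hA'2 : 2 ≤ Nat.card A' := by
    have : Nontrivial A' := ⟨⟨⟨g', hgA'⟩, 1, fun h => hg'1 (congrArg Subtype.val h)⟩⟩
    exact Finite.one_lt_card
  have i1 := A.index_mul_card
  have i2 := A'.index_mul_card
  have c1 := hcardS A
  have c2 := hcardS A'
  have hempty : Nat.card (∅ : Set G) = 0 := by simp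
  rw [hempty, zero_mul, add_zero] at key
  have e1 : Nat.card {a | a ∈ A ∧ a ≠ 1} * A.index + A.index = Nat.card G := by
    rw [← i1, ← c1]; ring
  have e2 : Nat.card {a | a ∈ A' ∧ a ≠ 1} * A'.index + A'.index = Nat.card G := by
    rw [← i2, ← c2]; ring
  have e3 : 2 * A.index ≤ Nat.card G := by
    rw [← i1, mul_comm]; exact Nat.mul_le_mul_left _ hA2
  have e4 : 2 * A'.index ≤ Nat.card G := by
    rw [← i2, mul_comm]; exact Nat.mul_le_mul_left _ hA'2
  omega

/-- involution counting: if all involutions are conjugate to `u` with `C(u) = S`,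
`|N| = |S| d`, and every left coset of `N` contains at most `d` involutions,
then every left coset contains at least (hence exactly) `d` involutions -/
theorem invol_count [Finite G] (N S : Subgroup G) (d : ℕ)
    (hcardN : Nat.card N = Nat.card S * d)
    (u : G) (hu : u * u = 1) (hu1 : u ≠ 1)
    (hcent : Subgroup.centralizer ({u} : Set G) = S)
    (hconj : ∀ t : G, t * t = 1 → t ≠ 1 → ∃ x, x * u * x⁻¹ = t)
    (hle : ∀ x : G, Nat.card {t : G // t * t = 1 ∧ t ≠ 1 ∧ x⁻¹ * t ∈ N} ≤ d)
    (x : G) : d ≤ Nat.card {t : G // t * t = 1 ∧ t ≠ 1 ∧ x⁻¹ * t ∈ N} := by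
  classical
  have : Fintype G := Fintype.ofFinite G
  -- the set of involutions is the conjugacy class of `u`
  have hI : Nat.card {t : G // t * t = 1 ∧ t ≠ 1} * Nat.card S = Nat.card G := by
    rw [← hcent, ← card_carrier_mul_card_centralizer u]
    congr 1
    apply Nat.card_congr
    refine Equiv.subtypeEquivRight ?_
    intro t
    rw [ConjClasses.mem_carrier_iff_mk_eq, ConjClasses.mk_eq_mk_iff_isConj, isConj_iff]
    constructor
    · rintro ⟨h1, h2⟩
      obtain ⟨c, hc⟩ := hconj t h1 h2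
      refine ⟨c⁻¹, ?_⟩
      rw [← hc]; group
    · rintro ⟨c, hc⟩
      have ht : t = c⁻¹ * u * c := by rw [← hc]; group
      constructor
      · rw [ht]
        have : c⁻¹ * u * c * (c⁻¹ * u * c) = c⁻¹ * (u * u) * c := by group
        rw [this, hu]; group
      · intro h
        apply hu1
        rw [← hc, h]; group
  -- fibres over the cosets of `N`
  let f : {t : G // t * t = 1 ∧ t ≠ 1} → G ⧸ N := fun t => (t.1 : G ⧸ N)
  have hfib : ∀ y : G, Nat.card {t : {t : G // t * t = 1 ∧ t ≠ 1} // f t = (y : G ⧸ N)} =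
      Nat.card {t : G // t * t = 1 ∧ t ≠ 1 ∧ y⁻¹ * t ∈ N} := by
    intro y
    apply Nat.card_congr
    refine
      { toFun := fun t => ⟨t.1.1, t.1.2.1, t.1.2.2, ?_⟩
        invFun := fun t => ⟨⟨t.1, t.2.1, t.2.2.1⟩, ?_⟩
        left_inv := fun t => rfl
        right_inv := fun t => rfl }
    · have h := t.2
      have h' : ((t.1.1 : G) : G ⧸ N) = (y : G ⧸ N) := h
      exact QuotientGroup.eq.mp h'.symm
    · show ((t.1 : G) : G ⧸ N) = (y : G ⧸ N)
      exact (QuotientGroup.eq.mpr t.2.2.2).symm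
  have hsum : Nat.card {t : G // t * t = 1 ∧ t ≠ 1} =
      ∑ q : G ⧸ N, Nat.card {t : {t : G // t * t = 1 ∧ t ≠ 1} // f t = q} := by
    rw [← Nat.card_sigma]
    exact Nat.card_congr (Equiv.sigmaFiberEquiv f).symm
  have hq : ∀ q : G ⧸ N, Nat.card {t : {t : G // t * t = 1 ∧ t ≠ 1} // f t = q} ≤ d := by
    intro q
    obtain ⟨y, rfl⟩ := QuotientGroup.mk_surjective q
    rw [hfib]
    exact hle y
  by_contra hlt
  push Not at hlt
  have hlt' : Nat.card {t : {t : G // t * t = 1 ∧ t ≠ 1} // f t = (x : G ⧸ N)} < d := by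
    rw [hfib]; exact hlt
  have hstrict : ∑ q : G ⧸ N, Nat.card {t : {t : G // t * t = 1 ∧ t ≠ 1} // f t = q} <
      ∑ _q : G ⧸ N, d :=
    Finset.sum_lt_sum (fun q _ => hq q) ⟨(x : G ⧸ N), Finset.mem_univ _, hlt'⟩
  rw [← hsum, Finset.sum_const, Finset.card_univ, smul_eq_mul, ← Nat.card_eq_fintype_card,
    ← Subgroup.index] at hstrict
  have hidx := N.index_mul_card
  rw [hcardN] at hidx
  have hSpos : 0 < Nat.card S := Nat.card_pos
  have : Nat.card {t : G // t * t = 1 ∧ t ≠ 1} * Nat.card S < N.index * d * Nat.card S :=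
    Nat.mul_lt_mul_of_pos_right hstrict hSpos
  rw [hI, ← hidx] at this
  have e : N.index * (Nat.card S * d) = N.index * d * Nat.card S := by ring
  omega

end Cfsg.Agent.Lib.Helper13.SzSub
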