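import Mathlib
import Cfsg.Agent.Lib.Helper1.SqfDefs
import Cfsg.Agent.Lib.Helper13.SzSubA

/-!
helper13: S4130 (helper1), leaf A1, file a: general lemmas.
* `exists_sylow_index_le`: a squarefree class size gives a Sylow subgroup meeting the centralizer in
  index at most `p`;
* `pow_and_comm_mem_of_card_le`: a subgroup of index at most `p` of a `p`-group contains `p`-th
  powers and commutators;
* simple nonabelian groups: trivial centre, perfect;
* `eq_one_of_central_normalizer`: Burnside transfer for an abelian Sylow subgroup;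
* `ncard_conj_eq_index`: class size is the index of the centralizer.
-/

set_option autoImplicit false
set_option linter.style.haveILetI false
set_option linter.unusedSectionVars false

namespace Cfsg.Agent.Lib.Helper13.SqfLeaf

open Subgroup
open scoped commutatorElement

variable {G : Type*} [Group G]

/-- a squarefree class size gives a Sylow subgroup meeting the centralizer in index at most `p` -/
theorem exists_sylow_index_le [Finite G] (p : ℕ) [Fact p.Prime] (x : G)
    (hx : Squarefree (centralizer ({x} : Set G)).index) :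
    ∃ (P' : Sylow p G) (T : Subgroup G), T ≤ (P' : Subgroup G) ∧ T ≤ centralizer ({x} : Set G) ∧
      Nat.card (P' : Subgroup G) ≤ p * Nat.card T := by
  have hp : p.Prime := Fact.out
  set C := centralizer ({x} : Set G) with hC
  obtain ⟨S⟩ : Nonempty (Sylow p C) := inferInstance
  have hTp : IsPGroup p ((S : Subgroup C).map C.subtype) := S.isPGroup'.map _
  obtain ⟨P', hTP'⟩ := hTp.exists_le_sylow
  refine ⟨P', (S : Subgroup C).map C.subtype, hTP', ?_, ?_⟩
  · rintro _ ⟨c, -, rfl⟩
    exact c.2
  · have h1 : Nat.card ((S : Subgroup C).map C.subtype) = Nat.card (S : Subgroup C) :=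
      Subgroup.card_map_of_injective C.subtype_injective
    rw [h1, P'.card_eq_multiplicity, S.card_eq_multiplicity]
    have h2 : Nat.card G = Nat.card C * C.index := (Subgroup.card_mul_index C).symm
    have hc0 : Nat.card C ≠ 0 := Nat.card_pos.ne'
    have hi0 : C.index ≠ 0 := Subgroup.index_ne_zero_of_finite
    rw [h2, Nat.factorization_mul hc0 hi0, Finsupp.add_apply, pow_add]
    have h3 : C.index.factorization p ≤ 1 := hx.natFactorization_le_one p
    have h4 : p ^ C.index.factorization p ≤ p ^ 1 := Nat.pow_le_pow_right hp.pos h3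
    rw [pow_one] at h4
    calc p ^ (Nat.card C).factorization p * p ^ C.index.factorization p
        ≤ p ^ (Nat.card C).factorization p * p := Nat.mul_le_mul_left _ h4
      _ = p * p ^ (Nat.card C).factorization p := Nat.mul_comm _ _

/-- a subgroup of index at most `p` of a `p`-group contains `p`-th powers and commutators -/
theorem pow_and_comm_mem_of_card_le {Q : Type*} [Group Q] [Finite Q] (p : ℕ) [Fact p.Prime]
    (hQ : IsPGroup p Q) (T : Subgroup Q) (hT : Nat.card Q ≤ p * Nat.card T) (a b : Q) :
    a ^ p ∈ T ∧ a * b * a⁻¹ * b⁻¹ ∈ T := by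
  have hp : p.Prime := Fact.out
  have hidx : T.index ≤ p := by
    have h1 := Subgroup.card_mul_index T
    have hT0 : 0 < Nat.card T := Nat.card_pos
    rw [← h1, Nat.mul_comm] at hT
    exact Nat.le_of_mul_le_mul_right hT hT0
  obtain ⟨n, hn⟩ := IsPGroup.iff_card.mp hQ
  have hdvd : T.index ∣ p ^ n := hn ▸ Subgroup.index_dvd_card T
  obtain ⟨j, -, hj⟩ := (Nat.dvd_prime_pow hp).mp hdvd
  have hj1 : j ≤ 1 := by
    by_contra hlt
    push Not at hlt
    have : p ^ 2 ≤ p ^ j := Nat.pow_le_pow_right hp.pos hlt
    have h2 : p < p ^ 2 := by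
      have := hp.one_lt
      nlinarith
    omega
  interval_cases j
  · -- index one
    rw [pow_zero, Subgroup.index_eq_one] at hj
    rw [hj]
    exact ⟨Subgroup.mem_top _, Subgroup.mem_top _⟩
  · rw [pow_one] at hj
    have hn0 : n ≠ 0 := by
      rintro rfl
      rw [pow_zero] at hdvd
      have := Nat.le_of_dvd Nat.one_pos hdvd
      have := hp.one_lt
      omega
    have hmin : (Nat.card Q).minFac = p := by
      rw [hn, Nat.pow_minFac hn0, hp.minFac_eq]
    haveI : T.Normal := Subgroup.normal_of_index_eq_minFac_card (hj.trans hmin.symm)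
    constructor
    · have := Subgroup.pow_index_mem T a
      rwa [hj] at this
    · have hcard : Nat.card (Q ⧸ T) = p := by rw [← Subgroup.index_eq_card]; exact hj
      haveI : IsCyclic (Q ⧸ T) := isCyclic_of_prime_card hcard
      obtain ⟨g, hg⟩ := IsCyclic.exists_generator (α := Q ⧸ T)
      obtain ⟨i, hi⟩ := Subgroup.mem_zpowers_iff.mp (hg (QuotientGroup.mk a))
      obtain ⟨k, hk⟩ := Subgroup.mem_zpowers_iff.mp (hg (QuotientGroup.mk b))
      have hcomm : (QuotientGroup.mk a : Q ⧸ T) * QuotientGroup.mk b =
          QuotientGroup.mk b * QuotientGroup.mk a := by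
        rw [← hi, ← hk, ← zpow_add, ← zpow_add, add_comm]
      rw [← QuotientGroup.eq_one_iff]
      have e : ((a * b * a⁻¹ * b⁻¹ : Q) : Q ⧸ T) =
          (QuotientGroup.mk a : Q ⧸ T) * QuotientGroup.mk b * (QuotientGroup.mk a)⁻¹ *
            (QuotientGroup.mk b)⁻¹ := rfl
      rw [e, hcomm]
      group

/-- the centre of a nonabelian simple group is trivial -/
theorem center_eq_bot_of_simple [IsSimpleGroup G] (hna : ∃ a b : G, a * b ≠ b * a) :
    center G = ⊥ := by
  rcases IsSimpleGroup.eq_bot_or_eq_top_of_normal (center G) inferInstance with h | h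
  · exact h
  · exfalso
    obtain ⟨a, b, hab⟩ := hna
    apply hab
    have ha : a ∈ center G := h ▸ Subgroup.mem_top a
    exact ((Subgroup.mem_center_iff.mp ha) b).symm

/-- a nonabelian simple group is perfect -/
theorem commutator_eq_top_of_simple [IsSimpleGroup G] (hna : ∃ a b : G, a * b ≠ b * a) :
    commutator G = ⊤ := by
  rcases IsSimpleGroup.eq_bot_or_eq_top_of_normal (commutator G) inferInstance with h | h
  · exfalso
    obtain ⟨a, b, hab⟩ := hna
    apply hab
    have h1 : ⁅a, b⁆ ∈ commutator G :=
      Subgroup.commutator_mem_commutator (Subgroup.mem_top a) (Subgroup.mem_top b)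
    rw [h, Subgroup.mem_bot, commutatorElement_def] at h1
    have : a * b = (a * b * a⁻¹ * b⁻¹) * (b * a) := by group
    rw [this, h1, one_mul]
  · exact h

/-- an element whose centralizer is everything in a nonabelian simple group is trivial -/
theorem eq_one_of_forall_conj_commute [Finite G] [IsSimpleGroup G]
    (hna : ∃ a b : G, a * b ≠ b * a) (w : G)
    (hw : ∀ x : G, ∃ g : G, x * (g * w * g⁻¹) = (g * w * g⁻¹) * x) : w = 1 := by
  have htop : centralizer ({w} : Set G) = ⊤ := by
    by_contra hne
    obtain ⟨x, hx⟩ := Cfsg.Agent.Lib.Helper13.SzSub.exists_not_mem_conj hne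
    obtain ⟨g, hg⟩ := hw x
    apply hx g⁻¹
    rw [Subgroup.mem_centralizer_singleton_iff, inv_inv]
    calc g⁻¹ * x * g * w = g⁻¹ * (x * (g * w * g⁻¹)) * g := by group
      _ = g⁻¹ * ((g * w * g⁻¹) * x) * g := by rw [hg]
      _ = w * (g⁻¹ * x * g) := by group
  have hc : w ∈ center G := by
    rw [Subgroup.mem_center_iff]
    intro g
    have : g ∈ centralizer ({w} : Set G) := htop ▸ Subgroup.mem_top g
    rw [Subgroup.mem_centralizer_singleton_iff] at this
    exact this
  rw [center_eq_bot_of_simple hna, Subgroup.mem_bot] at hc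
  exact hc

open scoped IsMulCommutative in
/-- Burnside: for an abelian Sylow `p`-subgroup `P` of a perfect group, `P ∩ Z(N_G(P)) = 1` -/
theorem eq_one_of_central_normalizer [Finite G] {p : ℕ} [Fact p.Prime] (P : Sylow p G)
    [IsMulCommutative (P : Subgroup G)] (hperf : commutator G = ⊤) (s : G)
    (hs : s ∈ (P : Subgroup G))
    (hc : ∀ n ∈ normalizer ((P : Subgroup G) : Set G), n * s = s * n) : s = 1 := by
  have hp : p.Prime := Fact.out
  have key : ∀ (k : ℕ) (g₀ : G), g₀⁻¹ * s ^ k * g₀ ∈ (P : Subgroup G) →
      g₀⁻¹ * s ^ k * g₀ = s ^ k := by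
    intro k g₀ hk
    obtain ⟨n, hn, hn'⟩ := P.conj_eq_normalizer_conj_of_mem (s ^ k) g₀ (Subgroup.pow_mem _ hs k) hk
    rw [hn']
    have h1 : Commute n s := hc n hn
    have h2 : Commute n (s ^ k) := h1.pow_right k
    calc n⁻¹ * s ^ k * n = n⁻¹ * (s ^ k * n) := by group
      _ = n⁻¹ * (n * s ^ k) := by rw [h2.eq]
      _ = s ^ k := by group
  have h1 := MonoidHom.transfer_eq_pow (MonoidHom.id (P : Subgroup G)) s key
  have h2 : MonoidHom.transfer (MonoidHom.id (P : Subgroup G)) s = 1 := by
    have : s ∈ (MonoidHom.transfer (MonoidHom.id (P : Subgroup G))).ker := by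
      apply Abelianization.commutator_subset_ker
      rw [hperf]; exact Subgroup.mem_top s
    exact this
  rw [h2] at h1
  have h3 : s ^ (P : Subgroup G).index = 1 := by
    have := congrArg Subtype.val h1
    simpa using this.symm
  have h4 : orderOf s ∣ Nat.card (P : Subgroup G) := by
    have := orderOf_dvd_natCard (⟨s, hs⟩ : (P : Subgroup G))
    rwa [Subgroup.orderOf_mk] at this
  obtain ⟨n, hn⟩ := IsPGroup.iff_card.mp P.isPGroup'
  have hcop : Nat.Coprime (P : Subgroup G).index (Nat.card (P : Subgroup G)) := by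
    rw [hn]
    apply Nat.Coprime.pow_right
    exact (Nat.Prime.coprime_iff_not_dvd hp).mpr P.not_dvd_index |>.symm
  have h5 : orderOf s ∣ 1 := by
    have := Nat.dvd_gcd (orderOf_dvd_of_pow_eq_one h3) h4
    rwa [hcop] at this
  exact orderOf_eq_one_iff.mp (Nat.dvd_one.mp h5)

/-- the size of a conjugacy class is the index of the centralizer -/
theorem ncard_conj_eq_index (g : G) :
    {x : G | IsConj g x}.ncard = (centralizer ({g} : Set G)).index := by
  have h1 : {x : G | IsConj g x} = MulAction.orbit (ConjAct G) g := by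
    ext x
    rw [ConjAct.mem_orbit_conjAct, isConj_comm]
    rfl
  have h2 : (MulAction.stabilizer (ConjAct G) g).index = (MulAction.orbit (ConjAct G) g).ncard :=
    MulAction.index_stabilizer (ConjAct G) g
  have h3 : (centralizer ({g} : Set G)).index = (MulAction.stabilizer (ConjAct G) g).index := by
    rw [Subgroup.centralizer_eq_comap_stabilizer]
    exact Subgroup.index_comap_of_surjective _ ConjAct.toConjAct.surjective
  rw [h1, ← h2, h3]

end Cfsg.Agent.Lib.Helper13.SqfLeaf
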