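import Mathlib
import Cfsg.Agent.Lib.Helper13.SqfA1a

/-!
helper13: S4130 (helper1), leaf A1, file b: in a nonabelian simple group with squarefree class
sizes every Sylow subgroup is elementary abelian; for `p` the smallest prime divisor of `|G|` the
`N_G(P)`-classes of `P^#` have at least `p + 1` elements.
-/

set_option autoImplicit false
set_option linter.style.haveILetI false
set_option linter.unusedSectionVars false

namespace Cfsg.Agent.Lib.Helper13.SqfLeaf

open Subgroup Cfsg.Agent.Lib.Helper1.Sqf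

variable {G : Type*} [Group G] [Finite G]

theorem mem_smul_sylow {p : ℕ} {g x : G} {P : Sylow p G} :
    x ∈ ((g • P : Sylow p G) : Subgroup G) ↔ g⁻¹ * x * g ∈ (P : Subgroup G) := by
  rw [Sylow.coe_subgroup_smul, Subgroup.mem_pointwise_smul_iff_inv_smul_mem]
  simp [MulAut.smul_def, mul_assoc]

theorem conj_mem_smul_sylow {p : ℕ} {g x : G} {P : Sylow p G} (hx : x ∈ (P : Subgroup G)) :
    g * x * g⁻¹ ∈ ((g • P : Sylow p G) : Subgroup G) := by
  rw [mem_smul_sylow]
  have : g⁻¹ * (g * x * g⁻¹) * g = x := by group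
  rw [this]; exact hx

/-- step 2: the Sylow subgroups are elementary abelian -/
theorem sylow_elem_abelian [IsSimpleGroup G] (hna : ∃ a b : G, a * b ≠ b * a) (h : SF G)
    (p : ℕ) [Fact p.Prime] (P : Sylow p G) :
    ∀ u ∈ (P : Subgroup G), ∀ v ∈ (P : Subgroup G), u ^ p = 1 ∧ u * v = v * u := by
  intro u hu v hv
  have key : ∀ x : G, ∃ g : G, (g * u * g⁻¹) ^ p ∈ centralizer ({x} : Set G) ∧
      (g * u * g⁻¹) * (g * v * g⁻¹) * (g * u * g⁻¹)⁻¹ * (g * v * g⁻¹)⁻¹ ∈
        centralizer ({x} : Set G) := by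
    intro x
    obtain ⟨P', T, hTP', hTC, hcard⟩ := exists_sylow_index_le p x (h x)
    obtain ⟨g, hg⟩ := MulAction.exists_smul_eq G P P'
    have hgu : g * u * g⁻¹ ∈ (P' : Subgroup G) := hg ▸ conj_mem_smul_sylow hu
    have hgv : g * v * g⁻¹ ∈ (P' : Subgroup G) := hg ▸ conj_mem_smul_sylow hv
    have hcard' : Nat.card (P' : Subgroup G) ≤ p * Nat.card (T.subgroupOf (P' : Subgroup G)) := by
      rw [Nat.card_congr (Subgroup.subgroupOfEquivOfLe hTP').toEquiv]
      exact hcard
    obtain ⟨h1, h2⟩ := pow_and_comm_mem_of_card_le p P'.isPGroup' (T.subgroupOf (P' : Subgroup G))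
      hcard' ⟨g * u * g⁻¹, hgu⟩ ⟨g * v * g⁻¹, hgv⟩
    refine ⟨g, hTC ?_, hTC ?_⟩
    · exact h1
    · exact h2
  constructor
  · apply eq_one_of_forall_conj_commute hna
    intro x
    obtain ⟨g, hg, -⟩ := key x
    refine ⟨g, ?_⟩
    rw [Subgroup.mem_centralizer_singleton_iff] at hg
    have e : g * u ^ p * g⁻¹ = (g * u * g⁻¹) ^ p := by
      have := map_pow (MulAut.conj g) u p
      simpa only [MulAut.conj_apply] using this
    rw [e]
    exact hg.symm
  · have : u * v * u⁻¹ * v⁻¹ = 1 := by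
      apply eq_one_of_forall_conj_commute hna
      intro x
      obtain ⟨g, -, hg⟩ := key x
      refine ⟨g, ?_⟩
      rw [Subgroup.mem_centralizer_singleton_iff] at hg
      have e : g * (u * v * u⁻¹ * v⁻¹) * g⁻¹ =
          (g * u * g⁻¹) * (g * v * g⁻¹) * (g * u * g⁻¹)⁻¹ * (g * v * g⁻¹)⁻¹ := by group
      rw [e]
      exact hg.symm
    calc u * v = (u * v * u⁻¹ * v⁻¹) * (v * u) := by group
      _ = v * u := by rw [this, one_mul]

/-- step 3: the `N_G(P)`-class of `s ∈ P^#` has at least `p + 1` elements -/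
theorem normalizer_class_bound [IsSimpleGroup G] (hna : ∃ a b : G, a * b ≠ b * a)
    (p : ℕ) [Fact p.Prime] (hp : (Nat.card G).minFac = p) (P : Sylow p G)
    (hab : ∀ u ∈ (P : Subgroup G), ∀ v ∈ (P : Subgroup G), u * v = v * u)
    (s : G) (hs : s ∈ (P : Subgroup G)) (hs1 : s ≠ 1) :
    p + 1 ≤ {r : ↥(normalizer ((P : Subgroup G) : Set G)) |
      IsConj (⟨s, le_normalizer hs⟩ : ↥(normalizer ((P : Subgroup G) : Set G))) r}.ncard := by
  haveI : IsMulCommutative (P : Subgroup G) :=
    ⟨⟨fun a b => Subtype.ext (hab a a.2 b b.2)⟩⟩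
  rw [ncard_conj_eq_index]
  set N := normalizer ((P : Subgroup G) : Set G) with hN
  set cN := centralizer ({(⟨s, le_normalizer hs⟩ : ↥N)} : Set ↥N) with hcN
  have hPle : (P : Subgroup G).subgroupOf N ≤ cN := by
    intro r hr
    rw [Subgroup.mem_subgroupOf] at hr
    rw [hcN, Subgroup.mem_centralizer_singleton_iff]
    exact Subtype.ext (hab _ hr _ hs)
  have hd1 : cN.index ∣ ((P : Subgroup G).subgroupOf N).index := Subgroup.index_dvd_of_le hPle
  have hd2 : ((P : Subgroup G).subgroupOf N).index ∣ (P : Subgroup G).index :=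
    Dvd.intro _ (Subgroup.relIndex_mul_index (le_normalizer : (P : Subgroup G) ≤ N))
  have hnp : ¬ p ∣ cN.index := fun hd => P.not_dvd_index (hd.trans (hd1.trans hd2))
  have hdG : cN.index ∣ Nat.card G :=
    (Subgroup.index_dvd_card cN).trans (Subgroup.card_subgroup_dvd_card N)
  have hne1 : cN.index ≠ 1 := by
    intro h1
    rw [Subgroup.index_eq_one] at h1
    apply hs1
    apply eq_one_of_central_normalizer P (commutator_eq_top_of_simple hna) s hs
    intro n hn
    have : (⟨n, hn⟩ : ↥N) ∈ cN := h1 ▸ Subgroup.mem_top _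
    rw [hcN, Subgroup.mem_centralizer_singleton_iff] at this
    exact congrArg Subtype.val this
  have hne0 : cN.index ≠ 0 := Subgroup.index_ne_zero_of_finite
  have hmp : (cN.index).minFac.Prime := Nat.minFac_prime hne1
  have h1 : p ≤ (cN.index).minFac := by
    rw [← hp]
    exact Nat.minFac_le_of_dvd hmp.two_le ((Nat.minFac_dvd _).trans hdG)
  have h2 : (cN.index).minFac ≠ p := by
    intro he
    apply hnp
    rw [← he]
    exact Nat.minFac_dvd _
  have h3 : (cN.index).minFac ≤ cN.index := Nat.minFac_le (Nat.pos_of_ne_zero hne0)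
  omega

end Cfsg.Agent.Lib.Helper13.SqfLeaf
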