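import Mathlib
import Cfsg.Agent.Lib.Helper13.SqfA1b
import Cfsg.Agent.Lib.Helper19.Derangement

/-!
helper13: S4130 (helper1), leaf A1: a nonabelian finite simple group has a conjugacy class whose
size is not squarefree.  Final count (Burnside's lemma on the elements of order `p`, `p` the smallest
prime divisor of `|G|`).
-/

set_option autoImplicit false
set_option linter.style.haveILetI false
set_option linter.unusedSectionVars false

namespace Cfsg.Agent.Lib.Helper13.SqfLeaf

open Subgroup Cfsg.Agent.Lib.Helper1.Sqf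

/-- the conjugation action on the set of elements of order `p` -/
@[reducible] def conjX (G : Type*) [Group G] (p : ℕ) :
    MulAction G {u : G // u ≠ 1 ∧ u ^ p = 1} where
  smul g u := ⟨g * u.1 * g⁻¹, by
    intro he
    apply u.2.1
    have : u.1 = g⁻¹ * (g * u.1 * g⁻¹) * g := by group
    rw [this, he]; group, by
    have e : (g * u.1 * g⁻¹) ^ p = g * u.1 ^ p * g⁻¹ := by
      have := map_pow (MulAut.conj g) u.1 p
      simpa only [MulAut.conj_apply] using this.symm
    rw [e, u.2.2]; group⟩
  one_smul u := Subtype.ext (by show (1 : G) * u.1 * (1 : G)⁻¹ = u.1; group)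
  mul_smul g g' u := Subtype.ext (by
    show (g * g') * u.1 * (g * g')⁻¹ = g * (g' * u.1 * g'⁻¹) * g⁻¹
    group)

variable {G : Type*} [Group G] [Finite G]

theorem conjX_smul_val (p : ℕ) (g : G) (u : {u : G // u ≠ 1 ∧ u ^ p = 1}) :
    (letI := conjX G p; (g • u : {u : G // u ≠ 1 ∧ u ^ p = 1})).1 = g * u.1 * g⁻¹ := rfl

/-- a subgroup of exponent `p` inside the centralizer of `y` gives fixed points of `y` -/
theorem card_le_fixedBy (p : ℕ) (y : G) (T : Subgroup G) (hT : ∀ t ∈ T, t ^ p = 1)
    (hTy : T ≤ centralizer ({y} : Set G)) :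
    Nat.card T ≤ (letI := conjX G p;
      Nat.card (MulAction.fixedBy {u : G // u ≠ 1 ∧ u ^ p = 1} y)) + 1 := by
  classical
  letI := conjX G p
  rw [← Finite.card_option]
  let ψ : ↥T → Option (MulAction.fixedBy {u : G // u ≠ 1 ∧ u ^ p = 1} y) := fun t =>
    if h1 : (t : G) = 1 then none else
      some ⟨⟨t, h1, hT t t.2⟩, by
        rw [MulAction.mem_fixedBy]
        apply Subtype.ext
        show y * (t : G) * y⁻¹ = t
        have := hTy t.2
        rw [Subgroup.mem_centralizer_singleton_iff] at this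
        rw [← this]; group⟩
  apply Nat.card_le_card_of_injective ψ
  intro t t' he
  by_cases h1 : (t : G) = 1
  · by_cases h1' : (t' : G) = 1
    · exact Subtype.ext (h1.trans h1'.symm)
    · simp only [ψ, dif_pos h1, dif_neg h1'] at he
      exact absurd he (by simp)
  · by_cases h1' : (t' : G) = 1
    · simp only [ψ, dif_neg h1, dif_pos h1'] at he
      exact absurd he (by simp)
    · simp only [ψ, dif_neg h1, dif_neg h1', Option.some.injEq, Subtype.mk.injEq] at he
      exact Subtype.ext he

/-- **Leaf A1**: nonabelian finite simple groups do not have all class sizes squarefree -/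
theorem not_sf_of_simple {G : Type*} [Group G] [Finite G] [IsSimpleGroup G]
    (hna : ∃ a b : G, a * b ≠ b * a) (h : SF G) : False := by
  classical
  haveI : Nontrivial G := IsSimpleGroup.toNontrivial
  have hcard1 : Nat.card G ≠ 1 := (Finite.one_lt_card (α := G)).ne'
  obtain ⟨p, hp⟩ : ∃ p, (Nat.card G).minFac = p := ⟨_, rfl⟩
  haveI : Fact p.Prime := ⟨hp ▸ Nat.minFac_prime hcard1⟩
  have hpp : p.Prime := Fact.out
  obtain ⟨P⟩ : Nonempty (Sylow p G) := inferInstance
  have hEA := fun (Q : Sylow p G) => sylow_elem_abelian hna h p Q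
  have hpdvd : p ∣ Nat.card G := hp ▸ Nat.minFac_dvd _
  obtain ⟨q', hq'⟩ : p ∣ Nat.card (P : Subgroup G) := P.dvd_card_of_dvd_card hpdvd
  have hcardQ : ∀ Q : Sylow p G, Nat.card (Q : Subgroup G) = Nat.card (P : Subgroup G) := by
    intro Q
    rw [Q.card_eq_multiplicity, P.card_eq_multiplicity]
  letI := conjX G p
  haveI := Fintype.ofFinite G
  have hB := Cfsg.Agent.Lib.Helper19.burnside_natCard (G := G)
    (Ω := {u : G // u ≠ 1 ∧ u ^ p = 1})
  set k := Nat.card (MulAction.orbitRel.Quotient G {u : G // u ≠ 1 ∧ u ^ p = 1}) with hk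
  -- lower bound: `q' ≤ k`
  have hlow : ∀ y : G, Nat.card (P : Subgroup G) ≤
      p * (Nat.card (MulAction.fixedBy {u : G // u ≠ 1 ∧ u ^ p = 1} y) + 1) := by
    intro y
    obtain ⟨P', T, hTP', hTC, hcard⟩ := exists_sylow_index_le p y (h y)
    rw [hcardQ P'] at hcard
    have := card_le_fixedBy p y T (fun t ht => (hEA P' t (hTP' ht) t (hTP' ht)).1) hTC
    calc Nat.card (P : Subgroup G) ≤ p * Nat.card T := hcard
      _ ≤ _ := Nat.mul_le_mul_left p this
  have hlow1 : Nat.card (P : Subgroup G) <
      p * (Nat.card (MulAction.fixedBy {u : G // u ≠ 1 ∧ u ^ p = 1} (1 : G)) + 1) := by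
    have := card_le_fixedBy p (1 : G) (P : Subgroup G) (fun t ht => (hEA P t ht t ht).1)
      (by intro t _; rw [Subgroup.mem_centralizer_singleton_iff]; simp)
    have hpos : 0 < Nat.card (P : Subgroup G) := Nat.card_pos
    have h2 := hpp.two_le
    calc Nat.card (P : Subgroup G) < 2 * Nat.card (P : Subgroup G) := by omega
      _ ≤ p * Nat.card (P : Subgroup G) := Nat.mul_le_mul_right _ h2
      _ ≤ _ := Nat.mul_le_mul_left p this
  have hsum : ∑ _y : G, Nat.card (P : Subgroup G) <
      ∑ y : G, p * (Nat.card (MulAction.fixedBy {u : G // u ≠ 1 ∧ u ^ p = 1} y) + 1) :=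
    Finset.sum_lt_sum (fun y _ => hlow y) ⟨1, Finset.mem_univ _, hlow1⟩
  have hsum2 : ∑ y : G, p * (Nat.card (MulAction.fixedBy {u : G // u ≠ 1 ∧ u ^ p = 1} y) + 1) =
      Nat.card G * (p * (k + 1)) := by
    rw [← Finset.mul_sum, Finset.sum_add_distrib, hB, Finset.sum_const, Finset.card_univ,
      smul_eq_mul, mul_one, ← Nat.card_eq_fintype_card]
    ring
  rw [hsum2, Finset.sum_const, Finset.card_univ, smul_eq_mul, ← Nat.card_eq_fintype_card] at hsum
  have hGpos : 0 < Nat.card G := Nat.card_pos
  have hlow' : Nat.card (P : Subgroup G) < p * (k + 1) := Nat.lt_of_mul_lt_mul_left hsum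
  have hq'k : q' ≤ k := by
    rw [hq'] at hlow'
    have := Nat.lt_of_mul_lt_mul_left hlow'
    omega
  -- upper bound: `(p + 1) * k + 1 ≤ |P|`
  have hPsharp : Nat.card {s : (P : Subgroup G) // s ≠ 1} + 1 ≤ Nat.card (P : Subgroup G) := by
    rw [← Finite.card_option]
    let ι : Option {s : (P : Subgroup G) // s ≠ 1} → (P : Subgroup G) := fun o =>
      match o with
      | none => 1
      | some s => s.1
    apply Nat.card_le_card_of_injective ι
    intro a b hab
    cases a with
    | none =>
      cases b with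
      | none => rfl
      | some b => exact absurd hab.symm b.2
    | some a =>
      cases b with
      | none => exact absurd hab a.2
      | some b => exact congrArg some (Subtype.ext hab)
  let f : {s : (P : Subgroup G) // s ≠ 1} →
      MulAction.orbitRel.Quotient G {u : G // u ≠ 1 ∧ u ^ p = 1} := fun s =>
    Quotient.mk'' ⟨(s.1 : G), fun he => s.2 (Subtype.ext he), (hEA P _ s.1.2 _ s.1.2).1⟩
  have hfsurj : Function.Surjective f := by
    intro o
    induction o using Quotient.inductionOn' with
    | h u =>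
      -- `u` is conjugate into `P`
      have hup : IsPGroup p (zpowers u.1) := by
        apply IsPGroup.of_card (n := 1)
        rw [Nat.card_zpowers, pow_one]
        exact orderOf_eq_prime u.2.2 u.2.1
      obtain ⟨Q, hQ⟩ := hup.exists_le_sylow
      obtain ⟨g, hg⟩ := MulAction.exists_smul_eq G Q P
      have huP : g * u.1 * g⁻¹ ∈ (P : Subgroup G) :=
        hg ▸ conj_mem_smul_sylow (hQ (mem_zpowers u.1))
      have hne : (⟨g * u.1 * g⁻¹, huP⟩ : (P : Subgroup G)) ≠ 1 := by
        intro he
        have := congrArg Subtype.val he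
        exact (g • u).2.1 this
      refine ⟨⟨⟨g * u.1 * g⁻¹, huP⟩, hne⟩, ?_⟩
      apply Quotient.sound'
      exact ⟨g, rfl⟩
  haveI : Fintype {s : (P : Subgroup G) // s ≠ 1} := Fintype.ofFinite _
  haveI : Fintype (MulAction.orbitRel.Quotient G {u : G // u ≠ 1 ∧ u ^ p = 1}) :=
    Fintype.ofFinite _
  have hfib : ∀ a ∈ (Finset.univ : Finset {s : (P : Subgroup G) // s ≠ 1}).image f,
      p + 1 ≤ (Finset.univ.filter (fun x => f x = a)).card := by
    intro a ha
    obtain ⟨s₀, -, rfl⟩ := Finset.mem_image.mp ha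
    have hb := normalizer_class_bound hna p hp P (fun u hu v hv => (hEA P u hu v hv).2)
      (s₀.1 : G) s₀.1.2 (fun he => s₀.2 (Subtype.ext he))
    rw [← Nat.card_coe_set_eq] at hb
    refine hb.trans ?_
    rw [← Fintype.card_subtype, ← Nat.card_eq_fintype_card]
    let φ : {r : ↥(normalizer ((P : Subgroup G) : Set G)) //
        r ∈ {r : ↥(normalizer ((P : Subgroup G) : Set G)) |
          IsConj (⟨(s₀.1 : G), le_normalizer s₀.1.2⟩ :
            ↥(normalizer ((P : Subgroup G) : Set G))) r}} →
        {x : {s : (P : Subgroup G) // s ≠ 1} // f x = f s₀} := fun r =>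
      have hc : ∃ c : ↥(normalizer ((P : Subgroup G) : Set G)),
          c * (⟨(s₀.1 : G), le_normalizer s₀.1.2⟩ :
            ↥(normalizer ((P : Subgroup G) : Set G))) * c⁻¹ = r.1 := isConj_iff.mp r.2
      have hrP : (r.1 : G) ∈ (P : Subgroup G) := by
        obtain ⟨c, hc⟩ := hc
        have e : (r.1 : G) = (c : G) * (s₀.1 : G) * (c : G)⁻¹ := by
          rw [← hc]; rfl
        rw [e]
        exact (Subgroup.mem_normalizer_iff.mp c.2 _).mp s₀.1.2
      have hr1 : (⟨(r.1 : G), hrP⟩ : (P : Subgroup G)) ≠ 1 := by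
        obtain ⟨c, hc⟩ := hc
        intro he
        have he' : (r.1 : G) = 1 := congrArg Subtype.val he
        have e : (r.1 : G) = (c : G) * (s₀.1 : G) * (c : G)⁻¹ := by
          rw [← hc]; rfl
        apply s₀.2
        apply Subtype.ext
        have : (s₀.1 : G) = (c : G)⁻¹ * ((c : G) * (s₀.1 : G) * (c : G)⁻¹) * (c : G) := by group
        rw [this, ← e, he']
        simp
      ⟨⟨⟨(r.1 : G), hrP⟩, hr1⟩, by
        obtain ⟨c, hc⟩ := hc
        apply Quotient.sound'
        refine ⟨(c : G), ?_⟩
        apply Subtype.ext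
        show (c : G) * (s₀.1 : G) * (c : G)⁻¹ = (r.1 : G)
        rw [← hc]; rfl⟩
    apply Nat.card_le_card_of_injective φ
    intro r r' he
    have := congrArg (fun z => ((z.1.1 : (P : Subgroup G)) : G)) he
    exact Subtype.ext (Subtype.ext this)
  have hup := Finset.mul_card_image_le_card (Finset.univ : Finset {s : (P : Subgroup G) // s ≠ 1})
    (p + 1) hfib
  rw [Finset.image_univ_of_surjective hfsurj, Finset.card_univ, Finset.card_univ,
    ← Nat.card_eq_fintype_card, ← Nat.card_eq_fintype_card] at hup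
  -- contradiction
  have h1 : (p + 1) * q' ≤ (p + 1) * k := Nat.mul_le_mul_left _ hq'k
  have h2 : (p + 1) * k + 1 ≤ p * q' := by
    rw [← hq']
    calc (p + 1) * k + 1 ≤ Nat.card {s : (P : Subgroup G) // s ≠ 1} + 1 := by
          have hup' : (p + 1) * k ≤ Nat.card {s : (P : Subgroup G) // s ≠ 1} := hup
          omega
      _ ≤ Nat.card (P : Subgroup G) := hPsharp
  have h3 : (p + 1) * q' = p * q' + q' := by ring
  omega

end Cfsg.Agent.Lib.Helper13.SqfLeaf
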