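/-
helper13: S4638 leaf COL (`sum_rows_eq`): a `4 × 4` sign matrix with orthogonal rows has orthogonal
columns (`A Aᵀ = 4` implies `Aᵀ A = 4`, `Matrix.mul_eq_one_comm` over `ℚ`).
-/
import Mathlib

set_option autoImplicit false

namespace Cfsg.Agent.Lib.Helper13.KleinPICOL

universe u

open Matrix

/-- Sign entries square to one. -/
theorem sq_of_sign {a : ℤ} (h : a = 1 ∨ a = -1) : a * a = 1 := by
  rcases h with rfl | rfl <;> norm_num

/-- `A Aᵀ = 4` for a sign matrix with orthogonal rows. -/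
theorem mul_transpose_of_rows (A : Matrix (Fin 4) (Fin 4) ℤ)
    (hA : ∀ i j, A i j = 1 ∨ A i j = -1)
    (hrow : ∀ i i', i ≠ i' → ∑ j, A i j * A i' j = 0) :
    A * Aᵀ = (4 : ℤ) • (1 : Matrix (Fin 4) (Fin 4) ℤ) := by
  ext i i'
  rw [Matrix.mul_apply, Matrix.smul_apply, Matrix.one_apply]
  by_cases h : i = i'
  · subst h
    simp only [Matrix.transpose_apply, if_true, smul_eq_mul, mul_one]
    rw [Fin.sum_univ_four, sq_of_sign (hA i 0), sq_of_sign (hA i 1), sq_of_sign (hA i 2),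
      sq_of_sign (hA i 3)]
    norm_num
  · simp only [Matrix.transpose_apply, if_neg h, smul_zero]
    exact hrow i i' h

/-- For square integer matrices `A Aᵀ = 4` implies `Aᵀ A = 4`. -/
theorem transpose_mul_of_mul_transpose (A : Matrix (Fin 4) (Fin 4) ℤ)
    (h : A * Aᵀ = (4 : ℤ) • (1 : Matrix (Fin 4) (Fin 4) ℤ)) :
    Aᵀ * A = (4 : ℤ) • (1 : Matrix (Fin 4) (Fin 4) ℤ) := by
  set Aq : Matrix (Fin 4) (Fin 4) ℚ := A.map (Int.castRingHom ℚ) with hAq
  have h1 : Aq * Aqᵀ = (4 : ℚ) • (1 : Matrix (Fin 4) (Fin 4) ℚ) := by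
    ext i j
    have := congrFun (congrFun h i) j
    rw [Matrix.mul_apply] at this ⊢
    simp only [Matrix.transpose_apply, Matrix.smul_apply, Matrix.one_apply, smul_eq_mul] at this
    simp only [hAq, Matrix.transpose_apply, Matrix.map_apply, Matrix.smul_apply, Matrix.one_apply,
      smul_eq_mul, Int.coe_castRingHom]
    have hcast : ((∑ x, A i x * A j x : ℤ) : ℚ) = ((4 * (if i = j then 1 else 0) : ℤ) : ℚ) := by
      rw [this]
    push_cast at hcast
    exact hcast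
  have h2 : Aq * ((1 / 4 : ℚ) • Aqᵀ) = 1 := by
    rw [Matrix.mul_smul, h1, smul_smul]
    norm_num
  have h3 : ((1 / 4 : ℚ) • Aqᵀ) * Aq = 1 := (_root_.mul_eq_one_comm).mp h2
  have h4 : Aqᵀ * Aq = (4 : ℚ) • (1 : Matrix (Fin 4) (Fin 4) ℚ) := by
    rw [Matrix.smul_mul] at h3
    rw [← h3, smul_smul]
    norm_num
  ext i j
  have := congrFun (congrFun h4 i) j
  rw [Matrix.mul_apply] at this ⊢
  simp only [hAq, Matrix.transpose_apply, Matrix.map_apply, Matrix.smul_apply, Matrix.one_apply,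
    smul_eq_mul, Int.coe_castRingHom] at this ⊢
  have hcast : ((∑ x, A x i * A x j : ℤ) : ℚ) = ((4 * (if i = j then 1 else 0) : ℤ) : ℚ) := by
    push_cast
    rw [this]
  exact_mod_cast hcast

/-- The `Fin 4` form of (COL). -/
theorem col_of_rows (A : Matrix (Fin 4) (Fin 4) ℤ)
    (hA : ∀ i j, A i j = 1 ∨ A i j = -1)
    (hrow : ∀ i i', i ≠ i' → ∑ j, A i j * A i' j = 0) (j j' : Fin 4) :
    ∑ i, A i j * A i j' = if j = j' then 4 else 0 := by
  have h := transpose_mul_of_mul_transpose A (mul_transpose_of_rows A hA hrow)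
  have := congrFun (congrFun h j) j'
  rw [Matrix.mul_apply, Matrix.smul_apply, Matrix.one_apply] at this
  simp only [Matrix.transpose_apply, smul_eq_mul] at this
  rw [this]
  split_ifs <;> norm_num

/-- A sum over a four-element set as a sum over `Fin 4`. -/
theorem finsum_mem_eq_sum_fin {X : Type u} (B : Set X) (e : Fin 4 ≃ B) (f : X → ℤ) :
    ∑ᶠ χ ∈ B, f χ = ∑ j : Fin 4, f (e j) := by
  rw [← finsum_set_coe_eq_finsum_mem, ← finsum_comp_equiv e, finsum_eq_sum_of_fintype]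

/-- (COL) a `4 × 4` sign matrix with orthogonal rows has orthogonal columns. -/
theorem sum_rows_eq {X : Type u} [DecidableEq X] (B : Set X) (hB : Nat.card B = 4) (σ : Fin 4 → X → ℤ)
    (hσ : ∀ i, ∀ χ ∈ B, σ i χ = 1 ∨ σ i χ = -1)
    (hσo : ∀ i j, i ≠ j → ∑ᶠ χ ∈ B, σ i χ * σ j χ = 0) (χ χ' : X) (hχ : χ ∈ B) (hχ' : χ' ∈ B) :
    ∑ i, σ i χ * σ i χ' = if χ = χ' then 4 else 0 := by
  have : Finite B := Nat.finite_of_card_ne_zero (by rw [hB]; norm_num)
  let e : Fin 4 ≃ B := (Finite.equivFinOfCardEq hB).symm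
  have hrow : ∀ i i', i ≠ i' → ∑ j, (fun i j => σ i (e j)) i j * (fun i j => σ i (e j)) i' j = 0 := by
    intro i i' h
    rw [← finsum_mem_eq_sum_fin B e (fun χ => σ i χ * σ i' χ)]
    exact hσo i i' h
  have h := col_of_rows (fun i j => σ i (e j)) (fun i j => hσ i _ (e j).2) hrow
    (e.symm ⟨χ, hχ⟩) (e.symm ⟨χ', hχ'⟩)
  simp only [Equiv.apply_symm_apply] at h
  rw [h]
  have hiff : (e.symm ⟨χ, hχ⟩ = e.symm ⟨χ', hχ'⟩) ↔ χ = χ' := by
    rw [e.symm.apply_eq_iff_eq, Subtype.mk.injEq]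
  by_cases hc : χ = χ'
  · rw [if_pos hc, if_pos (hiff.mpr hc)]
  · rw [if_neg hc, if_neg (fun h' => hc (hiff.mp h'))]

end Cfsg.Agent.Lib.Helper13.KleinPICOL
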