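/-
helper13: S4638 leaf COMB (`exists_matching`): two `4 × 4` sign matrices with orthogonal rows differ by
a column bijection, column signs and row signs.

Proof.  `δ i := S i 0 * T i 0`, `T' := diag(δ) T` has the column `0` of `S`.  The integer Gram matrix
`P := Sᵀ T'` has `S P = 4 T'`, `Pᵀ P = 16`, entries in `{0, ±2, ±4}` and the column `0` equal to `4 e₀`;
hence every column of `P` has exactly one nonzero entry `±4`.
-/
import Mathlib
import Cfsg.Agent.Lib.Helper13.KleinPICOL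

set_option autoImplicit false

namespace Cfsg.Agent.Lib.Helper13.KleinPICOMB

universe u

open Matrix Cfsg.Agent.Lib.Helper13.KleinPICOL

theorem sign_mul_sign {a b : ℤ} (ha : a = 1 ∨ a = -1) (hb : b = 1 ∨ b = -1) :
    a * b = 1 ∨ a * b = -1 := by
  rcases ha with rfl | rfl <;> rcases hb with rfl | rfl <;> norm_num

/-- A sum of four signs. -/
theorem sum_four_signs {a b c d : ℤ} (ha : a = 1 ∨ a = -1) (hb : b = 1 ∨ b = -1)
    (hc : c = 1 ∨ c = -1) (hd : d = 1 ∨ d = -1) :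
    a + b + c + d = -4 ∨ a + b + c + d = -2 ∨ a + b + c + d = 0 ∨ a + b + c + d = 2 ∨
      a + b + c + d = 4 := by
  rcases ha with rfl | rfl <;> rcases hb with rfl | rfl <;> rcases hc with rfl | rfl <;>
    rcases hd with rfl | rfl <;> norm_num

/-- Three numbers from `{0, ±2, ±4}` with square sum `16`. -/
theorem one_big {p1 p2 p3 : ℤ}
    (h1 : p1 = -4 ∨ p1 = -2 ∨ p1 = 0 ∨ p1 = 2 ∨ p1 = 4)
    (h2 : p2 = -4 ∨ p2 = -2 ∨ p2 = 0 ∨ p2 = 2 ∨ p2 = 4)
    (h3 : p3 = -4 ∨ p3 = -2 ∨ p3 = 0 ∨ p3 = 2 ∨ p3 = 4)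
    (hs : p1 * p1 + p2 * p2 + p3 * p3 = 16) :
    ((p1 = 4 ∨ p1 = -4) ∧ p2 = 0 ∧ p3 = 0) ∨ (p1 = 0 ∧ (p2 = 4 ∨ p2 = -4) ∧ p3 = 0) ∨
      (p1 = 0 ∧ p2 = 0 ∧ (p3 = 4 ∨ p3 = -4)) := by
  rcases h1 with rfl | rfl | rfl | rfl | rfl <;> rcases h2 with rfl | rfl | rfl | rfl | rfl <;>
    rcases h3 with rfl | rfl | rfl | rfl | rfl <;> revert hs <;> decide

/-- The `Fin 4` form of (COMB). -/
theorem matching_fin (S T : Matrix (Fin 4) (Fin 4) ℤ)
    (hS : ∀ i j, S i j = 1 ∨ S i j = -1) (hT : ∀ i j, T i j = 1 ∨ T i j = -1)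
    (hSrow : ∀ i i', i ≠ i' → ∑ j, S i j * S i' j = 0)
    (hTrow : ∀ i i', i ≠ i' → ∑ j, T i j * T i' j = 0) :
    ∃ (π : Fin 4 → Fin 4) (ε : Fin 4 → ℤ) (δ : Fin 4 → ℤ), Function.Bijective π ∧
      (∀ j, ε j = 1 ∨ ε j = -1) ∧ (∀ i, δ i = 1 ∨ δ i = -1) ∧
      ∀ i j, S i (π j) = δ i * ε j * T i j := by
  classical
  have hScol := col_of_rows S hS hSrow
  have hTcol := col_of_rows T hT hTrow
  -- rows including the diagonal
  have hSrow' : ∀ i i', ∑ χ, S i χ * S i' χ = if i = i' then 4 else 0 := by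
    intro i i'
    by_cases h : i = i'
    · subst h
      rw [if_pos rfl, Fin.sum_univ_four, sq_of_sign (hS i 0), sq_of_sign (hS i 1),
        sq_of_sign (hS i 2), sq_of_sign (hS i 3)]
      norm_num
    · rw [if_neg h]; exact hSrow i i' h
  -- row signs
  obtain ⟨δ, hδdef⟩ : ∃ δ : Fin 4 → ℤ, ∀ i, δ i = S i 0 * T i 0 := ⟨_, fun _ => rfl⟩
  have hδ : ∀ i, δ i = 1 ∨ δ i = -1 := fun i => by
    rw [hδdef]; exact sign_mul_sign (hS i 0) (hT i 0)
  have hδδ : ∀ i, δ i * δ i = 1 := fun i => sq_of_sign (hδ i)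
  obtain ⟨T', hT'def⟩ : ∃ T' : Fin 4 → Fin 4 → ℤ, ∀ i j, T' i j = δ i * T i j :=
    ⟨_, fun _ _ => rfl⟩
  have hT' : ∀ i j, T' i j = 1 ∨ T' i j = -1 := fun i j => by
    rw [hT'def]; exact sign_mul_sign (hδ i) (hT i j)
  have hT'0 : ∀ i, T' i 0 = S i 0 := by
    intro i
    rw [hT'def, hδdef, mul_assoc, sq_of_sign (hT i 0), mul_one]
  have hT'col : ∀ j j', ∑ i, T' i j * T' i j' = if j = j' then 4 else 0 := by
    intro j j'
    rw [← hTcol j j']
    apply Finset.sum_congr rfl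
    intro i _
    rw [hT'def, hT'def]
    calc δ i * T i j * (δ i * T i j') = (δ i * δ i) * (T i j * T i j') := by ring
      _ = T i j * T i j' := by rw [hδδ, one_mul]
  -- the Gram matrix
  obtain ⟨P, hPdef⟩ : ∃ P : Fin 4 → Fin 4 → ℤ, ∀ χ η, P χ η = ∑ i, S i χ * T' i η :=
    ⟨_, fun _ _ => rfl⟩
  have hPa : ∀ χ, P χ 0 = if χ = 0 then 4 else 0 := by
    intro χ
    rw [hPdef, ← hScol χ 0]
    apply Finset.sum_congr rfl
    intro i _
    rw [hT'0]
  have hPb : ∀ i η, ∑ χ, P χ η * S i χ = 4 * T' i η := by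
    intro i η
    have h1 : ∑ χ, P χ η * S i χ = ∑ i', T' i' η * ∑ χ, S i' χ * S i χ := by
      simp_rw [hPdef, Finset.sum_mul, Finset.mul_sum]
      rw [Finset.sum_comm]
      apply Finset.sum_congr rfl
      intro i' _
      apply Finset.sum_congr rfl
      intro χ _
      ring
    rw [h1]
    simp_rw [hSrow']
    rw [Finset.sum_eq_single i]
    · rw [if_pos rfl]; ring
    · intro i' _ h
      rw [if_neg h, mul_zero]
    · intro h; exact absurd (Finset.mem_univ i) h
  have hPc : ∀ η η', ∑ χ, P χ η * P χ η' = if η = η' then 16 else 0 := by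
    intro η η'
    have h1 : ∑ χ, P χ η * P χ η' = ∑ i, T' i η' * ∑ χ, P χ η * S i χ := by
      have : ∀ χ, P χ η * P χ η' = ∑ i, T' i η' * (P χ η * S i χ) := by
        intro χ
        rw [hPdef χ η', Finset.mul_sum]
        apply Finset.sum_congr rfl
        intro i _
        ring
      simp_rw [this, Finset.mul_sum]
      rw [Finset.sum_comm]
    rw [h1]
    simp_rw [hPb]
    have h2 : ∑ i, T' i η' * (4 * T' i η) = 4 * ∑ i, T' i η * T' i η' := by
      rw [Finset.mul_sum]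
      apply Finset.sum_congr rfl
      intro i _
      ring
    rw [h2, hT'col]
    split_ifs <;> norm_num
  have hPd : ∀ χ η, P χ η = -4 ∨ P χ η = -2 ∨ P χ η = 0 ∨ P χ η = 2 ∨ P χ η = 4 := by
    intro χ η
    rw [hPdef, Fin.sum_univ_four]
    exact sum_four_signs (sign_mul_sign (hS 0 χ) (hT' 0 η)) (sign_mul_sign (hS 1 χ) (hT' 1 η))
      (sign_mul_sign (hS 2 χ) (hT' 2 η)) (sign_mul_sign (hS 3 χ) (hT' 3 η))
  -- every column of P has exactly one nonzero entry, equal to ±4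
  have hcolP : ∀ η, ∃ χ, (P χ η = 4 ∨ P χ η = -4) ∧ ∀ χ', χ' ≠ χ → P χ' η = 0 := by
    intro η
    by_cases hη : η = 0
    · subst hη
      refine ⟨0, Or.inl (by rw [hPa, if_pos rfl]), ?_⟩
      intro χ' h
      rw [hPa, if_neg h]
    · have h0 : P 0 η = 0 := by
        have := hPc η 0
        rw [if_neg hη, Finset.sum_eq_single (0 : Fin 4)] at this
        · rw [hPa, if_pos rfl] at this
          omega
        · intro χ _ h
          rw [hPa, if_neg h, mul_zero]
        · intro h; exact absurd (Finset.mem_univ _) h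
      have hsq := hPc η η
      rw [if_pos rfl, Fin.sum_univ_four, h0] at hsq
      have hsq' : P 1 η * P 1 η + P 2 η * P 2 η + P 3 η * P 3 η = 16 := by linarith
      have hall : ∀ χ' : Fin 4, χ' = 0 ∨ χ' = 1 ∨ χ' = 2 ∨ χ' = 3 := by decide
      rcases one_big (hPd 1 η) (hPd 2 η) (hPd 3 η) hsq' with ⟨h1, h2, h3⟩ | ⟨h1, h2, h3⟩ |
        ⟨h1, h2, h3⟩
      · refine ⟨1, h1, ?_⟩
        intro χ' h
        rcases hall χ' with rfl | rfl | rfl | rfl
        · exact h0
        · exact absurd rfl h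
        · exact h2
        · exact h3
      · refine ⟨2, h2, ?_⟩
        intro χ' h
        rcases hall χ' with rfl | rfl | rfl | rfl
        · exact h0
        · exact h1
        · exact absurd rfl h
        · exact h3
      · refine ⟨3, h3, ?_⟩
        intro χ' h
        rcases hall χ' with rfl | rfl | rfl | rfl
        · exact h0
        · exact h1
        · exact h2
        · exact absurd rfl h
  choose π hπ using hcolP
  have hεex : ∀ η, ∃ e : ℤ, (e = 1 ∨ e = -1) ∧ P (π η) η = 4 * e := by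
    intro η
    rcases (hπ η).1 with h | h
    · exact ⟨1, Or.inl rfl, by rw [h]; norm_num⟩
    · exact ⟨-1, Or.inr rfl, by rw [h]; norm_num⟩
  choose ε hε using hεex
  have hinj : Function.Injective π := by
    intro η η' h
    by_contra hne
    have := hPc η η'
    rw [if_neg hne, Finset.sum_eq_single (π η)] at this
    · rw [(hε η).2] at this
      rw [h, (hε η').2] at this
      have h1 := sign_mul_sign (hε η).1 (hε η').1
      have : 16 * (ε η * ε η') = 0 := by linarith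
      rcases h1 with h1 | h1 <;> rw [h1] at this <;> norm_num at this
    · intro χ _ hχ
      rw [(hπ η).2 χ hχ, zero_mul]
    · intro h'; exact absurd (Finset.mem_univ _) h'
  refine ⟨π, ε, δ, Finite.injective_iff_bijective.mp hinj, fun j => (hε j).1, hδ, ?_⟩
  intro i η
  have h1 := hPb i η
  rw [Finset.sum_eq_single (π η)] at h1
  · rw [(hε η).2] at h1
    have h2 : ε η * S i (π η) = T' i η := by linarith
    have h3 : S i (π η) = ε η * T' i η := by
      rw [← h2, ← mul_assoc, sq_of_sign (hε η).1, one_mul]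
    rw [h3, hT'def]
    ring
  · intro χ _ hχ
    rw [(hπ η).2 χ hχ, zero_mul]
  · intro h'; exact absurd (Finset.mem_univ _) h'

/-- (COMB) two `4 × 4` sign matrices with orthogonal rows differ by a column bijection, column signs
and row signs (all Hadamard matrices of order four are equivalent, fixing the rows). -/
theorem exists_matching {X Y : Type u} (B : Set X) (c : Set Y) (hB : Nat.card B = 4)
    (hc : Nat.card c = 4) (σ : Fin 4 → X → ℤ) (τ : Fin 4 → Y → ℤ)
    (hσ : ∀ i, ∀ χ ∈ B, σ i χ = 1 ∨ σ i χ = -1) (hτ : ∀ i, ∀ η ∈ c, τ i η = 1 ∨ τ i η = -1)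
    (hσo : ∀ i j, i ≠ j → ∑ᶠ χ ∈ B, σ i χ * σ j χ = 0)
    (hτo : ∀ i j, i ≠ j → ∑ᶠ η ∈ c, τ i η * τ j η = 0) :
    ∃ (I : Y → X) (ε : Y → ℤ) (δ : Fin 4 → ℤ), Set.BijOn I c B ∧
      (∀ η ∈ c, ε η = 1 ∨ ε η = -1) ∧ (∀ i, δ i = 1 ∨ δ i = -1) ∧
      ∀ i, ∀ η ∈ c, σ i (I η) = δ i * ε η * τ i η := by
  classical
  have hfB : Finite B := Nat.finite_of_card_ne_zero (by rw [hB]; norm_num)
  have hfc : Finite c := Nat.finite_of_card_ne_zero (by rw [hc]; norm_num)
  let eB : Fin 4 ≃ B := (Finite.equivFinOfCardEq hB).symm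
  let eC : Fin 4 ≃ c := (Finite.equivFinOfCardEq hc).symm
  have hSrow : ∀ i i', i ≠ i' →
      ∑ j, (fun i j => σ i (eB j)) i j * (fun i j => σ i (eB j)) i' j = 0 := by
    intro i i' h
    rw [← finsum_mem_eq_sum_fin B eB (fun χ => σ i χ * σ i' χ)]
    exact hσo i i' h
  have hTrow : ∀ i i', i ≠ i' →
      ∑ j, (fun i j => τ i (eC j)) i j * (fun i j => τ i (eC j)) i' j = 0 := by
    intro i i' h
    rw [← finsum_mem_eq_sum_fin c eC (fun η => τ i η * τ i' η)]
    exact hτo i i' h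
  obtain ⟨π, ε, δ, hπ, hε, hδ, hm⟩ := matching_fin (fun i j => σ i (eB j)) (fun i j => τ i (eC j))
    (fun i j => hσ i _ (eB j).2) (fun i j => hτ i _ (eC j).2) hSrow hTrow
  refine ⟨fun η => if h : η ∈ c then (eB (π (eC.symm ⟨η, h⟩)) : X) else (eB 0 : X),
    fun η => if h : η ∈ c then ε (eC.symm ⟨η, h⟩) else 1, δ, ⟨?_, ?_, ?_⟩, ?_, hδ, ?_⟩
  · intro η hη
    simp only [dif_pos hη]
    exact (eB _).2
  · intro η hη η' hη' h
    simp only [dif_pos hη, dif_pos hη'] at h
    have h1 := eB.injective (Subtype.ext h)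
    have h2 := eC.symm.injective (hπ.1 h1)
    exact congrArg Subtype.val h2
  · intro χ hχ
    obtain ⟨j, hj⟩ := hπ.2 (eB.symm ⟨χ, hχ⟩)
    refine ⟨(eC j : Y), (eC j).2, ?_⟩
    simp only [dif_pos (eC j).2, Subtype.coe_eta, Equiv.symm_apply_apply, hj,
      Equiv.apply_symm_apply]
  · intro η hη
    simp only [dif_pos hη]
    exact hε _
  · intro i η hη
    simp only [dif_pos hη]
    have := hm i (eC.symm ⟨η, hη⟩)
    simp only [Equiv.apply_symm_apply] at this
    exact this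

end Cfsg.Agent.Lib.Helper13.KleinPICOMB
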