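/-
helper13 (S2332, abstract weight theory): multiplicities of the characters `v ↦ ψ (u ⬝ᵥ v)` of an
elementary abelian group `(ι → F, +)` acting on a finite-dimensional complex vector space through
`x : (ι → F) → Module.End ℂ V`, on top of helper15's isotypic idempotents `OrbitBound.Pr`.
Joint multiplicities for two commuting families (the `d(v,w)` of the stage lemma).
-/
import Mathlib
import Cfsg.Agent.Lib.Helper15.OrbitBound

set_option autoImplicit false
set_option linter.unusedSectionVars false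
set_option linter.unusedVariables false

namespace Cfsg.Agent.Lib.Helper13.SLMinWt

open Matrix Module Cfsg.Agent.Lib.Helper15.OrbitBound

variable {V : Type*} [AddCommGroup V] [Module ℂ V] [FiniteDimensional ℂ V]

/-! ### idempotent endomorphisms -/

theorem mem_range_idem {E : Module.End ℂ V} (hE : E * E = E) {v : V} :
    v ∈ LinearMap.range E ↔ E v = v := by
  constructor
  · rintro ⟨w, rfl⟩
    show (E * E) w = E w
    rw [hE]
  · intro h
    exact ⟨v, h⟩

theorem finrank_range_eq_trace {E : Module.End ℂ V} (hE : E * E = E) :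
    (finrank ℂ (LinearMap.range E) : ℂ) = LinearMap.trace ℂ V E := by
  have hp : LinearMap.IsProj (LinearMap.range E) E :=
    ⟨fun v => ⟨v, rfl⟩, fun v hv => (mem_range_idem hE).mp hv⟩
  exact (hp.trace).symm

theorem finrank_range_conj {A B g : Module.End ℂ V} (hg : IsUnit g) (h : g * A = B * g) :
    finrank ℂ (LinearMap.range A) = finrank ℂ (LinearMap.range B) := by
  have hbij : Function.Bijective g := (Module.End.isUnit_iff g).mp hg
  let e : V ≃ₗ[ℂ] V := LinearEquiv.ofBijective g hbij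
  have h1 : (LinearMap.range A).map (e : V →ₗ[ℂ] V) = LinearMap.range B := by
    ext v
    constructor
    · rintro ⟨w, ⟨z, rfl⟩, rfl⟩
      refine ⟨g z, ?_⟩
      show (B * g) z = (g * A) z
      rw [h]
    · rintro ⟨z, rfl⟩
      obtain ⟨z', rfl⟩ := hbij.2 z
      refine ⟨A z', ⟨z', rfl⟩, ?_⟩
      show (g * A) z' = (B * g) z'
      rw [h]
  rw [← h1]
  exact (LinearEquiv.finrank_map_eq e _).symm

/-! ### multiplicities -/

variable {F : Type*} [Field F] [Fintype F] {ι : Type*} [Fintype ι] [DecidableEq ι]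
variable (ψ : AddChar F ℂ) (x : (ι → F) → Module.End ℂ V)

theorem hcardC : ((Fintype.card (ι → F) : ℕ) : ℂ) ≠ 0 :=
  Nat.cast_ne_zero.mpr Fintype.card_ne_zero

/-- the multiplicity of the character `v ↦ ψ (u ⬝ᵥ v)` -/
noncomputable def mult (u : ι → F) : ℕ := finrank ℂ (LinearMap.range (Pr ψ x u))

variable (hψ : ψ.IsPrimitive) (hxa : ∀ v w, x (v + w) = x v * x w) (hx0 : x 0 = 1)

include hψ hxa in
theorem Pr_idem (u : ι → F) : Pr ψ x u * Pr ψ x u = Pr ψ x u := by
  classical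
  rw [Pr_mul_Pr ψ x hψ hcardC hxa, if_pos rfl]

include hψ hxa in
theorem Pr_orth {u u' : ι → F} (h : u ≠ u') : Pr ψ x u * Pr ψ x u' = 0 := by
  classical
  rw [Pr_mul_Pr ψ x hψ hcardC hxa, if_neg h]

include hψ hx0 in
theorem sum_Pr : ∑ u : ι → F, Pr ψ x u = 1 := by
  have h := x_eq_sum ψ x hψ hcardC (0 : ι → F)
  rw [hx0] at h
  rw [h]
  apply Finset.sum_congr rfl
  intro u _
  rw [dotProduct_zero, AddChar.map_zero_eq_one, one_smul]

include hψ hxa in
theorem mult_eq_trace (u : ι → F) : (mult ψ x u : ℂ) = LinearMap.trace ℂ V (Pr ψ x u) :=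
  finrank_range_eq_trace (Pr_idem ψ x hψ hxa u)

include hψ hxa hx0 in
/-- (W1) the multiplicities add up to the dimension -/
theorem sum_mult : ∑ u : ι → F, mult ψ x u = finrank ℂ V := by
  have h1 : ((∑ u : ι → F, mult ψ x u : ℕ) : ℂ) = (finrank ℂ V : ℂ) := by
    rw [Nat.cast_sum]
    simp only [mult_eq_trace ψ x hψ hxa]
    rw [← map_sum, sum_Pr ψ x hψ hx0, LinearMap.trace_one]
  exact_mod_cast h1

/-- (W2) conjugation invariance (same hypotheses as helper15's `Pr_conj`) -/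
theorem mult_conj {g : Module.End ℂ V} (hg : IsUnit g) {N : (ι → F) ≃ (ι → F)}
    (hgx : ∀ v, g * x v = x (N v) * g) {u u' : ι → F} (hd : ∀ v, u ⬝ᵥ v = u' ⬝ᵥ N v) :
    mult ψ x u = mult ψ x u' :=
  finrank_range_conj hg (Pr_conj ψ x hgx hd)

include hψ hxa in
/-- (W3) the trace of `x w` -/
theorem trace_x (w : ι → F) :
    LinearMap.trace ℂ V (x w) = ∑ u : ι → F, ψ (u ⬝ᵥ w) * (mult ψ x u : ℂ) := by
  conv_lhs => rw [x_eq_sum ψ x hψ hcardC w]
  rw [map_sum]
  apply Finset.sum_congr rfl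
  intro u _
  rw [map_smul, smul_eq_mul, mult_eq_trace ψ x hψ hxa]

include hψ hxa in
/-- (W4) the range of `Pr u` is the weight space -/
theorem mem_range_Pr_iff (u : ι → F) (v : V) :
    v ∈ LinearMap.range (Pr ψ x u) ↔ ∀ w, x w v = ψ (u ⬝ᵥ w) • v := by
  constructor
  · rintro ⟨z, rfl⟩ w
    show (x w * Pr ψ x u) z = _
    rw [x_mul_Pr ψ x hxa]
    rfl
  · intro h
    rw [mem_range_idem (Pr_idem ψ x hψ hxa u)]
    show (((Fintype.card (ι → F) : ℂ)⁻¹) • ∑ w : ι → F, ψ (-(u ⬝ᵥ w)) • x w) v = v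
    rw [LinearMap.smul_apply, LinearMap.sum_apply]
    have h1 : ∀ w ∈ (Finset.univ : Finset (ι → F)), (ψ (-(u ⬝ᵥ w)) • x w) v = v := by
      intro w _
      rw [LinearMap.smul_apply, h w, smul_smul, ← AddChar.map_add_eq_mul, neg_add_cancel,
        AddChar.map_zero_eq_one, one_smul]
    rw [Finset.sum_congr rfl h1, Finset.sum_const, Finset.card_univ, ← Nat.cast_smul_eq_nsmul ℂ,
      smul_smul, inv_mul_cancel₀ hcardC, one_smul]

include hψ hxa in
/-- the fixed points are the range of `Pr 0` -/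
theorem mem_range_Pr_zero_iff (v : V) :
    v ∈ LinearMap.range (Pr ψ x 0) ↔ ∀ w, x w v = v := by
  rw [mem_range_Pr_iff ψ x hψ hxa]
  constructor
  · intro h w
    have := h w
    rwa [zero_dotProduct, AddChar.map_zero_eq_one, one_smul] at this
  · intro h w
    rw [zero_dotProduct, AddChar.map_zero_eq_one, one_smul]
    exact h w

include hψ hxa in
theorem mult_pos_iff (u : ι → F) : 0 < mult ψ x u ↔ Pr ψ x u ≠ 0 := by
  unfold mult
  rw [Module.finrank_pos_iff_exists_ne_zero]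
  constructor
  · rintro ⟨⟨v, hv⟩, hne⟩ h0
    apply hne
    apply Subtype.ext
    have := (mem_range_idem (Pr_idem ψ x hψ hxa u)).mp hv
    rw [h0] at this
    exact this.symm
  · intro h
    obtain ⟨v, hv⟩ : ∃ v, Pr ψ x u v ≠ 0 := by
      by_contra hcon
      push Not at hcon
      exact h (LinearMap.ext hcon)
    exact ⟨⟨Pr ψ x u v, ⟨v, rfl⟩⟩, fun h0 => hv (congrArg Subtype.val h0)⟩

/-! ### joint multiplicities for two commuting families -/

variable {κ : Type*} [Fintype κ] [DecidableEq κ] (y : (κ → F) → Module.End ℂ V)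
variable (hya : ∀ v w, y (v + w) = y v * y w) (hy0 : y 0 = 1)
variable (hxy : ∀ v w, x v * y w = y w * x v)

/-- the joint multiplicity of the pair of characters `(u, u')` -/
noncomputable def jmult (u : ι → F) (u' : κ → F) : ℕ :=
  finrank ℂ (LinearMap.range (Pr ψ x u * Pr ψ y u'))

include hxy in
theorem Pr_comm (u : ι → F) (u' : κ → F) : Pr ψ x u * Pr ψ y u' = Pr ψ y u' * Pr ψ x u := by
  simp only [Pr, Sm]
  rw [smul_mul_smul_comm, smul_mul_smul_comm, mul_comm ((Fintype.card (ι → F) : ℂ)⁻¹)]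
  congr 1
  rw [Finset.sum_mul_sum, Finset.sum_mul_sum, Finset.sum_comm]
  apply Finset.sum_congr rfl
  intro b _
  apply Finset.sum_congr rfl
  intro a _
  rw [smul_mul_smul_comm, smul_mul_smul_comm, hxy, mul_comm]

include hψ hxa hya hxy in
theorem jPr_idem (u : ι → F) (u' : κ → F) :
    (Pr ψ x u * Pr ψ y u') * (Pr ψ x u * Pr ψ y u') = Pr ψ x u * Pr ψ y u' := by
  have hc := Pr_comm ψ x y hxy u u'
  calc (Pr ψ x u * Pr ψ y u') * (Pr ψ x u * Pr ψ y u')
      = Pr ψ x u * (Pr ψ y u' * Pr ψ x u) * Pr ψ y u' := by noncomm_ring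
    _ = Pr ψ x u * (Pr ψ x u * Pr ψ y u') * Pr ψ y u' := by rw [hc]
    _ = (Pr ψ x u * Pr ψ x u) * (Pr ψ y u' * Pr ψ y u') := by noncomm_ring
    _ = Pr ψ x u * Pr ψ y u' := by rw [Pr_idem ψ x hψ hxa, Pr_idem ψ y hψ hya]

include hψ hxa hya hxy in
theorem jmult_eq_trace (u : ι → F) (u' : κ → F) :
    (jmult ψ x y u u' : ℂ) = LinearMap.trace ℂ V (Pr ψ x u * Pr ψ y u') :=
  finrank_range_eq_trace (jPr_idem ψ x hψ hxa y hya hxy u u')

include hψ hxa hya hy0 hxy in
/-- (W5a) summing the joint multiplicities over the second character -/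
theorem sum_jmult_right (u : ι → F) : ∑ u' : κ → F, jmult ψ x y u u' = mult ψ x u := by
  have h1 : ((∑ u' : κ → F, jmult ψ x y u u' : ℕ) : ℂ) = (mult ψ x u : ℂ) := by
    rw [Nat.cast_sum]
    simp only [jmult_eq_trace ψ x hψ hxa y hya hxy]
    rw [← map_sum, ← Finset.mul_sum, sum_Pr ψ y hψ hy0, mul_one, mult_eq_trace ψ x hψ hxa]
  exact_mod_cast h1

include hψ hxa hx0 hya hxy in
/-- (W5b) summing the joint multiplicities over the first character -/
theorem sum_jmult_left (u' : κ → F) : ∑ u : ι → F, jmult ψ x y u u' = mult ψ y u' := by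
  have h1 : ((∑ u : ι → F, jmult ψ x y u u' : ℕ) : ℂ) = (mult ψ y u' : ℂ) := by
    rw [Nat.cast_sum]
    simp only [jmult_eq_trace ψ x hψ hxa y hya hxy]
    rw [← map_sum, ← Finset.sum_mul, sum_Pr ψ x hψ hx0, one_mul, mult_eq_trace ψ y hψ hya]
  exact_mod_cast h1

/-- (W5c) conjugation invariance of the joint multiplicities -/
theorem jmult_conj {g : Module.End ℂ V} (hg : IsUnit g)
    {N : (ι → F) ≃ (ι → F)} (hgx : ∀ v, g * x v = x (N v) * g)
    {N' : (κ → F) ≃ (κ → F)} (hgy : ∀ v, g * y v = y (N' v) * g)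
    {u u1 : ι → F} (hd : ∀ v, u ⬝ᵥ v = u1 ⬝ᵥ N v)
    {u' u1' : κ → F} (hd' : ∀ v, u' ⬝ᵥ v = u1' ⬝ᵥ N' v) :
    jmult ψ x y u u' = jmult ψ x y u1 u1' := by
  apply finrank_range_conj hg
  rw [← mul_assoc, Pr_conj ψ x hgx hd, mul_assoc, Pr_conj ψ y hgy hd', ← mul_assoc]

include hψ hxa hya hxy in
/-- (W5d) the range of the joint idempotent is the joint weight space -/
theorem mem_range_jPr_iff (u : ι → F) (u' : κ → F) (v : V) :
    v ∈ LinearMap.range (Pr ψ x u * Pr ψ y u') ↔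
      (∀ w, x w v = ψ (u ⬝ᵥ w) • v) ∧ (∀ w, y w v = ψ (u' ⬝ᵥ w) • v) := by
  rw [← mem_range_Pr_iff ψ x hψ hxa, ← mem_range_Pr_iff ψ y hψ hya,
    mem_range_idem (jPr_idem ψ x hψ hxa y hya hxy u u'),
    mem_range_idem (Pr_idem ψ x hψ hxa u), mem_range_idem (Pr_idem ψ y hψ hya u')]
  constructor
  · intro h
    have hc := Pr_comm ψ x y hxy u u'
    constructor
    · rw [← h]
      show (Pr ψ x u * (Pr ψ x u * Pr ψ y u')) v = _
      rw [← mul_assoc, Pr_idem ψ x hψ hxa]
    · rw [← h]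
      show (Pr ψ y u' * (Pr ψ x u * Pr ψ y u')) v = _
      rw [hc, ← mul_assoc, Pr_idem ψ y hψ hya]
  · rintro ⟨h1, h2⟩
    show Pr ψ x u (Pr ψ y u' v) = v
    rw [h2, h1]

end Cfsg.Agent.Lib.Helper13.SLMinWt
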