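/-
helper13 (S2332, leaves W1-W6 of helper16's plan `notes/S2332_leaves.lean`, section W, same names
and binders): abstract weight spaces `wt ρ ι v` of a root map `ι : (I → F) → H`.
-/
import Mathlib
import Cfsg.Agent.Lib.Helper16.SLMinDefs
import Cfsg.Agent.Lib.Helper13.SLMinWt

set_option autoImplicit false
set_option linter.unusedSectionVars false
set_option linter.unusedVariables false

namespace Cfsg.Agent.Lib.Helper13.SLMin

open Matrix Module Cfsg.Agent.Lib.Helper16.SLMin Cfsg.Agent.Lib.Helper15.OrbitBound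
  Cfsg.Agent.Lib.Helper13.SLMinWt

section W

variable {F : Type*} [Field F] [Fintype F] {H : Type*} [Group H] {M : Type*} [AddCommGroup M]
  [Module ℂ M] [FiniteDimensional ℂ M] (ρ : Representation ℂ H M)

/-- an additive root map sends `0` to `1` -/
theorem root_zero {I : Type*} (ι : (I → F) → H) (hι : ∀ r s, ι (r + s) = ι r * ι s) :
    ι 0 = 1 := by
  have h := hι 0 0
  rw [add_zero] at h
  exact (mul_eq_left (a := ι 0)).mp h.symm |>.symm ▸ rfl

/-- the weight space is the range of helper15's isotypic idempotent -/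
theorem wt_eq_range {I : Type*} [Fintype I] [DecidableEq I]
    (ι : (I → F) → H) (hι : ∀ r s, ι (r + s) = ι r * ι s) (v : I → F) :
    wt ρ ι v = LinearMap.range (Pr (eps F) (fun r => ρ (ι r)) v) := by
  ext m
  rw [mem_range_Pr_iff (eps F) (fun r => ρ (ι r)) (eps_prim F)
    (fun a b => by show ρ (ι (a + b)) = ρ (ι a) * ρ (ι b); rw [hι, map_mul])]
  exact Iff.rfl

/-- W1: an invariant subspace is the direct sum of its weight parts (dimension count). -/
theorem finrank_eq_sum_inf_wt {I : Type*} [Fintype I] [DecidableEq I] [DecidableEq F]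
    (ι : (I → F) → H) (hι : ∀ r s, ι (r + s) = ι r * ι s) (N : Submodule ℂ M)
    (hN : ∀ r, ∀ m ∈ N, ρ (ι r) m ∈ N) :
    finrank ℂ ↥N = ∑ v : I → F, finrank ℂ ↥(N ⊓ wt ρ ι v) := by
  classical
  let x : (I → F) → Module.End ℂ N := fun r => (ρ (ι r)).restrict (hN r)
  have hxa : ∀ v w, x (v + w) = x v * x w := by
    intro v w
    apply LinearMap.ext
    intro m
    apply Subtype.ext
    show ρ (ι (v + w)) m.1 = ρ (ι v) (ρ (ι w) m.1)
    rw [hι, map_mul]
    rfl
  have hx0 : x 0 = 1 := by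
    apply LinearMap.ext
    intro m
    apply Subtype.ext
    show ρ (ι 0) m.1 = m.1
    rw [root_zero ι hι, map_one]
    rfl
  have h := sum_mult (eps F) x (eps_prim F) hxa hx0
  rw [← h]
  apply Finset.sum_congr rfl
  intro v _
  have hmap : Submodule.map N.subtype (LinearMap.range (Pr (eps F) x v)) = N ⊓ wt ρ ι v := by
    ext m
    constructor
    · rintro ⟨n, hn, rfl⟩
      rw [SetLike.mem_coe, mem_range_Pr_iff (eps F) x (eps_prim F) hxa] at hn
      refine ⟨n.2, fun r => ?_⟩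
      exact congrArg Subtype.val (hn r)
    · rintro ⟨hmN, hm⟩
      refine ⟨⟨m, hmN⟩, ?_, rfl⟩
      rw [SetLike.mem_coe, mem_range_Pr_iff (eps F) x (eps_prim F) hxa]
      intro r
      apply Subtype.ext
      exact hm r
  rw [← hmap, Submodule.finrank_map_subtype_eq]
  rfl

/-- there is a vector separating two different weights -/
theorem exists_eps_ne {I : Type*} [Fintype I] {v v' : I → F} (h : v ≠ v') :
    ∃ r : I → F, eps F (v ⬝ᵥ r) ≠ eps F (v' ⬝ᵥ r) := by
  classical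
  have h1 : ∃ i, v i - v' i ≠ 0 := by
    by_contra hcon
    exact h (funext fun i => sub_eq_zero.mp (not_not.mp fun hne => hcon ⟨i, hne⟩))
  obtain ⟨i, hi⟩ := h1
  have hp := eps_prim F hi
  have h2 : ∃ t : F, eps F ((v i - v' i) * t) ≠ 1 := by
    by_contra hcon
    apply hp
    ext t
    rw [AddChar.mulShift_apply]
    exact not_not.mp fun hne => hcon ⟨t, hne⟩
  obtain ⟨t, ht⟩ := h2
  refine ⟨Pi.single i t, fun heq => ht ?_⟩
  rw [dotProduct_single, dotProduct_single] at heq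
  rw [sub_mul, sub_eq_add_neg, AddChar.map_add_eq_mul, heq, ← AddChar.map_add_eq_mul,
    add_neg_cancel, AddChar.map_zero_eq_one]

/-- W2: different weights have disjoint weight spaces. -/
theorem wt_inf_wt_eq_bot {I : Type*} [Fintype I] (ι : (I → F) → H) {v v' : I → F} (h : v ≠ v') :
    wt ρ ι v ⊓ wt ρ ι v' = ⊥ := by
  rw [eq_bot_iff]
  rintro m ⟨h1, h2⟩
  obtain ⟨r, hr⟩ := exists_eps_ne h
  have h3 : (eps F (v ⬝ᵥ r) - eps F (v' ⬝ᵥ r)) • m = 0 := by
    rw [sub_smul, ← h1 r, ← h2 r, sub_self]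
  rcases smul_eq_zero.mp h3 with h4 | h4
  · exact absurd (sub_eq_zero.mp h4) hr
  · exact h4

/-- W3: conjugation moves weight spaces. -/
theorem map_wt_of_conj {I I' : Type*} [Fintype I] [Fintype I'] (ι : (I → F) → H)
    (ι' : (I' → F) → H) (g : H) (N : (I → F) → (I' → F)) (hN : Function.Surjective N)
    (hg : ∀ r, g * ι r * g⁻¹ = ι' (N r)) (v : I → F) (v' : I' → F)
    (hd : ∀ r, v ⬝ᵥ r = v' ⬝ᵥ N r) :
    Submodule.map (ρ g) (wt ρ ι v) = wt ρ ι' v' := by
  ext m
  constructor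
  · rintro ⟨m₀, hm₀, rfl⟩ r'
    obtain ⟨r, rfl⟩ := hN r'
    have h1 : ι' (N r) * g = g * ι r := by
      rw [← hg r, inv_mul_cancel_right]
    have h2 : ρ (ι' (N r)) (ρ g m₀) = ρ g (ρ (ι r) m₀) := by
      show (ρ (ι' (N r)) * ρ g) m₀ = (ρ g * ρ (ι r)) m₀
      rw [← map_mul, ← map_mul, h1]
    rw [h2, hm₀ r, map_smul, hd r]
  · intro hm
    refine ⟨ρ g⁻¹ m, fun r => ?_, ?_⟩
    · have h1 : ι r * g⁻¹ = g⁻¹ * ι' (N r) := by
        rw [← hg r]
        group
      have h2 : ρ (ι r) (ρ g⁻¹ m) = ρ g⁻¹ (ρ (ι' (N r)) m) := by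
        show (ρ (ι r) * ρ g⁻¹) m = (ρ g⁻¹ * ρ (ι' (N r))) m
        rw [← map_mul, ← map_mul, h1]
      rw [h2, hm (N r), map_smul, hd r]
    · show (ρ g * ρ g⁻¹) m = m
      rw [← map_mul, mul_inv_cancel, map_one]
      rfl

theorem rho_injective (g : H) : Function.Injective (ρ g) := by
  intro a b hab
  have h1 : (ρ g⁻¹ * ρ g) a = (ρ g⁻¹ * ρ g) b := congrArg (ρ g⁻¹) hab
  rw [← map_mul, inv_mul_cancel, map_one] at h1
  exact h1

/-- W4a -/
theorem finrank_map_rho (g : H) (P : Submodule ℂ M) :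
    finrank ℂ ↥(Submodule.map (ρ g) P) = finrank ℂ ↥P :=
  (Submodule.equivMapOfInjective (ρ g) (rho_injective ρ g) P).finrank_eq.symm

/-- W4b -/
theorem map_rho_inf (g : H) (P P' : Submodule ℂ M) :
    Submodule.map (ρ g) (P ⊓ P') = Submodule.map (ρ g) P ⊓ Submodule.map (ρ g) P' :=
  Submodule.map_inf (ρ g) (rho_injective ρ g)

/-- W5: the trace in terms of weight multiplicities. -/
theorem trace_eq_sum_wt {I : Type*} [Fintype I] [DecidableEq I] [DecidableEq F]
    (ι : (I → F) → H) (hι : ∀ r s, ι (r + s) = ι r * ι s) (r : I → F) :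
    LinearMap.trace ℂ M (ρ (ι r)) =
      ∑ v : I → F, (eps F (v ⬝ᵥ r) : ℂ) * (finrank ℂ ↥(wt ρ ι v) : ℂ) := by
  have h := trace_x (eps F) (fun r => ρ (ι r)) (eps_prim F)
    (fun a b => by show ρ (ι (a + b)) = ρ (ι a) * ρ (ι b); rw [hι, map_mul]) r
  rw [h]
  apply Finset.sum_congr rfl
  intro v _
  rw [wt_eq_range ρ ι hι v]
  rfl

/-- W6: weights of a product of two commuting root maps. -/
theorem wt_sum_elim {I₁ I₂ : Type*} [Fintype I₁] [Fintype I₂] (ι : (I₁ ⊕ I₂ → F) → H)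
    (hι : ∀ r s, ι (r + s) = ι r * ι s) (v₁ : I₁ → F) (v₂ : I₂ → F) :
    wt ρ ι (Sum.elim v₁ v₂) =
      wt ρ (fun r : I₁ → F => ι (Sum.elim r 0)) v₁ ⊓ wt ρ (fun r : I₂ → F => ι (Sum.elim 0 r)) v₂ := by
  ext m
  constructor
  · intro hm
    refine ⟨fun r => ?_, fun r => ?_⟩
    · have h := hm (Sum.elim r 0)
      rw [sumElim_dotProduct_sumElim, dotProduct_zero, add_zero] at h
      exact h
    · have h := hm (Sum.elim 0 r)
      rw [sumElim_dotProduct_sumElim, dotProduct_zero, zero_add] at h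
      exact h
  · rintro ⟨h1, h2⟩ r
    have hr : r = Sum.elim (fun i => r (Sum.inl i)) (0 : I₂ → F) +
        Sum.elim (0 : I₁ → F) (fun i => r (Sum.inr i)) := by
      ext i
      cases i <;> simp
    have h3 : Sum.elim v₁ v₂ ⬝ᵥ r =
        v₁ ⬝ᵥ (fun i => r (Sum.inl i)) + v₂ ⬝ᵥ (fun i => r (Sum.inr i)) := by
      conv_lhs => rw [hr]
      rw [dotProduct_add, sumElim_dotProduct_sumElim, sumElim_dotProduct_sumElim,
        dotProduct_zero, dotProduct_zero, add_zero, zero_add]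
    rw [h3, AddChar.map_add_eq_mul]
    conv_lhs => rw [hr, hι, map_mul]
    show ρ (ι (Sum.elim (fun i => r (Sum.inl i)) (0 : I₂ → F)))
      (ρ (ι (Sum.elim (0 : I₁ → F) fun i => r (Sum.inr i))) m) = _
    have h2' := h2 (fun i => r (Sum.inr i))
    have h1' := h1 (fun i => r (Sum.inl i))
    simp only at h1' h2'
    rw [h2', map_smul, h1', smul_smul, mul_comm]

end W

end Cfsg.Agent.Lib.Helper13.SLMin
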