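import Mathlib

/-!
Helper lemmas (helper13): simultaneous diagonalisation of a commuting family of involutions
(characteristic not two), as a common eigenbasis.
-/

set_option autoImplicit false

namespace Cfsg.Agent.Lib.Helper13

open Module Polynomial

variable {K V : Type*} [Field K] [AddCommGroup V] [Module K V]

/-- An involution in characteristic not two is semisimple. -/
theorem isSemisimple_of_mul_self_eq_one (h2 : (2 : K) ≠ 0) (g : Module.End K V) (hg : g * g = 1) :
    g.IsSemisimple := by
  have hsep : (X ^ 2 - C (1 : K) : K[X]).Separable :=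
    separable_X_pow_sub_C (1 : K) (by exact_mod_cast h2) one_ne_zero
  apply Module.End.isSemisimple_of_squarefree_aeval_eq_zero hsep.squarefree
  simp [pow_two, hg]

/-- An involution in characteristic not two is diagonalisable. -/
theorem iSup_eigenspace_eq_top_of_mul_self_eq_one (h2 : (2 : K) ≠ 0) (g : Module.End K V)
    (hg : g * g = 1) : ⨆ μ : K, g.eigenspace μ = ⊤ := by
  rw [eq_top_iff]
  intro v _
  have hgg : ∀ w, g (g w) = w := fun w => by
    have := LinearMap.congr_fun hg w
    simpa using this
  have h1 : (2 : K)⁻¹ • (v + g v) ∈ g.eigenspace 1 := by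
    rw [Module.End.mem_eigenspace_iff, map_smul, map_add, hgg, one_smul, add_comm]
  have h2' : (2 : K)⁻¹ • (v - g v) ∈ g.eigenspace (-1) := by
    rw [Module.End.mem_eigenspace_iff, map_smul, map_sub, hgg, neg_one_smul, ← smul_neg, neg_sub]
  have hv : v = (2 : K)⁻¹ • (v + g v) + (2 : K)⁻¹ • (v - g v) := by
    rw [← smul_add, add_add_sub_cancel, ← two_smul K v, smul_smul, inv_mul_cancel₀ h2, one_smul]
  rw [hv]
  exact Submodule.add_mem _ (Submodule.mem_iSup_of_mem 1 h1) (Submodule.mem_iSup_of_mem (-1) h2')

/-- A commuting family of involutions of a finite-dimensional space over a field of characteristic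
not two has a common eigenbasis. -/
theorem exists_common_eigenbasis [FiniteDimensional K V] {ι : Type*} (h2 : (2 : K) ≠ 0)
    (f : ι → Module.End K V) (hcomm : ∀ i j, Commute (f i) (f j)) (hinv : ∀ i, f i * f i = 1) :
    ∃ (b : Basis (Fin (finrank K V)) K V) (c : ι → Fin (finrank K V) → K),
      ∀ i j, f i (b j) = c i j • b j := by
  classical
  have hss : ∀ i, (f i).IsSemisimple := fun i => isSemisimple_of_mul_self_eq_one h2 _ (hinv i)
  have hmax : ∀ i μ, (f i).maxGenEigenspace μ = (f i).eigenspace μ := fun i μ =>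
    (hss i).isFinitelySemisimple.maxGenEigenspace_eq_eigenspace μ
  have h' : ∀ i, ⨆ μ, (f i).maxGenEigenspace μ = ⊤ := by
    intro i
    simp_rw [hmax]
    exact iSup_eigenspace_eq_top_of_mul_self_eq_one h2 _ (hinv i)
  have htop := Module.End.iSup_iInf_maxGenEigenspace_eq_top_of_iSup_maxGenEigenspace_eq_top_of_commute
    f (fun i j _ => hcomm i j) h'
  have hind := Module.End.independent_iInf_maxGenEigenspace_of_forall_mapsTo f
    (fun i j φ => Module.End.mapsTo_maxGenEigenspace_of_comm (hcomm j i) φ)
  have hInt := DirectSum.isInternal_submodule_of_iSupIndep_of_iSup_eq_top hind htop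
  let W : (ι → K) → Submodule K V := fun χ => ⨅ i, (f i).maxGenEigenspace (χ i)
  let v : ∀ χ : ι → K, Basis (Fin (finrank K (W χ))) K (W χ) := fun χ => Module.finBasis K (W χ)
  let b₀ := hInt.collectedBasis v
  have : Finite (Σ χ : ι → K, Fin (finrank K (W χ))) := Module.Finite.finite_basis b₀
  have : Fintype (Σ χ : ι → K, Fin (finrank K (W χ))) := Fintype.ofFinite _
  have hcard : Fintype.card (Σ χ : ι → K, Fin (finrank K (W χ))) = finrank K V :=
    (Module.finrank_eq_card_basis b₀).symm
  let e := Fintype.equivFinOfCardEq hcard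
  refine ⟨b₀.reindex e, fun i j => (e.symm j).1 i, ?_⟩
  intro i j
  rw [Basis.reindex_apply]
  have hmem : b₀ (e.symm j) ∈ W (e.symm j).1 := hInt.collectedBasis_mem v (e.symm j)
  have hmem' : b₀ (e.symm j) ∈ (f i).maxGenEigenspace ((e.symm j).1 i) :=
    (Submodule.mem_iInf _).mp hmem i
  rw [hmax] at hmem'
  exact Module.End.mem_eigenspace_iff.mp hmem'

end Cfsg.Agent.Lib.Helper13
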