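import Mathlib
import Cfsg.Prelude.Def_Blocks
import Cfsg.Prelude.Def_Local

/-!
# S4719 (groups of deficiency class `r` with an elementary abelian `2^(r+1)`): shared definitions

`ElemAb2 E`  : `E` is an elementary abelian 2-subgroup (elementwise form).
`HypBd E c`  : every subgroup of index 2 of `E` has a centralizer (in `G`) of order at most `c`.
`qBound a c` : the explicit bound of the `O_{2'}(G) = 1` step.
-/

set_option autoImplicit false

namespace Cfsg.Agent.Lib.Helper13.DC

/-- `E` is an elementary abelian 2-subgroup (elementwise form). -/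
def ElemAb2 {G : Type*} [Group G] (E : Subgroup G) : Prop :=
  (∀ x ∈ E, ∀ y ∈ E, x * y = y * x) ∧ ∀ x ∈ E, x * x = 1

/-- every subgroup of index 2 of `E` has a centralizer in `G` of order at most `c` -/
def HypBd {G : Type*} [Group G] (E : Subgroup G) (c : ℕ) : Prop :=
  ∀ F : Subgroup G, F ≤ E → F.relIndex E = 2 →
    Nat.card (Subgroup.centralizer (F : Set G)) ≤ c

/-- bound for one component -/
def compBound (a c : ℕ) : ℕ := (c * (c + 1)).factorial * 2 ^ a

/-- bound for `F*(G)` -/
def fstarBound (a c : ℕ) : ℕ := compBound a c ^ a * 2 ^ a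

/-- bound for `|G|` when `O_{2'}(G) = 1`, `|G|_2 ≤ 2^a` and an involution has a centralizer of
order at most `c` -/
def qBound (a c : ℕ) : ℕ := fstarBound a c * (fstarBound a c).factorial

end Cfsg.Agent.Lib.Helper13.DC
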