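import Mathlib
import Cfsg.Agent.Lib.Helper11.Om2Tools

/-! helper13: leaves GC0 / GC1 of the S2146 (OM2) market (planner helper11): the numbers of singular
and of nonsingular vectors in `x^⊥` for a nonzero singular vector `x`. -/

set_option autoImplicit false

open Cfsg.Agent.Lib.Helper11.Om2 MulAction
open scoped Pointwise

namespace Cfsg.Agent.Lib.Helper13.Om2Leaf

variable {F V G : Type*} [Field F] [AddCommGroup V] [Module F V] [Group G] [DistribMulAction G V]
  (S : Setting F V G)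

/-- among the vectors not perpendicular to the singular vector `x`, translation by `x` swaps
singular and nonsingular ones. -/
theorem card_nonperp_sing [Finite V] {x : V} (hx : S.Q x = 0) :
    Nat.card {w : V // S.B x w ≠ 0 ∧ S.Q w = 0} = Nat.card {w : V // S.B x w ≠ 0 ∧ S.Q w ≠ 0} := by
  have hB : ∀ w, S.B x (w + x) = S.B x w := fun w => S.B_add_self_right x w
  have hQ : ∀ w, S.B x w ≠ 0 → S.Q (w + x) = S.Q w + 1 := by
    intro w hw
    rw [S.Q_add, hx, add_zero, S.B_symm w x, S.eq_one_of_ne_zero hw]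
  refine Nat.card_congr
    { toFun := fun w => ⟨w.1 + x, by rw [hB]; exact w.2.1, by
        rw [hQ _ w.2.1, w.2.2, zero_add]; exact one_ne_zero⟩
      invFun := fun w => ⟨w.1 + x, by rw [hB]; exact w.2.1, by
        rw [hQ _ w.2.1, S.eq_one_of_ne_zero w.2.2]; exact S.one_add_one⟩
      left_inv := fun w => Subtype.ext (S.vadd_cancel_right w.1 x)
      right_inv := fun w => Subtype.ext (S.vadd_cancel_right w.1 x) }

omit [AddCommGroup V] in
theorem card_split [Finite V] (p q : V → Prop) :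
    Nat.card {w : V // p w} = Nat.card {w : V // p w ∧ q w} + Nat.card {w : V // p w ∧ ¬ q w} := by
  classical
  let _ : Fintype V := Fintype.ofFinite V
  rw [Nat.card_eq_fintype_card, Nat.card_eq_fintype_card, Nat.card_eq_fintype_card,
    Fintype.card_subtype, Fintype.card_subtype, Fintype.card_subtype]
  rw [← Finset.card_filter_add_card_filter_not (s := Finset.univ.filter p) q,
    Finset.filter_filter, Finset.filter_filter]

omit [AddCommGroup V] in
theorem card_split' [Finite V] (q : V → Prop) :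
    Nat.card V = Nat.card {w : V // q w} + Nat.card {w : V // ¬ q w} := by
  classical
  let _ : Fintype V := Fintype.ofFinite V
  rw [Nat.card_eq_fintype_card, Nat.card_eq_fintype_card, Nat.card_eq_fintype_card,
    Fintype.card_subtype, Fintype.card_subtype]
  rw [Finset.card_filter_add_card_filter_not (s := Finset.univ) q, Finset.card_univ]

/-- the four counts. -/
theorem counts [Finite V] {m : ℕ} (hV : Nat.card V = 2 ^ (2 * m))
    (hs : Nat.card {v : V // S.Q v = 0} = 2 ^ (2 * m - 1) + 2 ^ (m - 1)) (hm : 2 ≤ m) {x : V}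
    (hx0 : x ≠ 0) (hx : S.Q x = 0) :
    Nat.card {w : V // S.B x w = 0 ∧ S.Q w = 0} = 2 ^ (2 * m - 2) + 2 ^ (m - 1) ∧
    Nat.card {w : V // S.B x w = 0 ∧ ¬ S.Q w = 0} = 2 ^ (2 * m - 2) - 2 ^ (m - 1) := by
  have h1 := S.two_mul_card_perp hx0
  have h2 := card_split' (fun w : V => S.B x w = 0)
  have h3 := card_split (fun w : V => S.B x w = 0) (fun w => S.Q w = 0)
  have h4 := card_split (fun w : V => ¬ S.B x w = 0) (fun w => S.Q w = 0)
  have h5 := card_nonperp_sing S hx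
  have h6 := card_split (fun w : V => S.Q w = 0) (fun w => S.B x w = 0)
  have e1 : Nat.card {w : V // S.Q w = 0 ∧ S.B x w = 0} = Nat.card {w : V // S.B x w = 0 ∧ S.Q w = 0} :=
    Nat.card_congr (Equiv.subtypeEquivRight (fun w => and_comm))
  have e2 : Nat.card {w : V // S.Q w = 0 ∧ ¬ S.B x w = 0} =
      Nat.card {w : V // ¬ S.B x w = 0 ∧ S.Q w = 0} :=
    Nat.card_congr (Equiv.subtypeEquivRight (fun w => and_comm))
  simp only [ne_eq] at h5
  rw [e1, e2, hs] at h6
  rw [hV] at h1 h2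
  have p1 : 2 ^ (2 * m) = 2 * 2 ^ (2 * m - 1) := by
    rw [← pow_succ']; congr 1; omega
  have p2 : 2 ^ (2 * m - 1) = 2 * 2 ^ (2 * m - 2) := by
    rw [← pow_succ']; congr 1; omega
  have p3 : 2 ^ (m - 1) ≤ 2 ^ (2 * m - 2) := Nat.pow_le_pow_right (by norm_num) (by omega)
  constructor <;> omega

/-- GC0: number of singular vectors of `x^⊥` other than `0, x`. -/
theorem card_type_zero [Finite V] {m : ℕ} (hV : Nat.card V = 2 ^ (2 * m))
    (hs : Nat.card {v : V // S.Q v = 0} = 2 ^ (2 * m - 1) + 2 ^ (m - 1)) (hm : 2 ≤ m) {x : V}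
    (hx0 : x ≠ 0) (hx : S.Q x = 0) :
    Nat.card {w : V // S.B x w = 0 ∧ w ≠ 0 ∧ w ≠ x ∧ S.Q w = 0}
      = 2 ^ (2 * m - 2) + 2 ^ (m - 1) - 2 := by
  obtain ⟨h0, -⟩ := counts S hV hs hm hx0 hx
  have h1 := card_split (fun w : V => S.B x w = 0 ∧ S.Q w = 0) (fun w => w ≠ 0 ∧ w ≠ x)
  have e1 : Nat.card {w : V // (S.B x w = 0 ∧ S.Q w = 0) ∧ (w ≠ 0 ∧ w ≠ x)} =
      Nat.card {w : V // S.B x w = 0 ∧ w ≠ 0 ∧ w ≠ x ∧ S.Q w = 0} :=
    Nat.card_congr (Equiv.subtypeEquivRight (fun w => by tauto))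
  have e2 : Nat.card {w : V // (S.B x w = 0 ∧ S.Q w = 0) ∧ ¬ (w ≠ 0 ∧ w ≠ x)} = 2 := by
    have e3 : Nat.card {w : V // (S.B x w = 0 ∧ S.Q w = 0) ∧ ¬ (w ≠ 0 ∧ w ≠ x)} =
        Nat.card (({0, x} : Set V)) := by
      refine Nat.card_congr (Equiv.subtypeEquivRight (fun w => ?_))
      simp only [Set.mem_insert_iff, Set.mem_singleton_iff]
      constructor
      · rintro ⟨-, h⟩
        by_contra hc
        push Not at hc
        exact h ⟨hc.1, hc.2⟩
      · rintro (h | h)
        · subst h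
          exact ⟨⟨S.Bzero_right x, S.Q_zero⟩, fun h => h.1 rfl⟩
        · subst h
          exact ⟨⟨S.alt w, hx⟩, fun h => h.2 rfl⟩
    rw [e3, Nat.card_coe_set_eq, Set.ncard_pair (Ne.symm hx0)]
  rw [e1, e2, h0] at h1
  omega

/-- GC1: number of nonsingular vectors of `x^⊥`. -/
theorem card_type_one [Finite V] {m : ℕ} (hV : Nat.card V = 2 ^ (2 * m))
    (hs : Nat.card {v : V // S.Q v = 0} = 2 ^ (2 * m - 1) + 2 ^ (m - 1)) (hm : 2 ≤ m) {x : V}
    (hx0 : x ≠ 0) (hx : S.Q x = 0) :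
    Nat.card {w : V // S.B x w = 0 ∧ w ≠ 0 ∧ w ≠ x ∧ S.Q w = 1}
      = 2 ^ (2 * m - 2) - 2 ^ (m - 1) := by
  obtain ⟨-, h1⟩ := counts S hV hs hm hx0 hx
  rw [← h1]
  refine Nat.card_congr (Equiv.subtypeEquivRight (fun w => ?_))
  constructor
  · rintro ⟨h, -, -, hq⟩
    refine ⟨h, ?_⟩
    rw [hq]
    exact one_ne_zero
  · rintro ⟨h, hq⟩
    refine ⟨h, ?_, ?_, S.eq_one_of_ne_zero hq⟩
    · rintro rfl
      exact hq S.Q_zero
    · rintro rfl
      exact hq hx

end Cfsg.Agent.Lib.Helper13.Om2Leaf
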