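import Mathlib
import Cfsg.Agent.Lib.Helper11.Sp2Calc

/-!
helper13: S2142 (helper11), leaves Q1, Q2, Q3: the order of `Q_v` and the index of `H ∩ Q_v` in it,
in terms of `D̄_v(H)`.
-/

set_option autoImplicit false
set_option linter.style.haveILetI false
set_option linter.unusedSectionVars false

namespace Cfsg.Agent.Lib.Helper13.Sp2Leaf

open Cfsg.Agent.Lib.Helper11.Sp2 MulAction

/-- a map all of whose fibres have two elements -/
theorem card_eq_two_mul_of_fibers {α β : Type*} [Finite α] [Finite β] (φ : α → β)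
    (h : ∀ b, Nat.card {a // φ a = b} = 2) : Nat.card α = 2 * Nat.card β := by
  classical
  haveI := Fintype.ofFinite β
  rw [← Nat.card_congr (Equiv.sigmaFiberEquiv φ), Nat.card_sigma]
  simp only [h, Finset.sum_const, Finset.card_univ, smul_eq_mul, Nat.card_eq_fintype_card]
  ring

theorem card_inf_mul_relIndex' {G : Type*} [Group G] (H K : Subgroup G) :
    H.relIndex K * Nat.card ↥(H ⊓ K) = Nat.card K := by
  have h1 := Subgroup.card_mul_index (H.subgroupOf K)
  have h2 : Nat.card (H.subgroupOf K) = Nat.card ↥(H ⊓ K) := by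
    rw [← Subgroup.inf_subgroupOf_right]
    exact Nat.card_congr (Subgroup.subgroupOfEquivOfLe inf_le_right).toEquiv
  rw [h2] at h1
  rw [← h1, Subgroup.relIndex, Nat.mul_comm]

variable {F V G : Type*} [Field F] [AddCommGroup V] [Module F V] [Group G] [DistribMulAction G V]
  (S : Setting F V G)

include S in
theorem card_F : Nat.card F = 2 := by
  rw [Nat.card_eq_two_iff]
  refine ⟨0, 1, zero_ne_one, ?_⟩
  ext a
  simp only [Set.mem_insert_iff, Set.mem_singleton_iff, Set.mem_univ, iff_true]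
  exact S.h01 a

include S in
theorem finite_F : Finite F := Nat.finite_of_card_ne_zero (by rw [card_F S]; norm_num)

/-- local copy of P4 -/
theorem two_mul_card_perp' [Finite V] {v : V} (hv : v ≠ 0) :
    2 * Nat.card {z : V // S.B v z = 0} = Nat.card V := by
  let f : V →ₗ[F] F := S.B v
  have hsurj : Function.Surjective f := by
    obtain ⟨z, hz⟩ := S.exists_B_eq_one hv
    intro a
    refine ⟨a • z, ?_⟩
    show S.B v (a • z) = a
    rw [S.Bsmul_right, S.B_symm, hz, mul_one]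
  have h1 := Submodule.card_eq_card_quotient_mul_card (LinearMap.ker f)
  have h2 : Nat.card (V ⧸ LinearMap.ker f) = 2 := by
    rw [Nat.card_congr (f.quotKerEquivOfSurjective hsurj).toEquiv, card_F S]
  have h3 : Nat.card (LinearMap.ker f) = Nat.card {z : V // S.B v z = 0} :=
    Nat.card_congr (Equiv.subtypeEquivRight (fun z => LinearMap.mem_ker))
  rw [h1, h2, h3, Nat.mul_comm]

/-- the parameter set of `Q_v ∩ H` -/
abbrev Par (H : Subgroup G) (v : V) : Type _ :=
  {p : {w : V // S.B v w = 0} × F // S.gq v p.1.1 p.2 ∈ H}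

/-- the parametrization `(w, c) ↦ gq v w c` is two-to-one onto `H ⊓ Q_v` -/
theorem card_par [Finite V] [Finite G] (H : Subgroup G) {v : V} (hv : v ≠ 0) :
    Nat.card (Par S H v) = 2 * Nat.card ↥(H ⊓ S.Q v) := by
  haveI := finite_F S
  let φ : Par S H v → ↥(H ⊓ S.Q v) := fun p =>
    ⟨S.gq v p.1.1.1 p.1.2, p.2, S.gq_mem_Q p.1.1.2 p.1.2⟩
  apply card_eq_two_mul_of_fibers φ
  rintro ⟨g, hgH, w₀, c₀, hw₀, rfl⟩
  rw [Nat.card_eq_two_iff]
  have hw₁ : S.B v (w₀ + v) = 0 := by rw [S.B_add_self_right]; exact hw₀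
  have hmem₁ : S.gq v (w₀ + v) c₀ ∈ H := by rw [S.gq_add_self hw₀]; exact hgH
  refine ⟨⟨⟨(⟨w₀, hw₀⟩, c₀), hgH⟩, rfl⟩,
    ⟨⟨(⟨w₀ + v, hw₁⟩, c₀), hmem₁⟩, Subtype.ext (S.gq_add_self hw₀ c₀)⟩, ?_, ?_⟩
  · intro he
    have := congrArg (fun z => z.1.1.1.1) he
    simp only at this
    apply hv
    have h2 : w₀ + (w₀ + v) = w₀ + w₀ := by rw [← this]
    rwa [S.vadd_cancel_left, S.vadd_self] at h2
  · ext ⟨⟨⟨⟨w, hw⟩, c⟩, hp⟩, he⟩
    simp only [Set.mem_insert_iff, Set.mem_singleton_iff, Set.mem_univ, iff_true]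
    have he' : S.gq v w c = S.gq v w₀ c₀ := congrArg Subtype.val he
    obtain ⟨hw', hc'⟩ := (S.gq_eq_gq_iff hv hw₀ hw c₀ c).mp he'.symm
    rcases hw' with rfl | rfl
    · left
      subst hc'
      rfl
    · right
      subst hc'
      rfl

theorem card_par_top [Finite V] {v : V} (hv : v ≠ 0) :
    Nat.card (Par S (⊤ : Subgroup G) v) = Nat.card V := by
  haveI := finite_F S
  have h1 : Nat.card (Par S (⊤ : Subgroup G) v) = Nat.card ({w : V // S.B v w = 0} × F) :=
    Nat.card_congr (Equiv.subtypeUnivEquiv (fun p => Subgroup.mem_top _))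
  rw [h1, Nat.card_prod, card_F S, Nat.mul_comm, two_mul_card_perp' S hv]

/-- **Q1** -/
theorem two_mul_card_Q [Finite V] [Finite G] {v : V} (hv : v ≠ 0) :
    2 * Nat.card (S.Q v) = Nat.card V := by
  rw [← card_par_top S hv, card_par S ⊤ hv, top_inf_eq]

/-- `tv v ∉ H`: one parameter `c` for each `w ∈ D̄` -/
theorem card_par_of_not_mem [Finite V] (H : Subgroup G) {v : V} (ht : S.tv v ∉ H) :
    Nat.card (Par S H v) = Nat.card (S.Dbar H v) := by
  let ψ : Par S H v → S.Dbar H v := fun p => ⟨p.1.1.1, p.1.1.2, p.1.2, p.2⟩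
  apply Nat.card_congr
  apply Equiv.ofBijective ψ
  constructor
  · rintro ⟨⟨⟨w, hw⟩, c⟩, hp⟩ ⟨⟨⟨w', hw'⟩, c'⟩, hp'⟩ he
    have hww : w = w' := congrArg Subtype.val he
    subst hww
    have hcc : c = c' := by
      by_contra hne
      apply ht
      have hc1 : c' = c + 1 := by
        rcases S.h01 c with rfl | rfl <;> rcases S.h01 c' with rfl | rfl
        · exact absurd rfl hne
        · rw [zero_add]
        · rw [S.one_add_one]
        · exact absurd rfl hne
      have h1 : S.gq v w c' = S.gq v w c * S.tv v := by rw [hc1]; exact S.gq_add_one hw c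
      have h2 : S.tv v = (S.gq v w c)⁻¹ * S.gq v w c' := by rw [h1]; group
      rw [h2]
      exact H.mul_mem (H.inv_mem hp) hp'
    subst hcc
    rfl
  · rintro ⟨w, hw, c, hc⟩
    exact ⟨⟨(⟨w, hw⟩, c), hc⟩, rfl⟩

/-- `tv v ∈ H`: both parameters `c` for each `w ∈ D̄` -/
theorem card_par_of_mem [Finite V] (H : Subgroup G) {v : V} (ht : S.tv v ∈ H) :
    Nat.card (Par S H v) = 2 * Nat.card (S.Dbar H v) := by
  haveI := finite_F S
  have key : ∀ (w : V) (hw : S.B v w = 0) (c c' : F), S.gq v w c ∈ H → S.gq v w c' ∈ H := by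
    intro w hw c c' hc
    by_cases hcc : c' = c
    · rw [hcc]; exact hc
    · have hc1 : c' = c + 1 := by
        rcases S.h01 c with rfl | rfl <;> rcases S.h01 c' with rfl | rfl
        · exact absurd rfl hcc
        · rw [zero_add]
        · rw [S.one_add_one]
        · exact absurd rfl hcc
      rw [hc1, S.gq_add_one hw]
      exact H.mul_mem hc ht
  let ψ : Par S H v → S.Dbar H v × F := fun p => (⟨p.1.1.1, p.1.1.2, p.1.2, p.2⟩, p.1.2)
  have hψ : Function.Bijective ψ := by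
    constructor
    · rintro ⟨⟨⟨w, hw⟩, c⟩, hp⟩ ⟨⟨⟨w', hw'⟩, c'⟩, hp'⟩ he
      have hww : w = w' := congrArg (fun z => z.1.1) he
      have hcc : c = c' := congrArg (fun z => z.2) he
      subst hww
      subst hcc
      rfl
    · rintro ⟨⟨w, hw, c, hc⟩, c'⟩
      exact ⟨⟨(⟨w, hw⟩, c'), key w hw c c' hc⟩, rfl⟩
  rw [Nat.card_congr (Equiv.ofBijective ψ hψ), Nat.card_prod, card_F S, Nat.mul_comm]

/-- **Q2** -/
theorem relIndex_Q_of_not_mem [Finite V] [Finite G] (H : Subgroup G) {v : V} (hv : v ≠ 0)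
    (ht : S.tv v ∉ H) : H.relIndex (S.Q v) * Nat.card (S.Dbar H v) = Nat.card V := by
  rw [← card_par_of_not_mem S H ht, card_par S H hv, ← two_mul_card_Q S hv,
    ← card_inf_mul_relIndex' H (S.Q v)]
  ring

/-- **Q3** -/
theorem relIndex_Q_of_mem [Finite V] [Finite G] (H : Subgroup G) {v : V} (hv : v ≠ 0)
    (ht : S.tv v ∈ H) : 2 * (H.relIndex (S.Q v) * Nat.card (S.Dbar H v)) = Nat.card V := by
  have h1 := card_par_of_mem S H ht
  rw [card_par S H hv] at h1
  have h2 : Nat.card ↥(H ⊓ S.Q v) = Nat.card (S.Dbar H v) := by omega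
  rw [← h2, ← two_mul_card_Q S hv, ← card_inf_mul_relIndex' H (S.Q v)]

end Cfsg.Agent.Lib.Helper13.Sp2Leaf
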