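import Mathlib

/-! S2153 market "SU2", leaf S3B: `card_fixed_eq_card_centralizer` (pure group theory).
If `Q` is a transversal of `H` (`H ⊓ Q = ⊥`, `|G : H| = |Q|`) and `τ ∈ H` normalises `Q`, then the
number of cosets of `H` fixed by `τ` equals the number of elements of `Q` centralised by `τ`. -/

set_option autoImplicit false

namespace Cfsg.Agent.Lib.Helper13.Su2Leaf

open MulAction

/-- `Q → G ⧸ H`, `q ↦ qH`, is injective when `H ⊓ Q = ⊥`. -/
theorem mk_injective_of_inf_eq_bot {G : Type*} [Group G] (H Q : Subgroup G) (hbot : H ⊓ Q = ⊥) :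
    Function.Injective (fun q : Q => (QuotientGroup.mk (q : G) : G ⧸ H)) := by
  intro q q' hqq
  have h1 : ((q : G))⁻¹ * (q' : G) ∈ H := QuotientGroup.eq.mp hqq
  have h2 : ((q : G))⁻¹ * (q' : G) ∈ Q := Q.mul_mem (Q.inv_mem q.2) q'.2
  have h3 : ((q : G))⁻¹ * (q' : G) ∈ H ⊓ Q := ⟨h1, h2⟩
  rw [hbot, Subgroup.mem_bot] at h3
  exact Subtype.ext (inv_mul_eq_one.mp h3)

theorem card_fixed_eq_card_centralizer {G : Type*} [Group G] [Finite G] (H Q : Subgroup G)
    (hbot : H ⊓ Q = ⊥) (hidx : H.index = Nat.card Q) {τ : G} (hτ : τ ∈ H)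
    (hnorm : ∀ q ∈ Q, τ * q * τ⁻¹ ∈ Q) :
    Nat.card {c : G ⧸ H // τ • c = c} = Nat.card {q : Q // τ * (q : G) * τ⁻¹ = q} := by
  classical
  have hinj := mk_injective_of_inf_eq_bot H Q hbot
  have hcard : Nat.card Q = Nat.card (G ⧸ H) := by
    rw [← hidx, Subgroup.index_eq_card]
  have hbij : Function.Bijective (fun q : Q => (QuotientGroup.mk (q : G) : G ⧸ H)) :=
    (Function.Injective.bijective_of_nat_card_le hinj (le_of_eq hcard.symm))
  symm
  refine Nat.card_congr ((Equiv.ofBijective _ hbij).subtypeEquiv ?_)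
  intro q
  simp only [Equiv.ofBijective_apply]
  have hsm : τ • (QuotientGroup.mk (q : G) : G ⧸ H) = QuotientGroup.mk (τ * (q : G) * τ⁻¹) := by
    rw [MulAction.Quotient.smul_mk]
    apply QuotientGroup.eq.mpr
    have : (τ • (q : G))⁻¹ * (τ * (q : G) * τ⁻¹) = τ⁻¹ := by
      simp [smul_eq_mul, mul_assoc]
    rw [this]
    exact H.inv_mem hτ
  rw [hsm]
  constructor
  · intro h
    exact congrArg _ h
  · intro h
    have := @hinj ⟨τ * (q : G) * τ⁻¹, hnorm q q.2⟩ q h
    exact congrArg Subtype.val this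

end Cfsg.Agent.Lib.Helper13.Su2Leaf
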