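import Mathlib
import Cfsg.Agent.Lib.Helper11.Su2Tools
import Cfsg.Agent.Lib.Helper15.Su2QR
import Cfsg.Agent.Lib.Helper13.Su2S3B

/-! S2153 market "SU2", leaf S3A in `_of` form (`exists_involution_of`): the GEO leaf
`exists_iso_h_eq_two` is passed as a hypothesis.  If `H ⊓ Q_x = ⊥` for all isotropic `x ≠ 0` and
`|G : H| = 2^(2n-3) = |Q_x|`, then `H` contains an involution: `Q_x` is a transversal of `H`, so
`tv u = q * t` with `q ∈ Q_x`, `t ∈ H` for an isotropic `u ⊥ x` outside `F x`; `t ≠ 1` because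
`tv u ∉ Q_x`, and `t ^ 8 = 1` because `tv u` normalises `Q_x`, which has exponent `4`. -/

set_option autoImplicit false

namespace Cfsg.Agent.Lib.Helper13.Su2Leaf

open MulAction Pointwise Cfsg.Agent.Lib.Helper11.Su2

variable {F V G : Type*} [Field F] [AddCommGroup V] [Module F V] [Group G] [DistribMulAction G V]
variable (S : Setting F V G)

/-- a nonzero isotropic vector exists as soon as there are at least two isotropic vectors -/
theorem exists_iso_ne_zero (h2 : 1 < Nat.card {v : V // S.h v v = 0}) :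
    ∃ x : V, x ≠ 0 ∧ S.h x x = 0 := by
  have : Finite {v : V // S.h v v = 0} := Nat.finite_of_card_ne_zero (by omega)
  have hnt : Nontrivial {v : V // S.h v v = 0} := Finite.one_lt_card_iff_nontrivial.mp h2
  obtain ⟨⟨a, ha⟩, ⟨b, hb⟩, hab⟩ := hnt.exists_pair_ne
  by_cases ha0 : a = 0
  · refine ⟨b, ?_, hb⟩
    intro hb0
    exact hab (Subtype.ext (by simp [ha0, hb0]))
  · exact ⟨a, ha0, ha⟩

/-- a vector perpendicular to `x` outside `F x` -/
theorem exists_perp_not_span [Finite V] {n : ℕ} (hV : Nat.card V = 4 ^ n) (hn : 3 ≤ n) {x : V}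
    (hx0 : x ≠ 0) : ∃ y : V, S.h y x = 0 ∧ ∀ a : F, y ≠ a • x := by
  classical
  by_contra hcon
  push Not at hcon
  have hF : Finite F := S.finite_F
  have hP := S.four_mul_card_perp hx0
  let f : {z : V // S.h z x = 0} → F := fun z => (hcon z.1 z.2).choose
  have hf : ∀ z : {z : V // S.h z x = 0}, z.1 = f z • x := fun z => (hcon z.1 z.2).choose_spec
  have hinj : Function.Injective f := by
    intro z z' hzz
    apply Subtype.ext
    rw [hf z, hf z', hzz]
  have hle : Nat.card {z : V // S.h z x = 0} ≤ 4 := by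
    rw [← S.natCard_F]
    exact Nat.card_le_card_of_injective f hinj
  have h43 : (4 : ℕ) ^ 3 ≤ 4 ^ n := Nat.pow_le_pow_right (by norm_num) hn
  rw [hV] at hP
  omega

/-- `tv u ∉ Q_x` for an isotropic `u` outside `F x` -/
theorem tv_not_mem_Qx {x u : V} (hx : S.h x x = 0) (hu : S.h u u = 0)
    (hux : ∀ a : F, u ≠ a • x) : S.tv u ∉ S.Qx hx := by
  intro hmem
  obtain ⟨w, c, hw, hc, he⟩ := (S.mem_Qx hx).mp hmem
  have hex : ∃ z, S.h z x = 0 ∧ S.h z u ≠ 0 := by
    by_contra hno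
    push Not at hno
    obtain ⟨a, ha⟩ := S.mem_span_of_perp hno
    exact hux a ha
  obtain ⟨z, hzx, hzu⟩ := hex
  have h1 : S.tv u • z = z + S.h z u • u := S.tv_smul hu z
  have h2 : S.gq x w c • z = z + S.h z w • x := S.gq_smul_of_perp hx hw hc hzx
  rw [he, h2] at h1
  have h3 : S.h z w • x = S.h z u • u := add_left_cancel h1
  apply hux ((S.h z u)⁻¹ * S.h z w)
  rw [mul_smul, h3, smul_smul, inv_mul_cancel₀ hzu, one_smul]

/-- every element of `Q_x` has fourth power one -/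
theorem Qx_pow_four {x : V} (hx : S.h x x = 0) {g : G} (hg : g ∈ S.Qx hx) : g ^ 4 = 1 := by
  obtain ⟨w, c, hw, hc, rfl⟩ := (S.mem_Qx hx).mp hg
  have h2 : S.gq x w c ^ 2 = S.gq x 0 (S.h w w) := by rw [pow_two]; exact S.gq_sq hx hw hc
  have hc' : S.h w w + S.h w w * S.h w w = S.h (0 : V) 0 := by
    rw [S.h_zero_left, S.h_self_sq]; exact S.add_self _
  have h4 : S.gq x 0 (S.h w w) * S.gq x 0 (S.h w w) = S.gq x 0 (S.h (0 : V) 0) :=
    S.gq_sq hx (S.h_zero_left x) hc'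
  calc S.gq x w c ^ 4 = (S.gq x w c ^ 2) ^ 2 := by rw [← pow_mul]
    _ = S.gq x 0 (S.h w w) * S.gq x 0 (S.h w w) := by rw [h2, pow_two]
    _ = S.gq x 0 (S.h (0 : V) 0) := h4
    _ = 1 := by rw [S.h_zero_left]; exact S.gq_zero hx

/-- a non-identity element of order dividing `8` has a power which is an involution -/
theorem exists_involution_of_pow_eight {G : Type*} [Group G] (H : Subgroup G) {t : G} (ht : t ∈ H)
    (ht1 : t ≠ 1) (h8 : t ^ 8 = 1) : ∃ τ ∈ H, τ ≠ 1 ∧ τ * τ = 1 := by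
  by_cases h4 : t ^ 4 = 1
  · by_cases h2 : t ^ 2 = 1
    · exact ⟨t, ht, ht1, by rw [← pow_two]; exact h2⟩
    · refine ⟨t ^ 2, H.pow_mem ht 2, h2, ?_⟩
      rw [← pow_add]; exact h4
  · refine ⟨t ^ 4, H.pow_mem ht 4, h4, ?_⟩
    rw [← pow_add]; exact h8

theorem exists_involution_of [Finite V] [Finite G] {n : ℕ} (hV : Nat.card V = 4 ^ n)
    (hI : Nat.card {v : V // S.h v v = 0} = 2 ^ (2 * n - 1) + 2 ^ (n - 1)) (hn : 6 ≤ n)
    (hgeo : ∀ {a b : V}, (∀ α β : F, α • a + β • b = 0 → α = 0 ∧ β = 0) → ∀ α β : F,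
      ∃ u, S.h u u = 0 ∧ S.h u a = α ∧ S.h u b = β)
    (H : Subgroup G) (hall : ∀ x : V, x ≠ 0 → ∀ hx : S.h x x = 0, H ⊓ S.Qx hx = ⊥)
    (hidx : H.index = 2 ^ (2 * n - 3)) : ∃ τ ∈ H, τ ≠ 1 ∧ τ * τ = 1 := by
  classical
  -- a nonzero isotropic vector
  have h2 : 1 < Nat.card {v : V // S.h v v = 0} := by
    rw [hI]
    have h1 : 1 ≤ 2 ^ (2 * n - 1) := Nat.one_le_two_pow
    have h1' : 1 ≤ 2 ^ (n - 1) := Nat.one_le_two_pow
    omega
  obtain ⟨x, hx0, hx⟩ := exists_iso_ne_zero S h2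
  -- `y ⊥ x` outside `F x`, then an isotropic `u ⊥ x` outside `F x`
  obtain ⟨y, hyx, hyF⟩ := exists_perp_not_span S hV (by omega) hx0
  have hxy : S.h x y = 0 := S.h_eq_zero_symm hyx
  have hind : ∀ α β : F, α • x + β • y = 0 → α = 0 ∧ β = 0 := by
    intro α β hαβ
    have hβ : β = 0 := by
      by_contra hβ
      apply hyF (β⁻¹ * α)
      have : β • y = α • x := (S.veq_of_add_eq_zero hαβ).symm
      rw [mul_smul, ← this, smul_smul, inv_mul_cancel₀ hβ, one_smul]
    subst hβ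
    rw [zero_smul, add_zero] at hαβ
    refine ⟨?_, rfl⟩
    rcases smul_eq_zero.mp hαβ with h | h
    · exact h
    · exact absurd h hx0
  obtain ⟨u, hu, hux, huy⟩ := hgeo hind 0 1
  have huF : ∀ a : F, u ≠ a • x := by
    intro a hua
    rw [hua, S.h_smul_left, hxy, mul_zero] at huy
    exact zero_ne_one huy
  have htv : S.tv u ∉ S.Qx hx := tv_not_mem_Qx S hx hu huF
  -- `Q_x` is a transversal of `H`
  have hbot := hall x hx0 hx
  have hQ : Nat.card (S.Qx hx) = 2 ^ (2 * n - 3) := by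
    have h := Cfsg.Agent.Lib.Helper15.Su2Leaf.card_Qx S hV hx0 hx
    have e1 : (4 : ℕ) ^ (n - 1) = 2 * 2 ^ (2 * n - 3) := by
      have : (4 : ℕ) = 2 ^ 2 := by norm_num
      rw [this, ← pow_mul, ← pow_succ']
      congr 1
      omega
    omega
  have hinj := mk_injective_of_inf_eq_bot H (S.Qx hx) hbot
  have hcard : Nat.card (G ⧸ H) ≤ Nat.card (S.Qx hx) := by
    rw [hQ, ← hidx, Subgroup.index_eq_card]
  have hbij := Function.Injective.bijective_of_nat_card_le hinj hcard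
  obtain ⟨q, hq⟩ := hbij.2 (QuotientGroup.mk (S.tv u) : G ⧸ H)
  have htH : ((q : G))⁻¹ * S.tv u ∈ H := QuotientGroup.eq.mp hq
  -- `t := q⁻¹ * tv u` is a nontrivial element of `H` with `t ^ 8 = 1`
  have ht1 : ((q : G))⁻¹ * S.tv u ≠ 1 := by
    intro h1
    apply htv
    have : S.tv u = (q : G) := by
      have := congrArg (fun g => (q : G) * g) h1
      simpa using this
    rw [this]
    exact q.2
  have hstab : S.tv u ∈ stabilizer G x := by
    rw [mem_stabilizer_iff, S.tv_smul hu, S.h_eq_zero_symm hux]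
    simp
  have hnorm := S.stabilizer_le_normalizer_Qx hx hstab
  have hqi : ((q : G))⁻¹ ∈ S.Qx hx := (S.Qx hx).inv_mem q.2
  have hconj : S.tv u * ((q : G))⁻¹ * (S.tv u)⁻¹ ∈ S.Qx hx :=
    (Subgroup.mem_normalizer_iff.mp hnorm _).mp hqi
  have htt : (((q : G))⁻¹ * S.tv u) ^ 2 ∈ S.Qx hx := by
    have e : (((q : G))⁻¹ * S.tv u) ^ 2
        = ((q : G))⁻¹ * (S.tv u * ((q : G))⁻¹ * (S.tv u)⁻¹) := by
      have hsi : (S.tv u)⁻¹ = S.tv u := S.tv_inv hu
      rw [hsi, pow_two]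
      simp only [mul_assoc]
    rw [e]
    exact (S.Qx hx).mul_mem hqi hconj
  have h8 : (((q : G))⁻¹ * S.tv u) ^ 8 = 1 := by
    have := Qx_pow_four S hx htt
    rw [← pow_mul] at this
    exact this
  exact exists_involution_of_pow_eight H htH ht1 h8

end Cfsg.Agent.Lib.Helper13.Su2Leaf
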