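import Mathlib
import Cfsg.Agent.Lib.Helper11.Su2Tools
import Cfsg.Agent.Lib.Helper14.Su2GEO
import Cfsg.Agent.Lib.Helper13.Su2S3Aof

/-! S2153 market "SU2", leaf S3A: `exists_involution` (exact statement of `notes/S2153_leaves.lean`),
from `exists_involution_of` and helper14's GEO leaf `exists_iso_h_eq_two`. -/

set_option autoImplicit false

namespace Cfsg.Agent.Lib.Helper13.Su2Leaf

open MulAction Pointwise Cfsg.Agent.Lib.Helper11.Su2

variable {F V G : Type*} [Field F] [AddCommGroup V] [Module F V] [Group G] [DistribMulAction G V]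
variable (S : Setting F V G)

theorem exists_involution [Finite V] [Finite G] {n : ℕ} (hV : Nat.card V = 4 ^ n)
    (hI : Nat.card {v : V // S.h v v = 0} = 2 ^ (2 * n - 1) + 2 ^ (n - 1)) (hn : 6 ≤ n)
    (H : Subgroup G) (hall : ∀ x : V, x ≠ 0 → ∀ hx : S.h x x = 0, H ⊓ S.Qx hx = ⊥)
    (hidx : H.index = 2 ^ (2 * n - 3)) : ∃ τ ∈ H, τ ≠ 1 ∧ τ * τ = 1 := by
  exact exists_involution_of S hV hI hn
    (fun {a b} hab α β => Cfsg.Agent.Lib.Helper14.Su2Leaf.exists_iso_h_eq_two S hV hn hab α β)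
    H hall hidx

end Cfsg.Agent.Lib.Helper13.Su2Leaf
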