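import Mathlib
import Cfsg.Agent.Lib.Helper2.SOTDefs
import Cfsg.Agent.Lib.Helper13.SOTGDefs

/-!
S5666 part (G), leaf (CM) `SsetJ_of_comm`: the commutator trick.
-/

set_option autoImplicit false
set_option linter.unusedSectionVars false
set_option linter.unusedVariables false

namespace Cfsg.Agent.Lib.Helper13.SOTGLeaf
open Matrix
open Cfsg.Agent.Lib.Helper25.Tens Cfsg.Agent.Lib.Helper25.SpT Cfsg.Agent.Lib.Helper19.OSub
open Cfsg.Agent.Lib.Helper2.SOT Cfsg.Agent.Lib.Helper13.SOTG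
open scoped Kronecker

variable {ι : Type} [Fintype ι] [DecidableEq ι] {F : Type*} [Field F] {J : Matrix ι ι F}
  {M : Subgroup (GL ι F)}

/-- `ψ(w,c) := t_{w+e,c} * t_{w,-c}` acts as `v ↦ v + c (f(v,w) e + f(v,e) w + f(v,e) e)` -/
lemma exists_psi (h : AltCtx J) {w e : ι → F} (hw : w ∈ SsetJ J M) (hwe : w + e ∈ SsetJ J M)
    (h1 : fJ J w e = 0) (c : F) :
    ∃ g ∈ M, ∀ v : ι → F, mv g v =
      v + c • (fJ J v w • e + fJ J v e • w + fJ J v e • e) := by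
  obtain ⟨t₁, ht₁, h₁v⟩ := mv_of_inM_tvJ (hwe c)
  obtain ⟨t₂, ht₂, h₂v⟩ := mv_of_inM_tvJ (hw (-c))
  refine ⟨t₁ * t₂, M.mul_mem ht₁ ht₂, fun v => ?_⟩
  rw [mv_mul, h₂v, h₁v]
  simp only [fJ_add_left, fJ_add_right, fJ_smul_left, h.alt, h1]
  module

/-- (CM) the commutator trick -/
theorem SsetJ_of_comm (h : AltCtx J) {w w' e : ι → F} (hw : w ∈ SsetJ J M) (hw' : w' ∈ SsetJ J M)
    (hwe : w + e ∈ SsetJ J M) (hw'e : w' + e ∈ SsetJ J M) (h1 : fJ J w e = 0) (h2 : fJ J w' e = 0)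
    (hne : fJ J w w' ≠ 0) : e ∈ SsetJ J M := by
  intro c''
  have h1' : fJ J e w = 0 := fJ_eq_zero_symm h h1
  have h2' : fJ J e w' = 0 := fJ_eq_zero_symm h h2
  have hne' : fJ J w' w ≠ 0 := fJ_ne_zero_symm h hne
  have hsk : fJ J w w' = - fJ J w' w := fJ_skew h w w'
  set c' : F := c'' / (2 * fJ J w' w) with hc'
  obtain ⟨g₁, hg₁, a₁⟩ := exists_psi h hw hwe h1 1
  obtain ⟨g₂, hg₂, a₂⟩ := exists_psi h hw' hw'e h2 c'
  obtain ⟨g₃, hg₃, a₃⟩ := exists_psi h hw hwe h1 (-1)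
  obtain ⟨g₄, hg₄, a₄⟩ := exists_psi h hw' hw'e h2 (-c')
  apply inM_tvJ_of_mv (M.mul_mem (M.mul_mem (M.mul_mem hg₁ hg₂) hg₃) hg₄)
  intro v
  have h2ne : (2 : F) * fJ J w' w ≠ 0 := mul_ne_zero h.two hne'
  have hcc : c'' = c' * (2 * fJ J w' w) := by rw [hc', div_mul_cancel₀ _ h2ne]
  rw [mv_mul, mv_mul, mv_mul, a₄, a₃, a₂, a₁, hcc]
  simp only [fJ_add_left, fJ_smul_left, h.alt, h1, h2, h1', h2', hsk, mul_zero, add_zero,
    zero_add, mul_neg]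
  module

end Cfsg.Agent.Lib.Helper13.SOTGLeaf
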