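import Mathlib
import Cfsg.Agent.Lib.Helper2.SOTDefs
import Cfsg.Agent.Lib.Helper13.SOTGDefs
import Cfsg.Agent.Lib.Helper11.SOTS123
import Cfsg.Agent.Lib.Helper7.SOTGS
import Cfsg.Agent.Lib.Helper7.SOTGM

/-!
S5666 part (G), leaf (G1) `exists_pt_mem`: one transvection with pure singular centre `x ⊗ z` in `M`
gives the full root group (squares trick, `q` odd).
-/

set_option autoImplicit false
set_option linter.unusedSectionVars false
set_option linter.unusedVariables false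

namespace Cfsg.Agent.Lib.Helper13.SOTGLeaf
open Matrix
open Cfsg.Agent.Lib.Helper25.Tens Cfsg.Agent.Lib.Helper25.SpT Cfsg.Agent.Lib.Helper19.OSub
open Cfsg.Agent.Lib.Helper2.SOT Cfsg.Agent.Lib.Helper13.SOTG
open Cfsg.Agent.Lib.Helper7.SOTGLeaf
open scoped Kronecker

variable {F : Type*} [Field F] [Fintype F] {a b : ℕ} {G : Matrix (Fin b) (Fin b) F}
  {M : Subgroup (GL (Idx a b) F)}

lemma tvJ_zero_right {ι : Type} [Fintype ι] [DecidableEq ι] (J : Matrix ι ι F) (u : ι → F) :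
    tvJ J u 0 = 1 := by
  unfold tvJ
  rw [zero_smul, add_zero]

/-- (G1) the full root group from one element -/
theorem exists_pt_mem (h : MCtx a b G M) (ht : HasTv G M) :
    ∃ (x : Fin a → F) (z : Fin b → F), x ≠ 0 ∧ z ≠ 0 ∧ fB G z z = 0 ∧
      pt x z ∈ SsetJ (JG a G) M := by
  obtain ⟨x, z, c₁, hx, hz, hzz, hc₁, hin⟩ := ht
  have hin' : InM M (tvJ (JG a G) (pt x z) c₁) := hin
  have hM : M ≤ SpJ (JG a G) := h.le_sp
  have hA := altCtx_JG h.toCtx
  refine ⟨x, z, hx, hz, hzz, ?_⟩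
  have hsq : ∀ t : F, InM M (tvJ (JG a G) (pt x z) (t ^ 2 * c₁)) := by
    intro t
    by_cases ht0 : t = 0
    · rw [ht0, zero_pow two_ne_zero, zero_mul, tvJ_zero_right]
      exact ⟨1, M.one_mem, rfl⟩
    · obtain ⟨α, hα, hαx⟩ := exists_sp_map h.ea hx (smul_ne_zero ht0 hx)
      have hk : (kel α (1 : GL (Fin b) F) : GL (Idx a b) F) ∈ M :=
        h.le ⟨kel_mem_KG α 1, Cfsg.Agent.Lib.Helper11.SOTLeaf.kel_mem_SpV G α 1 1 1 (one_mul 1)
          (fun u v => by rw [hα, one_mul]) (fun y y' => by simp)⟩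
      have h1 := inM_tvJ_conj hM hk hin'
      have h2 : mv (kel α (1 : GL (Fin b) F) : GL (Idx a b) F) (pt x z) = t • pt x z := by
        have := kel_mulVec_pt α (1 : GL (Fin b) F) x z
        rw [hαx, Units.val_one, Matrix.one_mulVec, pt_smul_left] at this
        exact this
      rwa [h2, tvJ_smul] at h1
  intro c
  have h3 := inM_tvJ_add hA (hsq ((c / c₁ + 1) / 2)) (inM_tvJ_neg hA (hsq ((c / c₁ - 1) / 2)))
  have h4 : ((c / c₁ + 1) / 2) ^ 2 * c₁ + -(((c / c₁ - 1) / 2) ^ 2 * c₁) = c := by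
    have := h.two
    field_simp
    ring
  rwa [h4] at h3

end Cfsg.Agent.Lib.Helper13.SOTGLeaf
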