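import Mathlib
import Cfsg.Agent.Lib.Helper2.SOTDefs
import Cfsg.Agent.Lib.Helper13.SOTGDefs
import Cfsg.Agent.Lib.Helper13.SOTGCM
import Cfsg.Agent.Lib.Helper13.SOTGTR
import Cfsg.Agent.Lib.Helper13.SOTGG1
import Cfsg.Agent.Lib.Helper11.SOTS123
import Cfsg.Agent.Lib.Helper7.SOTGS
import Cfsg.Agent.Lib.Helper7.SOTGM
import Cfsg.Agent.Lib.Helper7.SOTGF1
import Cfsg.Agent.Lib.Helper12.SOTGDC
import Cfsg.Agent.Lib.Helper12.SOTGEX
import Cfsg.Agent.Lib.Helper24.SOTGPL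
import Cfsg.Agent.Lib.Helper24.SOTGOT
import Cfsg.Agent.Lib.Helper9.SOTGG3
import Cfsg.Agent.Lib.Helper9.SOTGG3b

/-!
S5666 part (G) "growth": assembly.  `growth (h : MCtx a b G M) (ht : HasTv G M) : SpV G ≤ M`
(helper2's interface) from the leaves of notes/S5666_G_leaves.lean
(helper7, helper9, helper11, helper12, helper13, helper24).
-/

set_option autoImplicit false
set_option linter.unusedSectionVars false
set_option linter.unusedVariables false

namespace Cfsg.Agent.Lib.Helper13.SOTGMain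
open Matrix
open Cfsg.Agent.Lib.Helper25.Tens Cfsg.Agent.Lib.Helper25.SpT Cfsg.Agent.Lib.Helper19.OSub
open Cfsg.Agent.Lib.Helper2.SOT Cfsg.Agent.Lib.Helper13.SOTG
open scoped Kronecker

section general
variable {ι : Type} [Fintype ι] [DecidableEq ι] {F : Type*} [Field F] {J : Matrix ι ι F}
  {M : Subgroup (GL ι F)}

/-- (S1) `M`-invariance of the set of centres -/
theorem SsetJ_mv (hM : M ≤ SpJ J) {g : GL ι F} (hg : g ∈ M) {u : ι → F} (hu : u ∈ SsetJ J M) :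
    mv g u ∈ SsetJ J M := fun c => Cfsg.Agent.Lib.Helper7.SOTGLeaf.inM_tvJ_conj hM hg (hu c)

/-- (S2) scalars -/
theorem SsetJ_smul {u : ι → F} (hu : u ∈ SsetJ J M) (t : F) : t • u ∈ SsetJ J M := by
  intro c
  rw [Cfsg.Agent.Lib.Helper7.SOTGLeaf.tvJ_smul]
  exact hu _

/-- (S3) `u, w ∈ S`, `f(u,w) ≠ 0` ⟹ `u + t w ∈ S` -/
theorem SsetJ_add (hM : M ≤ SpJ J) {u w : ι → F} (hu : u ∈ SsetJ J M) (hw : w ∈ SsetJ J M)
    (hne : fJ J u w ≠ 0) (t : F) : u + t • w ∈ SsetJ J M := by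
  obtain ⟨g, hg, hgv⟩ := mv_of_inM_tvJ (hw (t / fJ J u w))
  have := SsetJ_mv hM hg hu
  rwa [hgv u, div_mul_cancel₀ _ hne] at this

/-- the extension step -/
theorem exists_larger (h : AltCtx J) (hM : M ≤ SpJ J) {W : Submodule F (ι → F)} (hW : Good J M W)
    (hnd : NonDeg J W) (hW0 : W ≠ ⊥) (hWt : W ≠ ⊤) {P : Set (ι → F)} (hP : P ⊆ SsetJ J M)
    (hspan : Submodule.span F P = ⊤) (hdiam : Diam2 J P) :
    ∃ W' : Submodule F (ι → F), Good J M W' ∧ NonDeg J W' ∧ W' ≠ ⊥ ∧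
      Module.finrank F W < Module.finrank F W' := by
  obtain ⟨e, heP, eW, heW, eP, hperp, hsum, heW0, heP0⟩ :=
    Cfsg.Agent.Lib.Helper12.SOTGLeaf.exists_mixed h hnd hW0 hWt hspan hdiam
  obtain ⟨hadd, hePS⟩ :=
    Cfsg.Agent.Lib.Helper12.SOTGLeaf.perp_part_mem h hM hW hnd (hP heP) heW hperp hsum heW0
  obtain ⟨p₂, hp₂S, hp₂, hne⟩ :=
    Cfsg.Agent.Lib.Helper12.SOTGLeaf.exists_second h hM hW hnd hP hspan hperp heP0
  obtain ⟨hG, hN, hlt⟩ :=
    Cfsg.Agent.Lib.Helper12.SOTGLeaf.good_sup_plane h hM hW hnd hePS hp₂S hperp hp₂ hne hadd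
  refine ⟨_, hG, hN, ?_, hlt⟩
  intro hbot
  apply hW0
  rw [eq_bot_iff, ← hbot]
  exact le_sup_left

/-- (G4) the general growth lemma: a spanning set of centres, any two of which are joined through a
third, forces all transvections into `M` -/
theorem all_mem_SsetJ (h : AltCtx J) (hM : M ≤ SpJ J) {P : Set (ι → F)} (hP : P ⊆ SsetJ J M)
    (hspan : Submodule.span F P = ⊤) (hdiam : Diam2 J P) : ∀ u : ι → F, u ∈ SsetJ J M := by
  have key : ∀ n : ℕ, ∀ W : Submodule F (ι → F), Good J M W → NonDeg J W → W ≠ ⊥ →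
      Module.finrank F (ι → F) - Module.finrank F W = n → ∀ u : ι → F, u ∈ SsetJ J M := by
    intro n
    induction n using Nat.strong_induction_on with
    | _ n ih =>
      intro W hW hnd hW0 hn u
      by_cases hWt : W = ⊤
      · exact hW u (hWt ▸ Submodule.mem_top)
      · obtain ⟨W', hW', hnd', hW'0, hlt⟩ := exists_larger h hM hW hnd hW0 hWt hP hspan hdiam
        have hle : Module.finrank F W' ≤ Module.finrank F (ι → F) := Submodule.finrank_le W'
        exact ih (Module.finrank F (ι → F) - Module.finrank F W') (by omega) W' hW' hnd' hW'0 rfl u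
  intro u
  by_cases hu : u = 0
  · rw [hu]
    exact Cfsg.Agent.Lib.Helper7.SOTGLeaf.zero_mem_SsetJ
  · have hex : ∃ e ∈ P, e ≠ 0 := by
      by_contra hcon
      push Not at hcon
      have hbot : Submodule.span F P = ⊥ := by
        rw [Submodule.span_eq_bot]
        exact hcon
      rw [hspan] at hbot
      have hmem : u ∈ (⊤ : Submodule F (ι → F)) := Submodule.mem_top
      rw [hbot, Submodule.mem_bot] at hmem
      exact hu hmem
    obtain ⟨e, heP, he0⟩ := hex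
    obtain ⟨e'', he''P, hne, -⟩ := hdiam e heP e heP
    obtain ⟨hG, hN⟩ :=
      Cfsg.Agent.Lib.Helper24.SOTGLeaf.good_span_pair h hM (hP heP) (hP he''P) hne
    refine key _ _ hG hN ?_ rfl u
    intro hbot
    apply he0
    have hmem : e ∈ Submodule.span F {e, e''} := Submodule.subset_span (by simp)
    rw [hbot, Submodule.mem_bot] at hmem
    exact hmem

/-- the general growth theorem: `M ≤ Sp`, a spanning `Diam2` set of full root groups ⟹ `M = Sp` -/
theorem SpJ_le_of_centres (h : AltCtx J) (hM : M ≤ SpJ J) {P : Set (ι → F)} (hP : P ⊆ SsetJ J M)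
    (hspan : Submodule.span F P = ⊤) (hdiam : Diam2 J P) : SpJ J ≤ M :=
  Cfsg.Agent.Lib.Helper7.SOTGLeaf.SpJ_le_of_all h (all_mem_SsetJ h hM hP hspan hdiam)

end general

section model
variable {F : Type*} [Field F] [Fintype F] {a b : ℕ} {G : Matrix (Fin b) (Fin b) F}
  {M : Subgroup (GL (Idx a b) F)}

theorem kel_mem_M (h : MCtx a b G M) (α : GL (Fin a) F) (β : GL (Fin b) F)
    (hα : ∀ u v : Fin a → F, sf ((α : Matrix (Fin a) (Fin a) F) *ᵥ u)
      ((α : Matrix (Fin a) (Fin a) F) *ᵥ v) = sf u v)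
    (hβ : ∀ y y' : Fin b → F, fB G ((β : Matrix (Fin b) (Fin b) F) *ᵥ y)
      ((β : Matrix (Fin b) (Fin b) F) *ᵥ y') = fB G y y') : (kel α β : GL (Idx a b) F) ∈ M :=
  h.le ⟨kel_mem_KG α β, Cfsg.Agent.Lib.Helper11.SOTLeaf.kel_mem_SpV G α β 1 1 (one_mul 1)
    (fun x x' => by rw [hα, one_mul]) (fun y y' => by rw [hβ, one_mul])⟩

/-- plan (G2): `H` is transitive on the pure singular tensors -/
theorem pt_mem_of_pt_mem (h : MCtx a b G M) {x x' : Fin a → F} {z z' : Fin b → F} (hx : x ≠ 0)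
    (hx' : x' ≠ 0) (hz : z ≠ 0) (hz' : z' ≠ 0) (hzz : fB G z z = 0) (hz'z' : fB G z' z' = 0)
    (hu : pt x z ∈ SsetJ (JG a G) M) : pt x' z' ∈ SsetJ (JG a G) M := by
  obtain ⟨α, hα, hαx⟩ := Cfsg.Agent.Lib.Helper7.SOTGLeaf.exists_sp_map h.ea hx hx'
  obtain ⟨β, hβ, hβz⟩ :=
    Cfsg.Agent.Lib.Helper24.SOTGLeaf.exists_orth_map h.toCtx hz hz' hzz hz'z'
  have hk : (kel α β : GL (Idx a b) F) ∈ M := kel_mem_M h α β hα hβ
  have hM : M ≤ SpJ (JG a G) := h.le_sp
  have h1 := SsetJ_mv hM hk hu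
  have h2 : mv (kel α β : GL (Idx a b) F) (pt x z) = pt x' z' := by
    rw [← hαx, ← hβz]
    exact kel_mulVec_pt α β x z
  rwa [h2] at h1

/-- PART (G): growth -/
theorem growth (h : MCtx a b G M) (ht : HasTv G M) : SpV G ≤ M := by
  obtain ⟨x, z, hx, hz, hzz, hu⟩ := Cfsg.Agent.Lib.Helper13.SOTGLeaf.exists_pt_mem h ht
  have hM : M ≤ SpJ (JG a G) := h.le_sp
  have hP : PS a G ⊆ SsetJ (JG a G) M := by
    rintro u ⟨x', z', hx', hz', hz'z', rfl⟩
    exact pt_mem_of_pt_mem h hx hx' hz hz' hzz hz'z' hu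
  have hA := Cfsg.Agent.Lib.Helper7.SOTGLeaf.altCtx_JG h.toCtx
  exact SpJ_le_of_centres hA hM hP
    (Cfsg.Agent.Lib.Helper9.SOTGLeaf.span_PS h.toCtx ⟨z, hz, hzz⟩)
    (Cfsg.Agent.Lib.Helper9.SOTGLeaf.diam_PS h.toCtx)

end model

end Cfsg.Agent.Lib.Helper13.SOTGMain
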