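import Mathlib
import Cfsg.Agent.Lib.Helper5.TWS.Defs
import Cfsg.Agent.Lib.Helper13.SOTGMain

/-!
# S5668 (C7 symplectic, owner helper5) — Stage III ENDGAME (helper13)

`XTS X univ` (all symplectic transvections with PURE centres `pt y`, all `y j ≠ 0`, lie in `X ≤ GSV`), `t` odd
⟹ `GSV t k F ≤ X`, via the general growth theorem `Helper13.SOTGMain.SpJ_le_of_centres` with `J := JT t k F`,
`P :=` the pure tensors with non-zero components.

By-products: `JT_swap`, `JT_mulVec_pt`, `sfT_pt`, `nilS_univ`, `altCtx_JT`, `span_pure_top`, `diam2_pure`.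
-/

set_option autoImplicit false
set_option linter.unusedSectionVars false
set_option linter.unusedVariables false

namespace Cfsg.Agent.Lib.Helper13.TWSEnd
open Matrix Cfsg.Geo Cfsg.Agent.Lib.Helper8.TW Cfsg.Agent.Lib.Helper5.TWS
open Cfsg.Agent.Lib.Helper25.SpT (sf Jm sfv)
open Cfsg.Agent.Lib.Helper13.SOTG (fJ AltCtx tvJ SpJ SsetJ Diam2)

variable {F : Type*} [Field F] {t k : ℕ}

/-- `JT` is `(-1)^t`-symmetric -/
theorem JT_swap (a b : Idx t k) : JT t k F b a = (-1) ^ t * JT t k F a b := by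
  rw [JT_apply, JT_apply]
  have : ∀ i : Fin t, (Jm k : Matrix (Fin k) (Fin k) F) (b i) (a i) = - Jm k (a i) (b i) := fun i =>
    Cfsg.Agent.Lib.Helper25.SpT.Jm_swap k (a i) (b i)
  simp_rw [this]
  rw [Finset.prod_neg, Finset.card_univ, Fintype.card_fin]

/-- `sfT = fJ JT` -/
theorem sfT_eq_fJ (u v : Idx t k → F) : sfT u v = fJ (JT t k F) u v := rfl

/-- a product of sums over the slots -/
theorem sum_prod_slots (f : Fin t → Fin k → F) : ∑ b : Idx t k, ∏ i, f i (b i) = ∏ i, ∑ c, f i c := by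
  rw [Finset.prod_univ_sum, Fintype.piFinset_univ]

/-- `JT (pt y) = pt (sfv ∘ y)` -/
theorem JT_mulVec_pt (y : Fin t → Fin k → F) : JT t k F *ᵥ pt y = pt (fun j => sfv (y j)) := by
  funext a
  unfold Matrix.mulVec dotProduct pt
  simp_rw [JT_apply, ← Finset.prod_mul_distrib]
  rw [sum_prod_slots (fun i c => (Jm k : Matrix (Fin k) (Fin k) F) (a i) c * y i c)]
  rfl

/-- the tensor power form on pure tensors -/
theorem sfT_pt (v w : Fin t → Fin k → F) : sfT (pt v) (pt w) = ∏ j, sf (v j) (w j) := by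
  unfold sfT
  rw [JT_mulVec_pt]
  unfold dotProduct pt
  simp_rw [← Finset.prod_mul_distrib]
  rw [sum_prod_slots (fun i c => v i c * sfv (w i) c)]
  rfl

/-- the `univ`-elementary nilpotent is `u u†` for the pure tensor `u = pt y` -/
theorem nilS_univ (y : Fin t → Fin k → F) :
    nilS Finset.univ y = Matrix.vecMulVec (pt y) (JT t k F *ᵥ pt y) := by
  rw [JT_mulVec_pt]
  ext x x'
  unfold nilS
  rw [if_pos (fun j hj => absurd (Finset.mem_univ j) hj), Matrix.vecMulVec_apply, Finset.prod_mul_distrib]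
  rfl

/-- for odd `t` the tensor power form is alternating (characteristic `≠ 2`) -/
theorem fJ_JT_self (ht : Odd t) (h2 : (2 : F) ≠ 0) (v : Idx t k → F) : fJ (JT t k F) v v = 0 := by
  have h : fJ (JT t k F) v v = - fJ (JT t k F) v v := by
    have e : fJ (JT t k F) v v = ∑ a, ∑ b, v a * JT t k F a b * v b := sfT_eq_sum v v
    conv_lhs => rw [e, Finset.sum_comm]
    rw [e, ← Finset.sum_neg_distrib]
    apply Finset.sum_congr rfl
    intro a _
    rw [← Finset.sum_neg_distrib]
    apply Finset.sum_congr rfl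
    intro b _
    rw [JT_swap a b, ht.neg_one_pow]
    ring
  have h' : (2 : F) * fJ (JT t k F) v v = 0 := by linear_combination h
  exact (mul_eq_zero.mp h').resolve_left h2

/-- the coordinatewise partner index -/
def prI (hk : Even k) (a : Idx t k) : Idx t k := fun i => Cfsg.Agent.Lib.Helper25.SpT.pr hk (a i)

/-- nondegeneracy of the tensor power form -/
theorem fJ_JT_nd (hk : Even k) (v : Idx t k → F) (hv : v ≠ 0) : ∃ w : Idx t k → F, fJ (JT t k F) v w ≠ 0 := by
  classical
  obtain ⟨a, ha⟩ := Function.ne_iff.mp hv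
  refine ⟨Pi.single (prI hk a) 1, ?_⟩
  have e : fJ (JT t k F) v (Pi.single (prI hk a) 1) = ∑ a', v a' * JT t k F a' (prI hk a) := by
    unfold fJ dotProduct
    apply Finset.sum_congr rfl
    intro a' _
    rw [Matrix.mulVec_single_one]
    rfl
  rw [e, Finset.sum_eq_single a]
  · rw [JT_apply]
    apply mul_ne_zero ha
    rw [Finset.prod_ne_zero_iff]
    intro i _
    exact Cfsg.Agent.Lib.Helper25.SpT.Jm_pr_ne_zero hk (a i)
  · intro a' _ ha'
    obtain ⟨i, hi⟩ := Function.ne_iff.mp ha'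
    rw [JT_apply, Finset.prod_eq_zero (Finset.mem_univ i), mul_zero]
    apply Cfsg.Agent.Lib.Helper25.SpT.Jm_eq_zero_of_ne hk
    intro h
    apply hi
    have := congrArg (Cfsg.Agent.Lib.Helper25.SpT.pr hk) h
    change Cfsg.Agent.Lib.Helper25.SpT.pr hk (Cfsg.Agent.Lib.Helper25.SpT.pr hk (a i)) = _ at this
    rw [Cfsg.Agent.Lib.Helper25.SpT.pr_pr, Cfsg.Agent.Lib.Helper25.SpT.pr_pr] at this
    exact this.symm
  · intro h
    exact absurd (Finset.mem_univ a) h

/-- the standing hypotheses of the growth theorem for `JT`, `t` odd -/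
theorem altCtx_JT (h2 : (2 : F) ≠ 0) (hk : Even k) (ht : Odd t) : AltCtx (JT t k F) :=
  ⟨fJ_JT_self ht h2, fun v hv => fJ_JT_nd hk v hv, h2⟩

/-- the pure tensors with non-zero components -/
def Pure (t k : ℕ) (F : Type*) [Field F] : Set (Idx t k → F) :=
  {u | ∃ y : Fin t → Fin k → F, (∀ j, y j ≠ 0) ∧ u = pt y}

/-- the standard basis vectors are pure -/
theorem single_eq_pt (a : Idx t k) : (Pi.single a (1 : F) : Idx t k → F) = pt (fun i => Pi.single (a i) (1 : F)) := by
  classical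
  funext x
  unfold pt
  by_cases h : x = a
  · subst h
    rw [Pi.single_eq_same]
    symm
    apply Finset.prod_eq_one
    intro i _
    beta_reduce
    rw [Pi.single_eq_same]
  · rw [Pi.single_eq_of_ne h]
    obtain ⟨i, hi⟩ := Function.ne_iff.mp h
    symm
    apply Finset.prod_eq_zero (Finset.mem_univ i)
    beta_reduce
    rw [Pi.single_eq_of_ne hi]

theorem span_pure_top : Submodule.span F (Pure t k F) = ⊤ := by
  classical
  rw [eq_top_iff, ← (Pi.basisFun F (Idx t k)).span_eq]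
  apply Submodule.span_mono
  rintro _ ⟨a, rfl⟩
  rw [Pi.basisFun_apply]
  refine ⟨fun i => Pi.single (a i) (1 : F), fun j => ?_, single_eq_pt a⟩
  intro h
  have := congrFun h (a j)
  beta_reduce at this
  rw [Pi.single_eq_same, Pi.zero_apply] at this
  exact one_ne_zero this

/-- two hyperplanes do not cover `A` -/
theorem exists_sf_ne_zero_two (hk : Even k) {y y' : Fin k → F} (hy : y ≠ 0) (hy' : y' ≠ 0) :
    ∃ z : Fin k → F, sf y z ≠ 0 ∧ sf y' z ≠ 0 := by
  obtain ⟨x, hx⟩ := Cfsg.Agent.Lib.Helper25.SpT.exists_sf_ne_zero hk hy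
  obtain ⟨x', hx'⟩ := Cfsg.Agent.Lib.Helper25.SpT.exists_sf_ne_zero hk hy'
  by_cases h1 : sf y' x = 0
  · by_cases h2 : sf y x' = 0
    · refine ⟨x + x', ?_, ?_⟩
      · rw [Cfsg.Agent.Lib.Helper25.SpT.sf_add_right, h2, add_zero]; exact hx
      · rw [Cfsg.Agent.Lib.Helper25.SpT.sf_add_right, h1, zero_add]; exact hx'
    · exact ⟨x', h2, hx'⟩
  · exact ⟨x, hx, h1⟩

theorem diam2_pure (hk : Even k) : Diam2 (JT t k F) (Pure t k F) := by
  rintro _ ⟨y, hy, rfl⟩ _ ⟨y', hy', rfl⟩
  choose z hz using fun j => exists_sf_ne_zero_two hk (hy j) (hy' j)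
  refine ⟨pt z, ⟨z, fun j => ?_, rfl⟩, ?_, ?_⟩
  · intro h
    apply (hz j).1
    rw [h, Cfsg.Agent.Lib.Helper25.SpT.sf_zero_right]
  · rw [← sfT_eq_fJ, sfT_pt, Finset.prod_ne_zero_iff]
    exact fun j _ => (hz j).1
  · rw [← sfT_eq_fJ, sfT_pt, Finset.prod_ne_zero_iff]
    exact fun j _ => (hz j).2

/-- the isometry groups agree -/
theorem SpJ_JT : SpJ (JT t k F) = GSV t k F := rfl

/-- ENDGAME: all transvections with pure centres in `X ≤ GSV`, `t` odd ⟹ `GSV ≤ X` -/
theorem endgameS' (h2 : (2 : F) ≠ 0) (hk : Even k) (ht : Odd t) (X : Subgroup (GL (Idx t k) F))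
    (hXG : X ≤ GSV t k F) (hXT : XTS X Finset.univ) : GSV t k F ≤ X := by
  have hP : Pure t k F ⊆ SsetJ (JT t k F) X := by
    rintro _ ⟨y, hy, rfl⟩ c
    have := hXT y c (fun j _ => hy j)
    rw [nilS_univ] at this
    exact this
  exact Cfsg.Agent.Lib.Helper13.SOTGMain.SpJ_le_of_centres (altCtx_JT h2 hk ht) hXG hP span_pure_top
    (diam2_pure hk)

/-- `2 ≠ 0` in a finite field of odd order -/
theorem two_ne_zero_of_odd [Fintype F] (hodd : Odd (Fintype.card F)) : (2 : F) ≠ 0 := by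
  intro h
  have hchar : ringChar F = 2 := by
    have hdvd : ringChar F ∣ 2 := by
      have := (ringChar.spec F 2).mp (by exact_mod_cast h)
      exact_mod_cast this
    have hp : (ringChar F).Prime := CharP.char_is_prime F (ringChar F)
    exact (Nat.prime_dvd_prime_iff_eq hp Nat.prime_two).mp hdvd
  have : Even (Fintype.card F) :=
    Nat.even_iff.mpr (FiniteField.even_card_iff_char_two.mp hchar)
  exact (Nat.not_even_iff_odd.mpr hodd) this

/-- ENDGAME (interface form) -/
theorem endgameS [Fintype F] (hodd : Odd (Fintype.card F)) (hk : Even k) (ht : Odd t) (X : Subgroup (GL (Idx t k) F))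
    (hXG : X ≤ GSV t k F) (hXT : XTS X Finset.univ) : GSV t k F ≤ X :=
  endgameS' (two_ne_zero_of_odd hodd) hk ht X hXG hXT

end Cfsg.Agent.Lib.Helper13.TWSEnd
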