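import Mathlib
import Cfsg.Agent.Lib.Helper5.TWS.Defs
import Cfsg.Agent.Lib.Helper5.TWS.StageIDefs
import Cfsg.Agent.Lib.Helper5.TWS.ITwist
import Cfsg.Agent.Lib.Helper9.TWST
import Cfsg.Agent.Lib.Helper6.TWSTens
import Cfsg.Agent.Lib.Helper10.TWSIFlagP
import Cfsg.Agent.Lib.Helper8.TWUQPg
import Cfsg.Agent.Lib.Helper22.TWExtBasic
import Cfsg.Agent.Lib.Helper6.TWT1

/-!
# S5668 Stage I, `k = 2` block: leaf K2-6 `flag_case` (helper13)

The flag sub-case `K_B = K_B^⊥`: `L = T ⊔ x T x⁻¹` is unipotent on the flag `0 ≤ K ≤ R'' ≤ K^⊥ ≤ V`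
(`K = R ⊓ R''`, `R = r.W`, `R'' = x R`), hence a `p`-group (helper10's K2-6a) containing the root group `T`,
hence inside `G` by (PG) (`Helper8.TWUQLeaf.pg_of_fcp`); but `x ∈ L`, `x ∉ G`.
(The hypothesis `k = 2` is not used.)
-/

set_option autoImplicit false
set_option linter.unusedSectionVars false
set_option linter.unusedVariables false

namespace Cfsg.Agent.Lib.Helper13.TWSLeaf
open Matrix Cfsg.Geo Cfsg.Agent.Lib.Helper18.AschA89 Cfsg.Agent.Lib.Helper8.TW Cfsg.Agent.Lib.Helper5.TWS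
open Cfsg.Agent.Lib.Helper25.SpT (sf Jm sfv)
open Cfsg.Agent.Lib.Helper23.TWUQ (NSp FCp)

variable {F : Type*} [Field F] [Fintype F] {t k : ℕ}

/-- the root nilpotent in `tens`/`ctr` coordinates: `N v = (η-contraction of v) ⊗ y` -/
theorem rootN_mulVec_eq_tens (i : Fin (t + 1)) (y η : Fin k → F) (v : Idx (t + 1) k → F) :
    rootN i y η *ᵥ v = tens i (ctr i η v) y := by
  funext x
  have h1 := congrFun (Cfsg.Agent.Lib.Helper6.TWLeaf.rootN_mulVec_slice i y η v x) (x i)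
  unfold slice at h1
  rw [Function.update_eq_self] at h1
  rw [h1]
  unfold tens ctr
  rw [Pi.smul_apply, smul_eq_mul]
  congr 1
  unfold dotProduct
  apply Finset.sum_congr rfl
  intro a _
  beta_reduce
  rw [Cfsg.Agent.Lib.Helper22.TWLeaf.update_eq_ins]

/-- K2-6 -/
theorem flag_case {X : Subgroup (GL (Idx (t + 1) k) F)} (c : CtxS X) (hk : k = 2) (r : RD (t + 1) k F)
    (x : GL (Idx (t + 1) k) F) (P : NP X r x)
    (KB : Submodule F (Idx t k → F)) (hKB : perpT KB = KB)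
    (hK : ∀ v : Idx (t + 1) k → F, v ∈ r.W ⊓ img x r.W ↔ ∃ b ∈ KB, v = tens r.i b r.y) : False := by
  classical
  -- the characteristic
  obtain ⟨p, hp⟩ := CharP.exists F
  have := hp
  have : Fact p.Prime := ⟨CharP.char_is_prime F p⟩
  have hr : r.η = sfv r.y := P.hr
  have hxD : x ∈ DSV (t + 1) k F := c.hXD P.hxX
  -- `R ≤ R^⊥`, `R'' ≤ R''^⊥`
  have hRR : r.W ≤ perpT r.W := by
    intro u hu w hw
    exact Cfsg.Agent.Lib.Helper9.TWST.TIT_Wf c.hk r.i r.y r.hy u hu w hw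
  have hR''R'' : img x r.W ≤ perpT (img x r.W) := by
    rw [← Cfsg.Agent.Lib.Helper9.TWST.img_perpT hxD]
    exact (Cfsg.Agent.Lib.Helper16.TWLeaf.img_le_img_iff x _ _).2 hRR
  have hRK : r.W ≤ perpT (r.W ⊓ img x r.W) :=
    hRR.trans (Cfsg.Agent.Lib.Helper9.TWST.perpT_anti inf_le_left)
  have hR''K : img x r.W ≤ perpT (r.W ⊓ img x r.W) :=
    hR''R''.trans (Cfsg.Agent.Lib.Helper9.TWST.perpT_anti inf_le_right)
  -- the key: `N (K^⊥) ≤ K`
  have key : ∀ v ∈ perpT (r.W ⊓ img x r.W), r.N *ᵥ v ∈ r.W ⊓ img x r.W := by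
    intro v hv
    have e : r.N *ᵥ v = tens r.i (ctr r.i (sfv r.y) v) r.y := by
      unfold RD.N
      rw [rootN_mulVec_eq_tens, hr]
    rw [e, hK]
    refine ⟨ctr r.i (sfv r.y) v, ?_, rfl⟩
    rw [← hKB]
    intro w hw
    rw [← Cfsg.Agent.Lib.Helper6.TWSLeaf.sfT_tens_right]
    exact hv _ ((hK _).2 ⟨w, hw, rfl⟩)
  -- the conjugate nilpotent
  obtain ⟨N'', hN''⟩ : ∃ N'' : Matrix (Idx (t + 1) k) (Idx (t + 1) k) F,
      N'' = (x : Matrix (Idx (t + 1) k) (Idx (t + 1) k) F) * r.N *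
        ((x⁻¹ : GL (Idx (t + 1) k) F) : Matrix (Idx (t + 1) k) (Idx (t + 1) k) F) := ⟨_, rfl⟩
  have hN''v : ∀ v, N'' *ᵥ v = mv x (r.N *ᵥ (mv x⁻¹ v)) := by
    intro v
    rw [hN'']
    unfold mv
    rw [Matrix.mulVec_mulVec, Matrix.mulVec_mulVec, Matrix.mul_assoc]
  have hN''mem : ∀ v, N'' *ᵥ v ∈ img x r.W := by
    intro v
    rw [hN''v]
    exact Cfsg.Agent.Lib.Helper5.TWSLeaf.mv_mem_img (Cfsg.Agent.Lib.Helper5.TWSLeaf.N_mulVec_mem_W r _)
  have hN''zero : ∀ v ∈ img x r.W, N'' *ᵥ v = 0 := by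
    intro v hv
    rw [hN''v]
    have h1 : mv x⁻¹ v ∈ r.W := (Cfsg.Agent.Lib.Helper16.TWLeaf.mem_img_iff x r.W v).1 hv
    rw [Cfsg.Agent.Lib.Helper5.TWSLeaf.N_mulVec_eq_zero r (Cfsg.Agent.Lib.Helper16.TWLeaf.RD_W_le_C r h1)]
    unfold mv
    rw [Matrix.mulVec_zero]
  -- the `p`-group
  have hPG := Cfsg.Agent.Lib.Helper10.TWSLeaf.isPGroup_of_flag (F := F) p r.N N''
    (r.W ⊓ img x r.W) (img x r.W) (perpT (r.W ⊓ img x r.W))
    (fun v => hRK (Cfsg.Agent.Lib.Helper5.TWSLeaf.N_mulVec_mem_W r v))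
    (fun v hv => (key v hv).2)
    (fun v hv => key v (hR''K hv))
    (fun v hv => Cfsg.Agent.Lib.Helper5.TWSLeaf.N_mulVec_eq_zero r (Cfsg.Agent.Lib.Helper16.TWLeaf.RD_W_le_C r hv.1))
    (fun v => hR''K (hN''mem v))
    (fun v _ => hN''mem v)
    (fun v hv => by rw [hN''zero v hv]; exact Submodule.zero_mem _)
    (fun v hv => hN''zero v hv.2)
    (fun d => r.elt d) (fun d => x * r.elt d * x⁻¹)
    (fun d => RD.elt_val r d)
    (fun d => by
      rw [Units.val_mul, Units.val_mul, RD.elt_val, hN'', mul_add, add_mul, mul_one, ← Units.val_mul,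
        mul_inv_cancel, Units.val_one, Matrix.mul_smul, Matrix.smul_mul])
  have hL : r.grp ⊔ conjG x r.grp =
      Subgroup.closure ({g | ∃ d : F, g = r.elt d} ∪ {g | ∃ d : F, g = x * r.elt d * x⁻¹}) := by
    rw [Cfsg.Agent.Lib.Helper5.TWSLeaf.sup_eq_closure x r r]
    congr 1
    ext g
    simp only [Set.mem_union, Set.mem_ofPred_eq, Set.mem_univ, true_and]
  rw [← hL] at hPG
  -- `L ≤ X`
  have hgrpX : r.grp ≤ X := (Cfsg.Agent.Lib.Helper9.TWST.grp_le_HS c.hk P.hr).trans c.hHX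
  have hLX : r.grp ⊔ conjG x r.grp ≤ X := by
    apply sup_le hgrpX
    intro g hg
    obtain ⟨u, hu, rfl⟩ := mem_conjG.1 hg
    exact X.mul_mem (X.mul_mem P.hxX (hgrpX hu)) (X.inv_mem P.hxX)
  have hLG : r.grp ⊔ conjG x r.grp ≤ Gstd (t + 1) k F :=
    Cfsg.Agent.Lib.Helper8.TWUQLeaf.pg_of_fcp c.fc _ hPG hLX r P.hr
      (fun d _ => (le_sup_left : r.grp ≤ r.grp ⊔ conjG x r.grp) (r.elt_mem_grp d))
  exact P.hxG (hLG P.hxL)

end Cfsg.Agent.Lib.Helper13.TWSLeaf
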