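import Mathlib
import Cfsg.Agent.Lib.Helper5.TWS.Defs
import Cfsg.Agent.Lib.Helper13.TWSEnd

/-!
# S5668 Stage I, `k = 2` block: leaf K2-5 `nonopp` (helper13)

Pure linear algebra on `B = F^(Idx t k)` with the nondegenerate form `sfT`: a similitude `γ` (multiplier `ν`) which is `1`
on `K_B` and `μ⁻¹` modulo `K_B` (`μ² ≠ 1`), `0 ≠ K_B ≠ B`, forces `K_B^⊥ = K_B`.

Proof (no perp calculus, only LEFT nondegeneracy `TWSEnd.fJ_JT_nd`): `B = K_B + E`, `E = ker (γ - μ⁻¹)`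
(as `γ - μ⁻¹` is `1 - μ⁻¹ ≠ 0` on `K_B` and maps `B` into `K_B`).  `ν = 1`: `E ⟂ K_B`, `E ⟂ E`, so `E = 0`, `K_B = B`.
`ν ≠ 1`: `K_B` t.i., `ν = μ⁻¹`, `E` t.i.; `v = k' + e ∈ K_B^⊥` has `e ⟂ K_B + E`, so `e = 0`.
-/

set_option autoImplicit false
set_option linter.unusedSectionVars false
set_option linter.unusedVariables false

namespace Cfsg.Agent.Lib.Helper13.TWSLeaf
open Matrix Cfsg.Geo Cfsg.Agent.Lib.Helper18.AschA89 Cfsg.Agent.Lib.Helper8.TW Cfsg.Agent.Lib.Helper5.TWS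
open Cfsg.Agent.Lib.Helper25.SpT (sf Jm sfv)

variable {F : Type*} [Field F] [Fintype F] {t k : ℕ}

/-- left nondegeneracy of `sfT` -/
theorem sfT_nd_left (hk : Even k) (v : Idx t k → F) (hv : v ≠ 0) : ∃ w : Idx t k → F, sfT v w ≠ 0 :=
  Cfsg.Agent.Lib.Helper13.TWSEnd.fJ_JT_nd hk v hv

/-- K2-5 -/
theorem nonopp (hk : Even k) (KB : Submodule F (Idx t k → F)) (h0 : KB ≠ ⊥) (h1 : KB ≠ ⊤)
    (μ : F) (hμ : μ ≠ 0) (hμ2 : μ ^ 2 ≠ 1) (γ : Matrix (Idx t k) (Idx t k) F) (ν : F) (hν : ν ≠ 0)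
    (hsim : ∀ b b' : Idx t k → F, sfT (γ *ᵥ b) (γ *ᵥ b') = ν * sfT b b')
    (ha : ∀ b ∈ KB, γ *ᵥ b = b) (hb : ∀ b : Idx t k → F, γ *ᵥ b - μ⁻¹ • b ∈ KB) :
    perpT KB = KB := by
  have hμ1 : μ ≠ 1 := by
    rintro rfl
    exact hμ2 (one_pow 2)
  have hi1 : μ⁻¹ ≠ 1 := fun h => hμ1 (inv_eq_one.mp h)
  have hi0 : μ⁻¹ ≠ 0 := inv_ne_zero hμ
  have hm1 : (1 - μ⁻¹) ≠ 0 := fun h => hi1 (sub_eq_zero.mp h).symm
  have hi2 : μ⁻¹ * μ⁻¹ ≠ 1 := by
    intro h
    apply hμ2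
    have : (μ⁻¹ * μ⁻¹) * μ ^ 2 = 1 := by field_simp
    rw [h, one_mul] at this
    exact this
  -- the decomposition `B = K_B + E`
  have hdec : ∀ b : Idx t k → F, ∃ k' ∈ KB, ∃ e : Idx t k → F, γ *ᵥ e = μ⁻¹ • e ∧ b = k' + e := by
    intro b
    have hk'mem : (1 - μ⁻¹)⁻¹ • (γ *ᵥ b - μ⁻¹ • b) ∈ KB := KB.smul_mem _ (hb b)
    refine ⟨(1 - μ⁻¹)⁻¹ • (γ *ᵥ b - μ⁻¹ • b), hk'mem, b - (1 - μ⁻¹)⁻¹ • (γ *ᵥ b - μ⁻¹ • b), ?_, by abel⟩
    rw [Matrix.mulVec_sub, ha _ hk'mem]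
    ext x
    simp only [Pi.sub_apply, Pi.smul_apply, smul_eq_mul]
    field_simp
    ring
  -- the form on eigenvectors
  have hEE : ∀ e e' : Idx t k → F, γ *ᵥ e = μ⁻¹ • e → γ *ᵥ e' = μ⁻¹ • e' →
      ν * sfT e e' = μ⁻¹ * μ⁻¹ * sfT e e' := by
    intro e e' he he'
    have := hsim e e'
    rw [he, he', sfT_smul_left, sfT_smul_right] at this
    rw [← this]; ring
  have hEK : ∀ e y : Idx t k → F, γ *ᵥ e = μ⁻¹ • e → y ∈ KB → ν * sfT e y = μ⁻¹ * sfT e y := by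
    intro e y he hy
    have := hsim e y
    rw [he, ha y hy, sfT_smul_left] at this
    rw [← this]
  have hKE : ∀ y e : Idx t k → F, y ∈ KB → γ *ᵥ e = μ⁻¹ • e → ν * sfT y e = μ⁻¹ * sfT y e := by
    intro y e hy he
    have := hsim y e
    rw [he, ha y hy, sfT_smul_right] at this
    rw [← this]
  have hKK : ∀ y y' : Idx t k → F, y ∈ KB → y' ∈ KB → ν * sfT y y' = sfT y y' := by
    intro y y' hy hy'
    have := hsim y y'
    rw [ha y hy, ha y' hy'] at this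
    rw [← this]
  by_cases hν1 : ν = 1
  · -- isometry: impossible
    exfalso
    apply h1
    rw [eq_top_iff]
    intro b _
    obtain ⟨k', hk', e, he, rfl⟩ := hdec b
    have he0 : e = 0 := by
      by_contra hne
      obtain ⟨w, hw⟩ := sfT_nd_left hk e hne
      obtain ⟨k'', hk'', e'', he'', rfl⟩ := hdec w
      apply hw
      rw [sfT_add_right]
      have e1 := hEK e k'' he hk''
      have e2 := hEE e e'' he he''
      rw [hν1, one_mul] at e1 e2
      have z1 : sfT e k'' = 0 := by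
        have : (1 - μ⁻¹) * sfT e k'' = 0 := by linear_combination e1
        exact (mul_eq_zero.mp this).resolve_left hm1
      have z2 : sfT e e'' = 0 := by
        have : (1 - μ⁻¹ * μ⁻¹) * sfT e e'' = 0 := by linear_combination e2
        exact (mul_eq_zero.mp this).resolve_left (fun h => hi2 (sub_eq_zero.mp h).symm)
      rw [z1, z2, add_zero]
    rw [he0, add_zero]
    exact hk'
  · -- `K_B` is totally isotropic
    have hKti : ∀ y y' : Idx t k → F, y ∈ KB → y' ∈ KB → sfT y y' = 0 := by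
      intro y y' hy hy'
      have : (ν - 1) * sfT y y' = 0 := by linear_combination hKK y y' hy hy'
      exact (mul_eq_zero.mp this).resolve_left (fun h => hν1 (sub_eq_zero.mp h))
    -- `ν = μ⁻¹`
    have hνμ : ν = μ⁻¹ := by
      obtain ⟨z, hz, hz0⟩ := Submodule.exists_mem_ne_zero_of_ne_bot h0
      obtain ⟨w, hw⟩ := sfT_nd_left hk z hz0
      obtain ⟨k'', hk'', e'', he'', rfl⟩ := hdec w
      rw [sfT_add_right, hKti z k'' hz hk'', zero_add] at hw
      have := hKE z e'' hz he''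
      exact mul_right_cancel₀ hw this
    -- `E` is totally isotropic
    have hEti : ∀ e e' : Idx t k → F, γ *ᵥ e = μ⁻¹ • e → γ *ᵥ e' = μ⁻¹ • e' → sfT e e' = 0 := by
      intro e e' he he'
      have e2 := hEE e e' he he'
      rw [hνμ] at e2
      have : (μ⁻¹ * (1 - μ⁻¹)) * sfT e e' = 0 := by linear_combination e2
      exact (mul_eq_zero.mp this).resolve_left (mul_ne_zero hi0 hm1)
    apply le_antisymm
    · intro v hv
      obtain ⟨k', hk', e, he, rfl⟩ := hdec v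
      have he0 : e = 0 := by
        by_contra hne
        obtain ⟨w, hw⟩ := sfT_nd_left hk e hne
        obtain ⟨k'', hk'', e'', he'', rfl⟩ := hdec w
        apply hw
        rw [sfT_add_right, hEti e e'' he he'', add_zero]
        have h1' := hv k'' hk''
        rw [sfT_add_left, hKti k' k'' hk' hk'', zero_add] at h1'
        exact h1'
      rw [he0, add_zero]
      exact hk'
    · intro y hy w hw
      exact hKti y w hy hw

end Cfsg.Agent.Lib.Helper13.TWSLeaf
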