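import Mathlib
import Cfsg.Prelude.Def_Classical
import Cfsg.Prelude.Def_ClassicalGeometry
import Cfsg.Prelude.Def_GeometricClasses
import Cfsg.Agent.Lib.Helper5.SUMax
import Cfsg.Agent.Lib.Helper22.C3LDefs
import Cfsg.Agent.Lib.Helper22.C3LTool
import Cfsg.Agent.Lib.Helper16.C3uDefs

/-!
Shared definitions for the rank-one unitary `C3` maximality (`GU_2(q^r).r < SU_{2r}(q)`, used for
`r = 5`, the conjunct (7) of S5840), helper13.  Built on helper16's `C3u.KU` and helper22's `C3L`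
toolkit.  `lam S v` is the `E`-linear functional `x ↦ fE x v`; for a subspace `W` of `V`,
`Bset S v₀ W = {e | e v₀ ∈ W}` and `Pset S v₀ W = {fE w v₀ | w ∈ W}`; `smulSub a Φ = a Φ`;
`SkewAdj S X` says that the `F`-linear map `X : E → E` is skew-adjoint for `⟨x, y⟩ = τ (x * st y)`;
`rk1 S π`, `sym2 S π π'` are the rank-one / rank-two maps `⟨·, π⟩ π` and `⟨·, π'⟩ π + ⟨·, π⟩ π'`.
-/

set_option autoImplicit false
set_option linter.unusedSectionVars false
set_option linter.unusedVariables false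

namespace Cfsg.Agent.Lib.Helper13.C3q
open Cfsg Matrix Module Cfsg.Agent.Lib.Helper5.SpMax Cfsg.Agent.Lib.Helper22.C3L
  Cfsg.Agent.Lib.Helper16.C3u

variable {F : Type*} [Field F] {n q : ℕ} {E : Type*} [Field E] [Algebra F E]

local notation "𝕍" => (Fin n → F)
local notation "𝕄" => Matrix (Fin n) (Fin n) F

/-- the `E`-linear functional `x ↦ fE x v` -/
def lam (S : KU n q F E) (v : 𝕍) : EFun S.ρ := ⟨S.phi v, fun e x => S.fE_act_left e x v⟩

@[simp] lemma lam_apply (S : KU n q F E) (v x : 𝕍) : lam S v x = S.fE x v := rfl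

lemma lam_self (S : KU n q F E) {v : 𝕍} (hv : S.fE v v = 0) : lam S v v = 0 := hv

/-- `B = {e | e v₀ ∈ W}` -/
def Bset (S : KU n q F E) (v₀ : 𝕍) (W : Submodule F 𝕍) : Submodule F E := W.comap (orb S.ρ v₀)

lemma mem_Bset {S : KU n q F E} {v₀ : 𝕍} {W : Submodule F 𝕍} {e : E} :
    e ∈ Bset S v₀ W ↔ act S.ρ e v₀ ∈ W := Iff.rfl

/-- `Φ = {fE w v₀ | w ∈ W}` -/
def Pset (S : KU n q F E) (v₀ : 𝕍) (W : Submodule F 𝕍) : Submodule F E := W.map (S.phi v₀)

lemma mem_Pset {S : KU n q F E} {v₀ : 𝕍} {W : Submodule F 𝕍} {φ : E} :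
    φ ∈ Pset S v₀ W ↔ ∃ w ∈ W, S.fE w v₀ = φ := by
  unfold Pset
  rw [Submodule.mem_map]
  rfl

/-- the subspace `a Φ` -/
def smulSub (a : E) (Φ : Submodule F E) : Submodule F E := Φ.map (LinearMap.mulLeft F a)

lemma mem_smulSub {a : E} {Φ : Submodule F E} {x : E} :
    x ∈ smulSub a Φ ↔ ∃ φ ∈ Φ, a * φ = x := by
  unfold smulSub
  rw [Submodule.mem_map]
  rfl

/-- `X` is skew-adjoint for the hermitian form `⟨x, y⟩ = τ (x * st y)` on `E` -/
def SkewAdj (S : KU n q F E) (X : E →ₗ[F] E) : Prop :=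
  ∀ x y, S.τ (X x * S.st y) + S.τ (x * S.st (X y)) = 0

/-- the rank-one map `e ↦ τ (st π * e) • π`; `c • rk1 S π` (`c ^ q = -c`) is skew-adjoint and
`1 + uX (c • rk1 S π)` is the unitary transvection `x ↦ x + (c * f(x, π v₀)) • π v₀` -/
def rk1 (S : KU n q F E) (π : E) : E →ₗ[F] E :=
  (S.τ.comp (LinearMap.mulLeft F (S.st π))).smulRight π

lemma rk1_apply (S : KU n q F E) (π e : E) : rk1 S π e = S.τ (S.st π * e) • π := rfl

/-- the rank-two map `e ↦ τ (st π' * e) • π + τ (st π * e) • π'` -/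
def sym2 (S : KU n q F E) (π π' : E) : E →ₗ[F] E :=
  (S.τ.comp (LinearMap.mulLeft F (S.st π'))).smulRight π +
    (S.τ.comp (LinearMap.mulLeft F (S.st π))).smulRight π'

lemma sym2_apply (S : KU n q F E) (π π' e : E) :
    sym2 S π π' e = S.τ (S.st π' * e) • π + S.τ (S.st π * e) • π' := rfl

/-- the `E`-transvection `kt v₀ a` is `1 + uXMat (a ·)` -/
lemma kt_eq_uX (S : KU n q F E) {v₀ : 𝕍} (hiso : S.fE v₀ v₀ = 0) (a : E) :
    ((S.kt v₀ a hiso : GL (Fin n) F) : 𝕄) = 1 + uXMat S.ρ (lam S v₀) v₀ (LinearMap.mulLeft F a) := by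
  apply mat_eq_of_mulVec
  intro x
  rw [S.kt_mulVec, Matrix.add_mulVec, Matrix.one_mulVec, uXMat_mulVec, LinearMap.mulLeft_apply,
    lam_apply]

/-- skew multiplications are in `XX` as soon as `M` contains the `E`-transvections -/
lemma mulLeft_mem_XX (S : KU n q F E) {M : Subgroup (GL (Fin n) F)} {v₀ : 𝕍}
    (hiso : S.fE v₀ v₀ = 0) {a : E} (h : S.kt v₀ a hiso ∈ M) :
    LinearMap.mulLeft F a ∈ XX S.ρ M (lam S v₀) v₀ (lam_self S hiso) :=
  mem_XX.mpr ⟨_, h, kt_eq_uX S hiso a⟩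

end Cfsg.Agent.Lib.Helper13.C3q
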