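import Mathlib
import Cfsg.Agent.Lib.Helper13.C3qDefs

/-!
Definitions for the module theorem MOD of the rank-one unitary `C3` maximality (S5840 conjunct (7)),
helper13: the twisted multiplications `tw a i : x ↦ a * φ^i x` (`φ` the Frobenius of `E/F`).
-/

set_option autoImplicit false
set_option linter.unusedSectionVars false
set_option linter.unusedVariables false

namespace Cfsg.Agent.Lib.Helper13.C3q
open Cfsg Matrix Module Cfsg.Agent.Lib.Helper16.C3u

variable {F : Type*} [Field F] [Fintype F] {n q : ℕ} {E : Type*} [Field E] [Algebra F E]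

/-- the Frobenius `x ↦ x ^ (card F)` of `E/F` -/
noncomputable abbrev fr (F E : Type*) [Field F] [Fintype F] [Field E] [Algebra F E] : E →ₐ[F] E :=
  FiniteField.frobeniusAlgHom F E

lemma fr_pow_apply (i : ℕ) (x : E) : (fr F E ^ i) x = x ^ (Fintype.card F ^ i) := by
  rw [AlgHom.coe_pow, FiniteField.coe_frobeniusAlgHom, pow_iterate]

lemma fr_pow_apply' (hF : Fintype.card F = q ^ 2) (i : ℕ) (x : E) :
    (fr F E ^ i) x = x ^ (q ^ (2 * i)) := by
  rw [fr_pow_apply, hF, ← pow_mul]

/-- the twisted multiplication `x ↦ a * φ^i x` -/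
noncomputable def tw (a : E) (i : ℕ) : E →ₗ[F] E :=
  LinearMap.mulLeft F a ∘ₗ (fr F E ^ i).toLinearMap

lemma tw_apply (a : E) (i : ℕ) (x : E) : (tw a i : E →ₗ[F] E) x = a * (fr F E ^ i) x := rfl

lemma tw_zero (a : E) : (tw a 0 : E →ₗ[F] E) = LinearMap.mulLeft F a := by
  ext x
  rw [tw_apply, pow_zero, AlgHom.one_apply, LinearMap.mulLeft_apply]

lemma tw_add (a b : E) (i : ℕ) : (tw (a + b) i : E →ₗ[F] E) = tw a i + tw b i := by
  ext x
  rw [LinearMap.add_apply, tw_apply, tw_apply, tw_apply, add_mul]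

lemma tw_neg (a : E) (i : ℕ) : (tw (-a) i : E →ₗ[F] E) = - tw a i := by
  ext x
  rw [LinearMap.neg_apply, tw_apply, tw_apply, neg_mul]

lemma tw_smul (s : F) (a : E) (i : ℕ) : (tw (s • a) i : E →ₗ[F] E) = s • tw a i := by
  ext x
  rw [LinearMap.smul_apply, tw_apply, tw_apply, smul_mul_assoc]

/-- the torus action on a twisted multiplication -/
lemma tw_conj (k k' a : E) (i : ℕ) :
    (LinearMap.mulLeft F k ∘ₗ (tw a i : E →ₗ[F] E) ∘ₗ LinearMap.mulLeft F k') =
      tw (k * (fr F E ^ i) k' * a) i := by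
  ext x
  simp only [LinearMap.comp_apply, LinearMap.mulLeft_apply, tw_apply, map_mul]
  ring

end Cfsg.Agent.Lib.Helper13.C3q
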