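/-
helper13: DEFECT-ONE cluster, PART O (planner helper27), leaf DO-ROOTCONJ `exists_conj_of_roots`
(helper6 `conj_of_induced_gen` with `H := C_G(P)`, then LOC2.3).
`exists_conj_of_roots_of` has LOC2.3 (for `θ'`) as a hypothesis.
-/
import Mathlib
import Cfsg.Prelude.Def_BlockRank
import Cfsg.Agent.Lib.Helper27.DODefs
import Cfsg.Agent.Lib.Helper27.BlkAlgDefs2
import Cfsg.Agent.Lib.Helper6.ExtFirstMain
import Cfsg.Agent.Lib.Helper13.DOROOT
import Cfsg.Agent.Lib.Helper22.DOLOC2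

set_option autoImplicit false

namespace Cfsg.Agent.Lib.Helper13.DOROOTCONJ

open Cfsg Cfsg.Agent.Lib.Helper8.DOM Cfsg.Agent.Lib.Helper27.DO Cfsg.Agent.Lib.Helper27.BlkAlg
open scoped ComplexConjugate

universe u

section loc

variable {G : Type u} [Group G] [Finite G] {p : ℕ} [Fact p.Prime] {M : Ideal AlgInt}

omit [Finite G] in
/-- `N_G(P)` normalizes `C_G(P)` -/
theorem Nz_le_normalizer_Cz (P : Subgroup G) :
    Subgroup.normalizer (P : Set G) ≤ Subgroup.normalizer ((Cz P : Subgroup G) : Set G) := by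
  intro n hn
  rw [Subgroup.mem_normalizer_iff]
  intro h
  constructor
  · intro hh
    exact conj_mem_Cz P hn hh
  · intro hh
    have h1 : n⁻¹ ∈ Nz P := inv_mem hn
    have := conj_mem_Cz P h1 hh
    simpa [mul_assoc] using this

/-- ROOTCONJ in `_of` form (LOC2.3 for `θ'` as a hypothesis). -/
theorem exists_conj_of_roots_of (hM : IsPModular p M) (P : Subgroup G) (hP : Nat.card P = p)
    (B : Set (IrrCharacter G)) (hB : IsPBlock M B)
    (hBP : IsDefectGroup p M B P) (θ θ' : IrrCharacter (Cz P))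
    (hθ : PTriv P (θ : Cz P → ℂ))
    (h : IsInducedBlock M (Cz P) (blockOf M (θ : Cz P → ℂ)) B)
    (h' : IsInducedBlock M (Cz P) (blockOf M (θ' : Cz P → ℂ)) B)
    (hloc : ∀ φ ∈ blockOf M (θ' : Cz P → ℂ), PTriv P (φ : Cz P → ℂ) → φ = θ') :
    ∃ n : Nz P, (θ' : Cz P → ℂ) = conjC P n (θ : Cz P → ℂ) := by
  have hprime : M.IsPrime := hM.2.1.isPrime
  have hPC : P ≤ Cz P := Cfsg.Agent.Lib.Helper13.DOROOT.le_Cz_of_card P hP
  have hHN : Cz P ≤ Subgroup.normalizer (P : Set G) := Subgroup.centralizer_le_normalizer _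
  obtain ⟨n, hn, hall⟩ := Cfsg.Agent.Lib.Helper6.ExtFirstMain.conj_of_induced_gen hM B hB P hBP (Cz P) hPC le_rfl
    hHN (Nz_le_normalizer_Cz P) _ _ h h'
  obtain ⟨θ'', hθ''mem, hθ''⟩ := hall θ (Cfsg.Agent.Lib.Helper6.mem_blockOf_self θ)
  have hfun : (θ'' : Cz P → ℂ) = conjC P ⟨n, hn⟩ (θ : Cz P → ℂ) := by
    funext c
    exact hθ'' c (conj_mem_Cz P hn c.2)
  have hPT : PTriv P (θ'' : Cz P → ℂ) := by
    intro x hx
    rw [hfun]
    unfold conjC
    have hx' : n * (x : G) * n⁻¹ ∈ P := by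
      have := (Subgroup.mem_normalizer_iff.mp hn (x : G)).mp hx
      simpa using this
    have h1 := hθ ⟨n * (x : G) * n⁻¹, conj_mem_Cz P hn x.2⟩ hx'
    have h2 : (⟨n * ((1 : Cz P) : G) * n⁻¹, conj_mem_Cz P hn (1 : Cz P).2⟩ : Cz P) = 1 := by
      apply Subtype.ext
      simp
    simp only
    rw [h1, h2]
  have heq : θ'' = θ' := hloc θ'' hθ''mem hPT
  refine ⟨⟨n, hn⟩, ?_⟩
  rw [← heq, hfun]

omit [Finite G] in
/-- a subgroup of prime order is generated by one element -/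
theorem exists_gen (P : Subgroup G) (hP : Nat.card P = p) : ∃ x0 : G, P = Subgroup.zpowers x0 := by
  have hp : p.Prime := Fact.out
  have : IsCyclic P := isCyclic_of_prime_card hP
  obtain ⟨g, hg⟩ := IsCyclic.exists_generator (α := P)
  refine ⟨(g : G), ?_⟩
  ext x
  constructor
  · intro hx
    obtain ⟨k, hk⟩ := Subgroup.mem_zpowers_iff.mp (hg ⟨x, hx⟩)
    rw [Subgroup.mem_zpowers_iff]
    refine ⟨k, ?_⟩
    have := congrArg Subtype.val hk
    simpa using this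
  · intro hx
    obtain ⟨k, rfl⟩ := Subgroup.mem_zpowers_iff.mp hx
    exact zpow_mem g.2 k

/-- ROOTCONJ : the roots of `B` are `N`-conjugate (extended first main theorem). -/
theorem exists_conj_of_roots (hM : IsPModular p M) (P : Subgroup G) (hP : Nat.card P = p)
    (hSyl : ¬ p ∣ P.index) (B : Set (IrrCharacter G)) (hB : IsPBlock M B)
    (hBP : IsDefectGroup p M B P) (θ θ' : IrrCharacter (Cz P))
    (hθ : PTriv P (θ : Cz P → ℂ)) (hθ' : PTriv P (θ' : Cz P → ℂ))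
    (h : IsInducedBlock M (Cz P) (blockOf M (θ : Cz P → ℂ)) B)
    (h' : IsInducedBlock M (Cz P) (blockOf M (θ' : Cz P → ℂ)) B) :
    ∃ n : Nz P, (θ' : Cz P → ℂ) = conjC P n (θ : Cz P → ℂ) := by
  obtain ⟨x0, hx0⟩ := exists_gen P hP
  exact exists_conj_of_roots_of hM P hP B hB hBP θ θ' hθ h h'
    (Cfsg.Agent.Lib.Helper22.DOLOC2.block_of_pTriv hM P hP hSyl x0 hx0 θ' hθ').2.2

end loc

end Cfsg.Agent.Lib.Helper13.DOROOTCONJ
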