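import Mathlib
import Cfsg.Agent.Lib.Helper25.TensDefs

/-!
Generic two-step-nilpotent block calculus on `Idx a b = Fin a × Fin b` (blocks `blk X k l`, `k l : Fin b`),
for the unipotent radical `U^R` of the stabiliser of `R = A ⊗ L`, `L = span (e_k : k ∈ T)`, with
`L* = span (e_l : l ∈ Bt)` (`T`, `Bt` disjoint index sets of `B`): a matrix has `U`-form (`UFS T Bt X`) iff `X - 1`
is supported on the FREE block positions `(k, l)`: `(k ∈ T ∧ l ∉ T) ∨ (l ∈ Bt ∧ k ∉ Bt)`.
Prepared for S5681 / S5709 part (LA'); generalises `Helper25.SpT.UF` (`T = {o}`, `Bt = {o'}`).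
-/

set_option autoImplicit false
set_option linter.unusedSectionVars false
set_option linter.unusedVariables false

namespace Cfsg.Agent.Lib.Helper13.OTU
open Matrix
open Cfsg.Agent.Lib.Helper25.Tens
open scoped Kronecker

variable {F : Type*} [Field F] {a b : ℕ}

/-- free block positions of `U^R` -/
def Free (T Bt : Finset (Fin b)) (k l : Fin b) : Prop := (k ∈ T ∧ l ∉ T) ∨ (l ∈ Bt ∧ k ∉ Bt)

/-- corner block positions -/
def Corner (T Bt : Finset (Fin b)) (k l : Fin b) : Prop := k ∈ T ∧ l ∈ Bt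

/-- supported on the free positions -/
def SuppF (T Bt : Finset (Fin b)) (N : Matrix (Idx a b) (Idx a b) F) : Prop :=
  ∀ k l : Fin b, ¬ Free T Bt k l → blk N k l = 0

/-- supported on the corner positions -/
def SuppC (T Bt : Finset (Fin b)) (N : Matrix (Idx a b) (Idx a b) F) : Prop :=
  ∀ k l : Fin b, ¬ Corner T Bt k l → blk N k l = 0

/-- `U`-form -/
def UFS (T Bt : Finset (Fin b)) (X : Matrix (Idx a b) (Idx a b) F) : Prop :=
  ∀ k l : Fin b, ¬ Free T Bt k l → blk X k l = if k = l then 1 else 0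

lemma not_free_diag (T Bt : Finset (Fin b)) (k : Fin b) : ¬ Free T Bt k k := by
  rintro (⟨h1, h2⟩ | ⟨h1, h2⟩) <;> exact h2 h1

lemma free_of_corner {T Bt : Finset (Fin b)} (hd : Disjoint T Bt) {k l : Fin b}
    (h : Corner T Bt k l) : Free T Bt k l :=
  Or.inl ⟨h.1, fun hl => Finset.disjoint_left.1 hd hl h.2⟩

lemma blk_neg (X : Matrix (Idx a b) (Idx a b) F) (k l : Fin b) : blk (-X) k l = -blk X k l := rfl

lemma blk_zero (k l : Fin b) : blk (0 : Matrix (Idx a b) (Idx a b) F) k l = 0 := rfl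

lemma blk_smul (c : F) (X : Matrix (Idx a b) (Idx a b) F) (k l : Fin b) :
    blk (c • X) k l = c • blk X k l := rfl

lemma UFS_iff (T Bt : Finset (Fin b)) (X : Matrix (Idx a b) (Idx a b) F) :
    UFS T Bt X ↔ SuppF T Bt (X - 1) := by
  constructor
  · intro h k l hkl
    rw [blk_sub, h k l hkl, blk_one, sub_self]
  · intro h k l hkl
    have := h k l hkl
    rw [blk_sub, blk_one, sub_eq_zero] at this
    exact this

lemma SuppF.add {T Bt : Finset (Fin b)} {N N' : Matrix (Idx a b) (Idx a b) F}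
    (h : SuppF T Bt N) (h' : SuppF T Bt N') : SuppF T Bt (N + N') := by
  intro k l hkl
  rw [blk_add, h k l hkl, h' k l hkl, add_zero]

lemma SuppF.neg {T Bt : Finset (Fin b)} {N : Matrix (Idx a b) (Idx a b) F}
    (h : SuppF T Bt N) : SuppF T Bt (-N) := by
  intro k l hkl
  rw [blk_neg, h k l hkl, neg_zero]

lemma SuppF.sub {T Bt : Finset (Fin b)} {N N' : Matrix (Idx a b) (Idx a b) F}
    (h : SuppF T Bt N) (h' : SuppF T Bt N') : SuppF T Bt (N - N') := by
  intro k l hkl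
  rw [blk_sub, h k l hkl, h' k l hkl, sub_zero]

lemma SuppF.smul {T Bt : Finset (Fin b)} {N : Matrix (Idx a b) (Idx a b) F}
    (h : SuppF T Bt N) (c : F) : SuppF T Bt (c • N) := by
  intro k l hkl
  rw [blk_smul, h k l hkl, smul_zero]

lemma SuppF.zero (T Bt : Finset (Fin b)) : SuppF T Bt (0 : Matrix (Idx a b) (Idx a b) F) :=
  fun _ _ _ => rfl

lemma SuppC.suppF {T Bt : Finset (Fin b)} (hd : Disjoint T Bt) {N : Matrix (Idx a b) (Idx a b) F}
    (h : SuppC T Bt N) : SuppF T Bt N :=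
  fun k l hkl => h k l (fun hc => hkl (free_of_corner hd hc))

/-- the product of two free-supported matrices is corner-supported, with the explicit corner blocks -/
lemma SuppF.mul {T Bt : Finset (Fin b)} (hd : Disjoint T Bt) {N N' : Matrix (Idx a b) (Idx a b) F}
    (h : SuppF T Bt N) (h' : SuppF T Bt N') :
    SuppC T Bt (N * N') ∧ ∀ k l : Fin b, blk (N * N') k l =
      ∑ m, (if m ∈ T ∨ m ∈ Bt then 0 else blk N k m * blk N' m l) := by
  have key : ∀ k l m : Fin b, blk N k m * blk N' m l ≠ 0 → (k ∈ T ∧ l ∈ Bt ∧ m ∉ T ∧ m ∉ Bt) := by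
    intro k l m hne
    have h1 : Free T Bt k m := by
      by_contra hc
      exact hne (by rw [h k m hc, zero_mul])
    have h2 : Free T Bt m l := by
      by_contra hc
      exact hne (by rw [h' m l hc, mul_zero])
    rcases h1 with ⟨hk, hm⟩ | ⟨hm, hk⟩
    · rcases h2 with ⟨hm', _⟩ | ⟨hl, hm'⟩
      · exact absurd hm' hm
      · exact ⟨hk, hl, hm, hm'⟩
    · rcases h2 with ⟨hm', _⟩ | ⟨_, hm'⟩
      · exact absurd hm (fun hmB => Finset.disjoint_left.1 hd hm' hmB)
      · exact absurd hm hm'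
  constructor
  · intro k l hkl
    rw [blk_mul]
    apply Finset.sum_eq_zero
    intro m _
    by_contra hne
    obtain ⟨hk, hl, -, -⟩ := key k l m hne
    exact hkl ⟨hk, hl⟩
  · intro k l
    rw [blk_mul]
    apply Finset.sum_congr rfl
    intro m _
    by_cases hm : m ∈ T ∨ m ∈ Bt
    · rw [if_pos hm]
      by_contra hne
      obtain ⟨-, -, hm1, hm2⟩ := key k l m hne
      rcases hm with hm | hm
      · exact hm1 hm
      · exact hm2 hm
    · rw [if_neg hm]

/-- corner-supported times free-supported is zero -/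
lemma SuppC.mul_suppF {T Bt : Finset (Fin b)} (hd : Disjoint T Bt)
    {C N : Matrix (Idx a b) (Idx a b) F} (hC : SuppC T Bt C) (hN : SuppF T Bt N) : C * N = 0 := by
  apply ext_blk
  intro k l
  rw [blk_mul, blk_zero]
  apply Finset.sum_eq_zero
  intro m _
  by_cases h1 : Corner T Bt k m
  · have h2 : ¬ Free T Bt m l := by
      rintro (⟨hm, _⟩ | ⟨_, hm⟩)
      · exact Finset.disjoint_left.1 hd hm h1.2
      · exact hm h1.2
    rw [hN m l h2, mul_zero]
  · rw [hC k m h1, zero_mul]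

/-- free-supported times corner-supported is zero -/
lemma SuppF.mul_suppC {T Bt : Finset (Fin b)} (hd : Disjoint T Bt)
    {C N : Matrix (Idx a b) (Idx a b) F} (hN : SuppF T Bt N) (hC : SuppC T Bt C) : N * C = 0 := by
  apply ext_blk
  intro k l
  rw [blk_mul, blk_zero]
  apply Finset.sum_eq_zero
  intro m _
  by_cases h1 : Corner T Bt m l
  · have h2 : ¬ Free T Bt k m := by
      rintro (⟨_, hm⟩ | ⟨hm, _⟩)
      · exact hm h1.1
      · exact Finset.disjoint_left.1 hd h1.1 hm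
    rw [hN k m h2, zero_mul]
  · rw [hC m l h1, mul_zero]

/-- triple products vanish -/
lemma SuppF.mul_mul {T Bt : Finset (Fin b)} (hd : Disjoint T Bt)
    {N N' N'' : Matrix (Idx a b) (Idx a b) F} (h : SuppF T Bt N) (h' : SuppF T Bt N')
    (h'' : SuppF T Bt N'') : N * N' * N'' = 0 :=
  (h.mul hd h').1.mul_suppF hd h''

/-! ### the group structure on `U`-form matrices -/

lemma UFS_one (T Bt : Finset (Fin b)) : UFS T Bt (1 : Matrix (Idx a b) (Idx a b) F) :=
  fun k l _ => blk_one k l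

/-- product of `U`-form matrices, with all blocks -/
theorem UFS_mul {T Bt : Finset (Fin b)} (hd : Disjoint T Bt) {X Y : Matrix (Idx a b) (Idx a b) F}
    (hX : UFS T Bt X) (hY : UFS T Bt Y) :
    UFS T Bt (X * Y) ∧ X * Y - 1 = (X - 1) + (Y - 1) + (X - 1) * (Y - 1) ∧
      SuppC T Bt ((X - 1) * (Y - 1)) := by
  have hN := (UFS_iff T Bt X).1 hX
  have hN' := (UFS_iff T Bt Y).1 hY
  have e : X * Y - 1 = (X - 1) + (Y - 1) + (X - 1) * (Y - 1) := by noncomm_ring
  obtain ⟨hC, -⟩ := hN.mul hd hN'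
  refine ⟨?_, e, hC⟩
  rw [UFS_iff, e]
  exact (hN.add hN').add (hC.suppF hd)

/-- the non-corner blocks of a product of `U`-form matrices -/
theorem blk_mul_UFS_off {T Bt : Finset (Fin b)} (hd : Disjoint T Bt)
    {X Y : Matrix (Idx a b) (Idx a b) F} (hX : UFS T Bt X) (hY : UFS T Bt Y) (k l : Fin b)
    (hkl : ¬ Corner T Bt k l) :
    blk (X * Y) k l = blk X k l + blk Y k l - (if k = l then 1 else 0) := by
  obtain ⟨-, e, hC⟩ := UFS_mul hd hX hY
  have e1 : blk (X * Y) k l = blk (X * Y - 1) k l + (if k = l then 1 else 0) := by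
    rw [blk_sub, blk_one, sub_add_cancel]
  rw [e1, e, blk_add, blk_add, blk_sub, blk_sub, blk_one, hC k l hkl]
  abel

/-- the corner blocks of a product of `U`-form matrices -/
theorem blk_mul_UFS_corner {T Bt : Finset (Fin b)} (hd : Disjoint T Bt)
    {X Y : Matrix (Idx a b) (Idx a b) F} (hX : UFS T Bt X) (hY : UFS T Bt Y) (k l : Fin b)
    (hkl : Corner T Bt k l) :
    blk (X * Y) k l = blk X k l + blk Y k l +
      ∑ m, (if m ∈ T ∨ m ∈ Bt then 0 else blk X k m * blk Y m l) := by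
  have hN := (UFS_iff T Bt X).1 hX
  have hN' := (UFS_iff T Bt Y).1 hY
  obtain ⟨-, e, -⟩ := UFS_mul hd hX hY
  obtain ⟨-, hsum⟩ := hN.mul hd hN'
  have hne : k ≠ l := fun h => Finset.disjoint_left.1 hd hkl.1 (h ▸ hkl.2)
  have e1 : blk (X * Y) k l = blk (X * Y - 1) k l := by
    rw [blk_sub, blk_one, if_neg hne, sub_zero]
  rw [e1, e, blk_add, blk_add, blk_sub, blk_sub, blk_one, if_neg hne, sub_zero, sub_zero, hsum k l]
  congr 1
  apply Finset.sum_congr rfl
  intro m _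
  by_cases hm : m ∈ T ∨ m ∈ Bt
  · rw [if_pos hm, if_pos hm]
  · rw [if_neg hm, if_neg hm]
    have hmid := not_or.1 hm
    have hkm : k ≠ m := fun h => hmid.1 (h ▸ hkl.1)
    have hml : m ≠ l := fun h => hmid.2 (h ▸ hkl.2)
    rw [blk_sub, blk_sub, blk_one, blk_one, if_neg hkm, if_neg hml, sub_zero, sub_zero]

/-- the inverse of a `U`-form matrix: `(1 + N)⁻¹ = 1 - N + N²` -/
theorem UFS_inv {T Bt : Finset (Fin b)} (hd : Disjoint T Bt) (g : GL (Idx a b) F)
    (hg : UFS T Bt g.1) :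
    UFS T Bt (g⁻¹).1 ∧ (g⁻¹).1 - 1 = -(g.1 - 1) + (g.1 - 1) * (g.1 - 1) := by
  have hN := (UFS_iff T Bt g.1).1 hg
  obtain ⟨hC, -⟩ := hN.mul hd hN
  have h3 : (g.1 - 1) * (g.1 - 1) * (g.1 - 1) = 0 := hN.mul_mul hd hN hN
  have hZ : g.1 * (1 - (g.1 - 1) + (g.1 - 1) * (g.1 - 1)) = 1 := by
    have e : g.1 * (1 - (g.1 - 1) + (g.1 - 1) * (g.1 - 1)) =
        1 + (g.1 - 1) * (g.1 - 1) * (g.1 - 1) := by noncomm_ring
    rw [e, h3, add_zero]
  have hinv : (g⁻¹).1 = 1 - (g.1 - 1) + (g.1 - 1) * (g.1 - 1) := Units.inv_eq_of_mul_eq_one_right hZ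
  have e2 : (g⁻¹).1 - 1 = -(g.1 - 1) + (g.1 - 1) * (g.1 - 1) := by
    rw [hinv]
    noncomm_ring
  refine ⟨?_, e2⟩
  rw [UFS_iff, e2]
  exact hN.neg.add (hC.suppF hd)

/-- non-corner blocks of the inverse -/
theorem blk_inv_UFS_off {T Bt : Finset (Fin b)} (hd : Disjoint T Bt) (g : GL (Idx a b) F)
    (hg : UFS T Bt g.1) (k l : Fin b) (hkl : ¬ Corner T Bt k l) :
    blk (g⁻¹).1 k l = (if k = l then 2 else 0) - blk g.1 k l := by
  have hN := (UFS_iff T Bt g.1).1 hg
  obtain ⟨hC, -⟩ := hN.mul hd hN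
  obtain ⟨-, e⟩ := UFS_inv hd g hg
  have e1 : blk (g⁻¹).1 k l = blk ((g⁻¹).1 - 1) k l + (if k = l then 1 else 0) := by
    rw [blk_sub, blk_one, sub_add_cancel]
  rw [e1, e, blk_add, blk_neg, blk_sub, blk_one, hC k l hkl]
  by_cases h : k = l
  · rw [if_pos h, if_pos h]
    rw [show (2 : Matrix (Fin a) (Fin a) F) = 1 + 1 by norm_num]
    abel
  · rw [if_neg h, if_neg h]
    abel

/-- conjugation by `α ⊗ 1` acts blockwise -/
lemma blk_conj_kel (α : GL (Fin a) F) (X : Matrix (Idx a b) (Idx a b) F) (k l : Fin b) :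
    blk ((kel α (1 : GL (Fin b) F)).1 * X * ((kel α (1 : GL (Fin b) F))⁻¹).1) k l =
      α.1 * blk X k l * (α⁻¹).1 := by
  have hinv : ((kel α (1 : GL (Fin b) F))⁻¹).1 = (α⁻¹).1 ⊗ₖ (1 : Matrix (Fin b) (Fin b) F) := by
    change ((α⁻¹ : GL (Fin a) F) : Matrix (Fin a) (Fin a) F) ⊗ₖ
      (((1 : GL (Fin b) F)⁻¹ : GL (Fin b) F) : Matrix (Fin b) (Fin b) F) = _
    rw [inv_one, Units.val_one]
  rw [hinv, kel_val, Units.val_one, blk_mul, Finset.sum_eq_single l]
  · rw [blk_kron, Matrix.one_apply_eq, one_smul, blk_mul, Finset.sum_eq_single k]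
    · rw [blk_kron, Matrix.one_apply_eq, one_smul]
    · intro m _ hm
      rw [blk_kron, Matrix.one_apply_ne (Ne.symm hm), zero_smul, zero_mul]
    · intro h
      exact absurd (Finset.mem_univ _) h
  · intro m _ hm
    rw [blk_kron, Matrix.one_apply_ne hm, zero_smul, mul_zero]
  · intro h
    exact absurd (Finset.mem_univ _) h

/-- conjugation by `α ⊗ 1` preserves the `U`-form -/
theorem UFS_conj_kel {T Bt : Finset (Fin b)} (α : GL (Fin a) F)
    {X : Matrix (Idx a b) (Idx a b) F} (hX : UFS T Bt X) :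
    UFS T Bt ((kel α (1 : GL (Fin b) F)).1 * X * ((kel α (1 : GL (Fin b) F))⁻¹).1) := by
  intro k l hkl
  rw [blk_conj_kel, hX k l hkl]
  by_cases h : k = l
  · rw [if_pos h, mul_one, ← Units.val_mul, mul_inv_cancel, Units.val_one]
  · rw [if_neg h, mul_zero, zero_mul]

end Cfsg.Agent.Lib.Helper13.OTU
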