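import Mathlib
import Cfsg.Agent.Lib.Helper2.SOTDefs
import Cfsg.Agent.Lib.Helper27.SOTLADefs
import Cfsg.Agent.Lib.Helper13.OTUCalc

/-!
S5681 + S5709 (`O_a ⊗ O_b` maximal in `Ω_{ab}(q)`, `q` odd), PART (LA') = local analysis at a totally singular
line `L` of the root side `B` (paper proof: `notes/S5681_LA_plan.md`, lead; sub-market of helper13).

Definitions, in ADAPTED coordinates: `o, o', p, p' : Fin b` distinct, `L = ⟨e_o, e_o'⟩`, `L* = ⟨e_p, e_p'⟩`,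
`G₂ e_o = e_p`, `G₂ e_o' = e_p'` (`Adp`), "mid" = the other indices (`B₀`).  `R = A ⊗ L`.
Matrices on `Idx a b` are handled through their `B`-blocks `blk X k l` (`a × a`; helper25 `Tens`).
The forms on `A` are handled with helper27's `SOTLA` vocabulary at `(Fin a, G₁)`: `fB G₁`, `rk1 G₁ u v = u v^♭`,
`refl G₁ d`, `adjB G₁ σ = σ†`, `IsSelfAdj`, `IsSkewAdj`, `IsOrthB`, `IsScal`.
`Om` is an ABSTRACT subgroup playing the role of `omegaGL`; the facts about it are FIELDS of `LCtx`.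
-/

set_option autoImplicit false
set_option linter.unusedSectionVars false
set_option linter.unusedVariables false

namespace Cfsg.Agent.Lib.Helper13.OTLA
open Matrix
open Cfsg.Agent.Lib.Helper25.Tens Cfsg.Agent.Lib.Helper19.OSub
open Cfsg.Agent.Lib.Helper2.SOT Cfsg.Agent.Lib.Helper27.SOTLA Cfsg.Agent.Lib.Helper13.OTU
open scoped Kronecker

variable {F : Type*} [Field F] {a b : ℕ}

/-- the Gram matrix `G₁ ⊗ G₂` of the form on `V = A ⊗ B` -/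
def KM (G₁ : Matrix (Fin a) (Fin a) F) (G₂ : Matrix (Fin b) (Fin b) F) :
    Matrix (Idx a b) (Idx a b) F := G₁ ⊗ₖ G₂

/-- the form on `V` -/
def fW (G₁ : Matrix (Fin a) (Fin a) F) (G₂ : Matrix (Fin b) (Fin b) F) (v w : Idx a b → F) : F :=
  v ⬝ᵥ (KM G₁ G₂ *ᵥ w)

/-- `X` is an isometry of `fW G₁ G₂` (matrix form) -/
def IsIso (G₁ : Matrix (Fin a) (Fin a) F) (G₂ : Matrix (Fin b) (Fin b) F)
    (X : Matrix (Idx a b) (Idx a b) F) : Prop := Xᵀ * KM G₁ G₂ * X = KM G₁ G₂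

/-- `G₂` is adapted to `(o, o', p, p')`: `e_o, e_p` and `e_o', e_p'` are two orthogonal hyperbolic pairs,
orthogonal to the other basis vectors (rows; the columns follow from the symmetry of `G₂`) -/
structure Adp (G₂ : Matrix (Fin b) (Fin b) F) (o o' p p' : Fin b) : Prop where
  hoo' : o ≠ o'
  hop : o ≠ p
  hop' : o ≠ p'
  ho'p : o' ≠ p
  ho'p' : o' ≠ p'
  hpp' : p ≠ p'
  row_o : ∀ k : Fin b, G₂ o k = if k = p then 1 else 0
  row_o' : ∀ k : Fin b, G₂ o' k = if k = p' then 1 else 0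
  row_p : ∀ k : Fin b, G₂ p k = if k = o then 1 else 0
  row_p' : ∀ k : Fin b, G₂ p' k = if k = o' then 1 else 0

/-- the index set of `L` -/
def TL (o o' : Fin b) : Finset (Fin b) := {o, o'}

/-- middle indices (`B₀`) -/
def IsMid (o o' p p' m : Fin b) : Prop := m ≠ o ∧ m ≠ o' ∧ m ≠ p ∧ m ≠ p'

/-- `U`-form for `R = A ⊗ L` (unipotent radical of the stabiliser of `R`) -/
def UL (o o' p p' : Fin b) (X : Matrix (Idx a b) (Idx a b) F) : Prop := UFS (TL o o') (TL p p') X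

/-- the general corner element `1 + κ₁⊗E_{o,p} + σ⊗E_{o,p'} + τ⊗E_{o',p} + κ₂⊗E_{o',p'}` -/
def Zm (o o' p p' : Fin b) (κ₁ κ₂ σ τ : Matrix (Fin a) (Fin a) F) : Matrix (Idx a b) (Idx a b) F :=
  1 + κ₁ ⊗ₖ (Matrix.single o p (1 : F)) + σ ⊗ₖ (Matrix.single o p' (1 : F)) +
    τ ⊗ₖ (Matrix.single o' p (1 : F)) + κ₂ ⊗ₖ (Matrix.single o' p' (1 : F))

/-- `Z(κ₁, κ₂, σ)`: the corner element with `τ = -σ†` (an isometry iff `κ₁`, `κ₂` are skew-adjoint) -/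
noncomputable def Zc (G₁ : Matrix (Fin a) (Fin a) F) (o o' p p' : Fin b)
    (κ₁ κ₂ σ : Matrix (Fin a) (Fin a) F) : Matrix (Idx a b) (Idx a b) F :=
  Zm o o' p p' κ₁ κ₂ σ (-(adjB G₁ σ))

/-- the torus `β_{t₁,t₂}` of `O(B)`: `e_o ↦ t₁ e_o`, `e_o' ↦ t₂ e_o'`, `e_p ↦ t₁⁻¹ e_p`, `e_p' ↦ t₂⁻¹ e_p'` -/
def torB (o o' p p' : Fin b) (t₁ t₂ : F) : Matrix (Fin b) (Fin b) F :=
  Matrix.diagonal (fun k => if k = o then t₁ else if k = o' then t₂ else if k = p then t₁⁻¹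
    else if k = p' then t₂⁻¹ else 1)

/-- `x_L(c) = 1 + c (E_{o,o'} - E_{p',p})` (root element of `SL(L) ≤ O(B)`) -/
def xL (o o' p p' : Fin b) (c : F) : Matrix (Fin b) (Fin b) F :=
  1 + c • (Matrix.single o o' (1 : F) - Matrix.single p' p (1 : F))

/-- `x_L^-(c) = 1 + c (E_{o',o} - E_{p,p'})` -/
def xLm (o o' p p' : Fin b) (c : F) : Matrix (Fin b) (Fin b) F :=
  1 + c • (Matrix.single o' o (1 : F) - Matrix.single p p' (1 : F))

/-- `n = E_{o,p'} - E_{o',p}`: `ρ_{e_o,e_o'}(c) = 1 + c n`, `X_L = {1 ⊗ (1 + c n)}` -/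
def nL (o o' p p' : Fin b) : Matrix (Fin b) (Fin b) F :=
  Matrix.single o p' (1 : F) - Matrix.single o' p (1 : F)

/-- `g` stabilises `R = A ⊗ L` (block form) -/
def StabR (o o' : Fin b) (X : Matrix (Idx a b) (Idx a b) F) : Prop :=
  ∀ k l : Fin b, (l = o ∨ l = o') → k ≠ o → k ≠ o' → blk X k l = 0

/-- `v ∈ R = A ⊗ L` -/
def InR (o o' : Fin b) (v : Idx a b → F) : Prop := ∀ (i : Fin a) (k : Fin b), k ≠ o → k ≠ o' → v (i, k) = 0

/-- the wedge `e ∧ d = e d^♭ - d e^♭` (skew-adjoint of rank `2`) -/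
def wdg (G₁ : Matrix (Fin a) (Fin a) F) (e d : Fin a → F) : Matrix (Fin a) (Fin a) F :=
  rk1 G₁ e d - rk1 G₁ d e

/-- exit of type (S): `M` contains the root group `T_{z⊗e_o, z⊗e_o'}`, `z ≠ 0` singular in `A` -/
def ExitS (G₁ : Matrix (Fin a) (Fin a) F) (o o' p p' : Fin b) (M : Subgroup (GL (Idx a b) F)) : Prop :=
  ∃ z : Fin a → F, z ≠ 0 ∧ fB G₁ z z = 0 ∧ ∀ c : F, InM M (Zc G₁ o o' p p' 0 0 (c • rk1 G₁ z z))

/-- exit of type (L+): `M` contains the root groups `T_{e⊗e_o, d⊗e_o}` for ONE nonsingular `d` and ALL `e ⊥ d` -/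
def ExitL (G₁ : Matrix (Fin a) (Fin a) F) (o o' p p' : Fin b) (M : Subgroup (GL (Idx a b) F)) : Prop :=
  ∃ d : Fin a → F, fB G₁ d d ≠ 0 ∧ ∀ e : Fin a → F, fB G₁ d e = 0 → ∀ c : F,
    InM M (Zc G₁ o o' p p' (c • wdg G₁ e d) 0 0)

/-- class of an index of `B`: `0` for `L` (`o, o'`), `2` for `L*` (`p, p'`), `1` for the middle indices (`B₀`) -/
def cls (o o' p p' k : Fin b) : ℕ := if k = o ∨ k = o' then 0 else if k = p ∨ k = p' then 2 else 1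

/-- block upper triangular with respect to the flag `R = A ⊗ L ≤ R^⊥ = A ⊗ (L + B₀) ≤ V` -/
def BUT (o o' p p' : Fin b) (X : Matrix (Idx a b) (Idx a b) F) : Prop :=
  ∀ k l : Fin b, cls o o' p p' l < cls o o' p p' k → blk X k l = 0

/-- the Levi (block diagonal) part of `X`: the blocks `(k, l)` with `cls k = cls l` -/
def levi (o o' p p' : Fin b) (X : Matrix (Idx a b) (Idx a b) F) : Matrix (Idx a b) (Idx a b) F :=
  Matrix.of fun x y => if cls o o' p p' x.2 = cls o o' p p' y.2 then X x y else 0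

/-- the dual index `l^∧` (`o^∧ = p`, `o'^∧ = p'`) -/
def dl (o o' p p' l : Fin b) : Fin b := if l = o then p else if l = o' then p' else l

/-- `v ∈ B₀` -/
def IsB0 (o o' p p' : Fin b) (v : Fin b → F) : Prop := v o = 0 ∧ v o' = 0 ∧ v p = 0 ∧ v p' = 0

/-- the conclusion of (R1): `M ∩ Z_R = X_L` -/
def R1P (G₁ : Matrix (Fin a) (Fin a) F) (o o' p p' : Fin b) (M : Subgroup (GL (Idx a b) F)) : Prop :=
  ∀ κ₁ κ₂ σ : Matrix (Fin a) (Fin a) F, InM M (Zc G₁ o o' p p' κ₁ κ₂ σ) → κ₁ = 0 ∧ κ₂ = 0 ∧ IsScal σ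

/-- the LOCAL BASE context at the adapted line `L = ⟨e_o, e_o'⟩`; `Om` plays the role of `omegaGL`
(common to the unswapped cases and to the swapped case `n₂ = 4` of S5709) -/
structure LBase [Fintype F] (G₁ : Matrix (Fin a) (Fin a) F) (G₂ : Matrix (Fin b) (Fin b) F)
    (o o' p p' : Fin b) (Om M : Subgroup (GL (Idx a b) F)) : Prop where
  symm1 : G₁ᵀ = G₁
  symm2 : G₂ᵀ = G₂
  nd1 : G₁.det ≠ 0
  nd2 : G₂.det ≠ 0
  two : (2 : F) ≠ 0
  ha : 3 ≤ a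
  hb : 5 ≤ b
  ndvd : ¬ b ∣ a
  adp : Adp G₂ o o' p p'
  le : KG a b F ⊓ Om ≤ M
  le_om : M ≤ Om
  /-- `Om` consists of isometries -/
  om_iso : ∀ g ∈ Om, IsIso G₁ G₂ g.1
  /-- (Ω-C) isometries of `U`-form are in `Om` -/
  om_uform : ∀ g : GL (Idx a b) F, IsIso G₁ G₂ g.1 → UL o o' p p' g.1 → g ∈ Om
  /-- (Ω-B) -/
  om_tor : ∀ t : F, t ≠ 0 → ∃ β : GL (Fin b) F, β.1 = torB o o' p p' t t ∧
    (kel (1 : GL (Fin a) F) β : GL (Idx a b) F) ∈ Om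
  om_xL : ∀ c : F, ∃ β : GL (Fin b) F, β.1 = xL o o' p p' c ∧
    (kel (1 : GL (Fin a) F) β : GL (Idx a b) F) ∈ Om
  om_xLm : ∀ c : F, ∃ β : GL (Fin b) F, β.1 = xLm o o' p p' c ∧
    (kel (1 : GL (Fin a) F) β : GL (Idx a b) F) ∈ Om
  /-- (Ω-D) `Om`-controlled transitivity on totally singular lines -/
  om_trans : ∀ y z : Fin b → F, fB G₂ y y = 0 → fB G₂ z z = 0 → fB G₂ y z = 0 →
    (∀ c₁ c₂ : F, c₁ • y + c₂ • z = 0 → c₁ = 0 ∧ c₂ = 0) →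
    ∃ β : GL (Fin b) F, (kel (1 : GL (Fin a) F) β : GL (Idx a b) F) ∈ Om ∧
      ∃ c₁ c₂ c₃ c₄ : F, β.1 *ᵥ Pi.single o 1 = c₁ • y + c₂ • z ∧
        β.1 *ᵥ Pi.single o' 1 = c₃ • y + c₄ • z

/-- the LOCAL context of the unswapped cases (S5681; S5709 with `n₂ ≥ 6`): `LBase` + `lemmaSA`'s exception +
(Ω-A) = (INV-R), the compensated reflections -/
structure LCtx [Fintype F] (G₁ : Matrix (Fin a) (Fin a) F) (G₂ : Matrix (Fin b) (Fin b) F)
    (o o' p p' : Fin b) (Om M : Subgroup (GL (Idx a b) F)) : Prop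
    extends LBase G₁ G₂ o o' p p' Om M where
  hex : ¬ (Fintype.card F = 3 ∧ a = 3)
  /-- (Ω-A) = (INV-R): compensated reflections -/
  om_refl : ∀ d : Fin a → F, fB G₁ d d ≠ 0 → ∃ (t ε : F) (α : GL (Fin a) F) (β : GL (Fin b) F),
    t ≠ 0 ∧ ε ≠ 0 ∧ α.1 = ε • refl G₁ d ∧ β.1 = torB o o' p p' t 1 ∧
    (kel α β : GL (Idx a b) F) ∈ Om

end Cfsg.Agent.Lib.Helper13.OTLA
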