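/-
helper13: S4861 market (planner helper12), leaf G3 `exists_inverted_hom`.
-/
import Mathlib
import Cfsg.Agent.Lib.Helper12.RealPDefs

set_option autoImplicit false

namespace Cfsg.Agent.Lib.Helper13.RealP

universe u

variable {G : Type u} [Group G] [Finite G]

/-- a power of a `2`-element is a `2`-element -/
theorem two_elt_pow (t₀ : G) (ht₀ : ∃ k : ℕ, orderOf t₀ = 2 ^ k) (n : ℕ) :
    ∃ k : ℕ, orderOf (t₀ ^ n) = 2 ^ k := by
  obtain ⟨k, hk⟩ := ht₀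
  have h : orderOf (t₀ ^ n) ∣ 2 ^ k := by
    rw [← hk]
    exact orderOf_pow_dvd n
  obtain ⟨j, _, hj⟩ := (Nat.dvd_prime_pow Nat.prime_two).1 h
  exact ⟨j, hj⟩

/-- the `n`-th power acts by the `n`-fold iterate of conjugation -/
theorem conj_pow_eq (t : G) (n : ℕ) (m : G) :
    t ^ n * m * (t ^ n)⁻¹ = (fun x => t * x * t⁻¹)^[n] m := by
  induction n generalizing m with
  | zero => simp
  | succ n ih =>
    rw [Function.iterate_succ_apply, ← ih, pow_succ]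
    group

/-- some power `t` of `t₀` acts non-trivially on `M` while `t²` acts trivially -/
theorem exists_pow_involutive (M : Subgroup G) (t₀ : G)
    (ht₀ : ∃ k : ℕ, orderOf t₀ = 2 ^ k) (hnc : ∃ m ∈ M, t₀ * m * t₀⁻¹ ≠ m) :
    ∃ n : ℕ, (∃ m ∈ M, t₀ ^ n * m * (t₀ ^ n)⁻¹ ≠ m) ∧
      ∀ m ∈ M, (t₀ ^ n) ^ 2 * m * ((t₀ ^ n) ^ 2)⁻¹ = m := by
  obtain ⟨k, hk⟩ := ht₀
  -- the least `j` such that `t₀ ^ (2 ^ j)` centralises `M`
  have hex : ∃ j : ℕ, ∀ m ∈ M, t₀ ^ (2 ^ j) * m * (t₀ ^ (2 ^ j))⁻¹ = m := by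
    refine ⟨k, fun m _ => ?_⟩
    rw [← hk, pow_orderOf_eq_one]
    simp
  classical
  have hmin : ∀ {m : ℕ}, m < Nat.find hex →
      ¬ ∀ x ∈ M, t₀ ^ (2 ^ m) * x * (t₀ ^ (2 ^ m))⁻¹ = x := fun h => Nat.find_min hex h
  have hspec := Nat.find_spec hex
  set j := Nat.find hex with hj
  have hj0 : j ≠ 0 := by
    intro h0
    rw [h0] at hspec
    obtain ⟨m, hm, hne⟩ := hnc
    apply hne
    have := hspec m hm
    simpa using this
  obtain ⟨i, hi⟩ : ∃ i, j = i + 1 := ⟨j - 1, by omega⟩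
  refine ⟨2 ^ i, ?_, ?_⟩
  · have := hmin (m := i) (by omega)
    push Not at this
    exact this
  · intro m hm
    have h2 : (t₀ ^ (2 ^ i)) ^ 2 = t₀ ^ (2 ^ j) := by
      rw [← pow_mul, hi, pow_succ]
    rw [h2]
    exact hspec m hm

/-- G3: a `2`-element acting nontrivially on the abelian normal subgroup `M` yields a
`2`-element `t` and a nontrivial linear character of `M` inverted by `t`. -/
theorem exists_inverted_hom (M : Subgroup G) [hM : M.Normal]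
    (hab : ∀ a ∈ M, ∀ b ∈ M, a * b = b * a) (hodd : Odd (Nat.card ↥M)) (t₀ : G)
    (ht₀ : ∃ k : ℕ, orderOf t₀ = 2 ^ k) (hnc : ∃ m ∈ M, t₀ * m * t₀⁻¹ ≠ m) :
    ∃ (t : G) (lam : ↥M →* ℂˣ), (∃ k : ℕ, orderOf t = 2 ^ k) ∧ lam ≠ 1 ∧
      ∀ m : ↥M, lam ⟨t * m * t⁻¹, hM.conj_mem m m.2 t⟩ = (lam m)⁻¹ := by
  obtain ⟨n, ⟨m₀, hm₀, hne⟩, hsq⟩ := exists_pow_involutive M t₀ ht₀ hnc
  obtain ⟨t, ht⟩ : ∃ t, t = t₀ ^ n := ⟨_, rfl⟩
  rw [← ht] at hne hsq
  have ht2 : ∃ k : ℕ, orderOf t = 2 ^ k := ht ▸ two_elt_pow t₀ ht₀ n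
  -- the conjugation map on `M`
  let σ : ↥M → ↥M := fun m => ⟨t * m * t⁻¹, hM.conj_mem m m.2 t⟩
  have hσmul : ∀ a b : ↥M, σ (a * b) = σ a * σ b := by
    intro a b
    apply Subtype.ext
    simp only [σ, Subgroup.coe_mul]
    group
  have hσσ : ∀ a : ↥M, σ (σ a) = a := by
    intro a
    apply Subtype.ext
    have := hsq a a.2
    simp only [σ]
    rw [pow_two] at this
    have h2 : t * (t * (a : G) * t⁻¹) * t⁻¹ = t * t * (a : G) * (t * t)⁻¹ := by group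
    rw [h2]
    exact this
  have hcomm : ∀ a b : ↥M, a * b = b * a := fun a b => Subtype.ext (hab a a.2 b b.2)
  let _ : CommGroup ↥M := { (inferInstance : Group ↥M) with mul_comm := hcomm }
  -- the element `x = m₀⁻¹ σ(m₀) ≠ 1`
  let m₁ : ↥M := ⟨m₀, hm₀⟩
  have hx : m₁⁻¹ * σ m₁ ≠ 1 := by
    intro h
    apply hne
    have h' : σ m₁ = m₁ := by
      have := congrArg (fun y => m₁ * y) h
      simpa using this
    exact congrArg Subtype.val h'
  have hexp : NeZero (Monoid.exponent ↥M) := ⟨Monoid.exponent_ne_zero_of_finite⟩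
  obtain ⟨μ, hμ⟩ := CommGroup.exists_apply_ne_one_of_hasEnoughRootsOfUnity ↥M ℂ hx
  -- `lam m = μ (m⁻¹ σ m)`
  let lam : ↥M →* ℂˣ :=
    { toFun := fun m => μ (m⁻¹ * σ m)
      map_one' := by
        have : σ 1 = 1 := by
          apply Subtype.ext
          simp [σ]
        simp [this]
      map_mul' := by
        intro a b
        rw [← map_mul, hσmul]
        congr 1
        rw [mul_inv_rev]
        calc b⁻¹ * a⁻¹ * (σ a * σ b) = (a⁻¹ * σ a) * (b⁻¹ * σ b) := by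
              rw [hcomm b⁻¹ a⁻¹, mul_assoc, mul_assoc, ← mul_assoc b⁻¹, hcomm b⁻¹ (σ a)]
              simp only [mul_assoc] }
  refine ⟨t, lam, ht2, ?_, ?_⟩
  · intro h1
    apply hμ
    have := DFunLike.congr_fun h1 m₁
    exact this
  · intro m
    change μ ((σ m)⁻¹ * σ (σ m)) = (μ (m⁻¹ * σ m))⁻¹
    rw [hσσ, ← map_inv]
    congr 1
    rw [mul_inv_rev, inv_inv]

end Cfsg.Agent.Lib.Helper13.RealP
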