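/-
helper13: S4861 market, R1 sub-leaf (A) `exists_two_sylow_normalized` (signature by helper25).
-/
import Mathlib

set_option autoImplicit false

namespace Cfsg.Agent.Lib.Helper13.RealP

open scoped Pointwise

universe u

/-- (A) A `2`-element `t` normalising `T` normalises some Sylow `2`-subgroup of `T`. -/
theorem exists_two_sylow_normalized {G : Type u} [Group G] [Finite G] (T : Subgroup G) (t : G)
    (htT : ∀ x ∈ T, t * x * t⁻¹ ∈ T) (ht : ∃ k : ℕ, orderOf t = 2 ^ k) :
    ∃ S₀ : Subgroup G, S₀ ≤ T ∧ IsPGroup 2 ↥S₀ ∧ (∀ s ∈ S₀, t * s * t⁻¹ ∈ S₀) ∧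
      (∀ s ∈ S₀, t⁻¹ * s * t ∈ S₀) ∧ ¬ 2 ∣ Nat.card ↥T / Nat.card ↥S₀ := by
  classical
  have : Fact (Nat.Prime 2) := ⟨Nat.prime_two⟩
  -- `t` normalises `T`
  have hiter : ∀ (n : ℕ) (x : G), x ∈ T → t ^ n * x * (t ^ n)⁻¹ ∈ T := by
    intro n
    induction n with
    | zero => intro x hx; simpa using hx
    | succ n ih =>
      intro x hx
      have := htT _ (ih x hx)
      have h2 : t ^ (n + 1) * x * (t ^ (n + 1))⁻¹ = t * (t ^ n * x * (t ^ n)⁻¹) * t⁻¹ := by
        rw [pow_succ']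
        group
      rw [h2]
      exact this
  have htN : t ∈ Subgroup.normalizer (T : Set G) := by
    rw [Subgroup.mem_normalizer_iff]
    intro x
    refine ⟨htT x, fun h => ?_⟩
    have hn : 0 < orderOf t := orderOf_pos t
    have := hiter (orderOf t - 1) _ h
    have h3 : t ^ (orderOf t - 1) * t = 1 := by
      rw [← pow_succ, Nat.sub_add_cancel hn, pow_orderOf_eq_one]
    have h4 : t ^ (orderOf t - 1) = t⁻¹ := eq_inv_of_mul_eq_one_left h3
    have h2 : t ^ (orderOf t - 1) * (t * x * t⁻¹) * (t ^ (orderOf t - 1))⁻¹ = x := by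
      rw [h4]
      group
    rwa [h2] at this
  let tN : Subgroup.normalizer (T : Set G) := ⟨t, htN⟩
  let Z : Subgroup (Subgroup.normalizer (T : Set G)) := Subgroup.zpowers tN
  have hZ : IsPGroup 2 Z := by
    obtain ⟨k, hk⟩ := ht
    apply IsPGroup.of_card (n := k)
    rw [Nat.card_zpowers, Subgroup.orderOf_mk, hk]
  have hodd : ¬ 2 ∣ Nat.card (Sylow 2 T) := by
    have h1 : Nat.card (Sylow 2 T) % 2 = 1 % 2 := card_sylow_modEq_one 2 T
    intro h
    have h0 : Nat.card (Sylow 2 T) % 2 = 0 := Nat.mod_eq_zero_of_dvd h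
    omega
  obtain ⟨P, hP⟩ := hZ.nonempty_fixed_point_of_prime_not_dvd_card (Sylow 2 T) hodd
  have hPt : tN • P = P := hP ⟨tN, Subgroup.mem_zpowers tN⟩
  have hPt' : tN • (P : Subgroup T) = (P : Subgroup T) := by
    rw [← Sylow.pointwise_smul_def, hPt]
  refine ⟨(P : Subgroup T).map T.subtype, Subgroup.map_subtype_le _, P.isPGroup'.map _, ?_, ?_, ?_⟩
  · rintro s ⟨s', hs', rfl⟩
    refine ⟨tN • s', ?_, rfl⟩
    have := Subgroup.smul_mem_pointwise_smul s' tN (P : Subgroup T) hs'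
    rw [hPt'] at this
    exact this
  · rintro s ⟨s', hs', rfl⟩
    have hs'' : s' ∈ tN • (P : Subgroup T) := by rw [hPt']; exact hs'
    obtain ⟨s'', hs''P, hs''eq⟩ := (Subgroup.mem_smul_pointwise_iff_exists _ _ _).1 hs''
    refine ⟨s'', hs''P, ?_⟩
    have h1 : (T.subtype s' : G) = t * (s'' : G) * t⁻¹ := by
      rw [← hs''eq]
      rfl
    rw [h1]
    change (s'' : G) = t⁻¹ * (t * (s'' : G) * t⁻¹) * t
    group
  · have hcard : Nat.card ((P : Subgroup T).map T.subtype) = Nat.card (P : Subgroup T) :=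
      Subgroup.card_map_of_injective T.subtype_injective
    rw [hcard]
    have hidx : Nat.card T / Nat.card (P : Subgroup T) = (P : Subgroup T).index := by
      apply Nat.div_eq_of_eq_mul_right Nat.card_pos
      exact (Subgroup.card_mul_index (P : Subgroup T)).symm
    rw [hidx]
    exact P.not_dvd_index

end Cfsg.Agent.Lib.Helper13.RealP
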