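import Mathlib

set_option autoImplicit false

namespace Cfsg.Agent.Lib.Helper13.Leaf6000

theorem four_eq_two_mul_two : ((4 : ℕ) : ZMod 5) = 2 * 2 := by decide

/-- (L5) the golden ratio in `F_p`, `p = 1 mod 4`, `p = ±1 mod 5` -/
theorem L5 {F : Type*} [Field F] [Fintype F] {p : ℕ} [Fact p.Prime] [CharP F p]
    (hF : Fintype.card F = p) (hp4 : p % 4 = 1) (h5 : p % 5 = 1 ∨ p % 5 = 4) :
    ∃ τ : F, τ ^ 2 + τ - 1 = 0 := by
  have : Fact (Nat.Prime 5) := ⟨by norm_num⟩
  have hp5 : p ≠ 5 := by
    rintro rfl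
    omega
  -- 5 is a square mod p
  have hsq : IsSquare ((5 : ℕ) : ZMod p) := by
    rw [ZMod.exists_sq_eq_prime_iff_of_mod_four_eq_one hp4 (by norm_num : (5:ℕ) ≠ 2)]
    rcases h5 with h | h
    · refine ⟨1, ?_⟩
      have : ((p : ℕ) : ZMod 5) = ((p % 5 : ℕ) : ZMod 5) := by
        rw [ZMod.natCast_mod]
      rw [this, h]; simp
    · refine ⟨2, ?_⟩
      have : ((p : ℕ) : ZMod 5) = ((p % 5 : ℕ) : ZMod 5) := by
        rw [ZMod.natCast_mod]
      rw [this, h]
      exact four_eq_two_mul_two
  obtain ⟨s, hs⟩ := hsq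
  -- transport to F
  let φ : ZMod p →+* F := ZMod.castHom (dvd_refl p) F
  have hs' : (φ s) * (φ s) = (5 : F) := by
    rw [← map_mul, ← hs]; exact map_natCast φ 5
  have h2 : (2 : F) ≠ 0 := by
    intro h
    have : ((2 : ℕ) : F) = 0 := by exact_mod_cast h
    rw [CharP.cast_eq_zero_iff F p] at this
    have hp2 : p ≤ 2 := Nat.le_of_dvd (by norm_num) this
    have := (Fact.out : p.Prime).two_le
    omega
  refine ⟨(-1 + φ s) / 2, ?_⟩
  field_simp
  ring_nf
  have : (φ s) ^ 2 = 5 := by rw [pow_two]; exact hs'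
  rw [this]; ring

open scoped commutatorElement

open Subgroup in
/-- A nontrivial normal subgroup of a finite `p`-group meets the centre nontrivially. -/
theorem exists_mem_center_of_normal {Q : Type*} [Group Q] [Finite Q] {p : ℕ} [Fact p.Prime]
    (hQ : IsPGroup p Q) (M : Subgroup Q) [M.Normal] (hM : M ≠ ⊥) :
    ∃ x ∈ M, x ≠ 1 ∧ x ∈ center Q := by
  have hMp : IsPGroup p M := hQ.to_subgroup M
  have : Nontrivial M := (Subgroup.nontrivial_iff_ne_bot M).mpr hM
  obtain ⟨n, hn0, hn⟩ := hMp.nontrivial_iff_card.mp inferInstance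
  have dvd : p ∣ Nat.card M := hn.symm ▸ dvd_pow_self _ (ne_of_gt hn0)
  have h1 : (1 : M) ∈ MulAction.fixedPoints (ConjAct Q) M := by
    intro g
    exact smul_one g
  obtain ⟨b, hb, hb1⟩ :=
    (hQ.of_equiv ConjAct.toConjAct).exists_fixed_point_of_prime_dvd_card_of_fixed_point M dvd h1
  refine ⟨b.1, b.2, fun h => hb1 (Subtype.ext h.symm), ?_⟩
  rw [Subgroup.mem_center_iff]
  intro g
  have := hb (ConjAct.toConjAct g)
  have h2 : g * b.1 * g⁻¹ = b.1 := by
    have := congrArg Subtype.val this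
    rw [ConjAct.Subgroup.val_conj_smul, ConjAct.smul_def] at this
    simpa using this
  calc g * b.1 = g * b.1 * g⁻¹ * g := by group
    _ = b.1 * g := by rw [h2]

open Subgroup in
/-- In a finite `p`-group, a normal subgroup `C` strictly above a normal subgroup `Z` contains an
element outside `Z` which is central modulo `Z`. -/
theorem exists_central_mod {G : Type*} [Group G] [Finite G] {p : ℕ} [Fact p.Prime]
    (hG : IsPGroup p G) (Z C : Subgroup G) [Z.Normal] [C.Normal] (hZC : Z ≤ C) (hne : C ≠ Z) :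
    ∃ x ∈ C, x ∉ Z ∧ ∀ g : G, ⁅x, g⁆ ∈ Z := by
  let M : Subgroup (G ⧸ Z) := C.map (QuotientGroup.mk' Z)
  have : M.Normal := Subgroup.Normal.map inferInstance _ (QuotientGroup.mk'_surjective Z)
  have hM : M ≠ ⊥ := by
    intro h
    apply hne
    apply le_antisymm _ hZC
    intro x hx
    have : QuotientGroup.mk' Z x ∈ M := Subgroup.mem_map_of_mem _ hx
    rw [h, Subgroup.mem_bot] at this
    exact (QuotientGroup.eq_one_iff x).mp this
  obtain ⟨y, hyM, hy1, hyc⟩ := exists_mem_center_of_normal (hG.to_quotient Z) M hM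
  obtain ⟨x, hxC, rfl⟩ := hyM
  refine ⟨x, hxC, ?_, ?_⟩
  · intro hxZ
    exact hy1 ((QuotientGroup.eq_one_iff x).mpr hxZ)
  · intro g
    rw [← QuotientGroup.eq_one_iff, commutatorElement_def]
    have := (Subgroup.mem_center_iff.mp hyc) (QuotientGroup.mk' Z g)
    simp only [QuotientGroup.mk'_apply] at this ⊢
    rw [QuotientGroup.mk_mul, QuotientGroup.mk_mul, QuotientGroup.mk_mul, QuotientGroup.mk_inv,
      QuotientGroup.mk_inv, ← this]
    group

/-- (L1) abstract group theory -/
theorem L1 {G : Type*} [Group G] [Finite G] (h2 : IsPGroup 2 G)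
    (hZ : Nat.card (Subgroup.center G) = 4) (hexp : Monoid.exponent G = 4)
    (hchar : ∀ A : Subgroup G, A.Characteristic → IsMulCommutative A → IsCyclic A) :
    (∀ u ∈ Subgroup.upperCentralSeries G 2, ∀ g : G, (g * u * g⁻¹ * u⁻¹) ^ 2 = 1) ∧
      Subgroup.centralizer (Subgroup.upperCentralSeries G 2 : Set G) = Subgroup.center G := by
  have hpow4 : ∀ x : G, x ^ 4 = 1 := fun x => hexp ▸ Monoid.pow_exponent_eq_one x
  have hpow4' : ∀ x : G, x * x * (x * x) = 1 := by
    intro x
    have := hpow4 x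
    rwa [show (4 : ℕ) = 2 + 2 from rfl, pow_add, pow_two] at this
  have hZ2 : ∀ u ∈ Subgroup.upperCentralSeries G 2, ∀ g : G, ⁅u, g⁆ ∈ Subgroup.center G := by
    intro u hu g
    have := (Subgroup.mem_upperCentralSeries_succ_iff (n := 1)).mp hu g
    rwa [Subgroup.upperCentralSeries_one] at this
  have hcz4 : ∀ c ∈ Subgroup.center G, c * c * (c * c) = 1 := by
    intro c hc
    have : (⟨c, hc⟩ : Subgroup.center G) ^ 4 = 1 := by
      rw [← hZ]; exact pow_card_eq_one'
    have h := congrArg Subtype.val this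
    simp only [Subgroup.coe_pow, Subgroup.coe_one] at h
    rwa [show (4 : ℕ) = 2 + 2 from rfl, pow_add, pow_two] at h
  refine ⟨?_, ?_⟩
  · intro u hu g
    set c := g * u * g⁻¹ * u⁻¹ with hcdef
    have hcmem : c ∈ Subgroup.center G := by
      have h := (Subgroup.center G).inv_mem (hZ2 u hu g)
      have e : (⁅u, g⁆)⁻¹ = c := by
        rw [commutatorElement_def, hcdef]; group
      rwa [e] at h
    have hcc : ∀ x : G, c * x = x * c := fun x =>
      ((Subgroup.mem_center_iff.mp hcmem) x).symm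
    have hdmem : c⁻¹ ∈ Subgroup.center G := (Subgroup.center G).inv_mem hcmem
    have hdd : ∀ x : G, c⁻¹ * x = x * c⁻¹ := fun x =>
      ((Subgroup.mem_center_iff.mp hdmem) x).symm
    -- conjugation formulas
    have h1 : g * u * g⁻¹ = c * u := by rw [hcdef]; group
    have h2' : g * (u * u) * g⁻¹ = (c * c) * (u * u) := by
      calc g * (u * u) * g⁻¹ = (g * u * g⁻¹) * (g * u * g⁻¹) := by group
        _ = (c * u) * (c * u) := by rw [h1]
        _ = c * (u * c) * u := by group
        _ = c * (c * u) * u := by rw [hcc u]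
        _ = (c * c) * (u * u) := by group
    have h3 : g * (g * (u * u) * g⁻¹) * g⁻¹ = u * u := by
      rw [h2']
      calc g * ((c * c) * (u * u)) * g⁻¹ = (g * c) * c * (u * u) * g⁻¹ := by group
        _ = (c * g) * c * (u * u) * g⁻¹ := by rw [hcc g]
        _ = c * (g * c) * (u * u) * g⁻¹ := by group
        _ = c * (c * g) * (u * u) * g⁻¹ := by rw [hcc g]
        _ = (c * c) * (g * (u * u) * g⁻¹) := by group
        _ = (c * c) * ((c * c) * (u * u)) := by rw [h2']
        _ = (c * c * (c * c)) * (u * u) := by group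
        _ = u * u := by rw [hcz4 c hcmem, one_mul]
    have hcomm : (g * g) * (u * u) = (u * u) * (g * g) := by
      calc (g * g) * (u * u) = (g * (g * (u * u) * g⁻¹) * g⁻¹) * (g * g) := by group
        _ = (u * u) * (g * g) := by rw [h3]
    -- (g u)^2 = c⁻¹ g² u²
    have hug : u * g = c⁻¹ * (g * u) := by rw [hcdef]; group
    have hsq : (g * u) * (g * u) = c⁻¹ * ((g * g) * (u * u)) := by
      calc (g * u) * (g * u) = g * (u * g) * u := by group
        _ = g * (c⁻¹ * (g * u)) * u := by rw [hug]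
        _ = (g * c⁻¹) * (g * u) * u := by group
        _ = (c⁻¹ * g) * (g * u) * u := by rw [hdd g]
        _ = c⁻¹ * ((g * g) * (u * u)) := by group
    have h4 : (g * u) * (g * u) * ((g * u) * (g * u)) = c⁻¹ * c⁻¹ := by
      rw [hsq]
      calc c⁻¹ * ((g * g) * (u * u)) * (c⁻¹ * ((g * g) * (u * u)))
          = c⁻¹ * (((g * g) * (u * u)) * c⁻¹) * ((g * g) * (u * u)) := by group
        _ = c⁻¹ * (c⁻¹ * ((g * g) * (u * u))) * ((g * g) * (u * u)) := by
            rw [← hdd ((g * g) * (u * u))]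
        _ = c⁻¹ * c⁻¹ * ((g * g) * ((u * u) * (g * g)) * (u * u)) := by group
        _ = c⁻¹ * c⁻¹ * ((g * g) * ((g * g) * (u * u)) * (u * u)) := by rw [hcomm]
        _ = c⁻¹ * c⁻¹ * ((g * g * (g * g)) * (u * u * (u * u))) := by group
        _ = c⁻¹ * c⁻¹ := by rw [hpow4', hpow4', one_mul, mul_one]
    have h5 : c⁻¹ * c⁻¹ = 1 := by rw [← h4]; exact hpow4' _
    rw [pow_two]
    calc c * c = (c⁻¹ * c⁻¹)⁻¹ := by simp [mul_inv_rev]
      _ = 1 := by rw [h5, inv_one]
  · -- the centralizer of Z₂ is the centre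
    set Z2 := Subgroup.upperCentralSeries G 2 with hZ2def
    set C := Subgroup.centralizer (Z2 : Set G) with hCdef
    have hcenZ2 : Subgroup.center G ≤ Z2 := by
      intro z hz
      rw [hZ2def, Subgroup.mem_upperCentralSeries_succ_iff]
      intro y
      have : ⁅z, y⁆ = 1 := by
        rw [commutatorElement_def, ← (Subgroup.mem_center_iff.mp hz) y]; group
      rw [this]; exact Subgroup.one_mem _
    have hcenC : Subgroup.center G ≤ C := Subgroup.center_le_centralizer _
    -- A = Z₂ ⊓ C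
    let A : Subgroup G := Z2 ⊓ C
    have hZ2char : Z2.Characteristic := by rw [hZ2def]; infer_instance
    have hCchar : C.Characteristic := by rw [hCdef]; infer_instance
    have hAchar : A.Characteristic := inferInstance
    have hAcomm : IsMulCommutative A := by
      refine ⟨⟨fun a b => ?_⟩⟩
      have ha : a.1 ∈ C := a.2.2
      have hb : b.1 ∈ Z2 := b.2.1
      exact Subtype.ext ((Subgroup.mem_centralizer_iff.mp ha) b.1 hb).symm
    have hAcyc : IsCyclic A := hchar A hAchar hAcomm
    have hAcard : Nat.card A ≤ 4 := by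
      obtain ⟨a, ha⟩ := hAcyc.exists_generator
      have h1 : orderOf a = Nat.card A := orderOf_eq_card_of_forall_mem_zpowers ha
      have h2 : orderOf (a : G) = orderOf a := Subgroup.orderOf_coe a
      have h3 : orderOf (a : G) ∣ 4 := hexp ▸ Monoid.order_dvd_exponent (a : G)
      rw [← h1, ← h2]
      exact Nat.le_of_dvd (by norm_num) h3
    have hcenA : Subgroup.center G ≤ A := le_inf hcenZ2 hcenC
    have hAeq : A = Subgroup.center G := by
      symm
      apply Subgroup.eq_of_le_of_card_ge hcenA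
      rw [hZ]; exact hAcard
    by_contra hne
    have hCn : C.Normal := inferInstance
    obtain ⟨x, hxC, hxZ, hxg⟩ := exists_central_mod h2 (Subgroup.center G) C hcenC hne
    have hxZ2 : x ∈ Z2 := by
      rw [hZ2def, Subgroup.mem_upperCentralSeries_succ_iff]
      intro y
      rw [Subgroup.upperCentralSeries_one]
      exact hxg y
    have : x ∈ A := ⟨hxZ2, hxC⟩
    rw [hAeq] at this
    exact hxZ this

end Cfsg.Agent.Lib.Helper13.Leaf6000
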