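import Mathlib
import Cfsg.Agent.Lib.Helper25.SpTK
import Cfsg.Agent.Lib.Helper25.TensS
import Cfsg.Agent.Lib.Helper19.SpTNDefs

/-!
S5704 part (N), helper19's sub-market, leaves (B1) `UW_mul`, `UW_inv`, `UW_conj_kA` and
(B2) `SB_add`, `SB_neg`, `SB_conj`: the calculus in `U_W`.
-/

set_option autoImplicit false
set_option linter.unusedSectionVars false
set_option linter.unusedVariables false

namespace Cfsg.Agent.Lib.Helper13.SpTNLeaf
open Matrix QuadraticMap
open Cfsg.Agent.Lib.Helper25.Tens Cfsg.Agent.Lib.Helper25.TensLeaves Cfsg.Agent.Lib.Helper19.OSub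
open Cfsg.Agent.Lib.Helper25.SpT Cfsg.Agent.Lib.Helper19.SpTN
open scoped Kronecker commutatorElement

variable {F : Type*} [Field F] {a b : ℕ}

/-- `kA x c` acts on pure tensors through the matrix of `stv x c` -/
lemma mv_kA_pt' (x : Fin a → F) (c : F) (x' : Fin a → F) (y : Fin b → F) :
    mv (kA x c : GL (Idx a b) F) (pt x' y) =
      pt (((stv x c : GL (Fin a) F) : Matrix (Fin a) (Fin a) F) *ᵥ x') y := by
  unfold mv kA
  rw [kel_mulVec_pt, Units.val_one, Matrix.one_mulVec]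

lemma kA_mul_kA_neg (x : Fin a → F) (c : F) :
    (kA x c : GL (Idx a b) F) * kA x (-c) = 1 := by
  apply gl_ext_pt
  intro x' y
  rw [mv_mul, mv_kA_pt, mv_kA_pt, mv_one, sf_add_left, sf_smul_left, sf_self]
  congr 1
  module

lemma kA_inv (x : Fin a → F) (c : F) : (kA x c : GL (Idx a b) F)⁻¹ = kA x (-c) :=
  inv_eq_of_mul_eq_one_right (kA_mul_kA_neg x c)

lemma stv_mulVec_stv_neg {n : ℕ} (x : Fin n → F) (c : F) (v : Fin n → F) :
    ((stv x c : GL (Fin n) F) : Matrix (Fin n) (Fin n) F) *ᵥ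
      (((stv x (-c) : GL (Fin n) F) : Matrix (Fin n) (Fin n) F) *ᵥ v) = v := by
  rw [stv_mulVec, stv_mulVec, sf_add_left, sf_smul_left, sf_self]
  module

/-- (B1) `UW` is multiplicative, the blocks add -/
theorem UW_mul (o o' : Fin b) {g g' : GL (Idx a b) F} {φ φ' : Fin b → Matrix (Fin a) (Fin a) F}
    (hg : UW o o' g φ) (hg' : UW o o' g' φ') : UW o o' (g * g') (φ + φ') := by
  constructor
  · intro x
    rw [mv_mul, hg'.fixW, hg.fixW]
  · intro l hl hl' x
    rw [mv_mul, hg'.act l hl hl', mv_add, hg.act l hl hl', hg.fixW, Pi.add_apply,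
      Matrix.add_mulVec, pt_add_left, add_assoc]

/-- (B1) inverse -/
theorem UW_inv (o o' : Fin b) {g : GL (Idx a b) F} {φ : Fin b → Matrix (Fin a) (Fin a) F}
    (hg : UW o o' g φ) : UW o o' g⁻¹ (-φ) := by
  have hfix : ∀ x : Fin a → F, mv g⁻¹ (pt x (Pi.single o 1)) = pt x (Pi.single o 1) := by
    intro x
    conv_lhs => rw [← hg.fixW x]
    rw [mv_inv_mv]
  constructor
  · exact hfix
  · intro l hl hl' x
    have h1 : mv g (pt x (Pi.single l 1) + pt ((-φ) l *ᵥ x) (Pi.single o 1)) =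
        pt x (Pi.single l 1) := by
      rw [mv_add, hg.act l hl hl', hg.fixW, Pi.neg_apply, Matrix.neg_mulVec,
        add_assoc, ← pt_add_left, add_neg_cancel, pt_zero_left, add_zero]
    conv_lhs => rw [← h1]
    rw [mv_inv_mv]

/-- (B1) conjugation by `kA x c = τ ⊗ 1` -/
theorem UW_conj_kA (o o' : Fin b) {g : GL (Idx a b) F} {φ : Fin b → Matrix (Fin a) (Fin a) F}
    (hg : UW o o' g φ) (x : Fin a → F) (c : F) :
    UW o o' ((kA x c : GL (Idx a b) F) * g * (kA x c : GL (Idx a b) F)⁻¹)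
      (fun l => ((stv x c : GL (Fin a) F) : Matrix (Fin a) (Fin a) F) * φ l *
        ((stv x (-c) : GL (Fin a) F) : Matrix (Fin a) (Fin a) F)) := by
  rw [kA_inv]
  constructor
  · intro x'
    rw [mv_mul, mv_mul, mv_kA_pt', hg.fixW, mv_kA_pt', stv_mulVec_stv_neg]
  · intro l hl hl' x'
    rw [mv_mul, mv_mul, mv_kA_pt', hg.act l hl hl', mv_add, mv_kA_pt', mv_kA_pt',
      stv_mulVec_stv_neg, ← Matrix.mulVec_mulVec, ← Matrix.mulVec_mulVec]

end Cfsg.Agent.Lib.Helper13.SpTNLeaf
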