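import Mathlib
import Cfsg.Agent.Lib.Helper13.SpTNB1

/-!
S5704 part (N), helper19's sub-market, leaves (B2) `SB_add`, `SB_neg`, `SB_conj`.
-/

set_option autoImplicit false
set_option linter.unusedSectionVars false
set_option linter.unusedVariables false

namespace Cfsg.Agent.Lib.Helper13.SpTNLeaf
open Matrix QuadraticMap
open Cfsg.Agent.Lib.Helper25.Tens Cfsg.Agent.Lib.Helper25.TensLeaves Cfsg.Agent.Lib.Helper19.OSub
open Cfsg.Agent.Lib.Helper25.SpT Cfsg.Agent.Lib.Helper19.SpTN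
open scoped Kronecker commutatorElement

variable {F : Type*} [Field F] {a b : ℕ} {M : Subgroup (GL (Idx a b) F)}

lemma sgl_add (l : Fin b) (θ θ' : Matrix (Fin a) (Fin a) F) :
    sgl l θ + sgl l θ' = sgl l (θ + θ') := by
  funext k
  by_cases hk : k = l <;> simp [sgl, hk]

lemma sgl_neg (l : Fin b) (θ : Matrix (Fin a) (Fin a) F) : -sgl l θ = sgl l (-θ) := by
  funext k
  by_cases hk : k = l <;> simp [sgl, hk]

lemma sgl_conj (l : Fin b) (θ A B : Matrix (Fin a) (Fin a) F) :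
    (fun k => A * sgl l θ k * B) = sgl l (A * θ * B) := by
  funext k
  by_cases hk : k = l <;> simp [sgl, hk]

lemma sgl_smul (l : Fin b) (t : F) (θ : Matrix (Fin a) (Fin a) F) :
    (fun k => t • sgl l θ k) = sgl l (t • θ) := by
  funext k
  by_cases hk : k = l <;> simp [sgl, hk]

/-- (B2) -/
theorem SB_add (o o' l : Fin b) {θ θ' : Matrix (Fin a) (Fin a) F}
    (hθ : θ ∈ SB o o' l M) (hθ' : θ' ∈ SB o o' l M) : θ + θ' ∈ SB o o' l M := by
  obtain ⟨g, hg, hU⟩ := hθ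
  obtain ⟨g', hg', hU'⟩ := hθ'
  refine ⟨g * g', M.mul_mem hg hg', ?_⟩
  rw [← sgl_add]
  exact UW_mul o o' hU hU'

theorem SB_neg (o o' l : Fin b) {θ : Matrix (Fin a) (Fin a) F}
    (hθ : θ ∈ SB o o' l M) : -θ ∈ SB o o' l M := by
  obtain ⟨g, hg, hU⟩ := hθ
  refine ⟨g⁻¹, M.inv_mem hg, ?_⟩
  rw [← sgl_neg]
  exact UW_inv o o' hU

theorem SB_conj [Fintype F] {Q : QuadraticForm F (Idx a b → F)} (h : MCtx a b Q M) (o o' l : Fin b)
    {θ : Matrix (Fin a) (Fin a) F}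
    (hθ : θ ∈ SB o o' l M) (x : Fin a → F) (c : F) :
    ((stv x c : GL (Fin a) F) : Matrix (Fin a) (Fin a) F) * θ *
      ((stv x (-c) : GL (Fin a) F) : Matrix (Fin a) (Fin a) F) ∈ SB o o' l M := by
  obtain ⟨g, hg, hU⟩ := hθ
  refine ⟨kA x c * g * (kA x c)⁻¹,
    M.mul_mem (M.mul_mem (kA_mem h x c) hg) (M.inv_mem (kA_mem h x c)), ?_⟩
  rw [← sgl_conj]
  exact UW_conj_kA o o' hU x c

end Cfsg.Agent.Lib.Helper13.SpTNLeaf
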