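import Mathlib
import Cfsg.Agent.Lib.Helper25.SpTNDefs

/-!
S5704 leaf (N2f) `zpart` (owner of the market: helper25): a U-form isometry with scalar row blocks is
`uB o z` times a centre element.
-/

set_option autoImplicit false
set_option linter.unusedSectionVars false
set_option linter.unusedVariables false

namespace Cfsg.Agent.Lib.Helper13.SpTNLeaf
open Matrix QuadraticMap
open Cfsg.Agent.Lib.Helper25.Tens Cfsg.Agent.Lib.Helper25.TensLeaves Cfsg.Agent.Lib.Helper19.OSub
open Cfsg.Agent.Lib.Helper25.SpT Cfsg.Agent.Lib.Helper25.TensLeaf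
open scoped Kronecker

variable {F : Type*} [Field F] {a b : ℕ}

/-- induction over sums of pure tensors `pt x e_l` -/
theorem pt_single_induction {p : (Idx a b → F) → Prop} (h0 : p 0)
    (hadd : ∀ v w, p v → p w → p (v + w))
    (hpt : ∀ (x : Fin a → F) (l : Fin b), p (pt x (Pi.single l 1))) : ∀ v, p v := by
  intro v
  rw [eq_sum_pt v]
  apply Finset.sum_induction _ p hadd h0
  intro i _
  apply Finset.sum_induction _ p hadd h0
  intro l _
  rw [← pt_smul_left]
  exact hpt _ _

/-! ### values of `Jm` at the first hyperbolic pair -/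

section J
variable {n : ℕ} (o o' : Fin n)

lemma Jm_o_o' (ho : o.val = 0) (ho' : o'.val = 1) :
    (Jm n : Matrix (Fin n) (Fin n) F) o o' = 1 := by
  rw [Jm_apply, if_pos (by omega)]

lemma Jm_o'_o (ho : o.val = 0) (ho' : o'.val = 1) :
    (Jm n : Matrix (Fin n) (Fin n) F) o' o = -1 := by
  rw [Jm_apply, if_neg (by omega), if_pos (by omega)]

lemma Jm_left_o (l : Fin n) (hl : l ≠ o') (ho : o.val = 0) (ho' : o'.val = 1) :
    (Jm n : Matrix (Fin n) (Fin n) F) l o = 0 := by
  have : l.val ≠ 1 := fun e => hl (Fin.ext (by omega))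
  rw [Jm_apply, if_neg (by omega), if_neg (by omega)]

lemma Jm_o_right (l : Fin n) (hl : l ≠ o') (ho : o.val = 0) (ho' : o'.val = 1) :
    (Jm n : Matrix (Fin n) (Fin n) F) o l = 0 := by
  have : l.val ≠ 1 := fun e => hl (Fin.ext (by omega))
  rw [Jm_apply, if_neg (by omega), if_neg (by omega)]

lemma Jm_left_o' (l : Fin n) (hl : l ≠ o) (ho : o.val = 0) (ho' : o'.val = 1) :
    (Jm n : Matrix (Fin n) (Fin n) F) l o' = 0 := by
  have : l.val ≠ 0 := fun e => hl (Fin.ext (by omega))
  rw [Jm_apply, if_neg (by omega), if_neg (by omega)]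

lemma Jm_o'_right (l : Fin n) (hl : l ≠ o) (ho : o.val = 0) (ho' : o'.val = 1) :
    (Jm n : Matrix (Fin n) (Fin n) F) o' l = 0 := by
  have : l.val ≠ 0 := fun e => hl (Fin.ext (by omega))
  rw [Jm_apply, if_neg (by omega), if_neg (by omega)]

lemma pr_o (ho : o.val = 0) (ho' : o'.val = 1) (hn : Even n) : pr hn o = o' := by
  apply Fin.ext
  rw [pr_val_even hn o (by omega)]; omega

lemma pr_o' (ho : o.val = 0) (ho' : o'.val = 1) (hn : Even n) : pr hn o' = o := by
  apply Fin.ext
  rw [pr_val_odd hn o' (by omega)]; omega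

lemma pr_ne_o (ho : o.val = 0) (ho' : o'.val = 1) (hn : Even n) (m : Fin n) (hm : m ≠ o)
    (hm' : m ≠ o') : pr hn m ≠ o := by
  intro e
  apply hm'
  rw [← pr_pr hn m, e, pr_o o o' ho ho' hn]

lemma pr_ne_o' (ho : o.val = 0) (ho' : o'.val = 1) (hn : Even n) (m : Fin n) (hm : m ≠ o)
    (hm' : m ≠ o') : pr hn m ≠ o' := by
  intro e
  apply hm
  rw [← pr_pr hn m, e, pr_o' o o' ho ho' hn]

end J

lemma Jm_pr_mul_self {n : ℕ} (hn : Even n) (i : Fin n) :
    (Jm n : Matrix (Fin n) (Fin n) F) i (pr hn i) * Jm n i (pr hn i) = 1 := by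
  rw [Jm_pr]
  split_ifs <;> simp

lemma Jm_pr_mul_self' {n : ℕ} (hn : Even n) (i : Fin n) :
    (Jm n : Matrix (Fin n) (Fin n) F) (pr hn i) i * Jm n (pr hn i) i = 1 := by
  have := Jm_pr_mul_self (F := F) hn (pr hn i)
  rwa [pr_pr] at this

lemma Jm_eq_zero_of_ne' {n : ℕ} (hn : Even n) (l m : Fin n) (h : l ≠ pr hn m) :
    (Jm n : Matrix (Fin n) (Fin n) F) l m = 0 := by
  apply Jm_eq_zero_of_ne hn
  intro e
  apply h
  rw [e, pr_pr]

/-- `cB e_m v` in coordinates -/
lemma cB_single_apply (m : Fin b) (v : Idx a b → F) (i : Fin a) :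
    cB (Pi.single m (1 : F)) v i = ∑ l, v (i, l) * Jm b l m := by
  simp only [cB, ct, sfv]
  apply Finset.sum_congr rfl
  intro l _
  rw [Matrix.mulVec_single_one]
  rfl

/-- `cB e_m v`: only the partner index contributes -/
lemma cB_single_apply' (hb : Even b) (m : Fin b) (v : Idx a b → F) (i : Fin a) :
    cB (Pi.single m (1 : F)) v i = v (i, pr hb m) * Jm b (pr hb m) m := by
  rw [cB_single_apply, Finset.sum_eq_single (pr hb m)]
  · intro l _ hl
    rw [Jm_eq_zero_of_ne' hb l m hl, mul_zero]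
  · simp

lemma smul_one_mulVec' (c : F) (x : Fin a → F) :
    ((c • (1 : Matrix (Fin a) (Fin a) F)) *ᵥ x) = c • x := by
  rw [Matrix.smul_mulVec, Matrix.one_mulVec]

variable {Q : QuadraticForm F (Idx a b → F)}

/-- (N2f) the centre part -/
theorem zpart (h : Ctx a b Q) (o o' : Fin b) (ho : o.val = 0) (ho' : o'.val = 1)
    (u : GL (Idx a b) F) (hu : u ∈ Cfsg.isometryGroup F ⇑Q)
    (hU : UF o o' (u : Matrix (Idx a b) (Idx a b) F))
    (hsc : ∀ l : Fin b, l ≠ o → l ≠ o' →
      IsScalarMat (blk (u : Matrix (Idx a b) (Idx a b) F) o l)) :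
    ∃ (z : Fin b → F) (Θ : Matrix (Fin a) (Fin a) F), sf z (Pi.single o 1) = 0 ∧
      (∀ x : Fin a → F, sf x (Θ *ᵥ x) = 0) ∧
      ∀ v : Idx a b → F, mv u v = mv (uB o z : GL (Idx a b) F) v +
        pt (Θ *ᵥ cB (Pi.single o 1) v) (Pi.single o 1) := by
  classical
  set U : Matrix (Idx a b) (Idx a b) F := (u : Matrix (Idx a b) (Idx a b) F) with hUdef
  have hev : Even b := h.eb
  have hoo' : o ≠ o' := fun e => by rw [e] at ho; omega
  -- the scalars
  have hsc' : ∀ l : Fin b, ∃ c : F, l ≠ o → l ≠ o' → blk U o l = c • 1 := by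
    intro l
    by_cases hl : l ≠ o ∧ l ≠ o'
    · obtain ⟨c, hc⟩ := hsc l hl.1 hl.2
      exact ⟨c, fun _ _ => hc⟩
    · exact ⟨0, fun h1 h2 => absurd ⟨h1, h2⟩ hl⟩
  choose lam hlam using hsc'
  -- columns of `u`
  have col : ∀ (x : Fin a → F) (l k : Fin b) (i : Fin a),
      mv u (pt x (Pi.single l 1)) (i, k) = (blk U k l *ᵥ x) i :=
    fun x l k i => mulVec_pt_single_right U x l k i
  have col_o : ∀ x : Fin a → F, mv u (pt x (Pi.single o 1)) = pt x (Pi.single o 1) := by
    intro x
    ext ⟨i, k⟩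
    rw [col, pt_single_right_apply]
    by_cases hk : k = o
    · subst hk
      rw [hU.2.1, Matrix.one_mulVec, if_pos rfl]
    · rw [hU.1 k o hk hoo', if_neg hk, if_neg hk, Matrix.zero_mulVec]
      rfl
  have col_l : ∀ (x : Fin a → F) (l : Fin b), l ≠ o → l ≠ o' →
      mv u (pt x (Pi.single l 1)) = pt x (Pi.single l 1) + lam l • pt x (Pi.single o 1) := by
    intro x l hl hl'
    ext ⟨i, k⟩
    rw [col, Pi.add_apply, Pi.smul_apply, pt_single_right_apply, pt_single_right_apply]
    by_cases hk : k = o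
    · subst hk
      rw [hlam l hl hl', if_neg (Ne.symm hl), if_pos rfl, smul_one_mulVec']
      simp
    · rw [hU.1 k l hk hl', if_neg hk]
      by_cases hkl : k = l
      · subst hkl
        simp
      · simp [hkl]
  -- the blocks of column `o'`
  have hC : ∀ m : Fin b, m ≠ o → m ≠ o' → ∀ x' : Fin a → F,
      blk U (pr hev m) o' *ᵥ x' = (lam m * Jm b (pr hev m) m) • x' := by
    intro m hm hm' x'
    set V : Idx a b → F := mv u (pt x' (Pi.single o' 1)) with hV
    have h1 : ∀ x : Fin a → F,
        sf (cB (Pi.single m 1) V) x + lam m * sf (cB (Pi.single o 1) V) x = 0 := by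
      intro x
      have := iso_polar hu (pt x (Pi.single m 1)) (pt x' (Pi.single o' 1))
      rw [col_l x m hm hm', h.pol, sf_single_single, Jm_left_o' (F := F) o o' m hm ho ho', mul_zero,
        polar_add_left, polar_smul_left, polar_pt_left h, polar_pt_left h, ← hV, smul_eq_mul] at this
      exact this
    have h2 : cB (Pi.single m 1) V = (Jm b (pr hev m) m : F) • (blk U (pr hev m) o' *ᵥ x') := by
      ext i
      rw [cB_single_apply' hev, hV, col, Pi.smul_apply, smul_eq_mul, mul_comm]
    have h3 : cB (Pi.single o 1) V = - x' := by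
      ext i
      rw [cB_single_apply' hev, pr_o o o' ho ho' hev, hV, col, hU.2.2, Matrix.one_mulVec,
        Jm_o'_o o o' ho ho', Pi.neg_apply]
      ring
    have h4 : ∀ x : Fin a → F,
        sf ((Jm b (pr hev m) m : F) • (blk U (pr hev m) o' *ᵥ x') - lam m • x') x = 0 := by
      intro x
      have := h1 x
      rw [h2, h3, sf_neg_left, sf_smul_left] at this
      rw [sf_sub_left, sf_smul_left, sf_smul_left]
      linear_combination this
    have h5 : (Jm b (pr hev m) m : F) • (blk U (pr hev m) o' *ᵥ x') - lam m • x' = 0 := by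
      by_contra hne
      obtain ⟨y, hy⟩ := exists_sf_ne_zero h.ea hne
      exact hy (h4 y)
    have h6 := Jm_pr_mul_self' (F := F) hev m
    have h7 : (Jm b (pr hev m) m : F) • ((Jm b (pr hev m) m : F) • (blk U (pr hev m) o' *ᵥ x')) =
        (Jm b (pr hev m) m : F) • (lam m • x') := by
      rw [sub_eq_zero.mp h5]
    rw [smul_smul, h6, one_smul, smul_smul] at h7
    rw [h7, mul_comm]
  -- the vector `z` and the matrix `Θ`
  set z : Fin b → F := fun k => if k = o ∨ k = o' then 0 else lam (pr hev k) * Jm b (pr hev k) k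
    with hzdef
  have hzo : z o = 0 := by simp [hzdef]
  have hzo' : z o' = 0 := by simp [hzdef]
  have hzk : ∀ k : Fin b, k ≠ o → k ≠ o' → z k = lam (pr hev k) * Jm b (pr hev k) k := by
    intro k hk hk'
    simp [hzdef, hk, hk']
  have hz : sf z (Pi.single o 1) = 0 := by
    rw [sf_skew, sf_single_left' hev, pr_o o o' ho ho' hev, hzo', mul_zero, neg_zero]
  have hsfz : ∀ l : Fin b, sf (Pi.single l (1 : F)) z = Jm b l (pr hev l) * z (pr hev l) :=
    fun l => sf_single_left' hev l z
  set B : Matrix (Fin a) (Fin a) F := blk U o o' with hB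
  have col_o' : ∀ x : Fin a → F, mv u (pt x (Pi.single o' 1)) =
      pt x (Pi.single o' 1 - z) + pt (B *ᵥ x) (Pi.single o 1) := by
    intro x
    ext ⟨i, k⟩
    rw [col, Pi.add_apply, pt_single_right_apply]
    simp only [pt, Pi.sub_apply, Pi.single_apply]
    by_cases hk : k = o
    · subst hk
      rw [if_neg hoo', hzo, if_pos rfl]
      ring
    · by_cases hk' : k = o'
      · subst hk'
        rw [hU.2.2, Matrix.one_mulVec, if_pos rfl, hzo', if_neg hk]
        ring
      · rw [if_neg hk', if_neg hk, hzk k hk hk']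
        have hpk := pr_ne_o o o' ho ho' hev k hk hk'
        have hpk' := pr_ne_o' o o' ho ho' hev k hk hk'
        have := congrFun (hC (pr hev k) hpk hpk' x) i
        rw [pr_pr] at this
        rw [this, Pi.smul_apply, smul_eq_mul, Jm_swap b (pr hev k) k]
        ring
  refine ⟨z, -B, hz, ?_, ?_⟩
  · -- `sf x (Θ x) = 0` from `Q (u (pt x e_o')) = 0`
    intro x
    have h1 := iso_Q hu (pt x (Pi.single o' 1))
    rw [h.pure, col_o' x] at h1
    have h2 : Q (pt x (Pi.single o' 1 - z) + pt (B *ᵥ x) (Pi.single o 1)) =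
        Q (pt x (Pi.single o' 1 - z)) + Q (pt (B *ᵥ x) (Pi.single o 1)) +
          polar Q (pt x (Pi.single o' 1 - z)) (pt (B *ᵥ x) (Pi.single o 1)) := by
      unfold polar; ring
    rw [h2, h.pure, h.pure, h.pol, sf_sub_left, hz, sf_single_single, Jm_o'_o o o' ho ho'] at h1
    rw [Matrix.neg_mulVec, sf_neg_right]
    linear_combination h1
  · -- the action
    apply pt_single_induction
    · simp [cB_zero]
    · intro v w hv hw
      rw [mv_add, mv_add, hv, hw, cB_add, Matrix.mulVec_add, pt_add_left]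
      abel
    · intro x l
      rw [mv_uB_pt o z hz, cB_pt, sf_single_single, hsfz]
      by_cases hl : l = o
      · subst hl
        rw [col_o, Jm_diag, pr_o l o' ho ho' hev, hzo']
        simp
      · by_cases hl' : l = o'
        · subst hl'
          rw [col_o', Jm_o'_o o l ho ho', pr_o' o l ho ho' hev, hzo]
          congr 1
          · congr 1
            simp [sub_eq_add_neg]
          · congr 1
            simp [Matrix.mulVec_neg, Matrix.neg_mulVec]
        · rw [col_l x l hl hl', Jm_left_o o o' l hl' ho ho',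
            hzk _ (pr_ne_o o o' ho ho' hev l hl hl') (pr_ne_o' o o' ho ho' hev l hl hl'), pr_pr]
          have hJ : (Jm b l (pr hev l) : F) * (lam l * Jm b l (pr hev l)) = lam l := by
            have := Jm_pr_mul_self (F := F) hev l
            linear_combination lam l * this
          rw [hJ]
          simp [pt_add_right, pt_smul_right]

end Cfsg.Agent.Lib.Helper13.SpTNLeaf
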