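import Mathlib
import Cfsg.Agent.Lib.Helper13.SpTNB2
import Cfsg.Agent.Lib.Helper13.SpTNZ

/-!
S5704 part (N), helper19's sub-market, leaf (B4) `isolate`: the commutator `⁅kB e_{l₀} 1, g⁆` isolates
the block `φ l₀` at position `pr l₀`.
-/

set_option autoImplicit false
set_option linter.unusedSectionVars false
set_option linter.unusedVariables false

namespace Cfsg.Agent.Lib.Helper13.SpTNLeaf
open Matrix QuadraticMap
open Cfsg.Agent.Lib.Helper25.Tens Cfsg.Agent.Lib.Helper25.TensLeaves Cfsg.Agent.Lib.Helper19.OSub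
open Cfsg.Agent.Lib.Helper25.SpT Cfsg.Agent.Lib.Helper19.SpTN
open scoped Kronecker commutatorElement

variable {F : Type*} [Field F] {a b : ℕ}

lemma kB_mul_kB_neg (y : Fin b → F) (c : F) :
    (kB y c : GL (Idx a b) F) * kB y (-c) = 1 := by
  apply gl_ext_pt
  intro x z
  rw [mv_mul, mv_kB_pt, mv_kB_pt, mv_one, sf_add_left, sf_smul_left, sf_self]
  congr 1
  module

lemma kB_inv (y : Fin b → F) (c : F) : (kB y c : GL (Idx a b) F)⁻¹ = kB y (-c) :=
  inv_eq_of_mul_eq_one_right (kB_mul_kB_neg y c)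

/-- `kB e_l c` on `x ⊗ e_m` -/
lemma mv_kB_single_pt (l m : Fin b) (c : F) (x : Fin a → F) :
    mv (kB (Pi.single l 1) c : GL (Idx a b) F) (pt x (Pi.single m 1)) =
      pt x (Pi.single m 1) + (c * Jm b m l) • pt x (Pi.single l 1) := by
  rw [mv_kB_pt, sf_single_single, pt_add_right, pt_smul_right]

variable [Fintype F] {Q : QuadraticForm F (Idx a b → F)} {M : Subgroup (GL (Idx a b) F)}

/-- (B4) isolation of one block -/
theorem isolate (h : MCtx a b Q M) (o o' : Fin b) (ho : o.val = 0) (ho' : o'.val = 1)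
    {g : GL (Idx a b) F} (hg : g ∈ M) {φ : Fin b → Matrix (Fin a) (Fin a) F} (hU : UW o o' g φ)
    (l₀ : Fin b) (hl : l₀ ≠ o) (hl' : l₀ ≠ o') :
    ∃ ε : F, ε ≠ 0 ∧ ε • φ l₀ ∈ SB o o' (pr h.eb l₀) M := by
  have hb : Even b := h.eb
  set l : Fin b := pr hb l₀ with hldef
  set k : GL (Idx a b) F := kB (Pi.single l₀ 1) 1 with hk
  have hkM : k ∈ M := kB_mem h _ _
  have hkinv : k⁻¹ = kB (Pi.single l₀ 1) (-1) := kB_inv _ _
  have hI := UW_inv o o' hU
  have hJo : (Jm b o l₀ : F) = 0 := Jm_o_right o o' l₀ hl' ho ho'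
  have hJl₀ : (Jm b l₀ l₀ : F) = 0 := Jm_diag b l₀
  -- the action of `k`, `k⁻¹`
  have hk1 : ∀ (x : Fin a → F) (m : Fin b), mv k (pt x (Pi.single m 1)) =
      pt x (Pi.single m 1) + (Jm b m l₀ : F) • pt x (Pi.single l₀ 1) := by
    intro x m
    rw [hk, mv_kB_single_pt, one_mul]
  have hk2 : ∀ (x : Fin a → F) (m : Fin b), mv k⁻¹ (pt x (Pi.single m 1)) =
      pt x (Pi.single m 1) - (Jm b m l₀ : F) • pt x (Pi.single l₀ 1) := by
    intro x m
    rw [hkinv, mv_kB_single_pt, neg_one_mul, neg_smul, sub_eq_add_neg]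
  have hko : ∀ x : Fin a → F, mv k (pt x (Pi.single o 1)) = pt x (Pi.single o 1) := by
    intro x
    rw [hk1, hJo, zero_smul, add_zero]
  have hko' : ∀ x : Fin a → F, mv k⁻¹ (pt x (Pi.single o 1)) = pt x (Pi.single o 1) := by
    intro x
    rw [hk2, hJo, zero_smul, sub_zero]
  have hkl₀ : ∀ x : Fin a → F, mv k (pt x (Pi.single l₀ 1)) = pt x (Pi.single l₀ 1) := by
    intro x
    rw [hk1, hJl₀, zero_smul, add_zero]
  -- the commutator
  set c : GL (Idx a b) F := k * g * k⁻¹ * g⁻¹ with hc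
  have hcM : c ∈ M := M.mul_mem (M.mul_mem (M.mul_mem hkM hg) (M.inv_mem hkM)) (M.inv_mem hg)
  have hcact : ∀ (m : Fin b), m ≠ o → m ≠ o' → ∀ x : Fin a → F,
      mv c (pt x (Pi.single m 1)) =
        pt x (Pi.single m 1) + pt ((-(Jm b m l₀ : F)) • (φ l₀ *ᵥ x)) (Pi.single o 1) := by
    intro m hm hm' x
    have s1 : mv g⁻¹ (pt x (Pi.single m 1)) =
        pt x (Pi.single m 1) - pt (φ m *ᵥ x) (Pi.single o 1) := by
      rw [hI.act m hm hm', Pi.neg_apply, Matrix.neg_mulVec,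
        show pt (-(φ m *ᵥ x)) (Pi.single o (1 : F)) = -pt (φ m *ᵥ x) (Pi.single o (1 : F)) by
          rw [← neg_one_smul F (φ m *ᵥ x), pt_smul_left, neg_one_smul], sub_eq_add_neg]
    have s2 : mv k⁻¹ (mv g⁻¹ (pt x (Pi.single m 1))) =
        pt x (Pi.single m 1) - (Jm b m l₀ : F) • pt x (Pi.single l₀ 1) -
          pt (φ m *ᵥ x) (Pi.single o 1) := by
      rw [s1, mv_sub, hk2, hko']
    have s3 : mv g (mv k⁻¹ (mv g⁻¹ (pt x (Pi.single m 1)))) =
        pt x (Pi.single m 1) + pt (φ m *ᵥ x) (Pi.single o 1) -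
          (Jm b m l₀ : F) • (pt x (Pi.single l₀ 1) + pt (φ l₀ *ᵥ x) (Pi.single o 1)) -
          pt (φ m *ᵥ x) (Pi.single o 1) := by
      rw [s2, mv_sub, mv_sub, mv_smul, hU.act m hm hm', hU.act l₀ hl hl', hU.fixW]
    have s4 : mv k (mv g (mv k⁻¹ (mv g⁻¹ (pt x (Pi.single m 1))))) =
        pt x (Pi.single m 1) + (Jm b m l₀ : F) • pt x (Pi.single l₀ 1) +
          pt (φ m *ᵥ x) (Pi.single o 1) -
          (Jm b m l₀ : F) • (pt x (Pi.single l₀ 1) + pt (φ l₀ *ᵥ x) (Pi.single o 1)) -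
          pt (φ m *ᵥ x) (Pi.single o 1) := by
      rw [s3, mv_sub, mv_sub, mv_add, mv_smul, mv_add, hk1, hko, hko, hkl₀]
    rw [hc, mv_mul, mv_mul, mv_mul, s4, pt_smul_left]
    module
  refine ⟨-(Jm b l l₀ : F), neg_ne_zero.mpr ?_, c, hcM, ?_⟩
  · have := Jm_pr_ne_zero (F := F) hb l
    rwa [hldef, pr_pr] at this
  · constructor
    · intro x
      rw [hc, mv_mul, mv_mul, mv_mul, hI.fixW, hko', hU.fixW, hko]
    · intro m hm hm' x
      rw [hcact m hm hm' x]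
      congr 2
      by_cases hml : m = l
      · subst hml
        simp only [sgl, ↓reduceIte]
        rw [Matrix.smul_mulVec]
      · have hJm : (Jm b m l₀ : F) = 0 := Jm_eq_zero_of_ne' hb m l₀ hml
        simp [sgl, hml, hJm]

end Cfsg.Agent.Lib.Helper13.SpTNLeaf
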