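import Mathlib
import Cfsg.Agent.Lib.Helper13.SpTNB4

/-!
S5704 part (N), helper19's sub-market, leaf (B5) `comm_kB_eq` ("KZ"): two isometries of `U_W`-form
with the same `φ`-blocks have the same commutator with `kB e_l ν`.
-/

set_option autoImplicit false
set_option linter.unusedSectionVars false
set_option linter.unusedVariables false

namespace Cfsg.Agent.Lib.Helper13.SpTNLeaf
open Matrix QuadraticMap
open Cfsg.Agent.Lib.Helper25.Tens Cfsg.Agent.Lib.Helper25.TensLeaves Cfsg.Agent.Lib.Helper19.OSub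
open Cfsg.Agent.Lib.Helper25.SpT Cfsg.Agent.Lib.Helper19.SpTN
open scoped Kronecker commutatorElement

variable {F : Type*} [Field F] {a b : ℕ} {Q : QuadraticForm F (Idx a b → F)}

/-- an isometry of `U_W`-form with zero blocks commutes with `kB e_l ν` (`l` a middle index) -/
theorem commute_kB_of_UW_zero (h : Ctx a b Q) (o o' : Fin b) (ho : o.val = 0) (ho' : o'.val = 1)
    {z : GL (Idx a b) F} (hz : z ∈ Cfsg.isometryGroup F ⇑Q)
    (hfix : ∀ k : Fin b, k ≠ o' → ∀ x : Fin a → F,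
      mv z (pt x (Pi.single k 1)) = pt x (Pi.single k 1))
    (l : Fin b) (hl : l ≠ o) (hl' : l ≠ o') (ν : F) :
    (kB (Pi.single l 1) ν : GL (Idx a b) F) * z = z * kB (Pi.single l 1) ν := by
  have hV : ∀ x : Fin a → F, cB (Pi.single l 1) (mv z (pt x (Pi.single o' 1))) = 0 := by
    intro x
    by_contra hne
    obtain ⟨x', hx'⟩ := exists_sf_ne_zero h.ea hne
    apply hx'
    rw [← polar_pt_left h x' (Pi.single l 1) (mv z (pt x (Pi.single o' 1)))]
    conv_lhs => rw [← hfix l hl' x']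
    rw [iso_polar hz, h.pol, sf_single_single, Jm_left_o' (F := F) o o' l hl ho ho', mul_zero]
  apply gl_ext
  apply pt_single_induction
  · rw [mv_zero, mv_zero]
  · intro v w hv hw
    rw [mv_add, mv_add, hv, hw]
  · intro x m
    rw [mv_mul, mv_mul]
    by_cases hm : m = o'
    · subst hm
      rw [mv_kB_single_pt, Jm_o'_right (F := F) o m l hl ho ho', mul_zero, zero_smul, add_zero,
        mv_kB, hV x, pt_zero_left, smul_zero, add_zero]
    · rw [hfix m hm x, mv_kB_single_pt, mv_add, mv_smul, hfix m hm, hfix l hl']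

/-- (B5) "KZ" -/
theorem comm_kB_eq (h : Ctx a b Q) (o o' : Fin b) (ho : o.val = 0) (ho' : o'.val = 1)
    {g d : GL (Idx a b) F} (hg : g ∈ Cfsg.isometryGroup F ⇑Q) (hd : d ∈ Cfsg.isometryGroup F ⇑Q)
    {φ : Fin b → Matrix (Fin a) (Fin a) F} (hUg : UW o o' g φ) (hUd : UW o o' d φ)
    (l : Fin b) (hl : l ≠ o) (hl' : l ≠ o') (ν : F) :
    ⁅(kB (Pi.single l 1) ν : GL (Idx a b) F), g⁆ = ⁅(kB (Pi.single l 1) ν : GL (Idx a b) F), d⁆ := by
  set k : GL (Idx a b) F := kB (Pi.single l 1) ν with hk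
  set z : GL (Idx a b) F := d⁻¹ * g with hzdef
  have hzi : z ∈ Cfsg.isometryGroup F ⇑Q :=
    (Cfsg.isometryGroup F ⇑Q).mul_mem ((Cfsg.isometryGroup F ⇑Q).inv_mem hd) hg
  have hUz : UW o o' z (-φ + φ) := UW_mul o o' (UW_inv o o' hUd) hUg
  have hfix : ∀ k : Fin b, k ≠ o' → ∀ x : Fin a → F,
      mv z (pt x (Pi.single k 1)) = pt x (Pi.single k 1) := by
    intro k hk x
    by_cases hko : k = o
    · subst hko
      exact hUz.fixW x
    · rw [hUz.act k hko hk, neg_add_cancel, Pi.zero_apply, Matrix.zero_mulVec, pt_zero_left,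
        add_zero]
  have hkz : k * z = z * k := commute_kB_of_UW_zero h o o' ho ho' hzi hfix l hl hl' ν
  have hzk : z * k⁻¹ = k⁻¹ * z := by
    rw [eq_inv_mul_iff_mul_eq, ← mul_assoc, hkz, mul_assoc, mul_inv_cancel, mul_one]
  have hgdz : g = d * z := by rw [hzdef]; group
  have e1 : k * (d * z) * k⁻¹ * (d * z)⁻¹ = k * d * (z * k⁻¹) * z⁻¹ * d⁻¹ := by group
  have e2 : k * d * (k⁻¹ * z) * z⁻¹ * d⁻¹ = k * d * k⁻¹ * d⁻¹ := by group
  rw [commutatorElement_def, commutatorElement_def, hgdz, e1, hzk, e2]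

end Cfsg.Agent.Lib.Helper13.SpTNLeaf
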