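/-
helper13: S2148 market "U3": the action of the stabiliser `GLn` of the nonisotropic point `⟨w0⟩` on the
hyperbolic line `⟨ve, vf⟩` in helper18's Witt model `SUm bar 1`, as `2 × 2` matrices.
-/
import Mathlib
import Cfsg.Agent.Lib.Helper12.U3Defs

set_option autoImplicit false

namespace Cfsg.Agent.Lib.Helper13.U3Line

open Cfsg.Agent.Lib.Helper18.PSUMod

section gen

variable {F : Type*} [Field F] {bar : F →+* F}

theorem hV_w0_right (x : V F 1) : hV bar x (vw 1) = x.2.1 0 := by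
  rw [hV_vw_right]
  simp [hW]

theorem mid_eq_zero_of_perp {x : V F 1} (h : hV bar x (vw 1) = 0) : x.2.1 = 0 := by
  rw [hV_w0_right] at h
  funext i
  have hi : i = 0 := Subsingleton.elim i 0
  rw [hi, h]; rfl

theorem vw_one_ne_zero : (vw 1 : V F 1) ≠ 0 := by
  intro h
  have := congrArg (fun x : V F 1 => x.2.1 0) h
  simp [vw] at this

theorem vw_smul_one (β : F) : (vw (β • (1 : Fin 1 → F)) : V F 1) = β • vw 1 := by
  simp [vw]

theorem vw_eq_smul (w : Fin 1 → F) : (vw w : V F 1) = w 0 • vw 1 := by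
  rw [← vw_smul_one]
  congr 1
  funext i
  have hi : i = 0 := Subsingleton.elim i 0
  rw [hi]; simp

/-- the line `⟨ve, vf⟩` is preserved by an element preserving `⟨w0⟩` -/
theorem mid_av_eq_zero {g : ↥(SUm bar 1)} {β : F} (hg : av g (vw 1) = β • vw 1) {x : V F 1}
    (hx : x.2.1 = 0) : (av g x).2.1 = 0 := by
  have hβ : β ≠ 0 := by
    rintro rfl
    rw [zero_smul] at hg
    exact vw_one_ne_zero (av_eq_zero.1 hg)
  apply mid_eq_zero_of_perp (bar := bar)
  have h1 := hV_av g x (vw 1)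
  rw [hg, hV_smul_right, hV_w0_right x, hx] at h1
  have h2 : bar β ≠ 0 := (map_ne_zero bar).mpr hβ
  have h3 : bar β * hV bar (av g x) (vw 1) = 0 := by simpa using h1
  rcases mul_eq_zero.mp h3 with h | h
  · exact absurd h h2
  · exact h

theorem ve_mid : (ve : V F 1).2.1 = 0 := rfl
theorem vf_mid : (vf : V F 1).2.1 = 0 := rfl

theorem eq_of_mid {x : V F 1} (hx : x.2.1 = 0) : x = x.1 • ve + x.2.2 • vf := by
  have h := decomp x
  rw [hx] at h
  have h0 : (vw (0 : Fin 1 → F) : V F 1) = 0 := rfl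
  rw [h0, add_zero] at h
  exact h

/-- the matrix of `g` on `⟨ve, vf⟩` -/
def Mt (g : ↥(SUm bar 1)) : Matrix (Fin 2) (Fin 2) F :=
  !![(av g ve).1, (av g vf).1; (av g ve).2.2, (av g vf).2.2]

theorem Mt_one : Mt (1 : ↥(SUm bar 1)) = 1 := by
  ext i j
  fin_cases i <;> fin_cases j <;> simp [Mt, ve, vf]

theorem Mt_mul (g g' : ↥(SUm bar 1)) (h1 : (av g' ve).2.1 = 0) (h2 : (av g' vf).2.1 = 0) :
    Mt (g * g') = Mt g * Mt g' := by
  have e1 : av (g * g') ve = (av g' ve).1 • av g ve + (av g' ve).2.2 • av g vf := by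
    rw [av_mul]
    conv_lhs => rw [eq_of_mid h1]
    rw [av_add, av_smul, av_smul]
  have e2 : av (g * g') vf = (av g' vf).1 • av g ve + (av g' vf).2.2 • av g vf := by
    rw [av_mul]
    conv_lhs => rw [eq_of_mid h2]
    rw [av_add, av_smul, av_smul]
  ext i j
  fin_cases i <;> fin_cases j <;>
    simp [Mt, e1, e2, Matrix.mul_apply, Fin.sum_univ_two] <;> ring

/-- the unitary relations for the matrix entries -/
theorem rel_ee (g : ↥(SUm bar 1)) (h1 : (av g ve).2.1 = 0) :
    (av g ve).1 * bar (av g ve).2.2 + (av g ve).2.2 * bar (av g ve).1 = 0 := by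
  have h := hV_av g (ve : V F 1) ve
  rw [hV_ve_right] at h
  simp only [hV, h1, hW_zero_left, add_zero] at h
  rw [h]; rfl

theorem rel_ff (g : ↥(SUm bar 1)) (h2 : (av g vf).2.1 = 0) :
    (av g vf).1 * bar (av g vf).2.2 + (av g vf).2.2 * bar (av g vf).1 = 0 := by
  have h := hV_av g (vf : V F 1) vf
  rw [hV_vf_right] at h
  simp only [hV, h2, hW_zero_left, add_zero] at h
  rw [h]; rfl

theorem rel_ef (g : ↥(SUm bar 1)) (h1 : (av g ve).2.1 = 0) :
    (av g ve).1 * bar (av g vf).2.2 + (av g ve).2.2 * bar (av g vf).1 = 1 := by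
  have h := hV_av g (ve : V F 1) vf
  rw [hV_vf_right] at h
  simp only [hV, h1, hW_zero_left, add_zero] at h
  rw [h]; rfl

theorem rel_fe (g : ↥(SUm bar 1)) (h2 : (av g vf).2.1 = 0) :
    (av g vf).1 * bar (av g ve).2.2 + (av g vf).2.2 * bar (av g ve).1 = 1 := by
  have h := hV_av g (vf : V F 1) ve
  rw [hV_ve_right] at h
  simp only [hV, h2, hW_zero_left, add_zero] at h
  rw [h]; rfl

/-- the determinant of the matrix on the line has norm one -/
theorem det_Mt_norm (g : ↥(SUm bar 1)) (h1 : (av g ve).2.1 = 0) (h2 : (av g vf).2.1 = 0) :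
    (Mt g).det * bar (Mt g).det = 1 := by
  have e1 := rel_ee g h1
  have e2 := rel_ff g h2
  have e3 := rel_ef g h1
  have e4 := rel_fe g h2
  rw [Mt, Matrix.det_fin_two_of, map_sub, map_mul, map_mul]
  linear_combination ((av g vf).1 * bar (av g ve).2.2 + (av g vf).2.2 * bar (av g ve).1) * e3 + e4
    - ((av g vf).1 * bar (av g vf).2.2 + (av g vf).2.2 * bar (av g vf).1) * e1

/-- coordinates adapted to `⟨w0⟩ ⊕ ⟨ve, vf⟩` -/
def eLine : V F 1 ≃ₗ[F] (Fin 1 → F) × (Fin 2 → F) where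
  toFun x := (x.2.1, ![x.1, x.2.2])
  invFun y := (y.2 0, y.1, y.2 1)
  map_add' x y := by
    refine Prod.ext rfl ?_
    funext i
    fin_cases i <;> simp
  map_smul' a x := by
    refine Prod.ext rfl ?_
    funext i
    fin_cases i <;> simp
  left_inv x := by
    obtain ⟨a, w, b⟩ := x
    simp
  right_inv y := by
    obtain ⟨w, v⟩ := y
    refine Prod.ext rfl ?_
    funext i
    fin_cases i <;> simp

/-- the determinant of `g` in terms of its matrix on the line and its eigenvalue on `w0` -/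
theorem det_eq_of_stab (g : V F 1 ≃ₗ[F] V F 1) {β : F} (hw : g (vw 1) = β • vw 1)
    (h1 : (g ve).2.1 = 0) (h2 : (g vf).2.1 = 0) :
    LinearMap.det (g : V F 1 →ₗ[F] V F 1) =
      β * (!![(g ve).1, (g vf).1; (g ve).2.2, (g vf).2.2] : Matrix (Fin 2) (Fin 2) F).det := by
  set M : Matrix (Fin 2) (Fin 2) F := !![(g ve).1, (g vf).1; (g ve).2.2, (g vf).2.2] with hM
  have key : (g : V F 1 →ₗ[F] V F 1) =
      ((eLine (F := F)).symm : (Fin 1 → F) × (Fin 2 → F) →ₗ[F] V F 1) ∘ₗ
        ((β • (LinearMap.id : (Fin 1 → F) →ₗ[F] (Fin 1 → F))).prodMap (Matrix.toLin' M)) ∘ₗ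
          ((eLine (F := F)).symm.symm : V F 1 →ₗ[F] (Fin 1 → F) × (Fin 2 → F)) := by
    apply LinearMap.ext
    intro x
    have hx : g x = x.1 • g ve + x.2.1 0 • (β • vw 1) + x.2.2 • g vf := by
      conv_lhs => rw [decomp x, vw_eq_smul x.2.1]
      rw [map_add, map_add, map_smul, map_smul, map_smul, hw]
    have e1 := eq_of_mid h1
    have e2 := eq_of_mid h2
    simp only [LinearMap.comp_apply, LinearEquiv.coe_coe, LinearEquiv.symm_symm]
    rw [hx]
    show _ = (eLine (F := F)).symm ((β • (LinearMap.id : (Fin 1 → F) →ₗ[F] (Fin 1 → F))) x.2.1,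
      Matrix.toLin' M ![x.1, x.2.2])
    rw [e1, e2]
    simp only [eLine, LinearEquiv.coe_symm_mk, Matrix.toLin'_apply, hM]
    refine Prod.ext ?_ (Prod.ext ?_ ?_)
    · simp [ve, vf, vw, Matrix.mulVec, dotProduct, Fin.sum_univ_two]
      ring
    · funext i
      have hi : i = 0 := Subsingleton.elim i 0
      subst hi
      simp [ve, vf, vw]
      ring
    · simp [ve, vf, vw, Matrix.mulVec, dotProduct, Fin.sum_univ_two]
      ring
  rw [key, LinearMap.det_conj, LinearMap.det_prodMap, LinearMap.det_smul, LinearMap.det_id,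
    LinearMap.det_toLin']
  simp

/-- `det g = 1` on the model: eigenvalue on `w0` times the determinant on the line -/
theorem det_Mt_mul (g : ↥(SUm bar 1)) {β : F} (hg : av g (vw 1) = β • vw 1) :
    β * (Mt g).det = 1 := by
  have h1 := mid_av_eq_zero hg ve_mid
  have h2 := mid_av_eq_zero hg vf_mid
  have hd : LinearEquiv.det (g : V F 1 ≃ₗ[F] V F 1) = 1 := ((mem_SUm bar).1 g.2).2
  have h3 := det_eq_of_stab (g : V F 1 ≃ₗ[F] V F 1) hg h1 h2
  rw [← LinearEquiv.coe_det, hd, Units.val_one] at h3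
  exact h3.symm

end gen

/-! ### a homomorphism to `PSL₂` from a multiplicative family of matrices with square determinants -/

section lift

open Matrix

variable {Γ : Type*} [Group Γ] {F : Type*} [Field F]

theorem exists_psl_hom (M : Γ → Matrix (Fin 2) (Fin 2) F)
    (hmul : ∀ g g', M (g * g') = M g * M g')
    (hsq : ∀ g, ∃ ε : F, ε ≠ 0 ∧ ε * ε = (M g).det) :
    ∃ ψ : Γ →* Matrix.ProjectiveSpecialLinearGroup (Fin 2) F,
      ∀ g, ψ g = 1 ↔ ∃ a : F, M g = a • (1 : Matrix (Fin 2) (Fin 2) F) := by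
  classical
  choose ε hε0 hε using hsq
  have hdet : ∀ g, ((ε g)⁻¹ • M g).det = 1 := by
    intro g
    rw [Matrix.det_smul, Fintype.card_fin, ← hε g]
    field_simp [hε0 g]
  let S : Γ → SpecialLinearGroup (Fin 2) F := fun g => ⟨(ε g)⁻¹ • M g, hdet g⟩
  have hcen : ∀ (A : SpecialLinearGroup (Fin 2) F) (c : F),
      (A : Matrix (Fin 2) (Fin 2) F) = c • (1 : Matrix (Fin 2) (Fin 2) F) →
        A ∈ Subgroup.center (SpecialLinearGroup (Fin 2) F) := by
    intro A c hA
    rw [Matrix.SpecialLinearGroup.mem_center_iff]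
    refine ⟨c, ?_, ?_⟩
    · have h1 := A.det_coe
      rw [hA, Matrix.det_smul, Matrix.det_one, mul_one] at h1
      exact h1
    · rw [hA]
      ext i j
      simp [Matrix.smul_apply, Matrix.one_apply, Matrix.scalar_apply, Matrix.diagonal_apply]
  have hmap : ∀ g g', (QuotientGroup.mk (S (g * g')) : Matrix.ProjectiveSpecialLinearGroup (Fin 2) F)
      = QuotientGroup.mk (S g) * QuotientGroup.mk (S g') := by
    intro g g'
    have hcc : (ε (g * g') * (ε g)⁻¹ * (ε g')⁻¹) * (ε (g * g') * (ε g)⁻¹ * (ε g')⁻¹) = 1 := by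
      have h1 := hε (g * g')
      rw [hmul, Matrix.det_mul, ← hε g, ← hε g'] at h1
      have := hε0 g
      have := hε0 g'
      field_simp
      linear_combination h1
    have hZdet : ((ε (g * g') * (ε g)⁻¹ * (ε g')⁻¹) • (1 : Matrix (Fin 2) (Fin 2) F)).det = 1 := by
      rw [Matrix.det_smul, Matrix.det_one, mul_one, Fintype.card_fin, pow_two, hcc]
    obtain ⟨Z, hZeq⟩ : ∃ Z : SpecialLinearGroup (Fin 2) F, (Z : Matrix (Fin 2) (Fin 2) F) =
        (ε (g * g') * (ε g)⁻¹ * (ε g')⁻¹) • (1 : Matrix (Fin 2) (Fin 2) F) := ⟨⟨_, hZdet⟩, rfl⟩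
    have hZ := hcen Z _ hZeq
    have hprod : S g * S g' = Z * S (g * g') := by
      apply Subtype.ext
      show ((ε g)⁻¹ • M g) * ((ε g')⁻¹ • M g') =
        (Z : Matrix (Fin 2) (Fin 2) F) * ((ε (g * g'))⁻¹ • M (g * g'))
      rw [hZeq, hmul, Matrix.smul_mul, Matrix.mul_smul, Matrix.smul_mul, Matrix.one_mul, smul_smul,
        smul_smul]
      congr 1
      have := hε0 (g * g')
      field_simp
    rw [← QuotientGroup.mk_mul, hprod, QuotientGroup.mk_mul,
      (QuotientGroup.eq_one_iff Z).mpr hZ, one_mul]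
  refine ⟨MonoidHom.mk' (fun g => (QuotientGroup.mk (S g) :
    Matrix.ProjectiveSpecialLinearGroup (Fin 2) F)) hmap, ?_⟩
  intro g
  show (QuotientGroup.mk (S g) : Matrix.ProjectiveSpecialLinearGroup (Fin 2) F) = 1 ↔ _
  rw [QuotientGroup.eq_one_iff, Matrix.SpecialLinearGroup.mem_center_iff]
  constructor
  · rintro ⟨r, -, hr⟩
    refine ⟨ε g * r, ?_⟩
    have h1 : (ε g)⁻¹ • M g = Matrix.scalar (Fin 2) r := hr.symm
    have h2 : M g = ε g • ((ε g)⁻¹ • M g) := by
      rw [smul_smul, mul_inv_cancel₀ (hε0 g), one_smul]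
    rw [h2, h1, mul_smul]
    congr 1
    ext i j
    simp [Matrix.smul_apply, Matrix.one_apply, Matrix.scalar_apply, Matrix.diagonal_apply]
  · rintro ⟨a, ha⟩
    have h := hcen (S g) ((ε g)⁻¹ * a) (by
      show (ε g)⁻¹ • M g = _
      rw [ha, smul_smul])
    exact (Matrix.SpecialLinearGroup.mem_center_iff).mp h

end lift

end Cfsg.Agent.Lib.Helper13.U3Line
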