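/-
helper13: leaf CARDSL (`card_SLn`) of helper12's S2148 market "U3" (`notes/S2148_leaves.lean`):
`SLn = SU(⟨ve, vf⟩)` has order `q (q² - 1)`, by comparison with the model `SUm bar 0 ≃ SU₂(q)`.
-/
import Mathlib
import Cfsg.Agent.Lib.Helper12.U3Defs
import Cfsg.Agent.Lib.Helper13.U3Line
import Cfsg.Agent.Lib.Helper14.Unitary2

set_option autoImplicit false

namespace Cfsg.Agent.Lib.Helper13.U3Leaf

open Cfsg.Agent.Lib.Helper18.PSUMod Cfsg.Agent.Lib.Helper5.HermBridge Cfsg.Agent.Lib.Helper12.U3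
open Cfsg.Agent.Lib.Helper13 Cfsg.Agent.Lib.Helper13.U3Line

section m0

variable {F : Type*} [Field F] {bar : F →+* F}

/-- `(Fin 1 → F) × V F 0 ≃ V F 1` -/
def Theta : ((Fin 1 → F) × V F 0) ≃ₗ[F] V F 1 where
  toFun y := (y.2.1, y.1, y.2.2.2)
  invFun x := (x.2.1, (x.1, 0, x.2.2))
  map_add' _ _ := rfl
  map_smul' _ _ := rfl
  left_inv y := by
    obtain ⟨w, a, z, b⟩ := y
    have : z = 0 := Subsingleton.elim _ _
    subst this
    rfl
  right_inv x := by
    obtain ⟨a, w, b⟩ := x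
    rfl

/-- extension of an automorphism of the line to the model space, fixing `w0` -/
noncomputable def extE (g0 : V F 0 ≃ₗ[F] V F 0) : V F 1 ≃ₗ[F] V F 1 :=
  cjE (Theta (F := F)) ((LinearEquiv.refl F (Fin 1 → F)).prodCongr g0)

theorem extE_apply (g0 : V F 0 ≃ₗ[F] V F 0) (x : V F 1) :
    extE g0 x = ((g0 (x.1, 0, x.2.2)).1, x.2.1, (g0 (x.1, 0, x.2.2)).2.2) := rfl

theorem det_extE (g0 : V F 0 ≃ₗ[F] V F 0) : LinearEquiv.det (extE g0) = LinearEquiv.det g0 := by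
  unfold extE
  rw [det_cjE]
  apply Units.ext
  rw [LinearEquiv.coe_det, LinearEquiv.coe_det, LinearEquiv.coe_prodCongr, LinearMap.det_prodMap]
  simp

theorem hV_split (x y : V F 1) :
    hV bar x y = hV bar ((x.1, 0, x.2.2) : V F 0) ((y.1, 0, y.2.2) : V F 0) + hW bar x.2.1 y.2.1 := by
  simp [hV, hW]

theorem eta0 (x : V F 0) : ((x.1, 0, x.2.2) : V F 0) = x := by
  obtain ⟨a, z, b⟩ := x
  have : z = 0 := Subsingleton.elim _ _
  subst this
  rfl

theorem extE_mem {g0 : V F 0 ≃ₗ[F] V F 0} (hg : g0 ∈ SUm bar 0) : extE g0 ∈ SUm bar 1 := by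
  rw [mem_SUm] at hg ⊢
  refine ⟨?_, by rw [det_extE, hg.2]⟩
  intro x y
  rw [hV_split (bar := bar) (extE g0 x), hV_split (bar := bar) x y]
  simp only [extE_apply]
  rw [eta0, eta0, hg.1]

/-- `(Fin 2 → F) ≃ V F 0` -/
def E0 : (Fin 2 → F) ≃ₗ[F] V F 0 where
  toFun v := (v 0, 0, v 1)
  invFun x := ![x.1, x.2.2]
  map_add' _ _ := Prod.ext rfl (Prod.ext (Subsingleton.elim _ _) rfl)
  map_smul' _ _ := Prod.ext rfl (Prod.ext (Subsingleton.elim _ _) rfl)
  left_inv v := by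
    funext i
    fin_cases i <;> rfl
  right_inv x := eta0 x

/-- the automorphism of the line given by a matrix -/
noncomputable def resE (A : Matrix.SpecialLinearGroup (Fin 2) F) : V F 0 ≃ₗ[F] V F 0 :=
  cjE (E0 (F := F)) (Matrix.SpecialLinearGroup.toLin' A)

theorem det_resE (A : Matrix.SpecialLinearGroup (Fin 2) F) : LinearEquiv.det (resE A) = 1 := by
  unfold resE
  rw [det_cjE]
  apply Units.ext
  rw [LinearEquiv.coe_det, Matrix.SpecialLinearGroup.toLin'_to_linearMap, LinearMap.det_toLin',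
    A.det_coe, Units.val_one]

theorem resE_apply (A : Matrix.SpecialLinearGroup (Fin 2) F) (x : V F 0) :
    resE A x = ((A : Matrix (Fin 2) (Fin 2) F) 0 0 * x.1 + (A : Matrix (Fin 2) (Fin 2) F) 0 1 * x.2.2,
      0, (A : Matrix (Fin 2) (Fin 2) F) 1 0 * x.1 + (A : Matrix (Fin 2) (Fin 2) F) 1 1 * x.2.2) := by
  unfold resE
  rw [cjE_apply]
  show E0 ((Matrix.SpecialLinearGroup.toLin' A) ![x.1, x.2.2]) = _
  rw [Matrix.SpecialLinearGroup.toLin'_apply]
  simp [E0]

end m0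

section

variable {F : Type*} [Field F] [Fintype F] {q : ℕ} (hF : Fintype.card F = q ^ 2)

theorem mem_SLn_iff {g : GG hF} : g ∈ SLn hF ↔ av g (vw 1) = vw 1 := Iff.rfl

theorem det_Mt_of_mem_SLn {g : GG hF} (hg : g ∈ SLn hF) : (Mt g).det = 1 := by
  have h1 : av g (vw 1) = (1 : F) • vw 1 := by rw [one_smul]; exact hg
  have := det_Mt_mul g h1
  rwa [one_mul] at this

theorem mid_of_mem_SLn {g : GG hF} (hg : g ∈ SLn hF) :
    (av g ve).2.1 = 0 ∧ (av g vf).2.1 = 0 := by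
  have h1 : av g (vw 1) = (1 : F) • vw 1 := by rw [one_smul]; exact hg
  exact ⟨mid_av_eq_zero h1 ve_mid, mid_av_eq_zero h1 vf_mid⟩

/-- the matrix of an element of `SLn` as an element of `SL₂(F)` -/
noncomputable def MtSL {g : GG hF} (hg : g ∈ SLn hF) : Matrix.SpecialLinearGroup (Fin 2) F :=
  ⟨Mt g, det_Mt_of_mem_SLn hF hg⟩

theorem MtSL_coe {g : GG hF} (hg : g ∈ SLn hF) :
    ((MtSL hF hg : Matrix.SpecialLinearGroup (Fin 2) F) : Matrix (Fin 2) (Fin 2) F) = Mt g := rfl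

theorem resE_mem {g : GG hF} (hg : g ∈ SLn hF) :
    resE (MtSL hF hg) ∈ SUm (frobHom hF) 0 := by
  rw [mem_SUm]
  refine ⟨?_, det_resE _⟩
  obtain ⟨m1, m2⟩ := mid_of_mem_SLn hF hg
  have e1 := rel_ee g m1
  have e2 := rel_ff g m2
  have e3 := rel_ef g m1
  have e4 := rel_fe g m2
  intro x y
  rw [resE_apply, resE_apply, MtSL_coe]
  simp only [hV, hW, Finset.univ_eq_empty, Finset.sum_empty, add_zero, map_add, map_mul]
  simp only [Mt, Matrix.of_apply, Matrix.cons_val', Matrix.cons_val_zero, Matrix.cons_val_one,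
    Matrix.cons_val_fin_one]
  linear_combination (x.1 * frobHom hF y.1) * e1 + (x.2.2 * frobHom hF y.2.2) * e2 +
    (x.1 * frobHom hF y.2.2) * e3 + (x.2.2 * frobHom hF y.1) * e4

include hF in
theorem card_SU2 : Nat.card (Cfsg.SU 2 F q) = q * (q ^ 2 - 1) := by
  classical
  have h1 := Cfsg.Agent.Lib.Helper14.card_SU_mul hF 2 (by norm_num)
  have h2 := Cfsg.Agent.Lib.Helper14.card_GU hF 2
  have hprod : q ^ (2 * (2 - 1) / 2) * ∏ i ∈ Finset.range 2,
      (if Even i then q ^ (i + 1) + 1 else q ^ (i + 1) - 1) = q * ((q + 1) * (q ^ 2 - 1)) := by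
    simp [Finset.prod_range_succ]
  rw [h2, hprod] at h1
  have h3 : (q + 1) * Nat.card (Cfsg.SU 2 F q) = (q + 1) * (q * (q ^ 2 - 1)) := by
    rw [h1]; ring
  exact Nat.eq_of_mul_eq_mul_left (by omega) h3

/-- N1 -/
theorem card_SLn : Nat.card (SLn hF) = q * (q ^ 2 - 1) := by
  obtain ⟨ζ, τ, hζ, hτ, hN⟩ := exists_consts hF
  rw [← card_SU2 hF, Nat.card_congr (PsiF (m := 0) hF hζ hτ hN).toEquiv]
  have hfin : Finite ↥(SUm (frobHom hF) 0) := inferInstance
  apply le_antisymm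
  · -- `SLn ↪ SUm bar 0`
    let f : ↥(SLn hF) → ↥(SUm (frobHom hF) 0) := fun g =>
      ⟨resE (MtSL hF g.2), resE_mem hF g.2⟩
    apply Nat.card_le_card_of_injective f
    intro g g' h
    have h1 : resE (MtSL hF g.2) = resE (MtSL hF g'.2) := congrArg Subtype.val h
    have h2 : Mt (g : GG hF) = Mt (g' : GG hF) := by
      have h3 := (cjE (E0 (F := F))).injective h1
      have h4 := Matrix.SpecialLinearGroup.toLin'_injective h3
      exact congrArg Subtype.val h4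
    obtain ⟨m1, m2⟩ := mid_of_mem_SLn hF g.2
    obtain ⟨m1', m2'⟩ := mid_of_mem_SLn hF g'.2
    have e00 := congrFun (congrFun h2 0) 0
    have e01 := congrFun (congrFun h2 0) 1
    have e10 := congrFun (congrFun h2 1) 0
    have e11 := congrFun (congrFun h2 1) 1
    simp [Mt] at e00 e01 e10 e11
    apply Subtype.ext
    apply av_ext3
    · rw [eq_of_mid m1, eq_of_mid m1', e00, e10]
    · rw [eq_of_mid m2, eq_of_mid m2', e01, e11]
    · intro w
      rw [vw_eq_smul w, av_smul, av_smul]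
      have a1 : av (g : GG hF) (vw 1) = vw 1 := g.2
      have a2 : av (g' : GG hF) (vw 1) = vw 1 := g'.2
      rw [a1, a2]
  · -- `SUm bar 0 ↪ SLn`
    let f : ↥(SUm (frobHom hF) 0) → ↥(SLn hF) := fun g0 =>
      ⟨⟨extE (g0 : V F 0 ≃ₗ[F] V F 0), extE_mem g0.2⟩, by
        show extE (g0 : V F 0 ≃ₗ[F] V F 0) (vw 1) = vw 1
        rw [extE_apply]
        have h0 : (((vw 1 : V F 1).1, 0, (vw 1 : V F 1).2.2) : V F 0) = 0 := rfl
        rw [h0, map_zero]
        rfl⟩
    apply Nat.card_le_card_of_injective f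
    intro g0 g0' h
    have h1 : extE (g0 : V F 0 ≃ₗ[F] V F 0) = extE (g0' : V F 0 ≃ₗ[F] V F 0) := by
      have := congrArg (fun s : ↥(SLn hF) => ((s : GG hF) : V F 1 ≃ₗ[F] V F 1)) h
      exact this
    apply Subtype.ext
    apply LinearEquiv.ext
    intro x
    have h2 := congrArg (fun e : V F 1 ≃ₗ[F] V F 1 => e (x.1, 0, x.2.2)) h1
    simp only [extE_apply] at h2
    rw [eta0] at h2
    have h3 := congrArg Prod.fst h2
    have h4 := congrArg (fun p : V F 1 => p.2.2) h2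
    simp only at h3 h4
    refine Prod.ext h3 (Prod.ext (Subsingleton.elim _ _) h4)

end

end Cfsg.Agent.Lib.Helper13.U3Leaf
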