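/-
helper13: leaf LINEHOM (`concl_of_le_GLn`) of helper12's S2148 market "U3" (`notes/S2148_leaves.lean`):
Dickson's list for the subgroups of `GLn / YY = PGU₂(q) ≤ PSL₂(F)`.
-/
import Mathlib
import Cfsg.Agent.Lib.Helper12.U3Defs
import Cfsg.Agent.Lib.Helper13.U3Line

set_option autoImplicit false

namespace Cfsg.Agent.Lib.Helper13.U3Leaf

open Cfsg.Agent.Lib.Helper18.PSUMod Cfsg.Agent.Lib.Helper5.HermBridge Cfsg.Agent.Lib.Helper12.U3
open Cfsg.Agent.Lib.Helper13 Cfsg.Agent.Lib.Helper13.U3Line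

/-- transport of Dickson's conclusion along an isomorphism -/
theorem concl'_of_equiv {F : Type*} [Field F] [Fintype F] {q p : ℕ} [Fact p.Prime] {X X' : Type*}
    [Group X] [Group X'] (e : X ≃* X') (h : Dk.Concl' F q p X) : Dk.Concl' F q p X' := by
  unfold Dk.Concl' at h ⊢
  rcases h with ⟨k, hk, h⟩ | h | ⟨⟨f⟩⟩ | ⟨⟨f⟩⟩ | ⟨⟨f⟩⟩ | ⟨K, iK, jK, m, hm, h⟩
  · left
    refine ⟨k, hk, ?_⟩
    rcases h with ⟨hc, hcard⟩ | ⟨⟨f⟩⟩
    · left
      refine ⟨?_, ?_⟩
      · have := hc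
        exact isCyclic_of_surjective e e.surjective
      · rw [← hcard]; exact Nat.card_congr e.symm.toEquiv
    · right; exact ⟨e.symm.trans f⟩
  · right; left
    obtain ⟨⟨P, K, hK, ⟨f⟩⟩, hdvd, hp⟩ := h
    refine ⟨⟨P, K, hK, ⟨e.symm.trans f⟩⟩, ?_, ?_⟩
    · rw [← Nat.card_congr e.toEquiv]; exact hdvd
    · have h1 : commutator X' = (commutator X).map e.toMonoidHom := by
        rw [commutator_def, commutator_def, Subgroup.map_commutator,
          Subgroup.map_top_of_surjective _ e.surjective]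
      rw [h1]
      exact hp.map _
  · right; right; left; exact ⟨e.symm.trans f⟩
  · right; right; right; left; exact ⟨e.symm.trans f⟩
  · right; right; right; right; left; exact ⟨e.symm.trans f⟩
  · right; right; right; right; right
    refine ⟨K, iK, jK, m, hm, ?_⟩
    rcases h with ⟨⟨f⟩⟩ | ⟨⟨f⟩⟩
    · left; exact ⟨e.symm.trans f⟩
    · right; exact ⟨e.symm.trans f⟩

section

variable {F : Type*} [Field F] [Fintype F] {q : ℕ} (hF : Fintype.card F = q ^ 2)

include hF in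
/-- elements of norm one are non-zero squares -/
theorem exists_sqrt_of_norm_one {δ : F} (h : δ * δ ^ q = 1) : ∃ ε : F, ε ≠ 0 ∧ ε * ε = δ := by
  have hδ0 : δ ≠ 0 := by
    rintro rfl
    rw [zero_mul] at h
    exact zero_ne_one h
  have hsq : IsSquare δ := by
    by_cases h2 : ringChar F = 2
    · exact FiniteField.isSquare_of_char_two h2 δ
    · rw [FiniteField.isSquare_iff h2 hδ0, hF]
      have hodd : Fintype.card F % 2 = 1 := FiniteField.odd_card_of_char_ne_two h2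
      rw [hF] at hodd
      have hqodd : Odd q := by
        rcases Nat.even_or_odd q with he | ho
        · exfalso
          obtain ⟨r, rfl⟩ := he
          have : (r + r) ^ 2 = 2 * (2 * r * r) := by ring
          omega
        · exact ho
      obtain ⟨k, rfl⟩ := hqodd
      have e1 : (2 * k + 1) ^ 2 / 2 = (2 * k + 1 + 1) * k := by
        have : (2 * k + 1) ^ 2 = 2 * ((2 * k + 1 + 1) * k) + 1 := by ring
        rw [this]; omega
      rw [e1, pow_mul]
      have e2 : δ ^ (2 * k + 1 + 1) = 1 := by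
        rw [pow_succ, mul_comm]; exact h
      rw [e2, one_pow]
  obtain ⟨r, hr⟩ := hsq
  refine ⟨r, ?_, hr.symm⟩
  rintro rfl
  rw [mul_zero] at hr
  exact hδ0 hr

theorem mid_of_mem_GLn {g : GG hF} (hg : g ∈ GLn hF) :
    (av g ve).2.1 = 0 ∧ (av g vf).2.1 = 0 := by
  obtain ⟨b, hb⟩ := hg
  exact ⟨mid_av_eq_zero hb ve_mid, mid_av_eq_zero hb vf_mid⟩

theorem Mt_scalar_iff {g : GG hF} (hg : g ∈ GLn hF) :
    (∃ a : F, Mt g = a • (1 : Matrix (Fin 2) (Fin 2) F)) ↔ g ∈ YY hF := by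
  obtain ⟨h1, h2⟩ := mid_of_mem_GLn hF hg
  constructor
  · rintro ⟨a, ha⟩
    have e00 := congrFun (congrFun ha 0) 0
    have e01 := congrFun (congrFun ha 0) 1
    have e10 := congrFun (congrFun ha 1) 0
    have e11 := congrFun (congrFun ha 1) 1
    simp [Mt] at e00 e01 e10 e11
    refine ⟨a, ?_, ?_⟩
    · rw [eq_of_mid h1, e00, e10, zero_smul, add_zero]
    · rw [eq_of_mid h2, e01, e11, zero_smul, zero_add]
  · rintro ⟨a, ha1, ha2⟩
    refine ⟨a, ?_⟩
    ext i j
    fin_cases i <;> fin_cases j <;> simp only [Mt, ha1, ha2] <;> simp [ve, vf]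

/-- N4 LINEHOM: Dickson for the subgroups of `GLn / YY = PGU_2(q) ≤ PSL_2(F)`. -/
theorem concl_of_le_GLn {p : ℕ} [Fact p.Prime] [CharP F p] (C : Subgroup (GG hF))
    (hC : C ≤ GLn hF) [((YY hF).subgroupOf C).Normal] :
    Dk.Concl' F (Fintype.card F) p (↥C ⧸ (YY hF).subgroupOf C) := by
  obtain ⟨ψ, hψ⟩ := exists_psl_hom (Γ := ↥C) (fun c => Mt (c : GG hF))
    (fun c c' => by
      obtain ⟨h1, h2⟩ := mid_of_mem_GLn hF (hC c'.2)
      exact Mt_mul (c : GG hF) (c' : GG hF) h1 h2)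
    (fun c => by
      obtain ⟨h1, h2⟩ := mid_of_mem_GLn hF (hC c.2)
      have h3 := det_Mt_norm (c : GG hF) h1 h2
      rw [frob_apply] at h3
      exact exists_sqrt_of_norm_one hF h3)
  have hker : ψ.ker = (YY hF).subgroupOf C := by
    ext c
    rw [MonoidHom.mem_ker, hψ, Subgroup.mem_subgroupOf]
    exact Mt_scalar_iff hF (hC c.2)
  have e1 : ↥C ⧸ (YY hF).subgroupOf C ≃* ↥C ⧸ ψ.ker :=
    QuotientGroup.quotientMulEquivOfEq hker.symm
  have e2 : ↥C ⧸ ψ.ker ≃* ↥ψ.range := QuotientGroup.quotientKerEquivRange ψ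
  exact concl'_of_equiv (e1.trans e2).symm (Dk.dickson_subgroup' p ψ.range)

end

end Cfsg.Agent.Lib.Helper13.U3Leaf
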