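/-
helper13: leaf YY (`YY_comm`, `card_YY`, `YY_le_LL`, `LL_le_GLn`, `card_inf_YY`) of helper12's S2148
market "U3" (`notes/S2148_leaves.lean`): the scalars `YY` of the line `⟨ve, vf⟩`.
-/
import Mathlib
import Cfsg.Agent.Lib.Helper12.U3Defs
import Cfsg.Agent.Lib.Helper13.U3Line
import Cfsg.Agent.Lib.Helper13.U3LINEHOM
import Cfsg.Agent.Lib.Helper14.Unitary2

set_option autoImplicit false

namespace Cfsg.Agent.Lib.Helper13.U3Leaf

open Cfsg.Agent.Lib.Helper18.PSUMod Cfsg.Agent.Lib.Helper5.HermBridge Cfsg.Agent.Lib.Helper12.U3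
open Cfsg.Agent.Lib.Helper13 Cfsg.Agent.Lib.Helper13.U3Line

section

variable {F : Type*} [Field F] [Fintype F] {q : ℕ} (hF : Fintype.card F = q ^ 2)

/-- N3c -/
theorem YY_le_LL : YY hF ≤ LL hF := by
  rintro y ⟨a, h1, h2⟩
  exact ⟨⟨a, h1⟩, ⟨a, h2⟩⟩

/-- N3d -/
theorem LL_le_GLn : LL hF ≤ GLn hF := by
  intro l hl
  refine ⟨(Bof (l : V F 1 ≃ₗ[F] V F 1) 1) 0, ?_⟩
  show av l (vw 1) = _
  rw [av_vw_of_mem_Le hl, vw_eq_smul]

theorem YY_props {y : GG hF} (hy : y ∈ YY hF) :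
    av y ve = ca y • ve ∧ av y vf = ca y • vf ∧ ca y * ca y ^ q = 1 := by
  obtain ⟨a, h1, h2⟩ := hy
  have hca : ca y = a := by rw [ca, h1]; simp [ve]
  have hcb : cb y = a := by rw [cb, h2]; simp [vf]
  have hPe : y ∈ PP hF := ⟨a, h1⟩
  have h3 := ca_mul_cb hPe
  rw [hcb, frob_apply, hca] at h3
  rw [hca]
  exact ⟨h1, h2, h3⟩

theorem Mt_of_mem_YY {y : GG hF} (hy : y ∈ YY hF) :
    Mt y = ca y • (1 : Matrix (Fin 2) (Fin 2) F) := by
  obtain ⟨h1, h2, -⟩ := YY_props hF hy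
  ext i j
  fin_cases i <;> fin_cases j <;> simp only [Mt, h1, h2] <;> simp [ve, vf]

theorem YY_w0 {y : GG hF} (hy : y ∈ YY hF) : av y (vw 1) = (ca y * ca y)⁻¹ • vw 1 := by
  obtain ⟨β, hβ⟩ := LL_le_GLn hF (YY_le_LL hF hy)
  have h1 := det_Mt_mul y hβ
  rw [Mt_of_mem_YY hF hy, Matrix.det_smul, Matrix.det_one, mul_one, Fintype.card_fin] at h1
  have h2 : β = (ca y * ca y)⁻¹ := eq_inv_of_mul_eq_one_left (by linear_combination h1)
  rw [hβ, h2]

/-- N3a -/
theorem YY_comm (y : GG hF) (hy : y ∈ YY hF) (g : GG hF) (hg : g ∈ GLn hF) : y * g = g * y := by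
  obtain ⟨h1, h2, -⟩ := YY_props hF hy
  have h3 := YY_w0 hF hy
  obtain ⟨m1, m2⟩ := mid_of_mem_GLn hF hg
  obtain ⟨β, hβ⟩ := hg
  apply av_ext3
  · rw [av_mul, av_mul, h1, av_smul]
    conv_lhs => rw [eq_of_mid m1]
    rw [av_add, av_smul, av_smul, h1, h2]
    conv_rhs => rw [eq_of_mid m1]
    simp only [smul_add, smul_smul]
    rw [mul_comm (ca y), mul_comm (ca y)]
  · rw [av_mul, av_mul, h2, av_smul]
    conv_lhs => rw [eq_of_mid m2]
    rw [av_add, av_smul, av_smul, h1, h2]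
    conv_rhs => rw [eq_of_mid m2]
    simp only [smul_add, smul_smul]
    rw [mul_comm (ca y), mul_comm (ca y)]
  · intro w
    rw [av_mul, av_mul, vw_eq_smul w, av_smul, av_smul, av_smul, av_smul]
    have e1 : av g (vw 1) = β • vw 1 := hβ
    rw [e1, h3, av_smul, av_smul, e1, h3]
    simp only [smul_smul]
    congr 1
    ring

/-- `ca` is multiplicative on `PP` -/
theorem ca_mul_of_mem {g g' : GG hF} (hg : g ∈ PP hF) (hg' : g' ∈ PP hF) :
    ca (g * g') = ca g * ca g' := by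
  have h : av (g * g') ve = (ca g' * ca g) • ve := by
    rw [av_mul, av_ve_of_mem_Pe hg', av_smul, av_ve_of_mem_Pe hg, smul_smul]
  rw [ca, h]
  simp [ve, mul_comm]

/-- `ca` is injective on `LL` -/
theorem eq_one_of_ca_eq_one {l : GG hF} (hl : l ∈ LL hF) (h : ca l = 1) : l = 1 := by
  have hPe : l ∈ PP hF := hl.1
  have h1 : av l ve = ve := by rw [av_ve_of_mem_Pe hPe, h, one_smul]
  have hcb : cb l = 1 := by
    have h3 := ca_mul_cb hPe
    rw [h, one_mul] at h3
    have h4 := congrArg (frobHom hF) h3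
    rw [(barOK_frob hF).invol, map_one] at h4
    exact h4
  have h2 : av l vf = vf := by rw [av_vf_of_mem_Pf hl.2, hcb, one_smul]
  obtain ⟨β, hβ⟩ := LL_le_GLn hF hl
  have h3 := det_Mt_mul l hβ
  have hM : Mt l = 1 := by
    ext i j
    fin_cases i <;> fin_cases j <;> simp only [Mt, h1, h2] <;> simp [ve, vf]
  rw [hM, Matrix.det_one, mul_one] at h3
  apply av_ext3
  · rw [h1, av_one]
  · rw [h2, av_one]
  · intro w
    rw [vw_eq_smul w, av_smul, av_one]
    have e1 : av l (vw 1) = β • vw 1 := hβ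
    rw [e1, h3, one_smul]

theorem ca_ne_zero_of_mem {g : GG hF} (hg : g ∈ PP hF) : ca g ≠ 0 := ca_ne_zero hg

/-- the elements of `LL` of norm one are the scalars of the line -/
theorem mem_YY_iff_of_mem_LL {l : GG hF} (hl : l ∈ LL hF) :
    l ∈ YY hF ↔ ca l ^ (q + 1) = 1 := by
  constructor
  · intro hy
    obtain ⟨-, -, h⟩ := YY_props hF hy
    rw [pow_succ, mul_comm]; exact h
  · intro h
    have hPe : l ∈ PP hF := hl.1
    have h3 := ca_mul_cb hPe
    rw [frob_apply] at h3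
    -- `cb l = ca l`
    have h4 : ca l * ca l ^ q = 1 := by rw [pow_succ, mul_comm] at h; exact h
    have h5 : cb l ^ q = ca l ^ q := by
      have hca0 := ca_ne_zero hPe
      exact mul_left_cancel₀ hca0 (h3.trans h4.symm)
    have h6 : cb l = ca l := by
      have := congrArg (frobHom hF) h5
      rw [← frob_apply hF, ← frob_apply hF, (barOK_frob hF).invol, (barOK_frob hF).invol] at this
      exact this
    exact ⟨ca l, av_ve_of_mem_Pe hPe, by rw [av_vf_of_mem_Pf hl.2, h6]⟩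

/-- N3b -/
theorem card_YY : Nat.card (YY hF) = q + 1 := by
  classical
  rw [← Cfsg.Agent.Lib.Helper14.card_normOne hF]
  have hfin : Finite F := inferInstance
  have hb := (barOK_frob hF).invol
  let f : ↥(YY hF) → ↥(Cfsg.Agent.Lib.Helper14.normOne F q) := fun y =>
    ⟨Units.mk0 (ca (y : GG hF)) (ca_ne_zero (YY_le_LL hF y.2).1), by
      rw [Cfsg.Agent.Lib.Helper14.mem_normOne]
      apply Units.ext
      rw [Units.val_pow_eq_pow_val, Units.val_mk0, Units.val_one]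
      exact (mem_YY_iff_of_mem_LL hF (YY_le_LL hF y.2)).mp y.2⟩
  apply Nat.card_congr (Equiv.ofBijective f ⟨?_, ?_⟩)
  · intro y y' hyy
    have h1 : ca (y : GG hF) = ca (y' : GG hF) := by
      have := congrArg (fun u : ↥(Cfsg.Agent.Lib.Helper14.normOne F q) => ((u : Fˣ) : F)) hyy
      exact this
    obtain ⟨a1, a2, -⟩ := YY_props hF y.2
    obtain ⟨b1, b2, -⟩ := YY_props hF y'.2
    apply Subtype.ext
    apply av_ext3
    · rw [a1, b1, h1]
    · rw [a2, b2, h1]
    · intro w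
      rw [vw_eq_smul w, av_smul, av_smul, YY_w0 hF y.2, YY_w0 hF y'.2, h1]
  · rintro ⟨u, hu⟩
    rw [Cfsg.Agent.Lib.Helper14.mem_normOne] at hu
    have hu' : (u : F) ^ (q + 1) = 1 := by
      have := congrArg (fun v : Fˣ => (v : F)) hu
      simpa using this
    have hu0 : (u : F) ≠ 0 := u.ne_zero
    have huq : (u : F) ^ q = (u : F)⁻¹ := by
      rw [pow_succ] at hu'
      exact eq_inv_of_mul_eq_one_left hu'
    have hμ : ∀ i : Fin 1, (((fun _ => (u * u)⁻¹ : Fin 1 → Fˣ) i : Fˣ) : F) *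
        frobHom hF (((fun _ => (u * u)⁻¹ : Fin 1 → Fˣ) i : Fˣ) : F) = 1 := by
      intro i
      rw [frob_apply]
      simp only [Units.val_inv_eq_inv_val, Units.val_mul, inv_pow, mul_pow, huq]
      field_simp
    have hdet : (u : F) * (((Equiv.Perm.sign (1 : Equiv.Perm (Fin 1)) : ℤ) : F) *
        ∏ i : Fin 1, (((fun _ => (u * u)⁻¹ : Fin 1 → Fˣ) i : Fˣ) : F)) = frobHom hF (u : F) := by
      rw [frob_apply, huq]
      simp only [Equiv.Perm.sign_one, Units.val_one, Int.cast_one, one_mul, Finset.univ_unique,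
        Finset.prod_singleton, Units.val_inv_eq_inv_val, Units.val_mul]
      field_simp
    have hmem : dLevi hb u 1 (fun _ => (u * u)⁻¹) hμ hdet ∈ YY hF := by
      refine ⟨(u : F), ?_, ?_⟩
      · rw [av_dLevi]
        simp [ve]
      · rw [av_dLevi, frob_apply, huq]
        simp [vf]
    refine ⟨⟨dLevi hb u 1 (fun _ => (u * u)⁻¹) hμ hdet, hmem⟩, ?_⟩
    apply Subtype.ext
    apply Units.ext
    show ca (dLevi hb u 1 (fun _ => (u * u)⁻¹) hμ hdet) = (u : F)
    exact ca_dLevi hb u 1 _ hμ hdet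

theorem ca_one' : ca (1 : GG hF) = 1 := by
  simp [ca, ve]

/-- N7 -/
theorem card_inf_YY (C : Subgroup (GG hF)) (hC : C ≤ LL hF) :
    Nat.card ↥(C ⊓ YY hF) = Nat.gcd (Nat.card C) (q + 1) := by
  classical
  have hinj : ∀ c c' : ↥C, ca (c : GG hF) = ca (c' : GG hF) → c = c' := by
    intro c c' h
    have h1 : ca ((c : GG hF) * (c' : GG hF)⁻¹) = 1 := by
      have hm := ca_mul_of_mem hF (hC (C.mul_mem c.2 (C.inv_mem c'.2))).1 (hC c'.2).1
      rw [inv_mul_cancel_right] at hm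
      have h0 := ca_ne_zero (hC c'.2).1
      apply mul_right_cancel₀ h0
      rw [one_mul, ← hm, h]
    have h2 := eq_one_of_ca_eq_one hF
      ((LL hF).mul_mem (hC c.2) ((LL hF).inv_mem (hC c'.2))) h1
    apply Subtype.ext
    exact mul_inv_eq_one.mp h2
  let φ : ↥C →* F :=
    { toFun := fun c => ca (c : GG hF)
      map_one' := ca_one' hF
      map_mul' := fun c c' => ca_mul_of_mem hF (hC c.2).1 (hC c'.2).1 }
  have hφ : Function.Injective φ := fun c c' h => hinj c c' h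
  have : IsCyclic ↥C := isCyclic_of_injective_ringHom φ hφ
  let _ : CommGroup ↥C :=
    { (inferInstance : Group ↥C) with
      mul_comm := fun c c' => hφ (by rw [map_mul, map_mul, mul_comm]) }
  have h1 := IsCyclic.card_powMonoidHom_ker (G := ↥C) (q + 1)
  rw [← h1]
  have hkey : ∀ c : ↥C, c ∈ (powMonoidHom (q + 1) : ↥C →* ↥C).ker ↔ (c : GG hF) ∈ YY hF := by
    intro c
    rw [MonoidHom.mem_ker, powMonoidHom_apply, mem_YY_iff_of_mem_LL hF (hC c.2)]
    constructor
    · intro h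
      have := congrArg φ h
      rw [map_pow, map_one] at this
      exact this
    · intro h
      apply hφ
      rw [map_pow, map_one]
      exact h
  refine Nat.card_congr ⟨fun x => ⟨⟨x.1, x.2.1⟩, (hkey _).mpr x.2.2⟩,
    fun c => ⟨c.1.1, c.1.2, (hkey _).mp c.2⟩, ?_, ?_⟩
  · intro x; rfl
  · intro c; rfl

end

end Cfsg.Agent.Lib.Helper13.U3Leaf
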