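import Mathlib
import Cfsg.Prelude.Def_GeometricClasses

/-!
S5662 / S5663 / S5673 (Aschbacher for `Sp` / `SU` / `Ω`), block THR + GD, part (GD) = GALOIS DESCENT
(`notes/S5662_ThR_leaves.lean`): a subgroup `X ≤ GL_n(F)` (`F` finite) with scalar commutant which is conjugate to its
`φ`-twist (`φ(x) = C⁻¹ x C`) is realisable over `Fix φ`.

Contents (ns `Cfsg.Agent.Lib.Helper13.ThR`): `dedekind_pow` (Dedekind independence of `φ^0, …, φ^(r-1)`, `r = orderOf φ`),
`span_fixed_eq_top` (semilinear descent: the fixed points of a `φ`-semilinear map of period `r` span), `nrm`, `hilbert90`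
(multiplicative Hilbert 90 for `⟨φ⟩`), `nrm_surjective` (the norm is onto the non-zero fixed elements), `Nm` (`N_i = C φ(C) ⋯ φ^(i-1)(C)`),
`exists_fixed_GL` (Hilbert 90 for `GL_n`), `galois_descent`.
-/

set_option autoImplicit false
set_option linter.unusedSectionVars false
set_option linter.unusedVariables false

namespace Cfsg.Agent.Lib.Helper13.ThR
open Matrix Cfsg.Geo

variable {F : Type*} [Field F]

/-! ### Dedekind independence for the powers of a field automorphism of finite order -/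

lemma finite_ringAut [Finite F] : Finite (F ≃+* F) :=
  Finite.of_injective (fun e : F ≃+* F => (e : F → F)) DFunLike.coe_injective

lemma orderOf_pos' [Finite F] (φ : F ≃+* F) : 0 < orderOf φ := by
  have := finite_ringAut (F := F)
  exact orderOf_pos φ

lemma pow_succ_apply (φ : F ≃+* F) (i : ℕ) (x : F) : (φ ^ (i + 1)) x = φ ((φ ^ i) x) := by
  rw [pow_succ']; rfl

lemma pow_succ_apply' (φ : F ≃+* F) (i : ℕ) (x : F) : (φ ^ (i + 1)) x = (φ ^ i) (φ x) := by
  rw [pow_succ]; rfl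

lemma pow_orderOf_apply (φ : F ≃+* F) (x : F) : (φ ^ orderOf φ) x = x := by
  rw [pow_orderOf_eq_one]; rfl

lemma pow_zero_apply (φ : F ≃+* F) (x : F) : (φ ^ 0) x = x := by
  rw [pow_zero]; rfl

lemma dedekind_pow [Finite F] (φ : F ≃+* F) (a : ℕ → F)
    (h : ∀ μ : F, ∑ i ∈ Finset.range (orderOf φ), a i * (φ ^ i) μ = 0) :
    ∀ i < orderOf φ, a i = 0 := by
  classical
  let g : Fin (orderOf φ) → (F →* F) := fun i => (((φ ^ (i : ℕ) : F ≃+* F) : F →+* F) : F →* F)
  have hinj : Function.Injective g := by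
    intro i j hij
    have e : (φ ^ (i : ℕ) : F ≃+* F) = φ ^ (j : ℕ) := by
      ext x
      exact DFunLike.congr_fun hij x
    exact Fin.ext (pow_injOn_Iio_orderOf (Set.mem_Iio.2 i.2) (Set.mem_Iio.2 j.2) e)
  have hli := (linearIndependent_monoidHom F F).comp g hinj
  rw [Fintype.linearIndependent_iff] at hli
  have h0 := hli (fun i => a i) (by
    ext μ
    simp only [Function.comp, Finset.sum_apply, Pi.smul_apply, smul_eq_mul, Pi.zero_apply]
    rw [← h μ, Finset.sum_range]
    rfl)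
  intro i hi
  exact h0 ⟨i, hi⟩


/-! ### semilinear descent: the fixed points of a `φ`-semilinear map of period `orderOf φ` span -/

theorem span_fixed_eq_top [Finite F] {V : Type*} [AddCommGroup V] [Module F V] (φ : F ≃+* F)
    (θ : V → V) (hadd : ∀ u v, θ (u + v) = θ u + θ v) (hsemi : ∀ (μ : F) (v : V), θ (μ • v) = φ μ • θ v)
    (hper : ∀ v, θ^[orderOf φ] v = v) :
    Submodule.span F {v : V | θ v = v} = ⊤ := by
  classical
  by_contra hne
  obtain ⟨ℓ, hℓ0, hℓ⟩ := Submodule.exists_le_ker_of_lt_top _ (lt_top_iff_ne_top.2 hne)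
  apply hℓ0
  ext v
  have hr : 0 < orderOf φ := orderOf_pos' φ
  have hθ0 : θ 0 = 0 := by
    have h := hadd 0 0
    rw [add_zero] at h
    exact left_eq_add.1 h
  have hsum : ∀ (s : Finset ℕ) (f : ℕ → V), θ (∑ i ∈ s, f i) = ∑ i ∈ s, θ (f i) := by
    intro s f
    induction s using Finset.induction_on with
    | empty => simp [hθ0]
    | insert a s ha ih => rw [Finset.sum_insert ha, Finset.sum_insert ha, hadd, ih]
  have hfix : ∀ u, θ (∑ i ∈ Finset.range (orderOf φ), θ^[i] u) = ∑ i ∈ Finset.range (orderOf φ), θ^[i] u := by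
    intro u
    rw [hsum]
    have e1 : ∑ i ∈ Finset.range (orderOf φ), θ (θ^[i] u) = ∑ i ∈ Finset.range (orderOf φ), θ^[i+1] u := by
      refine Finset.sum_congr rfl fun i _ => ?_
      rw [Function.iterate_succ_apply']
    rw [e1]
    have e2 := Finset.sum_range_succ' (fun i => θ^[i] u) (orderOf φ)
    have e3 := Finset.sum_range_succ (fun i => θ^[i] u) (orderOf φ)
    simp only [Function.iterate_zero, id] at e2
    rw [e3, hper u] at e2
    exact (add_right_cancel e2).symm
  have hiter : ∀ (i : ℕ) (μ : F) (u : V), θ^[i] (μ • u) = (φ ^ i) μ • θ^[i] u := by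
    intro i
    induction i with
    | zero => intro μ u; simp
    | succ k ih =>
      intro μ u
      rw [Function.iterate_succ_apply', ih, hsemi, Function.iterate_succ_apply', pow_succ_apply]
  have key : ∀ μ : F, ∑ i ∈ Finset.range (orderOf φ), ℓ (θ^[i] v) * (φ ^ i) μ = 0 := by
    intro μ
    have hmem : (∑ i ∈ Finset.range (orderOf φ), θ^[i] (μ • v)) ∈ LinearMap.ker ℓ :=
      hℓ (Submodule.subset_span (hfix _))
    rw [LinearMap.mem_ker, map_sum] at hmem
    rw [← hmem]
    refine Finset.sum_congr rfl fun i _ => ?_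
    rw [hiter, map_smul, smul_eq_mul, mul_comm]
  have h0 := dedekind_pow φ (fun i => ℓ (θ^[i] v)) key 0 hr
  simpa using h0


/-! ### the norm of `⟨φ⟩`, Hilbert 90 and surjectivity of the norm -/

/-- the norm `x ↦ ∏_{i < orderOf φ} φ^i x` -/
noncomputable def nrm (φ : F ≃+* F) (x : F) : F := ∏ i ∈ Finset.range (orderOf φ), (φ ^ i) x

/-- partial norms `∏_{k < i} φ^k x` -/
def pnrm (φ : F ≃+* F) (x : F) (i : ℕ) : F := ∏ k ∈ Finset.range i, (φ ^ k) x

lemma pnrm_zero (φ : F ≃+* F) (x : F) : pnrm φ x 0 = 1 := by simp [pnrm]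

lemma pnrm_succ (φ : F ≃+* F) (x : F) (i : ℕ) : pnrm φ x (i + 1) = x * φ (pnrm φ x i) := by
  unfold pnrm
  rw [Finset.prod_range_succ', pow_zero_apply, map_prod, mul_comm]
  congr 1
  refine Finset.prod_congr rfl fun k _ => ?_
  rw [pow_succ_apply]

lemma pnrm_orderOf (φ : F ≃+* F) (x : F) : pnrm φ x (orderOf φ) = nrm φ x := rfl

/-- Hilbert 90 (multiplicative, cyclic, finite fields) -/
lemma hilbert90 [Finite F] (φ : F ≃+* F) (l : F) (hl : nrm φ l = 1) : ∃ μ : F, μ ≠ 0 ∧ l * φ μ = μ := by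
  have hiter : ∀ (i : ℕ) (v : F), (fun v : F => l * φ v)^[i] v = pnrm φ l i * (φ ^ i) v := by
    intro i
    induction i with
    | zero => intro v; simp [pnrm_zero]
    | succ k ih =>
      intro v
      rw [Function.iterate_succ_apply', ih, pnrm_succ, map_mul, pow_succ_apply]
      ring
  have hsp := span_fixed_eq_top φ (fun v : F => l * φ v) (by intro u v; simp only [map_add]; ring)
    (by intro μ v; simp only [smul_eq_mul, map_mul]; ring)
    (by intro v; rw [hiter, pnrm_orderOf, hl, one_mul, pow_orderOf_apply])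
  by_contra hcon0
  have hcon : ∀ μ : F, μ ≠ 0 → l * φ μ ≠ μ := fun μ h0 h => hcon0 ⟨μ, h0, h⟩
  have hbot : Submodule.span F {v : F | (fun v : F => l * φ v) v = v} = ⊥ := by
    rw [Submodule.span_eq_bot]
    intro v hv
    by_contra h0
    exact hcon v h0 hv
  rw [hbot] at hsp
  exact bot_ne_top hsp


lemma nrm_ne_zero (φ : F ≃+* F) {x : F} (hx : x ≠ 0) : nrm φ x ≠ 0 := by
  unfold nrm
  rw [Finset.prod_ne_zero_iff]
  intro i _
  exact (map_ne_zero_iff _ (φ ^ i).injective).2 hx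

lemma nrm_mul (φ : F ≃+* F) (x y : F) : nrm φ (x * y) = nrm φ x * nrm φ y := by
  unfold nrm
  rw [← Finset.prod_mul_distrib]
  exact Finset.prod_congr rfl fun i _ => map_mul _ _ _

/-- shifting the norm product -/
lemma nrm_shift (φ : F ≃+* F) {x : F} (hx : x ≠ 0) :
    ∏ i ∈ Finset.range (orderOf φ), (φ ^ (i + 1)) x = nrm φ x := by
  have e2 := Finset.prod_range_succ' (fun i => (φ ^ i) x) (orderOf φ)
  have e3 := Finset.prod_range_succ (fun i => (φ ^ i) x) (orderOf φ)
  simp only [pow_zero_apply, pow_orderOf_apply] at e2 e3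
  rw [e3] at e2
  exact (mul_right_cancel₀ hx e2).symm

lemma nrm_map (φ : F ≃+* F) {x : F} (hx : x ≠ 0) : nrm φ (φ x) = nrm φ x := by
  rw [← nrm_shift φ hx]
  unfold nrm
  exact Finset.prod_congr rfl fun i _ => (pow_succ_apply' φ i x).symm

lemma map_nrm (φ : F ≃+* F) {x : F} (hx : x ≠ 0) : φ (nrm φ x) = nrm φ x := by
  have h : φ (nrm φ x) = ∏ i ∈ Finset.range (orderOf φ), (φ ^ (i + 1)) x := by
    unfold nrm
    rw [map_prod]
    exact Finset.prod_congr rfl fun i _ => (pow_succ_apply φ i x).symm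
  rw [h, nrm_shift φ hx]

/-- surjectivity of the norm onto the non-zero fixed elements -/
theorem nrm_surjective [Fintype F] (φ : F ≃+* F) {c : F} (hc : c ≠ 0) (hfix : φ c = c) :
    ∃ l : F, l ≠ 0 ∧ nrm φ l = c := by
  classical
  -- the norm and `u ↦ u / φ u` on units
  let uN : Fˣ →* Fˣ :=
    { toFun := fun u => Units.mk0 (nrm φ u) (nrm_ne_zero φ u.ne_zero)
      map_one' := by
        apply Units.ext
        simp [nrm]
      map_mul' := fun u v => by
        apply Units.ext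
        simp [nrm_mul] }
  let uD : Fˣ →* Fˣ :=
    { toFun := fun u => Units.mk0 ((u : F) * (φ u)⁻¹)
        (mul_ne_zero u.ne_zero (inv_ne_zero ((map_ne_zero_iff _ φ.injective).2 u.ne_zero)))
      map_one' := by
        apply Units.ext
        simp
      map_mul' := fun u v => by
        apply Units.ext
        simp only [Units.val_mul, Units.val_mk0, map_mul, mul_inv]
        ring }
  have hN : ∀ u : Fˣ, ((uN u : Fˣ) : F) = nrm φ u := fun u => rfl
  have hD : ∀ u : Fˣ, ((uD u : Fˣ) : F) = (u : F) * (φ u)⁻¹ := fun u => rfl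
  -- ker uN = range uD
  have hker : uN.ker = uD.range := by
    ext u
    rw [MonoidHom.mem_ker, MonoidHom.mem_range]
    constructor
    · intro h
      have h1 : nrm φ u = 1 := by rw [← hN, h]; rfl
      obtain ⟨μ, hμ0, hμ⟩ := hilbert90 φ u h1
      refine ⟨Units.mk0 μ hμ0, Units.ext ?_⟩
      rw [hD, Units.val_mk0]
      have hφμ : φ μ ≠ 0 := (map_ne_zero_iff _ φ.injective).2 hμ0
      calc μ * (φ μ)⁻¹ = ((u : F) * φ μ) * (φ μ)⁻¹ := by rw [hμ]
        _ = (u : F) := by rw [mul_assoc, mul_inv_cancel₀ hφμ, mul_one]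
    · rintro ⟨w, rfl⟩
      apply Units.ext
      rw [hN, hD, nrm_mul, Units.val_one]
      have h2 : nrm φ ((φ w)⁻¹) = (nrm φ (φ w))⁻¹ := by
        have hφw : φ (w : F) ≠ 0 := (map_ne_zero_iff _ φ.injective).2 w.ne_zero
        have h3 : nrm φ (φ w) * nrm φ ((φ w)⁻¹) = 1 := by
          rw [← nrm_mul, mul_inv_cancel₀ hφw]
          simp [nrm]
        exact eq_inv_of_mul_eq_one_right h3
      rw [h2, nrm_map φ w.ne_zero, mul_inv_cancel₀ (nrm_ne_zero φ w.ne_zero)]
  -- range uN ≤ ker uD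
  have hle : uN.range ≤ uD.ker := by
    rintro _ ⟨w, rfl⟩
    rw [MonoidHom.mem_ker]
    apply Units.ext
    rw [hD, hN, map_nrm φ w.ne_zero, mul_inv_cancel₀ (nrm_ne_zero φ w.ne_zero), Units.val_one]
  -- counting
  have h1 := Subgroup.card_mul_index uN.ker
  rw [Subgroup.index_ker, hker] at h1
  have h2 := Subgroup.card_mul_index uD.ker
  rw [Subgroup.index_ker] at h2
  have hpos : 0 < Nat.card uD.range := Nat.card_pos
  have hcard : Nat.card uN.range = Nat.card uD.ker := by
    have h3 : Nat.card uD.range * Nat.card uN.range = Nat.card uD.range * Nat.card uD.ker := by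
      rw [h1, ← h2, mul_comm]
    exact Nat.eq_of_mul_eq_mul_left hpos h3
  have heq : uN.range = uD.ker := Subgroup.eq_of_le_of_card_ge hle (le_of_eq hcard.symm)
  have hcm : Units.mk0 c hc ∈ uD.ker := by
    rw [MonoidHom.mem_ker]
    apply Units.ext
    rw [hD, Units.val_mk0, hfix, mul_inv_cancel₀ hc, Units.val_one]
  rw [← heq] at hcm
  obtain ⟨w, hw⟩ := hcm
  refine ⟨w, w.ne_zero, ?_⟩
  rw [← hN, hw, Units.val_mk0]


/-! ### matrices: entrywise `φ` -/

section mat
variable {n : ℕ}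

lemma mapm_mul (φ : F ≃+* F) (A B : Matrix (Fin n) (Fin n) F) :
    (A * B).map φ = A.map φ * B.map φ := by
  ext i j
  simp [Matrix.mul_apply, map_sum]

lemma mapm_mulVec (φ : F ≃+* F) (A : Matrix (Fin n) (Fin n) F) (v : Fin n → F) :
    (fun i => φ ((A *ᵥ v) i)) = A.map φ *ᵥ (fun i => φ (v i)) := by
  ext i
  simp [Matrix.mulVec, dotProduct, map_sum]

lemma mapm_one (φ : F ≃+* F) : (1 : Matrix (Fin n) (Fin n) F).map φ = 1 := by
  ext i j
  by_cases h : i = j <;> simp [Matrix.one_apply, h]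

lemma mapm_smul (φ : F ≃+* F) (c : F) (A : Matrix (Fin n) (Fin n) F) :
    (c • A).map φ = φ c • A.map φ := by
  ext i j
  simp

lemma mapm_pow_succ (φ : F ≃+* F) (i : ℕ) (A : Matrix (Fin n) (Fin n) F) :
    (A.map (fun x => (φ ^ i) x)).map φ = A.map (fun x => (φ ^ (i + 1)) x) := by
  ext a b
  simp only [Matrix.map_apply]
  exact (pow_succ_apply φ i _).symm

lemma mapm_pow_zero (φ : F ≃+* F) (A : Matrix (Fin n) (Fin n) F) : A.map (fun x => (φ ^ 0) x) = A := by
  ext a b
  simp only [Matrix.map_apply]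
  exact pow_zero_apply φ _

lemma mapm_pow_orderOf (φ : F ≃+* F) (A : Matrix (Fin n) (Fin n) F) :
    A.map (fun x => (φ ^ orderOf φ) x) = A := by
  ext a b
  simp only [Matrix.map_apply]
  exact pow_orderOf_apply φ _

/-- `N_0 = 1`, `N_{i+1} = C φ(N_i)` -/
def Nm (φ : F ≃+* F) (C : Matrix (Fin n) (Fin n) F) : ℕ → Matrix (Fin n) (Fin n) F
  | 0 => 1
  | i + 1 => C * (Nm φ C i).map φ

lemma Nm_zero (φ : F ≃+* F) (C : Matrix (Fin n) (Fin n) F) : Nm φ C 0 = 1 := rfl

lemma Nm_succ (φ : F ≃+* F) (C : Matrix (Fin n) (Fin n) F) (i : ℕ) :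
    Nm φ C (i + 1) = C * (Nm φ C i).map φ := rfl

lemma Nm_succ' (φ : F ≃+* F) (C : Matrix (Fin n) (Fin n) F) (i : ℕ) :
    Nm φ C (i + 1) = Nm φ C i * C.map (fun x => (φ ^ i) x) := by
  induction i with
  | zero => rw [Nm_succ, Nm_zero, mapm_one, mul_one, one_mul, mapm_pow_zero]
  | succ k ih =>
    calc Nm φ C (k + 1 + 1) = C * (Nm φ C (k + 1)).map φ := Nm_succ φ C (k + 1)
      _ = C * (Nm φ C k * C.map (fun x => (φ ^ k) x)).map φ := by rw [ih]
      _ = (C * (Nm φ C k).map φ) * (C.map (fun x => (φ ^ k) x)).map φ := by rw [mapm_mul, mul_assoc]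
      _ = Nm φ C (k + 1) * C.map (fun x => (φ ^ (k + 1)) x) := by rw [← Nm_succ, mapm_pow_succ]

lemma Nm_comm (φ : F ≃+* F) (C x : Matrix (Fin n) (Fin n) F) (hx : C * x.map φ = x * C) (i : ℕ) :
    x * Nm φ C i = Nm φ C i * x.map (fun y => (φ ^ i) y) := by
  induction i with
  | zero => rw [Nm_zero, mul_one, one_mul, mapm_pow_zero]
  | succ k ih =>
    calc x * Nm φ C (k + 1) = (x * C) * (Nm φ C k).map φ := by rw [Nm_succ, mul_assoc]
      _ = C * (x * Nm φ C k).map φ := by rw [← hx, mapm_mul, mul_assoc]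
      _ = C * (Nm φ C k * x.map (fun y => (φ ^ k) y)).map φ := by rw [ih]
      _ = Nm φ C (k + 1) * x.map (fun y => (φ ^ (k + 1)) y) := by
        rw [mapm_mul, ← mul_assoc, ← Nm_succ, mapm_pow_succ]

lemma Nm_smul (φ : F ≃+* F) (l : F) (C : Matrix (Fin n) (Fin n) F) (i : ℕ) :
    Nm φ (l • C) i = pnrm φ l i • Nm φ C i := by
  induction i with
  | zero => rw [Nm_zero, Nm_zero, pnrm_zero, one_smul]
  | succ k ih =>
    rw [Nm_succ, ih, mapm_smul, Matrix.smul_mul, Matrix.mul_smul, smul_smul, pnrm_succ, ← Nm_succ]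

lemma Nm_det_ne_zero (φ : F ≃+* F) (C : Matrix (Fin n) (Fin n) F) (hC : C.det ≠ 0) (i : ℕ) :
    (Nm φ C i).det ≠ 0 := by
  induction i with
  | zero => rw [Nm_zero, Matrix.det_one]; exact one_ne_zero
  | succ k ih =>
    rw [Nm_succ, Matrix.det_mul]
    refine mul_ne_zero hC ?_
    have h : ((Nm φ C k).map φ).det = φ (Nm φ C k).det := by
      have := RingHom.map_det (φ : F →+* F) (Nm φ C k)
      exact this.symm
    rw [h]
    exact (map_ne_zero_iff _ φ.injective).2 ih

lemma iter_theta (φ : F ≃+* F) (C : Matrix (Fin n) (Fin n) F) (i : ℕ) (v : Fin n → F) :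
    (fun v : Fin n → F => C *ᵥ (fun a => φ (v a)))^[i] v = Nm φ C i *ᵥ (fun a => (φ ^ i) (v a)) := by
  induction i generalizing v with
  | zero =>
    rw [Function.iterate_zero, id, Nm_zero, Matrix.one_mulVec]
    ext a
    exact (pow_zero_apply φ _).symm
  | succ k ih =>
    rw [Function.iterate_succ_apply', ih, mapm_mulVec, Matrix.mulVec_mulVec, ← Nm_succ]
    congr 1
    ext a
    exact (pow_succ_apply φ k _).symm


/-- Hilbert 90 for `GL_n` over `⟨φ⟩`: a matrix with trivial `φ`-norm is `B φ(B)⁻¹`. -/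
theorem exists_fixed_GL [Fintype F] (φ : F ≃+* F) (C : Matrix (Fin n) (Fin n) F)
    (hN : Nm φ C (orderOf φ) = 1) :
    ∃ B : GL (Fin n) F, C * (B : Matrix (Fin n) (Fin n) F).map φ = (B : Matrix (Fin n) (Fin n) F) := by
  classical
  have hsp := span_fixed_eq_top φ (fun v : Fin n → F => C *ᵥ (fun a => φ (v a)))
    (by
      intro u v
      rw [← Matrix.mulVec_add]
      congr 1
      ext a
      simp)
    (by
      intro μ v
      rw [← Matrix.mulVec_smul]
      congr 1
      ext a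
      simp)
    (by
      intro v
      rw [iter_theta, hN, Matrix.one_mulVec]
      ext a
      exact pow_orderOf_apply φ _)
  obtain ⟨b, hbW, hbspan, hbli⟩ :=
    exists_linearIndependent F {v : Fin n → F | (fun v : Fin n → F => C *ᵥ (fun a => φ (v a))) v = v}
  rw [hsp] at hbspan
  let bs : Module.Basis b F (Fin n → F) := Module.Basis.mk hbli (by rw [Subtype.range_coe]; exact hbspan.ge)
  let e : b ≃ Fin n := bs.indexEquiv (Pi.basisFun F (Fin n))
  let B : Matrix (Fin n) (Fin n) F := Matrix.of (fun i j => ((e.symm j : b) : Fin n → F) i)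
  have hunit : IsUnit B := by
    rw [← Matrix.linearIndependent_cols_iff_isUnit]
    exact hbli.comp e.symm e.symm.injective
  refine ⟨hunit.unit, ?_⟩
  ext i j
  have hj : C *ᵥ (fun a => φ (((e.symm j : b) : Fin n → F) a)) = ((e.symm j : b) : Fin n → F) :=
    hbW (e.symm j).2
  have h := congrFun hj i
  simpa [Matrix.mul_apply, Matrix.mulVec, dotProduct, B] using h

open Cfsg.Geo in
/-- (GD) Galois descent: a group with scalar commutant which is conjugate to its `φ`-twist is realisable over `Fix φ`. -/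
theorem galois_descent [Fintype F] (X : Subgroup (GL (Fin n) F))
    (hcomm : ∀ M : Matrix (Fin n) (Fin n) F, (∀ s ∈ matrixSet X, M * s = s * M) →
      ∃ c : F, M = c • (1 : Matrix (Fin n) (Fin n) F))
    (φ : F ≃+* F) (C : GL (Fin n) F)
    (hC : ∀ x ∈ X, (x : Matrix (Fin n) (Fin n) F).map φ =
      ((C⁻¹ : GL (Fin n) F) : Matrix (Fin n) (Fin n) F) * (x : Matrix (Fin n) (Fin n) F) * (C : Matrix (Fin n) (Fin n) F))
    (F₀ : Subfield F) (hF₀ : ∀ c : F, c ∈ F₀ ↔ φ c = c) : RealisableOver F₀ (matrixSet X) := by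
  rcases Nat.eq_zero_or_pos n with hn | hn
  · subst hn
    exact ⟨1, fun s _ i => i.elim0⟩
  have : Nonempty (Fin n) := ⟨⟨0, hn⟩⟩
  have hC' : ∀ x ∈ X, C.1 * (x.1).map φ = x.1 * C.1 := by
    intro x hx
    rw [hC x hx, ← mul_assoc, ← mul_assoc, ← Units.val_mul, mul_inv_cancel, Units.val_one, one_mul]
  have hCdet : C.1.det ≠ 0 := ((Matrix.isUnit_iff_isUnit_det C.1).1 C.isUnit).ne_zero
  obtain ⟨c, hc⟩ := hcomm (Nm φ C.1 (orderOf φ)) (by
    rintro _ ⟨x, hx, rfl⟩
    have h := Nm_comm φ C.1 x.1 (hC' x hx) (orderOf φ)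
    rw [mapm_pow_orderOf] at h
    exact h.symm)
  have hdet : (Nm φ C.1 (orderOf φ)).det ≠ 0 := Nm_det_ne_zero φ C.1 hCdet (orderOf φ)
  have hc0 : c ≠ 0 := by
    rintro rfl
    rw [hc, zero_smul, Matrix.det_zero] at hdet
    exact hdet rfl
  have hcfix : φ c = c := by
    have e1 : Nm φ C.1 (orderOf φ + 1) = φ c • C.1 := by
      rw [Nm_succ, hc, mapm_smul, mapm_one, Matrix.mul_smul, mul_one]
    have e2 : Nm φ C.1 (orderOf φ + 1) = c • C.1 := by
      rw [Nm_succ', hc, mapm_pow_orderOf, Matrix.smul_mul, one_mul]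
    have e3 : (φ c - c) • C.1 = 0 := by rw [sub_smul, ← e1, ← e2, sub_self]
    have hCne : C.1 ≠ 0 := by
      intro h0
      rw [h0, Matrix.det_zero] at hCdet
      exact hCdet rfl
    rcases smul_eq_zero.1 e3 with h | h
    · exact sub_eq_zero.1 h
    · exact (hCne h).elim
  obtain ⟨l, hl0, hl⟩ := nrm_surjective φ (inv_ne_zero hc0) (by rw [map_inv₀, hcfix])
  have hN1 : Nm φ (l • C.1) (orderOf φ) = 1 := by
    rw [Nm_smul, pnrm_orderOf, hl, hc, smul_smul, inv_mul_cancel₀ hc0, one_smul]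
  obtain ⟨B, hB⟩ := exists_fixed_GL φ (l • C.1) hN1
  refine ⟨B⁻¹, ?_⟩
  rintro _ ⟨x, hx, rfl⟩ i j
  rw [hF₀]
  have hY : ∀ Y : Matrix (Fin n) (Fin n) F, B.1 * Y = x.1 * B.1 → Y.map φ = Y := by
    intro Y h1
    have h2 : B.1.map φ * Y.map φ = (x.1).map φ * B.1.map φ := by rw [← mapm_mul, ← mapm_mul, h1]
    have hlC : (l • C.1) * (x.1).map φ = x.1 * (l • C.1) := by
      rw [Matrix.smul_mul, hC' x hx, Matrix.mul_smul]
    have h3 : B.1 * Y.map φ = B.1 * Y := by
      calc B.1 * Y.map φ = ((l • C.1) * B.1.map φ) * Y.map φ := by rw [hB]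
        _ = (l • C.1) * ((x.1).map φ * B.1.map φ) := by rw [mul_assoc, h2]
        _ = x.1 * ((l • C.1) * B.1.map φ) := by rw [← mul_assoc, hlC, mul_assoc]
        _ = B.1 * Y := by rw [hB, h1]
    have h4 := congrArg (fun M => (B⁻¹).1 * M) h3
    simp only [← mul_assoc, ← Units.val_mul, inv_mul_cancel, Units.val_one, one_mul] at h4
    exact h4
  have h5 := hY ((B⁻¹).1 * x.1 * ((B⁻¹)⁻¹).1) (by
    rw [inv_inv, ← mul_assoc, ← mul_assoc, ← Units.val_mul, mul_inv_cancel, Units.val_one, one_mul])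
  exact congrFun (congrFun h5 i) j

end mat

end Cfsg.Agent.Lib.Helper13.ThR




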