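import Mathlib
import Cfsg.Prelude.Def_GeometricClasses
import Cfsg.Agent.Lib.Helper13.ThRGD
import Cfsg.Agent.Lib.Helper7.ThRa

/-!
S5662 / S5663 / S5673 (Aschbacher for `Sp` / `SU` / `Ω`), block THR + GD: THEOREM R (assembly, `notes/S5662_ThR_leaves.lean`).
An absolutely irreducible subgroup `X ≤ GL_n(F)` (`F` finite) all of whose traces are fixed by the field automorphism `φ`
is realisable over `Fix φ`.  = (THR-a) `Helper7.ThRLeaf.conj_of_traces` + (GD) `Helper13.ThR.galois_descent`.
-/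

set_option autoImplicit false
set_option linter.unusedSectionVars false
set_option linter.unusedVariables false

namespace Cfsg.Agent.Lib.Helper13.ThR
open Matrix Cfsg.Geo

variable {F : Type*} [Field F] {n : ℕ}

/-- (THR) Theorem R. -/
theorem theoremR [Fintype F] (X : Subgroup (GL (Fin n) F)) (hX : ActsAbsolutelyIrreducibly (matrixSet X)) (φ : F ≃+* F)
    (htr : ∀ x ∈ X, φ (Matrix.trace (x : Matrix (Fin n) (Fin n) F)) = Matrix.trace (x : Matrix (Fin n) (Fin n) F))
    (F₀ : Subfield F) (hF₀ : ∀ c : F, c ∈ F₀ ↔ φ c = c) : RealisableOver F₀ (matrixSet X) := by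
  obtain ⟨C, hC⟩ := Cfsg.Agent.Lib.Helper7.ThRLeaf.conj_of_traces X hX φ htr
  exact galois_descent X hX.2 φ C hC F₀ hF₀

end Cfsg.Agent.Lib.Helper13.ThR
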