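/-
helper13: S2524, leaf `surj_SL2` (the surjectivity theorem for `Sp_2 = SL_2(q)`) - definitions for the
module-theoretic part: invariant and irreducible invariant submodules of a representation, the
restricted representation and its character, simultaneous eigenspaces of a family of group elements.
-/
import Mathlib

set_option autoImplicit false

namespace Cfsg.Agent.Lib.Helper13.SL2Surj

variable {G : Type*} [Group G] {V : Type*} [AddCommGroup V] [Module ℂ V]

/-- `N` is an invariant submodule -/
def Inv (σ : Representation ℂ G V) (N : Submodule ℂ V) : Prop :=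
  ∀ g, ∀ v ∈ N, σ g v ∈ N

/-- `N` is an irreducible invariant submodule -/
def IsIrrSub (σ : Representation ℂ G V) (N : Submodule ℂ V) : Prop :=
  Inv σ N ∧ N ≠ ⊥ ∧ ∀ N' : Submodule ℂ V, N' ≤ N → Inv σ N' → N' = ⊥ ∨ N' = N

/-- the representation on an invariant submodule -/
def subRep (σ : Representation ℂ G V) (N : Submodule ℂ V) (hN : Inv σ N) :
    Representation ℂ G ↥N :=
  (Subrepresentation.mk N (fun g v hv => hN g v hv)).toRepresentation

theorem subRep_apply (σ : Representation ℂ G V) (N : Submodule ℂ V) (hN : Inv σ N) (g : G)
    (v : ↥N) : ((subRep σ N hN g v : ↥N) : V) = σ g (v : V) := rfl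

/-- the character of an invariant submodule -/
noncomputable def subChar (σ : Representation ℂ G V) (N : Submodule ℂ V) (hN : Inv σ N) : G → ℂ :=
  (subRep σ N hN).character

/-- the simultaneous eigenspace of the elements `u t` for the eigenvalues `lam t` -/
def eigSp {T : Type*} (σ : Representation ℂ G V) (u : T → G) (lam : T → ℂ) : Submodule ℂ V where
  carrier := {v | ∀ t, σ (u t) v = lam t • v}
  add_mem' := by
    intro a b ha hb t
    rw [map_add, ha t, hb t, smul_add]
  zero_mem' := by
    intro t
    rw [map_zero, smul_zero]
  smul_mem' := by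
    intro c a ha t
    rw [map_smul, ha t, smul_comm]

theorem mem_eigSp {T : Type*} {σ : Representation ℂ G V} {u : T → G} {lam : T → ℂ} {v : V} :
    v ∈ eigSp σ u lam ↔ ∀ t, σ (u t) v = lam t • v := Iff.rfl

end Cfsg.Agent.Lib.Helper13.SL2Surj
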