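import Mathlib

/-!
Helper lemmas (helper13): a biadditive alternating form on a finite field `F` that is invariant under
multiplication of both arguments by nonzero squares vanishes, unless `|F| ∈ {4, 9}`.
This is the field-theoretic core of `M(SL₂(q)) = 1`.
-/

set_option autoImplicit false

namespace Cfsg.Agent.Lib.Helper13.AltForm

open Polynomial

variable {F : Type*} [Field F] {A : Type*} [AddCommGroup A]

/-- `Adj β u v`: `β (u x) y = β x (v y)` for all `x, y`. -/
def Adj (β : F →+ F →+ A) (u v : F) : Prop := ∀ x y, β (u * x) y = β x (v * y)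

theorem Adj.add {β : F →+ F →+ A} {u v u' v' : F} (h : Adj β u v) (h' : Adj β u' v') :
    Adj β (u + u') (v + v') := by
  intro x y
  rw [add_mul, add_mul, map_add, map_add, AddMonoidHom.add_apply, h x y, h' x y]

theorem Adj.neg {β : F →+ F →+ A} {u v : F} (h : Adj β u v) : Adj β (-u) (-v) := by
  intro x y
  rw [neg_mul, neg_mul, map_neg, map_neg, AddMonoidHom.neg_apply, h x y]

theorem Adj.sub {β : F →+ F →+ A} {u v u' v' : F} (h : Adj β u v) (h' : Adj β u' v') :
    Adj β (u - u') (v - v') := by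
  rw [sub_eq_add_neg, sub_eq_add_neg]
  exact h.add h'.neg

theorem adj_of_inv {β : F →+ F →+ A}
    (hinv : ∀ s : F, s ≠ 0 → IsSquare s → ∀ x y, β (s * x) (s * y) = β x y)
    {s : F} (hs0 : s ≠ 0) (hs : IsSquare s) : Adj β s s⁻¹ := by
  intro x y
  have := hinv s hs0 hs x (s⁻¹ * y)
  rw [mul_inv_cancel_left₀ hs0] at this
  exact this

theorem exists_sq_sub_sq [Finite F] (f : F) : ∃ u v : F, f = u ^ 2 - v ^ 2 := by
  by_cases h2 : (2 : F) = 0
  · have hchar : ringChar F = 2 :=
      CharP.ringChar_of_prime_eq_zero Nat.prime_two (by exact_mod_cast h2)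
    obtain ⟨r, hr⟩ := FiniteField.isSquare_of_char_two hchar f
    exact ⟨r, 0, by rw [hr]; ring⟩
  · exact ⟨(f + 1) / 2, (f - 1) / 2, by field_simp; ring⟩

/-- If some nonzero `c` kills the second argument, the form vanishes. -/
theorem eq_zero_of_adj_zero [Finite F] {β : F →+ F →+ A}
    (hinv : ∀ s : F, s ≠ 0 → IsSquare s → ∀ x y, β (s * x) (s * y) = β x y)
    {c : F} (hc : c ≠ 0) (h : Adj β 0 c) : ∀ x y, β x y = 0 := by
  have hZ : ∀ x y, β x (c * y) = 0 := by
    intro x y
    have := h x y
    rw [zero_mul, map_zero, AddMonoidHom.zero_apply] at this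
    exact this.symm
  -- closed under multiplication by squares
  have hsq : ∀ u : F, ∀ x y, β x (u ^ 2 * c * y) = 0 := by
    intro u x y
    by_cases hu : u = 0
    · rw [hu]; simp
    · have hu2 : u ^ 2 ≠ 0 := pow_ne_zero 2 hu
      have := hinv (u ^ 2) hu2 ⟨u, sq u⟩ ((u ^ 2)⁻¹ * x) (c * y)
      rw [mul_inv_cancel_left₀ hu2, hZ] at this
      rw [mul_assoc, this]
  intro x y
  obtain ⟨u, v, huv⟩ := exists_sq_sub_sq (c⁻¹ : F)
  have h1 : y = u ^ 2 * c * y - v ^ 2 * c * y := by
    rw [← sub_mul, ← sub_mul, ← huv, inv_mul_cancel₀ hc, one_mul]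
  rw [h1, map_sub, hsq, hsq, sub_zero]

theorem card_zmultiples_one (p : ℕ) [Fact p.Prime] [CharP F p] [Fintype F]
    (hq : Fintype.card F = p) (x : F) : ∃ k : ℤ, k • (1 : F) = x := by
  have h1 : Nat.card (AddSubgroup.zmultiples (1 : F)) = p := by
    rw [Nat.card_zmultiples]
    exact CharP.eq F (CharP.addOrderOf_one F) inferInstance
  have h2 : AddSubgroup.zmultiples (1 : F) = ⊤ := by
    apply AddSubgroup.eq_top_of_card_eq
    rw [h1, Nat.card_eq_fintype_card, hq]
  have : x ∈ AddSubgroup.zmultiples (1 : F) := by rw [h2]; trivial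
  exact AddSubgroup.mem_zmultiples_iff.mp this

theorem natDegree_polyOdd : (X * (X ^ 2 + 1) * (X ^ 4 - (X ^ 2 + 1) ^ 4) : F[X]).natDegree = 11 := by
  compute_degree!

theorem natDegree_polyEven : (X * (X + 1) * (X ^ 2 + X + 1) : F[X]).natDegree = 4 := by
  compute_degree!

theorem adj_one (β : F →+ F →+ A) : Adj β 1 1 := by
  intro x y
  rw [one_mul, one_mul]

/-- A biadditive alternating form on a finite field, invariant under multiplying both arguments by
a nonzero square, vanishes unless the field has `4` or `9` elements. -/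
theorem form_eq_zero [Fintype F] (β : F →+ F →+ A) (halt : ∀ x, β x x = 0)
    (hinv : ∀ s : F, s ≠ 0 → IsSquare s → ∀ x y, β (s * x) (s * y) = β x y)
    (h4 : Fintype.card F ≠ 4) (h9 : Fintype.card F ≠ 9) : ∀ x y, β x y = 0 := by
  obtain ⟨p, hp⟩ := CharP.exists F
  have := hp
  obtain ⟨n, hpp, hq⟩ := FiniteField.card F p
  have : Fact p.Prime := ⟨hpp⟩
  by_cases hn : (n : ℕ) = 1
  · -- prime field
    rw [hn, pow_one] at hq
    intro x y
    obtain ⟨k, rfl⟩ := card_zmultiples_one p hq x
    obtain ⟨m, rfl⟩ := card_zmultiples_one p hq y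
    rw [map_zsmul, map_zsmul, AddMonoidHom.smul_apply, halt, smul_zero, smul_zero]
  · have hn2 : 2 ≤ (n : ℕ) := by have := n.pos; omega
    by_cases h2 : (2 : F) = 0
    · -- characteristic 2
      have hchar : ringChar F = 2 :=
        CharP.ringChar_of_prime_eq_zero Nat.prime_two (by exact_mod_cast h2)
      have hp2 : p = 2 := by rw [← hchar]; exact (ringChar.eq F p).symm
      have hn3 : 3 ≤ (n : ℕ) := by
        by_contra hcon
        have : (n : ℕ) = 2 := by omega
        apply h4; rw [hq, hp2, this]; norm_num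
      have hq8 : 8 ≤ Fintype.card F := by
        rw [hq, hp2]
        calc 8 = 2 ^ 3 := by norm_num
          _ ≤ 2 ^ (n : ℕ) := Nat.pow_le_pow_right (by norm_num) hn3
      obtain ⟨a, ha⟩ := exists_eval_ne_zero_of_natDegree_lt_card
        (X * (X + 1) * (X ^ 2 + X + 1) : F[X])
        (by intro h; have := natDegree_polyEven (F := F); rw [h] at this; simp at this)
        (by rw [natDegree_polyEven, Cardinal.mk_fintype]; exact_mod_cast (by omega : 4 < Fintype.card F))
      simp only [eval_mul, eval_add, eval_pow, eval_X, eval_one] at ha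
      have ha0 : a ≠ 0 := fun h => ha (by rw [h]; ring)
      have ha1 : a + 1 ≠ 0 := fun h => ha (by rw [h]; ring)
      have ha2 : a ^ 2 + a + 1 ≠ 0 := fun h => ha (by rw [h]; ring)
      have hS : ∀ s : F, IsSquare s := FiniteField.isSquare_of_char_two hchar
      have A2 := adj_of_inv hinv ha0 (hS a)
      have A3 := adj_of_inv hinv ha1 (hS (a + 1))
      have A4 : Adj β 0 (1 + a⁻¹ - (a + 1)⁻¹) := by
        have := ((adj_one β).add A2).sub A3
        have e : (1 + a - (a + 1) : F) = 0 := by ring
        rwa [e] at this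
      apply eq_zero_of_adj_zero hinv _ A4
      intro hc
      apply ha2
      have : (1 + a⁻¹ - (a + 1)⁻¹) * (a * (a + 1)) = a ^ 2 + a + 1 := by field_simp; ring
      rw [← this, hc, zero_mul]
    · -- odd characteristic
      have hp2 : p ≠ 2 := by
        intro h
        apply h2
        have := CharP.cast_eq_zero F p
        rw [h] at this
        exact_mod_cast this
      have hq13 : 13 ≤ Fintype.card F := by
        rw [hq]
        have hp3 : 3 ≤ p := by
          have := hpp.two_le
          omega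
        by_cases h3 : p = 3
        · have hn3 : 3 ≤ (n : ℕ) := by
            by_contra hcon
            have : (n : ℕ) = 2 := by omega
            apply h9; rw [hq, h3, this]; norm_num
          rw [h3]
          calc 13 ≤ 3 ^ 3 := by norm_num
            _ ≤ 3 ^ (n : ℕ) := Nat.pow_le_pow_right (by norm_num) hn3
        · have hp5 : 5 ≤ p := by
            by_contra hcon
            have : p = 4 := by omega
            rw [this] at hpp
            exact absurd hpp (by decide)
          calc 13 ≤ 5 ^ 2 := by norm_num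
            _ ≤ p ^ 2 := Nat.pow_le_pow_left hp5 2
            _ ≤ p ^ (n : ℕ) := Nat.pow_le_pow_right (by omega) hn2
      obtain ⟨y, hy⟩ := exists_eval_ne_zero_of_natDegree_lt_card
        (X * (X ^ 2 + 1) * (X ^ 4 - (X ^ 2 + 1) ^ 4) : F[X])
        (by intro h; have := natDegree_polyOdd (F := F); rw [h] at this; simp at this)
        (by rw [natDegree_polyOdd, Cardinal.mk_fintype]; exact_mod_cast (by omega : 11 < Fintype.card F))
      simp only [eval_mul, eval_add, eval_sub, eval_pow, eval_X, eval_one] at hy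
      have hy0 : y ≠ 0 := fun h => hy (by rw [h]; ring)
      set a := y ^ 2 with ha
      have ha0 : a ≠ 0 := pow_ne_zero 2 hy0
      have hb0 : a + 1 ≠ 0 := fun h => hy (by rw [h]; ring)
      have hN : a ^ 2 - (a + 1) ^ 4 ≠ 0 := by
        intro h
        apply hy
        have : y ^ 4 = a ^ 2 := by rw [ha]; ring
        rw [this, h, mul_zero]
      have Aa := adj_of_inv hinv ha0 ⟨y, sq y⟩
      have Aa2 := adj_of_inv hinv (pow_ne_zero 2 ha0) ⟨a, sq a⟩
      have Ab2 := adj_of_inv hinv (pow_ne_zero 2 hb0) ⟨a + 1, sq (a + 1)⟩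
      have A4 : Adj β 0 (((a + 1) ^ 2)⁻¹ - (a ^ 2)⁻¹ - a⁻¹ - a⁻¹ - 1) := by
        have := (((Ab2.sub Aa2).sub Aa).sub Aa).sub (adj_one β)
        have e : ((a + 1) ^ 2 - a ^ 2 - a - a - 1 : F) = 0 := by ring
        rwa [e] at this
      apply eq_zero_of_adj_zero hinv _ A4
      intro hc
      apply hN
      have : (((a + 1) ^ 2)⁻¹ - (a ^ 2)⁻¹ - a⁻¹ - a⁻¹ - 1) * (a ^ 2 * (a + 1) ^ 2) =
          a ^ 2 - (a + 1) ^ 4 := by field_simp; ring
      rw [← this, hc, zero_mul]

end Cfsg.Agent.Lib.Helper13.AltForm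

namespace Cfsg.Agent.Lib.Helper13.AltForm

/-- Multiplicative version of `form_eq_zero`, for a group `C` whose multiplication is commutative. -/
theorem form_eq_one {F : Type*} [Field F] [Fintype F] {C : Type*} [Group C]
    (hcomm : ∀ a b : C, a * b = b * a) (γ : F → F → C)
    (hl : ∀ x x' y, γ (x + x') y = γ x y * γ x' y)
    (hr : ∀ x y y', γ x (y + y') = γ x y * γ x y')
    (halt : ∀ x, γ x x = 1)
    (hinv : ∀ t : F, t ≠ 0 → ∀ x y, γ (t ^ 2 * x) (t ^ 2 * y) = γ x y)
    (h4 : Fintype.card F ≠ 4) (h9 : Fintype.card F ≠ 9) : ∀ x y, γ x y = 1 := by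
  letI : CommGroup C := { ‹Group C› with mul_comm := hcomm }
  let β : F →+ F →+ Additive C :=
    AddMonoidHom.mk' (fun x => AddMonoidHom.mk' (fun y => Additive.ofMul (γ x y))
      (fun y y' => by rw [hr]; rfl))
      (fun x x' => by
        ext y
        show Additive.ofMul (γ (x + x') y) = Additive.ofMul (γ x y) + Additive.ofMul (γ x' y)
        rw [hl]; rfl)
  have hβ : ∀ x y, β x y = Additive.ofMul (γ x y) := fun _ _ => rfl
  have key := form_eq_zero β (fun x => by rw [hβ, halt]; rfl)
    (fun s hs0 hs x y => by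
      obtain ⟨r, rfl⟩ := hs
      have hr0 : r ≠ 0 := fun h => hs0 (by rw [h, mul_zero])
      rw [hβ, hβ, ← sq, hinv r hr0]) h4 h9
  intro x y
  have := key x y
  rw [hβ] at this
  exact Additive.ofMul.injective this

end Cfsg.Agent.Lib.Helper13.AltForm
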