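/-
helper13: S2262 leaf PU-34 (`srecip_bound_34`): `q = 4`, degree 3, `σ` the involution (`σ x = x²`).
`P = X³ + a X² + b X + c`, `c ≠ 0`, `σ`-reciprocal: `b = c a²`.  `a = 0`: `P = X³ + c`.
`a ≠ 0`, `c = 1`: `P * (X + a) = X⁴ + a`.  `a ≠ 0`, `c ≠ 1`:
`P * (X + a) * (X² + a² c²) = X⁶ + 1`.
-/
import Cfsg.Agent.Lib.Helper19.AutPSLDefs

set_option autoImplicit false

namespace Cfsg.Agent.Lib.Helper13.AutPSLPU34

open Matrix Polynomial Cfsg.Agent.Lib.Helper18.PSLnAut Cfsg.Agent.Lib.Helper19.AutPSL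

variable {F : Type*} [Field F] [Fintype F]

/-- In a field with four elements `2 = 0`. -/
theorem two_eq_zero_of_card_four (hq : Fintype.card F = 4) : (2 : F) = 0 := by
  have h4 : ((4 : ℕ) : F) = 0 := by
    have := Nat.cast_card_eq_zero F
    rwa [hq] at this
  have h22 : (2 : F) * 2 = 0 := by
    have : (2 : F) * 2 = ((4 : ℕ) : F) := by norm_num
    rw [this, h4]
  exact mul_self_eq_zero.mp h22

theorem pow_four_of_card_four (hq : Fintype.card F = 4) (x : F) : x ^ 4 = x := by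
  have := FiniteField.pow_card x
  rwa [hq] at this

theorem pow_three_of_card_four (hq : Fintype.card F = 4) (x : F) (hx : x ≠ 0) : x ^ 3 = 1 := by
  have h := pow_four_of_card_four hq x
  have : x * x ^ 3 = x * 1 := by rw [mul_one, ← pow_succ', h]
  exact mul_left_cancel₀ hx this

/-- An involution of the field with four elements is the Frobenius. -/
theorem sigma_eq_sq (hq : Fintype.card F = 4) (σ : F ≃+* F) (hσ : orderOf σ = 2) (x : F) :
    σ x = x ^ 2 := by
  classical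
  have h2 := two_eq_zero_of_card_four hq
  have hne : σ ≠ 1 := by
    intro h
    rw [h, orderOf_one] at hσ
    omega
  obtain ⟨x₀, hx₀⟩ : ∃ x₀, σ x₀ ≠ x₀ := by
    by_contra hcon
    push Not at hcon
    exact hne (RingEquiv.ext hcon)
  have hx0 : x₀ ≠ 0 := by
    rintro rfl
    exact hx₀ (map_zero σ)
  have hx1 : x₀ ≠ 1 := by
    rintro rfl
    exact hx₀ (map_one σ)
  have hcube := pow_three_of_card_four hq x₀ hx0
  have hquad : x₀ ^ 2 + x₀ + 1 = 0 := by
    have : (x₀ - 1) * (x₀ ^ 2 + x₀ + 1) = 0 := by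
      have : (x₀ - 1) * (x₀ ^ 2 + x₀ + 1) = x₀ ^ 3 - 1 := by ring
      rw [this, hcube, sub_self]
    rcases mul_eq_zero.mp this with h | h
    · exact absurd (sub_eq_zero.mp h) hx1
    · exact h
  have hσquad : (σ x₀) ^ 2 + σ x₀ + 1 = 0 := by
    have := congrArg σ hquad
    simpa using this
  have hσx₀ : σ x₀ = x₀ ^ 2 := by
    have : (σ x₀ - x₀) * (σ x₀ - x₀ ^ 2) = 0 := by
      linear_combination hσquad - (σ x₀) * hquad + hcube
    rcases mul_eq_zero.mp this with h | h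
    · exact absurd (sub_eq_zero.mp h) hx₀
    · exact sub_eq_zero.mp h
  have hS : ({0, 1, x₀, x₀ + 1} : Finset F).card = 4 := by
    rw [Finset.card_insert_of_notMem, Finset.card_insert_of_notMem,
      Finset.card_insert_of_notMem, Finset.card_singleton]
    · simp
    · simp only [Finset.mem_insert, Finset.mem_singleton, not_or]
      refine ⟨fun h => hx1 h.symm, ?_⟩
      intro h
      apply hx0
      linear_combination -h
    · simp only [Finset.mem_insert, Finset.mem_singleton, not_or]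
      refine ⟨zero_ne_one, fun h => hx0 h.symm, ?_⟩
      intro h
      apply hx1
      linear_combination -h - h2
  have huniv : ({0, 1, x₀, x₀ + 1} : Finset F) = Finset.univ :=
    Finset.eq_univ_of_card _ (by rw [hS, hq])
  have hx : x ∈ ({0, 1, x₀, x₀ + 1} : Finset F) := by rw [huniv]; exact Finset.mem_univ x
  simp only [Finset.mem_insert, Finset.mem_singleton] at hx
  rcases hx with rfl | rfl | rfl | rfl
  · simp
  · simp
  · exact hσx₀
  · rw [map_add, map_one, hσx₀]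
    linear_combination -x₀ * h2

/-- (PU-34) -/
theorem srecip_bound_34 (σ : F ≃+* F) (hσ : orderOf σ = 2) (P : F[X]) (hP : P.Monic)
    (hdeg : P.natDegree = 3) (h0 : P.coeff 0 ≠ 0) (hrec : IsSRecip σ P)
    (hq : Fintype.card F = 4) :
    ∃ (j : ℕ) (c : F), 1 ≤ j ∧ 2 * ((Fintype.card F - 1) * j) ≤ Fintype.card F ^ 3 - 1 ∧
      P ∣ X ^ j - C c := by
  classical
  have h2 := two_eq_zero_of_card_four hq
  have h2' : (2 : F[X]) = 0 := by
    have : (2 : F[X]) = C (2 : F) := (map_ofNat (C : F →+* F[X]) 2).symm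
    rw [this, h2, C_0]
  have hsq := sigma_eq_sq hq σ hσ
  obtain ⟨a, ha⟩ : ∃ a, a = P.coeff 2 := ⟨_, rfl⟩
  obtain ⟨b, hb⟩ : ∃ b, b = P.coeff 1 := ⟨_, rfl⟩
  obtain ⟨c, hc⟩ : ∃ c, c = P.coeff 0 := ⟨_, rfl⟩
  have h3 : P.coeff 3 = 1 := by rw [← hdeg]; exact hP.coeff_natDegree
  have hPeq : P = X ^ 3 + C a * X ^ 2 + C b * X + C c := by
    conv_lhs => rw [P.as_sum_range_C_mul_X_pow, hdeg]
    simp only [Finset.sum_range_succ, Finset.sum_range_zero]
    rw [h3, ← ha, ← hb, ← hc]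
    simp
    ring
  -- the coefficient relations
  obtain ⟨u, hu, hmir⟩ := hrec
  have hdegσ : (P.map (σ : F →+* F)).natDegree = 3 := by
    rw [natDegree_map_eq_of_injective σ.injective, hdeg]
  have h0σ : (P.map (σ : F →+* F)).coeff 0 ≠ 0 := by
    rw [coeff_map]
    exact fun h => h0 ((map_eq_zero_iff _ σ.injective).mp h)
  have htrσ : (P.map (σ : F →+* F)).natTrailingDegree = 0 :=
    natTrailingDegree_eq_zero.mpr (Or.inr h0σ)
  have hco : ∀ n ≤ 3, σ (P.coeff (3 - n)) = u * P.coeff n := by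
    intro n hn
    have := congrArg (fun p => p.coeff n) hmir
    simp only [coeff_mirror, hdegσ, htrσ, add_zero, coeff_C_mul, coeff_map] at this
    rw [revAt_le hn] at this
    exact this
  have hu3 : σ c = u := by
    have := hco 3 le_rfl
    rw [h3, mul_one] at this
    rw [hc]; exact this
  have hb2 : σ b = σ c * a := by
    have := hco 2 (by norm_num)
    rw [hu3, ha, hb]; exact this
  have hbeq : b = c * a ^ 2 := by
    rw [hsq, hsq] at hb2
    have hb4 := pow_four_of_card_four hq b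
    have hc4 := pow_four_of_card_four hq c
    calc b = (b ^ 2) ^ 2 := by rw [← pow_mul]; exact hb4.symm
      _ = (c ^ 2 * a) ^ 2 := by rw [hb2]
      _ = c ^ 4 * a ^ 2 := by ring
      _ = c * a ^ 2 := by rw [hc4]
  have hc0 : c ≠ 0 := by rw [hc]; exact h0
  have hnum : ∀ j, j ≤ 10 → 2 * ((Fintype.card F - 1) * j) ≤ Fintype.card F ^ 3 - 1 := by
    intro j hj
    rw [hq]
    omega
  by_cases ha0 : a = 0
  · refine ⟨3, -c, by norm_num, hnum 3 (by norm_num), ?_⟩
    rw [hPeq, hbeq, ha0]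
    simp
  have ha3 := pow_three_of_card_four hq a ha0
  have hA3 : (C a : F[X]) ^ 3 = 1 := by rw [← C_pow, ha3, C_1]
  by_cases hc1 : c = 1
  · refine ⟨4, a, by norm_num, hnum 4 (by norm_num), ⟨X + C a, ?_⟩⟩
    rw [hPeq, hbeq, hc1, one_mul, C_1, C_pow]
    linear_combination (-X) * hA3 + (-(C a) - X - X ^ 2 * (C a) ^ 2 - X ^ 3 * C a) * h2'
  · have hc3 := pow_three_of_card_four hq c hc0
    have hcq : c ^ 2 + c + 1 = 0 := by
      have : (c - 1) * (c ^ 2 + c + 1) = 0 := by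
        have : (c - 1) * (c ^ 2 + c + 1) = c ^ 3 - 1 := by ring
        rw [this, hc3, sub_self]
      rcases mul_eq_zero.mp this with h | h
      · exact absurd (sub_eq_zero.mp h) hc1
      · exact h
    have hCc : (C c : F[X]) ^ 2 + C c + 1 = 0 := by
      rw [← C_pow, ← C_add, ← C_1, ← C_add, hcq, C_0]
    refine ⟨6, 1, by norm_num, hnum 6 (by norm_num),
      ⟨(X + C a) * (X ^ 2 + (C a) ^ 2 * (C c) ^ 2), ?_⟩⟩
    rw [hPeq, hbeq, C_mul, C_pow, C_1]
    linear_combination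
      (-(C c) ^ 3 - X * (C a) ^ 2 * (C c) ^ 3 - X ^ 2 * (C a) * (C c) ^ 2
        - X ^ 2 * (C a) * (C c) ^ 3 - X ^ 3 * (C c) - 2 * X ^ 3 * (C c) ^ 2) * hA3
      + (1 - C c + 2 * X * (C a) ^ 2 - 2 * X * (C a) ^ 2 * (C c) - X ^ 2 * (C a) * (C c)
        - 2 * X ^ 3 - X ^ 4 * (C a) ^ 2) * hCc
      + (-1 - X * (C a) ^ 2 + X ^ 3 - X ^ 5 * (C a)) * h2'

end Cfsg.Agent.Lib.Helper13.AutPSLPU34
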