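/-
helper13: S2262 leaf PU-L (`srecip_bound_large`), `_of` form against FX1 / FX2 (helper29's leaves).

`P` monic of degree `d ≥ 3`, `σ`-reciprocal for an involution `σ` of the finite field `F`
(`q = a²`, `a` the order of the fixed field `K`): `R = P * σ(P)` is `σ`-fixed and self-reciprocal of
degree `2d`, so it descends to `R₀ ∈ K[X]`; helper24's `poly_order_even R₀ d` gives `N ≥ 1` with
`(a - 1) N ≤ a^(d+1)` and `R₀ ∣ X^N ∓ 1`; hence `P ∣ X^N ∓ 1`, and
`2 (a² - 1) N ≤ 2 (a + 1) a^(d+1) ≤ a^(2d) - 1` for `d ≥ 4` or `a ≥ 3`.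
-/
import Cfsg.Agent.Lib.Helper19.AutPSLDefs
import Cfsg.Agent.Lib.Helper19.AutPSLCH67
import Cfsg.Agent.Lib.Helper24.EOrdP6

set_option autoImplicit false

namespace Cfsg.Agent.Lib.Helper13.AutPSLPUL

open Polynomial Cfsg.Agent.Lib.Helper19.AutPSL

/-- The numeric inequality of the unitary type. -/
theorem num_unitary (a d N : ℕ) (ha : 2 ≤ a) (hd : 3 ≤ d) (hex : 4 ≤ d ∨ 3 ≤ a)
    (hN : (a - 1) * N ≤ a ^ (d + 1)) :
    2 * ((a ^ 2 - 1) * N) ≤ (a ^ 2) ^ d - 1 := by
  obtain ⟨e, rfl⟩ : ∃ e, d = e + 3 := ⟨d - 3, by omega⟩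
  obtain ⟨b, rfl⟩ : ∃ b, a = b + 2 := ⟨a - 2, by omega⟩
  have h1 : (b + 2) ^ 2 - 1 = (b + 3) * (b + 2 - 1) := by
    have : b + 2 - 1 = b + 1 := by omega
    rw [this]
    have : (b + 2) ^ 2 = (b + 3) * (b + 1) + 1 := by ring
    rw [this]; rfl
  set B := (b + 2) ^ (e + 3 + 1) with hB
  have hBpos : 1 ≤ B := Nat.one_le_pow _ _ (by omega)
  -- C = a^(d-1) ≥ 2a + 3
  have hC : 2 * (b + 2) + 3 ≤ (b + 2) ^ (e + 2) := by
    rcases hex with h | h
    · obtain ⟨e', rfl⟩ : ∃ e', e = e' + 1 := ⟨e - 1, by omega⟩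
      have h3 : (b + 2) ^ 3 ≤ (b + 2) ^ (e' + 1 + 2) :=
        Nat.pow_le_pow_right (by omega) (by omega)
      have h4 : 2 * (b + 2) + 3 ≤ (b + 2) ^ 3 := by
        have h6 : (b + 2) ^ 3 = b ^ 3 + 6 * b ^ 2 + 12 * b + 8 := by ring
        rw [h6]
        have := Nat.zero_le (b ^ 3)
        have := Nat.zero_le (b ^ 2)
        linarith
      exact h4.trans h3
    · have h3 : (b + 2) ^ 2 ≤ (b + 2) ^ (e + 2) :=
        Nat.pow_le_pow_right (by omega) (by omega)
      have h4 : 2 * (b + 2) + 3 ≤ (b + 2) ^ 2 := by nlinarith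
      exact h4.trans h3
  have hpow : ((b + 2) ^ 2) ^ (e + 3) = B * (b + 2) ^ (e + 2) := by
    rw [hB, ← pow_mul, ← pow_add]; congr 1; ring
  have h2 : (b + 3) * ((b + 2 - 1) * N) ≤ (b + 3) * B := Nat.mul_le_mul_left _ hN
  have h5 : B * (2 * (b + 2) + 3) ≤ B * (b + 2) ^ (e + 2) := Nat.mul_le_mul_left _ hC
  rw [h1, hpow, mul_assoc]
  have : 2 * ((b + 3) * B) + 1 ≤ B * (b + 2) ^ (e + 2) := by nlinarith
  omega

theorem mirror_map_of_injective {K L : Type*} [Semiring K] [Semiring L] (f : K →+* L)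
    (hf : Function.Injective f) (P : K[X]) : (P.map f).mirror = P.mirror.map f := by
  have htr : (P.map f).natTrailingDegree = P.natTrailingDegree := by
    by_cases hP : P = 0
    · rw [hP, Polynomial.map_zero, natTrailingDegree_zero, natTrailingDegree_zero]
    have hP' : P.map f ≠ 0 := by rwa [Ne, Polynomial.map_eq_zero_iff hf]
    rw [natTrailingDegree_eq_support_min' hP', natTrailingDegree_eq_support_min' hP]
    congr 1
    exact support_map_of_injective P hf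
  ext k
  rw [coeff_mirror, coeff_map, coeff_map, coeff_mirror, natDegree_map_eq_of_injective hf, htr]

variable {F : Type*} [Field F] [Fintype F]

/-- (PU-L), against FX1 and FX2 as hypotheses. -/
theorem srecip_bound_large_of (σ : F ≃+* F) (hσ : orderOf σ = 2)
    (hFX1 : Nat.card (fixF σ) ^ orderOf σ = Fintype.card F)
    (hFX2 : ∀ P : F[X], P.map (σ : F →+* F) = P →
      ∃ P₀ : (fixF σ)[X], P₀.map (fixF σ).subtype = P)
    (P : F[X]) (hP : P.Monic) (d : ℕ)
    (hdeg : P.natDegree = d) (hd : 3 ≤ d) (h0 : P.coeff 0 ≠ 0) (hrec : IsSRecip σ P)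
    (hex : ¬ (d = 3 ∧ Fintype.card F = 4)) :
    ∃ (j : ℕ) (c : F), 1 ≤ j ∧ 2 * ((Fintype.card F - 1) * j) ≤ Fintype.card F ^ d - 1 ∧
      P ∣ X ^ j - C c := by
  classical
  -- σ² = 1
  have hσσ : ∀ x : F, σ (σ x) = x := by
    intro x
    have h := pow_orderOf_eq_one σ
    rw [hσ, sq] at h
    have := congrArg (fun τ : F ≃+* F => τ x) h
    simpa using this
  have hcomp : (σ : F →+* F).comp (σ : F →+* F) = RingHom.id F := by
    ext x; exact hσσ x
  obtain ⟨Q, hQ⟩ : ∃ Q : F[X], Q = P.map (σ : F →+* F) := ⟨_, rfl⟩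
  have hQP : Q.map (σ : F →+* F) = P := by
    rw [hQ, Polynomial.map_map, hcomp, Polynomial.map_id]
  have hQmonic : Q.Monic := hQ ▸ hP.map _
  obtain ⟨R, hR⟩ : ∃ R : F[X], R = P * Q := ⟨_, rfl⟩
  have hRfix : R.map (σ : F →+* F) = R := by
    rw [hR, Polynomial.map_mul, hQP, ← hQ, mul_comm]
  obtain ⟨u, hu, hmir⟩ := hrec
  rw [← hQ] at hmir
  have hPmir : P.mirror = C (σ u) * Q := by
    have h1 : (Q.map (σ : F →+* F)).mirror = (Q.mirror).map (σ : F →+* F) :=
      Cfsg.Agent.Lib.Helper19.AutPSLCH67.mirror_map σ Q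
    rw [hQP, hmir, Polynomial.map_mul, Polynomial.map_C, ← hQ] at h1
    exact h1
  have hRmir : R.mirror = C (σ u * u) * R := by
    rw [hR, mirror_mul_of_domain, hPmir, hmir, C_mul]; ring
  obtain ⟨R₀, hR₀⟩ := hFX2 R hRfix
  have hinj : Function.Injective (fixF σ).subtype := Subtype.val_injective
  haveI : Fintype (fixF σ) := Fintype.ofFinite _
  have hQdeg : Q.natDegree = d := by
    rw [hQ, natDegree_map_eq_of_injective σ.injective, hdeg]
  have hRdeg : R.natDegree = 2 * d := by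
    rw [hR, hP.natDegree_mul hQmonic, hdeg, hQdeg]; ring
  have hR₀deg : R₀.natDegree = 2 * d := by
    rw [← hRdeg, ← hR₀, natDegree_map_eq_of_injective hinj]
  have hQ0 : Q.coeff 0 ≠ 0 := by
    rw [hQ, coeff_map]
    exact fun h => h0 ((map_eq_zero_iff _ σ.injective).mp h)
  have hR0 : R.coeff 0 ≠ 0 := by
    rw [hR, mul_coeff_zero]; exact mul_ne_zero h0 hQ0
  have hR₀0 : R₀.coeff 0 ≠ 0 := by
    intro h
    apply hR0
    rw [← hR₀, coeff_map, h, map_zero]
  have hw : σ u * u ∈ fixF σ := by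
    rw [mem_fixF, map_mul, hσσ, mul_comm]
  have hwne : (⟨σ u * u, hw⟩ : fixF σ) ≠ 0 := by
    intro h
    have := congrArg Subtype.val h
    simp only [ZeroMemClass.coe_zero, mul_eq_zero] at this
    rcases this with h | h
    · exact hu ((map_eq_zero_iff _ σ.injective).mp h)
    · exact hu h
  have hR₀mir : R₀.mirror = C (⟨σ u * u, hw⟩ : fixF σ) * R₀ := by
    apply Polynomial.map_injective _ hinj
    rw [← mirror_map_of_injective _ hinj, hR₀, Polynomial.map_mul, Polynomial.map_C, hR₀, hRmir]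
    rfl
  have hass : Associated R₀.mirror R₀ := by
    rw [hR₀mir]
    exact (associated_unit_mul_left _ _ (isUnit_C.mpr (isUnit_iff_ne_zero.mpr hwne)))
  obtain ⟨N, hN1, hNle, hdvd⟩ :=
    Cfsg.Agent.Lib.Helper24.EOrdP6.poly_order_even R₀ d (by omega) hR₀deg hR₀0 hass
  have hcard : Fintype.card (fixF σ) = Nat.card (fixF σ) := Nat.card_eq_fintype_card.symm
  rw [hcard] at hNle
  rw [hσ] at hFX1
  have ha2 : 2 ≤ Nat.card (fixF σ) := by
    rw [← hcard]; exact Fintype.one_lt_card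
  have hex' : 4 ≤ d ∨ 3 ≤ Nat.card (fixF σ) := by
    by_cases h4 : 4 ≤ d
    · exact Or.inl h4
    · right
      have hd3 : d = 3 := by omega
      by_contra h3
      have h2 : Nat.card (fixF σ) = 2 := by omega
      apply hex
      refine ⟨hd3, ?_⟩
      rw [← hFX1, h2]; rfl
  have hnum := num_unitary _ d N ha2 hd hex' hNle
  rw [hFX1] at hnum
  have hPR : P ∣ R := ⟨Q, hR⟩
  have hmapdvd : ∀ T : (fixF σ)[X], R₀ ∣ T → P ∣ T.map (fixF σ).subtype := by
    intro T hT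
    have := Polynomial.map_dvd (fixF σ).subtype hT
    rw [hR₀] at this
    exact hPR.trans this
  rcases hdvd with h | h
  · refine ⟨N, 1, hN1, hnum, ?_⟩
    have := hmapdvd _ h
    simpa using this
  · refine ⟨N, -1, hN1, hnum, ?_⟩
    have := hmapdvd _ h
    simpa using this

end Cfsg.Agent.Lib.Helper13.AutPSLPUL
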