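/-
helper13: S2262 leaf PU-L (`srecip_bound_large`), exact name + binders
(= `AutPSLPUL.srecip_bound_large_of` closed with helper29's FX1 / FX2).
-/
import Cfsg.Agent.Lib.Helper13.AutPSLPUL
import Cfsg.Agent.Lib.Helper29.AutPSLFX1
import Cfsg.Agent.Lib.Helper29.AutPSLFX2

set_option autoImplicit false

namespace Cfsg.Agent.Lib.Helper13.AutPSLPULW

open Matrix Polynomial Cfsg.Agent.Lib.Helper18.PSLnAut Cfsg.Agent.Lib.Helper19.AutPSL

variable {F : Type*} [Field F] [Fintype F]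

theorem srecip_bound_large (σ : F ≃+* F) (hσ : orderOf σ = 2) (P : F[X]) (hP : P.Monic) (d : ℕ)
    (hdeg : P.natDegree = d) (hd : 3 ≤ d) (h0 : P.coeff 0 ≠ 0) (hrec : IsSRecip σ P)
    (hex : ¬ (d = 3 ∧ Fintype.card F = 4)) :
    ∃ (j : ℕ) (c : F), 1 ≤ j ∧ 2 * ((Fintype.card F - 1) * j) ≤ Fintype.card F ^ d - 1 ∧
      P ∣ X ^ j - C c :=
  Cfsg.Agent.Lib.Helper13.AutPSLPUL.srecip_bound_large_of σ hσ
    (Cfsg.Agent.Lib.Helper29.AutPSLFX1.card_fixF_pow σ)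
    (fun Q hQ => Cfsg.Agent.Lib.Helper29.AutPSLFX2.exists_map_fixF σ Q hQ)
    P hP d hdeg hd h0 hrec hex

end Cfsg.Agent.Lib.Helper13.AutPSLPULW
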