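import Mathlib
import Cfsg.Agent.Lib.Helper5.BLFullB
import Cfsg.Agent.Lib.Helper12.Ord5040E

/-!
helper13: degree bounds `χ(1) ≥ 2p` for principal-block-like characters of a perfect group when
`C_G(y)` (`y` of prime order `p`) contains an element `k` of order `2` or `3`, and `χ` is constant
on the `p`-sections of the powers of `y k`.

* `sum_pow_char_mul`, `sum_pow_mul_nat`: `∑_{j<N} χ(w^j) c^j = N * (multiplicity)`.
* `two_mul_le_of_invol` (Lemma D2), `two_mul_le_of_order_three` (Lemma D3).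
-/

set_option autoImplicit false
set_option linter.style.haveILetI false
set_option linter.unusedSectionVars false

namespace Cfsg.Agent.Lib.Helper13.BLTwoP

open Cfsg Cfsg.Agent.CharLib Cfsg.Agent.Lib.Helper24 Cfsg.Agent.Lib.Helper6
open Cfsg.Agent.Lib.Helper5.BLFull
open scoped ComplexConjugate

universe u

variable {G : Type u} [Group G]

/-- geometric sum of an `N`-th root of unity -/
theorem geom_sum_root (N : ℕ) (x : ℂ) (hx : x ^ N = 1) :
    ∑ j ∈ Finset.range N, x ^ j = if x = 1 then (N : ℂ) else 0 := by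
  split_ifs with h
  · subst h; simp
  · rw [geom_sum_eq h N, hx, sub_self, zero_div]

/-- weighted sums of a character over the powers of an element count eigenvalues -/
theorem sum_pow_char_mul {V : Type*} [AddCommGroup V] [Module ℂ V] [FiniteDimensional ℂ V]
    (ρ : Representation ℂ G V) (w : G) {ι : Type*} [Fintype ι] [DecidableEq ι]
    (b : Module.Basis ι ℂ V) (μ : ι → ℂ) (h : ∀ i, ρ w (b i) = μ i • b i) (N : ℕ)
    (hμ : ∀ i, μ i ^ N = 1) (c : ℂ) (hc : c ^ N = 1) :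
    ∑ j ∈ Finset.range N, ρ.character (w ^ j) * c ^ j =
      (N : ℂ) * ((Finset.univ.filter (fun i => μ i * c = 1)).card : ℂ) := by
  classical
  have hpow : ∀ (j : ℕ) (i : ι), ρ (w ^ j) (b i) = (μ i ^ j) • b i := by
    intro j i
    induction j with
    | zero => simp
    | succ j ih =>
      rw [pow_succ, map_mul, Module.End.mul_apply, h i, map_smul, ih, smul_smul, pow_succ,
        mul_comm]
  have hchar : ∀ j : ℕ, ρ.character (w ^ j) = ∑ i, μ i ^ j := by
    intro j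
    unfold Representation.character
    exact trace_eq_sum_of_eigenbasis b (ρ (w ^ j)) (fun i => μ i ^ j) (hpow j)
  have h1 : ∀ j ∈ Finset.range N, ρ.character (w ^ j) * c ^ j = ∑ i, (μ i * c) ^ j := by
    intro j _
    rw [hchar j, Finset.sum_mul]
    apply Finset.sum_congr rfl
    intro i _
    rw [mul_pow]
  rw [Finset.sum_congr rfl h1, Finset.sum_comm]
  have h2 : ∀ i ∈ (Finset.univ : Finset ι), ∑ j ∈ Finset.range N, (μ i * c) ^ j =
      if μ i * c = 1 then (N : ℂ) else 0 := by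
    intro i _
    apply geom_sum_root
    rw [mul_pow, hμ i, hc, one_mul]
  rw [Finset.sum_congr rfl h2, Finset.sum_ite, Finset.sum_const, Finset.sum_const_zero, add_zero,
    nsmul_eq_mul, mul_comm]

/-- weighted sums of a character over the powers of an element are natural multiples -/
theorem sum_pow_mul_nat [Finite G] {χ : G → ℂ} (hχ : IsCharacter G χ) (w : G) (N : ℕ)
    (hw : w ^ N = 1) (c : ℂ) (hc : c ^ N = 1) :
    ∃ n : ℕ, ∑ j ∈ Finset.range N, χ (w ^ j) * c ^ j = (N : ℂ) * n := by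
  classical
  obtain ⟨n, ρ, rfl⟩ := hχ
  obtain ⟨ι, hι, b, μ, h1, h2, -, -⟩ := exists_eigenbasis ρ w
  have hμ : ∀ i, μ i ^ N = 1 := by
    intro i
    obtain ⟨e, he⟩ := orderOf_dvd_of_pow_eq_one hw
    rw [he, pow_mul, h1 i, one_pow]
  exact ⟨_, sum_pow_char_mul ρ w b μ h2 N hμ c hc⟩

/-- the sum over the powers of `y * k` when the character is constant on `p`-sections -/
theorem sum_section_split [Finite G] {χ : G → ℂ} (p r : ℕ) (hp : 0 < p) (y k : G)
    (hy : y ^ p = 1) (hc : Commute y k)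
    (hval : ∀ j : ℕ, ¬ p ∣ j → χ ((y * k) ^ j) = χ (y ^ j)) (c : ℂ) :
    ∑ j ∈ Finset.range (r * p), χ ((y * k) ^ j) * c ^ j =
      ∑ i ∈ Finset.range r, χ ((k ^ p) ^ i) * (c ^ p) ^ i +
        (∑ l ∈ (Finset.range p).erase 0, χ (y ^ l) * c ^ l) *
          ∑ i ∈ Finset.range r, (c ^ p) ^ i := by
  classical
  rw [sum_range_mul_split, Finset.mul_sum, ← Finset.sum_add_distrib]
  apply Finset.sum_congr rfl
  intro i _
  rw [← Finset.add_sum_erase (Finset.range p) _ (Finset.mem_range.mpr hp)]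
  congr 1
  · rw [add_zero, hc.mul_pow, pow_mul', pow_mul', hy, one_pow, one_mul, ← pow_mul, ← pow_mul,
      mul_comm i p]
  · rw [Finset.sum_mul]
    apply Finset.sum_congr rfl
    intro l hl
    have hl0 : l ≠ 0 := Finset.ne_of_mem_erase hl
    have hlp : l < p := Finset.mem_range.mp (Finset.mem_of_mem_erase hl)
    have hnd : ¬ p ∣ i * p + l := by
      intro hdvd
      have h2 : p ∣ l := (Nat.dvd_add_right (dvd_mul_left p i)).mp hdvd
      have h3 := Nat.le_of_dvd (Nat.pos_of_ne_zero hl0) h2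
      omega
    rw [hval _ hnd, pow_add, pow_mul', hy, one_pow, one_mul, pow_add, ← pow_mul, mul_comm p i]
    ring

/-- **Lemma D2**: `G` perfect, `χ` a faithful irreducible character, `y` of odd prime order `p`,
`k` an involution commuting with `y`, `χ((yk)^j) = χ(y^j)` for `p ∤ j`. Then `χ(1) ≥ 2p`. -/
theorem two_mul_le_of_invol [Finite G] (hperf : commutator G = ⊤) (χ : IrrCharacter G)
    (hfaith : ∀ g : G, (χ : G → ℂ) g = (χ : G → ℂ) 1 → g = 1)
    (p : ℕ) [hp : Fact p.Prime] (hp2 : p ≠ 2) (y k : G) (hy : orderOf y = p)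
    (hk : orderOf k = 2) (hc : Commute y k)
    (hval : ∀ j : ℕ, ¬ p ∣ j → (χ : G → ℂ) ((y * k) ^ j) = (χ : G → ℂ) (y ^ j)) :
    2 * p ≤ charDegree (χ : G → ℂ) := by
  classical
  have hpp : p.Prime := hp.out
  have hχc : IsCharacter G (χ : G → ℂ) := IsIrrCharacter.isCharacter χ.2
  have hyp : y ^ p = 1 := by rw [← hy]; exact pow_orderOf_eq_one y
  have hk2 : k ^ 2 = 1 := by rw [← hk]; exact pow_orderOf_eq_one k
  have hodd : p % 2 = 1 := by
    rcases hpp.eq_two_or_odd with h | h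
    · exact absurd h hp2
    · exact h
  have hkp : k ^ p = k := by
    have : p = 2 * (p / 2) + 1 := by omega
    rw [this, pow_succ, pow_mul, hk2, one_pow, one_mul]
  have hz : (y * k) ^ (2 * p) = 1 := by
    rw [hc.mul_pow, pow_mul', hyp, one_pow, one_mul, pow_mul, hk2, one_pow]
  obtain ⟨n₁, hn₁⟩ := sum_pow_mul_nat hχc (y * k) (2 * p) hz 1 (one_pow _)
  obtain ⟨n₂, hn₂⟩ := sum_pow_mul_nat hχc y p hyp 1 (one_pow _)
  rw [sum_section_split p 2 hpp.pos y k hyp hc hval 1] at hn₁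
  rw [← Finset.add_sum_erase (Finset.range p) _ (Finset.mem_range.mpr hpp.pos)] at hn₂
  simp only [one_pow, mul_one, pow_zero, Finset.sum_const, Finset.card_range, nsmul_eq_mul,
    Finset.sum_range_succ, Finset.sum_range_zero, zero_add, pow_one, hkp] at hn₁ hn₂
  obtain ⟨j, hj⟩ := Cfsg.Agent.Lib.Helper12.Ord5040.char_invol_mod_four hperf hχc k hk
  have hd := irr_apply_one χ
  set d := charDegree (χ : G → ℂ) with hddef
  -- `4 j = 2 p (n₂ - n₁)`
  have hkey : ((4 * (j : ℤ) : ℤ) : ℂ) = ((2 * (p : ℤ) * ((n₂ : ℤ) - n₁) : ℤ) : ℂ) := by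
    push_cast
    push_cast at hn₁
    linear_combination 2 * hn₂ - hn₁ + hj
  have hkeyZ : 4 * (j : ℤ) = 2 * (p : ℤ) * ((n₂ : ℤ) - n₁) := by exact_mod_cast hkey
  have hpj : p ∣ j := by
    have h1 : (p : ℤ) ∣ 2 * (j : ℤ) := ⟨(n₂ : ℤ) - n₁, by linarith⟩
    have h2 : IsCoprime (p : ℤ) 2 := by
      rw [Int.isCoprime_iff_gcd_eq_one]
      have : Nat.Coprime p 2 := (Nat.coprime_primes hpp Nat.prime_two).mpr hp2
      simpa [Int.gcd] using this
    exact Int.natCast_dvd_natCast.mp (h2.dvd_of_dvd_mul_left h1)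
  obtain ⟨j', rfl⟩ := hpj
  have hj0 : j' ≠ 0 := by
    rintro rfl
    have h1 : (χ : G → ℂ) k = (χ : G → ℂ) 1 := by rw [hj]; simp
    have h2 := hfaith k h1
    rw [h2, orderOf_one] at hk
    omega
  have hnorm := Cfsg.Agent.Lib.Helper10.irr_norm_le χ.2 k
  rw [hd, Complex.norm_natCast, hj, hd] at hnorm
  have h3 : ((d : ℂ) - 4 * ((p * j' : ℕ) : ℂ)) = (((d : ℤ) - 4 * ((p * j' : ℕ) : ℤ) : ℤ) : ℂ) := by
    push_cast; ring
  rw [h3, Complex.norm_intCast] at hnorm
  have h4 : |((d : ℤ) - 4 * ((p * j' : ℕ) : ℤ) : ℤ)| ≤ (d : ℤ) := by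
    have : ((|((d : ℤ) - 4 * ((p * j' : ℕ) : ℤ) : ℤ)| : ℤ) : ℝ) ≤ ((d : ℤ) : ℝ) := by
      push_cast
      push_cast at hnorm
      exact hnorm
    exact_mod_cast this
  have h5 := neg_le_of_abs_le h4
  have h6 : 1 ≤ j' := Nat.pos_of_ne_zero hj0
  have h7 : p ≤ p * j' := Nat.le_mul_of_pos_right p h6
  push_cast at h5
  have h8 : (p : ℤ) ≤ (p : ℤ) * j' := by exact_mod_cast h7
  have h9 : 2 * (p : ℤ) ≤ (d : ℤ) := by linarith
  exact_mod_cast h9

/-- eigenvalue multiplicities of an element of order `3` in a perfect group: `m₁` (resp. `m₂`) is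
the multiplicity of `ω` (resp. `ω²`). -/
theorem char_order_three_mults [Finite G] (hperf : commutator G = ⊤) {χ : G → ℂ}
    (hχ : IsCharacter G χ) (t : G) (ht : t ^ 3 = 1) (ω : ℂ) (hω : ω ^ 3 = 1) (hω1 : ω ≠ 1) :
    ∃ m₀ m₁ m₂ : ℕ,
      ∑ i ∈ Finset.range 3, χ (t ^ i) * (1 : ℂ) ^ i = 3 * (m₀ : ℂ) ∧
      ∑ i ∈ Finset.range 3, χ (t ^ i) * (ω ^ 2) ^ i = 3 * (m₁ : ℂ) ∧
      ∑ i ∈ Finset.range 3, χ (t ^ i) * ω ^ i = 3 * (m₂ : ℂ) ∧ 3 ∣ m₁ + 2 * m₂ := by
  classical
  obtain ⟨n, ρ, rfl⟩ := hχ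
  obtain ⟨ι, hι, b, μ, h1, h2, -, -⟩ := exists_eigenbasis ρ t
  have hμ : ∀ i, μ i ^ 3 = 1 := by
    intro i
    obtain ⟨e, he⟩ := orderOf_dvd_of_pow_eq_one ht
    rw [he, pow_mul, h1 i, one_pow]
  have hω2 : ω ^ 2 ≠ 1 := by
    intro h
    apply hω1
    have : ω ^ 3 = ω := by rw [pow_succ, h, one_mul]
    rw [← this, hω]
  have hprim : IsPrimitiveRoot ω 3 := by
    refine IsPrimitiveRoot.mk_of_lt ω (by norm_num) hω ?_
    intro l hl0 hl3
    interval_cases l
    · rwa [pow_one]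
    · exact hω2
  have hωω : ω ≠ ω ^ 2 := by
    intro h
    apply hω1
    have h0 : ω ≠ 0 := by
      rintro rfl
      norm_num at hω
    have : ω * 1 = ω * ω := by rw [mul_one, ← pow_two]; exact h
    exact (mul_left_cancel₀ h0 this).symm
  have hdet : LinearMap.det (ρ t) = 1 := by
    have h3 := hom_eq_one_of_perfect hperf (repDetHom ρ) (fun a b => mul_comm _ _) t
    have h4 := repDetHom_apply ρ t
    rw [h3] at h4
    simpa using h4.symm
  have hmat : LinearMap.toMatrix b b (ρ t) = Matrix.diagonal μ := by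
    ext i j
    rw [LinearMap.toMatrix_apply, h2 j, Matrix.diagonal_apply]
    simp only [map_smul, Module.Basis.repr_self, Finsupp.smul_apply, smul_eq_mul,
      Finsupp.single_apply]
    by_cases hij : i = j
    · subst hij; simp
    · rw [if_neg hij, if_neg (Ne.symm hij), mul_zero]
  have hprod : ∏ i, μ i = 1 := by
    rw [← hdet, ← LinearMap.det_toMatrix b, hmat, Matrix.det_diagonal]
  set S₁ := Finset.univ.filter (fun i => μ i = ω) with hS₁
  set S₂ := Finset.univ.filter (fun i => μ i = ω ^ 2) with hS₂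
  have hmem : ∀ i, μ i = 1 ∨ μ i = ω ∨ μ i = ω ^ 2 := by
    intro i
    obtain ⟨l, hl, hl'⟩ := hprim.eq_pow_of_pow_eq_one (hμ i)
    interval_cases l
    · left; rw [← hl', pow_zero]
    · right; left; rw [← hl', pow_one]
    · right; right; rw [← hl']
  have hexp : ∀ i, μ i = ω ^ ((if μ i = ω then 1 else 0) + (if μ i = ω ^ 2 then 2 else 0)) := by
    intro i
    rcases hmem i with h | h | h
    · rw [if_neg (by rw [h]; exact fun h' => hω1 h'.symm),
        if_neg (by rw [h]; exact fun h' => hω2 h'.symm), h, pow_zero]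
    · rw [if_pos h, if_neg (by rw [h]; exact hωω), h, pow_one]
    · rw [if_neg (by rw [h]; exact fun h' => hωω h'.symm), if_pos h, h]
  have hprod2 : ∏ i, μ i = ω ^ (S₁.card + 2 * S₂.card) := by
    rw [Finset.prod_congr rfl (fun i _ => hexp i), Finset.prod_pow_eq_pow_sum,
      Finset.sum_add_distrib, Finset.sum_boole, Finset.sum_ite, Finset.sum_const,
      Finset.sum_const_zero, add_zero, smul_eq_mul, mul_comm _ 2]
    simp [hS₁, hS₂]
  have hdvd : 3 ∣ S₁.card + 2 * S₂.card := by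
    rw [← hprim.pow_eq_one_iff_dvd, ← hprod2, hprod]
  have hf1 : ∀ c : ℂ, c ^ 3 = 1 → ∑ i ∈ Finset.range 3, ρ.character (t ^ i) * c ^ i =
      (3 : ℂ) * ((Finset.univ.filter (fun i => μ i * c = 1)).card : ℂ) := by
    intro c hc
    have := sum_pow_char_mul ρ t b μ h2 3 hμ c hc
    rw [this]
    norm_num
  refine ⟨(Finset.univ.filter (fun i => μ i * 1 = 1)).card, S₁.card, S₂.card,
    hf1 1 (one_pow _), ?_, ?_, hdvd⟩
  · rw [hf1 (ω ^ 2) (by rw [← pow_mul, mul_comm, pow_mul, hω, one_pow])]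
    congr 3
    ext i
    simp only [Finset.mem_filter, Finset.mem_univ, true_and, hS₁]
    constructor
    · intro h
      calc μ i = μ i * ω ^ 3 := by rw [hω, mul_one]
        _ = (μ i * ω ^ 2) * ω := by ring
        _ = ω := by rw [h, one_mul]
    · intro h
      rw [h, ← pow_succ']
      exact hω
  · rw [hf1 ω hω]
    congr 3
    ext i
    simp only [Finset.mem_filter, Finset.mem_univ, true_and, hS₂]
    constructor
    · intro h
      calc μ i = μ i * ω ^ 3 := by rw [hω, mul_one]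
        _ = (μ i * ω) * ω ^ 2 := by ring
        _ = ω ^ 2 := by rw [h, one_mul]
    · intro h
      rw [h, ← pow_succ]
      exact hω

/-- **Lemma D3**: `G` perfect, `χ` a faithful irreducible character, `y` of prime order `p ≠ 3`,
`k` of order `3` commuting with `y`, `χ((yk)^j) = χ(y^j)` for `p ∤ j`. Then `χ(1) ≥ 2p`. -/
theorem two_mul_le_of_order_three [Finite G] (hperf : commutator G = ⊤) (χ : IrrCharacter G)
    (hfaith : ∀ g : G, (χ : G → ℂ) g = (χ : G → ℂ) 1 → g = 1)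
    (p : ℕ) [hp : Fact p.Prime] (hp3 : p ≠ 3) (y k : G) (hy : orderOf y = p)
    (hk : orderOf k = 3) (hc : Commute y k)
    (hval : ∀ j : ℕ, ¬ p ∣ j → (χ : G → ℂ) ((y * k) ^ j) = (χ : G → ℂ) (y ^ j)) :
    2 * p ≤ charDegree (χ : G → ℂ) := by
  classical
  have hpp : p.Prime := hp.out
  have hχc : IsCharacter G (χ : G → ℂ) := IsIrrCharacter.isCharacter χ.2
  have hyp : y ^ p = 1 := by rw [← hy]; exact pow_orderOf_eq_one y
  have hk3 : k ^ 3 = 1 := by rw [← hk]; exact pow_orderOf_eq_one k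
  have hp3' : ¬ 3 ∣ p := by
    intro h
    exact hp3 ((Nat.prime_dvd_prime_iff_eq Nat.prime_three hpp).mp h).symm
  obtain ⟨ω, hprim⟩ : ∃ ω : ℂ, IsPrimitiveRoot ω 3 :=
    ⟨_, Complex.isPrimitiveRoot_exp 3 (by norm_num)⟩
  have hω : ω ^ 3 = 1 := hprim.pow_eq_one
  have hω1 : ω ≠ 1 := hprim.ne_one (by norm_num)
  have h0 : 1 + ω + ω ^ 2 = 0 := by
    have := hprim.geom_sum_eq_zero (by norm_num)
    simpa [Finset.sum_range_succ] using this
  set t := k ^ p with ht
  have ht3 : t ^ 3 = 1 := by rw [ht, ← pow_mul, mul_comm, pow_mul, hk3, one_pow]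
  have hz : (y * k) ^ (3 * p) = 1 := by
    rw [hc.mul_pow, pow_mul', hyp, one_pow, one_mul, pow_mul, hk3, one_pow]
  -- the two twisted sums
  have hsum : ∀ c : ℂ, c ^ 3 = 1 → c ^ p ≠ 1 → ∃ n : ℕ,
      ∑ i ∈ Finset.range 3, (χ : G → ℂ) (t ^ i) * (c ^ p) ^ i = (3 * p : ℂ) * n := by
    intro c hc3 hcp
    have hc3p : c ^ (3 * p) = 1 := by rw [pow_mul, hc3, one_pow]
    obtain ⟨n, hn⟩ := sum_pow_mul_nat hχc (y * k) (3 * p) hz c hc3p
    refine ⟨n, ?_⟩
    rw [sum_section_split p 3 hpp.pos y k hyp hc hval c] at hn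
    have hcp3 : (c ^ p) ^ 3 = 1 := by rw [← pow_mul, mul_comm, pow_mul, hc3, one_pow]
    have hgeo : ∑ i ∈ Finset.range 3, (c ^ p) ^ i = 0 := by
      rw [geom_sum_root 3 _ hcp3, if_neg hcp]
    rw [hgeo, mul_zero, add_zero] at hn
    rw [hn]
    push_cast
    ring
  obtain ⟨m₀, m₁, m₂, e₀, e₁, e₂, hdvd⟩ := char_order_three_mults hperf hχc t ht3 ω hω hω1
  -- `ω ^ p` and `(ω ^ 2) ^ p` are `ω`, `ω ^ 2` in some order
  have hω2 : (ω ^ 2) ^ 3 = 1 := by rw [← pow_mul, mul_comm, pow_mul, hω, one_pow]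
  have hpows : (ω ^ p = ω ∧ (ω ^ 2) ^ p = ω ^ 2) ∨ (ω ^ p = ω ^ 2 ∧ (ω ^ 2) ^ p = ω) := by
    have hmod : p % 3 = 1 ∨ p % 3 = 2 := by omega
    have hdecomp : p = 3 * (p / 3) + p % 3 := (Nat.div_add_mod p 3).symm
    rcases hmod with h | h
    · left
      rw [h] at hdecomp
      constructor
      · rw [hdecomp, pow_add, pow_mul, hω, one_pow, one_mul, pow_one]
      · rw [hdecomp, pow_add, pow_mul, hω2, one_pow, one_mul, pow_one]
    · right
      rw [h] at hdecomp
      constructor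
      · rw [hdecomp, pow_add, pow_mul, hω, one_pow, one_mul]
      · rw [hdecomp, pow_add, pow_mul, hω2, one_pow, one_mul, ← pow_mul]
        calc ω ^ (2 * 2) = ω ^ 3 * ω := by ring
          _ = ω := by rw [hω, one_mul]
  have hωsq1 : ω ^ 2 ≠ 1 := by
    intro h
    apply hω1
    have : ω ^ 3 = ω := by rw [pow_succ, h, one_mul]
    rw [← this, hω]
  obtain ⟨a, ha⟩ : ∃ a : ℕ, m₁ = p * a := by
    rcases hpows with ⟨h1, h2⟩ | ⟨h1, h2⟩
    · obtain ⟨n, hn⟩ := hsum (ω ^ 2) hω2 (by rw [h2]; exact hωsq1)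
      rw [h2, e₁] at hn
      refine ⟨n, ?_⟩
      have : ((m₁ : ℕ) : ℂ) = ((p * n : ℕ) : ℂ) := by
        push_cast
        linear_combination hn / 3
      exact_mod_cast this
    · obtain ⟨n, hn⟩ := hsum ω hω (by rw [h1]; exact hωsq1)
      rw [h1, e₁] at hn
      refine ⟨n, ?_⟩
      have : ((m₁ : ℕ) : ℂ) = ((p * n : ℕ) : ℂ) := by
        push_cast
        linear_combination hn / 3
      exact_mod_cast this
  obtain ⟨b, hb⟩ : ∃ b : ℕ, m₂ = p * b := by
    rcases hpows with ⟨h1, h2⟩ | ⟨h1, h2⟩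
    · obtain ⟨n, hn⟩ := hsum ω hω (by rw [h1]; exact hω1)
      rw [h1, e₂] at hn
      refine ⟨n, ?_⟩
      have : ((m₂ : ℕ) : ℂ) = ((p * n : ℕ) : ℂ) := by
        push_cast
        linear_combination hn / 3
      exact_mod_cast this
    · obtain ⟨n, hn⟩ := hsum (ω ^ 2) hω2 (by rw [h2]; exact hω1)
      rw [h2, e₂] at hn
      refine ⟨n, ?_⟩
      have : ((m₂ : ℕ) : ℂ) = ((p * n : ℕ) : ℂ) := by
        push_cast
        linear_combination hn / 3
      exact_mod_cast this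
  have hd := irr_apply_one χ
  set d := charDegree (χ : G → ℂ) with hddef
  simp only [Finset.sum_range_succ, Finset.sum_range_zero, zero_add, pow_zero, pow_one, mul_one,
    one_pow] at e₀ e₁ e₂
  rw [hd] at e₀ e₁ e₂
  -- degree
  have hdeg : d = m₀ + m₁ + m₂ := by
    have : ((d : ℕ) : ℂ) = ((m₀ + m₁ + m₂ : ℕ) : ℂ) := by
      push_cast
      have hω4 : ω ^ 4 = ω := by
        calc ω ^ 4 = ω ^ 3 * ω := by ring
          _ = ω := by rw [hω, one_mul]
      linear_combination (1 / 3 : ℂ) * e₀ + (1 / 3 : ℂ) * e₁ + (1 / 3 : ℂ) * e₂ -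
        ((1 / 3 : ℂ) * (χ : G → ℂ) t + (1 / 3 : ℂ) * (χ : G → ℂ) (t ^ 2)) * h0 -
        (1 / 3 : ℂ) * (χ : G → ℂ) (t ^ 2) * hω4
    exact_mod_cast this
  have hab : a + b ≠ 0 := by
    intro h
    have ha0 : a = 0 := by omega
    have hb0 : b = 0 := by omega
    rw [ha0, mul_zero] at ha
    rw [hb0, mul_zero] at hb
    rw [ha, Nat.cast_zero, mul_zero] at e₁
    rw [hb, Nat.cast_zero, mul_zero] at e₂
    have ht1 : (χ : G → ℂ) t = (χ : G → ℂ) 1 := by
      rw [hd]
      have hω4 : ω ^ 4 = ω := by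
        calc ω ^ 4 = ω ^ 3 * ω := by ring
          _ = ω := by rw [hω, one_mul]
      have hm0 : (d : ℂ) = (m₀ : ℂ) := by
        rw [hdeg, ha, hb]; simp
      have h3 : (3 : ℂ) * (χ : G → ℂ) t = 3 * (m₀ : ℂ) := by
        linear_combination e₀ + ω * e₁ + ω ^ 2 * e₂ - ((d : ℂ) + (χ : G → ℂ) (t ^ 2)) * h0 -
          ((χ : G → ℂ) t * 2 + (χ : G → ℂ) (t ^ 2) * (ω + ω ^ 2)) * hω
      rw [hm0]
      exact mul_left_cancel₀ (by norm_num : (3 : ℂ) ≠ 0) h3
    have h1 := hfaith t ht1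
    have h2 : 3 ∣ p := by
      rw [← hk]
      exact orderOf_dvd_of_pow_eq_one h1
    exact hp3' h2
  have hdvd' : 3 ∣ a + 2 * b := by
    rw [ha, hb] at hdvd
    have h1 : 3 ∣ p * (a + 2 * b) := by
      have : p * a + 2 * (p * b) = p * (a + 2 * b) := by ring
      rwa [this] at hdvd
    exact (Nat.Coprime.dvd_mul_left
      ((Nat.coprime_primes Nat.prime_three hpp).mpr (Ne.symm hp3))).mp h1
  have h2ab : 2 ≤ a + b := by omega
  calc 2 * p ≤ p * (a + b) := by rw [mul_comm]; exact Nat.mul_le_mul_left p h2ab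
    _ = m₁ + m₂ := by rw [ha, hb]; ring
    _ ≤ d := by omega

end Cfsg.Agent.Lib.Helper13.BLTwoP
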