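import Mathlib
import Cfsg.Agent.Lib.Helper13.BLTwoP

/-!
helper13: the principal `p`-block for a Sylow subgroup `P` of prime order `p` with
`|N_G(P) : C_G(P)| = p - 1` (all of `P#` conjugate): integer values `a χ` on the `p`-singular
sections, `∑ (a χ)² = p`, degree equation `∑ a χ * χ(1) = 0`, congruences `χ(1) ≡ a χ (mod p)`.
-/

set_option autoImplicit false
set_option linter.style.haveILetI false
set_option linter.unusedSectionVars false

namespace Cfsg.Agent.Lib.Helper13.BLTwoP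

open Cfsg Cfsg.Agent.CharLib Cfsg.Agent.Lib.Helper24 Cfsg.Agent.Lib.Helper6
open Cfsg.Agent.Lib.Helper5.BLFull Cfsg.Agent.Lib.Helper12.BSF
open scoped ComplexConjugate

universe u

variable {G : Type u} [Group G] [Finite G]

/-- all nonidentity elements of a subgroup `H` of prime order `p` are conjugate when
`|N_G(H) : C_G(H)| = p - 1` -/
theorem isConj_of_relIndex_pred (p : ℕ) [hp : Fact p.Prime] (H : Subgroup G)
    (hH : Nat.card H = p)
    (hCN : (Subgroup.centralizer (H : Set G)).relIndex (Subgroup.normalizer (H : Set G)) = p - 1)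
    (y : G) (hy : y ∈ H) (hy1 : y ≠ 1) : ∀ x ∈ H, x ≠ 1 → IsConj x y := by
  classical
  have hpp : p.Prime := hp.out
  set N := Subgroup.normalizer (H : Set G) with hNdef
  set C := Subgroup.centralizer (H : Set G) with hCdef
  have hCN' : C ≤ N := Subgroup.centralizer_le_normalizer _
  have hz := le_zpowers_of_card_prime p H hH y hy hy1
  have hmemC : ∀ g : G, Commute g y → g ∈ C := by
    intro g hg
    rw [hCdef, Subgroup.mem_centralizer_iff]
    intro h hh
    obtain ⟨k, rfl⟩ := Subgroup.mem_zpowers_iff.mp (hz hh)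
    exact ((hg.zpow_right k).eq).symm
  let f : ↥N → G := fun g => (g : G) * y * (g : G)⁻¹
  have hfib : ∀ g : ↥N, Nat.card {g' : ↥N // f g' = f g} = Nat.card ↥C := by
    intro g
    apply Nat.card_congr
    refine ⟨fun g' => ⟨(g : G)⁻¹ * (g'.1 : G), ?_⟩,
      fun c => ⟨⟨(g : G) * (c : G), N.mul_mem g.2 (hCN' c.2)⟩, ?_⟩, ?_, ?_⟩
    · apply hmemC
      have h : (g'.1 : G) * y * (g'.1 : G)⁻¹ = (g : G) * y * (g : G)⁻¹ := g'.2
      show (g : G)⁻¹ * (g'.1 : G) * y = y * ((g : G)⁻¹ * (g'.1 : G))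
      calc (g : G)⁻¹ * (g'.1 : G) * y
          = (g : G)⁻¹ * ((g'.1 : G) * y * (g'.1 : G)⁻¹) * (g'.1 : G) := by group
        _ = (g : G)⁻¹ * ((g : G) * y * (g : G)⁻¹) * (g'.1 : G) := by rw [h]
        _ = y * ((g : G)⁻¹ * (g'.1 : G)) := by group
    · show (g : G) * (c : G) * y * ((g : G) * (c : G))⁻¹ = (g : G) * y * (g : G)⁻¹
      have hc : (c : G) * y = y * (c : G) := ((Subgroup.mem_centralizer_iff.mp c.2) y hy).symm
      calc (g : G) * (c : G) * y * ((g : G) * (c : G))⁻¹
          = (g : G) * ((c : G) * y) * (c : G)⁻¹ * (g : G)⁻¹ := by group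
        _ = (g : G) * (y * (c : G)) * (c : G)⁻¹ * (g : G)⁻¹ := by rw [hc]
        _ = (g : G) * y * (g : G)⁻¹ := by group
    · intro g'
      apply Subtype.ext
      apply Subtype.ext
      show (g : G) * ((g : G)⁻¹ * (g'.1 : G)) = (g'.1 : G)
      group
    · intro c
      apply Subtype.ext
      show (g : G)⁻¹ * ((g : G) * (c : G)) = (c : G)
      group
  have hcard := Cfsg.Agent.Lib.Helper19.Ord4032.card_eq_card_range_mul f _ hfib
  have hmul := Cfsg.Agent.Lib.Helper7.card_centralizer_mul_relIndex H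
  rw [← hNdef, ← hCdef, hCN] at hmul
  have hC0 : 0 < Nat.card ↥C := Nat.card_pos
  have hr : (Set.range f).ncard = p - 1 := by
    rw [← Nat.card_coe_set_eq]
    apply Nat.eq_of_mul_eq_mul_left hC0
    rw [hmul, hcard, mul_comm]
  have hsub : Set.range f ⊆ ((H : Subgroup G) : Set G) \ {1} := by
    rintro _ ⟨g, rfl⟩
    refine ⟨(Subgroup.mem_normalizer_iff.mp g.2 y).mp hy, ?_⟩
    intro h
    apply hy1
    have h' : (g : G) * y * (g : G)⁻¹ = 1 := h
    calc y = (g : G)⁻¹ * ((g : G) * y * (g : G)⁻¹) * (g : G) := by group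
      _ = 1 := by rw [h']; group
  have hHn : ((H : Set G)).ncard = p := by
    rw [← Nat.card_coe_set_eq]
    exact hH
  have hS : ((H : Set G) \ {1}).ncard = p - 1 := by
    rw [Set.ncard_sdiff_singleton_of_mem (show (1 : G) ∈ (H : Set G) from H.one_mem), hHn]
  have heq : Set.range f = (H : Set G) \ {1} :=
    Set.eq_of_subset_of_ncard_le hsub (by rw [hS, hr]) (Set.toFinite _)
  intro x hx hx1
  have hxm : x ∈ Set.range f := by
    rw [heq]
    exact ⟨hx, hx1⟩
  obtain ⟨g, hg⟩ := hxm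
  exact (isConj_iff.mpr ⟨(g : G), hg⟩).symm

/-- **The principal block for `e = p - 1`**: `B` is the set of nontrivial characters of the
principal `p`-block. -/
theorem core_top (p : ℕ) [hp : Fact p.Prime] (P : Sylow p G)
    (hP : Nat.card (P : Subgroup G) = p)
    (hCN : (Subgroup.centralizer ((P : Subgroup G) : Set G)).relIndex
      (Subgroup.normalizer ((P : Subgroup G) : Set G)) = p - 1) :
    ∃ (B : Finset (IrrCharacter G)) (a : IrrCharacter G → ℤ),
      (∀ χ ∈ B, (χ : G → ℂ) ≠ fun _ => 1) ∧ (∀ χ ∈ B, a χ ≠ 0) ∧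
      1 + ∑ χ ∈ B, a χ ^ 2 = (p : ℤ) ∧
      (∀ χ ∈ B, (p : ℤ) ∣ (charDegree (χ : G → ℂ) : ℤ) - a χ) ∧
      1 + ∑ χ ∈ B, a χ * (charDegree (χ : G → ℂ) : ℤ) = 0 ∧
      (∀ χ ∈ B, ∀ y w : G, y ∈ (P : Subgroup G) → y ≠ 1 → Commute y w → ¬ p ∣ orderOf w →
        (χ : G → ℂ) (y * w) = (a χ : ℂ)) := by
  classical
  have hpp : p.Prime := hp.out
  obtain ⟨M, hM⟩ := exists_isPModular p
  have hcyc0 : IsCyclic ↥(P : Subgroup G) := isCyclic_of_prime_card hP
  have hab : IsMulCommutative P := IsCyclic.isMulCommutative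
  have hCleN : Subgroup.centralizer ((P : Subgroup G) : Set G) ≤
      Subgroup.normalizer ((P : Subgroup G) : Set G) := Subgroup.centralizer_le_normalizer _
  have hfrob : BLFrob P := by
    intro y hy hy1
    apply le_antisymm
    · intro g hg
      have hgy : g ∈ Subgroup.centralizer ({y} : Set G) := hg.1
      rw [Subgroup.mem_centralizer_singleton_iff] at hgy
      rw [Subgroup.mem_centralizer_iff]
      intro h hh
      have hz := le_zpowers_of_card_prime p (P : Subgroup G) hP y hy hy1 hh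
      obtain ⟨k, rfl⟩ := Subgroup.mem_zpowers_iff.mp hz
      have hc : Commute g y := hgy
      exact ((hc.zpow_right k).eq).symm
    · apply le_inf _ hCleN
      intro g hg
      rw [Subgroup.mem_centralizer_singleton_iff]
      rw [Subgroup.mem_centralizer_iff] at hg
      exact (hg y hy).symm
  -- a non-identity element of P
  have hnt : Nontrivial ↥(P : Subgroup G) := by
    rw [← Finite.one_lt_card_iff_nontrivial, hP]
    exact hpp.one_lt
  obtain ⟨y₀, hy₀⟩ := exists_ne (1 : ↥(P : Subgroup G))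
  have hy₀1 : (y₀ : G) ≠ 1 := fun h => hy₀ (Subtype.ext h)
  have hconj := isConj_of_relIndex_pred p (P : Subgroup G) hP hCN (y₀ : G) y₀.2 hy₀1
  have hyo : orderOf (y₀ : G) = p := orderOf_eq_of_card_prime p (P : Subgroup G) hP _ y₀.2 hy₀1
  have hpG : p ∣ Nat.card G := by
    rw [← hyo]; exact orderOf_dvd_natCard _
  -- integrality
  have hint : ∀ χ : IrrCharacter G, ∃ n : ℤ, (χ : G → ℂ) (y₀ : G) = (n : ℂ) := by
    intro χ
    have hcl : IsClassFunction G (χ : G → ℂ) :=
      IsCharacter.isClassFunction (IsIrrCharacter.isCharacter χ.2)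
    apply Cfsg.Agent.Lib.Helper10.irr_int_of_forall_pow_eq χ.2
    intro m hm
    have hpm : ¬ p ∣ m := by
      intro h
      have h1 := Nat.dvd_gcd h hpG
      rw [Nat.Coprime] at hm
      rw [hm] at h1
      exact hpp.one_lt.ne' (Nat.dvd_one.mp h1)
    have hne : (y₀ : G) ^ m ≠ 1 := by
      intro h
      have := orderOf_dvd_of_pow_eq_one h
      rw [hyo] at this
      exact hpm this
    exact apply_eq_of_isConj hcl (hconj _ ((P : Subgroup G).pow_mem y₀.2 m) hne)
  choose a ha using hint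
  -- values on p-singular elements
  have hvalg : ∀ χ ∈ principalBlock M G, ∀ y w : G, y ∈ (P : Subgroup G) → y ≠ 1 →
      Commute y w → ¬ p ∣ orderOf w → (χ : G → ℂ) (y * w) = (a χ : ℂ) := by
    intro χ hχ y w hy hy1 hyw hw
    have hcl : IsClassFunction G (χ : G → ℂ) :=
      IsCharacter.isClassFunction (IsIrrCharacter.isCharacter χ.2)
    have h1 : (χ : G → ℂ) (y * w) = (χ : G → ℂ) y := by
      refine hfrob.apply_section hM hab χ hχ (y * w) y ?_ hy hy1
      refine ⟨w, rfl, hyw, ⟨1, ?_⟩, hw⟩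
      rw [pow_one]
      exact orderOf_eq_of_card_prime p (P : Subgroup G) hP y hy hy1
    rw [h1, apply_eq_of_isConj hcl (hconj y hy hy1), ha χ]
  have hval : ∀ χ : IrrCharacter G, ∀ y : ↥(P : Subgroup G), y ≠ 1 →
      (χ : G → ℂ) (y : G) = (a χ : ℂ) := by
    intro χ y hy
    have hcl : IsClassFunction G (χ : G → ℂ) :=
      IsCharacter.isClassFunction (IsIrrCharacter.isCharacter χ.2)
    have hy1 : (y : G) ≠ 1 := fun h => hy (Subtype.ext h)
    rw [apply_eq_of_isConj hcl (hconj (y : G) y.2 hy1), ha χ]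
  -- congruences
  have hcong : ∀ χ : IrrCharacter G, (p : ℤ) ∣ (charDegree (χ : G → ℂ) : ℤ) - a χ := by
    intro χ
    haveI : Fintype ↥(P : Subgroup G) := Fintype.ofFinite _
    obtain ⟨n, hn⟩ := sum_subgroup_irr (P : Subgroup G) χ
    have hcardF : Fintype.card ↥(P : Subgroup G) = p := by
      rw [← Nat.card_eq_fintype_card, hP]
    rw [← Finset.add_sum_erase Finset.univ _ (Finset.mem_univ (1 : ↥(P : Subgroup G)))] at hn
    have h1 : ∀ y ∈ Finset.univ.erase (1 : ↥(P : Subgroup G)),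
        (χ : G → ℂ) (y : G) = (a χ : ℂ) := fun y hy => hval χ y (Finset.ne_of_mem_erase hy)
    rw [Finset.sum_congr rfl h1, Finset.sum_const, Finset.card_erase_of_mem (Finset.mem_univ _),
      Finset.card_univ, nsmul_eq_mul, hcardF] at hn
    have h2 : (χ : G → ℂ) ((1 : ↥(P : Subgroup G)) : G) = (charDegree (χ : G → ℂ) : ℂ) := by
      rw [Subgroup.coe_one, irr_apply_one]
    rw [h2] at hn
    refine ⟨(n : ℤ) - a χ, ?_⟩
    have h3 : (((charDegree (χ : G → ℂ) : ℤ) - a χ : ℤ) : ℂ) =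
        (((p : ℤ) * ((n : ℤ) - a χ) : ℤ) : ℂ) := by
      push_cast
      rw [Nat.cast_sub hpp.pos] at hn
      push_cast at hn
      linear_combination hn
    exact_mod_cast h3
  -- the block as a finset
  have hBfin : (principalBlock M G).Finite := Set.toFinite _
  set BF : Finset (IrrCharacter G) := hBfin.toFinset with hBF
  have hmemBF : ∀ χ, χ ∈ BF ↔ χ ∈ principalBlock M G := fun χ => Set.Finite.mem_toFinset hBfin
  have htriv : CharLib.trivIrr G ∈ BF := (hmemBF _).mpr (trivIrr_mem_principalBlock hM)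
  have hatriv : a (CharLib.trivIrr G) = 1 := by
    have h1 := ha (CharLib.trivIrr G)
    have h2 : ((CharLib.trivIrr G : IrrCharacter G) : G → ℂ) (y₀ : G) = 1 := rfl
    rw [h2] at h1
    have h3 : ((1 : ℤ) : ℂ) = ((a (CharLib.trivIrr G) : ℤ) : ℂ) := by rw [← h1]; simp
    exact_mod_cast h3.symm
  have hdtriv : charDegree ((CharLib.trivIrr G : IrrCharacter G) : G → ℂ) = 1 := by
    have h1 := irr_apply_one (CharLib.trivIrr G)
    have h2 : ((CharLib.trivIrr G : IrrCharacter G) : G → ℂ) 1 = 1 := rfl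
    rw [h2] at h1
    have h3 : ((1 : ℕ) : ℂ) = ((charDegree ((CharLib.trivIrr G : IrrCharacter G) : G → ℂ) : ℕ) : ℂ) := by
      rw [← h1]; simp
    exact_mod_cast h3.symm
  -- sum of squares
  have hsq := hfrob.sum_sq hM hab (y₀ : G) y₀.2 hy₀1
  rw [finsum_mem_eq_finite_toFinset_sum _ hBfin, hP] at hsq
  have hsqZ : ∑ χ ∈ BF, a χ ^ 2 = (p : ℤ) := by
    have h1 : ((∑ χ ∈ BF, a χ ^ 2 : ℤ) : ℂ) = ((p : ℤ) : ℂ) := by
      push_cast
      rw [← hsq]
      apply Finset.sum_congr rfl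
      intro χ _
      rw [ha χ, map_intCast]
      ring
    exact_mod_cast h1
  -- degree equation
  have hdeg := BLFrob.column_orthogonality_regular hM P (y₀ : G) 1 y₀.2 hy₀1
    (by rw [orderOf_one]; exact hpp.one_lt.ne' ∘ Nat.dvd_one.mp)
  rw [finsum_mem_eq_finite_toFinset_sum _ hBfin] at hdeg
  have hdegZ : ∑ χ ∈ BF, a χ * (charDegree (χ : G → ℂ) : ℤ) = 0 := by
    have h1 : ((∑ χ ∈ BF, a χ * (charDegree (χ : G → ℂ) : ℤ) : ℤ) : ℂ) = ((0 : ℤ) : ℂ) := by
      push_cast
      rw [← hdeg]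
      apply Finset.sum_congr rfl
      intro χ _
      rw [ha χ, map_intCast, irr_apply_one]
      ring
    exact_mod_cast h1
  rw [← Finset.add_sum_erase BF _ htriv, hatriv] at hsqZ
  rw [← Finset.add_sum_erase BF _ htriv, hatriv, hdtriv] at hdegZ
  refine ⟨BF.erase (CharLib.trivIrr G), a, ?_, ?_, ?_, ?_, ?_, ?_⟩
  · intro χ hχ hχ1
    apply Finset.ne_of_mem_erase hχ
    apply Subtype.ext
    rw [hχ1]
    rfl
  · intro χ hχ h0
    have hχB : χ ∈ principalBlock M G := (hmemBF χ).mp (Finset.mem_of_mem_erase hχ)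
    have h1 := apply_ne_zero_of_mem_principalBlock_sylow hM P hab χ hχB (y₀ : G) y₀.2
    rw [ha χ, h0] at h1
    exact h1 (by simp)
  · rw [← hsqZ]; norm_num
  · intro χ _
    exact hcong χ
  · rw [← hdegZ]; norm_num
  · intro χ hχ
    exact hvalg χ ((hmemBF χ).mp (Finset.mem_of_mem_erase hχ))

/-- **Degree bound `χ(1) ≥ 2p`** in the setting of `core_full` / `core_two` / `core_top`: `G`
simple nonabelian, `P` a Sylow subgroup of prime order `p ≥ 5`, `C_G(P)` of order divisible by `2`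
or `3`, `χ` a nontrivial irreducible character constant (`= a`) on the `p`-sections through `P#`
(the section clause of `core_full`). -/
theorem two_mul_le_of_centralizer [IsSimpleGroup G] (hnc : ¬ IsMulCommutative G) (p : ℕ)
    [hp : Fact p.Prime] (hp5 : 5 ≤ p) (P : Sylow p G) (hP : Nat.card (P : Subgroup G) = p)
    (hC : 2 ∣ Nat.card ↥(Subgroup.centralizer ((P : Subgroup G) : Set G)) ∨
      3 ∣ Nat.card ↥(Subgroup.centralizer ((P : Subgroup G) : Set G)))
    (χ : IrrCharacter G) (hχ : (χ : G → ℂ) ≠ fun _ => 1) (a : ℂ)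
    (hval : ∀ y w : G, y ∈ (P : Subgroup G) → y ≠ 1 → Commute y w → ¬ p ∣ orderOf w →
      (χ : G → ℂ) (y * w) = a) :
    2 * p ≤ charDegree (χ : G → ℂ) := by
  classical
  have hpp : p.Prime := hp.out
  have hperf : commutator G = ⊤ := commutator_eq_top_of_simple hnc
  have hfaith : ∀ g : G, (χ : G → ℂ) g = (χ : G → ℂ) 1 → g = 1 :=
    fun g hg => eq_one_of_apply_eq χ hχ g hg
  have hnt : Nontrivial ↥(P : Subgroup G) := by
    rw [← Finite.one_lt_card_iff_nontrivial, hP]
    exact hpp.one_lt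
  obtain ⟨y0, hy0⟩ := exists_ne (1 : ↥(P : Subgroup G))
  have hy1 : (y0 : G) ≠ 1 := fun h => hy0 (Subtype.ext h)
  have hyo : orderOf (y0 : G) = p :=
    orderOf_eq_of_card_prime p (P : Subgroup G) hP y0 y0.2 hy1
  -- the section clause for the powers of `y0 * v`
  have hsec : ∀ (q : ℕ) (v : G), q ≤ 3 → orderOf v = q → Commute (y0 : G) v → ∀ j : ℕ, ¬ p ∣ j →
      (χ : G → ℂ) (((y0 : G) * v) ^ j) = (χ : G → ℂ) ((y0 : G) ^ j) := by
    intro q v hq hv hcyv j hj
    have hyj : (y0 : G) ^ j ∈ (P : Subgroup G) := Subgroup.pow_mem _ y0.2 j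
    have hyj1 : (y0 : G) ^ j ≠ 1 := by
      intro h
      apply hj
      rw [← hyo]
      exact orderOf_dvd_of_pow_eq_one h
    have hq0 : 0 < q := by rw [← hv]; exact orderOf_pos v
    rw [hcyv.mul_pow, hval _ _ hyj hyj1 (hcyv.pow_pow j j) ?_]
    · have := hval _ 1 hyj hyj1 (Commute.one_right _)
        (by rw [orderOf_one]; exact hpp.one_lt.ne' ∘ Nat.dvd_one.mp)
      rw [mul_one] at this
      exact this.symm
    · intro h
      have h1 : p ∣ q := by
        rw [← hv]
        exact dvd_trans h (orderOf_pow_dvd j)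
      have := Nat.le_of_dvd hq0 h1
      omega
  rcases hC with h2 | h3
  · haveI : Fact (Nat.Prime 2) := ⟨Nat.prime_two⟩
    obtain ⟨v0, hv0⟩ := exists_prime_orderOf_dvd_card' (G := ↥(Subgroup.centralizer
      ((P : Subgroup G) : Set G))) 2 h2
    have hvo : orderOf (v0 : G) = 2 := by rw [Subgroup.orderOf_coe]; exact hv0
    have hcyv : Commute (y0 : G) (v0 : G) := (Subgroup.mem_centralizer_iff.mp v0.2) y0 y0.2
    exact two_mul_le_of_invol hperf χ hfaith p (by omega) (y0 : G) (v0 : G) hyo hvo hcyv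
      (hsec 2 _ (by norm_num) hvo hcyv)
  · haveI : Fact (Nat.Prime 3) := ⟨Nat.prime_three⟩
    obtain ⟨v0, hv0⟩ := exists_prime_orderOf_dvd_card' (G := ↥(Subgroup.centralizer
      ((P : Subgroup G) : Set G))) 3 h3
    have hvo : orderOf (v0 : G) = 3 := by rw [Subgroup.orderOf_coe]; exact hv0
    have hcyv : Commute (y0 : G) (v0 : G) := (Subgroup.mem_centralizer_iff.mp v0.2) y0 y0.2
    exact two_mul_le_of_order_three hperf χ hfaith p (by omega) (y0 : G) (v0 : G) hyo hvo hcyv
      (hsec 3 _ (by norm_num) hvo hcyv)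

end Cfsg.Agent.Lib.Helper13.BLTwoP
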