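/-
helper13: S4504 (Brauer: p ∥ |G|, no normal subgroup of order p, χ faithful of degree (p-1)/2 ⇒ G/Z(G) ≅ PSL(2,p)),
vocabulary for the reduction (LAYER A).
* `SmallForm p` : S4503 in helper21's `Small` form (every group with `p ∥ |G|` and a faithful character of degree
  `< (p-1)/2` has a normal Sylow `p`-subgroup);
* `Core p`      : the CORE statement: `G` generated by the conjugates of a Sylow `p`-subgroup `P` of order `p`, not normal,
  `ψ ∈ Irr G` faithful of degree `(p-1)/2`  ⇒  `|Syl_p G| = p + 1` and `G` is perfect;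
* `EBound p`    : the bound `|N_G(P) : C_G(P)| ≤ ψ(1)` of Part E in the equality case.
-/
import Mathlib
import Cfsg.Prelude.Def_Blocks
import Cfsg.Agent.Lib.Helper21.S4503R
import Cfsg.Agent.Lib.Helper27.DODefs

set_option autoImplicit false

namespace Cfsg.Agent.Lib.Helper13.BRP

open Cfsg Cfsg.Agent.Lib.Helper8.DOM Cfsg.Agent.Lib.Helper27.DO

universe u

/-- S4503 in helper21's `Small` form -/
def SmallForm (p : ℕ) : Prop :=
  ∀ (H : Type u) [Group H] [Finite H], Cfsg.Agent.Lib.Helper21.S4503R.Small p H →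
    ∀ Q : Sylow p H, (Q : Subgroup H).Normal

/-- the CORE statement of S4504 -/
def Core (p : ℕ) : Prop :=
  ∀ (G : Type u) [Group G] [Finite G], p ∣ Nat.card G → ¬ p ^ 2 ∣ Nat.card G →
    ∀ P : Sylow p G, Subgroup.normalClosure ((P : Subgroup G) : Set G) = ⊤ → ¬ (P : Subgroup G).Normal →
    ∀ ψ : IrrCharacter G, (∀ g : G, (ψ : G → ℂ) g = (ψ : G → ℂ) 1 → g = 1) →
      2 * charDegree (ψ : G → ℂ) + 1 = p →
      Nat.card (Sylow p G) = p + 1 ∧ commutator G = ⊤

/-- the bound `f ≤ ψ(1)` of Part E, equality case -/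
def EBound (p : ℕ) : Prop :=
  ∀ (G : Type u) [Group G] [Finite G], p ∣ Nat.card G → ¬ p ^ 2 ∣ Nat.card G →
    ∀ P : Sylow p G, ¬ (P : Subgroup G).Normal →
    ∀ ψ : IrrCharacter G, (∀ g : G, (ψ : G → ℂ) g = (ψ : G → ℂ) 1 → g = 1) →
      2 * charDegree (ψ : G → ℂ) + 1 = p →
      (Cz (P : Subgroup G)).relIndex (Nz (P : Subgroup G)) ≤ charDegree (ψ : G → ℂ)

end Cfsg.Agent.Lib.Helper13.BRP
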