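/-
helper13: S4504 (Brauer: p ∥ |G|, no normal subgroup of order p, χ faithful of degree (p-1)/2 ⇒ G/Z(G) ≅ PSL(2,p)):
the SPINE of LAYER A (reduction + recognition) over the landed leaves of `notes/S4504_A_leaves.lean`
(helpers 5, 9, 14, 15, 17, 22): S4504 from S4503 (`BRP.SmallForm`), the CORE (`BRP.Core`) and the Part E bound (`BRP.EBound`).
-/
import Mathlib
import Cfsg.Prelude.Def_Blocks
import Cfsg.Prelude.Def_Perm
import Cfsg.Agent.Lib.Helper13.BRPDefs
import Cfsg.Agent.Lib.Helper21.S4503R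
import Cfsg.Agent.Lib.Lead.ItoD
import Cfsg.Agent.Lib.Helper5.BRPRED
import Cfsg.Agent.Lib.Helper15.BRPNCL
import Cfsg.Agent.Lib.Helper15.BRPCARD
import Cfsg.Agent.Lib.Helper15.BRPCCZ
import Cfsg.Agent.Lib.Helper17.BRPSEMIG
import Cfsg.Agent.Lib.Helper9.BRPPERM
import Cfsg.Agent.Lib.Helper14.BRR4c
import Cfsg.Agent.Lib.Helper14.BRR4d
import Cfsg.Agent.Lib.Helper22.BRPREC

set_option autoImplicit false

namespace Cfsg.Agent.Lib.Helper13.BRPMain

open Cfsg Cfsg.Agent.Lib.Helper8.DOM Cfsg.Agent.Lib.Helper27.DO Cfsg.Agent.CharLib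
open Cfsg.Agent.Lib.Helper13.BRP Cfsg.Agent.Lib.Helper21.S4503R
open Cfsg.Agent.Lib.Helper5.BRPRED Cfsg.Agent.Lib.Helper15.BRPNCL Cfsg.Agent.Lib.Helper15.BRPCARD
open Cfsg.Agent.Lib.Helper15.BRPCCZ Cfsg.Agent.Lib.Helper17.BRPSEMIG Cfsg.Agent.Lib.Helper9.BRPPERM
open Cfsg.Agent.Lib.Helper22.BRPREC

universe u

/-- S4504 from S4503 (`SmallForm`), the CORE and the Part E bound. -/
theorem s4504_of_core (hS : ∀ p : ℕ, p.Prime → SmallForm.{u} p) (hcore : ∀ p : ℕ, p.Prime → BRP.Core.{u} p)
    (hE : ∀ p : ℕ, p.Prime → EBound.{u} p)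
    {G : Type u} [Group G] [Finite G] (p : ℕ) (hp : p.Prime)
    (hdiv : p ∣ Nat.card G) (hsq : ¬ p ^ 2 ∣ Nat.card G)
    (hnn : ∀ H : Subgroup G, H.Normal → Nat.card H ≠ p) (χ : G → ℂ) (hχ : Cfsg.IsCharacter G χ)
    (hfaith : ∀ g : G, χ g = χ 1 → g = 1) (hdeg : 2 * Cfsg.charDegree χ + 1 = p) :
    Nonempty ((G ⧸ Subgroup.center G) ≃* Matrix.ProjectiveSpecialLinearGroup (Fin 2) (ZMod p)) := by
  classical
  have : Fact p.Prime := ⟨hp⟩
  let P : Sylow p G := default
  have hPcard : Nat.card (P : Subgroup G) = p := card_sylow_eq hdiv hsq P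
  have hPnn : ¬ (P : Subgroup G).Normal := fun h => hnn P h hPcard
  -- the normal closure
  set H : Subgroup G := Subgroup.normalClosure ((P : Subgroup G) : Set G) with hH
  have hle : (P : Subgroup G) ≤ H := Subgroup.le_normalClosure
  set P' : Sylow p H := P.subtype hle with hP'
  have hdivH : p ∣ Nat.card H := by
    have := Subgroup.card_dvd_of_le hle
    rwa [hPcard] at this
  have hsqH : ¬ p ^ 2 ∣ Nat.card H := fun h => hsq (h.trans (Subgroup.card_subgroup_dvd_card _))
  have htop' : Subgroup.normalClosure ((P' : Subgroup H) : Set H) = ⊤ :=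
    normalClosure_subtype_eq_top P
  have hP'nn : ¬ (P' : Subgroup H).Normal := by
    intro hn
    apply hPnn
    apply normal_of_sylow_normal_in_closure P
    intro Q
    have : Subsingleton (Sylow p H) := by
      have := hn
      exact (Sylow.unique_of_normal P' hn).instSubsingleton
    rw [Subsingleton.elim Q P']
    exact hn
  -- the restriction of `χ` to `H` is irreducible
  have hψc : IsCharacter H (fun h : H => χ h) := IsCharacter.restrict hχ H
  have hψfaith : ∀ h : H, (fun h : H => χ h) h = (fun h : H => χ h) 1 → h = 1 := by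
    intro h hh
    exact Subtype.ext (hfaith h hh)
  have hψdeg : 2 * charDegree (fun h : H => χ h) + 1 = p := by
    rw [charDegree_restrict]
    exact hdeg
  have hψirr : IsIrrCharacter H (fun h : H => χ h) := by
    by_contra hred
    exact hP'nn (sylow_normal_of_reducible (hS p hp) hdivH hsqH _ hψc hψfaith hψdeg hred P' htop')
  -- the CORE
  obtain ⟨hcardH, hperf⟩ := hcore p hp H hdivH hsqH P' htop' hP'nn ⟨_, hψirr⟩ hψfaith hψdeg
  have hcardG : Nat.card (Sylow p G) = p + 1 := by
    rw [card_sylow_normalClosure P]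
    exact hcardH
  -- `χ` is irreducible; the Part E bound in `G`
  have hχirr : IsIrrCharacter G χ := Cfsg.Agent.CharLib.Ito.isIrrCharacter_of_restrict H hχ hψirr
  have hf : (Cz (P : Subgroup G)).relIndex (Nz (P : Subgroup G)) ≤ charDegree χ :=
    hE p hp G hdiv hsq P hPnn ⟨χ, hχirr⟩ hfaith hdeg
  -- the kernel of the action on the Sylow subgroups
  have hCH : Subgroup.centralizer (H : Set G) ≤ Subgroup.center G :=
    Cfsg.Agent.Lib.Helper14.BRR4d.centralizer_le_center H χ hχirr hψirr hfaith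
  have hker : ∀ g : G, (∀ Q : Sylow p G, g • Q = Q) ↔ g ∈ Subgroup.center G := by
    intro g
    constructor
    · intro hg
      exact hCH (Cfsg.Agent.Lib.Helper14.BRR4c.mem_centralizer_normalClosure P hPcard hPnn g hg)
    · intro hg Q
      rw [Sylow.smul_eq_iff_mem_normalizer]
      exact Subgroup.center_le_normalizer _ hg
  have hreg : ∀ y ∈ Cz (P : Subgroup G), ¬ p ∣ orderOf y → y ∈ Subgroup.center G := by
    intro y hy hyreg
    exact (hker y).mp (smul_eq_of_mem_Cz P hPcard hcardG y hy hyreg)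
  have hCcard := card_Cz_eq (P : Subgroup G) hPcard P.not_dvd_index hPnn hreg
  set d := (Cz (P : Subgroup G)).relIndex (Nz (P : Subgroup G)) with hd
  have hCN : Cz (P : Subgroup G) ≤ Nz (P : Subgroup G) := Subgroup.centralizer_le_normalizer _
  have hN : Nat.card (Nz (P : Subgroup G)) = p * d * Nat.card (Subgroup.center G) := by
    have h1 : d * Nat.card (Cz (P : Subgroup G)) = Nat.card (Nz (P : Subgroup G)) := by
      rw [hd, Subgroup.relIndex, ← Subgroup.card_mul_index ((Cz (P : Subgroup G)).subgroupOf (Nz (P : Subgroup G))),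
        mul_comm, Nat.card_congr (Subgroup.subgroupOfEquivOfLe hCN).toEquiv]
    rw [← h1, hCcard]
    ring
  have hdp : d < p := by omega
  rcases recognize P hcardG hker hN hdp with h1 | ⟨-, h2⟩ | ⟨q, hq, hpq, -, e, he⟩
  · exfalso
    have := hp.two_le
    omega
  · exact h2
  · exact (false_of_semiaffine hq hpq P hPcard hPnn hperf e he).elim

end Cfsg.Agent.Lib.Helper13.BRPMain
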