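import Mathlib
import Cfsg.Agent.Lib.Helper4.A10a

/-!
# Verified lower bounds for the order of a matrix group over `ZMod p` (helper13)

Matrices and vectors are coded by natural numbers (base `p` digits); a stabiliser chain with orbit
trees gives a lower bound for the order of the group generated by coded matrices.
-/

set_option autoImplicit false

namespace Cfsg.Agent.Lib.Helper13.BS

open Cfsg.Agent.Lib.Helper4.A10 Matrix

/-! ### digits -/

/-- the number with digits `f 0, …, f (N-1)` in base `p` -/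
def enc (p : ℕ) (f : ℕ → ℕ) : ℕ → ℕ
  | 0 => 0
  | k + 1 => enc p f k + f k * p ^ k

theorem enc_lt (p : ℕ) (f : ℕ → ℕ) (hf : ∀ k, f k < p) : ∀ N, enc p f N < p ^ N
  | 0 => by simp [enc]
  | N + 1 => by
    have ih := enc_lt p f hf N
    have h1 : f N + 1 ≤ p := hf N
    have h2 : (f N + 1) * p ^ N ≤ p * p ^ N := Nat.mul_le_mul_right _ h1
    rw [enc, pow_succ']
    calc enc p f N + f N * p ^ N < p ^ N + f N * p ^ N := by omega
      _ = (f N + 1) * p ^ N := by ring
      _ ≤ p * p ^ N := h2

theorem enc_digit (p : ℕ) (f : ℕ → ℕ) (hf : ∀ k, f k < p) :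
    ∀ N k, k < N → enc p f N / p ^ k % p = f k
  | 0, k, hk => absurd hk (Nat.not_lt_zero k)
  | N + 1, k, hk => by
    have hp : 0 < p := lt_of_le_of_lt (Nat.zero_le _) (hf 0)
    rw [enc]
    rcases Nat.lt_succ_iff_lt_or_eq.mp hk with h | h
    · have ih := enc_digit p f hf N k h
      have h1 : p ^ N = p ^ k * (p ^ (N - k - 1) * p) := by
        rw [← pow_succ, ← pow_add]
        congr 1
        omega
      have h2 : f N * p ^ N = p ^ k * (f N * p ^ (N - k - 1) * p) := by
        rw [h1]; ring
      rw [h2, Nat.add_mul_div_left _ _ (pow_pos hp k), Nat.add_mul_mod_self_right, ih]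
    · subst h
      rw [Nat.add_mul_div_right _ _ (pow_pos hp k), Nat.div_eq_of_lt (enc_lt p f hf k), zero_add,
        Nat.mod_eq_of_lt (hf k)]

theorem digits_inj (p : ℕ) (hp : 0 < p) : ∀ (n c c' : ℕ), c < p ^ n → c' < p ^ n →
    (∀ i < n, c / p ^ i % p = c' / p ^ i % p) → c = c'
  | 0, c, c', hc, hc', _ => by
    simp only [pow_zero, Nat.lt_one_iff] at hc hc'
    rw [hc, hc']
  | n + 1, c, c', hc, hc', h => by
    have h0 := h 0 (Nat.succ_pos n)
    simp only [pow_zero, Nat.div_one] at h0
    have hd : c / p = c' / p := by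
      apply digits_inj p hp n
      · rw [Nat.div_lt_iff_lt_mul hp, ← pow_succ]; exact hc
      · rw [Nat.div_lt_iff_lt_mul hp, ← pow_succ]; exact hc'
      · intro i hi
        have := h (i + 1) (by omega)
        rwa [pow_succ', ← Nat.div_div_eq_div_mul, ← Nat.div_div_eq_div_mul] at this
    rw [← Nat.div_add_mod c p, ← Nat.div_add_mod c' p, hd, h0]

/-! ### products of coded matrices -/

/-- the code of the product -/
def mulc (p n a b : ℕ) : ℕ :=
  enc p (fun t => sumTo (fun j => ent p n a (t / n) j * ent p n b j (t % n)) n % p) (n * n)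

theorem ent_mulc {p n a b i k : ℕ} (hp : 0 < p) (hi : i < n) (hk : k < n) :
    ent p n (mulc p n a b) i k = sumTo (fun j => ent p n a i j * ent p n b j k) n % p := by
  have hn : 0 < n := lt_of_le_of_lt (Nat.zero_le _) hi
  have hlt : n * i + k < n * n := by
    calc n * i + k < n * i + n := by omega
      _ = n * (i + 1) := by ring
      _ ≤ n * n := Nat.mul_le_mul_left _ hi
  have h3 : ent p n (mulc p n a b) i k = mulc p n a b / p ^ (n * i + k) % p := rfl
  rw [h3, mulc, enc_digit p _ (fun t => Nat.mod_lt _ hp) _ _ hlt]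
  have h1 : (n * i + k) / n = i := by
    rw [Nat.mul_add_div hn, Nat.div_eq_of_lt hk, add_zero]
  have h2 : (n * i + k) % n = k := by
    rw [Nat.mul_add_mod, Nat.mod_eq_of_lt hk]
  simp only [h1, h2]

theorem dec_mulc {p n : ℕ} (hp : 0 < p) (a b : ℕ) :
    dec p n a * dec p n b = dec p n (mulc p n a b) := by
  apply dec_mul
  unfold chk
  rw [allTo_iff]
  intro i hi
  rw [allTo_iff]
  intro k hk
  rw [beq_iff_eq, ent_mulc hp hi hk]

/-! ### coded vectors -/

/-- digit `i` of `c` -/
def vent (p c i : ℕ) : ℕ := c / p ^ i % p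

/-- decode a vector -/
def decv (p n c : ℕ) : Fin n → ZMod p := fun i => ((vent p c i : ℕ) : ZMod p)

/-- check `a *ᵥ v = w` on codes -/
def chkv (p n a v w : ℕ) : Bool :=
  allTo (fun i => sumTo (fun j => ent p n a i j * vent p v j) n % p == vent p w i) n

theorem dec_mulVec {p n a v w : ℕ} (h : chkv p n a v w = true) :
    dec p n a *ᵥ decv p n v = decv p n w := by
  funext i
  have h1 := (allTo_iff _ _).mp h i i.2
  rw [beq_iff_eq, sumTo_eq] at h1
  show ∑ j, dec p n a i j * decv p n v j = ((vent p w i : ℕ) : ZMod p)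
  rw [← h1, ZMod.natCast_mod, Nat.cast_sum,
    ← Fin.sum_univ_eq_sum_range (fun j => ((ent p n a i j * vent p v j : ℕ) : ZMod p)) n]
  apply Finset.sum_congr rfl
  intro j _
  rw [dec_apply, Nat.cast_mul]
  rfl

theorem decv_inj {p n c c' : ℕ} (hp : 0 < p) (hc : c < p ^ n) (hc' : c' < p ^ n)
    (h : decv p n c = decv p n c') : c = c' := by
  apply digits_inj p hp n c c' hc hc'
  intro i hi
  have h1 := congrFun h ⟨i, hi⟩
  unfold decv vent at h1
  rw [ZMod.natCast_eq_natCast_iff', Nat.mod_mod, Nat.mod_mod] at h1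
  exact h1

/-! ### other index types -/

section lift

variable {ι : Type*} [Fintype ι] [DecidableEq ι] {p n : ℕ} (e : ι ≃ Fin n)

/-- decode a matrix over the index type `ι` -/
def decM (c : ℕ) : Matrix ι ι (ZMod p) := (dec p n c).submatrix e e

/-- decode a vector over the index type `ι` -/
def decV (c : ℕ) : ι → ZMod p := decv p n c ∘ e

omit [DecidableEq ι] in
theorem decM_mul (hp : 0 < p) (a b : ℕ) :
    decM e a * decM e b = (decM e (mulc p n a b) : Matrix ι ι (ZMod p)) := by
  unfold decM
  rw [Matrix.submatrix_mul_equiv, dec_mulc hp]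

omit [DecidableEq ι] in
theorem decM_mulVec {a v w : ℕ} (h : chkv p n a v w = true) :
    (decM e a : Matrix ι ι (ZMod p)) *ᵥ decV e v = decV e w := by
  unfold decM decV
  rw [Matrix.submatrix_mulVec_equiv]
  have : (decv p n v ∘ ⇑e) ∘ ⇑e.symm = decv p n v := by
    funext i; simp
  rw [this, dec_mulVec h]

omit [Fintype ι] [DecidableEq ι] in
theorem decV_inj {c c' : ℕ} (hp : 0 < p) (hc : c < p ^ n) (hc' : c' < p ^ n)
    (h : (decV e c : ι → ZMod p) = decV e c') : c = c' := by
  apply decv_inj hp hc hc'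
  funext i
  have := congrFun h (e.symm i)
  simpa [decV] using this

end lift

end Cfsg.Agent.Lib.Helper13.BS
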