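import Mathlib
import Cfsg.Agent.Lib.Helper13.BSGSA

/-!
# Stabiliser chains for groups of coded matrices (helper13)
-/

set_option autoImplicit false

namespace Cfsg.Agent.Lib.Helper13.BS

open Cfsg.Agent.Lib.Helper4.A10 Matrix

section chain

variable {ι : Type*} [Fintype ι] [DecidableEq ι] {p n : ℕ} (e : ι ≃ Fin n)

/-- the matrices fixing a vector -/
def fixer (β : ι → ZMod p) : Subgroup (Matrix ι ι (ZMod p))ˣ where
  carrier := {g | (g : Matrix ι ι (ZMod p)) *ᵥ β = β}
  mul_mem' := by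
    intro a b ha hb
    simp only [Set.mem_ofPred_eq, Units.val_mul] at *
    rw [← Matrix.mulVec_mulVec, hb, ha]
  one_mem' := by simp
  inv_mem' := by
    intro a ha
    simp only [Set.mem_ofPred_eq] at *
    conv_lhs => rw [← ha]
    rw [Matrix.mulVec_mulVec, ← Units.val_mul, inv_mul_cancel, Units.val_one, Matrix.one_mulVec]

/-- the code `c` is the matrix of an element of `A` -/
def Good (A : Subgroup (Matrix ι ι (ZMod p))ˣ) (c : ℕ) : Prop :=
  ∃ s ∈ A, (s : Matrix ι ι (ZMod p)) = decM e c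

/-- the group generated by the invertible matrices with codes in `L` -/
def grp (L : List ℕ) : Subgroup (Matrix ι ι (ZMod p))ˣ :=
  Subgroup.closure {s | ∃ c ∈ L, (s : Matrix ι ι (ZMod p)) = decM e c}

variable {e}

theorem Good.mul {A : Subgroup (Matrix ι ι (ZMod p))ˣ} (hp : 0 < p) {a b : ℕ}
    (ha : Good e A a) (hb : Good e A b) : Good e A (mulc p n a b) := by
  obtain ⟨s, hs, hs'⟩ := ha
  obtain ⟨t, ht, ht'⟩ := hb
  exact ⟨s * t, A.mul_mem hs ht, by rw [Units.val_mul, hs', ht', decM_mul e hp]⟩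

/-- evaluate a word (a list of positions in `L`) -/
def evalWord (p n o : ℕ) (L : List ℕ) (w : List ℕ) : ℕ :=
  w.foldl (fun acc k => mulc p n acc (L.getD k o)) o

theorem good_foldl {A : Subgroup (Matrix ι ι (ZMod p))ˣ} (hp : 0 < p) {o : ℕ} {L : List ℕ}
    (ho : Good e A o) (hL : ∀ c ∈ L, Good e A c) :
    ∀ (w : List ℕ) (acc : ℕ), Good e A acc →
      Good e A (w.foldl (fun acc k => mulc p n acc (L.getD k o)) acc)
  | [], acc, h => h
  | k :: w, acc, h => by
    rw [List.foldl_cons]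
    apply good_foldl hp ho hL w
    apply Good.mul hp h
    by_cases hk : k < L.length
    · rw [List.getD_eq_getElem _ _ hk]
      exact hL _ (List.getElem_mem hk)
    · rw [List.getD_eq_default _ _ (not_lt.mp hk)]
      exact ho

theorem good_evalWord {A : Subgroup (Matrix ι ι (ZMod p))ˣ} (hp : 0 < p) {o : ℕ} {L : List ℕ}
    (ho : Good e A o) (hL : ∀ c ∈ L, Good e A c) (w : List ℕ) :
    Good e A (evalWord p n o L w) :=
  good_foldl hp ho hL w o ho

theorem good_one {A : Subgroup (Matrix ι ι (ZMod p))ˣ} {o : ℕ}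
    (ho : (decM e o : Matrix ι ι (ZMod p)) = 1) : Good e A o :=
  ⟨1, A.one_mem, by rw [Units.val_one, ho]⟩

theorem grp_le {A : Subgroup (Matrix ι ι (ZMod p))ˣ} {L : List ℕ} (hL : ∀ c ∈ L, Good e A c) :
    grp e L ≤ A := by
  unfold grp
  rw [Subgroup.closure_le]
  rintro s ⟨c, hc, hs⟩
  obtain ⟨t, ht, ht'⟩ := hL c hc
  have : s = t := Units.ext (by rw [hs, ht'])
  rw [this]
  exact ht

theorem good_grp_of_good {A : Subgroup (Matrix ι ι (ZMod p))ˣ} {L : List ℕ}
    (hL : ∀ c ∈ L, Good e A c) :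
    ∀ c ∈ L, Good e (grp e L : Subgroup (Matrix ι ι (ZMod p))ˣ) c := by
  intro c hc
  obtain ⟨t, -, ht'⟩ := hL c hc
  exact ⟨t, Subgroup.subset_closure ⟨c, hc, ht'⟩, ht'⟩

theorem grp_le_fixer {L : List ℕ} {β : ℕ}
    (hfix : L.all (fun c => chkv p n c β β) = true) :
    (grp e L : Subgroup (Matrix ι ι (ZMod p))ˣ) ≤ fixer (decV e β) := by
  unfold grp
  rw [Subgroup.closure_le]
  rintro s ⟨c, hc, hs⟩
  rw [List.all_eq_true] at hfix
  show (s : Matrix ι ι (ZMod p)) *ᵥ decV e β = decV e β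
  rw [hs]
  exact decM_mulVec e (hfix c hc)

/-- the counting step -/
theorem level {A B : Subgroup (Matrix ι ι (ZMod p))ˣ} [Finite A] (hBA : B ≤ A) (β : ι → ZMod p)
    (hB : B ≤ fixer β) (pts : Finset (ι → ZMod p))
    (hpts : ∀ q ∈ pts, ∃ a ∈ A, (a : Matrix ι ι (ZMod p)) *ᵥ β = q) :
    pts.card * Nat.card B ≤ Nat.card A := by
  classical
  choose! a ha hq using hpts
  let F : pts × B → A := fun x => ⟨a x.1.1 * x.2.1, A.mul_mem (ha _ x.1.2) (hBA x.2.2)⟩
  have hF : Function.Injective F := by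
    rintro ⟨⟨q, hq1⟩, ⟨b, hb⟩⟩ ⟨⟨q', hq1'⟩, ⟨b', hb'⟩⟩ h
    have h1 : a q * b = a q' * b' := congrArg Subtype.val h
    have hfb : (b : Matrix ι ι (ZMod p)) *ᵥ β = β := hB hb
    have hfb' : (b' : Matrix ι ι (ZMod p)) *ᵥ β = β := hB hb'
    have h2 : q = q' := by
      have h3 := congrArg (fun g : (Matrix ι ι (ZMod p))ˣ => (g : Matrix ι ι (ZMod p)) *ᵥ β) h1
      simp only [Units.val_mul] at h3
      rw [← Matrix.mulVec_mulVec, ← Matrix.mulVec_mulVec, hfb, hfb', hq q hq1, hq q' hq1'] at h3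
      exact h3
    subst h2
    have h4 : b = b' := mul_left_cancel h1
    subst h4
    rfl
  have h5 := Nat.card_le_card_of_injective F hF
  rw [Nat.card_prod, Nat.card_eq_fintype_card, Fintype.card_coe] at h5
  exact h5

/-! ### orbit trees -/

/-- check an orbit tree: entries `(point, parent, generator)` -/
def chkTree (p n : ℕ) (gens : List ℕ) : List ℕ → List (ℕ × ℕ × ℕ) → Bool
  | _, [] => true
  | seen, (pt, par, g) :: rest =>
      (Nat.blt pt (p ^ n) && !(seen.elem pt) && seen.elem par && gens.elem g && chkv p n g par pt)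
        && chkTree p n gens (pt :: seen) rest

/-- the points of a tree -/
def treePts : List (ℕ × ℕ × ℕ) → List ℕ → List ℕ
  | [], seen => seen
  | (pt, _, _) :: rest, seen => treePts rest (pt :: seen)

theorem length_treePts : ∀ (cert : List (ℕ × ℕ × ℕ)) (seen : List ℕ),
    (treePts cert seen).length = cert.length + seen.length
  | [], seen => by simp [treePts]
  | (pt, _, _) :: rest, seen => by
    rw [treePts, length_treePts rest, List.length_cons, List.length_cons]
    omega

theorem chkTree_sound {A : Subgroup (Matrix ι ι (ZMod p))ˣ} {β : ι → ZMod p} {gens : List ℕ}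
    (hgens : ∀ g ∈ gens, Good e A g) :
    ∀ (cert : List (ℕ × ℕ × ℕ)) (seen : List ℕ), chkTree p n gens seen cert = true →
      (seen.Nodup ∧ ∀ c ∈ seen, c < p ^ n ∧ ∃ a ∈ A, (a : Matrix ι ι (ZMod p)) *ᵥ β = decV e c) →
      ((treePts cert seen).Nodup ∧ ∀ c ∈ treePts cert seen, c < p ^ n ∧
        ∃ a ∈ A, (a : Matrix ι ι (ZMod p)) *ᵥ β = decV e c)
  | [], seen, _, h => h
  | (pt, par, g) :: rest, seen, hchk, ⟨hnd, hall⟩ => by
    rw [chkTree, Bool.and_eq_true, Bool.and_eq_true, Bool.and_eq_true, Bool.and_eq_true,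
      Bool.and_eq_true] at hchk
    obtain ⟨⟨⟨⟨⟨h1, h2⟩, h3⟩, h4⟩, h5⟩, h6⟩ := hchk
    rw [treePts]
    apply chkTree_sound hgens rest (pt :: seen) h6
    have hlt : pt < p ^ n := by
      rw [Nat.blt_eq] at h1; exact h1
    have hnot : pt ∉ seen := by
      intro hmem
      rw [Bool.not_eq_true'] at h2
      rw [List.elem_eq_mem, decide_eq_false_iff_not] at h2
      exact h2 hmem
    have hpar : par ∈ seen := by
      rw [List.elem_eq_mem, decide_eq_true_eq] at h3; exact h3
    have hg : g ∈ gens := by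
      rw [List.elem_eq_mem, decide_eq_true_eq] at h4; exact h4
    refine ⟨List.nodup_cons.mpr ⟨hnot, hnd⟩, ?_⟩
    intro c hc
    rcases List.mem_cons.mp hc with rfl | hc
    · refine ⟨hlt, ?_⟩
      obtain ⟨-, a, ha, hav⟩ := hall par hpar
      obtain ⟨s, hs, hs'⟩ := hgens g hg
      refine ⟨s * a, A.mul_mem hs ha, ?_⟩
      rw [Units.val_mul, ← Matrix.mulVec_mulVec, hav, hs']
      exact decM_mulVec e h5
    · exact hall c hc

/-- one step of the chain -/
theorem level_step [NeZero p] {o : ℕ} (ho : (decM e o : Matrix ι ι (ZMod p)) = 1)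
    {Lprev Lnew : List ℕ} {words : List (List ℕ)} {β : ℕ} {cert : List (ℕ × ℕ × ℕ)}
    (hprev : ∀ c ∈ Lprev, Good e (grp e Lprev : Subgroup (Matrix ι ι (ZMod p))ˣ) c)
    (hwords : words.map (evalWord p n o Lprev) = Lnew)
    (hfix : Lnew.all (fun c => chkv p n c β β) = true)
    (hβ : β < p ^ n)
    (htree : chkTree p n Lprev [β] cert = true) :
    (cert.length + 1) * Nat.card (grp e Lnew : Subgroup (Matrix ι ι (ZMod p))ˣ) ≤
        Nat.card (grp e Lprev : Subgroup (Matrix ι ι (ZMod p))ˣ) ∧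
      ∀ c ∈ Lnew, Good e (grp e Lnew : Subgroup (Matrix ι ι (ZMod p))ˣ) c := by
  classical
  have hp : 0 < p := Nat.pos_of_ne_zero (NeZero.ne p)
  have hgood : ∀ c ∈ Lnew, Good e (grp e Lprev : Subgroup (Matrix ι ι (ZMod p))ˣ) c := by
    intro c hc
    rw [← hwords, List.mem_map] at hc
    obtain ⟨w, -, rfl⟩ := hc
    exact good_evalWord hp (good_one ho) hprev w
  refine ⟨?_, good_grp_of_good hgood⟩
  have hBA : (grp e Lnew : Subgroup (Matrix ι ι (ZMod p))ˣ) ≤ grp e Lprev := grp_le hgood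
  have hB : (grp e Lnew : Subgroup (Matrix ι ι (ZMod p))ˣ) ≤ fixer (decV e β) :=
    grp_le_fixer hfix
  have h0 : ([β] : List ℕ).Nodup ∧ ∀ c ∈ [β], c < p ^ n ∧
      ∃ a ∈ (grp e Lprev : Subgroup (Matrix ι ι (ZMod p))ˣ),
        (a : Matrix ι ι (ZMod p)) *ᵥ decV e β = decV e c := by
    refine ⟨List.nodup_singleton β, ?_⟩
    intro c hc
    rw [List.mem_singleton] at hc
    subst hc
    exact ⟨hβ, 1, Subgroup.one_mem _, by rw [Units.val_one, Matrix.one_mulVec]⟩
  obtain ⟨hnd, hall⟩ := chkTree_sound hprev cert [β] htree h0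
  have hlen := length_treePts cert [β]
  have hinj : ∀ c ∈ treePts cert [β], ∀ c' ∈ treePts cert [β],
      (decV e c : ι → ZMod p) = decV e c' → c = c' := by
    intro c hc c' hc' h
    exact decV_inj e hp (hall c hc).1 (hall c' hc').1 h
  have hnd' : ((treePts cert [β]).map (fun c => (decV e c : ι → ZMod p))).Nodup :=
    List.Nodup.map_on hinj hnd
  have hcard : (((treePts cert [β]).map (fun c => (decV e c : ι → ZMod p))).toFinset).card =
      cert.length + 1 := by
    rw [List.toFinset_card_of_nodup hnd', List.length_map, hlen, List.length_singleton]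
  have := level hBA (decV e β) hB
    (((treePts cert [β]).map (fun c => (decV e c : ι → ZMod p))).toFinset) (by
      intro q hq
      rw [List.mem_toFinset, List.mem_map] at hq
      obtain ⟨c, hc, rfl⟩ := hq
      exact (hall c hc).2)
  rw [hcard] at this
  exact this

end chain

end Cfsg.Agent.Lib.Helper13.BS
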