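import Mathlib
import Cfsg.Agent.Lib.Helper13.BSGSB

/-!
# Coded matrices: transposes, powers, words, Gram matrices (helper13)
-/

set_option autoImplicit false

namespace Cfsg.Agent.Lib.Helper13.BS

open Cfsg.Agent.Lib.Helper4.A10 Matrix

/-- check `aᵀ = b` on codes -/
def chkT (p n a b : ℕ) : Bool :=
  allTo (fun i => allTo (fun k => ent p n a i k == ent p n b k i) n) n

theorem dec_transpose {p n a b : ℕ} (h : chkT p n a b = true) : (dec p n a)ᵀ = dec p n b := by
  ext i k
  have h1 := (allTo_iff _ _).mp ((allTo_iff _ _).mp h k k.2) i i.2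
  rw [beq_iff_eq] at h1
  rw [Matrix.transpose_apply, dec_apply, dec_apply, h1]

/-- the code of a power -/
def powc (p n o c : ℕ) : ℕ → ℕ
  | 0 => o
  | k + 1 => mulc p n (powc p n o c k) c

section lift

variable {ι : Type*} [Fintype ι] [DecidableEq ι] {p n : ℕ} (e : ι ≃ Fin n)

omit [Fintype ι] [DecidableEq ι] in
theorem decM_transpose {a b : ℕ} (h : chkT p n a b = true) :
    (decM e a : Matrix ι ι (ZMod p))ᵀ = decM e b := by
  unfold decM
  rw [Matrix.transpose_submatrix, dec_transpose h]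

theorem decM_powc (hp : 0 < p) {o : ℕ} (ho : (decM e o : Matrix ι ι (ZMod p)) = 1) (c : ℕ) :
    ∀ k, (decM e (powc p n o c k) : Matrix ι ι (ZMod p)) = decM e c ^ k
  | 0 => by rw [powc, ho, pow_zero]
  | k + 1 => by rw [powc, ← decM_mul e hp, decM_powc hp ho c k, pow_succ]

theorem decM_foldl (hp : 0 < p) {o : ℕ} (L : List ℕ) :
    ∀ (w : List ℕ) (acc : ℕ),
      (decM e (w.foldl (fun acc k => mulc p n acc (L.getD k o)) acc) : Matrix ι ι (ZMod p)) =
        decM e acc * (w.map (fun k => (decM e (L.getD k o) : Matrix ι ι (ZMod p)))).prod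
  | [], acc => by simp
  | k :: w, acc => by
    rw [List.foldl_cons, decM_foldl hp L w, ← decM_mul e hp, List.map_cons, List.prod_cons,
      mul_assoc]

theorem decM_evalWord (hp : 0 < p) {o : ℕ} (ho : (decM e o : Matrix ι ι (ZMod p)) = 1)
    (L w : List ℕ) :
    (decM e (evalWord p n o L w) : Matrix ι ι (ZMod p)) =
      (w.map (fun k => (decM e (L.getD k o) : Matrix ι ι (ZMod p)))).prod := by
  unfold evalWord
  rw [decM_foldl e hp L w o, ho, one_mul]

end lift

/-- a matrix preserving a Gram matrix preserves the form -/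
theorem dot_of_gram {ι R : Type*} [Fintype ι] [CommRing R] (G M : Matrix ι ι R)
    (h : Mᵀ * (G * M) = G) (u : ι → R) :
    (M *ᵥ u) ⬝ᵥ (G *ᵥ (M *ᵥ u)) = u ⬝ᵥ (G *ᵥ u) := by
  rw [← Matrix.vecMul_transpose M u, ← Matrix.dotProduct_mulVec, Matrix.vecMul_transpose,
    Matrix.mulVec_mulVec, Matrix.mulVec_mulVec, Matrix.mul_assoc, h]

end Cfsg.Agent.Lib.Helper13.BS
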