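/-
helper13 (S2441 leaf L3): if the only `p`-regular element of `C_G(P)` is `1`, then the set of
conjugacy classes of `N_G(P)` consisting of `p`-regular elements of `C_G(P)` (the right-hand side of
S0953) has exactly one element.
-/
import Mathlib

set_option autoImplicit false

namespace Cfsg.Agent.Lib.Helper13.BlkClassOne

theorem card_pregular_classes_eq_one {G : Type*} [Group G] [Finite G] (p : ℕ) [Fact p.Prime]
    (P : Subgroup G)
    (h : ∀ x ∈ Subgroup.centralizer (P : Set G), ¬ p ∣ orderOf x → x = 1) :
    Nat.card {C : ConjClasses (Subgroup.normalizer (P : Set G)) //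
      ∀ n : Subgroup.normalizer (P : Set G), ConjClasses.mk n = C →
        ¬ p ∣ orderOf n ∧ (n : G) ∈ Subgroup.centralizer (P : Set G)} = 1 := by
  have hp : p.Prime := Fact.out
  rw [Nat.card_eq_one_iff_unique]
  refine ⟨⟨?_⟩, ⟨⟨ConjClasses.mk 1, ?_⟩⟩⟩
  · rintro ⟨C, hC⟩ ⟨C', hC'⟩
    apply Subtype.ext
    show C = C'
    have key : ∀ (E : ConjClasses (Subgroup.normalizer (P : Set G))),
        (∀ n : Subgroup.normalizer (P : Set G), ConjClasses.mk n = E →
          ¬ p ∣ orderOf n ∧ (n : G) ∈ Subgroup.centralizer (P : Set G)) →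
        E = ConjClasses.mk 1 := by
      intro E hE
      obtain ⟨n, rfl⟩ := ConjClasses.mk_surjective E
      obtain ⟨h1, h2⟩ := hE n rfl
      have h3 : (n : G) = 1 := by
        apply h _ h2
        rwa [Subgroup.orderOf_coe]
      have h4 : n = 1 := Subtype.ext h3
      rw [h4]
    rw [key C hC, key C' hC']
  · intro n hn
    have h1 : n = 1 := by
      have := ConjClasses.mk_eq_mk_iff_isConj.mp hn
      exact isConj_one_left.mp this
    subst h1
    refine ⟨?_, ?_⟩
    · rw [orderOf_one]
      exact fun hd => hp.one_lt.ne' (Nat.dvd_one.mp hd)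
    · exact (Subgroup.centralizer (P : Set G)).one_mem

end Cfsg.Agent.Lib.Helper13.BlkClassOne
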