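/-
helper13 (S2441 glue): a finite group with (1) exactly one `p`-block of defect zero, (2) every block of
defect zero or full defect, (3) `p ∣ |G|`, and (4) no nontrivial `p`-regular element centralizing a
Sylow `p`-subgroup, has exactly two `p`-blocks.
= helper1 `card_blocks_split` + S0953 + `BlkClassOne.card_pregular_classes_eq_one`.
-/
import Mathlib
import Cfsg.Agent.S0953
import Cfsg.Agent.Lib.Helper1.SLBlkCount
import Cfsg.Agent.Lib.Helper13.BlkClassOne

set_option autoImplicit false

namespace Cfsg.Agent.Lib.Helper13.BlkTwo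

open Cfsg

theorem card_blocks_eq_two {G : Type*} [Group G] [Finite G] (p : ℕ) [Fact p.Prime]
    (M : Ideal Cfsg.AlgInt) (hM : Cfsg.IsPModular p M) (P : Sylow p G)
    (hpos : 0 < (Nat.card G).factorization p)
    (h1 : Nat.card {B : Set (Cfsg.IrrCharacter G) // Cfsg.IsPBlock M B ∧
      Cfsg.blockDefect p B = 0} = 1)
    (h2 : ∀ B : Set (Cfsg.IrrCharacter G), Cfsg.IsPBlock M B →
      Cfsg.blockDefect p B = 0 ∨ Cfsg.blockDefect p B = (Nat.card G).factorization p)
    (h3 : ∀ x ∈ Subgroup.centralizer ((P : Subgroup G) : Set G), ¬ p ∣ orderOf x → x = 1) :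
    Nat.card {B : Set (Cfsg.IrrCharacter G) // Cfsg.IsPBlock M B} = 2 := by
  rw [Cfsg.Agent.Lib.Helper1.SLBlkCount.card_blocks_split p M hM P hpos h2, h1,
    Cfsg.Agent.S0953.result p M hM P,
    Cfsg.Agent.Lib.Helper13.BlkClassOne.card_pregular_classes_eq_one p (P : Subgroup G) h3]

end Cfsg.Agent.Lib.Helper13.BlkTwo
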