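import Mathlib
import Cfsg.Prelude.Def_Classical
import Cfsg.Prelude.Def_ClassicalGeometry
import Cfsg.Prelude.Def_GeometricClasses
import Cfsg.Agent.Lib.Helper5.SUMax
import Cfsg.Agent.Lib.Helper5.UForm
import Cfsg.Agent.Lib.Helper22.C3LDefs
import Cfsg.Agent.Lib.Helper22.C3LTool
import Cfsg.Agent.Lib.Helper16.C3uDefs
import Cfsg.Agent.Lib.Helper13.C3qDefs
import Cfsg.Agent.Lib.Helper12.C3uF
import Cfsg.Agent.Lib.Helper16.C3u2Fin
import Cfsg.Agent.Lib.Helper27.C3qKC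
import Cfsg.Agent.Lib.Helper9.C3qADJ

/-!
S5801 conjunct (7), rank-one unitary `C3` at degree `r = 3` (`GU_2(q^3).3 < SU_6(q)`), helper13: the leaf
**ADJ** at `r = 3`.  Port of helper9's `C3qLeaf.exists_sym2` (all of its toolkit `Ctx`, `Bm`, `Ym`, `polar`,
`N_eq` is generic in the degree); only the counting changes: `Θ b = h (B_b w₁) w₁` takes its values in
`T⁻ = {c | c ^ q = -c}` on the skew elements, so its kernel there has at least `q ^ (r - 1) > q` elements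
while the skew elements of an `F`-line are at most `q`.  The coefficient `c` is also shown to be in `T⁻`.
-/

set_option autoImplicit false
set_option linter.unusedSectionVars false
set_option linter.unusedVariables false

namespace Cfsg.Agent.Lib.Helper13.C3cADJ
open Cfsg Matrix Module Cfsg.Agent.Lib.Helper5.SpMax Cfsg.Agent.Lib.Helper5.SUMax
  Cfsg.Agent.Lib.Helper22.C3L Cfsg.Agent.Lib.Helper16.C3u Cfsg.Agent.Lib.Helper13.C3q
  Cfsg.Agent.Lib.Helper9.C3qLeaf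

universe u
variable {F : Type u} [Field F] [Fintype F] {n q : ℕ} {E : Type u} [Field E] [Algebra F E]

local notation "𝕍" => (Fin n → F)
local notation "𝕄" => Matrix (Fin n) (Fin n) F
local notation "ℍ" => (Cfsg.GU n F q ⊓ Cfsg.Geo.specialLinear (Fin n) F)

/-- two `F`-independent skew elements in the kernel of an additive map which sends the skew elements into
`T⁻` (degree at least `3`) -/
lemma exists_indep_ker3 (S : KU n q F E) (hF : Fintype.card F = q ^ 2) [FiniteDimensional F E]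
    (hr : 3 ≤ finrank F E) (Θ : E →+ F) (hΘ : ∀ b : E, S.st b = -b → Θ b ^ q = -Θ b) :
    ∃ b b' : E, S.st b = -b ∧ S.st b' = -b' ∧ Θ b = 0 ∧ Θ b' = 0 ∧
      ∀ x y : F, x • b + y • b' = 0 → x = 0 ∧ y = 0 := by
  classical
  have : Finite E := Module.finite_of_finite F
  have hq2 : 2 ≤ q := by
    by_contra hq
    have hq1 : q ≤ 1 := by omega
    have h1 : Fintype.card F ≤ 1 := by
      rw [hF]
      exact pow_le_one' hq1 2
    have h2 := Fintype.one_lt_card (α := F)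
    omega
  -- the restriction of `Θ` to the skew elements, with values in `T⁻`
  obtain ⟨Θs, hΘs⟩ : ∃ Θs : ↥(Sk S) →+ F, Θs = Θ.comp (Sk S).subtype := ⟨_, rfl⟩
  have hΘs_apply : ∀ k : ↥(Sk S), Θs k = Θ (k : E) := by
    intro k
    rw [hΘs]
    rfl
  have hcard : Nat.card ↥Θs.ker * Nat.card ↥Θs.range = Nat.card ↥(Sk S) := by
    rw [← AddSubgroup.index_ker]
    exact AddSubgroup.card_mul_index _
  have hSk : Nat.card ↥(Sk S) = q ^ finrank F E :=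
    Cfsg.Agent.Lib.Helper27.C3qLeaf.card_skew S hF
  have hrange : Nat.card ↥Θs.range ≤ q := by
    have hinj : Function.Injective (fun y : ↥Θs.range =>
        (⟨(y : F), by
          obtain ⟨k, hk⟩ := y.2
          rw [← hk, hΘs_apply]
          exact hΘ _ k.2⟩ : {c : F // c ^ q = -c})) := by
      intro y y' h
      have h0 := Subtype.ext_iff.mp h
      have h1 : (y : F) = (y' : F) := h0
      exact Subtype.ext h1
    exact (Nat.card_le_card_of_injective _ hinj).trans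
      (Cfsg.Agent.Lib.Helper27.C3qLeaf.card_tminus_le hF)
  have hK2 : q ^ 2 ≤ Nat.card ↥Θs.ker := by
    have h1 : q ^ 3 ≤ q ^ finrank F E := Nat.pow_le_pow_right (by omega) hr
    have h2 : q ^ 2 * q ≤ Nat.card ↥Θs.ker * q := by
      calc q ^ 2 * q = q ^ 3 := by ring
        _ ≤ q ^ finrank F E := h1
        _ = Nat.card ↥Θs.ker * Nat.card ↥Θs.range := by rw [hcard, hSk]
        _ ≤ Nat.card ↥Θs.ker * q := Nat.mul_le_mul_left _ hrange
    exact Nat.le_of_mul_le_mul_right h2 (by omega)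
  have hq12 : q < q ^ 2 := by nlinarith
  by_contra hcon
  push Not at hcon
  -- a non-zero element of the kernel
  have hnt : Nontrivial ↥Θs.ker := by
    rw [← Finite.one_lt_card_iff_nontrivial]
    omega
  obtain ⟨k₀, hk₀⟩ := exists_ne (0 : ↥Θs.ker)
  have hb₀ : ((k₀ : ↥(Sk S)) : E) ≠ 0 := by
    intro h
    apply hk₀
    apply Subtype.ext
    apply Subtype.ext
    exact h
  have hk₀sk : S.st ((k₀ : ↥(Sk S)) : E) = -((k₀ : ↥(Sk S)) : E) := (k₀ : ↥(Sk S)).2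
  have hk₀Θ : Θ ((k₀ : ↥(Sk S)) : E) = 0 := by
    rw [← hΘs_apply]
    exact k₀.2
  -- every element of the kernel is an `F₀`-multiple of it
  have hmult : ∀ k : ↥Θs.ker, ∃ c : F, c ^ q = c ∧
      ((k : ↥(Sk S)) : E) = c • ((k₀ : ↥(Sk S)) : E) := by
    intro k
    have hkΘ : Θ ((k : ↥(Sk S)) : E) = 0 := by
      rw [← hΘs_apply]
      exact k.2
    have hksk : S.st ((k : ↥(Sk S)) : E) = -((k : ↥(Sk S)) : E) := (k : ↥(Sk S)).2
    obtain ⟨x, y, hxy, hne⟩ := hcon _ _ hk₀sk hksk hk₀Θ hkΘ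
    have hy : y ≠ 0 := by
      intro hy
      rw [hy, zero_smul, add_zero] at hxy
      rcases smul_eq_zero.mp hxy with h | h
      · exact hne h hy
      · exact hb₀ h
    have h1 : y • ((k : ↥(Sk S)) : E) = -(x • ((k₀ : ↥(Sk S)) : E)) :=
      eq_neg_of_add_eq_zero_right hxy
    have h2 : ((k : ↥(Sk S)) : E) = (-(y⁻¹ * x)) • ((k₀ : ↥(Sk S)) : E) := by
      calc ((k : ↥(Sk S)) : E) = y⁻¹ • (y • ((k : ↥(Sk S)) : E)) := by
            rw [smul_smul, inv_mul_cancel₀ hy, one_smul]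
        _ = (-(y⁻¹ * x)) • ((k₀ : ↥(Sk S)) : E) := by
            rw [h1, smul_neg, smul_smul, neg_smul]
    refine ⟨-(y⁻¹ * x), ?_, h2⟩
    -- the multiplier is fixed by `c ↦ c ^ q`
    obtain ⟨c, hc⟩ : ∃ c : F, c = -(y⁻¹ * x) := ⟨_, rfl⟩
    rw [← hc] at h2 ⊢
    have h3 : S.st (c • ((k₀ : ↥(Sk S)) : E)) = -(c • ((k₀ : ↥(Sk S)) : E)) := by
      rw [← h2]
      exact hksk
    rw [Algebra.smul_def, map_mul, S.st_alg, hk₀sk, ← Algebra.smul_def, smul_neg,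
      ← Algebra.smul_def, neg_inj] at h3
    have h4 : (c ^ q - c) • ((k₀ : ↥(Sk S)) : E) = 0 := by
      rw [sub_smul, h3, sub_self]
    rcases smul_eq_zero.mp h4 with h | h
    · exact sub_eq_zero.mp h
    · exact absurd h hb₀
  choose f hfq hf using hmult
  have hinj : Function.Injective (fun k : ↥Θs.ker =>
      (⟨f k, (Cfsg.Agent.Lib.Helper27.C3u2Leaf.mem_fix0 hF _).mpr (hfq k)⟩ :
        Cfsg.Agent.Lib.Helper27.C3u2Leaf.fix0 hF)) := by
    intro k k' hkk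
    have hkk' : f k = f k' := congrArg Subtype.val hkk
    apply Subtype.ext
    apply Subtype.ext
    rw [hf k, hf k', hkk']
  have h1 := Nat.card_le_card_of_injective _ hinj
  rw [Cfsg.Agent.Lib.Helper27.C3qLeaf.card_fix0 hF] at h1
  omega

/-- **ADJ** at degree `3`: two adjacent lines give a rank-two element
`c (⟨·, π'⟩ π + ⟨·, π⟩ π')` (`c ≠ 0`, `c ^ q = -c`, `π, π'` independent over `F`) of the unipotent
radical of the stabiliser of the base line -/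
theorem exists_sym2_3 (S : KU n q F E) (hF : Fintype.card F = q ^ 2) [FiniteDimensional F E]
    (hr3 : finrank F E = 3) (hd : n = 6) (M : Subgroup (GL (Fin n) F)) (hMS : M ≤ ℍ)
    (hM : ∀ g ∈ ℍ, (∀ e : E, (g : 𝕄) * S.ρ e = S.ρ e * (g : 𝕄)) → g ∈ M)
    {v₀ : 𝕍} (hv₀ : v₀ ≠ 0) (hiso : S.fE v₀ v₀ = 0) {g : GL (Fin n) F} (hg : g ∈ M)
    (hadj : finrank F ↥(line S.ρ v₀ ⊓ img g (line S.ρ v₀)) = 2) :
    ∃ (c : F) (π π' : E), c ≠ 0 ∧ c ^ q = -c ∧
      (∀ x y : F, x • π + y • π' = 0 → x = 0 ∧ y = 0) ∧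
      c • sym2 S π π' ∈ XX S.ρ M (lam S v₀) v₀ (lam_self S hiso) := by
  have hn2 : n = 2 * finrank F E := by omega
  have hn0 : 0 < n := by omega
  have hL : finrank F ↥(line S.ρ v₀) = 3 := by rw [finrank_line hv₀, hr3]
  have hW : finrank F ↥(img g (line S.ρ v₀)) = 3 := by rw [finrank_img, hL]
  have hhyp := Cfsg.Agent.Lib.Helper16.C3u2.hyp_eq_line S hF hn2 hv₀ hiso
  -- `g` is an isometry
  have hgU : ∀ x y, hT S ((g : 𝕄) *ᵥ x) ((g : 𝕄) *ᵥ y) = hT S x y := by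
    intro x y
    rw [hT_eq, hT_eq]
    exact mem_GU.mp (hMS hg).1 x y
  -- `W` is totally isotropic
  have hWti : ∀ x ∈ img g (line S.ρ v₀), ∀ y ∈ img g (line S.ρ v₀), hT S x y = 0 := by
    intro x hx y hy
    obtain ⟨x', hx', rfl⟩ := mem_img.mp hx
    obtain ⟨y', hy', rfl⟩ := mem_img.mp hy
    rw [hgU]
    exact hT_line S hiso hx' hy'
  -- `w₂ ∈ W \ L₀`
  obtain ⟨w₂, hw₂, hw₂L⟩ : ∃ w₂ ∈ img g (line S.ρ v₀), w₂ ∉ line S.ρ v₀ := by
    by_contra hcon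
    push Not at hcon
    have hle : img g (line S.ρ v₀) ≤ line S.ρ v₀ := hcon
    rw [inf_eq_right.mpr hle, hW] at hadj
    omega
  have hφ : S.fE w₂ v₀ ≠ 0 := by
    intro h0
    apply hw₂L
    rw [← hhyp]
    exact S.mem_hyp.mpr h0
  have hφ' : S.st (S.fE w₂ v₀) ≠ 0 := by
    intro h
    exact hφ ((map_eq_zero_iff S.st S.st.injective).mp h)
  -- `w₁ ∈ L₀` with `hT w₁ w₂ = 1`
  obtain ⟨e, he⟩ := Cfsg.Agent.Lib.Helper12.C3uLeaf.tau_surj S hn0 1
  obtain ⟨w₁, hw₁def⟩ : ∃ w₁ : 𝕍, w₁ = act S.ρ (e * (S.st (S.fE w₂ v₀))⁻¹) v₀ := ⟨_, rfl⟩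
  have hw₁ : w₁ ∈ line S.ρ v₀ := by
    rw [hw₁def]
    exact act_mem_line _ _
  have h12 : hT S w₁ w₂ = 1 := by
    rw [hw₁def, hT_act_left, S.herm w₂ v₀, inv_mul_cancel_right₀ hφ', he]
  have h21 : hT S w₂ w₁ = 1 := by
    rw [hT_symm S w₁ w₂, h12, one_pow]
  have hw₁W : w₁ ∉ img g (line S.ρ v₀) := by
    intro h
    have h0 := hWti w₁ h w₂ hw₂
    rw [h12] at h0
    exact one_ne_zero h0
  have hψ : S.fE (((g⁻¹ : GL (Fin n) F) : 𝕄) *ᵥ w₁) v₀ ≠ 0 := by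
    intro h0
    apply hw₁W
    rw [mem_img_iff, ← hhyp]
    exact S.mem_hyp.mpr h0
  -- the two decompositions
  have dec₂ : ∀ y ∈ img g (line S.ρ v₀),
      ∃ u ∈ line S.ρ v₀ ⊓ img g (line S.ρ v₀), y = u + hT S y w₁ • w₂ := by
    intro y hy
    obtain ⟨u, hu, c, hyc⟩ := decomp_of_hyperplane (P := line S.ρ v₀)
      (Q := img g (line S.ρ v₀)) (by omega) hw₂ hw₂L y hy
    refine ⟨u, hu, ?_⟩
    have hc : hT S y w₁ = c := by
      rw [hyc, hT_add_left, hT_smul_left, h21, mul_one, hT_line S hiso hu.1 hw₁, zero_add]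
    rw [hc]
    exact hyc
  have dec₁ : ∀ x ∈ line S.ρ v₀,
      ∃ u ∈ line S.ρ v₀ ⊓ img g (line S.ρ v₀), x = u + hT S x w₂ • w₁ := by
    intro x hx
    obtain ⟨u, hu, c, hxc⟩ := decomp_of_hyperplane (P := img g (line S.ρ v₀))
      (Q := line S.ρ v₀) (by rw [inf_comm]; omega) hw₁ hw₁W x hx
    refine ⟨u, ⟨hu.2, hu.1⟩, ?_⟩
    have hc : hT S x w₂ = c := by
      rw [hxc, hT_add_left, hT_smul_left, h12, mul_one, hWti u hu.1 w₂ hw₂, zero_add]
    rw [hc]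
    exact hxc
  have C : Ctx S v₀ g w₁ w₂ := ⟨hv₀, hiso, hgU, hw₁, hw₂, hψ, dec₁, dec₂⟩
  -- the skew `a` with `c₁ ≠ 0`
  have hfix : S.st (S.fE w₂ v₀ * S.st (S.fE w₂ v₀)) = S.fE w₂ v₀ * S.st (S.fE w₂ v₀) := by
    rw [map_mul, S.st_st, mul_comm]
  obtain ⟨a, ha, hτa⟩ := Cfsg.Agent.Lib.Helper12.C3uLeaf.exists_skew_tau_ne S hF hn0
    (mul_ne_zero hφ hφ') hfix
  have hc₁e : hT S (act S.ρ (a * S.fE w₂ v₀) v₀) w₂ =
      S.τ (a * (S.fE w₂ v₀ * S.st (S.fE w₂ v₀))) := by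
    rw [hT_act_left, S.herm w₂ v₀, mul_assoc]
  have hc₁ : hT S (act S.ρ (a * S.fE w₂ v₀) v₀) w₂ ≠ 0 := by
    rw [hc₁e]
    exact hτa
  have hc₁q : hT S (act S.ρ (a * S.fE w₂ v₀) v₀) w₂ ^ q =
      -hT S (act S.ρ (a * S.fE w₂ v₀) v₀) w₂ := by
    rw [hc₁e, ← S.τ_st, map_mul, hfix, ha, neg_mul, map_neg]
  -- the root elements are in `M`
  have hkt : ∀ b : E, S.st b = -b → S.kt v₀ b hiso ∈ M :=
    fun b hb => hM _ (S.kt_mem hiso hb) (S.kt_comm hiso b)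
  -- two independent skew elements in the kernel of `Θ`
  obtain ⟨b, b', hb, hb', hΘb, hΘb', hind⟩ := exists_indep_ker3 S hF (by omega)
    (AddMonoidHom.mk' (fun e => hT S (Bm S v₀ g e *ᵥ w₁) w₁) (by
      intro e e'
      rw [Bm_add, Matrix.add_mulVec, hT_add_left])) (by
      intro b hb
      have h1 := hT_Bm S v₀ g hgU hb w₁ w₁
      rw [hT_symm S (Bm S v₀ g b *ᵥ w₁) w₁] at h1
      exact eq_neg_of_add_eq_zero_right h1)
  have hKb : hT S (Bm S v₀ g b *ᵥ w₁) w₁ = 0 := hΘb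
  have hKb' : hT S (Bm S v₀ g b' *ᵥ w₁) w₁ = 0 := hΘb'
  have hKbb' : hT S (Bm S v₀ g (b + b') *ᵥ w₁) w₁ = 0 := by
    rw [Bm_add, Matrix.add_mulVec, hT_add_left, hKb, hKb', add_zero]
  have hbb' : S.st (b + b') = -(b + b') := by
    rw [map_add, hb, hb', neg_add]
  obtain ⟨π, hπ⟩ := mem_line.mp (C.Bm_w₁_mem hKb).1
  obtain ⟨π', hπ'⟩ := mem_line.mp (C.Bm_w₁_mem hKb').1
  refine ⟨hT S (act S.ρ (a * S.fE w₂ v₀) v₀) w₂, π, π', hc₁, hc₁q, ?_, ?_⟩
  · intro x y hxy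
    apply hind
    apply C.Bm_w₁_inj
    rw [Bm_add, Bm_fsmul, Bm_fsmul, Matrix.add_mulVec, Matrix.smul_mulVec, Matrix.smul_mulVec,
      ← hπ, ← hπ', ← act_smul, ← act_smul, ← act_add, hxy, act_zero]
  · rw [mem_XX, ← C.N_eq hb hb' a hπ hπ', ← polar]
    have n1 := C.Ym_nil0 a hKbb'
    have n2 := (C.Ym_nil0 a hKb).neg
    have n3 := (C.Ym_nil0 a hKb').neg
    have nA : Nil0 (line S.ρ v₀) (S.ktMat v₀ a) :=
      ⟨ktMat_mem_line S v₀ a, fun x hx => ktMat_line S hiso a hx⟩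
    have i1 := C.InM_Ym hg (hkt a ha) (hkt _ hbb')
    have i2 := InM_neg_of_Nil0 (C.Ym_nil0 a hKb) (C.InM_Ym hg (hkt a ha) (hkt b hb))
    have i3 := InM_neg_of_Nil0 (C.Ym_nil0 a hKb') (C.InM_Ym hg (hkt a ha) (hkt b' hb'))
    have iA : InM M (1 + S.ktMat v₀ a) := InM_of_mem (hkt a ha)
    exact InM_add_of_Nil0 ((n1.add n2).add n3) nA
      (InM_add_of_Nil0 (n1.add n2) n3 (InM_add_of_Nil0 n1 n2 i1 i2) i3) iA

end Cfsg.Agent.Lib.Helper13.C3cADJ
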