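import Mathlib
import Cfsg.Prelude.Def_Classical
import Cfsg.Prelude.Def_ClassicalGeometry
import Cfsg.Prelude.Def_GeometricClasses
import Cfsg.Agent.Lib.Helper5.SUMax
import Cfsg.Agent.Lib.Helper5.UForm
import Cfsg.Agent.Lib.Helper22.C3LDefs
import Cfsg.Agent.Lib.Helper22.C3LTool
import Cfsg.Agent.Lib.Helper16.C3uDefs
import Cfsg.Agent.Lib.Helper13.C3qDefs
import Cfsg.Agent.Lib.Helper6.C3u2AMain
import Cfsg.Agent.Lib.Helper16.C3u2TR2
import Cfsg.Agent.Lib.Helper16.C3qCO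
import Cfsg.Agent.Lib.Helper16.C3qBR
import Cfsg.Agent.Lib.Helper7.C3qB1
import Cfsg.Agent.Lib.Helper6.C3qG1
import Cfsg.Agent.Lib.Helper4.C3qG2
import Cfsg.Agent.Lib.Helper17.C3qG3

/-!
S5840 conjunct (7), stage GROWTH (helper13): from `0 < dim (L₀ ∩ g L₀) < 5` to two adjacent images of the
base line (`dim = 4`).  Assembly of the leaves B1, G1, G2, G3, BR1-4 (plan: notes/S5840_C3_plan.md §2).
-/

set_option autoImplicit false
set_option linter.unusedSectionVars false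
set_option linter.unusedVariables false

namespace Cfsg.Agent.Lib.Helper13.C3qB
open Cfsg Matrix Module Cfsg.Agent.Lib.Helper5.SpMax Cfsg.Agent.Lib.Helper5.SUMax
  Cfsg.Agent.Lib.Helper22.C3L Cfsg.Agent.Lib.Helper16.C3u Cfsg.Agent.Lib.Helper13.C3q
open Cfsg.Agent.Lib.Helper16.C3qLeaf (finrank_Bset finrank_Pset tau_Bset_Pset img_ti)
open Cfsg.Agent.Lib.Helper7.C3qLeaf (growth_step)
open Cfsg.Agent.Lib.Helper6.C3qLeaf (exists_skew_meet)
open Cfsg.Agent.Lib.Helper4.C3qLeaf (exists_skew_cover)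
open Cfsg.Agent.Lib.Helper17.C3qLeaf (three_dichotomy)

universe u
variable {F : Type u} [Field F] [Fintype F] {n q : ℕ} {E : Type u} [Field E] [Algebra F E]

local notation "𝕍" => (Fin n → F)
local notation "𝕄" => Matrix (Fin n) (Fin n) F
local notation "ℍ" => (Cfsg.GU n F q ⊓ Cfsg.Geo.specialLinear (Fin n) F)

/-! ### images of subspaces -/

lemma img_mul (a b : GL (Fin n) F) (W : Submodule F 𝕍) : img (a * b) W = img a (img b W) := by
  ext x
  constructor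
  · intro hx
    obtain ⟨w, hw, rfl⟩ := mem_img.mp hx
    rw [Units.val_mul, ← Matrix.mulVec_mulVec]
    exact mulVec_mem_img (mulVec_mem_img hw)
  · intro hx
    obtain ⟨y, hy, rfl⟩ := mem_img.mp hx
    obtain ⟨w, hw, rfl⟩ := mem_img.mp hy
    rw [Matrix.mulVec_mulVec, ← Units.val_mul]
    exact mulVec_mem_img hw

lemma img_inf (g : GL (Fin n) F) (A B : Submodule F 𝕍) : img g (A ⊓ B) = img g A ⊓ img g B := by
  ext x
  rw [Submodule.mem_inf, mem_img_iff, mem_img_iff, mem_img_iff, Submodule.mem_inf]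

lemma smulSub_zero (Φ : Submodule F E) : smulSub (0 : E) Φ = ⊥ := by
  rw [eq_bot_iff]
  intro x hx
  obtain ⟨φ, _, rfl⟩ := mem_smulSub.mp hx
  rw [zero_mul]
  exact Submodule.zero_mem _

lemma finrank_smulSub_le [FiniteDimensional F E] (a : E) (Φ : Submodule F E) :
    finrank F ↥(smulSub a Φ) ≤ finrank F ↥Φ := by
  unfold smulSub
  exact Submodule.finrank_map_le _ _

/-! ### the data attached to `g ∈ M` -/

/-- the facts about `B = Bset`, `Φ = Pset` of `W = g L₀` -/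
lemma data (S : KU n q F E) (hF : Fintype.card F = q ^ 2) [FiniteDimensional F E]
    (hd : 2 * finrank F E = n) (M : Subgroup (GL (Fin n) F)) (hMS : M ≤ ℍ) {v₀ : 𝕍} (hv₀ : v₀ ≠ 0)
    (hiso : S.fE v₀ v₀ = 0) {g : GL (Fin n) F} (hg : g ∈ M) :
    finrank F (Bset S v₀ (img g (line S.ρ v₀))) =
        finrank F ↥(line S.ρ v₀ ⊓ img g (line S.ρ v₀)) ∧
      finrank F (Pset S v₀ (img g (line S.ρ v₀))) +
        finrank F ↥(line S.ρ v₀ ⊓ img g (line S.ρ v₀)) = finrank F E ∧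
      ∀ b ∈ Bset S v₀ (img g (line S.ρ v₀)), ∀ φ ∈ Pset S v₀ (img g (line S.ρ v₀)),
        S.τ (b * S.st φ) = 0 := by
  refine ⟨finrank_Bset S hv₀ _, ?_, ?_⟩
  · rw [finrank_Pset S hF hd hv₀ hiso, finrank_img, finrank_line hv₀]
  · intro b hb φ hφ
    exact tau_Bset_Pset S _ (img_ti S hiso (hMS hg).1) hb hφ

/-- `u = 2 → 4` -/
lemma from_two (S : KU n q F E) (hF : Fintype.card F = q ^ 2) [FiniteDimensional F E]
    (hr5 : finrank F E = 5) (hd : n = 10) (M : Subgroup (GL (Fin n) F)) (hMS : M ≤ ℍ)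
    (hM : ∀ g ∈ ℍ, (∀ e : E, (g : 𝕄) * S.ρ e = S.ρ e * (g : 𝕄)) → g ∈ M)
    {v₀ : 𝕍} (hv₀ : v₀ ≠ 0) (hiso : S.fE v₀ v₀ = 0) {g : GL (Fin n) F} (hg : g ∈ M)
    (hu : finrank F ↥(line S.ρ v₀ ⊓ img g (line S.ρ v₀)) = 2) :
    ∃ g' ∈ M, finrank F ↥(line S.ρ v₀ ⊓ img g' (line S.ρ v₀)) = 4 := by
  have hd2 : 2 * finrank F E = n := by omega
  obtain ⟨hB, hΦ, hperp⟩ := data S hF hd2 M hMS hv₀ hiso hg
  rw [hu] at hB hΦ
  obtain ⟨a, ha, hcov⟩ := exists_skew_cover S hF (by omega) hr5 _ _ hB (by omega) hperp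
  have ha0 : a ≠ 0 := by
    rintro rfl
    rw [smulSub_zero, le_bot_iff] at hcov
    rw [hcov, finrank_bot] at hB
    omega
  obtain ⟨g', hg', hdim, -⟩ := growth_step S hF hd2 M hMS hM hv₀ hiso hg ha ha0
  refine ⟨g', hg', ?_⟩
  rw [hdim, hu, inf_eq_right.mpr hcov, hB]

/-- `u = 1 → 2` -/
lemma from_one (S : KU n q F E) (hF : Fintype.card F = q ^ 2) [FiniteDimensional F E]
    (hr5 : finrank F E = 5) (hd : n = 10) (M : Subgroup (GL (Fin n) F)) (hMS : M ≤ ℍ)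
    (hM : ∀ g ∈ ℍ, (∀ e : E, (g : 𝕄) * S.ρ e = S.ρ e * (g : 𝕄)) → g ∈ M)
    {v₀ : 𝕍} (hv₀ : v₀ ≠ 0) (hiso : S.fE v₀ v₀ = 0) {g : GL (Fin n) F} (hg : g ∈ M)
    (hu : finrank F ↥(line S.ρ v₀ ⊓ img g (line S.ρ v₀)) = 1) :
    ∃ g' ∈ M, finrank F ↥(line S.ρ v₀ ⊓ img g' (line S.ρ v₀)) = 2 := by
  have hd2 : 2 * finrank F E = n := by omega
  obtain ⟨hB, hΦ, hperp⟩ := data S hF hd2 M hMS hv₀ hiso hg
  rw [hu] at hB hΦ
  have hBne : Bset S v₀ (img g (line S.ρ v₀)) ≠ ⊥ := by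
    intro h
    rw [h, finrank_bot] at hB
    omega
  obtain ⟨a, ha, hmeet⟩ := exists_skew_meet S hF (by omega) _ _ hBne (by omega) hperp
  have ha0 : a ≠ 0 := by
    rintro rfl
    rw [smulSub_zero, bot_inf_eq] at hmeet
    exact hmeet rfl
  obtain ⟨g', hg', hdim, -⟩ := growth_step S hF hd2 M hMS hM hv₀ hiso hg ha ha0
  refine ⟨g', hg', ?_⟩
  rw [hdim, hu]
  have h1 : finrank F ↥(smulSub a (Pset S v₀ (img g (line S.ρ v₀))) ⊓
      Bset S v₀ (img g (line S.ρ v₀))) ≤ 1 := by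
    rw [← hB]
    exact Submodule.finrank_mono inf_le_right
  have h2 : 0 < finrank F ↥(smulSub a (Pset S v₀ (img g (line S.ρ v₀))) ⊓
      Bset S v₀ (img g (line S.ρ v₀))) := by
    rw [Module.finrank_pos_iff_exists_ne_zero]
    obtain ⟨x, hx, hx0⟩ := Submodule.exists_mem_ne_zero_of_ne_bot hmeet
    exact ⟨⟨x, hx⟩, fun h => hx0 (congrArg Subtype.val h)⟩
  omega

/-- `u = 3 → 4`, or back to `u ∈ {1, 2}` -/
lemma from_three (S : KU n q F E) (hF : Fintype.card F = q ^ 2) [FiniteDimensional F E]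
    (hr5 : finrank F E = 5) (hd : n = 10) (M : Subgroup (GL (Fin n) F)) (hMS : M ≤ ℍ)
    (hM : ∀ g ∈ ℍ, (∀ e : E, (g : 𝕄) * S.ρ e = S.ρ e * (g : 𝕄)) → g ∈ M)
    {v₀ : 𝕍} (hv₀ : v₀ ≠ 0) (hiso : S.fE v₀ v₀ = 0) {g : GL (Fin n) F} (hg : g ∈ M)
    (hu : finrank F ↥(line S.ρ v₀ ⊓ img g (line S.ρ v₀)) = 3) :
    ∃ g' ∈ M, finrank F ↥(line S.ρ v₀ ⊓ img g' (line S.ρ v₀)) = 4 ∨
      finrank F ↥(line S.ρ v₀ ⊓ img g' (line S.ρ v₀)) = 1 ∨
      finrank F ↥(line S.ρ v₀ ⊓ img g' (line S.ρ v₀)) = 2 := by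
  have hd2 : 2 * finrank F E = n := by omega
  have hd3 : n = 2 * finrank F E := by omega
  obtain ⟨hB, hΦ, hperp⟩ := data S hF hd2 M hMS hv₀ hiso hg
  rw [hu] at hB hΦ
  rcases three_dichotomy S hF (by omega) hr5 _ _ hB (by omega) hperp with
    ⟨a, ha, hmeet, hnle⟩ | halt
  · -- a growing skew element
    have ha0 : a ≠ 0 := by
      rintro rfl
      rw [smulSub_zero, bot_inf_eq] at hmeet
      exact hmeet rfl
    obtain ⟨g', hg', hdim, -⟩ := growth_step S hF hd2 M hMS hM hv₀ hiso hg ha ha0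
    refine ⟨g', hg', Or.inl ?_⟩
    rw [hdim, hu]
    have h2 : 0 < finrank F ↥(smulSub a (Pset S v₀ (img g (line S.ρ v₀))) ⊓
        Bset S v₀ (img g (line S.ρ v₀))) := by
      rw [Module.finrank_pos_iff_exists_ne_zero]
      obtain ⟨x, hx, hx0⟩ := Submodule.exists_mem_ne_zero_of_ne_bot hmeet
      exact ⟨⟨x, hx⟩, fun h => hx0 (congrArg Subtype.val h)⟩
    have h3 : finrank F ↥(smulSub a (Pset S v₀ (img g (line S.ρ v₀))) ⊓
        Bset S v₀ (img g (line S.ρ v₀))) <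
        finrank F ↥(smulSub a (Pset S v₀ (img g (line S.ρ v₀)))) := by
      apply Submodule.finrank_lt_finrank_of_lt
      refine lt_of_le_of_ne inf_le_left ?_
      intro h
      exact hnle (inf_eq_left.mp h)
    have h4 := finrank_smulSub_le a (Pset S v₀ (img g (line S.ρ v₀)))
    omega
  · -- an isotropic vector of `W` outside `L₀`: change the base line
    obtain ⟨W, hW⟩ : ∃ W : Submodule F 𝕍, W = img g (line S.ρ v₀) := ⟨_, rfl⟩
    rw [← hW] at hu hB hΦ hperp halt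
    have hWdim : finrank F ↥W = 5 := by rw [hW, finrank_img, finrank_line hv₀, hr5]
    have hWti : ∀ w ∈ W, ∀ w' ∈ W, Cfsg.hermForm n F q w w' = 0 := by
      rw [hW]; exact img_ti S hiso (hMS hg).1
    have hhyp := Cfsg.Agent.Lib.Helper16.C3qLeaf.hyp_eq_line S hF hd2 hv₀ hiso
    -- a vector of `W` outside `L₀`
    obtain ⟨w, hwW, hwL⟩ : ∃ w ∈ W, w ∉ line S.ρ v₀ := by
      by_contra hcon
      push Not at hcon
      have hle : W ≤ line S.ρ v₀ := hcon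
      rw [inf_eq_right.mpr hle, hWdim] at hu
      omega
    have hφ0 : S.fE w v₀ ≠ 0 := by
      intro h
      apply hwL
      rw [← hhyp]
      exact S.mem_hyp.mpr h
    have hφ : S.fE w v₀ ∈ Pset S v₀ W := mem_Pset.mpr ⟨w, hwW, rfl⟩
    have hz1 : S.st (-(S.fE w w)) = -(S.fE w w) := by rw [map_neg, S.st_fE_self]
    have hz2 : S.τ (-(S.fE w w)) = 0 := by
      rw [map_neg, ← S.form_eq', hWti w hwW w hwW, neg_zero]
    obtain ⟨b, hb, hbz⟩ := halt _ hφ hφ0 _ hz1 hz2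
    obtain ⟨w', hw'⟩ : ∃ w' : 𝕍, w' = w + act S.ρ b v₀ := ⟨_, rfl⟩
    have hw'W : w' ∈ W := by rw [hw']; exact W.add_mem hwW (mem_Bset.mp hb)
    have hw'φ : S.fE w' v₀ = S.fE w v₀ := by
      rw [hw', S.add_left, S.fE_act_left, hiso, mul_zero, add_zero]
    have hw'iso : S.fE w' w' = 0 := by
      have h1 : S.fE v₀ w = S.st (S.fE w v₀) := S.herm w v₀
      rw [hw', S.add_left, S.fE_add_right, S.fE_add_right, S.fE_act_left, S.fE_act_left,
        S.fE_act_right, S.fE_act_right, hiso, h1]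
      have := hbz
      linear_combination this
    have hw'L : w' ∉ line S.ρ v₀ := by
      intro h
      rw [← hhyp] at h
      have := S.mem_hyp.mp h
      rw [hw'φ] at this
      exact hφ0 this
    have hw'0 : w' ≠ 0 := by
      rintro h
      apply hw'L
      rw [h]
      exact Submodule.zero_mem _
    -- the new base line `L₁ = E w'`
    obtain ⟨s, hsH, hsc, hsv⟩ :=
      Cfsg.Agent.Lib.Helper16.C3u2Leaf.exists_cent_map_line S hF hd3 hv₀ hiso hw'0 hw'iso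
    have hsM : s ∈ M := hM s hsH hsc
    have hsv0 : (s : 𝕄) *ᵥ v₀ ≠ 0 := by
      intro h0
      apply hv₀
      rw [← inv_mul_mulVec s v₀, h0, Matrix.mulVec_zero]
    have hsL : img s (line S.ρ v₀) = line S.ρ w' := by
      rw [Cfsg.Agent.Lib.Helper6.C3u2AMain.img_line_of_comm S hsc, line_eq_of_mem hsv hsv0]
    have hg1 : s⁻¹ * g ∈ M := M.mul_mem (M.inv_mem hsM) hg
    have hu1 : finrank F ↥(line S.ρ v₀ ⊓ img (s⁻¹ * g) (line S.ρ v₀)) =
        finrank F ↥(line S.ρ w' ⊓ W) := by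
      rw [← finrank_img s, img_inf, hsL, ← img_mul, mul_inv_cancel_left, ← hW]
    -- `L₁ ∩ L₀ = 0`
    have hdisj : line S.ρ w' ⊓ line S.ρ v₀ = ⊥ := by
      rw [eq_bot_iff]
      intro y hy
      rw [Submodule.mem_bot]
      by_contra hy0
      have h1 := line_eq_of_mem (Submodule.mem_inf.mp hy).1 hy0
      have h2 := line_eq_of_mem (Submodule.mem_inf.mp hy).2 hy0
      apply hw'L
      rw [← h2, h1]
      exact self_mem_line w'
    have hpos : 0 < finrank F ↥(line S.ρ w' ⊓ W) := by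
      rw [Module.finrank_pos_iff_exists_ne_zero]
      exact ⟨⟨w', Submodule.mem_inf.mpr ⟨self_mem_line w', hw'W⟩⟩,
        fun h => hw'0 (congrArg Subtype.val h)⟩
    have hle2 : finrank F ↥(line S.ρ w' ⊓ W) + 3 ≤ 5 := by
      have h1 := Submodule.finrank_sup_add_finrank_inf_eq (line S.ρ w' ⊓ W) (line S.ρ v₀ ⊓ W)
      have h2 : (line S.ρ w' ⊓ W) ⊓ (line S.ρ v₀ ⊓ W) = ⊥ := by
        rw [eq_bot_iff, ← hdisj]
        exact le_inf (inf_le_left.trans inf_le_left) (inf_le_right.trans inf_le_left)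
      rw [h2, finrank_bot, add_zero, hu] at h1
      have h3 : finrank F ↥((line S.ρ w' ⊓ W) ⊔ (line S.ρ v₀ ⊓ W)) ≤ finrank F ↥W :=
        Submodule.finrank_mono (sup_le inf_le_right inf_le_right)
      omega
    refine ⟨s⁻¹ * g, hg1, Or.inr ?_⟩
    rw [hu1]
    omega

/-- **B**: two adjacent images of the base line -/
theorem exists_adjacent (S : KU n q F E) (hF : Fintype.card F = q ^ 2) [FiniteDimensional F E]
    (hr5 : finrank F E = 5) (hd : n = 10) (M : Subgroup (GL (Fin n) F)) (hMS : M ≤ ℍ)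
    (hM : ∀ g ∈ ℍ, (∀ e : E, (g : 𝕄) * S.ρ e = S.ρ e * (g : 𝕄)) → g ∈ M)
    {v₀ : 𝕍} (hv₀ : v₀ ≠ 0) (hiso : S.fE v₀ v₀ = 0) 
    (hnot : ¬ M ≤ Cfsg.Geo.subalgebraNormalizer S.ρ.range) :
    ∃ g ∈ M, finrank F ↥(line S.ρ v₀ ⊓ img g (line S.ρ v₀)) = 4 := by
  have hd3 : n = 2 * finrank F E := by omega
  obtain ⟨g, hg, h0, h5⟩ :=
    Cfsg.Agent.Lib.Helper6.C3u2AMain.exists_partial_two' S hF hd3 M hMS hM hnot hv₀ hiso
  rw [hr5] at h5
  have h12 : ∀ g ∈ M, (finrank F ↥(line S.ρ v₀ ⊓ img g (line S.ρ v₀)) = 1 ∨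
      finrank F ↥(line S.ρ v₀ ⊓ img g (line S.ρ v₀)) = 2) →
      ∃ g' ∈ M, finrank F ↥(line S.ρ v₀ ⊓ img g' (line S.ρ v₀)) = 4 := by
    intro g hg h
    rcases h with h | h
    · obtain ⟨g', hg', h'⟩ := from_one S hF hr5 hd M hMS hM hv₀ hiso hg h
      exact from_two S hF hr5 hd M hMS hM hv₀ hiso hg' h'
    · exact from_two S hF hr5 hd M hMS hM hv₀ hiso hg h
  obtain ⟨u, hu⟩ : ∃ u, u = finrank F ↥(line S.ρ v₀ ⊓ img g (line S.ρ v₀)) := ⟨_, rfl⟩
  rw [← hu] at h0 h5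
  interval_cases u
  · exact h12 g hg (Or.inl hu.symm)
  · exact h12 g hg (Or.inr hu.symm)
  · obtain ⟨g', hg', h'⟩ := from_three S hF hr5 hd M hMS hM hv₀ hiso hg hu.symm
    rcases h' with h' | h'
    · exact ⟨g', hg', h'⟩
    · exact h12 g' hg' h'
  · exact ⟨g, hg, hu.symm⟩


end Cfsg.Agent.Lib.Helper13.C3qB
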