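import Mathlib
import Cfsg.Prelude.Def_Classical
import Cfsg.Prelude.Def_ClassicalGeometry
import Cfsg.Prelude.Def_GeometricClasses
import Cfsg.Agent.Lib.Helper5.SUMax
import Cfsg.Agent.Lib.Helper5.UForm
import Cfsg.Agent.Lib.Helper22.C3LDefs
import Cfsg.Agent.Lib.Helper22.C3LTool
import Cfsg.Agent.Lib.Helper16.C3uDefs
import Cfsg.Agent.Lib.Helper13.C3qDefs
import Cfsg.Agent.Lib.Helper13.C3qB

/-!
S5801 conjunct (7), rank-one unitary `C3` at degree `r = 3` (`GU_2(q^3).3 < SU_6(q)`), helper13: stage GROWTH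
at `r = 3`: from `0 < dim (L₀ ∩ g L₀) < 3` to two adjacent images of the base line (`dim = 2`); only the
step `1 → 2` (leaves G1 `exists_skew_meet`, B1 `growth_step`, both generic in `r`) is needed.
-/

set_option autoImplicit false
set_option linter.unusedSectionVars false
set_option linter.unusedVariables false

namespace Cfsg.Agent.Lib.Helper13.C3cB
open Cfsg Matrix Module Cfsg.Agent.Lib.Helper5.SpMax Cfsg.Agent.Lib.Helper5.SUMax
  Cfsg.Agent.Lib.Helper22.C3L Cfsg.Agent.Lib.Helper16.C3u Cfsg.Agent.Lib.Helper13.C3q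
open Cfsg.Agent.Lib.Helper7.C3qLeaf (growth_step)
open Cfsg.Agent.Lib.Helper6.C3qLeaf (exists_skew_meet)
open Cfsg.Agent.Lib.Helper13.C3qB (data smulSub_zero)

universe u
variable {F : Type u} [Field F] [Fintype F] {n q : ℕ} {E : Type u} [Field E] [Algebra F E]

local notation "𝕍" => (Fin n → F)
local notation "𝕄" => Matrix (Fin n) (Fin n) F
local notation "ℍ" => (Cfsg.GU n F q ⊓ Cfsg.Geo.specialLinear (Fin n) F)

/-- `u = 1 → 2` -/
lemma from_one3 (S : KU n q F E) (hF : Fintype.card F = q ^ 2) [FiniteDimensional F E]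
    (hr3 : finrank F E = 3) (hd : n = 6) (M : Subgroup (GL (Fin n) F)) (hMS : M ≤ ℍ)
    (hM : ∀ g ∈ ℍ, (∀ e : E, (g : 𝕄) * S.ρ e = S.ρ e * (g : 𝕄)) → g ∈ M)
    {v₀ : 𝕍} (hv₀ : v₀ ≠ 0) (hiso : S.fE v₀ v₀ = 0) {g : GL (Fin n) F} (hg : g ∈ M)
    (hu : finrank F ↥(line S.ρ v₀ ⊓ img g (line S.ρ v₀)) = 1) :
    ∃ g' ∈ M, finrank F ↥(line S.ρ v₀ ⊓ img g' (line S.ρ v₀)) = 2 := by
  have hd2 : 2 * finrank F E = n := by omega
  obtain ⟨hB, hΦ, hperp⟩ := data S hF hd2 M hMS hv₀ hiso hg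
  rw [hu] at hB hΦ
  have hBne : Bset S v₀ (img g (line S.ρ v₀)) ≠ ⊥ := by
    intro h
    rw [h, finrank_bot] at hB
    omega
  obtain ⟨a, ha, hmeet⟩ := exists_skew_meet S hF (by omega) _ _ hBne (by omega) hperp
  have ha0 : a ≠ 0 := by
    rintro rfl
    rw [smulSub_zero, bot_inf_eq] at hmeet
    exact hmeet rfl
  obtain ⟨g', hg', hdim, -⟩ := growth_step S hF hd2 M hMS hM hv₀ hiso hg ha ha0
  refine ⟨g', hg', ?_⟩
  rw [hdim, hu]
  have h1 : finrank F ↥(smulSub a (Pset S v₀ (img g (line S.ρ v₀))) ⊓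
      Bset S v₀ (img g (line S.ρ v₀))) ≤ 1 := by
    rw [← hB]
    exact Submodule.finrank_mono inf_le_right
  have h2 : 0 < finrank F ↥(smulSub a (Pset S v₀ (img g (line S.ρ v₀))) ⊓
      Bset S v₀ (img g (line S.ρ v₀))) := by
    rw [Module.finrank_pos_iff_exists_ne_zero]
    obtain ⟨x, hx, hx0⟩ := Submodule.exists_mem_ne_zero_of_ne_bot hmeet
    exact ⟨⟨x, hx⟩, fun h => hx0 (congrArg Subtype.val h)⟩
  omega

/-- **B** at degree `3`: two adjacent images of the base line -/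
theorem exists_adjacent3 (S : KU n q F E) (hF : Fintype.card F = q ^ 2) [FiniteDimensional F E]
    (hr3 : finrank F E = 3) (hd : n = 6) (M : Subgroup (GL (Fin n) F)) (hMS : M ≤ ℍ)
    (hM : ∀ g ∈ ℍ, (∀ e : E, (g : 𝕄) * S.ρ e = S.ρ e * (g : 𝕄)) → g ∈ M)
    {v₀ : 𝕍} (hv₀ : v₀ ≠ 0) (hiso : S.fE v₀ v₀ = 0)
    (hnot : ¬ M ≤ Cfsg.Geo.subalgebraNormalizer S.ρ.range) :
    ∃ g ∈ M, finrank F ↥(line S.ρ v₀ ⊓ img g (line S.ρ v₀)) = 2 := by
  have hd3 : n = 2 * finrank F E := by omega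
  obtain ⟨g, hg, h0, h3⟩ :=
    Cfsg.Agent.Lib.Helper6.C3u2AMain.exists_partial_two' S hF hd3 M hMS hM hnot hv₀ hiso
  rw [hr3] at h3
  obtain ⟨u, hu⟩ : ∃ u, u = finrank F ↥(line S.ρ v₀ ⊓ img g (line S.ρ v₀)) := ⟨_, rfl⟩
  rw [← hu] at h0 h3
  interval_cases u
  · exact from_one3 S hF hr3 hd M hMS hM hv₀ hiso hg hu.symm
  · exact ⟨g, hg, hu.symm⟩

end Cfsg.Agent.Lib.Helper13.C3cB
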