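import Mathlib
import Cfsg.Prelude.Def_Classical
import Cfsg.Prelude.Def_ClassicalGeometry
import Cfsg.Prelude.Def_GeometricClasses
import Cfsg.Agent.Lib.Helper5.SUMax
import Cfsg.Agent.Lib.Helper5.UForm
import Cfsg.Agent.Lib.Helper22.C3LDefs
import Cfsg.Agent.Lib.Helper22.C3LTool
import Cfsg.Agent.Lib.Helper16.C3uDefs
import Cfsg.Agent.Lib.Helper13.C3qDefs
import Cfsg.Agent.Lib.Helper13.C3qMDefs
import Cfsg.Agent.Lib.Helper12.C3uF
import Cfsg.Agent.Lib.Helper22.C3qMDelta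
import Cfsg.Agent.Lib.Helper12.C3qMExpand
import Cfsg.Agent.Lib.Helper24.C3qMCoeff
import Cfsg.Agent.Lib.Helper24.C3qMIota
import Cfsg.Agent.Lib.Helper16.C3qMGen
import Cfsg.Agent.Lib.Helper22.C3qMUlemma
import Cfsg.Agent.Lib.Helper13.C3qMod

/-!
S5801 conjunct (7), rank-one unitary `C3` at degree `r = 3` (`GU_2(q^3).3 < SU_6(q)`, `q ≥ 3`), helper13: the
module theorem MOD at `r = 3`.  Ports of the `r = 5` leaves of the S5840 market (helper24 `coeff_ne_zero`,
`iota_coeff`, helper16 `gen`, helper22 `ulemma`) and the assembly `mod_main3`.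

With `φ` the Frobenius of `E/F` (`φ^3 = 1`) an element of `𝒳` is `a₀ · + a₁ φ + a₂ φ²`.  The given rank-two
element has `a₀` skew (removed by `hsk`) and `a₁ ≠ 0`; the torus multiplies `a₁` by
`χ e = k φ (st k)`, `k = e^(q+1)`; `χ e = 1` forces `k ∈ F`, `k^(q+1) = 1`, so the fibres of `χ` have at
most `(q+1)^2` elements and the subring generated by the image has more than `q^3` elements EXACTLY when
`q ≥ 3` - hence it is `E`.  The second coefficient is determined by the first (skew-adjointness).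
-/

set_option autoImplicit false
set_option linter.unusedSectionVars false
set_option linter.unusedVariables false

namespace Cfsg.Agent.Lib.Helper13.C3cMod
open Cfsg Matrix Module Cfsg.Agent.Lib.Helper16.C3u Cfsg.Agent.Lib.Helper13.C3q
open Cfsg.Agent.Lib.Helper22.C3qModLeaf (exists_delta trace_fr st_fr fr_pow_finrank fr_fr_cancel
  exists_fr_ne trace_eq_sum_fr)
open Cfsg.Agent.Lib.Helper12.C3qModLeaf (rk1_expand sym2_expand)
open Cfsg.Agent.Lib.Helper24.C3qModLeaf (mem_range_of_pow_card st_fr_comm st_smul')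
open Cfsg.Agent.Lib.Helper16.C3qModLeaf (fr_st_comm)
open Cfsg.Agent.Lib.Helper13.C3qMod (coeffGroup)
open Polynomial

universe u
variable {F : Type u} [Field F] [Fintype F] {n q : ℕ} {E : Type u} [Field E] [Algebra F E]

/-! ### Frobenius facts at degree `3` -/

theorem fr_pow_three [FiniteDimensional F E] (hr3 : finrank F E = 3) : fr F E ^ 3 = 1 := by
  have h := fr_pow_finrank (F := F) (E := E)
  rwa [hr3] at h

/-- an element fixed by `φ^2` is fixed by `φ` (degree `3`) -/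
lemma fr_fixed_of_sq3 [FiniteDimensional F E] (hr3 : finrank F E = 3) {k : E}
    (h : (fr F E ^ 2) k = k) : (fr F E) k = k := by
  have h4 : (fr F E ^ 4) k = k := by
    have e : fr F E ^ 4 = fr F E ^ 2 * fr F E ^ 2 := by rw [← pow_add]
    rw [e, AlgHom.mul_apply, h, h]
  have e4 : fr F E ^ 4 = fr F E := by
    rw [pow_succ, fr_pow_three hr3, one_mul]
  rwa [e4] at h4

/-- an element fixed by `φ` lies in `F` -/
lemma mem_range_of_fr_fixed {k : E} (h : (fr F E) k = k) : k ∈ Set.range (algebraMap F E) := by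
  apply mem_range_of_pow_card
  rwa [FiniteField.coe_frobeniusAlgHom] at h

/-! ### M2c at degree `3` -/

theorem coeff_ne_zero3 (S : KU n q F E) (hF : Fintype.card F = q ^ 2) [FiniteDimensional F E]
    (hr3 : finrank F E = 3) {δ : E} (hδ0 : δ ≠ 0) {π π' : E}
    (hind : ∀ x y : F, x • π + y • π' = 0 → x = 0 ∧ y = 0) :
    π * (fr F E ^ 1) (δ * S.st π') + π' * (fr F E ^ 1) (δ * S.st π) ≠ 0 := by
  intro h0
  have hπ' : π' ≠ 0 := by
    rintro rfl
    have := (hind 0 1 (by simp)).2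
    exact one_ne_zero this
  have hφδ : (fr F E ^ 1) δ ≠ 0 := by
    rw [Ne, map_eq_zero]; exact hδ0
  have hψπ' : (fr F E ^ 1) (S.st π') ≠ 0 := by
    rw [Ne, map_eq_zero, map_eq_zero]; exact hπ'
  rw [map_mul, map_mul] at h0
  have h1 : π * (fr F E ^ 1) (S.st π') + π' * (fr F E ^ 1) (S.st π) = 0 := by
    have : (fr F E ^ 1) δ * (π * (fr F E ^ 1) (S.st π') + π' * (fr F E ^ 1) (S.st π)) = 0 := by
      rw [← h0]; ring
    exact (mul_eq_zero.mp this).resolve_left hφδ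
  obtain ⟨x, hx⟩ : ∃ x : E, x = π / π' := ⟨_, rfl⟩
  have hxψ : x = -((fr F E ^ 1) (S.st x)) := by
    rw [hx, map_div₀, map_div₀]
    field_simp
    linear_combination h1
  have hψψ : (fr F E ^ 1) (S.st ((fr F E ^ 1) (S.st x))) = (fr F E ^ 2) x := by
    rw [st_fr_comm, S.st_st, pow_succ (fr F E) 1]; rfl
  have e1 : (fr F E ^ 1) (S.st x) = -x := neg_eq_iff_eq_neg.mp hxψ.symm
  have e2 : (fr F E ^ 1) (S.st ((fr F E ^ 1) (S.st x))) = x := by
    rw [e1, map_neg, map_neg, e1, neg_neg]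
  have hxx : (fr F E ^ 2) x = x := by rw [← hψψ, e2]
  have hfrx : (fr F E) x = x := fr_fixed_of_sq3 hr3 hxx
  obtain ⟨c, hc⟩ := mem_range_of_fr_fixed hfrx
  have hπ : π = c • π' := by
    rw [Algebra.smul_def, hc, hx, div_mul_cancel₀ _ hπ']
  have := (hind 1 (-c) (by rw [hπ]; simp)).1
  exact one_ne_zero this

/-! ### M2d at degree `3` -/

theorem iota_coeff3 (S : KU n q F E) (hF : Fintype.card F = q ^ 2) [FiniteDimensional F E]
    (hr3 : finrank F E = 3) {δ : E} (hδ0 : δ ≠ 0) (hδst : S.st δ = δ) {c : F} (hc : c ^ q = -c)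
    (π : E) :
    -(δ⁻¹ * (fr F E ^ 2) (δ * S.st (c • (π * (fr F E ^ 1) (δ * S.st π))))) =
      c • (π * (fr F E ^ 2) (δ * S.st π)) := by
  have h1 : S.st (c • (π * (fr F E ^ 1) (δ * S.st π))) =
      (-c) • (S.st π * (fr F E ^ 1) (δ * π)) := by
    rw [st_smul', hc, map_mul, st_fr_comm, map_mul, hδst, S.st_st]
  rw [h1]
  have h2 : δ * ((-c) • (S.st π * (fr F E ^ 1) (δ * π))) =
      (-c) • ((δ * S.st π) * (fr F E ^ 1) (δ * π)) := by
    rw [mul_smul_comm, mul_assoc]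
  rw [h2, map_smul, map_mul, fr_fr_cancel (by rw [hr3] : 2 + 1 = finrank F E)]
  rw [neg_smul, mul_neg, neg_neg, mul_smul_comm]
  congr 1
  field_simp

/-! ### M7 at degree `3` -/

/-- the kernel of `χ` consists of `(q+1)^2`-th roots of unity -/
lemma chi_ker3 (S : KU n q F E) (hF : Fintype.card F = q ^ 2) [FiniteDimensional F E]
    (hr3 : finrank F E = 3) {u : E} (hu : u ≠ 0)
    (h : u ^ (q + 1) * (fr F E ^ 1) (S.st u ^ (q + 1)) = 1) :
    u ^ ((q + 1) * (q + 1)) = 1 := by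
  obtain ⟨k, hk⟩ : ∃ k : E, k = u ^ (q + 1) := ⟨_, rfl⟩
  have hk0 : k ≠ 0 := by rw [hk]; exact pow_ne_zero _ hu
  rw [← map_pow, ← hk] at h
  have h1 : (fr F E ^ 1) (S.st k) = k⁻¹ := eq_inv_of_mul_eq_one_right h
  have h2 : (fr F E ^ 1) ((fr F E ^ 1) k) = k := by
    have e1 : (fr F E ^ 1) (S.st ((fr F E ^ 1) (S.st k))) = k := by
      rw [h1, map_inv₀, map_inv₀, h1, inv_inv]
    rw [← fr_st_comm S 1, S.st_st] at e1
    exact e1
  have h2' : (fr F E ^ 2) k = k := by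
    rw [pow_succ (fr F E) 1]
    exact h2
  have h3 := fr_fixed_of_sq3 hr3 h2'
  obtain ⟨c, hc⟩ := mem_range_of_fr_fixed h3
  rw [← hc, S.st_alg, AlgHom.commutes, ← map_mul, ← pow_succ'] at h
  rw [pow_mul, ← hk, ← hc, ← map_pow, h]

/-- **M7** at degree `3`: generation by cardinality (`q ≥ 3`). -/
theorem gen3 (S : KU n q F E) (hF : Fintype.card F = q ^ 2) (hn : 0 < n) [FiniteDimensional F E]
    (hr3 : finrank F E = 3) (hq : 3 ≤ q) :
    AddSubgroup.closure {x : E | ∃ e : E, e ≠ 0 ∧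
      x = e ^ (q + 1) * (fr F E ^ 1) (S.st e ^ (q + 1))} = ⊤ := by
  classical
  haveI : Finite E := Module.finite_of_finite F
  haveI : Fintype E := Fintype.ofFinite E
  have hcardE : Fintype.card E = q ^ 6 := by
    rw [Module.card_eq_pow_finrank (K := F) (V := E), hF, hr3, ← pow_mul]
  obtain ⟨χ, hχ⟩ : ∃ χ : E → E, χ = fun e => e ^ (q + 1) * (fr F E ^ 1) (S.st e ^ (q + 1)) :=
    ⟨_, rfl⟩
  have hχa : ∀ e, χ e = e ^ (q + 1) * (fr F E ^ 1) (S.st e ^ (q + 1)) := fun e => by rw [hχ]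
  have hχmul : ∀ e e', χ (e * e') = χ e * χ e' := by
    intro e e'
    rw [hχa, hχa, hχa, map_mul, mul_pow, mul_pow, map_mul]
    ring
  have hχone : χ 1 = 1 := by
    rw [hχa, map_one, one_pow, map_one, mul_one]
  have hχne : ∀ e, e ≠ 0 → χ e ≠ 0 := by
    intro e he
    rw [hχa]
    apply mul_ne_zero (pow_ne_zero _ he)
    rw [Ne, map_eq_zero]
    exact pow_ne_zero _ (by rwa [Ne, map_eq_zero])
  have hχinv : ∀ e, e ≠ 0 → χ e⁻¹ = (χ e)⁻¹ := by
    intro e he
    apply eq_inv_of_mul_eq_one_left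
    rw [← hχmul, inv_mul_cancel₀ he, hχone]
  obtain ⟨N, hN⟩ : ∃ N : ℕ, N = (q + 1) * (q + 1) := ⟨_, rfl⟩
  have hN0 : 0 < N := by
    rw [hN]
    positivity
  have hker : ∀ u : E, u ≠ 0 → χ u = 1 → u ^ N = 1 := by
    intro u hu h
    rw [hN]
    rw [hχa] at h
    exact chi_ker3 S hF hr3 hu h
  -- the set `T` is the carrier of a submonoid
  obtain ⟨T, hT⟩ : ∃ T : Set E, T = {x : E | ∃ e : E, e ≠ 0 ∧ x = χ e} := ⟨_, rfl⟩
  have hTset : {x : E | ∃ e : E, e ≠ 0 ∧
      x = e ^ (q + 1) * (fr F E ^ 1) (S.st e ^ (q + 1))} = T := by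
    rw [hT]
    ext x
    simp only [Set.mem_setOf_eq, hχa]
  rw [hTset]
  let Tm : Submonoid E :=
    { carrier := T
      one_mem' := by rw [hT]; exact ⟨1, one_ne_zero, hχone.symm⟩
      mul_mem' := by
        intro a b ha hb
        rw [hT] at ha hb ⊢
        obtain ⟨e, he, rfl⟩ := ha
        obtain ⟨e', he', rfl⟩ := hb
        exact ⟨e * e', mul_ne_zero he he', (hχmul e e').symm⟩ }
  have hTm : (Tm : Set E) = T := rfl
  have hclosure : ∀ x : E, x ∈ Subring.closure T → x ∈ AddSubgroup.closure T := by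
    intro x hx
    have := Subring.mem_closure_iff.mp hx
    rwa [← hTm, Submonoid.closure_eq] at this
  suffices hR : Subring.closure T = ⊤ by
    rw [eq_top_iff]
    intro x _
    apply hclosure
    rw [hR]
    exact Subring.mem_top x
  by_contra hne
  obtain ⟨x, hx⟩ : ∃ x : E, x ∉ Subring.closure T := by
    by_contra hall
    push Not at hall
    exact hne (eq_top_iff.mpr (fun x _ => hall x))
  obtain ⟨R, hR⟩ : ∃ R : Subring E, R = Subring.closure T := ⟨_, rfl⟩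
  rw [← hR] at hx
  -- inverses in `R`
  have hRinv : ∀ r ∈ R, r ≠ 0 → r⁻¹ ∈ R := by
    intro r hr hr0
    have h1 : r ^ (Fintype.card E - 1) = 1 := FiniteField.pow_card_sub_one_eq_one r hr0
    have hc2 : 2 ≤ Fintype.card E := by
      rw [hcardE]
      calc 2 ≤ q := by omega
        _ ≤ q ^ 6 := Nat.le_self_pow (by norm_num) q
    have h2 : r * r ^ (Fintype.card E - 2) = 1 := by
      rw [← pow_succ', ← h1]
      congr 1
      omega
    have h3 : r⁻¹ = r ^ (Fintype.card E - 2) := (eq_inv_of_mul_eq_one_right h2).symm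
    rw [h3]
    exact pow_mem hr _
  -- the finite sets
  obtain ⟨Rf, hRf⟩ : ∃ Rf : Finset E, Rf = Finset.univ.filter (fun y => y ∈ R) := ⟨_, rfl⟩
  have hmemRf : ∀ y, y ∈ Rf ↔ y ∈ R := by
    intro y
    rw [hRf, Finset.mem_filter]
    simp
  obtain ⟨E₁, hE₁⟩ : ∃ E₁ : Finset E, E₁ = Finset.univ.filter (fun y : E => y ≠ 0) := ⟨_, rfl⟩
  have hmemE₁ : ∀ y, y ∈ E₁ ↔ y ≠ 0 := by
    intro y
    rw [hE₁, Finset.mem_filter]
    simp
  have hE₁card : E₁.card = q ^ 6 - 1 := by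
    rw [hE₁, Finset.filter_ne' Finset.univ (0 : E), Finset.card_erase_of_mem (Finset.mem_univ _),
      Finset.card_univ, hcardE]
  -- the image of `χ` lies in `R`
  have hsub : E₁.image χ ⊆ Rf := by
    intro y hy
    obtain ⟨e, he, rfl⟩ := Finset.mem_image.mp hy
    rw [hmemRf, hR]
    apply Subring.subset_closure
    rw [hT]
    exact ⟨e, (hmemE₁ e).mp he, rfl⟩
  -- the fibres of `χ`
  have hfib : ∀ b ∈ E₁.image χ, (E₁.filter (fun a => χ a = b)).card ≤ N := by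
    intro b hb
    obtain ⟨a₀, ha₀, rfl⟩ := Finset.mem_image.mp hb
    have ha₀0 : a₀ ≠ 0 := (hmemE₁ a₀).mp ha₀
    have h1 : (E₁.filter (fun a => χ a = χ a₀)).card ≤ (nthRoots N (1 : E)).toFinset.card := by
      apply Finset.card_le_card_of_injOn (fun a => a * a₀⁻¹)
      · intro a ha
        rw [Finset.mem_coe, Finset.mem_filter] at ha
        rw [Finset.mem_coe, Multiset.mem_toFinset, mem_nthRoots hN0]
        have ha0 : a ≠ 0 := (hmemE₁ a).mp ha.1
        apply hker _ (mul_ne_zero ha0 (inv_ne_zero ha₀0))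
        rw [hχmul, hχinv a₀ ha₀0, ha.2, mul_inv_cancel₀ (hχne a₀ ha₀0)]
      · intro a _ a' _ haa'
        exact mul_right_cancel₀ (inv_ne_zero ha₀0) haa'
    calc (E₁.filter (fun a => χ a = χ a₀)).card ≤ (nthRoots N (1 : E)).toFinset.card := h1
      _ ≤ Multiset.card (nthRoots N (1 : E)) := Multiset.toFinset_card_le _
      _ ≤ N := card_nthRoots N 1
  have hcard1 := Finset.card_le_mul_card_image E₁ N hfib
  rw [hE₁card] at hcard1
  have hcard2 : (E₁.image χ).card ≤ Rf.card := Finset.card_le_card hsub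
  -- arithmetic: `(q+1)^2 * q^3 < q^6 - 1` for `q ≥ 3`
  have hRf3 : q ^ 3 < Rf.card := by
    by_contra hle
    push Not at hle
    have h1 : q ^ 6 - 1 ≤ N * q ^ 3 :=
      hcard1.trans (Nat.mul_le_mul_left _ (hcard2.trans hle))
    have h2 : N + 1 ≤ q ^ 3 := by
      rw [hN]
      have e : q ^ 3 = q * q * q := by ring
      rw [e]
      nlinarith [Nat.mul_le_mul hq hq]
    have h3 : q ^ 6 = q ^ 3 * q ^ 3 := by ring
    have h4 : (N + 1) * q ^ 3 ≤ q ^ 3 * q ^ 3 := Nat.mul_le_mul_right _ h2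
    have h5 : 27 ≤ q ^ 3 := by
      calc 27 = 3 ^ 3 := by norm_num
        _ ≤ q ^ 3 := Nat.pow_le_pow_left hq 3
    have h6 : (N + 1) * q ^ 3 = N * q ^ 3 + q ^ 3 := by ring
    omega
  -- the injection `R × R → E`
  have hinj : (Rf ×ˢ Rf).card ≤ (Finset.univ : Finset E).card := by
    apply Finset.card_le_card_of_injOn (fun p : E × E => p.1 + p.2 * x)
    · intro p _
      exact Finset.mem_coe.mpr (Finset.mem_univ _)
    · rintro ⟨r, s⟩ hp ⟨r', s'⟩ hp' heq
      rw [Finset.mem_coe, Finset.mem_product] at hp hp'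
      have hr : r ∈ R := (hmemRf r).mp hp.1
      have hs : s ∈ R := (hmemRf s).mp hp.2
      have hr' : r' ∈ R := (hmemRf r').mp hp'.1
      have hs' : s' ∈ R := (hmemRf s').mp hp'.2
      have heq' : r + s * x = r' + s' * x := heq
      have hss : s = s' := by
        by_contra hss
        have hd : s - s' ≠ 0 := sub_ne_zero.mpr hss
        apply hx
        have hx' : x = (r' - r) * (s - s')⁻¹ := by
          rw [eq_mul_inv_iff_mul_eq₀ hd]
          linear_combination heq'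
        rw [hx']
        exact R.mul_mem (R.sub_mem hr' hr) (hRinv _ (R.sub_mem hs hs') hd)
      subst hss
      have hrr : r = r' := add_right_cancel heq'
      rw [hrr]
  rw [Finset.card_product, Finset.card_univ, hcardE] at hinj
  have h6 : q ^ 6 = q ^ 3 * q ^ 3 := by ring
  have hlt : q ^ 3 * q ^ 3 < Rf.card * Rf.card := Nat.mul_lt_mul_of_lt_of_lt hRf3 hRf3
  omega

/-! ### M8 at degree `3` -/

theorem ulemma3 (S : KU n q F E) (hF : Fintype.card F = q ^ 2) (hn : 0 < n) [FiniteDimensional F E]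
    (hr3 : finrank F E = 3) {δ : E} (hδ0 : δ ≠ 0) (hδst : S.st δ = δ)
    (hδ : ∀ e : E, algebraMap F E (S.τ e) =
      ∑ i ∈ Finset.range (finrank F E), (fr F E ^ i) (δ * e))
    (a a' : E) (h : SkewAdj S ((tw a 1 : E →ₗ[F] E) + tw a' 2)) :
    a' = -(δ⁻¹ * (fr F E ^ 2) (δ * S.st a)) := by
  have hji : 2 + 1 = finrank F E := by rw [hr3]
  have hij : 1 + 2 = finrank F E := by rw [hr3]
  have hτ : ∀ e : E, S.τ e = Algebra.trace F E (δ * e) := by
    intro e
    apply (algebraMap F E).injective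
    rw [hδ e, trace_eq_sum_fr]
  have hnd := traceForm_nondegenerate F E
  have hzero : ∀ b : E, (∀ x : E, Algebra.trace F E (x * b) = 0) → b = 0 := by
    intro b hb
    apply hnd.1 b
    intro x
    rw [Algebra.traceForm_apply, mul_comm]
    exact hb x
  -- the bracket vanishes
  have hB : ∀ z : E, ((fr F E ^ 2) (δ * a) + δ * S.st a') * (fr F E ^ 2) z +
      ((fr F E ^ 1) (δ * a') + δ * S.st a) * (fr F E ^ 1) z = 0 := by
    intro z
    apply hzero
    intro x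
    have h1 := h x (S.st z)
    rw [hτ, hτ, S.st_st, LinearMap.add_apply, LinearMap.add_apply, tw_apply, tw_apply, tw_apply,
      tw_apply, map_add S.st, map_mul S.st, map_mul S.st, st_fr, st_fr, S.st_st] at h1
    have e1 : Algebra.trace F E (δ * ((a * (fr F E ^ 1) x + a' * (fr F E ^ 2) x) * z)) =
        Algebra.trace F E (x * ((fr F E ^ 2) (δ * a) * (fr F E ^ 2) z)) +
          Algebra.trace F E (x * ((fr F E ^ 1) (δ * a') * (fr F E ^ 1) z)) := by
      have e2 : δ * ((a * (fr F E ^ 1) x + a' * (fr F E ^ 2) x) * z) =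
          (fr F E ^ 1) x * (δ * a * z) + (fr F E ^ 2) x * (δ * a' * z) := by ring
      rw [e2, map_add]
      congr 1
      · rw [← trace_fr 2, map_mul (fr F E ^ 2), fr_fr_cancel hji, map_mul (fr F E ^ 2),
          map_mul (fr F E ^ 2)]
      · rw [← trace_fr 1, map_mul (fr F E ^ 1), fr_fr_cancel hij, map_mul (fr F E ^ 1),
          map_mul (fr F E ^ 1)]
    rw [e1] at h1
    rw [← h1, ← map_add, ← map_add]
    congr 1
    ring
  have h1 := hB 1
  rw [map_one, map_one, mul_one, mul_one] at h1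
  obtain ⟨z, hz⟩ := exists_fr_ne (F := F) (E := E) (i := 1) (j := 2) (by omega)
    (by rw [hr3]; omega)
  have h2 := hB z
  have h3 : ((fr F E ^ 2) (δ * a) + δ * S.st a') * ((fr F E ^ 2) z - (fr F E ^ 1) z) = 0 := by
    have h4 : (fr F E ^ 1) (δ * a') + δ * S.st a = -((fr F E ^ 2) (δ * a) + δ * S.st a') := by
      linear_combination h1
    rw [h4] at h2
    linear_combination h2
  have h5 : (fr F E ^ 2) (δ * a) + δ * S.st a' = 0 :=
    (mul_eq_zero.mp h3).resolve_right (sub_ne_zero.mpr hz)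
  have h6 : S.st a' = -(δ⁻¹ * (fr F E ^ 2) (δ * a)) := by
    field_simp
    linear_combination h5
  have h7 : a' = S.st (S.st a') := (S.st_st a').symm
  rw [h7, h6, map_neg, map_mul, map_inv₀, hδst, st_fr, map_mul, hδst]

/-! ### Assembly -/

/-- generation step: from one two-term element with non-zero first coefficient to all first coefficients -/
theorem coeffGroup_eq_top3 (S : KU n q F E) (hF : Fintype.card F = q ^ 2) (hn : 0 < n)
    [FiniteDimensional F E] (hr3 : finrank F E = 3) (hq : 3 ≤ q) (𝒳 : AddSubgroup (E →ₗ[F] E))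
    (htor : ∀ e : E, e ≠ 0 → ∀ X ∈ 𝒳,
      (LinearMap.mulLeft F (e ^ (q + 1))) ∘ₗ X ∘ₗ (LinearMap.mulLeft F (S.st e ^ (q + 1))) ∈ 𝒳)
    {b b' : E} (hb : b ≠ 0)
    (hX : (tw b 1 : E →ₗ[F] E) + tw b' 2 ∈ 𝒳) (a : E) : a ∈ coeffGroup 𝒳 1 2 := by
  have hgen := gen3 S hF hn hr3 hq
  have hle : AddSubgroup.closure {x : E | ∃ e : E, e ≠ 0 ∧
      x = e ^ (q + 1) * (fr F E ^ 1) (S.st e ^ (q + 1))} ≤
      (coeffGroup 𝒳 1 2).comap (AddMonoidHom.mulRight b) := by
    rw [AddSubgroup.closure_le]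
    rintro x ⟨e, he, rfl⟩
    show _ * b ∈ coeffGroup 𝒳 1 2
    refine ⟨e ^ (q + 1) * (fr F E ^ 2) (S.st e ^ (q + 1)) * b', ?_⟩
    have h := htor e he _ hX
    rwa [LinearMap.add_comp, LinearMap.comp_add, tw_conj, tw_conj] at h
  rw [hgen] at hle
  have h1 : a * b⁻¹ ∈ (coeffGroup 𝒳 1 2).comap (AddMonoidHom.mulRight b) := hle trivial
  have h2 : a * b⁻¹ * b ∈ coeffGroup 𝒳 1 2 := h1
  rwa [inv_mul_cancel_right₀ hb] at h2

/-- **MOD** at degree `3` (`q ≥ 3`) -/
theorem mod_main3 (S : KU n q F E) (hF : Fintype.card F = q ^ 2) (hn : 0 < n)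
    [FiniteDimensional F E] (hr3 : finrank F E = 3) (hq : 3 ≤ q) (𝒳 : AddSubgroup (E →ₗ[F] E))
    (hsk : ∀ a : E, S.st a = -a → LinearMap.mulLeft F a ∈ 𝒳)
    (htor : ∀ e : E, e ≠ 0 → ∀ X ∈ 𝒳,
      (LinearMap.mulLeft F (e ^ (q + 1))) ∘ₗ X ∘ₗ (LinearMap.mulLeft F (S.st e ^ (q + 1))) ∈ 𝒳)
    (hsa : ∀ X ∈ 𝒳, SkewAdj S X) {c₀ : F} {π₀ π₀' : E} (hc₀ : c₀ ≠ 0) (hc₀q : c₀ ^ q = -c₀)
    (hind : ∀ x y : F, x • π₀ + y • π₀' = 0 → x = 0 ∧ y = 0)
    (hX₀ : c₀ • sym2 S π₀ π₀' ∈ 𝒳) :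
    ∀ (π : E) (c : F), c ^ q = -c → c • rk1 S π ∈ 𝒳 := by
  classical
  obtain ⟨δ, hδ0, hδst, hδ⟩ := exists_delta S hF hn
  -- the expansion of the given rank-two element
  obtain ⟨a, ha⟩ : ∃ a : ℕ → E, a = fun i =>
      c₀ • (π₀ * (fr F E ^ i) (δ * S.st π₀') + π₀' * (fr F E ^ i) (δ * S.st π₀)) := ⟨_, rfl⟩
  have hX0 : ∑ i ∈ Finset.range 3, (tw (a i) i : E →ₗ[F] E) ∈ 𝒳 := by
    have h := sym2_expand S hδ c₀ π₀ π₀'
    rw [hr3] at h
    rw [ha, ← h]
    exact hX₀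
  have ha1 : a 1 ≠ 0 := by
    rw [ha]
    exact smul_ne_zero hc₀ (coeff_ne_zero3 S hF hr3 hδ0 hind)
  -- the component `0` of the given element is a skew multiplication
  have ha0 : (tw (a 0) 0 : E →ₗ[F] E) ∈ 𝒳 := by
    rw [tw_zero]
    apply hsk
    rw [ha]
    simp only [pow_zero, AlgHom.one_apply]
    rw [st_smul', hc₀q, map_add, map_mul, map_mul, map_mul, map_mul, S.st_st, S.st_st, hδst,
      neg_smul]
    congr 2
    ring
  have hX1 : (tw (a 1) 1 : E →ₗ[F] E) + tw (a 2) 2 ∈ 𝒳 := by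
    have h := 𝒳.sub_mem hX0 ha0
    have e : ∑ i ∈ Finset.range 3, (tw (a i) i : E →ₗ[F] E) - tw (a 0) 0 =
        tw (a 1) 1 + tw (a 2) 2 := by
      simp only [Finset.sum_range_succ, Finset.sum_range_zero, zero_add]
      abel
    rwa [e] at h
  have hA : ∀ x : E, x ∈ coeffGroup 𝒳 1 2 :=
    coeffGroup_eq_top3 S hF hn hr3 hq 𝒳 htor ha1 hX1
  -- the rank-one maps
  intro π c hcq
  obtain ⟨b, hb⟩ : ∃ b : ℕ → E, b = fun i => c • (π * (fr F E ^ i) (δ * S.st π)) := ⟨_, rfl⟩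
  have hexp : c • rk1 S π = ∑ i ∈ Finset.range 3, (tw (b i) i : E →ₗ[F] E) := by
    have h := rk1_expand S hδ c π
    rw [hr3] at h
    rw [hb, h]
  -- component `0`
  have h0 : (tw (b 0) 0 : E →ₗ[F] E) ∈ 𝒳 := by
    rw [tw_zero]
    apply hsk
    rw [hb]
    simp only [pow_zero, AlgHom.one_apply]
    rw [Algebra.smul_def, map_mul, S.st_alg, hcq, map_mul, map_mul, S.st_st, hδst, map_neg]
    ring
  -- components `1, 2`
  have h12 : (tw (b 1) 1 : E →ₗ[F] E) + tw (b 2) 2 ∈ 𝒳 := by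
    obtain ⟨a', ha'⟩ := hA (b 1)
    have h1 := ulemma3 S hF hn hr3 hδ0 hδst hδ (b 1) a' (hsa _ ha')
    have h2 := iota_coeff3 S hF hr3 hδ0 hδst hcq π
    have h3 : a' = b 2 := by
      rw [h1, hb]
      exact h2
    rwa [h3] at ha'
  rw [hexp]
  have hsum : ∑ i ∈ Finset.range 3, (tw (b i) i : E →ₗ[F] E) =
      tw (b 0) 0 + (tw (b 1) 1 + tw (b 2) 2) := by
    simp only [Finset.sum_range_succ, Finset.sum_range_zero, zero_add]
    abel
  rw [hsum]
  exact 𝒳.add_mem h0 h12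

end Cfsg.Agent.Lib.Helper13.C3cMod
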