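import Mathlib
import Cfsg.Prelude.Def_Classical
import Cfsg.Prelude.Def_ClassicalGeometry
import Cfsg.Prelude.Def_GeometricClasses
import Cfsg.Agent.Lib.Helper5.SUMax
import Cfsg.Agent.Lib.Helper5.UForm
import Cfsg.Agent.Lib.Helper22.C3LDefs
import Cfsg.Agent.Lib.Helper22.C3LTool
import Cfsg.Agent.Lib.Helper16.C3uDefs
import Cfsg.Agent.Lib.Helper13.C3qDefs
import Cfsg.Agent.Lib.Helper20.C3uL0
import Cfsg.Agent.Lib.Helper17.C3uPx
import Cfsg.Agent.Lib.Helper26.C3uW1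
import Cfsg.Agent.Lib.Helper6.C3uE1
import Cfsg.Agent.Lib.Helper16.C3u2TR2
import Cfsg.Agent.Lib.Helper13.C3cB
import Cfsg.Agent.Lib.Helper13.C3cMod
import Cfsg.Agent.Lib.Helper13.C3cADJ
import Cfsg.Agent.Lib.Helper4.C3qTOR1
import Cfsg.Agent.Lib.Helper16.C3qTOR2
import Cfsg.Agent.Lib.Helper16.C3qFIN

/-!
S5801 conjunct (7): rank-one unitary C3, `GU_2(q^3).3` is maximal in `SU_6(q)` for `q ≥ 3`, helper13:
`main3` and `maximal_cubic`.  Port of `Helper13.C3qMain` (S5840 conjunct (7), `r = 5`) to `r = 3`: stage (A)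
helper6 (`C3u2AMain`, generic), GROWTH `Helper13.C3cB`, ADJ `Helper13.C3cADJ`, TOR helper4/helper16 (generic),
MOD `Helper13.C3cMod` (this is where `q ≥ 3` is used), FIN helper16 (generic).
-/

set_option autoImplicit false
set_option linter.unusedSectionVars false
set_option linter.unusedVariables false

namespace Cfsg.Agent.Lib.Helper13.C3cMain
open Cfsg Matrix Module Cfsg.Agent.Lib.Helper5.SpMax Cfsg.Agent.Lib.Helper5.SUMax
  Cfsg.Agent.Lib.Helper22.C3L Cfsg.Agent.Lib.Helper16.C3u Cfsg.Agent.Lib.Helper13.C3q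
open Cfsg.Agent.Lib.Helper13.C3cADJ (exists_sym2_3)
open Cfsg.Agent.Lib.Helper4.C3qLeaf (torus_conj)
open Cfsg.Agent.Lib.Helper16.C3qLeaf (skewAdj_of_mem_XX line_mem_Sset)

universe u
variable {F : Type u} [Field F] [Fintype F] {n q : ℕ} {E : Type u} [Field E] [Algebra F E]

local notation "𝕍" => (Fin n → F)
local notation "𝕄" => Matrix (Fin n) (Fin n) F
local notation "ℍ" => (Cfsg.GU n F q ⊓ Cfsg.Geo.specialLinear (Fin n) F)

theorem main3 (S : KU n q F E) (hF : Fintype.card F = q ^ 2) (hq : 3 ≤ q) (hr3 : finrank F E = 3)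
    (hd : n = 6) (M : Subgroup (GL (Fin n) F)) (hMS : M ≤ ℍ)
    (hM : ∀ g ∈ ℍ, (∀ e : E, (g : 𝕄) * S.ρ e = S.ρ e * (g : 𝕄)) → g ∈ M)
    (hnot : ¬ M ≤ Cfsg.Geo.subalgebraNormalizer S.ρ.range) : ℍ ≤ M := by
  haveI : FiniteDimensional F E := Module.finite_of_finrank_pos (by omega)
  have hd2 : 2 * finrank F E = n := by omega
  have hd3 : n = 2 * finrank F E := by omega
  have hn0 : 0 < n := by omega
  obtain ⟨v₀, hv₀, hiso⟩ := Cfsg.Agent.Lib.Helper26.C3uLeaf.exists_iso S hF (by omega)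
  obtain ⟨g, hg, hadj⟩ :=
    Cfsg.Agent.Lib.Helper13.C3cB.exists_adjacent3 S hF hr3 hd M hMS hM hv₀ hiso hnot
  obtain ⟨c₀, π₀, π₀', hc₀, hc₀q, hind, hX₀⟩ :=
    exists_sym2_3 S hF hr3 hd M hMS hM hv₀ hiso hg hadj
  have hall := Cfsg.Agent.Lib.Helper13.C3cMod.mod_main3 S hF hn0 hr3 hq
    (XX S.ρ M (lam S v₀) v₀ (lam_self S hiso))
    (fun a ha => mulLeft_mem_XX S hiso (hM _ (S.kt_mem hiso ha) (S.kt_comm hiso a)))
    (fun e he X hX => torus_conj S hF hd2 M hMS hM hv₀ hiso he hX)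
    (fun X hX => skewAdj_of_mem_XX S hF hd2 M hMS hv₀ hiso hX) hc₀ hc₀q hind hX₀
  have hline := line_mem_Sset S hF hd2 M hv₀ hiso hall
  have hiso_all : ∀ v : 𝕍, S.fE v v = 0 → v ∈ Sset hF M := by
    intro v hv
    by_cases hv0 : v = 0
    · have := hline 0
      rwa [act_zero, ← hv0] at this
    · obtain ⟨s, hs, hsc, hsv⟩ :=
        Cfsg.Agent.Lib.Helper16.C3u2Leaf.exists_cent_map_line S hF hd3 hv0 hv hv₀ hiso
      obtain ⟨e, he⟩ := mem_line.mp hsv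
      have h1 : (s : 𝕄) *ᵥ v ∈ Sset hF M := by rw [← he]; exact hline e
      have h2 := Sset_mulVec_mem hF (M.inv_mem (hM s hs hsc))
        ((Cfsg.GU n F q).inv_mem hs.1) h1
      rwa [inv_mul_mulVec] at h2
  have hall' := Cfsg.Agent.Lib.Helper6.C3uLeaf.all_mem_Sset S hF (by omega) M hiso_all
  exact le_of_forall_mem_Sset hF (by omega) (by omega) M hall'

/-- the maximality statement for a cubic adjoint-closed subfield, `n = 6`, `q ≥ 3`, general `n` form -/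
theorem maximal_cubic' (hF : Fintype.card F = q ^ 2) (hq : 3 ≤ q) (hd : n = 6)
    (K : Subalgebra F 𝕄) (hK : Cfsg.Geo.IsFieldSubalgebra 3 K)
    (hac : Cfsg.Geo.IsAdjointClosedFor (Cfsg.hermForm n F q) K) :
    Cfsg.Geo.IsMaximalIn ℍ (Cfsg.Geo.subalgebraNormalizer K ⊓ ℍ) := by
  classical
  obtain ⟨E, instE, instA, S, hρ, hfr⟩ :=
    Cfsg.Agent.Lib.Helper20.C3uLeaf.exists_KU hF (by omega : 0 < n) 3 K hK hac
  have hcomm : ∀ g ∈ ℍ, (∀ e : E, (g : 𝕄) * S.ρ e = S.ρ e * (g : 𝕄)) →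
      g ∈ Cfsg.Geo.subalgebraNormalizer K ⊓ ℍ := by
    intro g hg hc
    refine ⟨?_, hg⟩
    have e1 : ((g⁻¹ : GL (Fin n) F) : 𝕄) * (g : 𝕄) = 1 := by
      rw [← Units.val_mul, inv_mul_cancel, Units.val_one]
    have e2 : (g : 𝕄) * ((g⁻¹ : GL (Fin n) F) : 𝕄) = 1 := by
      rw [← Units.val_mul, mul_inv_cancel, Units.val_one]
    have key : ∀ k ∈ K, (g : 𝕄) * k * ((g⁻¹ : GL (Fin n) F) : 𝕄) = k := by
      intro k hk
      rw [← hρ] at hk
      obtain ⟨e, rfl⟩ := hk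
      change (g : 𝕄) * S.ρ e * _ = S.ρ e
      rw [hc e, mul_assoc, e2, mul_one]
    intro k
    constructor
    · intro hk
      rw [key k hk]; exact hk
    · intro hk
      have hk' := hk
      rw [← hρ] at hk'
      obtain ⟨e, he⟩ := hk'
      have h3 : S.ρ e = (g : 𝕄) * k * ((g⁻¹ : GL (Fin n) F) : 𝕄) := he
      have h2 : k = S.ρ e := by
        calc k = ((g⁻¹ : GL (Fin n) F) : 𝕄) * ((g : 𝕄) * k * ((g⁻¹ : GL (Fin n) F) : 𝕄)) *
              (g : 𝕄) := by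
              simp only [mul_assoc, e1, mul_one]
              simp only [← mul_assoc, e1, one_mul]
          _ = ((g⁻¹ : GL (Fin n) F) : 𝕄) * S.ρ e * (g : 𝕄) := by rw [h3]
          _ = S.ρ e := by rw [mul_assoc, ← hc e, ← mul_assoc, e1, one_mul]
      rw [h2, ← hρ]
      exact ⟨e, rfl⟩
  refine ⟨?_, ?_⟩
  · refine lt_of_le_of_ne inf_le_right ?_
    intro heq
    obtain ⟨g, hg, hgN⟩ :=
      Cfsg.Agent.Lib.Helper17.C3uLeaf.exists_not_mem_normalizer S hF (by omega) (by omega)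
    rw [hρ] at hgN
    apply hgN
    have : g ∈ Cfsg.Geo.subalgebraNormalizer K ⊓ ℍ := by rw [heq]; exact hg
    exact this.1
  · intro M hNM hMS
    by_cases hMN : M ≤ Cfsg.Geo.subalgebraNormalizer K
    · left
      exact le_antisymm (le_inf hMN hMS) hNM
    · right
      have hM : ∀ g ∈ ℍ, (∀ e : E, (g : 𝕄) * S.ρ e = S.ρ e * (g : 𝕄)) → g ∈ M :=
        fun g hg hc => hNM (hcomm g hg hc)
      have hnot : ¬ M ≤ Cfsg.Geo.subalgebraNormalizer S.ρ.range := by rw [hρ]; exact hMN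
      exact le_antisymm hMS (main3 S hF hq hfr hd M hMS hM hnot)

/-- **S5801 conjunct (7)**: the normaliser of an adjoint-closed cubic subfield of the matrix algebra is maximal
in `SU_6(q)`, `q ≥ 3` -/
theorem maximal_cubic (hF : Fintype.card F = q ^ 2) (hq : 3 ≤ q)
    (K : Subalgebra F (Matrix (Fin 6) (Fin 6) F)) (hK : Cfsg.Geo.IsFieldSubalgebra 3 K)
    (hac : Cfsg.Geo.IsAdjointClosedFor (Cfsg.hermForm 6 F q) K) :
    Cfsg.Geo.IsMaximalIn (Cfsg.GU 6 F q ⊓ Cfsg.Geo.specialLinear (Fin 6) F)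
      (Cfsg.Geo.subalgebraNormalizer K ⊓ (Cfsg.GU 6 F q ⊓ Cfsg.Geo.specialLinear (Fin 6) F)) :=
  maximal_cubic' hF hq rfl K hK hac

end Cfsg.Agent.Lib.Helper13.C3cMain
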