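import Mathlib
import Cfsg.Prelude.Def_ClassicalGeometry
import Cfsg.Prelude.Def_GeometricClasses
import Cfsg.Agent.Lib.Helper18.T23.H2.SOTDefs
import Cfsg.Agent.Lib.Helper18.T23.H2.SOTGDefs
import Cfsg.Agent.Lib.Helper18.T23.H27.SOTLADefs
import Cfsg.Agent.Lib.Helper18.T23.H27.SOTLAMaincore
import Cfsg.Agent.Lib.Helper18.T23.H27.SOTLAFCcore
import Cfsg.Agent.Lib.Helper18.T23.H22.SOTLAFCA
import Cfsg.Agent.Lib.Helper18.T23.H1.SOTLAR1
import Cfsg.Agent.Lib.Helper18.T23.H1.SOTTools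
import Cfsg.Agent.Lib.Helper18.T23.H1.SOTA2
import Cfsg.Agent.Lib.Helper18.T23.H9.SOTA1
import Cfsg.Agent.Lib.Helper18.T23.H9.SOTX1
import Cfsg.Agent.Lib.Helper18.T23.H4.SOTS
import Cfsg.Agent.Lib.Helper18.T23.H13.SOTGMain
import Cfsg.Agent.Lib.Helper18.T23.H7.SOTT
import Cfsg.Agent.Lib.Helper7.SpTN

/-!
# S5804 conjunct (7) (owner helper18, market C4): leaf N5 `nonopp_false` (helper13)

`n5_core`: pure linear algebra on `(F^b, fB G)`, `b` odd; `nonopp_false`: the exact leaf of `notes/S5804_C4_leaves.lean`.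
-/

set_option autoImplicit false
set_option linter.unusedSectionVars false
set_option linter.unusedVariables false

namespace Cfsg.Agent.Lib.Helper13.C4Leaf
open Matrix Module
open Cfsg.Agent.Lib.Helper25.Tens Cfsg.Agent.Lib.Helper25.SpT Cfsg.Agent.Lib.Helper19.OSub
open Cfsg.Agent.Lib.Helper18.T23.H2.SOT Cfsg.Agent.Lib.Helper18.T23.H27.SOTLA
open scoped Kronecker

variable {F : Type*} [Field F] [Fintype F] {a b : ℕ} {G : Matrix (Fin b) (Fin b) F}
  {M : Subgroup (GL (Idx a b) F)}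


/-- the linear-algebra core of N5: a similitude `β'` of a nondegenerate symmetric form on `F^b`, `b` odd, which is `1` on `W`
and `μ⁻¹` modulo `W` (`0 ≠ W ≠ ⊤`, `μ² ≠ 1`) does not exist -/
theorem n5_core {b : ℕ} (hbodd : Odd b) {G : Matrix (Fin b) (Fin b) F} (hsymm : Gᵀ = G) (hnd : G.det ≠ 0)
    (β' : Matrix (Fin b) (Fin b) F) (W : Submodule F (Fin b → F)) (hW0 : W ≠ ⊥) (hWtop : W ≠ ⊤)
    (μ : F) (hμ0 : μ ≠ 0) (hμ : μ ^ 2 ≠ 1) (ν : F)
    (hsim : ∀ y y' : Fin b → F, fB G (β' *ᵥ y) (β' *ᵥ y') = ν * fB G y y')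
    (hfix : ∀ y ∈ W, β' *ᵥ y = y) (hmod : ∀ y : Fin b → F, β' *ᵥ y - μ⁻¹ • y ∈ W) : False := by
  classical
  have hμ1 : μ ≠ 1 := by rintro rfl; exact hμ (one_pow 2)
  have hμm1 : μ ≠ -1 := by rintro rfl; exact hμ (by ring)
  have hc : 1 - μ⁻¹ ≠ 0 := by
    intro h
    apply hμ1
    have : μ⁻¹ = 1 := by linear_combination -h
    rw [← inv_inv μ, this, inv_one]
  have hc' : 1 + μ⁻¹ ≠ 0 := by
    intro h
    apply hμm1
    have : μ⁻¹ = -1 := by linear_combination h
    rw [← inv_inv μ, this]; norm_num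
  -- `u y = β' y - μ⁻¹ y`
  obtain ⟨u, hu⟩ : ∃ u : (Fin b → F) → (Fin b → F), ∀ y, u y = β' *ᵥ y - μ⁻¹ • y := ⟨_, fun _ => rfl⟩
  have huW : ∀ y, u y ∈ W := fun y => by rw [hu]; exact hmod y
  have hβ : ∀ y, β' *ᵥ y = μ⁻¹ • y + u y := fun y => by rw [hu]; abel
  have hcomm : ∀ y y', fB G y y' = fB G y' y := fun y y' => fB_comm G hsymm y y'
  -- (*)
  have hstar : ∀ z ∈ W, ∀ y, (ν - μ⁻¹) * fB G z y = fB G z (u y) := by
    intro z hz y
    have h1 := hsim z y
    rw [hfix z hz, hβ y, fB_add_right, fB_smul_right] at h1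
    linear_combination -h1
  -- (E)
  have hE : ∀ y y', μ⁻¹ * μ⁻¹ * fB G y y' + μ⁻¹ * fB G y (u y') + μ⁻¹ * fB G (u y) y' + fB G (u y) (u y') =
      ν * fB G y y' := by
    intro y y'
    have h1 := hsim y y'
    rw [hβ y, hβ y', fB_add_left, fB_add_right, fB_add_right, fB_smul_left, fB_smul_left, fB_smul_right,
      fB_smul_right] at h1
    linear_combination h1
  by_cases hν : ν = 1
  · -- case `ν = 1`: `u` is injective with range in `W`
    have hkey : ∀ y y', fB G (u y) (u y') = (1 - μ⁻¹) * (1 - μ⁻¹) * fB G y y' := by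
      intro y y'
      have h1 := hstar (u y) (huW y) y'
      have h2 := hstar (u y') (huW y') y
      have h3 := hE y y'
      rw [hν] at h1 h2 h3
      rw [hcomm y (u y')] at h3
      rw [hcomm (u y') (u y)] at h2
      have h4 : (1 + μ⁻¹) * (fB G (u y) (u y') - (1 - μ⁻¹) * (1 - μ⁻¹) * fB G y y') = 0 := by
        linear_combination (1 - μ⁻¹) * h3 - μ⁻¹ * h1 - μ⁻¹ * h2
      have := (mul_eq_zero.mp h4).resolve_left hc'
      linear_combination this
    -- the matrix of `u`
    have huM : ∀ y, u y = (β' - μ⁻¹ • (1 : Matrix (Fin b) (Fin b) F)) *ᵥ y := by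
      intro y
      rw [hu, Matrix.sub_mulVec, Matrix.smul_mulVec, Matrix.one_mulVec]
    have hinj : Function.Injective (Matrix.toLin' (β' - μ⁻¹ • (1 : Matrix (Fin b) (Fin b) F))) := by
      rw [← LinearMap.ker_eq_bot, LinearMap.ker_eq_bot']
      intro y hy
      rw [Matrix.toLin'_apply, ← huM] at hy
      apply Cfsg.Agent.Lib.Helper18.T23.H1.SOTLeaf.eq_zero_of_fB hnd
      intro y'
      have h1 := hkey y' y
      rw [hy] at h1
      have h2 : fB G (u y') 0 = 0 := by
        unfold fB; simp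
      rw [h2] at h1
      have := (mul_eq_zero.mp h1.symm).resolve_left (mul_ne_zero hc hc)
      exact this
    have hsurj := LinearMap.injective_iff_surjective.mp hinj
    apply hWtop
    rw [eq_top_iff]
    intro v _
    obtain ⟨y, hy⟩ := hsurj v
    rw [Matrix.toLin'_apply, ← huM] at hy
    rw [← hy]; exact huW y
  · -- case `ν ≠ 1`
    have hti : ∀ z ∈ W, ∀ z' ∈ W, fB G z z' = 0 := by
      intro z hz z' hz'
      have h1 := hsim z z'
      rw [hfix z hz, hfix z' hz'] at h1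
      have h2 : (1 - ν) * fB G z z' = 0 := by linear_combination h1
      exact (mul_eq_zero.mp h2).resolve_left (fun h => hν (by linear_combination -h))
    have hνμ : ν = μ⁻¹ := by
      obtain ⟨z, hzW, hz0⟩ := Submodule.exists_mem_ne_zero_of_ne_bot hW0
      have hex : ∃ y, fB G z y ≠ 0 := by
        by_contra hcon
        push Not at hcon
        apply hz0
        apply Cfsg.Agent.Lib.Helper18.T23.H1.SOTLeaf.eq_zero_of_fB hnd
        intro y'
        rw [hcomm]; exact hcon y'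
      obtain ⟨y, hy⟩ := hex
      have h1 := hstar z hzW y
      rw [hti z hzW (u y) (huW y)] at h1
      have := (mul_eq_zero.mp h1).resolve_right hy
      linear_combination this
    -- (***)
    have h3s : ∀ y y', (1 - μ⁻¹) * fB G y y' = fB G y (u y') + fB G (u y) y' := by
      intro y y'
      have h1 := hE y y'
      rw [hti (u y) (huW y) (u y') (huW y'), hνμ] at h1
      have hμi : μ⁻¹ ≠ 0 := inv_ne_zero hμ0
      have h2 : μ⁻¹ * ((1 - μ⁻¹) * fB G y y' - (fB G y (u y') + fB G (u y) y')) = 0 := by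
        linear_combination -h1
      have := (mul_eq_zero.mp h2).resolve_left hμi
      linear_combination this
    -- the bilinear form
    let B : LinearMap.BilinForm F (Fin b → F) := Matrix.toBilin' G
    have hB : ∀ y y', B y y' = fB G y y' := by
      intro y y'
      simp only [B, Matrix.toBilin'_apply']
      rfl
    have hBnd : B.Nondegenerate := Matrix.Nondegenerate.toBilin' (Matrix.nondegenerate_of_det_ne_zero hnd)
    have hBrefl : B.IsRefl := by
      intro x y hxy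
      rw [hB] at hxy ⊢
      rw [hcomm]; exact hxy
    have hmemO : ∀ y, y ∈ B.orthogonal W ↔ ∀ z ∈ W, fB G z y = 0 := by
      intro y
      rw [LinearMap.BilinForm.mem_orthogonal_iff]
      constructor
      · intro h z hz
        have := h z hz
        change B z y = 0 at this
        rw [hB] at this
        exact this
      · intro h z hz
        change B z y = 0
        rw [hB]
        exact h z hz
    have hWle : W ≤ B.orthogonal W := by
      intro y hy
      rw [hmemO]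
      intro z hz
      exact hti z hz y hy
    have hOti : ∀ y ∈ B.orthogonal W, ∀ y' ∈ B.orthogonal W, fB G y y' = 0 := by
      intro y hy y' hy'
      have h1 := h3s y y'
      rw [hcomm y (u y'), (hmemO y).mp hy (u y') (huW y'), (hmemO y').mp hy' (u y) (huW y), add_zero] at h1
      exact (mul_eq_zero.mp h1).resolve_left hc
    have hOle : B.orthogonal W ≤ W := by
      have h1 : B.orthogonal W ≤ B.orthogonal (B.orthogonal W) := by
        intro y hy
        rw [LinearMap.BilinForm.mem_orthogonal_iff]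
        intro z hz
        change B z y = 0
        rw [hB]
        exact hOti z hz y hy
      rwa [LinearMap.BilinForm.orthogonal_orthogonal hBnd hBrefl] at h1
    have heq : B.orthogonal W = W := le_antisymm hOle hWle
    have hfr := LinearMap.BilinForm.finrank_orthogonal hBnd W
    rw [heq, Module.finrank_fin_fun] at hfr
    have hle : Module.finrank F W ≤ b := by
      have := Submodule.finrank_le W
      rwa [Module.finrank_fin_fun] at this
    obtain ⟨k, hk⟩ := hbodd
    omega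

open Cfsg.Agent.Lib.Helper18.T23.H1.SOTLeaf in
/-- **N5** -/
theorem nonopp_false {G : Matrix (Fin 3) (Fin 3) F} (h : Ctx 2 3 G) {o o' : Fin 2}
    (ho : o.val = 0) (ho' : o'.val = 1) (K : Submodule F (Idx 2 3 → F))
    (hKR : K ≤ Rs (Pi.single o 1)) (hK0 : K ≠ ⊥) (hKne : K ≠ Rs (Pi.single o 1))
    (μ : F) (hμ0 : μ ≠ 0) (hμ : μ ^ 2 ≠ 1) (T : GL (Idx 2 3) F) (hTK : T ∈ KG 2 3 F)
    (hTS : T ∈ SpV G) (hfix : ∀ v ∈ K, mv T v = v)
    (hb : ∀ y : Fin 3 → F, mv T (pt (Pi.single o 1) y) - μ⁻¹ • pt (Pi.single o 1) y ∈ K) :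
    False := by
  classical
  obtain ⟨α, β, hT⟩ := hTK
  have hTkel : T = kel α β := Units.ext hT
  have hoo' : o' ≠ o := by
    intro hh
    rw [hh] at ho'
    omega
  have hcases : ∀ i : Fin 2, i = o ∨ i = o' := by
    intro i
    have := i.2
    by_cases hi : i.val = 0
    · left; exact Fin.ext (by rw [hi, ho])
    · right; exact Fin.ext (by rw [ho']; omega)
  obtain ⟨e, he⟩ : ∃ e : Fin 2 → F, e = Pi.single o 1 := ⟨_, rfl⟩
  rw [← he] at hKR hKne hb
  have he0 : e ≠ 0 := by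
    intro hh
    have := congrFun hh o
    rw [he, Pi.single_eq_same] at this
    exact one_ne_zero this
  have heo' : e o' = 0 := by rw [he, Pi.single_eq_of_ne hoo']
  have heo : e o = 1 := by rw [he, Pi.single_eq_same]
  have hmvpt : ∀ (x : Fin 2 → F) (y : Fin 3 → F), mv T (pt x y) =
      pt ((α : Matrix (Fin 2) (Fin 2) F) *ᵥ x) ((β : Matrix (Fin 3) (Fin 3) F) *ᵥ y) := by
    intro x y
    rw [hTkel]
    exact kel_mulVec_pt α β x y
  have hinj := ptR_injective (b := 3) he0
  -- `W`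
  obtain ⟨W, hW⟩ : ∃ W : Submodule F (Fin 3 → F), W = K.comap (ptR e) := ⟨_, rfl⟩
  have hmemW : ∀ y, y ∈ W ↔ pt e y ∈ K := by
    intro y
    rw [hW, Submodule.mem_comap, ptR_apply]
  have hW0 : W ≠ ⊥ := by
    obtain ⟨k, hkK, hk0⟩ := Submodule.exists_mem_ne_zero_of_ne_bot hK0
    obtain ⟨y, hy⟩ := mem_Rs.mp (hKR hkK)
    intro hh
    have hyW : y ∈ W := by rw [hmemW, hy]; exact hkK
    rw [hh, Submodule.mem_bot] at hyW
    apply hk0
    rw [← hy, hyW, pt_zero_right]
  have hWtop : W ≠ ⊤ := by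
    intro hh
    apply hKne
    apply le_antisymm hKR
    intro v hv
    obtain ⟨y, hy⟩ := mem_Rs.mp hv
    rw [← hy, ← hmemW, hh]
    exact Submodule.mem_top
  -- `α e = lam • e`
  have hαe : ∃ lam : F, (α : Matrix (Fin 2) (Fin 2) F) *ᵥ e = lam • e := by
    obtain ⟨y₁, hy₁⟩ : ∃ y₁, y₁ ∉ W := by
      by_contra hcon
      push Not at hcon
      exact hWtop (eq_top_iff.mpr (fun y _ => hcon y))
    have hy₁0 : y₁ ≠ 0 := by
      rintro rfl
      exact hy₁ W.zero_mem
    have h1 := hKR (hb y₁)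
    rw [hmvpt] at h1
    have h2 : pt ((α : Matrix (Fin 2) (Fin 2) F) *ᵥ e) ((β : Matrix (Fin 3) (Fin 3) F) *ᵥ y₁) ∈ Rs (b := 3) e := by
      have h3 := (Rs (b := 3) e).add_mem h1 ((Rs (b := 3) e).smul_mem μ⁻¹ (pt_mem_Rs e y₁))
      rwa [sub_add_cancel] at h3
    obtain ⟨w, hw⟩ := mem_Rs.mp h2
    have hβy : (β : Matrix (Fin 3) (Fin 3) F) *ᵥ y₁ ≠ 0 := by
      intro hh
      apply hy₁0
      have := congrArg (fun v => ((β⁻¹ : GL (Fin 3) F) : Matrix (Fin 3) (Fin 3) F) *ᵥ v) hh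
      simp only [Matrix.mulVec_mulVec, Matrix.mulVec_zero] at this
      rwa [← Units.val_mul, inv_mul_cancel, Units.val_one, Matrix.one_mulVec] at this
    obtain ⟨l, hl⟩ : ∃ l, ((β : Matrix (Fin 3) (Fin 3) F) *ᵥ y₁) l ≠ 0 := by
      by_contra hcon
      push Not at hcon
      exact hβy (funext hcon)
    have h4 := congrFun hw (o', l)
    simp only [pt] at h4
    rw [heo', zero_mul] at h4
    have h5 : ((α : Matrix (Fin 2) (Fin 2) F) *ᵥ e) o' = 0 := by
      rcases mul_eq_zero.mp h4.symm with h6 | h6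
      · exact h6
      · exact absurd h6 hl
    refine ⟨((α : Matrix (Fin 2) (Fin 2) F) *ᵥ e) o, ?_⟩
    funext i
    rcases hcases i with rfl | rfl
    · rw [Pi.smul_apply, smul_eq_mul, heo, mul_one]
    · rw [Pi.smul_apply, smul_eq_mul, heo', mul_zero, h5]
  obtain ⟨lam, hlam⟩ := hαe
  have hTe : ∀ y, mv T (pt e y) = pt e ((lam • (β : Matrix (Fin 3) (Fin 3) F)) *ᵥ y) := by
    intro y
    rw [hmvpt, hlam, pt_smul_left, ← pt_smul_right, Matrix.smul_mulVec]
  -- the similitude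
  rw [hTkel] at hTS
  obtain ⟨μ', hμ'0, hα, hβ⟩ := Cfsg.Agent.Lib.Helper18.T23.H4.SOTLeaf.sim_of_kel_mem h α β hTS
  apply n5_core (by decide : Odd 3) h.symm h.nd (lam • (β : Matrix (Fin 3) (Fin 3) F)) W hW0 hWtop μ hμ0 hμ
    (lam * lam * μ'⁻¹)
  · intro y y'
    rw [Matrix.smul_mulVec, Matrix.smul_mulVec, fB_smul_left, fB_smul_right, hβ]
    ring
  · intro y hy
    have h1 := hfix _ ((hmemW y).mp hy)
    rw [hTe] at h1
    exact hinj h1
  · intro y
    rw [hmemW]
    have h1 : pt e ((lam • (β : Matrix (Fin 3) (Fin 3) F)) *ᵥ y - μ⁻¹ • y) =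
        mv T (pt e y) - μ⁻¹ • pt e y := by
      rw [hTe, ← pt_smul_right]
      have h2 := pt_add_right e ((lam • (β : Matrix (Fin 3) (Fin 3) F)) *ᵥ y - μ⁻¹ • y) (μ⁻¹ • y)
      rw [sub_add_cancel] at h2
      rw [h2]; abel
    rw [h1]
    exact hb y

end Cfsg.Agent.Lib.Helper13.C4Leaf
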