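import Mathlib
import Cfsg.Prelude.Def_ClassicalGeometry
import Cfsg.Prelude.Def_GeometricClasses
import Cfsg.Agent.Lib.Helper18.T23.H2.SOTDefs
import Cfsg.Agent.Lib.Helper18.T23.H2.SOTGDefs
import Cfsg.Agent.Lib.Helper18.T23.H27.SOTLADefs
import Cfsg.Agent.Lib.Helper18.T23.H27.SOTLAMaincore
import Cfsg.Agent.Lib.Helper18.T23.H27.SOTLAFCcore
import Cfsg.Agent.Lib.Helper18.T23.H22.SOTLAFCA
import Cfsg.Agent.Lib.Helper18.T23.H1.SOTLAR1
import Cfsg.Agent.Lib.Helper18.T23.H1.SOTTools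
import Cfsg.Agent.Lib.Helper18.T23.H1.SOTA2
import Cfsg.Agent.Lib.Helper18.T23.H9.SOTA1
import Cfsg.Agent.Lib.Helper18.T23.H9.SOTX1
import Cfsg.Agent.Lib.Helper18.T23.H4.SOTS
import Cfsg.Agent.Lib.Helper18.T23.H13.SOTGMain
import Cfsg.Agent.Lib.Helper18.T23.H7.SOTT
import Cfsg.Agent.Lib.Helper7.SpTN

/-!
# S5804 conjunct (7) (owner helper18, market C4): leaf N6 `opp_fibre` (helper13)

`kg_row13`: the `e_o`-row of a Kronecker element acting as a scalar on the fibre `e_o ⊗ B`;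
`opp_fibre`: the exact leaf of `notes/S5804_C4_leaves.lean`.
-/

set_option autoImplicit false
set_option linter.unusedSectionVars false
set_option linter.unusedVariables false

namespace Cfsg.Agent.Lib.Helper13.C4Leaf
open Matrix Module
open Cfsg.Agent.Lib.Helper25.Tens Cfsg.Agent.Lib.Helper25.SpT Cfsg.Agent.Lib.Helper19.OSub
open Cfsg.Agent.Lib.Helper18.T23.H2.SOT Cfsg.Agent.Lib.Helper18.T23.H27.SOTLA
open scoped Kronecker

variable {F : Type*} [Field F] [Fintype F] {a b : ℕ} {G : Matrix (Fin b) (Fin b) F}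
  {M : Subgroup (GL (Idx a b) F)}


/-- the `e_o`-row of a Kronecker element which acts as the scalar `m` on the fibre `e_o ⊗ B` -/
theorem kg_row13 {b : ℕ} (hb : 0 < b) (T : GL (Idx 2 b) F) (hTK : T ∈ KG 2 b F) (m : F) (hm : m ≠ 0)
    (hT : ∀ y : Fin b → F, mv T (pt (Pi.single (0 : Fin 2) 1) y) = m • pt (Pi.single (0 : Fin 2) 1) y) :
    ∃ t : F, ∀ (v : Idx 2 b → F) (l : Fin b), (mv T v) (0, l) = m * v (0, l) + t * v (1, l) := by
  classical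
  obtain ⟨α, β, hTv⟩ := hTK
  have hαβ : ∀ l l' : Fin b, (α : Matrix (Fin 2) (Fin 2) F) 0 0 * (β : Matrix (Fin b) (Fin b) F) l l' =
      if l = l' then m else 0 := by
    intro l l'
    have h1 := congrFun (hT (Pi.single l' 1)) (0, l)
    have h2 : mv T (pt (Pi.single (0 : Fin 2) 1) (Pi.single l' 1)) =
        pt ((α : Matrix (Fin 2) (Fin 2) F) *ᵥ Pi.single 0 1) ((β : Matrix (Fin b) (Fin b) F) *ᵥ Pi.single l' 1) := by
      change (T : Matrix (Idx 2 b) (Idx 2 b) F) *ᵥ _ = _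
      rw [hTv]
      exact kron_mulVec_pt _ _ _ _
    rw [h2] at h1
    simp only [pt, Matrix.mulVec_single_one, Matrix.col_apply, Pi.smul_apply, smul_eq_mul,
      Pi.single_eq_same, one_mul] at h1
    rw [h1]
    by_cases hll : l = l'
    · subst hll; rw [Pi.single_eq_same, if_pos rfl, mul_one]
    · rw [Pi.single_eq_of_ne hll, if_neg hll, mul_zero]
  have hα0 : (α : Matrix (Fin 2) (Fin 2) F) 0 0 ≠ 0 := by
    intro h0
    have := hαβ ⟨0, hb⟩ ⟨0, hb⟩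
    rw [h0, zero_mul, if_pos rfl] at this
    exact hm this.symm
  have hβ : ∀ l l' : Fin b, (β : Matrix (Fin b) (Fin b) F) l l' =
      if l = l' then m / (α : Matrix (Fin 2) (Fin 2) F) 0 0 else 0 := by
    intro l l'
    have := hαβ l l'
    by_cases hll : l = l'
    · rw [if_pos hll] at this ⊢
      field_simp
      linear_combination this
    · rw [if_neg hll] at this ⊢
      exact (mul_eq_zero.mp this).resolve_left hα0
  refine ⟨(α : Matrix (Fin 2) (Fin 2) F) 0 1 * (m / (α : Matrix (Fin 2) (Fin 2) F) 0 0), ?_⟩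
  intro v l
  change ((T : Matrix (Idx 2 b) (Idx 2 b) F) *ᵥ v) (0, l) = _
  rw [hTv]
  simp only [Matrix.mulVec, dotProduct, Matrix.kroneckerMap_apply, Fintype.sum_prod_type, Fin.sum_univ_two]
  have hs : ∀ i : Fin 2, ∑ x : Fin b, (α : Matrix (Fin 2) (Fin 2) F) 0 i * (β : Matrix (Fin b) (Fin b) F) l x * v (i, x) =
      (α : Matrix (Fin 2) (Fin 2) F) 0 i * (m / (α : Matrix (Fin 2) (Fin 2) F) 0 0) * v (i, l) := by
    intro i
    rw [Finset.sum_eq_single l]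
    · rw [hβ l l, if_pos rfl]
    · intro x _ hx
      rw [hβ l x, if_neg (Ne.symm hx), mul_zero, zero_mul]
    · intro hh; exact absurd (Finset.mem_univ _) hh
  rw [hs 0, hs 1]
  field_simp

/-- **N6** -/
theorem opp_fibre (h : Ctx 2 b G) {o o' : Fin 2} (ho : o.val = 0) (ho' : o'.val = 1)
    (R'' : Submodule F (Idx 2 b → F))
    (hdec : ∀ v : Idx 2 b → F, ∃ p ∈ Rs (Pi.single o 1), ∃ p'' ∈ R'', v = p + p'')
    (x₀ : GL (Idx 2 b) F) (μ₀ : F) (hμ0 : μ₀ ≠ 0) (hμ : μ₀ ^ 2 ≠ 1)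
    (T₁ T₂ : GL (Idx 2 b) F) (hT₁K : T₁ ∈ KG 2 b F) (hT₁S : T₁ ∈ SpV G)
    (hT₂K : T₂ ∈ KG 2 b F) (hT₂S : T₂ ∈ SpV G)
    (hb₁ : ∀ y : Fin b → F, mv T₁ (pt (Pi.single o 1) y) = - pt (Pi.single o 1) y)
    (hb₂ : ∀ y : Fin b → F, mv T₂ (pt (Pi.single o 1) y) = μ₀⁻¹ • pt (Pi.single o 1) y)
    (hc₁ : ∀ v ∈ R'', ∀ p ∈ Rs (Pi.single o (1 : F)), ∀ p'' ∈ R'', mv x₀ v = p + p'' →
      mv x₀ (mv T₁ v) = -p + p'')
    (hc₂ : ∀ v ∈ R'', ∀ p ∈ Rs (Pi.single o (1 : F)), ∀ p'' ∈ R'', mv x₀ v = p + p'' →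
      mv x₀ (mv T₂ v) = μ₀ • p + p'') :
    ∃ x₂ : Fin 2 → F, x₂ ≠ 0 ∧ ∀ v ∈ R'', ∃ y : Fin b → F, v = pt x₂ y := by
  classical
  obtain rfl : o = 0 := Fin.ext ho
  obtain rfl : o' = 1 := Fin.ext ho'
  have hb0 : 0 < b := by have := h.hb; omega
  have h2 : (2 : F) ≠ 0 := h.two
  obtain ⟨t₁, ht₁⟩ := kg_row13 hb0 T₁ hT₁K (-1) (neg_ne_zero.mpr one_ne_zero) (fun y => by
    rw [hb₁ y, neg_one_smul])
  obtain ⟨t₂, ht₂⟩ := kg_row13 hb0 T₂ hT₂K μ₀⁻¹ (inv_ne_zero hμ0) hb₂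
  have hden : μ₀⁻¹ - μ₀ ≠ 0 := by
    intro hh
    apply hμ
    have h1 : μ₀⁻¹ = μ₀ := by linear_combination hh
    calc μ₀ ^ 2 = μ₀ * μ₀ := by ring
      _ = μ₀ * μ₀⁻¹ := by rw [h1]
      _ = 1 := mul_inv_cancel₀ hμ0
  -- the identity on `R''`
  have hid : ∀ v ∈ R'', (1 - μ₀) • (mv T₁ v + v) = (2 : F) • (mv T₂ v - μ₀ • v) := by
    intro v hv
    obtain ⟨p, hp, p'', hp'', hdecv⟩ := hdec (mv x₀ v)
    have e1 := hc₁ v hv p hp p'' hp'' hdecv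
    have e2 := hc₂ v hv p hp p'' hp'' hdecv
    apply Cfsg.Agent.Lib.Helper19.OSub.mv_injective x₀
    have hlin1 : mv x₀ ((1 - μ₀) • (mv T₁ v + v)) = (1 - μ₀) • (mv x₀ (mv T₁ v) + mv x₀ v) := by
      simp only [mv, Matrix.mulVec_smul, Matrix.mulVec_add]
    have hlin2 : mv x₀ ((2 : F) • (mv T₂ v - μ₀ • v)) = (2 : F) • (mv x₀ (mv T₂ v) - μ₀ • mv x₀ v) := by
      simp only [mv, Matrix.mulVec_smul, Matrix.mulVec_sub]
    rw [hlin1, hlin2, e1, e2, hdecv]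
    funext i
    simp only [Pi.smul_apply, Pi.add_apply, Pi.sub_apply, Pi.neg_apply, smul_eq_mul]
    ring
  obtain ⟨κ, hκ⟩ : ∃ κ : F, κ = ((1 - μ₀) * t₁ - 2 * t₂) / (2 * (μ₀⁻¹ - μ₀)) := ⟨_, rfl⟩
  refine ⟨fun i => if i = 0 then κ else 1, ?_, ?_⟩
  · intro hh
    have := congrFun hh 1
    simp at this
  · intro v hv
    refine ⟨fun l => v (1, l), ?_⟩
    have hrow : ∀ l, v (0, l) = κ * v (1, l) := by
      intro l
      have h1 := congrFun (hid v hv) (0, l)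
      simp only [Pi.smul_apply, Pi.add_apply, Pi.sub_apply, smul_eq_mul] at h1
      rw [ht₁, ht₂] at h1
      have h3 : (2 * (μ₀⁻¹ - μ₀)) * v (0, l) = ((1 - μ₀) * t₁ - 2 * t₂) * v (1, l) := by
        linear_combination -h1
      have hden2 : 2 * (μ₀⁻¹ - μ₀) ≠ 0 := mul_ne_zero h2 hden
      rw [hκ, div_mul_eq_mul_div, ← h3, mul_div_cancel_left₀ _ hden2]
    funext ⟨i, l⟩
    simp only [pt]
    fin_cases i
    · simp only [Fin.zero_eta, Fin.isValue, if_true]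
      exact hrow l
    · simp

end Cfsg.Agent.Lib.Helper13.C4Leaf
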