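import Cfsg.Agent.Lib.Helper11.CTDefs2

/-! Curtis–Tits (S1164 / S3712), leaf CHKA (helper13): the packed tables of a `ChevalleyDatum` give back the access
record `rsD D`, so a check run on the packed tables (`onTabs`) is a check of `rsD D`. Pure `Nat`/`List`. -/

set_option autoImplicit false

namespace Cfsg.Agent.Lib.Helper13.CTCHKA

open Cfsg Cfsg.Lie
open Cfsg.Agent.Lib.Helper7
open Cfsg.Agent.Lib.Helper11.CT

/-- digit access into a base-`b` packing -/
theorem dg_pk (b : ℕ) : ∀ (l : List ℕ), (∀ a ∈ l, a < b) → ∀ u : ℕ, dg b (pk b l) u = l.getD u 0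
  | [], _, u => by simp [dg, pk]
  | a :: l, h, 0 => by
    have ha : a < b := h a (List.mem_cons_self ..)
    simp only [dg, pk, pow_zero, Nat.div_one, List.getD_cons_zero]
    rw [Nat.add_mul_mod_self_left]; exact Nat.mod_eq_of_lt ha
  | a :: l, h, u + 1 => by
    have ha : a < b := h a (List.mem_cons_self ..)
    have hb : 0 < b := lt_of_le_of_lt (Nat.zero_le _) ha
    have ih := dg_pk b l (fun c hc => h c (List.mem_cons_of_mem _ hc)) u
    simp only [dg, pk, List.getD_cons_succ] at ih ⊢
    rw [pow_succ, mul_comm (b ^ u) b, ← Nat.div_div_eq_div_mul]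
    have : (a + b * pk b l) / b = pk b l := by
      rw [Nat.add_mul_div_left _ _ hb, Nat.div_eq_of_lt ha, zero_add]
    rw [this, ih]

/-- a packing of binary digits is small -/
theorem pk_two_lt : ∀ (l : List ℕ), (∀ a ∈ l, a < 2) → pk 2 l < 2 ^ l.length
  | [], _ => by simp [pk]
  | a :: l, h => by
    have ha : a < 2 := h a (List.mem_cons_self ..)
    have ih := pk_two_lt l (fun c hc => h c (List.mem_cons_of_mem _ hc))
    simp only [pk, List.length_cons, pow_succ]
    omega

theorem getD_map_range {α : Type*} (n : ℕ) (f : ℕ → α) (d : α) (u : ℕ) (hu : u < n) :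
    ((List.range n).map f).getD u d = f u := by
  rw [List.getD_eq_getElem _ _ (by simpa using hu)]
  simp

theorem rsT_eq_rsD (D : ChevalleyDatum) (h : tabsValid D = true) :
    rsT D.rank D.nroots (tabWs D) (tabZ D) (tabM D) (tabNg D) = rsD D := by
  unfold tabsValid at h
  simp only [Bool.and_eq_true, decide_eq_true_eq, List.all_eq_true, List.mem_range] at h
  obtain ⟨⟨hrank, hW⟩, hN⟩ := h
  unfold rsT rsD
  congr 1
  · -- rf
    funext k r
    by_cases hkr : k < D.rank ∧ r < D.nroots
    · rw [if_pos hkr, if_pos hkr]
      unfold tabWs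
      rw [getD_map_range _ _ _ _ hkr.1, dg_pk, getD_map_range _ _ _ _ hkr.2]
      intro a ha
      rw [List.mem_map] at ha
      obtain ⟨s, hs, rfl⟩ := ha
      exact hW k hkr.1 s (List.mem_range.mp hs)
    · rw [if_neg hkr, if_neg hkr]
  · -- r2
    funext i j r
    rw [Bool.eq_iff_iff]
    simp only [Bool.and_eq_true, decide_eq_true_eq, List.all_eq_true, List.mem_range, Bool.or_eq_true,
      beq_iff_eq]
    unfold ChevalleyDatum.InRankTwoSub
    constructor
    · rintro ⟨⟨⟨hr, hi⟩, hj⟩, hall⟩
      refine ⟨hr, hi, hj, fun k hk hki hkj => ?_⟩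
      have h1 := hall k hk
      rcases h1 with (h1 | h1) | h1
      · exact absurd h1 hki
      · exact absurd h1 hkj
      · unfold tabZ at h1
        rw [dg_pk, getD_map_range _ _ _ _ hr, dg_pk, getD_map_range _ _ _ _ hk] at h1
        · by_contra hne
          rw [if_neg hne] at h1
          exact absurd h1 (by norm_num)
        · intro a ha
          rw [List.mem_map] at ha
          obtain ⟨s, _, rfl⟩ := ha
          split_ifs <;> norm_num
        · intro a ha
          rw [List.mem_map] at ha
          obtain ⟨s, _, rfl⟩ := ha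
          refine lt_of_lt_of_le (pk_two_lt _ ?_) ?_
          · intro a ha
            rw [List.mem_map] at ha
            obtain ⟨s', _, rfl⟩ := ha
            split_ifs <;> norm_num
          · simp only [List.length_map, List.length_range]
            calc 2 ^ D.rank ≤ 2 ^ 8 := Nat.pow_le_pow_right (by norm_num) hrank
              _ = 256 := by norm_num
    · rintro ⟨hr, hi, hj, hall⟩
      refine ⟨⟨⟨hr, hi⟩, hj⟩, fun k hk => ?_⟩
      by_cases hki : k = i
      · exact Or.inl (Or.inl hki)
      by_cases hkj : k = j
      · exact Or.inl (Or.inr hkj)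
      right
      unfold tabZ
      rw [dg_pk, getD_map_range _ _ _ _ hr, dg_pk, getD_map_range _ _ _ _ hk]
      · rw [if_pos (hall k hk hki hkj)]
      · intro a ha
        rw [List.mem_map] at ha
        obtain ⟨s, _, rfl⟩ := ha
        split_ifs <;> norm_num
      · intro a ha
        rw [List.mem_map] at ha
        obtain ⟨s, _, rfl⟩ := ha
        refine lt_of_lt_of_le (pk_two_lt _ ?_) ?_
        · intro a ha
          rw [List.mem_map] at ha
          obtain ⟨s', _, rfl⟩ := ha
          split_ifs <;> norm_num
        · simp only [List.length_map, List.length_range]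
          calc 2 ^ D.rank ≤ 2 ^ 8 := Nat.pow_le_pow_right (by norm_num) hrank
            _ = 256 := by norm_num
  · -- bm
    funext j k
    by_cases hjk : j < D.rank ∧ k < D.rank
    · rw [if_pos hjk, if_pos hjk]
      unfold tabM
      have hidx : j * D.rank + k < D.rank * D.rank := by
        calc j * D.rank + k < j * D.rank + D.rank := by omega
          _ = (j + 1) * D.rank := by ring
          _ ≤ D.rank * D.rank := Nat.mul_le_mul_right _ hjk.1
      rw [dg_pk, getD_map_range _ _ _ _ hidx]
      · have hpos : 0 < D.rank := lt_of_le_of_lt (Nat.zero_le _) hjk.1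
        have e1 : (j * D.rank + k) / D.rank = j := by
          rw [mul_comm, Nat.mul_add_div hpos, Nat.div_eq_of_lt hjk.2, add_zero]
        have e2 : (j * D.rank + k) % D.rank = k := by
          rw [mul_comm, Nat.mul_add_mod, Nat.mod_eq_of_lt hjk.2]
        rw [e1, e2]
      · intro a ha
        rw [List.mem_map] at ha
        obtain ⟨s, _, rfl⟩ := ha
        unfold braidLen
        split <;> norm_num
    · rw [if_neg hjk, if_neg hjk]
  · -- ng
    funext r
    by_cases hr : r < D.nroots
    · rw [if_pos hr, if_pos hr]
      unfold tabNg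
      rw [dg_pk, getD_map_range _ _ _ _ hr]
      intro a ha
      rw [List.mem_map] at ha
      obtain ⟨s, hs, rfl⟩ := ha
      exact hN s (List.mem_range.mp hs)
    · rw [if_neg hr, if_neg hr]

/-- the packed tables give the access record of the datum -/
theorem onTabs_sound (D : ChevalleyDatum) (chk : RS → Bool) (h : onTabs D chk = true) : chk (rsD D) = true := by
  unfold onTabs at h
  rw [Bool.and_eq_true, forceAll_eq, withMask_eq, withMask_eq, withMask_eq] at h
  rw [← rsT_eq_rsD D h.1]
  exact h.2

end Cfsg.Agent.Lib.Helper13.CTCHKA
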