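import Mathlib
import Cfsg.Agent.Lib.Helper23.CTIDefs
import Cfsg.Agent.Lib.Helper17.CTIA1
import Cfsg.Agent.Lib.Helper8.AbInvE
import Cfsg.Agent.Lib.Helper10.CNGroup
import Cfsg.Agent.S4066

/-!
helper13: Package C of helper23's S4064 project (CTI-groups), file A.
Sylow 2-subgroups ("points") of a CTI-group: they are TI, the normalizer of a point is strongly
embedded, involutions of a point are central in it, and the common centralizer `Mc P` of the
involutions of a point `P`.
-/

set_option autoImplicit false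
set_option linter.style.haveILetI false
set_option linter.unusedSectionVars false

namespace Cfsg.Agent.Lib.Helper13.CTIC

open Cfsg Cfsg.Agent.Lib.Helper23.CTI Cfsg.Agent.Lib.Helper17.CTIA
open Cfsg.Agent.Lib.Helper2 Cfsg.Agent.Lib.Helper8 Cfsg.Agent.Lib.Helper8.AbInv

universe u

variable {G : Type u} [Group G]

/-- two points sharing an involution are equal -/
theorem cti_sylow_eq_of_invol [Finite G] (h : IsCTI G) {P Q : Sylow 2 G} {t : G}
    (ht2 : orderOf t = 2) (htP : t ∈ (P : Subgroup G)) (htQ : t ∈ (Q : Subgroup G)) : P = Q := by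
  by_contra hPQ
  haveI : Fact (Nat.Prime 2) := ⟨Nat.prime_two⟩
  have h1 := Cfsg.Agent.S4066.result h P Q hPQ
  have ht : t ∈ (P : Subgroup G) ⊓ (Q : Subgroup G) := ⟨htP, htQ⟩
  rw [h1, Subgroup.mem_bot] at ht
  exact invol_ne_one ht2 ht

/-- the normalizer of a point is strongly embedded -/
theorem cti_stronglyEmbedded_Nz [Finite G] (h : IsCTI G) (P : Sylow 2 G)
    (hP : (P : Subgroup G) ≠ ⊥) (hnn : ¬ (P : Subgroup G).Normal) :
    Cfsg.IsStronglyEmbedded (Nz P) := by
  obtain ⟨t0, ht0T, ht02, _⟩ := sylow_exists_central_invol P hP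
  rw [stronglyEmbedded_iff]
  refine ⟨?_, ?_, ?_⟩
  · intro h1
    exact hnn (Subgroup.normalizer_eq_top_iff.mp h1)
  · rw [even_card_iff_exists_invol]
    exact ⟨t0, le_Nz P ht0T, ht02⟩
  · intro g t ht ht2 hgt
    have htT : t ∈ (P : Subgroup G) := invol_mem_of_mem_Nz P ht2 ht
    have hgtT : g * t * g⁻¹ ∈ (P : Subgroup G) :=
      invol_mem_of_mem_Nz P (orderOf_conj_two g ht2) hgt
    have h1 : g * t * g⁻¹ ∈ ((g • P : Sylow 2 G) : Subgroup G) := conj_mem_smul_sylow htT
    have h2 : g • P = P := cti_sylow_eq_of_invol h (orderOf_conj_two g ht2) h1 hgtT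
    exact smul_eq_iff_mem_Nz.mp h2

/-- in a nonabelian simple group a nontrivial point is not normal -/
theorem not_normal_sylow [Finite G] [IsSimpleGroup G] (hG : ¬ IsMulCommutative G) (P : Sylow 2 G)
    (hP : (P : Subgroup G) ≠ ⊥) : ¬ (P : Subgroup G).Normal := by
  intro hn
  haveI : Fact (Nat.Prime 2) := ⟨Nat.prime_two⟩
  have htop : (P : Subgroup G) = ⊤ := (hn.eq_bot_or_eq_top).resolve_left hP
  have hpg : IsPGroup 2 G := by
    intro g
    obtain ⟨k, hk⟩ := P.2 ⟨g, by rw [htop]; trivial⟩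
    exact ⟨k, by simpa using congrArg Subtype.val hk⟩
  haveI : Nontrivial G := IsSimpleGroup.toNontrivial
  have hZ : Nontrivial (Subgroup.center G) := IsPGroup.center_nontrivial hpg
  have hZ1 : Subgroup.center G ≠ ⊥ := (Subgroup.nontrivial_iff_ne_bot _).mp hZ
  have hZtop : Subgroup.center G = ⊤ :=
    ((inferInstance : (Subgroup.center G).Normal).eq_bot_or_eq_top).resolve_left hZ1
  apply hG
  refine ⟨⟨fun a b => ?_⟩⟩
  have : a ∈ Subgroup.center G := by rw [hZtop]; trivial
  exact (Subgroup.mem_center_iff.mp this b).symm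

/-- an involution outside the normalizer of a point -/
theorem exists_invol_not_mem [Finite G] {H : Subgroup G} (hH : Cfsg.IsStronglyEmbedded H) :
    ∃ u : G, orderOf u = 2 ∧ u ∉ H := by
  have hne : H ≠ ⊤ := hH.1
  obtain ⟨g, hg⟩ : ∃ g : G, g ∉ H := by
    by_contra hcon
    push Not at hcon
    exact hne (eq_top_iff.mpr fun x _ => hcon x)
  have hxy : (QuotientGroup.mk 1 : G ⧸ H) ≠ QuotientGroup.mk g := by
    intro e
    rw [QuotientGroup.eq] at e
    apply hg
    simpa using e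
  obtain ⟨w, hw2, hw1, _⟩ := se_exists_swap hH hxy
  refine ⟨w, hw2, ?_⟩
  intro hwH
  apply hxy
  rw [← hw1, MulAction.Quotient.smul_mk, QuotientGroup.eq]
  simpa using hwH

/-- in a CTI-group with strongly embedded point normalizer, the involutions of a point are central in
the point -/
theorem invol_central [Finite G] (P : Sylow 2 G) (hse : Cfsg.IsStronglyEmbedded (Nz P))
    {t : G} (ht : t ∈ (P : Subgroup G)) (ht2 : orderOf t = 2) :
    ∀ x ∈ (P : Subgroup G), t * x = x * t := by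
  have hP : (P : Subgroup G) ≠ ⊥ := by
    intro hb
    rw [hb, Subgroup.mem_bot] at ht
    exact invol_ne_one ht2 ht
  obtain ⟨t0, ht0T, ht02, ht0c⟩ := sylow_exists_central_invol P hP
  obtain ⟨u, hu2, huN⟩ := exists_invol_not_mem hse
  obtain ⟨d, hd, hdt⟩ := se_conj_in_inter hse hu2 huN ht02 (le_Nz P ht0T) ht2 (le_Nz P ht)
  have hdN : d ∈ Nz P := (Subgroup.mem_inf.mp hd).1
  intro x hx
  have hx' : d⁻¹ * x * d ∈ (P : Subgroup G) := by
    have := (Subgroup.mem_normalizer_iff.mp ((Nz P).inv_mem hdN) x).mp hx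
    simpa using this
  have h1 := ht0c _ hx'
  rw [← hdt]
  calc d * t0 * d⁻¹ * x = d * (t0 * (d⁻¹ * x * d)) * d⁻¹ := by group
    _ = d * ((d⁻¹ * x * d) * t0) * d⁻¹ := by rw [h1]
    _ = x * (d * t0 * d⁻¹) := by group

/-- the common centralizer of the involutions of a point -/
def Mc (P : Sylow 2 G) : Subgroup G :=
  Subgroup.centralizer {t : G | t ∈ (P : Subgroup G) ∧ orderOf t = 2}

theorem mem_Mc {P : Sylow 2 G} {x : G} :
    x ∈ Mc P ↔ ∀ t ∈ (P : Subgroup G), orderOf t = 2 → t * x = x * t := by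
  unfold Mc
  rw [Subgroup.mem_centralizer_iff]
  constructor
  · intro h t ht ht2
    exact h t ⟨ht, ht2⟩
  · rintro h t ⟨ht, ht2⟩
    exact h t ht ht2

theorem Mc_le_centralizer {P : Sylow 2 G} {t : G} (ht : t ∈ (P : Subgroup G)) (ht2 : orderOf t = 2) :
    Mc P ≤ Subgroup.centralizer ({t} : Set G) := by
  intro x hx
  rw [mem_cent_singleton]
  exact mem_Mc.mp hx t ht ht2

theorem P_le_Mc [Finite G] (P : Sylow 2 G) (hse : Cfsg.IsStronglyEmbedded (Nz P)) :
    (P : Subgroup G) ≤ Mc P := by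
  intro x hx
  rw [mem_Mc]
  intro t ht ht2
  exact invol_central P hse ht ht2 x hx

/-- the normalizer of a point normalizes `Mc` -/
theorem conj_mem_Mc {P : Sylow 2 G} {n x : G} (hn : n ∈ Nz P) (hx : x ∈ Mc P) :
    n * x * n⁻¹ ∈ Mc P := by
  rw [mem_Mc] at hx ⊢
  intro t ht ht2
  have ht' : n⁻¹ * t * n ∈ (P : Subgroup G) := by
    have := (Subgroup.mem_normalizer_iff.mp ((Nz P).inv_mem hn) t).mp ht
    simpa using this
  have ht2' : orderOf (n⁻¹ * t * n) = 2 := by
    have := orderOf_conj_two n⁻¹ ht2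
    simpa using this
  have h1 := hx _ ht' ht2'
  calc t * (n * x * n⁻¹) = n * ((n⁻¹ * t * n) * x) * n⁻¹ := by group
    _ = n * (x * (n⁻¹ * t * n)) * n⁻¹ := by rw [h1]
    _ = n * x * n⁻¹ * t := by group

end Cfsg.Agent.Lib.Helper13.CTIC
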