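import Mathlib
import Cfsg.Agent.Lib.Helper13.CTICA

/-!
helper13: Package C of helper23's S4064 project (CTI-groups), file B.
The subgroup `Mc P`: it is the centralizer of each involution of `P`, nilpotent, normal in `Nz P`,
a TI-subgroup with normalizer `Nz P`, contains the centralizers of its nonidentity elements, and its
nonidentity elements fix only the base point of `G ⧸ Nz P`.
-/

set_option autoImplicit false
set_option linter.style.haveILetI false
set_option linter.unusedSectionVars false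

namespace Cfsg.Agent.Lib.Helper13.CTIC

open Cfsg Cfsg.Agent.Lib.Helper23.CTI Cfsg.Agent.Lib.Helper17.CTIA
open Cfsg.Agent.Lib.Helper2 Cfsg.Agent.Lib.Helper8 Cfsg.Agent.Lib.Helper8.AbInv
open Cfsg.Agent.Lib.Helper10

universe u

variable {G : Type u} [Group G]

/-- conjugation by an element normalizing a subgroup, as a permutation of the subgroup -/
def conjPerm (K : Subgroup G) (z : G) (hz : ∀ x ∈ K, z * x * z⁻¹ ∈ K)
    (hz' : ∀ x ∈ K, z⁻¹ * x * z ∈ K) : Equiv.Perm K where
  toFun x := ⟨z * x * z⁻¹, hz x x.2⟩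
  invFun x := ⟨z⁻¹ * x * z, hz' x x.2⟩
  left_inv x := by apply Subtype.ext; simp only; group
  right_inv x := by apply Subtype.ext; simp only; group

theorem conjPerm_pow_apply (K : Subgroup G) (z : G) (hz : ∀ x ∈ K, z * x * z⁻¹ ∈ K)
    (hz' : ∀ x ∈ K, z⁻¹ * x * z ∈ K) (k : ℕ) (x : K) :
    (((conjPerm K z hz hz') ^ k) x : G) = z ^ k * x * (z ^ k)⁻¹ := by
  induction k generalizing x with
  | zero => simp
  | succ k ih =>
    rw [pow_succ', Equiv.Perm.mul_apply]
    show z * ((conjPerm K z hz hz' ^ k) x : G) * z⁻¹ = _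
    rw [ih, pow_succ']
    group

theorem conj_pow_two {x y : G} (k : ℕ) (hyk : y ^ 2 ^ k = 1) : (x * y * x⁻¹) ^ 2 ^ k = 1 := by
  rw [conj_pow, hyk]; group

section

variable [Finite G] (h : IsCTI G) (P : Sylow 2 G) (hse : Cfsg.IsStronglyEmbedded (Nz P))

include h hse

/-- a point is the Sylow 2-subgroup of the centralizer of each of its involutions -/
theorem nilpSylow_centralizer {t : G} (ht : t ∈ (P : Subgroup G)) (ht2 : orderOf t = 2) :
    IsNilpSylow 2 (Subgroup.centralizer ({t} : Set G)) (P : Subgroup G) := by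
  haveI : Fact (Nat.Prime 2) := ⟨Nat.prime_two⟩
  have hL : Group.IsNilpotent (Subgroup.centralizer ({t} : Set G)) :=
    isCTI_cn h t (invol_ne_one ht2)
  have hPL : (P : Subgroup G) ≤ Subgroup.centralizer ({t} : Set G) := by
    intro x hx
    rw [mem_cent_singleton]
    exact invol_central P hse ht ht2 x hx
  obtain ⟨S, hS⟩ := nilp_exists_sylow _ hL 2
  have hPS : (P : Subgroup G) ≤ S := hS.2.2 _ hPL P.2
  have hSP : S = (P : Subgroup G) := P.is_maximal' hS.2.1 hPS
  rw [← hSP]
  exact hS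

/-- the centralizer of an involution of `P` is `Mc P` -/
theorem centralizer_invol_eq {t : G} (ht : t ∈ (P : Subgroup G)) (ht2 : orderOf t = 2) :
    Subgroup.centralizer ({t} : Set G) = Mc P := by
  haveI : Fact (Nat.Prime 2) := ⟨Nat.prime_two⟩
  apply le_antisymm _ (Mc_le_centralizer ht ht2)
  intro x hx
  rw [mem_Mc]
  intro t' ht' ht2'
  have hL : Group.IsNilpotent (Subgroup.centralizer ({t} : Set G)) :=
    isCTI_cn h t (invol_ne_one ht2)
  have hS := nilpSylow_centralizer h P hse ht ht2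
  have hzp : Subgroup.zpowers x ≤ Subgroup.centralizer ({t} : Set G) :=
    Subgroup.zpowers_le.mpr hx
  have hmem : x ∈ Subgroup.centralizer ({t'} : Set G) := by
    apply mem_of_parts_mem 2 _ x
    · intro k y hy hyk
      have hyP : y ∈ (P : Subgroup G) := hS.mem (hzp hy) k hyk
      rw [mem_cent_singleton]
      exact invol_central P hse ht' ht2' y hyP
    · intro y hy hyc
      rw [mem_cent_singleton]
      apply nilp_commute_of_coprime _ hL (hS.1 ht') (hzp hy) 1 _ hyc
      rw [pow_one, pow_two]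
      exact invol_mul_self ht2'
  exact mem_cent_singleton.mp hmem

theorem exists_invol_mem (hP : (P : Subgroup G) ≠ ⊥) :
    ∃ t0 ∈ (P : Subgroup G), orderOf t0 = 2 := by
  obtain ⟨t0, ht0T, ht02, _⟩ := sylow_exists_central_invol P hP
  exact ⟨t0, ht0T, ht02⟩

theorem P_ne_bot : (P : Subgroup G) ≠ ⊥ := by
  intro hb
  obtain ⟨t, htN, ht2⟩ := se_exists_invol hse
  have := invol_mem_of_mem_Nz P ht2 htN
  rw [hb, Subgroup.mem_bot] at this
  exact invol_ne_one ht2 this

theorem Mc_nilpotent : Group.IsNilpotent (Mc P) := by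
  obtain ⟨t0, ht0, ht02⟩ := exists_invol_mem h P hse (P_ne_bot h P hse)
  have e := centralizer_invol_eq h P hse ht0 ht02
  rw [← e]
  exact isCTI_cn h t0 (invol_ne_one ht02)

theorem nilpSylow_Mc : IsNilpSylow 2 (Mc P) (P : Subgroup G) := by
  obtain ⟨t0, ht0, ht02⟩ := exists_invol_mem h P hse (P_ne_bot h P hse)
  have e := centralizer_invol_eq h P hse ht0 ht02
  rw [← e]
  exact nilpSylow_centralizer h P hse ht0 ht02

/-- 2-elements of `Mc P` lie in `P` -/
theorem two_elt_mem_of_mem_Mc {y : G} (hy : y ∈ Mc P) (k : ℕ) (hyk : y ^ 2 ^ k = 1) :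
    y ∈ (P : Subgroup G) :=
  (nilpSylow_Mc h P hse).mem hy k hyk

/-- an element normalizing `Mc P` normalizes `P` -/
theorem mem_Nz_of_normalizes {g : G} (hg : ∀ x ∈ Mc P, g * x * g⁻¹ ∈ Mc P)
    (hg' : ∀ x ∈ Mc P, g⁻¹ * x * g ∈ Mc P) : g ∈ Nz P := by
  have hPM := P_le_Mc P hse
  rw [Subgroup.mem_normalizer_iff]
  intro y
  constructor
  · intro hy
    obtain ⟨k, hk⟩ := P.2 ⟨y, hy⟩
    have hyk : y ^ 2 ^ k = 1 := by simpa using congrArg Subtype.val hk
    exact two_elt_mem_of_mem_Mc h P hse (hg y (hPM hy)) k (conj_pow_two k hyk)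
  · intro hy
    obtain ⟨k, hk⟩ := P.2 ⟨g * y * g⁻¹, hy⟩
    have hyk : (g * y * g⁻¹) ^ 2 ^ k = 1 := by simpa using congrArg Subtype.val hk
    have h1 := two_elt_mem_of_mem_Mc h P hse (hg' _ (hPM hy)) k
      (by
        have := conj_pow_two (x := g⁻¹) k hyk
        simpa using this)
    have e : g⁻¹ * (g * y * g⁻¹) * g = y := by group
    rw [e] at h1
    exact h1

theorem Mc_le_Nz : Mc P ≤ Nz P := by
  intro x hx
  apply mem_Nz_of_normalizes h P hse
  · intro y hy
    exact (Mc P).mul_mem ((Mc P).mul_mem hx hy) ((Mc P).inv_mem hx)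
  · intro y hy
    exact (Mc P).mul_mem ((Mc P).mul_mem ((Mc P).inv_mem hx) hy) hx

/-- `Mc P` is a TI-subgroup with normalizer `Nz P` -/
theorem Mc_TI {g y : G} (hg : g ∉ Nz P) (hy : y ∈ Mc P) (hgy : g * y * g⁻¹ ∈ Mc P) : y = 1 := by
  obtain ⟨t0, ht0, ht02⟩ := exists_invol_mem h P hse (P_ne_bot h P hse)
  have e := centralizer_invol_eq h P hse ht0 ht02
  have hTI := h t0
  apply hTI g _ y (by rw [e]; exact hy) (by rw [e]; exact hgy)
  intro hgn
  apply hg
  rw [Subgroup.mem_set_normalizer_iff] at hgn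
  apply mem_Nz_of_normalizes h P hse
  · intro x hx
    have := (hgn x).mp (by rw [SetLike.mem_coe, e]; exact hx)
    rw [SetLike.mem_coe, e] at this
    exact this
  · intro x hx
    have := (hgn (g⁻¹ * x * g)).mpr (by
      rw [SetLike.mem_coe, e]
      have e2 : g * (g⁻¹ * x * g) * g⁻¹ = x := by group
      rw [e2]; exact hx)
    rw [SetLike.mem_coe, e] at this
    exact this

/-- the centralizer of a nonidentity element of `Mc P` lies in `Mc P` -/
theorem centralizer_le_Mc {x : G} (hx : x ∈ Mc P) (hx1 : x ≠ 1) :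
    Subgroup.centralizer ({x} : Set G) ≤ Mc P := by
  haveI : Fact (Nat.Prime 2) := ⟨Nat.prime_two⟩
  obtain ⟨t0, ht0, ht02⟩ := exists_invol_mem h P hse (P_ne_bot h P hse)
  have e := centralizer_invol_eq h P hse ht0 ht02
  have hL : Group.IsNilpotent (Subgroup.centralizer ({x} : Set G)) := isCTI_cn h x hx1
  have hCN : Subgroup.centralizer ({x} : Set G) ≤ Nz P := by
    intro g hg
    by_contra hgN
    apply hx1
    apply Mc_TI h P hse hgN hx
    have : g * x * g⁻¹ = x := by
      have := mem_cent_singleton.mp hg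
      calc g * x * g⁻¹ = (x * g) * g⁻¹ := by rw [this]
        _ = x := by group
    rw [this]; exact hx
  have ht0L : t0 ∈ Subgroup.centralizer ({x} : Set G) := by
    rw [mem_cent_singleton]
    exact (mem_Mc.mp hx t0 ht0 ht02).symm
  intro g hg
  rw [← e]
  have hzp : Subgroup.zpowers g ≤ Subgroup.centralizer ({x} : Set G) :=
    Subgroup.zpowers_le.mpr hg
  apply mem_of_parts_mem 2 _ g
  · intro k y hy hyk
    have hyP : y ∈ (P : Subgroup G) :=
      two_elt_mem_of_mem_Nz P (isPGroup_zpowers_of_pow_eq_one y k hyk) (hCN (hzp hy))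
    rw [mem_cent_singleton]
    exact invol_central P hse ht0 ht02 y hyP
  · intro y hy hyc
    rw [mem_cent_singleton]
    apply nilp_commute_of_coprime _ hL ht0L (hzp hy) 1 _ hyc
    rw [pow_one, pow_two]
    exact invol_mul_self ht02

/-- elements outside `Mc P` act fixed point freely on `Mc P` -/
theorem fpf_Mc {n x : G} (hn : n ∉ Mc P) (hx : x ∈ Mc P) (hnx : n * x * n⁻¹ = x) : x = 1 := by
  by_contra hx1
  apply hn
  apply centralizer_le_Mc h P hse hx hx1
  rw [mem_cent_singleton]
  calc x * n = (n * x * n⁻¹) * n := by rw [hnx]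
    _ = n * x := by group

end

end Cfsg.Agent.Lib.Helper13.CTIC
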