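import Mathlib
import Cfsg.Agent.Lib.Helper13.CTICB

/-!
helper13: Package C of helper23's S4064 project (CTI-groups), file C.
Fixed points of `Mc P`; the two point stabilizers `Du P u = Nz P ⊓ (Nz P)^u`: they meet `Mc P`
trivially, are inverted by `u`, abelian, complement `Mc P` in `Nz P`, are self-normalizing in `Nz P`
and contain the `Nz P`-centralizers of their nonidentity elements.
-/

set_option autoImplicit false
set_option linter.style.haveILetI false
set_option linter.unusedSectionVars false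

namespace Cfsg.Agent.Lib.Helper13.CTIC

open Cfsg Cfsg.Agent.Lib.Helper23.CTI Cfsg.Agent.Lib.Helper17.CTIA
open Cfsg.Agent.Lib.Helper2 Cfsg.Agent.Lib.Helper8 Cfsg.Agent.Lib.Helper8.AbInv
open Cfsg.Agent.Lib.Helper10

universe u

variable {G : Type u} [Group G]

theorem conj_inv_pow (g y : G) (k : ℕ) : g⁻¹ * y ^ k * g = (g⁻¹ * y * g) ^ k := by
  have := conj_pow (a := g⁻¹) (b := y) (i := k)
  simpa using this.symm

/-- the two point stabilizer of the base point and its image under `u` -/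
def Du (P : Sylow 2 G) (u : G) : Subgroup G :=
  Nz P ⊓ (Nz P).map (MulAut.conj u).toMonoidHom

theorem mem_Du {P : Sylow 2 G} {u d : G} : d ∈ Du P u ↔ d ∈ Nz P ∧ u⁻¹ * d * u ∈ Nz P := by
  unfold Du
  rw [Subgroup.mem_inf, mem_map_conj]

section

variable [Finite G] (h : IsCTI G) (P : Sylow 2 G) (hse : Cfsg.IsStronglyEmbedded (Nz P))

include h hse

/-- a nonidentity element of `Mc P` has no conjugate by `g ∉ Nz P` inside `Nz P` -/
theorem Mc_conj_Nz {y g : G} (hy : y ∈ Mc P) (hg : g ∉ Nz P) (hgy : g⁻¹ * y * g ∈ Nz P) :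
    y = 1 := by
  by_contra hy1
  have ho1 : orderOf y ≠ 1 := fun e => hy1 (orderOf_eq_one_iff.mp e)
  obtain ⟨r, hr, hrd⟩ := Nat.exists_prime_and_dvd ho1
  haveI : Fact r.Prime := ⟨hr⟩
  set y' := y ^ (orderOf y / r) with hy'def
  have hy'o : orderOf y' = r := orderOf_pow_orderOf_div (orderOf_pos y).ne' hrd
  have hy'M : y' ∈ Mc P := (Mc P).pow_mem hy _
  have hy'1 : y' ≠ 1 := by
    intro e
    rw [e, orderOf_one] at hy'o
    exact hr.one_lt.ne hy'o
  set z := g⁻¹ * y' * g with hzdef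
  have hzN : z ∈ Nz P := by
    rw [hzdef, hy'def, conj_inv_pow]
    exact (Nz P).pow_mem hgy _
  have hginv : g⁻¹ ∉ Nz P := fun e => hg (by simpa using (Nz P).inv_mem e)
  by_cases hzM : z ∈ Mc P
  · apply hy'1
    apply Mc_TI h P hse hginv hy'M
    rw [inv_inv]; exact hzM
  · have hz : ∀ x ∈ Mc P, z * x * z⁻¹ ∈ Mc P := fun x hx => conj_mem_Mc hzN hx
    have hz' : ∀ x ∈ Mc P, z⁻¹ * x * z ∈ Mc P := by
      intro x hx
      have := conj_mem_Mc ((Nz P).inv_mem hzN) hx
      simpa using this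
    letI : Fintype (Mc P) := Fintype.ofFinite _
    have hzr : z ^ r = 1 := by
      rw [hzdef, ← conj_inv_pow, ← hy'o, pow_orderOf_eq_one]; group
    have hσ : (conjPerm (Mc P) z hz hz') ^ r ^ 1 = 1 := by
      ext x
      rw [pow_one, conjPerm_pow_apply, hzr]
      simp
    have hdvd : r ∣ Fintype.card (Mc P) := by
      rw [← Nat.card_eq_fintype_card, ← hy'o]
      exact Subgroup.orderOf_dvd_natCard _ hy'M
    have hfix : (conjPerm (Mc P) z hz hz') 1 = 1 := by
      apply Subtype.ext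
      show z * ((1 : Mc P) : G) * z⁻¹ = ((1 : Mc P) : G)
      simp
    obtain ⟨b, hb, hb1⟩ := Equiv.Perm.exists_fixed_point_of_prime' hdvd hσ hfix
    apply hb1
    apply Subtype.ext
    have hb' : z * (b : G) * z⁻¹ = b := congrArg Subtype.val hb
    exact fpf_Mc h P hse hzM b.2 hb'

/-- nonidentity elements of `Mc P` fix only the base point -/
theorem Mc_fix {m : G} (hm : m ∈ Mc P) (hm1 : m ≠ 1) (c : G ⧸ Nz P) (hc : m • c = c) :
    c = QuotientGroup.mk 1 := by
  induction c using QuotientGroup.induction_on with | _ g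
  rw [smul_mk_eq_iff] at hc
  by_contra hne
  apply hm1
  apply Mc_conj_Nz h P hse hm _ hc
  intro hg
  apply hne
  rw [QuotientGroup.eq]
  simpa using hg

omit h in
/-- all points have strongly embedded normalizers -/
theorem se_all (Q : Sylow 2 G) : Cfsg.IsStronglyEmbedded (Nz Q) := by
  haveI : Fact (Nat.Prime 2) := ⟨Nat.prime_two⟩
  obtain ⟨g, rfl⟩ := MulAction.exists_smul_eq G P Q
  rw [stronglyEmbedded_iff] at hse ⊢
  obtain ⟨h1, h2, h3⟩ := hse
  refine ⟨?_, ?_, ?_⟩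
  · intro htop
    apply h1
    rw [eq_top_iff]
    intro x _
    have : g * x * g⁻¹ ∈ Nz (g • P) := by rw [htop]; trivial
    rw [mem_Nz_smul] at this
    have e : g⁻¹ * (g * x * g⁻¹) * g = x := by group
    rw [e] at this; exact this
  · rw [even_card_iff_exists_invol] at h2 ⊢
    obtain ⟨t, ht, ht2⟩ := h2
    refine ⟨g * t * g⁻¹, ?_, orderOf_conj_two g ht2⟩
    rw [mem_Nz_smul]
    have e : g⁻¹ * (g * t * g⁻¹) * g = t := by group
    rw [e]; exact ht
  · intro x t ht ht2 hxt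
    rw [mem_Nz_smul] at ht hxt ⊢
    have ht2' : orderOf (g⁻¹ * t * g) = 2 := by
      have := orderOf_conj_two g⁻¹ ht2
      simpa using this
    apply h3 (g⁻¹ * x * g) (g⁻¹ * t * g) ht ht2'
    have e : g⁻¹ * x * g * (g⁻¹ * t * g) * (g⁻¹ * x * g)⁻¹ = g⁻¹ * (x * t * x⁻¹) * g := by group
    rw [e]; exact hxt

/-- a nonidentity element of `Mc Q` normalizes no point other than `Q` -/
theorem Mc_fix_sylow {Q R : Sylow 2 G} {y : G} (hy : y ∈ Mc Q) (hy1 : y ≠ 1) (hR : y ∈ Nz R) :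
    R = Q := by
  haveI : Fact (Nat.Prime 2) := ⟨Nat.prime_two⟩
  have hseQ := se_all P hse Q
  obtain ⟨g, rfl⟩ := MulAction.exists_smul_eq G Q R
  by_contra hne
  apply hy1
  rw [mem_Nz_smul] at hR
  apply Mc_conj_Nz h Q hseQ hy _ hR
  intro hg
  exact hne (smul_eq_iff_mem_Nz.mpr hg)

variable {u : G} (hu2 : orderOf u = 2) (huN : u ∉ Nz P)

include huN in
theorem Du_inf_Mc {d : G} (hd : d ∈ Du P u) (hdM : d ∈ Mc P) : d = 1 :=
  Mc_conj_Nz h P hse hdM huN (mem_Du.mp hd).2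

include huN in
/-- no nonidentity element of a two point stabilizer commutes with an involution -/
theorem Du_not_commute_invol {d j : G} (hd : d ∈ Du P u) (hd1 : d ≠ 1) (hj2 : orderOf j = 2)
    (hjd : j * d = d * j) : False := by
  obtain ⟨Q, hjQ⟩ := exists_sylow_of_invol hj2
  have hseQ := se_all P hse Q
  have hdQ : d ∈ Mc Q := by
    rw [← centralizer_invol_eq h Q hseQ hjQ hj2, mem_cent_singleton]
    exact hjd
  have h1 : P = Q := Mc_fix_sylow h P hse hdQ hd1 (mem_Du.mp hd).1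
  have h2 : u • P = Q := by
    apply Mc_fix_sylow h P hse hdQ hd1
    rw [mem_Nz_smul]
    exact (mem_Du.mp hd).2
  apply huN
  rw [← smul_eq_iff_mem_Nz, h2, h1]

include hu2 in
omit h hse in
theorem conj_mem_Du {d : G} (hd : d ∈ Du P u) : u * d * u⁻¹ ∈ Du P u := by
  have hui := invol_inv hu2
  rw [mem_Du] at hd ⊢
  constructor
  · have := hd.2
    rw [hui] at this ⊢
    exact this
  · have e : u⁻¹ * (u * d * u⁻¹) * u = d := by group
    rw [e]; exact hd.1

include hu2 huN in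
/-- `u` inverts the two point stabilizer -/
theorem Du_inverted {d : G} (hd : d ∈ Du P u) : u * d * u⁻¹ = d⁻¹ := by
  apply inverts_of_fpf (Du P u) hu2 (fun x hx => conj_mem_Du P hu2 hx) _ d hd
  intro x hx hux
  by_contra hx1
  apply Du_not_commute_invol h P hse huN hx hx1 hu2
  calc u * x = (u * x * u⁻¹) * u := by group
    _ = x * u := by rw [hux]

include hu2 huN in
/-- the two point stabilizer is abelian -/
theorem Du_comm {d e : G} (hd : d ∈ Du P u) (he : e ∈ Du P u) : d * e = e * d :=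
  comm_of_inverted (Du_inverted h P hse hu2 huN hd) (Du_inverted h P hse hu2 huN he)
    (Du_inverted h P hse hu2 huN ((Du P u).mul_mem hd he))

include hu2 huN in
/-- `Nz P = Du · Mc` -/
theorem Nz_decomp {n : G} (hn : n ∈ Nz P) : ∃ d ∈ Du P u, ∃ m ∈ Mc P, n = d * m := by
  obtain ⟨t0, ht0, ht02⟩ := exists_invol_mem h P hse (P_ne_bot h P hse)
  have hs : n * t0 * n⁻¹ ∈ (P : Subgroup G) := (Subgroup.mem_normalizer_iff.mp hn t0).mp ht0
  have hs2 : orderOf (n * t0 * n⁻¹) = 2 := orderOf_conj_two n ht02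
  obtain ⟨d, hd, hdt⟩ := se_conj_in_inter hse hu2 huN ht02 (le_Nz P ht0) hs2 (le_Nz P hs)
  refine ⟨d, hd, d⁻¹ * n, ?_, by group⟩
  rw [← centralizer_invol_eq h P hse ht0 ht02, mem_cent_singleton]
  have e : d⁻¹ * (d * t0 * d⁻¹) * d = t0 := by group
  calc t0 * (d⁻¹ * n) = d⁻¹ * (d * t0 * d⁻¹) * n := by group
    _ = d⁻¹ * (n * t0 * n⁻¹) * n := by rw [hdt]
    _ = d⁻¹ * n * t0 := by group

include hu2 huN in
/-- `Nz P = Mc · Du` -/
theorem Nz_decomp' {n : G} (hn : n ∈ Nz P) : ∃ m ∈ Mc P, ∃ d ∈ Du P u, n = m * d := by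
  obtain ⟨d, hd, m, hm, rfl⟩ := Nz_decomp h P hse hu2 huN hn
  refine ⟨d * m * d⁻¹, conj_mem_Mc (mem_Du.mp hd).1 hm, d, hd, by group⟩

include hu2 huN in
/-- the `Nz P`-centralizer of a nonidentity element of `Du` lies in `Du` -/
theorem centralizer_Du {g c : G} (hg : g ∈ Du P u) (hg1 : g ≠ 1) (hc : c ∈ Nz P)
    (hcg : c * g = g * c) : c ∈ Du P u := by
  obtain ⟨d, hd, m, hm, rfl⟩ := Nz_decomp h P hse hu2 huN hc
  have hdg : d * g = g * d := Du_comm h P hse hu2 huN hd hg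
  have hmg : g * m * g⁻¹ = m := by
    have e1 : m * g = g * m := by
      have : d * (m * g) = d * (g * m) := by
        calc d * (m * g) = d * m * g := by group
          _ = g * (d * m) := hcg
          _ = (g * d) * m := by group
          _ = (d * g) * m := by rw [hdg]
          _ = d * (g * m) := by group
      exact mul_left_cancel this
    calc g * m * g⁻¹ = (m * g) * g⁻¹ := by rw [e1]
      _ = m := by group
  have hgM : g ∉ Mc P := fun e => hg1 (Du_inf_Mc h P hse huN hg e)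
  have hm1 : m = 1 := fpf_Mc h P hse hgM hm hmg
  rw [hm1, mul_one]; exact hd

include hu2 huN in
/-- `Du` is self-normalizing in `Nz P` -/
theorem normalizer_Du {d0 n : G} (hd0 : d0 ∈ Du P u) (hd01 : d0 ≠ 1) (hn : n ∈ Nz P)
    (hnD : ∀ d ∈ Du P u, n * d * n⁻¹ ∈ Du P u) : n ∈ Du P u := by
  obtain ⟨d, hd, m, hm, rfl⟩ := Nz_decomp h P hse hu2 huN hn
  have hd0N : d0 ∈ Nz P := (mem_Du.mp hd0).1
  have h1 : m * d0 * m⁻¹ ∈ Du P u := by
    have := (Du P u).mul_mem ((Du P u).mul_mem ((Du P u).inv_mem hd) (hnD d0 hd0)) hd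
    have e : d⁻¹ * (d * m * d0 * (d * m)⁻¹) * d = m * d0 * m⁻¹ := by group
    rw [e] at this; exact this
  have hc1 : m * d0 * m⁻¹ * d0⁻¹ ∈ Du P u := (Du P u).mul_mem h1 ((Du P u).inv_mem hd0)
  have hc2 : m * d0 * m⁻¹ * d0⁻¹ ∈ Mc P := by
    have e : m * d0 * m⁻¹ * d0⁻¹ = m * (d0 * m⁻¹ * d0⁻¹) := by group
    rw [e]
    exact (Mc P).mul_mem hm (conj_mem_Mc hd0N ((Mc P).inv_mem hm))
  have hc := Du_inf_Mc h P hse huN hc1 hc2
  have hfix : d0 * m * d0⁻¹ = m := by
    have e1 : m * d0 = d0 * m := by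
      calc m * d0 = (m * d0 * m⁻¹ * d0⁻¹) * (d0 * m) := by group
        _ = d0 * m := by rw [hc, one_mul]
    calc d0 * m * d0⁻¹ = (m * d0) * d0⁻¹ := by rw [e1]
      _ = m := by group
  have hgM : d0 ∉ Mc P := fun e => hd01 (Du_inf_Mc h P hse huN hd0 e)
  have hm1 : m = 1 := fpf_Mc h P hse hgM hm hfix
  rw [hm1, mul_one]; exact hd

end

end Cfsg.Agent.Lib.Helper13.CTIC
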