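import Mathlib
import Cfsg.Agent.Lib.Helper13.CTICC
import Cfsg.Agent.S0035

/-!
helper13: Package C of helper23's S4064 project (CTI-groups), file D.
Two point stabilizers with a common nonidentity element coincide; involutions with the same two
point stabilizer define the same point; `Nz P` is transitive on the points other than the base point;
only the identity fixes three points; the two point stabilizers are nontrivial in a simple group.
-/

set_option autoImplicit false
set_option linter.style.haveILetI false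
set_option linter.unusedSectionVars false

namespace Cfsg.Agent.Lib.Helper13.CTIC

open Cfsg Cfsg.Agent.Lib.Helper23.CTI Cfsg.Agent.Lib.Helper17.CTIA
open Cfsg.Agent.Lib.Helper2 Cfsg.Agent.Lib.Helper8 Cfsg.Agent.Lib.Helper8.AbInv
open Cfsg.Agent.Lib.Helper10

universe u

variable {G : Type u} [Group G]

section

variable [Finite G] (h : IsCTI G) (P : Sylow 2 G) (hse : Cfsg.IsStronglyEmbedded (Nz P))

include h hse

theorem Du_le_of_common {u w g : G} (hu2 : orderOf u = 2) (huN : u ∉ Nz P) (hw2 : orderOf w = 2)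
    (hwN : w ∉ Nz P) (hgu : g ∈ Du P u) (hgw : g ∈ Du P w) (hg1 : g ≠ 1) : Du P u ≤ Du P w := by
  intro d hd
  apply centralizer_Du h P hse hw2 hwN hgw hg1 (mem_Du.mp hd).1
  exact Du_comm h P hse hu2 huN hd hgu

/-- two point stabilizers with a common nonidentity element coincide -/
theorem Du_eq_of_common {u w g : G} (hu2 : orderOf u = 2) (huN : u ∉ Nz P) (hw2 : orderOf w = 2)
    (hwN : w ∉ Nz P) (hgu : g ∈ Du P u) (hgw : g ∈ Du P w) (hg1 : g ≠ 1) : Du P u = Du P w :=
  le_antisymm (Du_le_of_common h P hse hu2 huN hw2 hwN hgu hgw hg1)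
    (Du_le_of_common h P hse hw2 hwN hu2 huN hgw hgu hg1)

/-- involutions with the same nontrivial two point stabilizer define the same point -/
theorem mk_eq_of_Du_eq {u w d0 : G} (hu2 : orderOf u = 2) (huN : u ∉ Nz P) (hw2 : orderOf w = 2)
    (hwN : w ∉ Nz P) (hD : Du P u = Du P w) (hd0 : d0 ∈ Du P u) (hd01 : d0 ≠ 1) :
    (QuotientGroup.mk u : G ⧸ Nz P) = QuotientGroup.mk w := by
  have hui := invol_inv hu2
  have hv : ∀ d ∈ Du P u, (u * w) * d * (u * w)⁻¹ = d := by
    intro d hd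
    have h1 : w * d * w⁻¹ = d⁻¹ := Du_inverted h P hse hw2 hwN (hD ▸ hd)
    have h2 : u * d⁻¹ * u⁻¹ = d⁻¹⁻¹ := Du_inverted h P hse hu2 huN ((Du P u).inv_mem hd)
    calc (u * w) * d * (u * w)⁻¹ = u * (w * d * w⁻¹) * u⁻¹ := by group
      _ = d := by rw [h1, h2, inv_inv]
  by_cases hvN : u * w ∈ Nz P
  · rw [QuotientGroup.eq, hui]; exact hvN
  · exfalso
    have hne : (QuotientGroup.mk 1 : G ⧸ Nz P) ≠ QuotientGroup.mk (u * w) := by
      intro e
      rw [QuotientGroup.eq] at e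
      apply hvN
      simpa using e
    obtain ⟨i, hi2, hi1, _⟩ := se_exists_swap hse hne
    rw [MulAction.Quotient.smul_mk, smul_eq_mul, mul_one, QuotientGroup.eq] at hi1
    have hii := invol_inv hi2
    have hiN : i ∉ Nz P := by
      intro hi
      apply hvN
      have := (Nz P).mul_mem hi hi1
      have e : i * (i⁻¹ * (u * w)) = u * w := by group
      rw [e] at this; exact this
    -- `n₁ = i⁻¹ v` conjugates like `i⁻¹` on `Du P u`
    have hconj : ∀ d ∈ Du P u, i⁻¹ * (u * w) * d * (i⁻¹ * (u * w))⁻¹ = i⁻¹ * d * i := by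
      intro d hd
      calc i⁻¹ * (u * w) * d * (i⁻¹ * (u * w))⁻¹ = i⁻¹ * ((u * w) * d * (u * w)⁻¹) * i := by group
        _ = i⁻¹ * d * i := by rw [hv d hd]
    have hle : ∀ d ∈ Du P u, d ∈ Du P i := by
      intro d hd
      rw [mem_Du]
      refine ⟨(mem_Du.mp hd).1, ?_⟩
      rw [← hconj d hd]
      exact (Nz P).mul_mem ((Nz P).mul_mem hi1 (mem_Du.mp hd).1) ((Nz P).inv_mem hi1)
    have hDi : Du P u = Du P i :=
      Du_eq_of_common h P hse hu2 huN hi2 hiN hd0 (hle d0 hd0) hd01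
    have hinv : ∀ d ∈ Du P u, i⁻¹ * (u * w) * d * (i⁻¹ * (u * w))⁻¹ = d⁻¹ := by
      intro d hd
      rw [hconj d hd]
      have := Du_inverted h P hse hi2 hiN (hDi ▸ hd)
      rw [hii] at this ⊢
      exact this
    have hn1 : i⁻¹ * (u * w) ∈ Du P u := by
      apply normalizer_Du h P hse hu2 huN hd0 hd01 hi1
      intro d hd
      rw [hinv d hd]
      exact (Du P u).inv_mem hd
    have hc := Du_comm h P hse hu2 huN hn1 hd0
    have h3 := hinv d0 hd0
    have h4 : d0 = d0⁻¹ := by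
      rw [← h3, hc]; group
    have h5 : d0 * d0 = 1 := by
      calc d0 * d0 = d0 * d0⁻¹ := by rw [← h4]
        _ = 1 := mul_inv_cancel d0
    have h6 : orderOf d0 = 2 := orderOf_two_of hd01 h5
    have h7 : d0 ∈ (P : Subgroup G) := invol_mem_of_mem_Nz P h6 (mem_Du.mp hd0).1
    exact hd01 (Du_inf_Mc h P hse huN hd0 (P_le_Mc P hse h7))

/-- `Nz P` is transitive on the points other than the base point -/
theorem exists_Nz_smul {u w : G} (hu2 : orderOf u = 2) (huN : u ∉ Nz P) (hw2 : orderOf w = 2)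
    (hwN : w ∉ Nz P) (hDu : Du P u ≠ ⊥) :
    ∃ n ∈ Nz P, n • (QuotientGroup.mk u : G ⧸ Nz P) = QuotientGroup.mk w := by
  obtain ⟨⟨d0, hd0⟩, hd01'⟩ := (Subgroup.ne_bot_iff_exists_ne_one).mp hDu
  have hd01 : d0 ≠ 1 := fun e => hd01' (Subtype.ext e)
  obtain ⟨d1, hd1, m, hm, hdm⟩ := Nz_decomp h P hse hw2 hwN (mem_Du.mp hd0).1
  have hd1N : d1 ∈ Nz P := (mem_Du.mp hd1).1
  have hd11 : d1 ≠ 1 := by
    intro e
    apply hd01
    apply Du_inf_Mc h P hse huN hd0
    rw [hdm, e, one_mul]; exact hm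
  have hd1M : d1 ∉ Mc P := fun e => hd11 (Du_inf_Mc h P hse hwN hd1 e)
  -- conjugacy inside `Mc`
  let φ : Mc P → Mc P := fun x => ⟨d1⁻¹ * x * d1 * x⁻¹, (Mc P).mul_mem (by
    have := conj_mem_Mc ((Nz P).inv_mem hd1N) x.2
    simpa using this) ((Mc P).inv_mem x.2)⟩
  have hinj : Function.Injective φ := by
    intro x x' hxx
    have h1 : d1⁻¹ * (x : G) * d1 * (x : G)⁻¹ = d1⁻¹ * (x' : G) * d1 * (x' : G)⁻¹ :=
      congrArg Subtype.val hxx
    have h2 : d1 * ((x' : G)⁻¹ * x) * d1⁻¹ = (x' : G)⁻¹ * x := by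
      have h3 : (x : G) * d1 * (x : G)⁻¹ = (x' : G) * d1 * (x' : G)⁻¹ := by
        have := congrArg (fun y => d1 * y) h1
        calc (x : G) * d1 * (x : G)⁻¹ = d1 * (d1⁻¹ * x * d1 * (x : G)⁻¹) := by group
          _ = d1 * (d1⁻¹ * x' * d1 * (x' : G)⁻¹) := this
          _ = (x' : G) * d1 * (x' : G)⁻¹ := by group
      calc d1 * ((x' : G)⁻¹ * x) * d1⁻¹
          = (x' : G)⁻¹ * ((x' : G) * d1 * (x' : G)⁻¹) * x * d1⁻¹ := by group
        _ = (x' : G)⁻¹ * ((x : G) * d1 * (x : G)⁻¹) * x * d1⁻¹ := by rw [h3]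
        _ = (x' : G)⁻¹ * x := by group
    have h4 := fpf_Mc h P hse hd1M ((Mc P).mul_mem ((Mc P).inv_mem x'.2) x.2) h2
    apply Subtype.ext
    have : (x : G) = (x' : G) * ((x' : G)⁻¹ * x) := by group
    rw [this, h4, mul_one]
  have hsurj : Function.Surjective φ := Finite.injective_iff_surjective.mp hinj
  obtain ⟨x, hx⟩ := hsurj ⟨m, hm⟩
  have hxm : d1⁻¹ * (x : G) * d1 * (x : G)⁻¹ = m := congrArg Subtype.val hx
  have hxd : (x : G) * d1 * (x : G)⁻¹ = d0 := by
    rw [hdm, ← hxm]; group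
  have hxN : (x : G) ∈ Nz P := Mc_le_Nz h P hse x.2
  set w' := (x : G) * w * (x : G)⁻¹ with hw'
  have hw'2 : orderOf w' = 2 := orderOf_conj_two _ hw2
  have hw'N : w' ∉ Nz P := by
    intro e
    apply hwN
    have := (Nz P).mul_mem ((Nz P).mul_mem ((Nz P).inv_mem hxN) e) hxN
    have e2 : (x : G)⁻¹ * w' * x = w := by rw [hw']; group
    rw [e2] at this; exact this
  have hd0w' : d0 ∈ Du P w' := by
    rw [mem_Du]
    refine ⟨(mem_Du.mp hd0).1, ?_⟩
    have e : w'⁻¹ * d0 * w' = (x : G) * (w⁻¹ * d1 * w) * (x : G)⁻¹ := by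
      rw [hw', ← hxd]; group
    rw [e]
    exact (Nz P).mul_mem ((Nz P).mul_mem hxN (mem_Du.mp hd1).2) ((Nz P).inv_mem hxN)
  have hD := Du_eq_of_common h P hse hu2 huN hw'2 hw'N hd0 hd0w' hd01
  have hmk := mk_eq_of_Du_eq h P hse hu2 huN hw'2 hw'N hD hd0 hd01
  refine ⟨(x : G)⁻¹, (Nz P).inv_mem hxN, ?_⟩
  rw [hmk, MulAction.Quotient.smul_mk, QuotientGroup.eq, smul_eq_mul]
  have e : ((x : G)⁻¹ * w')⁻¹ * w = x := by rw [hw']; group
  rw [e]; exact hxN

/-- only the identity fixes the base point and two further points -/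
theorem three_fix_base {g : G} {b c : G ⧸ Nz P} (hb1 : (QuotientGroup.mk 1 : G ⧸ Nz P) ≠ b)
    (hc1 : (QuotientGroup.mk 1 : G ⧸ Nz P) ≠ c) (hbc : b ≠ c)
    (h1 : g • (QuotientGroup.mk 1 : G ⧸ Nz P) = QuotientGroup.mk 1) (hb : g • b = b)
    (hc : g • c = c) : g = 1 := by
  obtain ⟨w, hw2, hw1, _⟩ := se_exists_swap hse hb1
  obtain ⟨w', hw'2, hw'1, _⟩ := se_exists_swap hse hc1
  rw [MulAction.Quotient.smul_mk, smul_eq_mul, mul_one] at hw1 hw'1
  have hwN : w ∉ Nz P := by
    intro e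
    apply hb1
    rw [← hw1, QuotientGroup.eq]; simpa using e
  have hw'N : w' ∉ Nz P := by
    intro e
    apply hc1
    rw [← hw'1, QuotientGroup.eq]; simpa using e
  by_contra hg1
  have hgN : g ∈ Nz P := by
    rw [smul_mk_eq_iff] at h1
    simpa using h1
  have hgw : g ∈ Du P w := by
    rw [mem_Du]
    refine ⟨hgN, ?_⟩
    rw [← hw1, smul_mk_eq_iff] at hb
    exact hb
  have hgw' : g ∈ Du P w' := by
    rw [mem_Du]
    refine ⟨hgN, ?_⟩
    rw [← hw'1, smul_mk_eq_iff] at hc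
    exact hc
  have hD := Du_eq_of_common h P hse hw2 hwN hw'2 hw'N hgw hgw' hg1
  have := mk_eq_of_Du_eq h P hse hw2 hwN hw'2 hw'N hD hgw hg1
  apply hbc
  rw [← hw1, ← hw'1]; exact this

/-- only the identity fixes three points -/
theorem three_fix {g : G} {a b c : G ⧸ Nz P} (hab : a ≠ b) (hac : a ≠ c) (hbc : b ≠ c)
    (ha : g • a = a) (hb : g • b = b) (hc : g • c = c) : g = 1 := by
  induction a using QuotientGroup.induction_on with | _ x
  have key : x⁻¹ * g * x = 1 := by
    apply three_fix_base h P hse (b := x⁻¹ • b) (c := x⁻¹ • c)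
    · intro e
      apply hab
      have := congrArg (fun y => x • y) e
      simp only [smul_inv_smul] at this
      rw [← this, MulAction.Quotient.smul_mk, smul_eq_mul, mul_one]
    · intro e
      apply hac
      have := congrArg (fun y => x • y) e
      simp only [smul_inv_smul] at this
      rw [← this, MulAction.Quotient.smul_mk, smul_eq_mul, mul_one]
    · intro e
      apply hbc
      have := congrArg (fun y => x • y) e
      simpa using this
    · rw [smul_mk_eq_iff] at ha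
      rw [smul_mk_eq_iff]
      simpa using ha
    · rw [← mul_smul]
      have e : x⁻¹ * g * x * x⁻¹ = x⁻¹ * g := by group
      rw [e, mul_smul, hb]
    · rw [← mul_smul]
      have e : x⁻¹ * g * x * x⁻¹ = x⁻¹ * g := by group
      rw [e, mul_smul, hc]
  calc g = x * (x⁻¹ * g * x) * x⁻¹ := by group
    _ = 1 := by rw [key]; group

/-- in a simple group the two point stabilizers are nontrivial -/
theorem Du_ne_bot [IsSimpleGroup G] {u : G} (hu2 : orderOf u = 2) (huN : u ∉ Nz P) :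
    Du P u ≠ ⊥ := by
  intro hbot
  have hNM : Nz P = Mc P := by
    apply le_antisymm _ (Mc_le_Nz h P hse)
    intro n hn
    obtain ⟨d, hd, m, hm, rfl⟩ := Nz_decomp h P hse hu2 huN hn
    rw [hbot, Subgroup.mem_bot] at hd
    rw [hd, one_mul]; exact hm
  have hFrob : Cfsg.IsFrobeniusComplement (Mc P) := by
    refine ⟨?_, ?_, ?_⟩
    · intro e
      apply P_ne_bot h P hse
      rw [eq_bot_iff, ← e]
      exact P_le_Mc P hse
    · rw [← hNM]; exact hse.1
    · intro g hg
      rw [eq_bot_iff]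
      intro x hx
      rw [Subgroup.mem_bot]
      obtain ⟨hx1, hx2⟩ := Subgroup.mem_inf.mp hx
      rw [Subgroup.mem_pointwise_smul_iff_inv_smul_mem] at hx2
      have hx2' : g⁻¹ * x * g ∈ Mc P := by
        simpa [MulAut.smul_def, MulAut.conj_apply, mul_assoc] using hx2
      have hgN : g ∉ Nz P := by rw [hNM]; exact hg
      have h1 : g⁻¹ * x * g = 1 := by
        apply Mc_TI h P hse hgN hx2'
        have e : g * (g⁻¹ * x * g) * g⁻¹ = x := by group
        rw [e]; exact hx1
      calc x = g * (g⁻¹ * x * g) * g⁻¹ := by group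
        _ = 1 := by rw [h1]; group
  obtain ⟨K, _, hKn, hKc⟩ := Cfsg.Agent.S0035.result (Mc P) hFrob
  rcases hKn.eq_bot_or_eq_top with hK | hK
  · rw [hK, Subgroup.isComplement'_bot_left] at hKc
    exact hFrob.2.1 hKc
  · rw [hK, Subgroup.isComplement'_top_left] at hKc
    exact hFrob.1 hKc

end

end Cfsg.Agent.Lib.Helper13.CTIC
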