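import Mathlib
import Cfsg.Agent.Lib.Helper13.CTICD

/-!
helper13: Package C of helper23's S4064 project (CTI-groups), file E.
A simple nonabelian CTI-group of even order is a Zassenhaus group on the cosets of the normalizer of
a Sylow 2-subgroup: the structure `ZData` of `Cfsg.Agent.Lib.Helper23.CTIDefs`.
-/

set_option autoImplicit false
set_option linter.style.haveILetI false
set_option linter.unusedSectionVars false

namespace Cfsg.Agent.Lib.Helper13.CTIC

open Cfsg Cfsg.Agent.Lib.Helper23.CTI Cfsg.Agent.Lib.Helper17.CTIA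
open Cfsg.Agent.Lib.Helper2 Cfsg.Agent.Lib.Helper8 Cfsg.Agent.Lib.Helper8.AbInv
open Cfsg.Agent.Lib.Helper10

universe u

variable {G : Type u} [Group G]

theorem mk_one_ne_mk' {H : Subgroup G} {u : G} (hu : u ∉ H) :
    (QuotientGroup.mk 1 : G ⧸ H) ≠ QuotientGroup.mk u := by
  intro e
  rw [QuotientGroup.eq] at e
  apply hu
  simpa using e

theorem smul_mk_one_of_mem {H : Subgroup G} {n : G} (hn : n ∈ H) :
    n • (QuotientGroup.mk 1 : G ⧸ H) = QuotientGroup.mk 1 := by
  rw [smul_mk_eq_iff]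
  simpa using hn

section

variable [Finite G] (h : IsCTI G) (P : Sylow 2 G) (hse : Cfsg.IsStronglyEmbedded (Nz P))
  [IsSimpleGroup G] {u : G} (hu2 : orderOf u = 2) (huN : u ∉ Nz P)

include h hse hu2 huN

/-- every point other than the base point is `m • mk u` for some `m ∈ Mc P` -/
theorem exists_Mc_smul {c : G ⧸ Nz P} (hc : (QuotientGroup.mk 1 : G ⧸ Nz P) ≠ c) :
    ∃ m ∈ Mc P, m • (QuotientGroup.mk u : G ⧸ Nz P) = c := by
  obtain ⟨w, hw2, hw1, _⟩ := se_exists_swap hse hc
  rw [MulAction.Quotient.smul_mk, smul_eq_mul, mul_one] at hw1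
  have hwN : w ∉ Nz P := by
    intro e
    apply hc
    rw [← hw1, QuotientGroup.eq]; simpa using e
  obtain ⟨n, hn, hnw⟩ := exists_Nz_smul h P hse hu2 huN hw2 hwN (Du_ne_bot h P hse hu2 huN)
  obtain ⟨m, hm, d, hd, rfl⟩ := Nz_decomp' h P hse hu2 huN hn
  refine ⟨m, hm, ?_⟩
  rw [← hw1, ← hnw, mul_smul]
  congr 1
  symm
  rw [smul_mk_eq_iff]
  exact (mem_Du.mp hd).2

theorem Mc_smul_ne {m : G} (hm : m ∈ Mc P) :
    (QuotientGroup.mk 1 : G ⧸ Nz P) ≠ m • (QuotientGroup.mk u : G ⧸ Nz P) := by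
  intro e
  apply mk_one_ne_mk' huN
  have h1 := congrArg (fun y => m⁻¹ • y) e
  simp only [inv_smul_smul] at h1
  rw [← h1]
  exact (smul_mk_one_of_mem ((Nz P).inv_mem (Mc_le_Nz h P hse hm))).symm

theorem Mc_smul_inj {m m' : G} (hm : m ∈ Mc P) (hm' : m' ∈ Mc P)
    (e : m • (QuotientGroup.mk u : G ⧸ Nz P) = m' • (QuotientGroup.mk u : G ⧸ Nz P)) : m = m' := by
  by_contra hne
  have h1 : (m'⁻¹ * m) • (QuotientGroup.mk u : G ⧸ Nz P) = QuotientGroup.mk u := by
    rw [mul_smul, e, inv_smul_smul]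
  have h2 : m'⁻¹ * m ≠ 1 := by
    intro e1
    apply hne
    calc m = m' * (m'⁻¹ * m) := by group
      _ = m' := by rw [e1, mul_one]
  have := Mc_fix h P hse ((Mc P).mul_mem ((Mc P).inv_mem hm') hm) h2 _ h1
  exact mk_one_ne_mk' huN this.symm

/-- the number of points -/
theorem card_points : Nat.card (G ⧸ Nz P) = Nat.card (Mc P) + 1 := by
  classical
  let f : Option (Mc P) → G ⧸ Nz P := fun o =>
    match o with
    | none => QuotientGroup.mk 1
    | some m => (m : G) • (QuotientGroup.mk u : G ⧸ Nz P)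
  have hf : Function.Bijective f := by
    constructor
    · intro a b hab
      match a, b with
      | none, none => rfl
      | none, some m => exact absurd hab (Mc_smul_ne h P hse hu2 huN m.2)
      | some m, none => exact absurd hab.symm (Mc_smul_ne h P hse hu2 huN m.2)
      | some m, some m' =>
        have := Mc_smul_inj h P hse hu2 huN m.2 m'.2 hab
        rw [Subtype.ext this]
    · intro c
      by_cases hc : (QuotientGroup.mk 1 : G ⧸ Nz P) = c
      · exact ⟨none, hc⟩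
      · obtain ⟨m, hm, hmc⟩ := exists_Mc_smul h P hse hu2 huN hc
        exact ⟨some ⟨m, hm⟩, hmc⟩
  rw [← Nat.card_congr (Equiv.ofBijective f hf), Finite.card_option]

/-- the group is doubly transitive on the points -/
theorem two_transitive {a b c d : G ⧸ Nz P} (hab : a ≠ b) (hcd : c ≠ d) :
    ∃ g : G, g • a = c ∧ g • b = d := by
  induction a using QuotientGroup.induction_on with | _ x
  induction c using QuotientGroup.induction_on with | _ y
  have hb' : (QuotientGroup.mk 1 : G ⧸ Nz P) ≠ x⁻¹ • b := by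
    intro e
    apply hab
    have := congrArg (fun z => x • z) e
    simp only [smul_inv_smul] at this
    rw [← this, MulAction.Quotient.smul_mk, smul_eq_mul, mul_one]
  have hd' : (QuotientGroup.mk 1 : G ⧸ Nz P) ≠ y⁻¹ • d := by
    intro e
    apply hcd
    have := congrArg (fun z => y • z) e
    simp only [smul_inv_smul] at this
    rw [← this, MulAction.Quotient.smul_mk, smul_eq_mul, mul_one]
  obtain ⟨m, hm, hmb⟩ := exists_Mc_smul h P hse hu2 huN hb'
  obtain ⟨m', hm', hmd⟩ := exists_Mc_smul h P hse hu2 huN hd'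
  have hmN := Mc_le_Nz h P hse hm
  have hm'N := Mc_le_Nz h P hse hm'
  refine ⟨y * (m' * m⁻¹) * x⁻¹, ?_, ?_⟩
  · rw [MulAction.Quotient.smul_mk, QuotientGroup.eq, smul_eq_mul]
    have e : (y * (m' * m⁻¹) * x⁻¹ * x)⁻¹ * y = m * m'⁻¹ := by group
    rw [e]
    exact (Nz P).mul_mem hmN ((Nz P).inv_mem hm'N)
  · have e1 : b = x • (m • (QuotientGroup.mk u : G ⧸ Nz P)) := by
      rw [hmb, smul_inv_smul]
    have e2 : d = y • (m' • (QuotientGroup.mk u : G ⧸ Nz P)) := by
      rw [hmd, smul_inv_smul]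
    rw [e1, e2, ← mul_smul, ← mul_smul, ← mul_smul]
    congr 1
    group

/-- the group is a Zassenhaus group on the points -/
theorem isZassenhaus : Cfsg.IsZassenhausGroup G (G ⧸ Nz P) := by
  obtain ⟨t0, ht0, ht02⟩ := exists_invol_mem h P hse (P_ne_bot h P hse)
  have ht0M : t0 ∈ Mc P := P_le_Mc P hse ht0
  have ht01 : t0 ≠ 1 := invol_ne_one ht02
  have h01 := mk_one_ne_mk' huN
  have h02 : (QuotientGroup.mk 1 : G ⧸ Nz P) ≠ t0 • (QuotientGroup.mk u : G ⧸ Nz P) :=
    Mc_smul_ne h P hse hu2 huN ht0M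
  have h12 : (QuotientGroup.mk u : G ⧸ Nz P) ≠ t0 • (QuotientGroup.mk u : G ⧸ Nz P) := by
    intro e
    have := Mc_fix h P hse ht0M ht01 _ e.symm
    exact h01 this.symm
  refine ⟨⟨?_⟩, ?_, ?_, ?_, ?_⟩
  · intro g₁ g₂ hg
    have hfix : ∀ a : G ⧸ Nz P, (g₂⁻¹ * g₁) • a = a := by
      intro a
      rw [mul_smul, hg a, inv_smul_smul]
    have := three_fix h P hse h01 h02 h12 (hfix _) (hfix _) (hfix _)
    exact (inv_mul_eq_one.mp this).symm
  · rw [MulAction.is_two_pretransitive_iff]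
    intro a b c d hab hcd
    exact two_transitive h P hse hu2 huN hab hcd
  · intro g a b c hab hbc hac ha hb hc
    exact three_fix h P hse hab hac hbc ha hb hc
  · obtain ⟨⟨d0, hd0⟩, hd01'⟩ :=
      (Subgroup.ne_bot_iff_exists_ne_one).mp (Du_ne_bot h P hse hu2 huN)
    have hd01 : d0 ≠ 1 := fun e => hd01' (Subtype.ext e)
    refine ⟨d0, hd01, QuotientGroup.mk 1, QuotientGroup.mk u, h01, ?_, ?_⟩
    · exact smul_mk_one_of_mem (mem_Du.mp hd0).1
    · rw [smul_mk_eq_iff]; exact (mem_Du.mp hd0).2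
  · intro K hK htr
    rcases hK.eq_bot_or_eq_top with hKb | hKt
    · exfalso
      subst hKb
      obtain ⟨k, hk⟩ := htr.exists_smul_eq (QuotientGroup.mk 1 : G ⧸ Nz P) (QuotientGroup.mk u)
      have hk1 : (k : G) = 1 := Subgroup.mem_bot.mp k.2
      rw [Subgroup.smul_def, hk1, one_smul] at hk
      exact h01 hk
    · subst hKt
      refine ⟨QuotientGroup.mk 1, ?_⟩
      intro hstab
      have hmem : (⟨t0, Subgroup.mem_top t0⟩ : (⊤ : Subgroup G)) ∈
          (⊥ : Subgroup (⊤ : Subgroup G)) := by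
        rw [← hstab, MulAction.mem_stabilizer_iff]
        exact smul_mk_one_of_mem (le_Nz P ht0)
      exact ht01 (congrArg Subtype.val (Subgroup.mem_bot.mp hmem))

end

/-- **Package C**: a simple nonabelian CTI-group of even order carries the Zassenhaus data -/
theorem nonempty_zData [Finite G] (h : IsCTI G) [IsSimpleGroup G] (hG : ¬ IsMulCommutative G)
    (heven : Even (Nat.card G)) : Nonempty (ZData G) := by
  haveI : Fact (Nat.Prime 2) := ⟨Nat.prime_two⟩
  obtain ⟨P⟩ : Nonempty (Sylow 2 G) := inferInstance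
  have hP : (P : Subgroup G) ≠ ⊥ := sylow_ne_bot heven P
  have hnn : ¬ (P : Subgroup G).Normal := not_normal_sylow hG P hP
  have hse : Cfsg.IsStronglyEmbedded (Nz P) := cti_stronglyEmbedded_Nz h P hP hnn
  obtain ⟨u, hu2, huN⟩ := exists_invol_not_mem hse
  have hui := invol_inv hu2
  refine ⟨{
    P := P
    M := Mc P
    u := u
    hPM := P_le_Mc P hse
    hMN := Mc_le_Nz h P hse
    hcent := fun t ht ht2 => centralizer_invol_eq h P hse ht ht2
    hcentral := fun t ht ht2 x hx => invol_central P hse ht ht2 x hx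
    hu := hu2
    huN := huN
    hZ := isZassenhaus h P hse hu2 huN
    hcard := card_points h P hse hu2 huN
    hfix := fun m hm hm1 c hc => Mc_fix h P hse hm hm1 c hc
    hreg := ?_ }⟩
  intro s hs hs2 t ht ht2
  obtain ⟨d, hd, hdt⟩ := se_conj_in_inter hse hu2 huN hs2 (le_Nz P hs) ht2 (le_Nz P ht)
  have hd' : d ∈ Du P u := hd
  refine ⟨d, ⟨(mem_Du.mp hd').1, ?_, hdt⟩, ?_⟩
  · have := (mem_Du.mp hd').2
    rw [hui] at this ⊢
    exact this
  · rintro d' ⟨hd'N, hd'u, hd't⟩
    have hd'D : d' ∈ Du P u := by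
      rw [mem_Du]
      refine ⟨hd'N, ?_⟩
      rw [hui] at hd'u ⊢
      exact hd'u
    have hk : d⁻¹ * d' ∈ Du P u := (Du P u).mul_mem ((Du P u).inv_mem hd') hd'D
    have hkM : d⁻¹ * d' ∈ Mc P := by
      rw [← centralizer_invol_eq h P hse hs hs2, mem_cent_singleton]
      have e1 : d' * s * d'⁻¹ = d * s * d⁻¹ := by rw [hd't, hdt]
      calc s * (d⁻¹ * d') = d⁻¹ * (d * s * d⁻¹) * d' := by group
        _ = d⁻¹ * (d' * s * d'⁻¹) * d' := by rw [e1]
        _ = d⁻¹ * d' * s := by group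
    have := Du_inf_Mc h P hse huN hk hkM
    calc d' = d * (d⁻¹ * d') := by group
      _ = d := by rw [this, mul_one]

end Cfsg.Agent.Lib.Helper13.CTIC
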