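/-
helper13: existence of the dihedral subgroups of order `2 (q ± 1) / d` in `PSL₂(q)` (images of the
normalisers of the maximal tori).
-/
import Mathlib
import Cfsg.Agent.Lib.Helper13.DkMax
import Cfsg.Agent.Lib.Helper13.PSL2ClassSizeEven

set_option autoImplicit false

namespace Cfsg.Agent.Lib.Helper13.Dk

open Subgroup Matrix Cfsg.Agent.Lib.Helper13

variable {F : Type*} [Field F] [Fintype F]

/-- The image in `PSL₂(F)` of the normaliser of the torus of a regular semisimple element is
dihedral. -/
theorem exists_dihedral_of_semisimple (p : ℕ) [hpF : Fact p.Prime] [CharP F p]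
    (g : SpecialLinearGroup (Fin 2) F)
    (hg : (g : Matrix (Fin 2) (Fin 2) F).trace ^ 2 ≠ 4) :
    ∃ H : Subgroup (Matrix.ProjectiveSpecialLinearGroup (Fin 2) F),
      Nonempty (H ≃* DihedralGroup
        (Nat.card (centralizer ({g} : Set (SpecialLinearGroup (Fin 2) F))) /
          Nat.gcd 2 (Fintype.card F - 1))) := by
  classical
  set C := centralizer ({g} : Set (SpecialLinearGroup (Fin 2) F)) with hC
  set N := normalizer (C : Set (SpecialLinearGroup (Fin 2) F)) with hN
  let q' : SpecialLinearGroup (Fin 2) F →* Matrix.ProjectiveSpecialLinearGroup (Fin 2) F :=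
    QuotientGroup.mk' (center (SpecialLinearGroup (Fin 2) F))
  let S : Emb F N := ⟨N.subtype, Subgroup.subtype_injective N⟩
  have hCN : C ≤ N := le_normalizer
  have hgC : g ∈ C := mem_centralizer_singleton_iff.mpr rfl
  let g' : N := ⟨g, hCN hgC⟩
  have htr : S.tr g' ^ 2 ≠ 4 := hg
  have hne : g ≠ g⁻¹ := by
    intro h
    have h1 : g' = g'⁻¹ := Subtype.ext h
    exact S.ne_inv_of_tr_sq htr h1
  have hcardN : Nat.card N = 2 * Nat.card C := card_normalizer_centralizer g hg hne
  -- the centralizer inside `N`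
  have hcent : centralizer ({g'} : Set N) = C.subgroupOf N := by
    ext x
    rw [mem_centralizer_singleton_iff, Subgroup.mem_subgroupOf, hC, mem_centralizer_singleton_iff]
    constructor
    · intro h
      exact congrArg Subtype.val h
    · intro h
      exact Subtype.ext h
  have hcardC : Nat.card (centralizer ({g'} : Set N)) = Nat.card C := by
    rw [hcent]
    exact Nat.card_congr (Subgroup.subgroupOfEquivOfLe hCN).toEquiv
  have hdih : S.DihType := ⟨g', htr, by rw [hcardC, hcardN]; ring⟩
  -- nonabelian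
  obtain ⟨x₀, hx₀⟩ := exists_inverting g hg
  have hx₀N : x₀ ∈ N := (mem_normalizer_centralizer_iff g hg x₀).mpr (Or.inr hx₀)
  have hna : ∃ x y : N, x * y ≠ y * x := by
    refine ⟨⟨x₀, hx₀N⟩, g', ?_⟩
    intro h
    have h1 : x₀ * g = g * x₀ := congrArg Subtype.val h
    apply hne
    rw [← hx₀, h1, mul_inv_cancel_right]
  -- the quotient map
  let π : N →* N.map q' := q'.subgroupMap N
  have hπ : Function.Surjective π := q'.subgroupMap_surjective N
  have hker : ∀ z : N, π z = 1 ↔ Emb.sc (S.m z) := by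
    intro z
    rw [S.sc_iff_mem_center]
    change π z = 1 ↔ (z : SpecialLinearGroup (Fin 2) F) ∈ center (SpecialLinearGroup (Fin 2) F)
    rw [← QuotientGroup.eq_one_iff (N := center (SpecialLinearGroup (Fin 2) F))]
    constructor
    · intro h
      exact congrArg Subtype.val h
    · intro h
      exact Subtype.ext h
  have hZ : π.ker = center N := by
    ext z
    rw [MonoidHom.mem_ker, hker, S.mem_center_iff_sc hna]
  have hcenterle : center (SpecialLinearGroup (Fin 2) F) ≤ N :=
    (Subgroup.center_le_centralizer _).trans hCN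
  have hkercard : Nat.card π.ker = Nat.gcd 2 (Fintype.card F - 1) := by
    rw [← card_center_SL2_eq_gcd p]
    have hk : π.ker = (center (SpecialLinearGroup (Fin 2) F)).subgroupOf N := by
      ext z
      rw [MonoidHom.mem_ker, hker, S.sc_iff_mem_center, Subgroup.mem_subgroupOf]
      rfl
    rw [hk]
    exact Nat.card_congr (Subgroup.subgroupOfEquivOfLe hcenterle).toEquiv
  obtain ⟨k, -, ⟨e⟩⟩ := S.dih_of_dihType π hπ hZ hdih
  refine ⟨N.map q', ?_⟩
  have h1 := card_eq_ker_mul π hπ
  rw [hkercard, hcardN, Nat.card_congr e.toEquiv, DihedralGroup.nat_card] at h1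
  have hk : k = Nat.card C / Nat.gcd 2 (Fintype.card F - 1) := by
    have hpos : 0 < Nat.gcd 2 (Fintype.card F - 1) := Nat.gcd_pos_of_pos_left _ (by norm_num)
    apply (Nat.div_eq_of_eq_mul_left hpos _).symm
    have : 2 * Nat.card C = 2 * (k * Nat.gcd 2 (Fintype.card F - 1)) := by rw [h1]; ring
    exact Nat.eq_of_mul_eq_mul_left (by norm_num) this
  rw [← hk]
  exact ⟨e⟩

/-- `PSL₂(F)` contains a dihedral subgroup of order `2 (q + 1) / d`. -/
theorem exists_dihedral_add_one (p : ℕ) [hpF : Fact p.Prime] [CharP F p] :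
    ∃ H : Subgroup (Matrix.ProjectiveSpecialLinearGroup (Fin 2) F),
      Nonempty (H ≃* DihedralGroup ((Fintype.card F + 1) / Nat.gcd 2 (Fintype.card F - 1))) := by
  obtain ⟨τ, hτ, hns⟩ := exists_nonsplit_trace (F := F)
  have h1 := exists_dihedral_of_semisimple p (traceSL τ) (by rw [trace_traceSL]; exact hτ)
  rw [card_centralizer_nonsplit (traceSL τ) (by rw [trace_traceSL]; exact hτ)
    (by rw [trace_traceSL]; exact hns)] at h1
  exact h1

/-- `PSL₂(F)` contains a dihedral subgroup of order `2 (q - 1) / d` when `q ≥ 4`. -/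
theorem exists_dihedral_sub_one (p : ℕ) [hpF : Fact p.Prime] [CharP F p]
    (h4 : 4 ≤ Fintype.card F) :
    ∃ H : Subgroup (Matrix.ProjectiveSpecialLinearGroup (Fin 2) F),
      Nonempty (H ≃* DihedralGroup ((Fintype.card F - 1) / Nat.gcd 2 (Fintype.card F - 1))) := by
  classical
  -- an element `s ∉ {0, 1, -1}`
  obtain ⟨s, hs⟩ : ∃ s : F, s ∉ ({0, 1, -1} : Finset F) := by
    by_contra hcon
    push Not at hcon
    have : (Finset.univ : Finset F) ⊆ {0, 1, -1} := fun x _ => hcon x
    have h1 := Finset.card_le_card this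
    have h2 : ({0, 1, -1} : Finset F).card ≤ 3 := Finset.card_le_three
    rw [Finset.card_univ] at h1
    omega
  simp only [Finset.mem_insert, Finset.mem_singleton, not_or] at hs
  obtain ⟨hs0, hs1, hs2⟩ := hs
  have htrace : ((dSL s hs0 : SpecialLinearGroup (Fin 2) F) : Matrix (Fin 2) (Fin 2) F).trace =
      s + s⁻¹ := by
    change (!![s, 0; 0, s⁻¹] : Matrix (Fin 2) (Fin 2) F).trace = _
    rw [Matrix.trace_fin_two]
    simp
  have hg : ((dSL s hs0 : SpecialLinearGroup (Fin 2) F) : Matrix (Fin 2) (Fin 2) F).trace ^ 2 ≠ 4 := by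
    rw [htrace]
    intro h
    have h1 : (s - 1) ^ 2 * (s + 1) ^ 2 = 0 := by
      have h2 : (s + s⁻¹) ^ 2 * s ^ 2 = 4 * s ^ 2 := by rw [h]
      have h3 : (s + s⁻¹) * s = s ^ 2 + 1 := by field_simp
      have h4 : (s + s⁻¹) ^ 2 * s ^ 2 = (s ^ 2 + 1) ^ 2 := by rw [← h3]; ring
      rw [h4] at h2
      linear_combination h2
    rcases mul_eq_zero.mp h1 with h2 | h2
    · exact hs1 (sub_eq_zero.mp (pow_eq_zero_iff (two_ne_zero) |>.mp h2))
    · exact hs2 (eq_neg_of_add_eq_zero_left (pow_eq_zero_iff (two_ne_zero) |>.mp h2))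
  have h1 := exists_dihedral_of_semisimple p (dSL s hs0) hg
  rw [card_centralizer_split (dSL s hs0) hg s (by rw [htrace]; field_simp; ring)] at h1
  exact h1

section small

set_option maxRecDepth 100000 in
theorem a4_card_squares :
    (Finset.univ.image (fun x : alternatingGroup (Fin 4) => x ^ 2)).card = 9 := by
  decide

/-- `A₄` has no subgroup of order six. -/
theorem a4_no_card_six (K : Subgroup (alternatingGroup (Fin 4))) : Nat.card K ≠ 6 := by
  classical
  intro h6
  have h12 : Nat.card (alternatingGroup (Fin 4)) = 12 := by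
    rw [Nat.card_eq_fintype_card]; rfl
  have hidx : K.index = 2 := by
    have h := Subgroup.card_mul_index K
    rw [h6, h12] at h
    omega
  have hsq : ∀ x : alternatingGroup (Fin 4), x ^ 2 ∈ K := fun x =>
    Subgroup.sq_mem_of_index_two hidx x
  have hsub : Finset.univ.image (fun x : alternatingGroup (Fin 4) => x ^ 2) ⊆
      (K : Set (alternatingGroup (Fin 4))).toFinset := by
    intro y hy
    obtain ⟨x, -, rfl⟩ := Finset.mem_image.mp hy
    rw [Set.mem_toFinset]
    exact hsq x
  have h1 := Finset.card_le_card hsub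
  rw [a4_card_squares, Set.toFinset_card] at h1
  have h2 : Fintype.card (K : Set (alternatingGroup (Fin 4))) = Nat.card K := by
    rw [Nat.card_eq_fintype_card]
    rfl
  rw [h2, h6] at h1
  omega

variable {G : Type*} [Group G]

/-- No subgroup of order six inside a subgroup isomorphic to `A₄`. -/
theorem card_ne_six_of_le_alt4 (M H : Subgroup G) (hHM : H ≤ M)
    (e : M ≃* alternatingGroup (Fin 4)) : Nat.card H ≠ 6 := by
  intro h6
  apply a4_no_card_six ((H.subgroupOf M).map e.toMonoidHom)
  rw [Subgroup.card_map_of_injective e.injective, ← h6]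
  exact Nat.card_congr (Subgroup.subgroupOfEquivOfLe hHM).toEquiv

/-- A group isomorphic to `D_n` has an element of order `n`. -/
theorem exists_orderOf_eq_of_dihedral (H : Subgroup G) {n : ℕ} (f : H ≃* DihedralGroup n) :
    ∃ h ∈ H, orderOf h = n := by
  refine ⟨(f.symm (DihedralGroup.r 1) : H), (f.symm (DihedralGroup.r 1)).2, ?_⟩
  rw [Subgroup.orderOf_coe, MulEquiv.orderOf_eq, DihedralGroup.orderOf_r_one]

end small

end Cfsg.Agent.Lib.Helper13.Dk
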