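/-
helper13: explicit generating pairs of `S₄`, `A₄`, `A₅`.
-/
import Mathlib
import Cfsg.Agent.Lib.Helper13.DkDihExist

set_option autoImplicit false

namespace Cfsg.Agent.Lib.Helper13.PermGens

open Equiv

/-! ### `S₄` -/

/-- `(0 1)`. -/
def s4a : Perm (Fin 4) := swap 0 1

/-- `(1 2 3)`. -/
def s4b : Perm (Fin 4) := swap 0 1 * finRotate 4

theorem s4a_sq : s4a ^ 2 = 1 := by decide
theorem s4a_ne : s4a ≠ 1 := by decide
theorem s4b_cube : s4b ^ 3 = 1 := by decide
theorem s4b_ne : s4b ≠ 1 := by decide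
theorem s4ab_pow : (s4a * s4b) ^ 4 = 1 := by decide
theorem s4ab_sq_ne : (s4a * s4b) ^ 2 ≠ 1 := by decide

theorem s4_closure : Subgroup.closure ({s4a, s4b} : Set (Perm (Fin 4))) = ⊤ := by
  have h1 : s4a * s4b = finRotate 4 := by decide
  have hc : (finRotate 4).IsCycle := isCycle_finRotate (n := 2)
  have hs : (finRotate 4).support = Finset.univ := support_finRotate (n := 2)
  have h := Equiv.Perm.closure_cycle_adjacent_swap hc hs (0 : Fin 4)
  have h0 : swap (0 : Fin 4) ((finRotate 4) 0) = s4a := by decide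
  rw [h0] at h
  rw [eq_top_iff, ← h, Subgroup.closure_le]
  intro x hx
  rcases hx with rfl | rfl
  · rw [← h1]
    exact (Subgroup.closure _).mul_mem (Subgroup.subset_closure (by simp)) (Subgroup.subset_closure (by simp))
  · exact Subgroup.subset_closure (by simp)

/-- `(0 1)(2 3)`, `(0 1 2)` in `S₄`: a pair with product of order three. -/
def s4a' : Perm (Fin 4) := swap 0 1 * swap 2 3
def s4b' : Perm (Fin 4) := swap 0 1 * swap 1 2

theorem s4a'_sq : s4a' ^ 2 = 1 := by decide
theorem s4a'_ne : s4a' ≠ 1 := by decide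
theorem s4b'_cube : s4b' ^ 3 = 1 := by decide
theorem s4b'_ne : s4b' ≠ 1 := by decide
theorem s4ab'_cube : (s4a' * s4b') ^ 3 = 1 := by decide
theorem s4ab'_ne : s4a' * s4b' ≠ 1 := by decide

/-! ### `A₄` -/

def a4a : alternatingGroup (Fin 4) := ⟨swap 0 1 * swap 2 3, Equiv.Perm.mem_alternatingGroup.mpr (by decide)⟩
def a4b : alternatingGroup (Fin 4) := ⟨swap 0 1 * swap 1 2, Equiv.Perm.mem_alternatingGroup.mpr (by decide)⟩

theorem a4a_sq : a4a ^ 2 = 1 := by decide
theorem a4a_ne : a4a ≠ 1 := by decide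
theorem a4b_cube : a4b ^ 3 = 1 := by decide
theorem a4b_ne : a4b ≠ 1 := by decide
theorem a4ab_cube : (a4a * a4b) ^ 3 = 1 := by decide
theorem a4ab_ne : a4a * a4b ≠ 1 := by decide

theorem a4_closure : Subgroup.closure ({a4a, a4b} : Set (alternatingGroup (Fin 4))) = ⊤ := by
  set K := Subgroup.closure ({a4a, a4b} : Set (alternatingGroup (Fin 4))) with hK
  have haK : a4a ∈ K := Subgroup.subset_closure (by simp)
  have hbK : a4b ∈ K := Subgroup.subset_closure (by simp)
  have h12 : Nat.card (alternatingGroup (Fin 4)) = 12 := by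
    rw [Nat.card_eq_fintype_card]; rfl
  have h2 : 2 ∣ Nat.card K := by
    have ho : orderOf a4a = 2 := orderOf_eq_prime a4a_sq a4a_ne
    have hd := Subgroup.orderOf_dvd_natCard K haK
    rwa [ho] at hd
  have h3 : 3 ∣ Nat.card K := by
    have ho : orderOf a4b = 3 := orderOf_eq_prime a4b_cube a4b_ne
    have hd := Subgroup.orderOf_dvd_natCard K hbK
    rwa [ho] at hd
  have h6 : 6 ∣ Nat.card K := by
    have : Nat.Coprime 2 3 := by norm_num
    exact this.mul_dvd_of_dvd_of_dvd h2 h3
  have hdvd : Nat.card K ∣ 12 := h12 ▸ Subgroup.card_subgroup_dvd_card K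
  have hne := Cfsg.Agent.Lib.Helper13.Dk.a4_no_card_six K
  have hle : Nat.card K ≤ 12 := Nat.le_of_dvd (by norm_num) hdvd
  obtain ⟨j, hj⟩ := h6
  have : Nat.card K = 12 := by
    have hj2 : j ≤ 2 := by omega
    have hpos : 0 < Nat.card K := Nat.card_pos
    interval_cases j <;> omega
  exact (Subgroup.card_eq_iff_eq_top K).mp (by rw [this, h12])

/-! ### `A₅` -/

def a5a : alternatingGroup (Fin 5) := ⟨swap 0 1 * swap 2 3, Equiv.Perm.mem_alternatingGroup.mpr (by decide)⟩
/-- `(0 2 4)`. -/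
def a5b : alternatingGroup (Fin 5) := ⟨swap 0 2 * swap 2 4, Equiv.Perm.mem_alternatingGroup.mpr (by decide)⟩

theorem a5a_sq : a5a ^ 2 = 1 := by decide
theorem a5a_ne : a5a ≠ 1 := by decide
theorem a5b_cube : a5b ^ 3 = 1 := by decide
theorem a5b_ne : a5b ≠ 1 := by decide
theorem a5ab_pow : (a5a * a5b) ^ 5 = 1 := by decide
theorem a5ab_ne : a5a * a5b ≠ 1 := by decide

theorem a5_closure : Subgroup.closure ({a5a, a5b} : Set (alternatingGroup (Fin 5))) = ⊤ := by
  set K := Subgroup.closure ({a5a, a5b} : Set (alternatingGroup (Fin 5))) with hK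
  have haK : a5a ∈ K := Subgroup.subset_closure (by simp)
  have hbK : a5b ∈ K := Subgroup.subset_closure (by simp)
  have habK : a5a * a5b ∈ K := K.mul_mem haK hbK
  have h60 : Nat.card (alternatingGroup (Fin 5)) = 60 := by
    rw [Nat.card_eq_fintype_card]; rfl
  have h2 : 2 ∣ Nat.card K := by
    have ho : orderOf a5a = 2 := orderOf_eq_prime a5a_sq a5a_ne
    have hd := Subgroup.orderOf_dvd_natCard K haK
    rwa [ho] at hd
  have h3 : 3 ∣ Nat.card K := by
    have ho : orderOf a5b = 3 := orderOf_eq_prime a5b_cube a5b_ne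
    have hd := Subgroup.orderOf_dvd_natCard K hbK
    rwa [ho] at hd
  have h5 : 5 ∣ Nat.card K := by
    haveI : Fact (Nat.Prime 5) := ⟨by norm_num⟩
    have ho : orderOf (a5a * a5b) = 5 := orderOf_eq_prime a5ab_pow a5ab_ne
    have hd := Subgroup.orderOf_dvd_natCard K habK
    rwa [ho] at hd
  have h6 : 6 ∣ Nat.card K := by
    have : Nat.Coprime 2 3 := by norm_num
    exact this.mul_dvd_of_dvd_of_dvd h2 h3
  have h30 : 30 ∣ Nat.card K := by
    have : Nat.Coprime 6 5 := by norm_num
    exact this.mul_dvd_of_dvd_of_dvd h6 h5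
  have hdvd : Nat.card K ∣ 60 := h60 ▸ Subgroup.card_subgroup_dvd_card K
  have hle : Nat.card K ≤ 60 := Nat.le_of_dvd (by norm_num) hdvd
  obtain ⟨j, hj⟩ := h30
  have hj2 : j ≤ 2 := by omega
  have hpos : 0 < Nat.card K := Nat.card_pos
  have hcases : Nat.card K = 30 ∨ Nat.card K = 60 := by
    interval_cases j <;> omega
  rcases hcases with h | h
  · exfalso
    have hidx : K.index = 2 := by
      have := Subgroup.card_mul_index K
      rw [h, h60] at this
      omega
    haveI : K.Normal := Subgroup.normal_of_index_eq_two hidx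
    haveI := alternatingGroup.isSimpleGroup_five
    rcases Subgroup.Normal.eq_bot_or_eq_top (H := K) inferInstance with hb | ht
    · rw [hb, Subgroup.card_bot] at h
      omega
    · rw [ht, Subgroup.card_top, h60] at h
      omega
  · exact (Subgroup.card_eq_iff_eq_top K).mp (by rw [h, h60])

/-- `(0 1)(2 3)`, `(0 1 2)` in `A₅`: a pair with product of order three. -/
def a5a' : alternatingGroup (Fin 5) := ⟨swap 0 1 * swap 2 3, Equiv.Perm.mem_alternatingGroup.mpr (by decide)⟩
def a5b' : alternatingGroup (Fin 5) := ⟨swap 0 1 * swap 1 2, Equiv.Perm.mem_alternatingGroup.mpr (by decide)⟩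

theorem a5a'_sq : a5a' ^ 2 = 1 := by decide
theorem a5a'_ne : a5a' ≠ 1 := by decide
theorem a5b'_cube : a5b' ^ 3 = 1 := by decide
theorem a5b'_ne : a5b' ≠ 1 := by decide
theorem a5ab'_cube : (a5a' * a5b') ^ 3 = 1 := by decide
theorem a5ab'_ne : a5a' * a5b' ≠ 1 := by decide

end Cfsg.Agent.Lib.Helper13.PermGens
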