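import Mathlib
import Cfsg.Agent.Lib.Helper13.DkMaxSL

set_option autoImplicit false

namespace Cfsg.Agent.Lib.Helper13.PairNF

open Matrix Cfsg.Agent.Lib.Helper13.Dk

variable {F : Type*} [Field F]

/-- The companion matrix of `X² + δ`. -/
def cmp (δ : F) : Matrix (Fin 2) (Fin 2) F := !![0, -δ; 1, 0]

theorem cmp_det (δ : F) : (cmp δ).det = δ := by
  simp [cmp, Matrix.det_fin_two]

theorem cmp_trace (δ : F) : (cmp δ).trace = 0 := by
  simp [cmp, Matrix.trace_fin_two]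

/-- A trace zero matrix with non-zero determinant is similar to the companion matrix. -/
theorem exists_conj_cmp (h2 : (2 : F) ≠ 0) (A : Matrix (Fin 2) (Fin 2) F) (htr : A.trace = 0)
    (hdet : A.det ≠ 0) :
    ∃ Q : Matrix (Fin 2) (Fin 2) F, Q.det ≠ 0 ∧ A * Q = Q * cmp A.det := by
  obtain ⟨a, b, c, d, rfl⟩ : ∃ a b c d : F, A = !![a, b; c, d] :=
    ⟨A 0 0, A 0 1, A 1 0, A 1 1, Matrix.eta_fin_two A⟩
  rw [Matrix.trace_fin_two_of] at htr
  rw [Matrix.det_fin_two_of] at hdet ⊢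
  have hd : d = -a := by linear_combination htr
  subst hd
  by_cases hc : c = 0
  · by_cases hb : b = 0
    · subst hc hb
      have ha : a ≠ 0 := by
        intro h
        apply hdet
        rw [h]; ring
      refine ⟨!![1, a; 1, -a], ?_, ?_⟩
      · rw [Matrix.det_fin_two_of]
        intro h
        apply ha
        have : (2 : F) * a = 0 := by linear_combination -h
        exact (mul_eq_zero.mp this).resolve_left h2
      · ext i j
        fin_cases i <;> fin_cases j <;> simp [cmp, Matrix.mul_apply, Fin.sum_univ_two] <;> ring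
    · refine ⟨!![0, b; 1, -a], ?_, ?_⟩
      · rw [Matrix.det_fin_two_of]
        intro h
        apply hb
        linear_combination -h
      · ext i j
        fin_cases i <;> fin_cases j <;> simp [cmp, Matrix.mul_apply, Fin.sum_univ_two] <;> ring
  · refine ⟨!![1, a; 0, c], ?_, ?_⟩
    · rw [Matrix.det_fin_two_of]
      intro h
      apply hc
      linear_combination h
    · ext i j
      fin_cases i <;> fin_cases j <;> simp [cmp, Matrix.mul_apply, Fin.sum_univ_two] <;> ring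

/-- The parametrised form of the conjugation identity. -/
theorem conj_param (δ s₁ t₁ s₂ t₂ s₂' t₂' : F) (h : s₂ ^ 2 + δ * t₂ ^ 2 = s₂' ^ 2 + δ * t₂' ^ 2) :
    !![s₂ ^ 2 + s₂ * s₂' + δ * t₂ ^ 2 + δ * t₂ * t₂', -δ * (t₂' * s₂ - s₂' * t₂);
        t₂' * s₂ - s₂' * t₂, s₂ ^ 2 + s₂ * s₂' + δ * t₂ ^ 2 + δ * t₂ * t₂'] *
      !![s₁ + s₂, δ * (t₂ - t₁); t₁ + t₂, s₁ - s₂] =
    !![s₁ + s₂', δ * (t₂' - t₁); t₁ + t₂', s₁ - s₂'] *
      !![s₂ ^ 2 + s₂ * s₂' + δ * t₂ ^ 2 + δ * t₂ * t₂', -δ * (t₂' * s₂ - s₂' * t₂);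
        t₂' * s₂ - s₂' * t₂, s₂ ^ 2 + s₂ * s₂' + δ * t₂ ^ 2 + δ * t₂ * t₂'] := by
  ext i j
  fin_cases i <;> fin_cases j <;> simp [Matrix.mul_apply, Fin.sum_univ_two]
  · linear_combination s₂ * h
  · linear_combination δ * t₂ * h
  · linear_combination t₂ * h
  · linear_combination -s₂ * h


theorem conj_param' (δ s₁ t₁ s₂ t₂ s₂' t₂' : F) (h : s₂ ^ 2 + δ * t₂ ^ 2 = s₂' ^ 2 + δ * t₂' ^ 2) :
    !![-δ * (s₂' * t₂ - t₂' * s₂), -δ * (s₂ ^ 2 - s₂ * s₂' + δ * t₂ ^ 2 - δ * t₂ * t₂');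
        s₂ ^ 2 - s₂ * s₂' + δ * t₂ ^ 2 - δ * t₂ * t₂', -δ * (s₂' * t₂ - t₂' * s₂)] *
      !![s₁ + s₂, δ * (t₂ - t₁); t₁ + t₂, s₁ - s₂] =
    !![s₁ + s₂', δ * (t₂' - t₁); t₁ + t₂', s₁ - s₂'] *
      !![-δ * (s₂' * t₂ - t₂' * s₂), -δ * (s₂ ^ 2 - s₂ * s₂' + δ * t₂ ^ 2 - δ * t₂ * t₂');
        s₂ ^ 2 - s₂ * s₂' + δ * t₂ ^ 2 - δ * t₂ * t₂', -δ * (s₂' * t₂ - t₂' * s₂)] := by
  ext i j
  fin_cases i <;> fin_cases j <;> simp [Matrix.mul_apply, Fin.sum_univ_two]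
  · linear_combination -δ * t₂ * h
  · linear_combination δ * s₂ * h
  · linear_combination s₂ * h
  · linear_combination δ * t₂ * h

theorem comm_cmp (δ x y : F) : !![x, -δ * y; y, x] * cmp δ = cmp δ * !![x, -δ * y; y, x] := by
  ext i j
  fin_cases i <;> fin_cases j <;> simp [cmp, Matrix.mul_apply, Fin.sum_univ_two] <;> ring

/-- Two matrices with the same invariants relative to `cmp δ` are conjugate under the centralizer
of `cmp δ`. -/
theorem exists_centralizer_conj (h2 : (2 : F) ≠ 0) (δ : F) (hδ : δ ≠ 0)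
    (B B' : Matrix (Fin 2) (Fin 2) F) (htr : B.trace = B'.trace)
    (htr2 : (cmp δ * B).trace = (cmp δ * B').trace) (hdet : B.det = B'.det)
    (hnd : δ * B.trace ^ 2 + (cmp δ * B).trace ^ 2 ≠ 4 * δ * B.det) :
    ∃ Z : Matrix (Fin 2) (Fin 2) F, Z.det ≠ 0 ∧ Z * cmp δ = cmp δ * Z ∧ Z * B = B' * Z := by
  obtain ⟨a, b, c, d, rfl⟩ : ∃ a b c d : F, B = !![a, b; c, d] :=
    ⟨B 0 0, B 0 1, B 1 0, B 1 1, Matrix.eta_fin_two B⟩
  obtain ⟨a', b', c', d', rfl⟩ : ∃ a b c d : F, B' = !![a, b; c, d] :=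
    ⟨B' 0 0, B' 0 1, B' 1 0, B' 1 1, Matrix.eta_fin_two B'⟩
  have e1 : (cmp δ * !![a, b; c, d]).trace = b - δ * c := by
    simp [cmp, Matrix.trace_fin_two, Matrix.mul_apply, Fin.sum_univ_two]; ring
  have e2 : (cmp δ * !![a', b'; c', d']).trace = b' - δ * c' := by
    simp [cmp, Matrix.trace_fin_two, Matrix.mul_apply, Fin.sum_univ_two]; ring
  rw [e1] at hnd
  rw [e1, e2] at htr2
  rw [Matrix.trace_fin_two_of] at htr hnd
  rw [Matrix.trace_fin_two_of] at htr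
  rw [Matrix.det_fin_two_of] at hdet hnd
  rw [Matrix.det_fin_two_of] at hdet
  set s₁ := (a + d) / 2 with hs₁
  set t₁ := (c - b / δ) / 2 with ht₁
  set s₂ := (a - d) / 2 with hs₂
  set t₂ := (c + b / δ) / 2 with ht₂
  set s₂' := (a' - d') / 2 with hs₂'
  set t₂' := (c' + b' / δ) / 2 with ht₂'
  have hB : !![a, b; c, d] = !![s₁ + s₂, δ * (t₂ - t₁); t₁ + t₂, s₁ - s₂] := by
    ext i j
    fin_cases i <;> fin_cases j <;> simp [hs₁, ht₁, hs₂, ht₂] <;> field_simp <;> ring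
  have hB' : !![a', b'; c', d'] = !![s₁ + s₂', δ * (t₂' - t₁); t₁ + t₂', s₁ - s₂'] := by
    ext i j
    fin_cases i <;> fin_cases j <;> simp [hs₁, ht₁, hs₂', ht₂'] <;> field_simp
    · linear_combination (-1 : F) * htr
    · linear_combination (-1 : F) * htr2
    · linear_combination htr2
    · linear_combination (-1 : F) * htr
  have hrel : s₂ ^ 2 + δ * t₂ ^ 2 = s₂' ^ 2 + δ * t₂' ^ 2 := by
    rw [hs₂, ht₂, hs₂', ht₂']
    field_simp
    linear_combination (-4 * δ) * hdet + δ * (a + d + a' + d') * htr + (b - δ * c + b' - δ * c') * htr2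
  have hN : s₂ ^ 2 + δ * t₂ ^ 2 ≠ 0 := by
    intro h0
    apply hnd
    rw [hs₂, ht₂] at h0
    field_simp at h0
    linear_combination h0
  have hsum : ((s₂ + s₂') ^ 2 + δ * (t₂ + t₂') ^ 2) + ((s₂ - s₂') ^ 2 + δ * (t₂ - t₂') ^ 2) =
      4 * (s₂ ^ 2 + δ * t₂ ^ 2) := by
    linear_combination (-2 : F) * hrel
  rw [hB, hB']
  by_cases hplus : (s₂ + s₂') ^ 2 + δ * (t₂ + t₂') ^ 2 = 0
  · have hminus : (s₂ - s₂') ^ 2 + δ * (t₂ - t₂') ^ 2 ≠ 0 := by
      intro h0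
      rw [hplus, h0, zero_add] at hsum
      have h4 : (4 : F) ≠ 0 := by
        have : (4 : F) = 2 * 2 := by norm_num
        rw [this]; exact mul_ne_zero h2 h2
      exact (mul_ne_zero h4 hN) hsum.symm
    refine ⟨_, ?_, ?_, conj_param' δ s₁ t₁ s₂ t₂ s₂' t₂' hrel⟩
    · rw [Matrix.det_fin_two_of]
      have : -δ * (s₂' * t₂ - t₂' * s₂) * (-δ * (s₂' * t₂ - t₂' * s₂)) -
          -δ * (s₂ ^ 2 - s₂ * s₂' + δ * t₂ ^ 2 - δ * t₂ * t₂') *
            (s₂ ^ 2 - s₂ * s₂' + δ * t₂ ^ 2 - δ * t₂ * t₂') =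
          δ * (((s₂ - s₂') ^ 2 + δ * (t₂ - t₂') ^ 2) * (s₂ ^ 2 + δ * t₂ ^ 2)) := by ring
      rw [this]
      exact mul_ne_zero hδ (mul_ne_zero hminus hN)
    · have := comm_cmp δ (-δ * (s₂' * t₂ - t₂' * s₂)) (s₂ ^ 2 - s₂ * s₂' + δ * t₂ ^ 2 - δ * t₂ * t₂')
      exact this
  · refine ⟨_, ?_, ?_, conj_param δ s₁ t₁ s₂ t₂ s₂' t₂' hrel⟩
    · rw [Matrix.det_fin_two_of]
      have : (s₂ ^ 2 + s₂ * s₂' + δ * t₂ ^ 2 + δ * t₂ * t₂') *
            (s₂ ^ 2 + s₂ * s₂' + δ * t₂ ^ 2 + δ * t₂ * t₂') -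
          -δ * (t₂' * s₂ - s₂' * t₂) * (t₂' * s₂ - s₂' * t₂) =
          ((s₂ + s₂') ^ 2 + δ * (t₂ + t₂') ^ 2) * (s₂ ^ 2 + δ * t₂ ^ 2) := by ring
      rw [this]
      exact mul_ne_zero hplus hN
    · exact comm_cmp δ _ _


theorem inv_mul_of_det_ne_zero (Q : Matrix (Fin 2) (Fin 2) F) (hQ : Q.det ≠ 0) : Q⁻¹ * Q = 1 :=
  Matrix.nonsing_inv_mul Q (isUnit_iff_ne_zero.mpr hQ)

theorem mul_inv_of_det_ne_zero (Q : Matrix (Fin 2) (Fin 2) F) (hQ : Q.det ≠ 0) : Q * Q⁻¹ = 1 :=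
  Matrix.mul_nonsing_inv Q (isUnit_iff_ne_zero.mpr hQ)

theorem det_inv_ne_zero (Q : Matrix (Fin 2) (Fin 2) F) (hQ : Q.det ≠ 0) : Q⁻¹.det ≠ 0 := by
  intro h
  have := congrArg Matrix.det (mul_inv_of_det_ne_zero Q hQ)
  rw [Matrix.det_mul, h, mul_zero, Matrix.det_one] at this
  exact zero_ne_one this

/-- Pairs `(A, B)` with `tr A = 0` are determined up to conjugacy by `det A`, `tr B`, `tr AB`,
`det B`, under a non-degeneracy condition. -/
theorem exists_conj_pair (h2 : (2 : F) ≠ 0) (A A' B B' : Matrix (Fin 2) (Fin 2) F)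
    (hA : A.trace = 0) (hA' : A'.trace = 0) (hdet : A.det = A'.det) (hd0 : A.det ≠ 0)
    (htr : B.trace = B'.trace) (htr2 : (A * B).trace = (A' * B').trace) (hdetB : B.det = B'.det)
    (hnd : A.det * B.trace ^ 2 + (A * B).trace ^ 2 ≠ 4 * A.det * B.det) :
    ∃ P : Matrix (Fin 2) (Fin 2) F, P.det ≠ 0 ∧ P * A = A' * P ∧ P * B = B' * P := by
  obtain ⟨Q, hQ, hAQ⟩ := exists_conj_cmp h2 A hA hd0
  obtain ⟨Q', hQ', hAQ'⟩ := exists_conj_cmp h2 A' hA' (hdet ▸ hd0)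
  rw [← hdet] at hAQ'
  set δ := A.det with hδ
  have hQi := inv_mul_of_det_ne_zero Q hQ
  have hQi' := mul_inv_of_det_ne_zero Q hQ
  have hQ'i := inv_mul_of_det_ne_zero Q' hQ'
  have hQ'i' := mul_inv_of_det_ne_zero Q' hQ'
  -- `cmp δ = Q⁻¹ A Q`
  have hc : cmp δ = Q⁻¹ * A * Q := by
    rw [Matrix.mul_assoc, hAQ, ← Matrix.mul_assoc, hQi, Matrix.one_mul]
  have hc' : cmp δ = Q'⁻¹ * A' * Q' := by
    rw [Matrix.mul_assoc, hAQ', ← Matrix.mul_assoc, hQ'i, Matrix.one_mul]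
  set B₁ := Q⁻¹ * B * Q with hB₁
  set B₁' := Q'⁻¹ * B' * Q' with hB₁'
  have t1 : B₁.trace = B.trace := by
    rw [hB₁, Matrix.trace_mul_comm, ← Matrix.mul_assoc, hQi', Matrix.one_mul]
  have t1' : B₁'.trace = B'.trace := by
    rw [hB₁', Matrix.trace_mul_comm, ← Matrix.mul_assoc, hQ'i', Matrix.one_mul]
  have t2 : (cmp δ * B₁).trace = (A * B).trace := by
    have : cmp δ * B₁ = Q⁻¹ * (A * B) * Q := by
      rw [hc, hB₁]
      calc Q⁻¹ * A * Q * (Q⁻¹ * B * Q) = Q⁻¹ * A * (Q * Q⁻¹) * B * Q := by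
            simp only [Matrix.mul_assoc]
        _ = Q⁻¹ * (A * B) * Q := by rw [hQi', Matrix.mul_one]; simp only [Matrix.mul_assoc]
    rw [this, Matrix.trace_mul_comm, ← Matrix.mul_assoc, hQi', Matrix.one_mul]
  have t2' : (cmp δ * B₁').trace = (A' * B').trace := by
    have : cmp δ * B₁' = Q'⁻¹ * (A' * B') * Q' := by
      rw [hc', hB₁']
      calc Q'⁻¹ * A' * Q' * (Q'⁻¹ * B' * Q') = Q'⁻¹ * A' * (Q' * Q'⁻¹) * B' * Q' := by
            simp only [Matrix.mul_assoc]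
        _ = Q'⁻¹ * (A' * B') * Q' := by rw [hQ'i', Matrix.mul_one]; simp only [Matrix.mul_assoc]
    rw [this, Matrix.trace_mul_comm, ← Matrix.mul_assoc, hQ'i', Matrix.one_mul]
  have d1 : B₁.det = B.det := by
    rw [hB₁, Matrix.det_mul, Matrix.det_mul, mul_comm, ← mul_assoc, ← Matrix.det_mul, hQi',
      Matrix.det_one, one_mul]
  have d1' : B₁'.det = B'.det := by
    rw [hB₁', Matrix.det_mul, Matrix.det_mul, mul_comm, ← mul_assoc, ← Matrix.det_mul, hQ'i',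
      Matrix.det_one, one_mul]
  obtain ⟨Z, hZ, hZc, hZB⟩ := exists_centralizer_conj h2 δ hd0 B₁ B₁' (by rw [t1, t1', htr])
    (by rw [t2, t2', htr2]) (by rw [d1, d1', hdetB]) (by rw [t1, t2, d1]; exact hnd)
  refine ⟨Q' * Z * Q⁻¹, ?_, ?_, ?_⟩
  · rw [Matrix.det_mul, Matrix.det_mul]
    exact mul_ne_zero (mul_ne_zero hQ' hZ) (det_inv_ne_zero Q hQ)
  · -- `Q⁻¹ A = cmp Q⁻¹`
    have e1 : Q⁻¹ * A = cmp δ * Q⁻¹ := by
      rw [hc, Matrix.mul_assoc, Matrix.mul_assoc, hQi', Matrix.mul_one]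
    have e2 : Q' * cmp δ = A' * Q' := hAQ'.symm
    calc Q' * Z * Q⁻¹ * A = Q' * Z * (Q⁻¹ * A) := by simp only [Matrix.mul_assoc]
      _ = Q' * (Z * cmp δ) * Q⁻¹ := by rw [e1]; simp only [Matrix.mul_assoc]
      _ = (Q' * cmp δ) * Z * Q⁻¹ := by rw [hZc]; simp only [Matrix.mul_assoc]
      _ = A' * (Q' * Z * Q⁻¹) := by rw [e2]; simp only [Matrix.mul_assoc]
  · have e1 : Q⁻¹ * B = B₁ * Q⁻¹ := by
      rw [hB₁, Matrix.mul_assoc, Matrix.mul_assoc, hQi', Matrix.mul_one]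
    have e2 : Q' * B₁' = B' * Q' := by
      rw [hB₁', ← Matrix.mul_assoc, ← Matrix.mul_assoc, hQ'i', Matrix.one_mul]
    calc Q' * Z * Q⁻¹ * B = Q' * Z * (Q⁻¹ * B) := by simp only [Matrix.mul_assoc]
      _ = Q' * (Z * B₁) * Q⁻¹ := by rw [e1]; simp only [Matrix.mul_assoc]
      _ = (Q' * B₁') * Z * Q⁻¹ := by rw [hZB]; simp only [Matrix.mul_assoc]
      _ = B' * (Q' * Z * Q⁻¹) := by rw [e2]; simp only [Matrix.mul_assoc]


/-- Conjugation by an invertible matrix, as a `Tw`. -/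
noncomputable def conjTw (P : Matrix (Fin 2) (Fin 2) F) (hP : P.det ≠ 0) : Tw F where
  hom :=
    { toFun := fun g => ⟨P * (g : Matrix (Fin 2) (Fin 2) F) * P⁻¹, by
        rw [Matrix.det_mul, Matrix.det_mul, g.det_coe, mul_one, ← Matrix.det_mul,
          mul_inv_of_det_ne_zero P hP, Matrix.det_one]⟩
      map_one' := by
        apply Subtype.ext
        change P * ((1 : SpecialLinearGroup (Fin 2) F) : Matrix (Fin 2) (Fin 2) F) * P⁻¹ = 1
        rw [Matrix.SpecialLinearGroup.coe_one, Matrix.mul_one, mul_inv_of_det_ne_zero P hP]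
      map_mul' := by
        intro g h
        apply Subtype.ext
        change P * ((g * h : SpecialLinearGroup (Fin 2) F) : Matrix (Fin 2) (Fin 2) F) * P⁻¹ =
          (P * (g : Matrix (Fin 2) (Fin 2) F) * P⁻¹) * (P * (h : Matrix (Fin 2) (Fin 2) F) * P⁻¹)
        rw [Matrix.SpecialLinearGroup.coe_mul]
        calc P * ((g : Matrix (Fin 2) (Fin 2) F) * (h : Matrix (Fin 2) (Fin 2) F)) * P⁻¹
            = P * (g : Matrix (Fin 2) (Fin 2) F) * 1 * (h : Matrix (Fin 2) (Fin 2) F) * P⁻¹ := by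
              rw [Matrix.mul_one]; simp only [Matrix.mul_assoc]
          _ = _ := by
              rw [← inv_mul_of_det_ne_zero P hP]; simp only [Matrix.mul_assoc] }
  inj := by
    intro g h hgh
    apply Subtype.ext
    have h1 : P * (g : Matrix (Fin 2) (Fin 2) F) * P⁻¹ = P * (h : Matrix (Fin 2) (Fin 2) F) * P⁻¹ :=
      congrArg Subtype.val hgh
    have e : ∀ M : Matrix (Fin 2) (Fin 2) F, P⁻¹ * (P * M * P⁻¹) * P = M := by
      intro M
      calc P⁻¹ * (P * M * P⁻¹) * P = (P⁻¹ * P) * M * (P⁻¹ * P) := by simp only [Matrix.mul_assoc]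
        _ = M := by rw [inv_mul_of_det_ne_zero P hP, Matrix.one_mul, Matrix.mul_one]
    calc (g : Matrix (Fin 2) (Fin 2) F) = P⁻¹ * (P * (g : Matrix (Fin 2) (Fin 2) F) * P⁻¹) * P :=
          (e _).symm
      _ = P⁻¹ * (P * (h : Matrix (Fin 2) (Fin 2) F) * P⁻¹) * P := by rw [h1]
      _ = (h : Matrix (Fin 2) (Fin 2) F) := e _
  tr_eq := by
    intro A
    change (P * (A : Matrix (Fin 2) (Fin 2) F) * P⁻¹).trace = _
    rw [Matrix.trace_mul_comm, ← Matrix.mul_assoc, inv_mul_of_det_ne_zero P hP, Matrix.one_mul]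

theorem conjTw_coe (P : Matrix (Fin 2) (Fin 2) F) (hP : P.det ≠ 0)
    (g : SpecialLinearGroup (Fin 2) F) :
    (((conjTw P hP).hom g : SpecialLinearGroup (Fin 2) F) : Matrix (Fin 2) (Fin 2) F) =
      P * (g : Matrix (Fin 2) (Fin 2) F) * P⁻¹ := rfl

/-- Binary quadratic forms over finite fields of odd order are universal. -/
theorem exists_sq_add_mul_sq {K : Type*} [Field K] [Fintype K] (hK : (2 : K) ≠ 0) (δ κ : K)
    (hδ : δ ≠ 0) : ∃ s t : K, s ^ 2 + δ * t ^ 2 = κ := by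
  have hodd : Fintype.card K % 2 = 1 := by
    apply FiniteField.odd_card_of_char_ne_two
    intro h
    apply hK
    have := CharP.cast_eq_zero K (ringChar K)
    rw [h] at this
    exact_mod_cast this
  have hf : (Polynomial.X ^ 2 : Polynomial K).degree = 2 := Polynomial.degree_X_pow 2
  have hg : (Polynomial.C δ * Polynomial.X ^ 2 - Polynomial.C κ : Polynomial K).degree = 2 := by
    rw [Polynomial.degree_sub_C]
    · exact Polynomial.degree_C_mul_X_pow 2 hδ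
    · rw [Polynomial.degree_C_mul_X_pow 2 hδ]; norm_num
  obtain ⟨a, b, hab⟩ := FiniteField.exists_root_sum_quadratic hf hg hodd
  refine ⟨a, b, ?_⟩
  simp only [Polynomial.eval_pow, Polynomial.eval_X, Polynomial.eval_sub, Polynomial.eval_mul,
    Polynomial.eval_C] at hab
  linear_combination hab

/-- Existence of a matrix over a subfield with prescribed invariants. -/
theorem exists_rational [Finite F] (h2 : (2 : F) ≠ 0) (k₀ : Subfield F) (δ β τ ε : F)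
    (hδ : δ ∈ k₀) (hδ0 : δ ≠ 0) (hβ : β ∈ k₀) (hτ : τ ∈ k₀) (hε : ε ∈ k₀) :
    ∃ B₀ : Matrix (Fin 2) (Fin 2) F, (∀ i j, B₀ i j ∈ k₀) ∧ B₀.trace = β ∧
      (cmp δ * B₀).trace = τ ∧ B₀.det = ε := by
  letI : Fintype k₀ := Fintype.ofFinite k₀
  have h2' : (2 : k₀) ≠ 0 := by
    intro h
    apply h2
    have h0 : (1 : k₀) + 1 = 0 := by rw [one_add_one_eq_two]; exact h
    have h' : (((1 : k₀) + 1 : k₀) : F) = ((0 : k₀) : F) := congrArg Subtype.val h0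
    rw [← one_add_one_eq_two]
    simpa using h'
  have h2mem : (2 : F) ∈ k₀ := by
    have : ((2 : k₀) : F) ∈ k₀ := SetLike.coe_mem _
    simpa using this
  set s₁ : F := β / 2 with hs₁
  set t₁ : F := -τ / (2 * δ) with ht₁
  have hs₁m : s₁ ∈ k₀ := k₀.div_mem hβ h2mem
  have ht₁m : t₁ ∈ k₀ := k₀.div_mem (k₀.neg_mem hτ) (k₀.mul_mem h2mem hδ)
  set κ : F := s₁ ^ 2 + δ * t₁ ^ 2 - ε with hκ
  have hκm : κ ∈ k₀ :=
    k₀.sub_mem (k₀.add_mem (k₀.pow_mem hs₁m 2) (k₀.mul_mem hδ (k₀.pow_mem ht₁m 2))) hε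
  obtain ⟨s, t, hst⟩ := exists_sq_add_mul_sq h2' (⟨δ, hδ⟩ : k₀) ⟨κ, hκm⟩
    (fun h => hδ0 (congrArg Subtype.val h))
  have hst' : (s : F) ^ 2 + δ * (t : F) ^ 2 = κ := by
    have := congrArg (k₀.subtype) hst
    simpa using this
  refine ⟨!![s₁ + s, δ * (t - t₁); t₁ + t, s₁ - s], ?_, ?_, ?_, ?_⟩
  · intro i j
    fin_cases i <;> fin_cases j
    · exact k₀.add_mem hs₁m s.2
    · exact k₀.mul_mem hδ (k₀.sub_mem t.2 ht₁m)
    · exact k₀.add_mem ht₁m t.2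
    · exact k₀.sub_mem hs₁m s.2
  · rw [Matrix.trace_fin_two_of, hs₁]
    field_simp
    ring
  · simp only [cmp, Matrix.trace_fin_two, Matrix.mul_apply, Fin.sum_univ_two]
    simp
    rw [ht₁]
    field_simp
    ring
  · rw [Matrix.det_fin_two_of]
    have : (s₁ + s) * (s₁ - s) - δ * (t - t₁) * (t₁ + t) =
        s₁ ^ 2 + δ * t₁ ^ 2 - ((s : F) ^ 2 + δ * (t : F) ^ 2) := by ring
    rw [this, hst', hκ]
    ring


theorem conj_eq_of_mul_eq (P M M' : Matrix (Fin 2) (Fin 2) F) (hP : P.det ≠ 0)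
    (h : P * M = M' * P) : P * M * P⁻¹ = M' := by
  rw [h, Matrix.mul_assoc, mul_inv_of_det_ne_zero P hP, Matrix.mul_one]

/-- Uniqueness up to `Tw` of pairs in `SL₂(F)` with given trace data. -/
theorem exists_tw_pair (h2 : (2 : F) ≠ 0) (A B A' B' : SpecialLinearGroup (Fin 2) F)
    (hA : (A : Matrix (Fin 2) (Fin 2) F).trace = 0) (hA' : (A' : Matrix (Fin 2) (Fin 2) F).trace = 0)
    (hB : (B : Matrix (Fin 2) (Fin 2) F).trace = (B' : Matrix (Fin 2) (Fin 2) F).trace)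
    (hAB : ((A : Matrix (Fin 2) (Fin 2) F) * (B : Matrix (Fin 2) (Fin 2) F)).trace =
      ((A' : Matrix (Fin 2) (Fin 2) F) * (B' : Matrix (Fin 2) (Fin 2) F)).trace)
    (hnd : (B : Matrix (Fin 2) (Fin 2) F).trace ^ 2 +
      ((A : Matrix (Fin 2) (Fin 2) F) * (B : Matrix (Fin 2) (Fin 2) F)).trace ^ 2 ≠ 4) :
    ∃ Θ : Tw F, Θ.hom A = A' ∧ Θ.hom B = B' := by
  obtain ⟨P, hP, hPA, hPB⟩ := exists_conj_pair h2 (A : Matrix (Fin 2) (Fin 2) F)
    (A' : Matrix (Fin 2) (Fin 2) F) (B : Matrix (Fin 2) (Fin 2) F) (B' : Matrix (Fin 2) (Fin 2) F)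
    hA hA' (by rw [A.det_coe, A'.det_coe]) (by rw [A.det_coe]; exact one_ne_zero) hB hAB
    (by rw [B.det_coe, B'.det_coe])
    (by rw [A.det_coe, B.det_coe, one_mul, mul_one, mul_one]; exact hnd)
  refine ⟨conjTw P hP, ?_, ?_⟩
  · apply Subtype.ext
    rw [conjTw_coe]
    exact conj_eq_of_mul_eq P _ _ hP hPA
  · apply Subtype.ext
    rw [conjTw_coe]
    exact conj_eq_of_mul_eq P _ _ hP hPB

/-- A pair in `SL₂(F)` whose trace data lie in a subfield (up to the scalar `γ`) can be moved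
into the subfield subgroup. -/
theorem exists_tw_subfield [Finite F] (h2 : (2 : F) ≠ 0) (k₀ : Subfield F)
    (A B : SpecialLinearGroup (Fin 2) F) (γ : F) (hγ0 : γ ≠ 0) (hγ : γ ^ 2 ∈ k₀)
    (hA : (A : Matrix (Fin 2) (Fin 2) F).trace = 0)
    (hB : (B : Matrix (Fin 2) (Fin 2) F).trace ∈ k₀)
    (hAB : γ * ((A : Matrix (Fin 2) (Fin 2) F) * (B : Matrix (Fin 2) (Fin 2) F)).trace ∈ k₀)
    (hnd : (B : Matrix (Fin 2) (Fin 2) F).trace ^ 2 +
      ((A : Matrix (Fin 2) (Fin 2) F) * (B : Matrix (Fin 2) (Fin 2) F)).trace ^ 2 ≠ 4) :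
    ∃ Θ : Tw F, Θ.hom A ∈ subfieldSL k₀ ∧ Θ.hom B ∈ subfieldSL k₀ := by
  set Am : Matrix (Fin 2) (Fin 2) F := (A : Matrix (Fin 2) (Fin 2) F) with hAm
  set Bm : Matrix (Fin 2) (Fin 2) F := (B : Matrix (Fin 2) (Fin 2) F) with hBm
  set δ := γ ^ 2 with hδ
  have hδ0 : δ ≠ 0 := pow_ne_zero 2 hγ0
  obtain ⟨B₀, hB₀m, hB₀t, hB₀t2, hB₀d⟩ := exists_rational h2 k₀ δ Bm.trace (γ * (Am * Bm).trace) 1
    hγ hδ0 hB hAB k₀.one_mem
  have hA₁t : (γ • Am).trace = 0 := by rw [Matrix.trace_smul, hA, smul_zero]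
  have hA₁d : (γ • Am).det = δ := by
    rw [Matrix.det_smul, Fintype.card_fin, hAm, A.det_coe, mul_one]
  obtain ⟨P, hP, hPA, hPB⟩ := exists_conj_pair h2 (γ • Am) (cmp δ) Bm B₀ hA₁t (cmp_trace δ)
    (by rw [hA₁d, cmp_det]) (by rw [hA₁d]; exact hδ0) hB₀t.symm
    (by rw [Matrix.smul_mul, Matrix.trace_smul, smul_eq_mul, hB₀t2])
    (by rw [hBm, B.det_coe, hB₀d])
    (by
      rw [hA₁d, Matrix.smul_mul, Matrix.trace_smul, smul_eq_mul, hBm, B.det_coe, mul_one]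
      intro h
      apply hnd
      have h' : δ * (Bm.trace ^ 2 + (Am * Bm).trace ^ 2 - 4) = 0 := by
        rw [hδ]; linear_combination h
      have := (mul_eq_zero.mp h').resolve_left hδ0
      linear_combination this)
  refine ⟨conjTw P hP, ?_, ?_⟩
  · rw [mem_subfieldSL]
    refine ⟨γ, hγ0, fun i j => ?_⟩
    rw [conjTw_coe]
    have e : γ • (P * Am * P⁻¹) = cmp δ := by
      rw [← Matrix.smul_mul, ← Matrix.mul_smul]
      exact conj_eq_of_mul_eq P _ _ hP hPA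
    have e' : γ * (P * Am * P⁻¹) i j = cmp δ i j := by
      rw [← e]; rfl
    rw [e']
    fin_cases i <;> fin_cases j
    · simp only [cmp]; exact k₀.zero_mem
    · simp only [cmp]; exact k₀.neg_mem hγ
    · simp only [cmp]; exact k₀.one_mem
    · simp only [cmp]; exact k₀.zero_mem
  · rw [mem_subfieldSL]
    refine ⟨1, one_ne_zero, fun i j => ?_⟩
    rw [conjTw_coe, one_mul, conj_eq_of_mul_eq P _ _ hP hPB]
    exact hB₀m i j

end Cfsg.Agent.Lib.Helper13.PairNF
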