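/-
helper13: traces of elements of small order in `SL₂(F)`, and lifting of generators.
-/
import Mathlib
import Cfsg.Agent.Lib.Helper13.PairNF

set_option autoImplicit false

namespace Cfsg.Agent.Lib.Helper13.PairNF

open Matrix Subgroup Cfsg.Agent.Lib.Helper13.Dk

variable {F : Type*} [Field F]

/-- Cayley–Hamilton for determinant one. -/
theorem ch2 (M : Matrix (Fin 2) (Fin 2) F) (hdet : M.det = 1) :
    M ^ 2 = M.trace • M - 1 := by
  rw [Matrix.det_fin_two] at hdet
  rw [pow_two, Matrix.trace_fin_two]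
  ext i j
  fin_cases i <;> fin_cases j <;> simp [Matrix.mul_apply, Fin.sum_univ_two]
  · linear_combination -hdet
  · ring
  · ring
  · linear_combination -hdet

theorem ch3 (M : Matrix (Fin 2) (Fin 2) F) (hdet : M.det = 1) :
    M ^ 3 = (M.trace ^ 2 - 1) • M - M.trace • (1 : Matrix (Fin 2) (Fin 2) F) := by
  have h2 := ch2 M hdet
  have h2' : M * M = M.trace • M - 1 := by rw [← pow_two]; exact h2
  rw [pow_succ, h2, Matrix.sub_mul, Matrix.smul_mul, h2', Matrix.one_mul]
  ext i j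
  simp only [Matrix.sub_apply, Matrix.smul_apply, smul_eq_mul, Matrix.one_apply]
  split_ifs <;> ring

theorem ch4 (M : Matrix (Fin 2) (Fin 2) F) (hdet : M.det = 1) :
    M ^ 4 = (M.trace ^ 3 - 2 * M.trace) • M -
      (M.trace ^ 2 - 1) • (1 : Matrix (Fin 2) (Fin 2) F) := by
  have h3 := ch3 M hdet
  have h2' : M * M = M.trace • M - 1 := by rw [← pow_two]; exact ch2 M hdet
  rw [pow_succ, h3, Matrix.sub_mul, Matrix.smul_mul, h2', Matrix.smul_mul, Matrix.one_mul]
  ext i j
  simp only [Matrix.sub_apply, Matrix.smul_apply, smul_eq_mul, Matrix.one_apply]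
  split_ifs <;> ring

theorem ch5 (M : Matrix (Fin 2) (Fin 2) F) (hdet : M.det = 1) :
    M ^ 5 = (M.trace ^ 4 - 3 * M.trace ^ 2 + 1) • M -
      (M.trace ^ 3 - 2 * M.trace) • (1 : Matrix (Fin 2) (Fin 2) F) := by
  have h4 := ch4 M hdet
  have h2' : M * M = M.trace • M - 1 := by rw [← pow_two]; exact ch2 M hdet
  rw [pow_succ, h4, Matrix.sub_mul, Matrix.smul_mul, h2', Matrix.smul_mul, Matrix.one_mul]
  ext i j
  simp only [Matrix.sub_apply, Matrix.smul_apply, smul_eq_mul, Matrix.one_apply]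
  split_ifs <;> ring

/-- If `x • M` is scalar and `M` is not, then `x = 0`. -/
theorem eq_zero_of_smul_eq_smul_one (M : Matrix (Fin 2) (Fin 2) F) (hM : ¬ Emb.sc M) (x y : F)
    (h : x • M = y • (1 : Matrix (Fin 2) (Fin 2) F)) : x = 0 := by
  by_contra hx
  apply hM
  have h01 := congrFun (congrFun h 0) 1
  have h10 := congrFun (congrFun h 1) 0
  have h00 := congrFun (congrFun h 0) 0
  have h11 := congrFun (congrFun h 1) 1
  simp only [Matrix.smul_apply, smul_eq_mul, Matrix.one_apply_ne, ne_eq, zero_ne_one, one_ne_zero,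
    not_false_eq_true, mul_zero, Matrix.one_apply_eq, mul_one] at h01 h10 h00 h11
  refine ⟨(mul_eq_zero.mp h01).resolve_left hx, (mul_eq_zero.mp h10).resolve_left hx, ?_⟩
  have : x * (M 0 0 - M 1 1) = 0 := by rw [mul_sub, h00, h11, sub_self]
  have := (mul_eq_zero.mp this).resolve_left hx
  linear_combination this

theorem sc_smul_one (y : F) : Emb.sc (y • (1 : Matrix (Fin 2) (Fin 2) F)) := by
  refine ⟨?_, ?_, ?_⟩ <;> simp

/-- `M² = -1` forces trace zero. -/
theorem trace_eq_zero_of_sq (M : Matrix (Fin 2) (Fin 2) F) (hdet : M.det = 1)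
    (h : M ^ 2 = -1) : M.trace = 0 := by
  have h2 := ch2 M hdet
  rw [h] at h2
  have h0 : M.trace • M = 0 := by
    have : M.trace • M - 1 = -1 := h2.symm
    calc M.trace • M = (M.trace • M - 1) + 1 := by abel
      _ = 0 := by rw [this]; abel
  by_contra ht
  have hM : M = 0 := by
    ext i j
    have := congrFun (congrFun h0 i) j
    simp only [Matrix.smul_apply, smul_eq_mul, Matrix.zero_apply] at this
    exact (mul_eq_zero.mp this).resolve_left ht
  rw [hM, Matrix.det_zero] at hdet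
  exact zero_ne_one hdet

/-- `M² = 1` forces `M` scalar (characteristic not two). -/
theorem sc_of_sq_eq_one (h2 : (2 : F) ≠ 0) (M : Matrix (Fin 2) (Fin 2) F) (hdet : M.det = 1)
    (h : M ^ 2 = 1) : Emb.sc M := by
  by_contra hM
  have hc := ch2 M hdet
  rw [h] at hc
  have h0 : M.trace • M = (2 : F) • (1 : Matrix (Fin 2) (Fin 2) F) := by
    have : M.trace • M = 1 + 1 := by
      calc M.trace • M = (M.trace • M - 1) + 1 := by abel
        _ = 1 + 1 := by rw [← hc]
    rw [this, two_smul]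
  have ht := eq_zero_of_smul_eq_smul_one M hM _ _ h0
  rw [ht, zero_smul] at h0
  have := congrFun (congrFun h0 0) 0
  simp only [Matrix.zero_apply, Matrix.smul_apply, Matrix.one_apply_eq, smul_eq_mul, mul_one] at this
  exact h2 this.symm

/-- Order three: trace `-1`. -/
theorem trace_of_pow_three (M : Matrix (Fin 2) (Fin 2) F) (hdet : M.det = 1) (hM : ¬ Emb.sc M)
    (h : M ^ 3 = 1) : M.trace = -1 := by
  have hc := ch3 M hdet
  rw [h] at hc
  have h0 : (M.trace ^ 2 - 1) • M = (1 + M.trace) • (1 : Matrix (Fin 2) (Fin 2) F) := by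
    conv_rhs => rw [add_smul, one_smul]
    calc (M.trace ^ 2 - 1) • M
        = ((M.trace ^ 2 - 1) • M - M.trace • (1 : Matrix (Fin 2) (Fin 2) F)) +
          M.trace • (1 : Matrix (Fin 2) (Fin 2) F) := by abel
      _ = 1 + M.trace • (1 : Matrix (Fin 2) (Fin 2) F) := by rw [← hc]
  have ht := eq_zero_of_smul_eq_smul_one M hM _ _ h0
  rw [ht, zero_smul] at h0
  have := congrFun (congrFun h0 0) 0
  simp only [Matrix.zero_apply, Matrix.smul_apply, Matrix.one_apply_eq, smul_eq_mul, mul_one] at this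
  linear_combination -this

/-- Order four modulo scalars: trace squared is `2`. -/
theorem trace_sq_of_pow_four (M : Matrix (Fin 2) (Fin 2) F) (hdet : M.det = 1)
    (hM : ¬ Emb.sc (M ^ 2)) (c : F) (h : M ^ 4 = c • (1 : Matrix (Fin 2) (Fin 2) F)) :
    M.trace ^ 2 = 2 := by
  have hMsc : ¬ Emb.sc M := by
    intro hs
    apply hM
    obtain ⟨h01, h10, h00⟩ := hs
    rw [pow_two]
    refine ⟨?_, ?_, ?_⟩ <;> simp [Matrix.mul_apply, Fin.sum_univ_two, h01, h10, h00]
  have ht0 : M.trace ≠ 0 := by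
    intro ht
    apply hM
    rw [ch2 M hdet, ht, zero_smul, zero_sub]
    have : (-1 : Matrix (Fin 2) (Fin 2) F) = (-1 : F) • (1 : Matrix (Fin 2) (Fin 2) F) := by simp
    rw [this]
    exact sc_smul_one _
  have hc := ch4 M hdet
  rw [h] at hc
  have h0 : (M.trace ^ 3 - 2 * M.trace) • M =
      (c + (M.trace ^ 2 - 1)) • (1 : Matrix (Fin 2) (Fin 2) F) := by
    rw [add_smul]
    calc (M.trace ^ 3 - 2 * M.trace) • M
        = ((M.trace ^ 3 - 2 * M.trace) • M - (M.trace ^ 2 - 1) • (1 : Matrix (Fin 2) (Fin 2) F)) +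
          (M.trace ^ 2 - 1) • (1 : Matrix (Fin 2) (Fin 2) F) := by abel
      _ = c • (1 : Matrix (Fin 2) (Fin 2) F) +
          (M.trace ^ 2 - 1) • (1 : Matrix (Fin 2) (Fin 2) F) := by rw [← hc]
  have ht := eq_zero_of_smul_eq_smul_one M hMsc _ _ h0
  have : M.trace * (M.trace ^ 2 - 2) = 0 := by linear_combination ht
  have := (mul_eq_zero.mp this).resolve_left ht0
  linear_combination this

/-- Order five: the trace is a root of `X² + X - 1`. -/
theorem trace_of_pow_five (M : Matrix (Fin 2) (Fin 2) F) (hdet : M.det = 1) (hM : ¬ Emb.sc M)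
    (h : M ^ 5 = 1) : M.trace ^ 2 + M.trace - 1 = 0 := by
  have hc := ch5 M hdet
  rw [h] at hc
  have h0 : (M.trace ^ 4 - 3 * M.trace ^ 2 + 1) • M =
      (1 + (M.trace ^ 3 - 2 * M.trace)) • (1 : Matrix (Fin 2) (Fin 2) F) := by
    conv_rhs => rw [add_smul, one_smul]
    calc (M.trace ^ 4 - 3 * M.trace ^ 2 + 1) • M
        = ((M.trace ^ 4 - 3 * M.trace ^ 2 + 1) • M -
            (M.trace ^ 3 - 2 * M.trace) • (1 : Matrix (Fin 2) (Fin 2) F)) +
          (M.trace ^ 3 - 2 * M.trace) • (1 : Matrix (Fin 2) (Fin 2) F) := by abel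
      _ = 1 + (M.trace ^ 3 - 2 * M.trace) • (1 : Matrix (Fin 2) (Fin 2) F) := by rw [← hc]
  have ht := eq_zero_of_smul_eq_smul_one M hM _ _ h0
  rw [ht, zero_smul] at h0
  have h1 := congrFun (congrFun h0 0) 0
  simp only [Matrix.zero_apply, Matrix.smul_apply, Matrix.one_apply_eq, smul_eq_mul, mul_one] at h1
  -- `t³ - 2t + 1 = 0` and `t⁴ - 3t² + 1 = 0`
  set t := M.trace with htdef
  have e1 : (t - 1) * (t ^ 2 + t - 1) = 0 := by linear_combination -h1
  have e2 : (t ^ 2 + t - 1) * (t ^ 2 - t - 1) = 0 := by linear_combination ht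
  by_contra hne
  have ht1 : t = 1 := by
    have := (mul_eq_zero.mp e1).resolve_right hne
    linear_combination this
  have := (mul_eq_zero.mp e2).resolve_left hne
  rw [ht1] at this
  norm_num at this


section lift

variable (H : Subgroup (SpecialLinearGroup (Fin 2) F)) {X : Type*} [Group X] (f : H →* X)

/-- The matrix of an element of `H`. -/
def mt (g : H) : Matrix (Fin 2) (Fin 2) F := ((g : SpecialLinearGroup (Fin 2) F) : Matrix (Fin 2) (Fin 2) F)

theorem mt_mul (g h : H) : mt H (g * h) = mt H g * mt H h := by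
  simp [mt]

theorem mt_pow (g : H) (n : ℕ) : mt H (g ^ n) = mt H g ^ n := by
  simp [mt]

theorem mt_one : mt H 1 = 1 := by simp [mt]

theorem mt_det (g : H) : (mt H g).det = 1 := (g : SpecialLinearGroup (Fin 2) F).2

theorem mt_injective : Function.Injective (mt H) := by
  intro g h hgh
  apply Subtype.ext
  apply Subtype.ext
  exact hgh

theorem mt_inv_of_sq (g : H) (h : mt H g ^ 2 = -1) : mt H g⁻¹ = -mt H g := by
  have h1 : mt H g⁻¹ * mt H g = 1 := by rw [← mt_mul, inv_mul_cancel, mt_one]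
  have h2 : (-mt H g) * mt H g = 1 := by rw [Matrix.neg_mul, ← pow_two, h, neg_neg]
  calc mt H g⁻¹ = mt H g⁻¹ * ((mt H g) * (-mt H g)) := by
        rw [Matrix.mul_neg, ← pow_two, h, neg_neg, Matrix.mul_one]
    _ = (mt H g⁻¹ * mt H g) * (-mt H g) := by rw [Matrix.mul_assoc]
    _ = -mt H g := by rw [h1, Matrix.one_mul]

theorem mt_cases_of_sc (g : H) (h : Emb.sc (mt H g)) : mt H g = 1 ∨ mt H g = -1 :=
  scalar_cases (g : SpecialLinearGroup (Fin 2) F) h

variable {H f}

/-- Lifting an involution: the lift squares to `-1`. -/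
theorem sq_of_lift (h2 : (2 : F) ≠ 0) (hker : ∀ g : H, f g = 1 ↔ Emb.sc (mt H g)) (A : H)
    (ha2 : f A ^ 2 = 1) (ha : f A ≠ 1) : mt H A ^ 2 = -1 := by
  have h1 : f (A ^ 2) = 1 := by rw [map_pow, ha2]
  rw [hker] at h1
  rcases mt_cases_of_sc H _ h1 with h | h
  · exfalso
    apply ha
    rw [hker]
    rw [mt_pow] at h
    exact sc_of_sq_eq_one h2 _ (mt_det H A) h
  · rwa [mt_pow] at h

/-- Lifting an element of order three with trace `-1`. -/
theorem exists_lift_three (hker : ∀ g : H, f g = 1 ↔ Emb.sc (mt H g)) (Z : H)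
    (hZ : mt H Z = -1) (B₀ : H) (hb3 : f B₀ ^ 3 = 1) (hb : f B₀ ≠ 1) :
    ∃ B : H, f B = f B₀ ∧ (mt H B).trace = -1 ∧ mt H B ^ 3 = 1 := by
  have h1 : f (B₀ ^ 3) = 1 := by rw [map_pow, hb3]
  rw [hker] at h1
  have hfZ : f Z = 1 := by
    rw [hker, hZ]
    have : (-1 : Matrix (Fin 2) (Fin 2) F) = (-1 : F) • (1 : Matrix (Fin 2) (Fin 2) F) := by simp
    rw [this]
    exact sc_smul_one _
  rcases mt_cases_of_sc H _ h1 with h | h
  · rw [mt_pow] at h
    refine ⟨B₀, rfl, ?_, h⟩
    apply trace_of_pow_three _ (mt_det H B₀) _ h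
    intro hs
    exact hb ((hker _).mpr hs)
  · rw [mt_pow] at h
    refine ⟨Z * B₀, by rw [map_mul, hfZ, one_mul], ?_, ?_⟩
    · have h3 : mt H (Z * B₀) ^ 3 = 1 := by
        rw [mt_mul, hZ, Matrix.neg_mul, Matrix.one_mul, Odd.neg_pow (by decide), h, neg_neg]
      apply trace_of_pow_three _ (mt_det H _) _ h3
      intro hs
      apply hb
      have := (hker _).mpr hs
      rwa [map_mul, hfZ, one_mul] at this
    · rw [mt_mul, hZ, Matrix.neg_mul, Matrix.one_mul, Odd.neg_pow (by decide), h, neg_neg]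

/-- Normalising the sign of a product of order `n` (odd) modulo scalars. -/
theorem exists_sign (hker : ∀ g : H, f g = 1 ↔ Emb.sc (mt H g)) (A B : H)
    (hA : mt H A ^ 2 = -1) (n : ℕ) (hn : Odd n) (hab : (f A * f B) ^ n = 1) :
    ∃ A' : H, f A' = f A ∧ mt H A' ^ 2 = -1 ∧ mt H (A' * B) ^ n = 1 ∧
      (A' = A ∨ A' = A⁻¹) := by
  have h1 : f ((A * B) ^ n) = 1 := by rw [map_pow, map_mul, hab]
  rw [hker] at h1
  have hfA2 : f A ^ 2 = 1 := by
    rw [← map_pow, hker, mt_pow, hA]
    have : (-1 : Matrix (Fin 2) (Fin 2) F) = (-1 : F) • (1 : Matrix (Fin 2) (Fin 2) F) := by simp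
    rw [this]
    exact sc_smul_one _
  rcases mt_cases_of_sc H _ h1 with h | h
  · rw [mt_pow] at h
    exact ⟨A, rfl, hA, h, Or.inl rfl⟩
  · rw [mt_pow] at h
    have hinv := mt_inv_of_sq H A hA
    refine ⟨A⁻¹, ?_, ?_, ?_, Or.inr rfl⟩
    · rw [map_inv]
      have : f A * f A = 1 := by rw [← pow_two, hfA2]
      exact inv_eq_of_mul_eq_one_left this
    · rw [hinv, neg_pow, hA]
      have : ((-1 : Matrix (Fin 2) (Fin 2) F)) ^ 2 = 1 := by rw [neg_one_sq]
      rw [this, one_mul]
    · rw [mt_mul, hinv, Matrix.neg_mul, ← mt_mul, Odd.neg_pow hn, h, neg_neg]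

/-- Generation criterion. -/
theorem closure_eq_top_of_map (hker : ∀ g : H, f g = 1 ↔ Emb.sc (mt H g)) (A B : H)
    (hA : mt H A ^ 2 = -1) (hgen : Subgroup.closure {f A, f B} = ⊤) :
    Subgroup.closure {A, B} = ⊤ := by
  set K := Subgroup.closure ({A, B} : Set H) with hK
  have hmap : K.map f = ⊤ := by
    rw [hK, MonoidHom.map_closure, Set.image_pair, hgen]
  have hAK : A ∈ K := Subgroup.subset_closure (by simp)
  rw [eq_top_iff]
  intro h _
  have hh : f h ∈ K.map f := by rw [hmap]; exact Subgroup.mem_top _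
  obtain ⟨k, hk, hkh⟩ := hh
  have h1 : f (h * k⁻¹) = 1 := by rw [map_mul, map_inv, hkh, mul_inv_cancel]
  rw [hker] at h1
  rcases mt_cases_of_sc H _ h1 with h' | h'
  · have : h * k⁻¹ = 1 := mt_injective H (by rw [h', mt_one])
    have : h = k := by rw [mul_inv_eq_one] at this; exact this
    rw [this]; exact hk
  · have : h * k⁻¹ = A ^ 2 := mt_injective H (by rw [h', mt_pow, hA])
    have : h = A ^ 2 * k := by rw [← this]; group
    rw [this]
    exact K.mul_mem (K.pow_mem hAK 2) hk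

theorem closure_coe_eq (A B : H) (h : Subgroup.closure {A, B} = ⊤) :
    Subgroup.closure {(A : SpecialLinearGroup (Fin 2) F), (B : SpecialLinearGroup (Fin 2) F)} = H := by
  have := congrArg (Subgroup.map H.subtype) h
  rw [MonoidHom.map_closure, Set.image_pair, ← MonoidHom.range_eq_map, Subgroup.range_subtype] at this
  exact this

end lift

end Cfsg.Agent.Lib.Helper13.PairNF
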