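/-
helper13: maximal subgroups of `SL₂(F)` whose generators have traces in a subfield.
-/
import Mathlib
import Cfsg.Agent.Lib.Helper13.TraceOrd
import Cfsg.Agent.Lib.Helper13.PermGens
import Cfsg.Agent.Lib.Helper13.GL2Unipotent
import Cfsg.Agent.Lib.Helper13.SL2Sylow

set_option autoImplicit false

namespace Cfsg.Agent.Lib.Helper13.PairNF

open Matrix Subgroup Cfsg.Agent.Lib.Helper13 Cfsg.Agent.Lib.Helper13.Dk

section unip

variable {F : Type*} [Field F] (p : ℕ) [Fact p.Prime] [CharP F p]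

/-- Elements of order dividing `p` have trace two. -/
theorem trace_eq_two_of_pow_char (M : Matrix (Fin 2) (Fin 2) F) (hdet : M.det = 1)
    (h : M ^ p = 1) : M.trace = 2 := by
  have h1 : (M - 1) ^ p = 0 := by
    rw [sub_pow_char_of_commute p (Commute.one_right M), h, one_pow, sub_self]
  have h2 : (M - 1).det = 0 := by
    have := congrArg Matrix.det h1
    rw [Matrix.det_pow, Matrix.det_zero] at this
    exact pow_eq_zero_iff (Fact.out : p.Prime).ne_zero |>.mp this
  rw [Matrix.det_fin_two] at h2 hdet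
  rw [Matrix.trace_fin_two]
  simp only [Matrix.sub_apply, Matrix.one_apply_eq, Matrix.one_apply_ne, ne_eq, zero_ne_one,
    one_ne_zero, not_false_eq_true, sub_zero] at h2
  linear_combination hdet - h2

/-- If no non-scalar element has trace `±2`, then `p` does not divide the order. -/
theorem not_dvd_of_hss (hp2 : p ≠ 2) (H : Subgroup (SpecialLinearGroup (Fin 2) F)) [Finite H]
    (hss : ∀ y : H, ¬ Emb.sc (mt H y) → (mt H y).trace ^ 2 ≠ 4) : ¬ p ∣ Nat.card H := by
  intro hdvd
  obtain ⟨y, hy⟩ := exists_prime_orderOf_dvd_card' p hdvd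
  have hyp : y ^ p = 1 := by rw [← hy]; exact pow_orderOf_eq_one y
  have hy1 : y ≠ 1 := by
    intro h
    rw [h, orderOf_one] at hy
    exact (Fact.out : p.Prime).one_lt.ne hy
  have hm : mt H y ^ p = 1 := by rw [← mt_pow, hyp, mt_one]
  have htr := trace_eq_two_of_pow_char p (mt H y) (mt_det H y) hm
  have h2F : (2 : F) ≠ 0 := by
    intro h
    have h' : ((2 : ℕ) : F) = 0 := by exact_mod_cast h
    rw [CharP.cast_eq_zero_iff F p] at h'
    have := (Nat.prime_dvd_prime_iff_eq (Fact.out : p.Prime) Nat.prime_two).mp h'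
    exact hp2 this
  apply hss y
  · intro hsc
    rcases mt_cases_of_sc H y hsc with h | h
    · exact hy1 (mt_injective H (by rw [h, mt_one]))
    · rw [h] at htr
      rw [Matrix.trace_neg, Matrix.trace_one, Fintype.card_fin] at htr
      apply h2F
      have : (4 : F) = 0 := by
        have h' : (-(2 : ℕ) : F) = 2 := by exact_mod_cast htr
        push_cast at h'
        linear_combination -h'
      have h4 : (2 : F) * 2 = 0 := by rw [← this]; norm_num
      exact (mul_self_eq_zero.mp h4)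
  · rw [htr]; norm_num

end unip

section coatom

variable {F : Type*} [Field F] [Fintype F]

/-- A maximal subgroup inside the preimage of a proper subfield subgroup has order divisible by
the order of the subfield. -/
theorem card_subfield_dvd (H : Subgroup (SpecialLinearGroup (Fin 2) F)) (hH : IsCoatom H)
    (Θ : Tw F) (k₀ : Subfield F) (hk : k₀ ≠ ⊤) (hle : H ≤ (subfieldSL k₀).comap Θ.hom) :
    Nat.card k₀ ∣ Nat.card H := by
  classical
  set X := (subfieldSL k₀).comap Θ.hom with hX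
  have hXtop : X ≠ ⊤ := by
    intro htop
    obtain ⟨x, -, hx⟩ := SetLike.exists_of_lt (lt_top_iff_ne_top.mpr hk)
    obtain ⟨A, hA⟩ := Θ.bijective.2 (tSL x)
    have h2 : A ∈ X := htop ▸ mem_top A
    have h3 : Θ.hom A ∈ subfieldSL k₀ := h2
    rw [hA, tSL_mem_subfieldSL_iff] at h3
    exact hx h3
  have hHeq : X = H := (hH.le_iff.mp hle).resolve_left hXtop
  let e : SpecialLinearGroup (Fin 2) F ≃* SpecialLinearGroup (Fin 2) F :=
    MulEquiv.ofBijective Θ.hom Θ.bijective
  let ι : Multiplicative k₀ →* Multiplicative F := AddMonoidHom.toMultiplicative k₀.subtype.toAddMonoidHom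
  let ψ : Multiplicative k₀ →* SpecialLinearGroup (Fin 2) F :=
    e.symm.toMonoidHom.comp ((tSLHom (K := F)).comp ι)
  have hψinj : Function.Injective ψ := by
    intro a b hab
    have h1 : tSLHom (ι a) = tSLHom (ι b) := e.symm.injective hab
    have h2 := tSLHom_injective h1
    have h3 : ((Multiplicative.toAdd a : k₀) : F) = ((Multiplicative.toAdd b : k₀) : F) := h2
    exact Multiplicative.toAdd.injective (Subtype.ext h3)
  have hψle : ψ.range ≤ H := by
    rw [← hHeq]
    rintro _ ⟨a, rfl⟩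
    change Θ.hom (e.symm (tSLHom (ι a))) ∈ subfieldSL k₀
    have : Θ.hom (e.symm (tSLHom (ι a))) = tSLHom (ι a) := e.apply_symm_apply _
    rw [this]
    change tSL ((Multiplicative.toAdd a : k₀) : F) ∈ subfieldSL k₀
    rw [tSL_mem_subfieldSL_iff]
    exact (Multiplicative.toAdd a).2
  have hcard : Nat.card ψ.range = Nat.card k₀ := by
    have h1 : Nat.card (Multiplicative k₀) = Nat.card ψ.range :=
      Nat.card_congr (MonoidHom.ofInjective hψinj).toEquiv
    rw [← h1]
    exact Nat.card_congr Multiplicative.toAdd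
  rw [← hcard]
  exact Subgroup.card_dvd_of_le hψle

/-- In particular the characteristic divides the order. -/
theorem char_dvd_of_le_subfield (p : ℕ) [Fact p.Prime] [CharP F p]
    (H : Subgroup (SpecialLinearGroup (Fin 2) F)) (hH : IsCoatom H)
    (Θ : Tw F) (k₀ : Subfield F) (hk : k₀ ≠ ⊤) (hle : H ≤ (subfieldSL k₀).comap Θ.hom) :
    p ∣ Nat.card H := by
  refine dvd_trans ?_ (card_subfield_dvd H hH Θ k₀ hk hle)
  have hbot : (⊥ : Subfield F) ≤ k₀ := bot_le
  have h1 : Nat.card (⊥ : Subfield F) = p := Subfield.card_bot F p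
  rw [← h1]
  have := AddSubgroup.card_dvd_of_le (show (⊥ : Subfield F).toSubring.toAddSubgroup ≤
    k₀.toSubring.toAddSubgroup from hbot)
  exact this

/-- Transport of overgroups along the uniqueness of pairs. -/
theorem coatom_transport (h2 : (2 : F) ≠ 0) (H : Subgroup (SpecialLinearGroup (Fin 2) F))
    (hH : IsCoatom H) (A B : SpecialLinearGroup (Fin 2) F)
    (hgen : Subgroup.closure {A, B} = H)
    (S' : Subgroup (SpecialLinearGroup (Fin 2) F)) (hS' : S' ≠ ⊤)
    (A' B' : SpecialLinearGroup (Fin 2) F) (hA'S : A' ∈ S') (hB'S : B' ∈ S')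
    (hA : (A : Matrix (Fin 2) (Fin 2) F).trace = 0) (hA' : (A' : Matrix (Fin 2) (Fin 2) F).trace = 0)
    (hB : (B' : Matrix (Fin 2) (Fin 2) F).trace = (B : Matrix (Fin 2) (Fin 2) F).trace)
    (hAB : ((A' : Matrix (Fin 2) (Fin 2) F) * (B' : Matrix (Fin 2) (Fin 2) F)).trace =
      ((A : Matrix (Fin 2) (Fin 2) F) * (B : Matrix (Fin 2) (Fin 2) F)).trace)
    (hnd : (B' : Matrix (Fin 2) (Fin 2) F).trace ^ 2 +
      ((A' : Matrix (Fin 2) (Fin 2) F) * (B' : Matrix (Fin 2) (Fin 2) F)).trace ^ 2 ≠ 4) :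
    Nat.card S' = Nat.card H := by
  obtain ⟨Θ, hΘA, hΘB⟩ := exists_tw_pair h2 A' B' A B hA' hA hB hAB hnd
  set S'' := S'.map Θ.hom with hS''
  have hcard : Nat.card S'' = Nat.card S' := Subgroup.card_map_of_injective Θ.inj
  have hle : H ≤ S'' := by
    rw [← hgen, Subgroup.closure_le]
    intro x hx
    rcases hx with rfl | rfl
    · exact ⟨A', hA'S, hΘA⟩
    · exact ⟨B', hB'S, hΘB⟩
  have hne : S'' ≠ ⊤ := by
    intro htop
    apply hS'
    apply (Subgroup.card_eq_iff_eq_top S').mp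
    rw [← hcard, htop, Subgroup.card_top]
  have := (hH.le_iff.mp hle).resolve_left hne
  rw [← hcard, this]

end coatom

section gens

variable {F : Type*} [Field F] {H : Subgroup (SpecialLinearGroup (Fin 2) F)} {X : Type*} [Group X]
  {f : H →* X}

theorem sc_neg_one : Emb.sc (-1 : Matrix (Fin 2) (Fin 2) F) := by
  have : (-1 : Matrix (Fin 2) (Fin 2) F) = (-1 : F) • (1 : Matrix (Fin 2) (Fin 2) F) := by simp
  rw [this]
  exact sc_smul_one _

/-- Lifting a pair `(a, b)` with `a² = b³ = 1`. -/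
theorem exists_lift_pair (h2 : (2 : F) ≠ 0) (hf : Function.Surjective f)
    (hker : ∀ g : H, f g = 1 ↔ Emb.sc (mt H g)) (a b : X) (ha2 : a ^ 2 = 1) (ha : a ≠ 1)
    (hb3 : b ^ 3 = 1) (hb : b ≠ 1) :
    ∃ A B : H, f A = a ∧ f B = b ∧ mt H A ^ 2 = -1 ∧ (mt H B).trace = -1 := by
  obtain ⟨A, rfl⟩ := hf a
  obtain ⟨B₀, rfl⟩ := hf b
  have hA := sq_of_lift h2 hker A ha2 ha
  obtain ⟨B, hB1, hB2, -⟩ := exists_lift_three hker (A ^ 2) (by rw [mt_pow, hA]) B₀ hb3 hb
  exact ⟨A, B, rfl, hB1, hA, hB2⟩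

/-- Lifting a pair `(a, b)` with `a² = b³ = (ab)³ = 1` to a pair with traces `(0, -1, -1)`. -/
theorem exists_pair_333 (h2 : (2 : F) ≠ 0) (hf : Function.Surjective f)
    (hker : ∀ g : H, f g = 1 ↔ Emb.sc (mt H g)) (a b : X) (ha2 : a ^ 2 = 1) (ha : a ≠ 1)
    (hb3 : b ^ 3 = 1) (hb : b ≠ 1) (hab3 : (a * b) ^ 3 = 1) (hab : a * b ≠ 1) :
    ∃ A B : H, f A = a ∧ f B = b ∧ mt H A ^ 2 = -1 ∧ (mt H B).trace = -1 ∧
      (mt H (A * B)).trace = -1 := by
  obtain ⟨A, B, hfA, hfB, hA, hB⟩ := exists_lift_pair h2 hf hker a b ha2 ha hb3 hb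
  obtain ⟨A', hfA', hA', hAB', -⟩ := exists_sign hker A B hA 3 (by decide) (by rw [hfA, hfB, hab3])
  refine ⟨A', B, hfA'.trans hfA, hfB, hA', hB, ?_⟩
  apply trace_of_pow_three _ (mt_det H _) _ hAB'
  intro hs
  apply hab
  have := (hker _).mpr hs
  rwa [map_mul, hfA', hfA, hfB] at this

theorem trace_eq_zero_of_mt_sq (A : H) (hA : mt H A ^ 2 = -1) : (mt H A).trace = 0 :=
  trace_eq_zero_of_sq _ (mt_det H A) hA

end gens

end Cfsg.Agent.Lib.Helper13.PairNF
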