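/-
helper13: maximal subgroups of `SL₂(F)` of types `2.S₄`, `2.A₅`, `2.A₄`.
-/
import Mathlib
import Cfsg.Agent.Lib.Helper13.CoatomSub

set_option autoImplicit false

namespace Cfsg.Agent.Lib.Helper13.PairNF

open Matrix Subgroup Cfsg.Agent.Lib.Helper13 Cfsg.Agent.Lib.Helper13.Dk
  Cfsg.Agent.Lib.Helper13.PermGens

section

variable {F : Type*} [Field F] [Fintype F] (p : ℕ) [Fact p.Prime] [CharP F p]

theorem two_ne_zero_of_char (hp2 : p ≠ 2) : (2 : F) ≠ 0 := by
  intro h
  have h' : ((2 : ℕ) : F) = 0 := by exact_mod_cast h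
  rw [CharP.cast_eq_zero_iff F p] at h'
  exact hp2 ((Nat.prime_dvd_prime_iff_eq (Fact.out : p.Prime) Nat.prime_two).mp h')

theorem card_eq_of_bot_eq_top (h : (⊥ : Subfield F) = ⊤) : Fintype.card F = p := by
  rw [← Subfield.card_bot F p, h, ← Nat.card_eq_fintype_card]
  exact (Nat.card_congr (Subfield.topEquiv (K := F)).toEquiv).symm

theorem two_mem (k₀ : Subfield F) : (2 : F) ∈ k₀ := by
  rw [← one_add_one_eq_two]
  exact k₀.add_mem k₀.one_mem k₀.one_mem

variable {p}
variable {H : Subgroup (SpecialLinearGroup (Fin 2) F)} {X : Type*} [Group X] {f : H →* X}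

/-- Transport of a generating pair along an isomorphism. -/
theorem closure_symm_pair {Y : Type*} [Group Y] (e : X ≃* Y) (a b : Y)
    (h : Subgroup.closure ({a, b} : Set Y) = ⊤) :
    Subgroup.closure ({e.symm a, e.symm b} : Set X) = ⊤ := by
  have := congrArg (Subgroup.map e.symm.toMonoidHom) h
  rw [MonoidHom.map_closure, Set.image_pair, Subgroup.map_top_of_surjective _ e.symm.surjective]
    at this
  exact this

theorem symm_pow_eq_one {Y : Type*} [Group Y] (e : X ≃* Y) (a : Y) (n : ℕ) (h : a ^ n = 1) :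
    (e.symm a) ^ n = 1 := by
  rw [← map_pow, h, map_one]

theorem symm_ne_one {Y : Type*} [Group Y] (e : X ≃* Y) (a : Y) (h : a ≠ 1) : e.symm a ≠ 1 := by
  intro h'
  apply h
  have := congrArg e h'
  rwa [e.apply_symm_apply, map_one] at this

/-- A maximal subgroup of type `2.S₄` without elements of order `p` forces `q = p`. -/
theorem coatom_sym4 (hp2 : p ≠ 2) (hH : IsCoatom H) (hf : Function.Surjective f)
    (hker : ∀ g : H, f g = 1 ↔ Emb.sc (mt H g)) (e : X ≃* Equiv.Perm (Fin 4))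
    (hp : ¬ p ∣ Nat.card H) : Fintype.card F = p := by
  have h2 := two_ne_zero_of_char (F := F) p hp2
  obtain ⟨A, B, hfA, hfB, hA, hB⟩ := exists_lift_pair h2 hf hker (e.symm s4a) (e.symm s4b)
    (symm_pow_eq_one e _ 2 s4a_sq) (symm_ne_one e _ s4a_ne)
    (symm_pow_eq_one e _ 3 s4b_cube) (symm_ne_one e _ s4b_ne)
  have hgen : Subgroup.closure {A, B} = ⊤ := by
    apply closure_eq_top_of_map hker A B hA
    rw [hfA, hfB]
    exact closure_symm_pair e _ _ s4_closure
  have hgen' := closure_coe_eq A B hgen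
  set C := A * B with hC
  have hfC : f C = e.symm (s4a * s4b) := by rw [hC, map_mul, hfA, hfB, map_mul]
  have hC4 : Emb.sc (mt H (C ^ 4)) := by
    rw [← hker, map_pow, hfC]
    exact symm_pow_eq_one e _ 4 s4ab_pow
  have hC2 : ¬ Emb.sc (mt H C ^ 2) := by
    rw [← mt_pow, ← hker, map_pow, hfC, ← map_pow]
    exact symm_ne_one e _ s4ab_sq_ne
  have hγ : (mt H C).trace ^ 2 = 2 := by
    rcases mt_cases_of_sc H _ hC4 with h | h
    · apply trace_sq_of_pow_four _ (mt_det H C) hC2 1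
      rw [← mt_pow, h, one_smul]
    · apply trace_sq_of_pow_four _ (mt_det H C) hC2 (-1)
      rw [← mt_pow, h]; simp
  set γ := (mt H C).trace with hγdef
  have hγ0 : γ ≠ 0 := by
    intro h0
    rw [h0] at hγ
    apply h2
    rw [← hγ]; ring
  have hCm : mt H C = (A : SpecialLinearGroup (Fin 2) F).1 * (B : SpecialLinearGroup (Fin 2) F).1 :=
    mt_mul H A B
  obtain ⟨Θ, hΘA, hΘB⟩ := exists_tw_subfield h2 (⊥ : Subfield F)
    (A : SpecialLinearGroup (Fin 2) F) (B : SpecialLinearGroup (Fin 2) F) γ hγ0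
    (by rw [hγ]; exact two_mem _) (trace_eq_zero_of_mt_sq A hA)
    (by
      have : ((B : SpecialLinearGroup (Fin 2) F) : Matrix (Fin 2) (Fin 2) F).trace = -1 := hB
      rw [this]; exact (⊥ : Subfield F).neg_mem (⊥ : Subfield F).one_mem)
    (by
      have : ((A : SpecialLinearGroup (Fin 2) F) : Matrix (Fin 2) (Fin 2) F) *
          ((B : SpecialLinearGroup (Fin 2) F) : Matrix (Fin 2) (Fin 2) F) = mt H C := hCm.symm
      rw [this, ← hγdef, ← pow_two, hγ]; exact two_mem _)
    (by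
      have h1 : ((B : SpecialLinearGroup (Fin 2) F) : Matrix (Fin 2) (Fin 2) F).trace = -1 := hB
      have h3 : ((A : SpecialLinearGroup (Fin 2) F) : Matrix (Fin 2) (Fin 2) F) *
          ((B : SpecialLinearGroup (Fin 2) F) : Matrix (Fin 2) (Fin 2) F) = mt H C := hCm.symm
      rw [h1, h3, ← hγdef, hγ]
      intro h
      apply one_ne_zero (α := F)
      linear_combination -h)
  have hle : H ≤ (subfieldSL (⊥ : Subfield F)).comap Θ.hom := by
    rw [← hgen', Subgroup.closure_le]
    intro x hx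
    rcases hx with rfl | rfl
    · exact hΘA
    · exact hΘB
  by_contra hne
  apply hp
  apply char_dvd_of_le_subfield p H hH Θ ⊥ _ hle
  intro hbt
  exact hne (card_eq_of_bot_eq_top p hbt)


/-- The fixed field of the square of the Frobenius. -/
noncomputable def frobTwo (p : ℕ) [Fact p.Prime] [CharP F p] : Subfield F :=
  (iterateFrobenius F p 2).eqLocusField (RingHom.id F)

theorem mem_frobTwo (p : ℕ) [Fact p.Prime] [CharP F p] (x : F) :
    x ∈ frobTwo (F := F) p ↔ x ^ p ^ 2 = x := by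
  unfold frobTwo
  rw [RingHom.mem_eqLocusField, iterateFrobenius_def, RingHom.id_apply]

theorem card_le_of_frobTwo_eq_top (p : ℕ) [Fact p.Prime] [CharP F p]
    (h : frobTwo (F := F) p = ⊤) : Fintype.card F = p ∨ Fintype.card F = p ^ 2 := by
  classical
  have hall : ∀ x : F, x ^ p ^ 2 = x := fun x => by
    rw [← mem_frobTwo, h]; exact Subfield.mem_top x
  obtain ⟨n, -, hn⟩ := FiniteField.card F p
  have hp1 : 1 < p := (Fact.out : p.Prime).one_lt
  obtain ⟨g, hg⟩ := IsCyclic.exists_generator (α := Fˣ)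
  have hord : orderOf g = Fintype.card F - 1 := by
    rw [orderOf_eq_card_of_forall_mem_zpowers hg, Nat.card_eq_fintype_card, Fintype.card_units]
  have hgp : g ^ (p ^ 2 - 1) = 1 := by
    have h1 : (g : F) ^ p ^ 2 = g := hall g
    have h2 : (g : F) ^ (p ^ 2 - 1) * g = g := by
      rw [← pow_succ, Nat.sub_add_cancel (Nat.one_le_pow _ _ (by omega)), h1]
    have h3 : (g : F) ^ (p ^ 2 - 1) = 1 := by
      have hg0 : (g : F) ≠ 0 := g.ne_zero
      have : ((g : F) ^ (p ^ 2 - 1) - 1) * g = 0 := by rw [sub_mul, h2, one_mul, sub_self]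
      have := (mul_eq_zero.mp this).resolve_right hg0
      exact sub_eq_zero.mp this
    apply Units.ext
    rw [Units.val_pow_eq_pow_val, h3, Units.val_one]
  have hdvd : Fintype.card F - 1 ∣ p ^ 2 - 1 := by
    rw [← hord]; exact orderOf_dvd_of_pow_eq_one hgp
  have hle : Fintype.card F ≤ p ^ 2 := by
    have h4 : 0 < p ^ 2 - 1 := by
      have : 2 ^ 2 ≤ p ^ 2 := Nat.pow_le_pow_left hp1 2
      omega
    have := Nat.le_of_dvd h4 hdvd
    omega
  rw [hn] at hle ⊢
  have hn2 : (n : ℕ) ≤ 2 := (Nat.pow_le_pow_iff_right hp1).mp hle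
  have hn1 : 1 ≤ (n : ℕ) := n.pos
  rcases (by omega : (n : ℕ) = 1 ∨ (n : ℕ) = 2) with h1 | h1
  · left; rw [h1, pow_one]
  · right; rw [h1]

/-- Roots of `X² + X - 1` are fixed by the square of the Frobenius. -/
theorem root_mem_frobTwo (p : ℕ) [Fact p.Prime] [CharP F p] (hp2 : p ≠ 2) (τ : F)
    (hτ : τ ^ 2 + τ - 1 = 0) : τ ∈ frobTwo (F := F) p := by
  rw [mem_frobTwo]
  have hodd : Odd p := (Fact.out : p.Prime).odd_of_ne_two hp2
  set σ := τ ^ p with hσ
  have hσr : σ ^ 2 + σ - 1 = 0 := by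
    have h1 : (τ ^ 2 + τ - 1) ^ p = 0 := by rw [hτ, zero_pow (Fact.out : p.Prime).ne_zero]
    rw [sub_pow_char, add_pow_char, one_pow, ← pow_mul, mul_comm 2 p, pow_mul] at h1
    exact h1
  have hprod : (σ - τ) * (σ + 1 + τ) = 0 := by linear_combination hσr - hτ
  have hpow : τ ^ p ^ 2 = σ ^ p := by rw [hσ, ← pow_mul, pow_two]
  rw [hpow]
  rcases mul_eq_zero.mp hprod with h | h
  · have : σ = τ := sub_eq_zero.mp h
    rw [this]
    exact hσ.symm.trans this
  · have hσ' : σ = -1 - τ := by linear_combination h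
    rw [hσ', sub_pow_char, Odd.neg_pow hodd, one_pow, ← hσ, hσ']
    ring

/-- Quadratic reciprocity for `5`. -/
theorem exists_sqrt_five (p : ℕ) [Fact p.Prime] [CharP F p] (hp2 : p ≠ 2)
    (hp5 : p % 5 = 1 ∨ p % 5 = 4) : ∃ s : F, s ∈ (⊥ : Subfield F) ∧ s ^ 2 = 5 := by
  haveI : Fact (Nat.Prime 5) := ⟨by norm_num⟩
  have hsq5 : IsSquare ((p : ℕ) : ZMod 5) := by
    rw [← ZMod.natCast_mod p 5]
    rcases hp5 with h | h
    · rw [h]
      refine ⟨1, ?_⟩
      norm_num
    · rw [h]
      refine ⟨2, ?_⟩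
      norm_num
  have hsq : IsSquare ((5 : ℕ) : ZMod p) :=
    (ZMod.exists_sq_eq_prime_iff_of_mod_four_eq_one (p := 5) (q := p) (by norm_num) hp2).mp hsq5
  obtain ⟨s₀, hs₀⟩ := hsq
  refine ⟨ZMod.castHom (dvd_refl p) F s₀, ?_, ?_⟩
  · rw [Subfield.mem_bot_iff_pow_eq_self F p, ← map_pow, ZMod.pow_card]
  · rw [pow_two, ← map_mul, ← hs₀, map_natCast]
    norm_num

theorem root_mem_bot_of_sqrt_five (h2 : (2 : F) ≠ 0) (τ s : F) (hτ : τ ^ 2 + τ - 1 = 0)
    (hs : s ∈ (⊥ : Subfield F)) (hs5 : s ^ 2 = 5) : τ ∈ (⊥ : Subfield F) := by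
  have hprod : (2 * τ + 1 - s) * (2 * τ + 1 + s) = 0 := by linear_combination 4 * hτ - hs5
  have h2m : (2 : F) ∈ (⊥ : Subfield F) := two_mem _
  rcases mul_eq_zero.mp hprod with h | h
  · have : τ = (s - 1) / 2 := by field_simp; linear_combination h
    rw [this]
    exact Subfield.div_mem _ (Subfield.sub_mem _ hs (Subfield.one_mem _)) h2m
  · have : τ = (-s - 1) / 2 := by field_simp; linear_combination h
    rw [this]
    exact Subfield.div_mem _ (Subfield.sub_mem _ (Subfield.neg_mem _ hs) (Subfield.one_mem _)) h2m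

/-- In characteristic three the roots of `X² + X - 1` are not in the prime field. -/
theorem root_not_mem_bot_three [CharP F 3] (τ : F) (hτ : τ ^ 2 + τ - 1 = 0) :
    τ ∉ (⊥ : Subfield F) := by
  haveI : Fact (Nat.Prime 3) := ⟨Nat.prime_three⟩
  intro h
  rw [Subfield.mem_bot_iff_pow_eq_self F 3] at h
  have h3 : (3 : F) = 0 := by
    have := CharP.cast_eq_zero F 3
    exact_mod_cast this
  -- `τ³ = 2τ - 1`
  have h1 : τ ^ 3 = 2 * τ - 1 := by linear_combination (τ - 1) * hτ
  have h2 : τ = 1 := by linear_combination h - h1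
  rw [h2] at hτ
  norm_num at hτ

/-- A maximal subgroup of type `2.A₅`. -/
theorem coatom_alt5 (hp2 : p ≠ 2) (hp5 : p ≠ 5) (hH : IsCoatom H) (hf : Function.Surjective f)
    (hker : ∀ g : H, f g = 1 ↔ Emb.sc (mt H g)) (e : X ≃* alternatingGroup (Fin 5))
    (hp : ¬ p ∣ Nat.card H ∨ (p = 3 ∧ ¬ 9 ∣ Nat.card H)) :
    Fintype.card F = p ∨ (Fintype.card F = p ^ 2 ∧ (p % 10 = 3 ∨ p % 10 = 7)) := by
  have h2 := two_ne_zero_of_char (F := F) p hp2
  obtain ⟨A₀, B, hfA₀, hfB, hA₀, hB⟩ := exists_lift_pair h2 hf hker (e.symm a5a) (e.symm a5b)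
    (symm_pow_eq_one e _ 2 a5a_sq) (symm_ne_one e _ a5a_ne)
    (symm_pow_eq_one e _ 3 a5b_cube) (symm_ne_one e _ a5b_ne)
  obtain ⟨A, hfA', hA, hAB5, -⟩ := exists_sign hker A₀ B hA₀ 5 (by decide)
    (by rw [hfA₀, hfB, ← map_mul]; exact symm_pow_eq_one e _ 5 a5ab_pow)
  have hfA : f A = e.symm a5a := hfA'.trans hfA₀
  have hgen : Subgroup.closure {A, B} = ⊤ := by
    apply closure_eq_top_of_map hker A B hA
    rw [hfA, hfB]
    exact closure_symm_pair e _ _ a5_closure
  have hgen' := closure_coe_eq A B hgen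
  set C := A * B with hC
  have hCsc : ¬ Emb.sc (mt H C) := by
    rw [← hker, hC, map_mul, hfA, hfB, ← map_mul]
    exact symm_ne_one e _ a5ab_ne
  set τ := (mt H C).trace with hτdef
  have hτ : τ ^ 2 + τ - 1 = 0 := trace_of_pow_five _ (mt_det H C) hCsc hAB5
  have hCm : ((A : SpecialLinearGroup (Fin 2) F) : Matrix (Fin 2) (Fin 2) F) *
      ((B : SpecialLinearGroup (Fin 2) F) : Matrix (Fin 2) (Fin 2) F) = mt H C := (mt_mul H A B).symm
  have hBt : ((B : SpecialLinearGroup (Fin 2) F) : Matrix (Fin 2) (Fin 2) F).trace = -1 := hB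
  -- the key step
  have key : ∀ k₀ : Subfield F, τ ∈ k₀ → ∃ Θ : Tw F, H ≤ (subfieldSL k₀).comap Θ.hom := by
    intro k₀ hτk
    obtain ⟨Θ, hΘA, hΘB⟩ := exists_tw_subfield h2 k₀
      (A : SpecialLinearGroup (Fin 2) F) (B : SpecialLinearGroup (Fin 2) F) 1 one_ne_zero
      (by rw [one_pow]; exact k₀.one_mem) (trace_eq_zero_of_mt_sq A hA)
      (by rw [hBt]; exact k₀.neg_mem k₀.one_mem)
      (by rw [hCm, one_mul]; exact hτk)
      (by
        rw [hBt, hCm, ← hτdef]
        intro h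
        have h1 : τ = -2 := by linear_combination hτ - h
        rw [h1] at hτ
        norm_num at hτ)
    refine ⟨Θ, ?_⟩
    rw [← hgen', Subgroup.closure_le]
    intro x hx
    rcases hx with rfl | rfl
    · exact hΘA
    · exact hΘB
  by_cases hτb : τ ∈ (⊥ : Subfield F)
  · -- rational over the prime field
    left
    have hp3 : p ≠ 3 := by
      intro h3
      subst h3
      exact root_not_mem_bot_three τ hτ hτb
    have hpn : ¬ p ∣ Nat.card H := by
      rcases hp with h | ⟨h, -⟩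
      · exact h
      · exact absurd h hp3
    obtain ⟨Θ, hle⟩ := key ⊥ hτb
    by_contra hne
    apply hpn
    apply char_dvd_of_le_subfield p H hH Θ ⊥ _ hle
    intro hbt
    exact hne (card_eq_of_bot_eq_top p hbt)
  · obtain ⟨Θ, hle⟩ := key (frobTwo p) (root_mem_frobTwo p hp2 τ hτ)
    have htop : frobTwo (F := F) p = ⊤ := by
      by_contra hne
      have hdvd := card_subfield_dvd H hH Θ _ hne hle
      haveI : CharP (frobTwo (F := F) p) p :=
        RingHom.charP (frobTwo (F := F) p).subtype (frobTwo (F := F) p).subtype_injective p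
      letI : Fintype (frobTwo (F := F) p) := Fintype.ofFinite _
      obtain ⟨n, -, hn⟩ := FiniteField.card (frobTwo (F := F) p) p
      rw [Nat.card_eq_fintype_card, hn] at hdvd
      rcases hp with h | ⟨h3, h9⟩
      · apply h
        exact dvd_trans (dvd_pow_self p n.ne_zero) hdvd
      · apply h9
        have hn2 : 2 ≤ (n : ℕ) := by
          by_contra hlt
          have hn1 : (n : ℕ) = 1 := by have := n.pos; omega
          rw [hn1, pow_one] at hn
          -- then every element of `frobTwo` is fixed by the Frobenius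
          apply hτb
          rw [Subfield.mem_bot_iff_pow_eq_self F p]
          have hmem : τ ∈ frobTwo (F := F) p := root_mem_frobTwo p hp2 τ hτ
          have := FiniteField.pow_card (⟨τ, hmem⟩ : frobTwo (F := F) p)
          rw [hn] at this
          exact congrArg Subtype.val this
        subst h3
        exact dvd_trans (pow_dvd_pow 3 hn2) hdvd
    rcases card_le_of_frobTwo_eq_top p htop with h | h
    · left; exact h
    · right
      refine ⟨h, ?_⟩
      have hpp : p.Prime := Fact.out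
      have hodd : p % 2 = 1 := Nat.odd_iff.mp (hpp.odd_of_ne_two hp2)
      have h5 : p % 5 ≠ 0 := by
        intro h0
        have : 5 ∣ p := Nat.dvd_of_mod_eq_zero h0
        exact hp5 ((Nat.prime_dvd_prime_iff_eq (by norm_num) hpp).mp this).symm
      by_contra hcon
      have h14 : p % 5 = 1 ∨ p % 5 = 4 := by omega
      obtain ⟨s, hs, hs5⟩ := exists_sqrt_five (F := F) p hp2 h14
      exact hτb (root_mem_bot_of_sqrt_five h2 τ s hτ hs hs5)


/-- A maximal subgroup of type `2.A₄` without elements of order `p`: `q = p` and it is generated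
by a pair with traces `(0, -1, -1)`. -/
theorem coatom_alt4 (hp2 : p ≠ 2) (hH : IsCoatom H) (hf : Function.Surjective f)
    (hker : ∀ g : H, f g = 1 ↔ Emb.sc (mt H g)) (e : X ≃* alternatingGroup (Fin 4))
    (hp : ¬ p ∣ Nat.card H) :
    Fintype.card F = p ∧ ∃ A B : SpecialLinearGroup (Fin 2) F, Subgroup.closure {A, B} = H ∧
      (A : Matrix (Fin 2) (Fin 2) F).trace = 0 ∧ (B : Matrix (Fin 2) (Fin 2) F).trace = -1 ∧
      ((A : Matrix (Fin 2) (Fin 2) F) * (B : Matrix (Fin 2) (Fin 2) F)).trace = -1 := by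
  have h2 := two_ne_zero_of_char (F := F) p hp2
  obtain ⟨A, B, hfA, hfB, hA, hB, hAB⟩ := exists_pair_333 h2 hf hker (e.symm a4a) (e.symm a4b)
    (symm_pow_eq_one e _ 2 a4a_sq) (symm_ne_one e _ a4a_ne)
    (symm_pow_eq_one e _ 3 a4b_cube) (symm_ne_one e _ a4b_ne)
    (by rw [← map_mul]; exact symm_pow_eq_one e _ 3 a4ab_cube)
    (by rw [← map_mul]; exact symm_ne_one e _ a4ab_ne)
  have hgen : Subgroup.closure {A, B} = ⊤ := by
    apply closure_eq_top_of_map hker A B hA
    rw [hfA, hfB]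
    exact closure_symm_pair e _ _ a4_closure
  have hgen' := closure_coe_eq A B hgen
  have hCm : ((A : SpecialLinearGroup (Fin 2) F) : Matrix (Fin 2) (Fin 2) F) *
      ((B : SpecialLinearGroup (Fin 2) F) : Matrix (Fin 2) (Fin 2) F) = mt H (A * B) :=
    (mt_mul H A B).symm
  have hBt : ((B : SpecialLinearGroup (Fin 2) F) : Matrix (Fin 2) (Fin 2) F).trace = -1 := hB
  have hAt : ((A : SpecialLinearGroup (Fin 2) F) : Matrix (Fin 2) (Fin 2) F).trace = 0 :=
    trace_eq_zero_of_mt_sq A hA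
  refine ⟨?_, (A : SpecialLinearGroup (Fin 2) F), (B : SpecialLinearGroup (Fin 2) F), hgen', hAt,
    hBt, by rw [hCm]; exact hAB⟩
  obtain ⟨Θ, hΘA, hΘB⟩ := exists_tw_subfield h2 (⊥ : Subfield F)
    (A : SpecialLinearGroup (Fin 2) F) (B : SpecialLinearGroup (Fin 2) F) 1 one_ne_zero
    (by rw [one_pow]; exact Subfield.one_mem _) hAt
    (by rw [hBt]; exact Subfield.neg_mem _ (Subfield.one_mem _))
    (by rw [hCm, hAB, one_mul]; exact Subfield.neg_mem _ (Subfield.one_mem _))
    (by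
      rw [hBt, hCm, hAB]
      intro h
      apply h2
      linear_combination -h)
  have hle : H ≤ (subfieldSL (⊥ : Subfield F)).comap Θ.hom := by
    rw [← hgen', Subgroup.closure_le]
    intro x hx
    rcases hx with rfl | rfl
    · exact hΘA
    · exact hΘB
  by_contra hne
  apply hp
  apply char_dvd_of_le_subfield p H hH Θ ⊥ _ hle
  intro hbt
  exact hne (card_eq_of_bot_eq_top p hbt)

/-- An overgroup-type obstruction: a proper subgroup containing a pair with traces `(0, -1, -1)`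
has the same order as a maximal subgroup generated by such a pair. -/
theorem card_eq_of_pair_333 (hp2 : p ≠ 2) (hH : IsCoatom H)
    (A B : SpecialLinearGroup (Fin 2) F) (hgen : Subgroup.closure {A, B} = H)
    (hA : (A : Matrix (Fin 2) (Fin 2) F).trace = 0) (hB : (B : Matrix (Fin 2) (Fin 2) F).trace = -1)
    (hAB : ((A : Matrix (Fin 2) (Fin 2) F) * (B : Matrix (Fin 2) (Fin 2) F)).trace = -1)
    (S' : Subgroup (SpecialLinearGroup (Fin 2) F)) (hS' : S' ≠ ⊤) {Y : Type*} [Group Y]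
    (f' : S' →* Y) (hf' : Function.Surjective f')
    (hker' : ∀ g : S', f' g = 1 ↔ Emb.sc (mt S' g)) (a b : Y) (ha2 : a ^ 2 = 1) (ha : a ≠ 1)
    (hb3 : b ^ 3 = 1) (hb : b ≠ 1) (hab3 : (a * b) ^ 3 = 1) (hab : a * b ≠ 1) :
    Nat.card S' = Nat.card H := by
  have h2 := two_ne_zero_of_char (F := F) p hp2
  obtain ⟨A', B', -, -, hA', hB', hAB'⟩ := exists_pair_333 h2 hf' hker' a b ha2 ha hb3 hb hab3 hab
  have hCm : ((A' : SpecialLinearGroup (Fin 2) F) : Matrix (Fin 2) (Fin 2) F) *
      ((B' : SpecialLinearGroup (Fin 2) F) : Matrix (Fin 2) (Fin 2) F) = mt S' (A' * B') :=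
    (mt_mul S' A' B').symm
  have hBt : ((B' : SpecialLinearGroup (Fin 2) F) : Matrix (Fin 2) (Fin 2) F).trace = -1 := hB'
  apply coatom_transport h2 H hH A B hgen S' hS' (A' : SpecialLinearGroup (Fin 2) F)
    (B' : SpecialLinearGroup (Fin 2) F) A'.2 B'.2 hA (trace_eq_zero_of_mt_sq A' hA')
    (by rw [hBt, hB]) (by rw [hCm, hAB', hAB])
  rw [hBt, hCm, hAB']
  intro h
  apply h2
  linear_combination -h

end

end Cfsg.Agent.Lib.Helper13.PairNF
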