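import Cfsg.Agent.Lib.Helper13.DCDefs
import Cfsg.Agent.Lib.Helper6.DeficiencyClass
import Cfsg.Agent.Lib.Helper21.IsaacsThm1211

/-!
# S4719 leaf B1: in a group of deficiency class `r`, the centralizer of an abelian `p`-subgroup of
order `p^r` has only the principal block.
-/

set_option autoImplicit false

namespace Cfsg.Agent.Lib.Helper13.DCB1

open Cfsg Cfsg.Agent.CharLib Cfsg.Agent.Lib.Helper24 Cfsg.Agent.Lib.Helper23 Cfsg.Agent.Lib.Helper6

universe u

/-- the defect of a block of a group with a central subgroup of order `p^r` is at least `r` -/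
theorem le_blockDefect_of_central {H : Type u} [Group H] [Finite H] (p : ℕ) [hpp : Fact p.Prime]
    (M : Ideal Cfsg.AlgInt) (hM : Cfsg.IsPModular p M) (Z : Subgroup H)
    (hZ : Z ≤ Subgroup.center H) (r : ℕ)
    (hcard : Nat.card Z = p ^ r) (b : Set (Cfsg.IrrCharacter H)) (hb : Cfsg.IsPBlock M b) :
    r ≤ Cfsg.blockDefect p b := by
  have hprime : M.IsPrime := isPrime_of_isPModular hM
  obtain ⟨χ₀, hbeq⟩ := hb
  have hχ₀ : χ₀ ∈ b := by rw [hbeq]; exact Cfsg.Agent.Lib.Helper6.mem_blockOf_self χ₀
  have hinf : sInf ((fun χ : IrrCharacter H => (charDegree (χ : H → ℂ)).factorization p) '' b) ≤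
      (charDegree (χ₀ : H → ℂ)).factorization p := Nat.sInf_le ⟨χ₀, hχ₀, rfl⟩
  have hdvd := Cfsg.Agent.Lib.Helper21.Isaacs.charDegree_dvd_index_center χ₀
  have hidx : (Subgroup.center H).index ≠ 0 := Subgroup.index_ne_zero_of_finite
  have hdeg : charDegree (χ₀ : H → ℂ) ≠ 0 := by
    intro h0
    rw [h0] at hdvd
    exact hidx (Nat.eq_zero_of_zero_dvd hdvd)
  have h1 : (charDegree (χ₀ : H → ℂ)).factorization p ≤ ((Subgroup.center H).index).factorization p :=
    (Nat.factorization_le_iff_dvd hdeg hidx).mpr hdvd p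
  have hZc : Nat.card Z ∣ Nat.card (Subgroup.center H) := Subgroup.card_dvd_of_le hZ
  have hcpos : Nat.card (Subgroup.center H) ≠ 0 := Nat.card_pos.ne'
  have h2 : r ≤ (Nat.card (Subgroup.center H)).factorization p := by
    have h3 : (Nat.card Z).factorization p ≤ (Nat.card (Subgroup.center H)).factorization p :=
      (Nat.factorization_le_iff_dvd Nat.card_pos.ne' hcpos).mpr hZc p
    rw [hcard, Nat.Prime.factorization_pow hpp.out] at h3
    simpa using h3
  have hmul : Nat.card H = Nat.card (Subgroup.center H) * (Subgroup.center H).index :=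
    (Subgroup.card_mul_index _).symm
  have h4 : (Nat.card H).factorization p =
      (Nat.card (Subgroup.center H)).factorization p + ((Subgroup.center H).index).factorization p := by
    rw [hmul, Nat.factorization_mul hcpos hidx]
    rfl
  unfold Cfsg.blockDefect
  omega

/-- LEAF B1. -/
theorem all_blocks_principal_centralizer {G : Type u} [Group G] [Finite G] (p : ℕ)
    [hpp : Fact p.Prime] (M : Ideal Cfsg.AlgInt) (hM : Cfsg.IsPModular p M) (r : ℕ)
    (hG : ∀ B : Set (Cfsg.IrrCharacter G), Cfsg.IsPBlock M B → B ≠ Cfsg.principalBlock M G →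
      Cfsg.blockDefect p B < r)
    (F : Subgroup G) (hFc : ∀ x ∈ F, ∀ y ∈ F, x * y = y * x) (hcard : Nat.card F = p ^ r) :
    ∀ b : Set (Cfsg.IrrCharacter ↥(Subgroup.centralizer (F : Set G))), Cfsg.IsPBlock M b →
      b = Cfsg.principalBlock M ↥(Subgroup.centralizer (F : Set G)) := by
  intro b hb
  by_contra hne
  have hprime : M.IsPrime := isPrime_of_isPModular hM
  have hFp : IsPGroup p F := IsPGroup.of_card hcard
  have hFH : F ≤ Subgroup.centralizer (F : Set G) := by
    intro x hx
    rw [Subgroup.mem_centralizer_iff]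
    intro y hy
    exact hFc y hy x hx
  have hHN : Subgroup.centralizer (F : Set G) ≤ Subgroup.normalizer (F : Set G) :=
    Subgroup.centralizer_le_normalizer _
  have hdef : InducedBlockDefined M (Subgroup.centralizer (F : Set G)) b :=
    inducedBlockDefined_of_le_normalizer hM F _ hFp hFH le_rfl hHN b hb
  obtain ⟨B, hind⟩ := id hdef
  have hBne : B ≠ principalBlock M G := by
    intro h
    rw [h] at hind
    exact hne ((Cfsg.Agent.S0936.result p M hM _ b hdef).mp hind)
  have hlt := hG B hind.2.1 hBne
  obtain ⟨D, hD⟩ := exists_isDefectGroup hM b hb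
  obtain ⟨E, hE, hle⟩ := exists_defectGroup_ge_of_induced hM _ b B hind D hD
  have hcD := card_defectGroup_eq hM b hb D hD
  have hcE := card_defectGroup_eq hM B hind.2.1 E hE
  have hcmap : Nat.card (D.map (Subgroup.centralizer (F : Set G)).subtype) = Nat.card D :=
    Subgroup.card_map_of_injective (Subgroup.subtype_injective _)
  have h1 : p ^ blockDefect p b ≤ p ^ blockDefect p B := by
    rw [← hcD, ← hcE, ← hcmap]
    exact Subgroup.card_le_of_le hle
  have h2 : blockDefect p b ≤ blockDefect p B :=
    (Nat.pow_le_pow_iff_right hpp.out.one_lt).mp h1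
  -- `F` is central in its centralizer
  have hZ : F.subgroupOf (Subgroup.centralizer (F : Set G)) ≤
      Subgroup.center (Subgroup.centralizer (F : Set G)) := by
    intro x hx
    rw [Subgroup.mem_center_iff]
    intro g
    have hxF : (x : G) ∈ F := Subgroup.mem_subgroupOf.mp hx
    have hg := (Subgroup.mem_centralizer_iff.mp g.2) (x : G) hxF
    exact Subtype.ext hg.symm
  have hcZ : Nat.card (F.subgroupOf (Subgroup.centralizer (F : Set G))) = p ^ r := by
    rw [← hcard]
    exact Nat.card_congr (Subgroup.subgroupOfEquivOfLe hFH).toEquiv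
  have h3 := le_blockDefect_of_central p M hM _ hZ r hcZ b hb
  omega

end Cfsg.Agent.Lib.Helper13.DCB1
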