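import Cfsg.Agent.Lib.Helper13.DCDefs
import Cfsg.Agent.Lib.Helper9.PComponent

/-!
# S4719 leaf G11: the group-theoretic bound, by induction on the rank of `E`
(`exists_bound_of`: against the frozen statements of the leaves G2, G3, G4, G10 as hypotheses).
-/

set_option autoImplicit false

universe u

namespace Cfsg.Agent.Lib.Helper13.DCG11

open Cfsg Cfsg.Agent.Lib.Helper13.DC

/-- statement of leaf G2 -/
def G2Stmt : Prop :=
  ∀ {H : Type u} [Group H] [Finite H] (N : Subgroup H) [N.Normal] (g : H),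
    Nat.card (Subgroup.centralizer ({(QuotientGroup.mk' N) g} : Set (H ⧸ N))) ≤
      Nat.card (Subgroup.centralizer ({g} : Set H))

/-- statement of leaf G3 -/
def G3Stmt : Prop :=
  ∀ (m a c N' : ℕ) (_ : 1 ≤ m)
    (_ : ∀ (H : Type u) [Group H] [Finite H] (E : Subgroup H), ElemAb2 E → Nat.card E = 2 ^ m →
      (Nat.card H).factorization 2 ≤ a → HypBd E (2 ^ (2 ^ m) * c) → Nat.card H ≤ N')
    (G : Type u) [Group G] [Finite G] (E : Subgroup G) (_ : ElemAb2 E)
    (_ : Nat.card E = 2 ^ (m + 1)) (_ : (Nat.card G).factorization 2 ≤ a) (_ : HypBd E c)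
    (y : G) (_ : y ∈ E) (_ : y ≠ 1),
    Nat.card (Subgroup.centralizer ({y} : Set G)) ≤ 2 * N'

/-- statement of leaf G4 -/
def G4Stmt : Prop :=
  ∀ {G : Type u} [Group G] [Finite G] (x z : G) (_ : x * x = 1) (_ : z * z = 1)
    (_ : x * z = z * x) (c : ℕ)
    (_ : Nat.card (Subgroup.centralizer ({x} : Set G)) ≤ c)
    (_ : Nat.card (Subgroup.centralizer ({z} : Set G)) ≤ c)
    (_ : Nat.card (Subgroup.centralizer ({x * z} : Set G)) ≤ c),
    Nat.card (Cfsg.pPrimeCore 2 G) ≤ c ^ 3

/-- statement of leaf G10 -/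
def G10Stmt : Prop :=
  ∀ {G : Type u} [Group G] [Finite G] (a c : ℕ)
    (_ : Cfsg.pPrimeCore 2 G = ⊥) (_ : (Nat.card G).factorization 2 ≤ a) (y : G)
    (_ : orderOf y = 2) (_ : Nat.card (Subgroup.centralizer ({y} : Set G)) ≤ c),
    Nat.card G ≤ qBound a c

/-- an elementary abelian 2-group of order at least 4 contains a four-group -/
theorem exists_four {G : Type u} [Group G] [Finite G] (E : Subgroup G) (m : ℕ) (hm : 1 ≤ m)
    (hcard : Nat.card E = 2 ^ (m + 1)) :
    ∃ x ∈ E, ∃ z ∈ E, x ≠ 1 ∧ z ≠ 1 ∧ z ≠ x := by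
  classical
  by_contra hcon
  push Not at hcon
  have h4 : 4 ≤ Nat.card E := by
    rw [hcard]
    calc 4 = 2 ^ 2 := by norm_num
      _ ≤ 2 ^ (m + 1) := Nat.pow_le_pow_right (by norm_num) (by omega)
  -- E ⊆ {1, x}
  have hE1 : ∃ x ∈ E, x ≠ 1 := by
    by_contra h1
    push Not at h1
    have : E = ⊥ := by
      rw [Subgroup.eq_bot_iff_forall]
      exact h1
    rw [this, Subgroup.card_bot] at h4
    omega
  obtain ⟨x, hxE, hx1⟩ := hE1
  have hsub : (E : Set G) ⊆ {1, x} := by
    intro z hz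
    by_cases hz1 : z = 1
    · left; exact hz1
    · right
      exact hcon x hxE z hz hx1 hz1
  have hle : Nat.card E ≤ 2 := by
    have h1 : Nat.card E = (E : Set G).ncard := rfl
    rw [h1]
    calc (E : Set G).ncard ≤ ({1, x} : Set G).ncard :=
          Set.ncard_le_ncard hsub (Set.toFinite _)
      _ ≤ 2 := by
          have := Set.ncard_insert_le (1 : G) ({x} : Set G)
          rw [Set.ncard_singleton] at this
          exact this
  omega

theorem exists_bound_of (hG2 : G2Stmt.{u}) (hG3 : G3Stmt.{u}) (hG4 : G4Stmt.{u})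
    (hG10 : G10Stmt.{u}) (m : ℕ) (hm : 1 ≤ m) (a : ℕ) :
    ∀ c : ℕ, ∃ N : ℕ, ∀ (G : Type u) [Group G] [Finite G] (E : Subgroup G), ElemAb2 E →
      Nat.card E = 2 ^ m → (Nat.card G).factorization 2 ≤ a → HypBd E c → Nat.card G ≤ N := by
  induction m, hm using Nat.le_induction with
  | base =>
    intro c
    refine ⟨c, ?_⟩
    intro G _ _ E _ hcard _ hbd
    have h := hbd ⊥ bot_le (by rw [Subgroup.relIndex_bot_left, hcard]; norm_num)
    have htop : Subgroup.centralizer (((⊥ : Subgroup G) : Subgroup G) : Set G) = ⊤ := by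
      rw [Subgroup.centralizer_eq_top_iff_subset]
      intro z hz
      have hz1 : z = 1 := by simpa using hz
      rw [hz1]
      exact Subgroup.one_mem _
    rw [htop, Subgroup.card_top] at h
    exact h
  | succ m hm ih =>
    intro c
    obtain ⟨N', hN'⟩ := ih (2 ^ (2 ^ m) * c)
    refine ⟨(2 * N') ^ 3 * qBound a (2 * N'), ?_⟩
    intro G _ _ E hE hcard ha hbd
    obtain ⟨x, hxE, z, hzE, hx1, hz1, hzx⟩ := exists_four E m hm hcard
    have hxx : x * x = 1 := hE.2 x hxE
    have hzz : z * z = 1 := hE.2 z hzE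
    have hxz : x * z = z * x := hE.1 x hxE z hzE
    have hxzE : x * z ∈ E := E.mul_mem hxE hzE
    have hxz1 : x * z ≠ 1 := by
      intro h
      apply hzx
      have h2 : x * z = x * x := by rw [h, hxx]
      exact mul_left_cancel h2
    have hcx := hG3 m a c N' hm hN' G E hE hcard ha hbd x hxE hx1
    have hcz := hG3 m a c N' hm hN' G E hE hcard ha hbd z hzE hz1
    have hcxz := hG3 m a c N' hm hN' G E hE hcard ha hbd (x * z) hxzE hxz1
    have hK := hG4 x z hxx hzz hxz (2 * N') hcx hcz hcxz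
    -- the quotient by `O_{2'}(G)`
    have : Fact (Nat.Prime 2) := ⟨Nat.prime_two⟩
    set K := Cfsg.pPrimeCore 2 G with hKdef
    have hO : Cfsg.pPrimeCore 2 (G ⧸ K) = ⊥ :=
      Cfsg.Agent.Lib.Helper9.pPrimeCore_quotient_eq_bot 2
    have hmul : Nat.card G = Nat.card (G ⧸ K) * Nat.card K :=
      Subgroup.card_eq_card_quotient_mul_card_subgroup K
    have hQpos : 0 < Nat.card (G ⧸ K) := Nat.card_pos
    have hGpos : 0 < Nat.card G := Nat.card_pos
    have haQ : (Nat.card (G ⧸ K)).factorization 2 ≤ a := by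
      have hdvd : Nat.card (G ⧸ K) ∣ Nat.card G := ⟨Nat.card K, hmul⟩
      exact le_trans ((Nat.factorization_le_iff_dvd hQpos.ne' hGpos.ne').mpr hdvd 2) ha
    -- the image of `x` is an involution
    have hxK : x ∉ K := by
      intro hxK
      have hcop : (Nat.card K).Coprime 2 := Cfsg.Agent.Lib.Helper12.pPrimeCore_coprime 2
      have hord : orderOf x = 2 := orderOf_eq_prime (by rw [pow_two]; exact hxx) hx1
      have hdvd : orderOf (⟨x, hxK⟩ : K) ∣ Nat.card K := orderOf_dvd_natCard _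
      have h2 : orderOf (⟨x, hxK⟩ : K) = 2 := by
        rw [← hord]
        exact (Subgroup.orderOf_mk x hxK)
      rw [h2] at hdvd
      have := Nat.Coprime.eq_one_of_dvd hcop.symm hdvd
      omega
    have hordbar : orderOf ((QuotientGroup.mk' K) x) = 2 := by
      apply orderOf_eq_prime
      · rw [pow_two, ← map_mul, hxx, map_one]
      · intro h
        apply hxK
        exact (QuotientGroup.eq_one_iff x).mp h
    have hcbar : Nat.card (Subgroup.centralizer ({(QuotientGroup.mk' K) x} : Set (G ⧸ K))) ≤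
        2 * N' := le_trans (hG2 K x) hcx
    have hQ := hG10 a (2 * N') hO haQ _ hordbar hcbar
    rw [hmul, mul_comm]
    exact Nat.mul_le_mul hK hQ

end Cfsg.Agent.Lib.Helper13.DCG11
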