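import Cfsg.Agent.Lib.Helper13.DCG11
import Cfsg.Agent.Lib.Helper7.DCG1
import Cfsg.Agent.Lib.Helper11.DCG3
import Cfsg.Agent.Lib.Helper4.DCG4
import Cfsg.Agent.Lib.Helper11.DCG10Pre
import Cfsg.Agent.Lib.Helper29.DCG6b

/-!
# S4719 leaf G11, exact frozen statement (leaves G2, G3, G4, G10 plugged in).
-/

set_option autoImplicit false

universe u

namespace Cfsg.Agent.Lib.Helper13.DCG11w

open Cfsg Cfsg.Agent.Lib.Helper13.DC

/-- LEAF G11. -/
theorem exists_bound (m : ℕ) (hm : 1 ≤ m) (a c : ℕ) :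
    ∃ N : ℕ, ∀ (G : Type u) [Group G] [Finite G] (E : Subgroup G), ElemAb2 E →
      Nat.card E = 2 ^ m → (Nat.card G).factorization 2 ≤ a → HypBd E c → Nat.card G ≤ N :=
  Cfsg.Agent.Lib.Helper13.DCG11.exists_bound_of.{u}
    (fun N _ g => Cfsg.Agent.Lib.Helper7.DCG1.card_centralizer_quotient_singleton_le N g)
    (fun m a c N' hm hP G _ _ E hE hcard ha hbd y hy hy1 =>
      Cfsg.Agent.Lib.Helper11.DCG3.centralizer_bound_step m a c N' hm hP G E hE hcard ha hbd y hy hy1)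
    (fun x z hx hz hxz c hcx hcz hcxz =>
      Cfsg.Agent.Lib.Helper4.DCG4.card_pPrimeCore_le x z hx hz hxz c hcx hcz hcxz)
    (fun a c hO ha y hy hc =>
      Cfsg.Agent.Lib.Helper11.DCG10.card_le_of_core_trivial_of_G6b a c
        (fun L hL y hy hyL hc =>
          Cfsg.Agent.Lib.Helper29.DCG6b.card_le_of_normalizes L hL y hy hyL c hc)
        hO ha y hy hc)
    m hm a c

end Cfsg.Agent.Lib.Helper13.DCG11w
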