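import Cfsg.Agent.Lib.Helper13.DCDefs

/-!
# S4719: final assembly (`main_of`: against S4718, leaf B1 and leaf G11 as hypotheses)
-/

set_option autoImplicit false

universe u

namespace Cfsg.Agent.Lib.Helper13.DCMain

open Cfsg Cfsg.Agent.Lib.Helper13.DC

/-- statement of S4718 for `p = 2` -/
def OneBlockStmt : Prop :=
  ∀ a : ℕ, ∃ N : ℕ, ∀ (G : Type u) [Group G] [Finite G] (M : Ideal Cfsg.AlgInt),
    Cfsg.IsPModular 2 M → (Nat.card G).factorization 2 = a →
    (∀ B : Set (Cfsg.IrrCharacter G), Cfsg.IsPBlock M B → B = Cfsg.principalBlock M G) →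
    Nat.card G ≤ N

/-- statement of leaf B1 for `p = 2` -/
def B1Stmt : Prop :=
  ∀ {G : Type u} [Group G] [Finite G] (M : Ideal Cfsg.AlgInt) (_ : Cfsg.IsPModular 2 M) (r : ℕ)
    (_ : ∀ B : Set (Cfsg.IrrCharacter G), Cfsg.IsPBlock M B → B ≠ Cfsg.principalBlock M G →
      Cfsg.blockDefect 2 B < r)
    (F : Subgroup G) (_ : ∀ x ∈ F, ∀ y ∈ F, x * y = y * x) (_ : Nat.card F = 2 ^ r),
    ∀ b : Set (Cfsg.IrrCharacter ↥(Subgroup.centralizer (F : Set G))), Cfsg.IsPBlock M b →
      b = Cfsg.principalBlock M ↥(Subgroup.centralizer (F : Set G))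

/-- statement of leaf G11 -/
def G11Stmt : Prop :=
  ∀ (m : ℕ) (_ : 1 ≤ m) (a c : ℕ),
    ∃ N : ℕ, ∀ (G : Type u) [Group G] [Finite G] (E : Subgroup G), ElemAb2 E →
      Nat.card E = 2 ^ m → (Nat.card G).factorization 2 ≤ a → HypBd E c → Nat.card G ≤ N

theorem main_of (h1 : OneBlockStmt.{u}) (hB1 : B1Stmt.{u}) (hG11 : G11Stmt.{u}) (a : ℕ) :
    ∃ N : ℕ, ∀ (G : Type u) [Group G] [Finite G] (M : Ideal Cfsg.AlgInt) (r : ℕ) (P : Sylow 2 G),
      Cfsg.IsPModular 2 M → Nat.card P = 2 ^ a →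
      (∀ B : Set (Cfsg.IrrCharacter G), Cfsg.IsPBlock M B → B ≠ Cfsg.principalBlock M G →
        Cfsg.blockDefect 2 B < r) →
      (∃ E : Subgroup G, E ≤ (P : Subgroup G) ∧ IsMulCommutative E ∧ (∀ x ∈ E, x * x = 1) ∧
        Nat.card E = 2 ^ (r + 1)) → Nat.card G ≤ N := by
  classical
  choose Nf hNf using h1
  set c : ℕ := ∑ a' ∈ Finset.range (a + 1), Nf a' with hc
  have hG11' : ∀ k : ℕ, ∃ N : ℕ, ∀ (G : Type u) [Group G] [Finite G] (E : Subgroup G),
      ElemAb2 E → Nat.card E = 2 ^ (k + 1) → (Nat.card G).factorization 2 ≤ a → HypBd E c →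
      Nat.card G ≤ N := fun k => hG11 (k + 1) (by omega) a c
  choose Nb hNb using hG11'
  refine ⟨∑ k ∈ Finset.range a, Nb k, ?_⟩
  intro G _ _ M r P hM hP hdef hE
  obtain ⟨E, hEP, hEc, hE2, hEcard⟩ := hE
  have : Fact (Nat.Prime 2) := ⟨Nat.prime_two⟩
  -- the 2-part of `|G|`
  have hfa : (Nat.card G).factorization 2 = a := by
    have h := P.card_eq_multiplicity
    rw [hP] at h
    exact (Nat.pow_right_injective (le_refl 2) h).symm
  -- `r < a`
  have hra : r < a := by
    have hle : Nat.card E ≤ Nat.card (P : Subgroup G) := Subgroup.card_le_of_le hEP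
    have hP' : Nat.card (P : Subgroup G) = 2 ^ a := hP
    rw [hEcard, hP'] at hle
    have := (Nat.pow_le_pow_iff_right (by norm_num : 1 < 2)).mp hle
    omega
  -- `E` is elementary abelian
  have hcomm : ∀ x ∈ E, ∀ y ∈ E, x * y = y * x := by
    intro x hx y hy
    have h := hEc.is_comm.comm (⟨x, hx⟩ : E) ⟨y, hy⟩
    exact congrArg Subtype.val h
  have hEab : ElemAb2 E := ⟨hcomm, hE2⟩
  -- the centralizers of the hyperplanes are bounded
  have hbd : HypBd E c := by
    intro F hFE hidx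
    have hFcard : Nat.card F = 2 ^ r := by
      have h : Nat.card E = Nat.card F * F.relIndex E := by
        rw [← Subgroup.card_mul_index (F.subgroupOf E),
          Nat.card_congr (Subgroup.subgroupOfEquivOfLe hFE).toEquiv]
        rfl
      rw [hidx, hEcard, pow_succ] at h
      have h' : 2 * Nat.card F = 2 * 2 ^ r := by rw [mul_comm 2 (Nat.card F), ← h]; ring
      exact Nat.eq_of_mul_eq_mul_left (by norm_num) h'
    have hFc : ∀ x ∈ F, ∀ y ∈ F, x * y = y * x := fun x hx y hy => hcomm x (hFE hx) y (hFE hy)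
    have hone := hB1 M hM r hdef F hFc hFcard
    set H := Subgroup.centralizer (F : Set G) with hH
    have hle : (Nat.card H).factorization 2 ≤ a := by
      rw [← hfa]
      have hdvd : Nat.card H ∣ Nat.card G := Subgroup.card_subgroup_dvd_card H
      exact (Nat.factorization_le_iff_dvd Nat.card_pos.ne' Nat.card_pos.ne').mpr hdvd 2
    have h2 := hNf ((Nat.card H).factorization 2) H M hM rfl hone
    refine le_trans h2 ?_
    rw [hc]
    exact Finset.single_le_sum (f := Nf) (fun _ _ => Nat.zero_le _)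
      (Finset.mem_range.mpr (Nat.lt_succ_of_le hle))
  have hfin := hNb r G E hEab hEcard (le_of_eq hfa) hbd
  refine le_trans hfin ?_
  exact Finset.single_le_sum (f := Nb) (fun _ _ => Nat.zero_le _) (Finset.mem_range.mpr hra)

end Cfsg.Agent.Lib.Helper13.DCMain
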