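/-
helper13: S5060 (SL₂ generation over a simple algebraic extension), part 1:
the group `HH α = ⟨u(c), l(c α) : c ∈ k⟩ ≤ SL₂(L)`, the conjugation automorphisms normalising it,
the `k`-subspace `AA α = {t : u(t) ∈ HH α}` and the criteria `AA = ⊤ → HH = ⊤`,
`α • AA ≤ AA → AA = ⊤`, and the Weyl-element criterion.
-/
import Mathlib
import Cfsg.Agent.Lib.Helper13.SL2Gen
import Cfsg.Agent.Lib.Helper13.DkTwoTrans

set_option autoImplicit false

namespace Cfsg.Agent.Lib.Helper13.DG

open Matrix Subgroup Cfsg.Agent.Lib.Helper13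

variable {k L : Type*} [Field k] [Field L] [Algebra k L]

/-- The generating set. -/
def gens (α : L) : Set (SpecialLinearGroup (Fin 2) L) :=
  {g | ∃ c : k, g = tSL (algebraMap k L c)} ∪ {g | ∃ c : k, g = lSL (algebraMap k L c * α)}

/-- The group generated by `u(c)`, `l(c α)`, `c ∈ k`. -/
def HH (α : L) : Subgroup (SpecialLinearGroup (Fin 2) L) := closure (gens (k := k) α)

theorem tSL_mem_HH (α : L) (c : k) : tSL (algebraMap k L c) ∈ HH (k := k) α :=
  subset_closure (Or.inl ⟨c, rfl⟩)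

theorem lSL_mem_HH (α : L) (c : k) : lSL (algebraMap k L c * α) ∈ HH (k := k) α :=
  subset_closure (Or.inr ⟨c, rfl⟩)

/-- Conjugation by an invertible matrix, as an endomorphism of `SL₂`. -/
def conjSL (M M' : Matrix (Fin 2) (Fin 2) L) (h : M * M' = 1) (h' : M' * M = 1) :
    SpecialLinearGroup (Fin 2) L →* SpecialLinearGroup (Fin 2) L :=
  MonoidHom.mk' (fun g => ⟨M * (g : Matrix (Fin 2) (Fin 2) L) * M', by
    rw [Matrix.det_mul, Matrix.det_mul, g.2, mul_one, ← Matrix.det_mul, h, Matrix.det_one]⟩)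
  (by
    intro a b
    apply Subtype.ext
    change M * ((a : Matrix (Fin 2) (Fin 2) L) * (b : Matrix (Fin 2) (Fin 2) L)) * M' =
        M * (a : Matrix (Fin 2) (Fin 2) L) * M' * (M * (b : Matrix (Fin 2) (Fin 2) L) * M')
    calc M * ((a : Matrix (Fin 2) (Fin 2) L) * (b : Matrix (Fin 2) (Fin 2) L)) * M'
          = M * (a : Matrix (Fin 2) (Fin 2) L) * 1 * (b : Matrix (Fin 2) (Fin 2) L) * M' := by
            rw [Matrix.mul_one]; simp only [Matrix.mul_assoc]
        _ = M * (a : Matrix (Fin 2) (Fin 2) L) * (M' * M) * (b : Matrix (Fin 2) (Fin 2) L) * M' := by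
            rw [h']
        _ = _ := by simp only [Matrix.mul_assoc])

theorem conjSL_coe (M M' : Matrix (Fin 2) (Fin 2) L) (h : M * M' = 1) (h' : M' * M = 1)
    (g : SpecialLinearGroup (Fin 2) L) :
    ((conjSL M M' h h' g : SpecialLinearGroup (Fin 2) L) : Matrix (Fin 2) (Fin 2) L) =
      M * (g : Matrix (Fin 2) (Fin 2) L) * M' := rfl

/-- A homomorphism mapping the generators into `HH` maps `HH` into `HH`. -/
theorem map_mem_HH (α : L) (f : SpecialLinearGroup (Fin 2) L →* SpecialLinearGroup (Fin 2) L)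
    (hf : ∀ g ∈ gens (k := k) α, f g ∈ HH (k := k) α) {g : SpecialLinearGroup (Fin 2) L}
    (hg : g ∈ HH (k := k) α) : f g ∈ HH (k := k) α := by
  have hle : HH (k := k) α ≤ (HH (k := k) α).comap f := by
    unfold HH
    rw [closure_le]
    intro x hx
    exact hf x hx
  exact hle hg

section phi

/-- conjugation by `diag(s, 1)` -/
noncomputable def phi (s : L) (hs : s ≠ 0) :
    SpecialLinearGroup (Fin 2) L →* SpecialLinearGroup (Fin 2) L :=
  conjSL !![s, 0; 0, 1] !![s⁻¹, 0; 0, 1]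
    (by ext i j; fin_cases i <;> fin_cases j <;> simp [Matrix.mul_apply, Fin.sum_univ_two, hs])
    (by ext i j; fin_cases i <;> fin_cases j <;> simp [Matrix.mul_apply, Fin.sum_univ_two, hs])

theorem phi_tSL (s : L) (hs : s ≠ 0) (t : L) : phi s hs (tSL t) = tSL (s * t) := by
  apply Subtype.ext
  unfold phi
  rw [conjSL_coe, tSL_coe, tSL_coe]
  ext i j
  fin_cases i <;> fin_cases j <;> simp [Matrix.mul_apply, Fin.sum_univ_two, hs]

theorem phi_lSL (s : L) (hs : s ≠ 0) (t : L) : phi s hs (lSL t) = lSL (s⁻¹ * t) := by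
  apply Subtype.ext
  unfold phi
  rw [conjSL_coe, lSL_coe, lSL_coe]
  ext i j
  fin_cases i <;> fin_cases j <;> simp [Matrix.mul_apply, Fin.sum_univ_two, hs, mul_comm]

theorem phi_mem (α : L) (c : k) (hc : c ≠ 0) {g : SpecialLinearGroup (Fin 2) L}
    (hg : g ∈ HH (k := k) α) :
    phi (algebraMap k L c) (by simpa using hc) g ∈ HH (k := k) α := by
  apply map_mem_HH α _ _ hg
  rintro x (⟨d, rfl⟩ | ⟨d, rfl⟩)
  · rw [phi_tSL, ← map_mul]
    exact tSL_mem_HH α _
  · rw [phi_lSL, ← map_inv₀, ← mul_assoc, ← map_mul]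
    exact lSL_mem_HH α _

end phi

section psi

/-- conjugation by `δ = [[0, 1], [α, 0]]` -/
noncomputable def psi (α : L) (hα : α ≠ 0) :
    SpecialLinearGroup (Fin 2) L →* SpecialLinearGroup (Fin 2) L :=
  conjSL !![0, 1; α, 0] !![0, α⁻¹; 1, 0]
    (by ext i j; fin_cases i <;> fin_cases j <;> simp [Matrix.mul_apply, Fin.sum_univ_two, hα])
    (by ext i j; fin_cases i <;> fin_cases j <;> simp [Matrix.mul_apply, Fin.sum_univ_two, hα])

theorem psi_tSL (α : L) (hα : α ≠ 0) (t : L) : psi α hα (tSL t) = lSL (α * t) := by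
  apply Subtype.ext
  unfold psi
  rw [conjSL_coe, tSL_coe, lSL_coe]
  ext i j
  fin_cases i <;> fin_cases j <;> simp [Matrix.mul_apply, Fin.sum_univ_two, hα]

theorem psi_lSL (α : L) (hα : α ≠ 0) (t : L) : psi α hα (lSL t) = tSL (α⁻¹ * t) := by
  apply Subtype.ext
  unfold psi
  rw [conjSL_coe, tSL_coe, lSL_coe]
  ext i j
  fin_cases i <;> fin_cases j <;> simp [Matrix.mul_apply, Fin.sum_univ_two, hα, mul_comm]

theorem psi_coe (α : L) (hα : α ≠ 0) (g : SpecialLinearGroup (Fin 2) L) :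
    ((psi α hα g : SpecialLinearGroup (Fin 2) L) : Matrix (Fin 2) (Fin 2) L) =
      !![(g : Matrix (Fin 2) (Fin 2) L) 1 1, α⁻¹ * (g : Matrix (Fin 2) (Fin 2) L) 1 0;
         α * (g : Matrix (Fin 2) (Fin 2) L) 0 1, (g : Matrix (Fin 2) (Fin 2) L) 0 0] := by
  unfold psi
  rw [conjSL_coe]
  generalize (g : Matrix (Fin 2) (Fin 2) L) = m
  ext i j
  fin_cases i <;> fin_cases j <;> simp only [Matrix.mul_apply, Fin.sum_univ_two] <;>
    simp [mul_comm, hα]

theorem psi_mem (α : L) (hα : α ≠ 0) {g : SpecialLinearGroup (Fin 2) L}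
    (hg : g ∈ HH (k := k) α) : psi α hα g ∈ HH (k := k) α := by
  apply map_mem_HH α _ _ hg
  rintro x (⟨d, rfl⟩ | ⟨d, rfl⟩)
  · rw [psi_tSL, mul_comm]
    exact lSL_mem_HH α _
  · rw [psi_lSL]
    have : α⁻¹ * (algebraMap k L d * α) = algebraMap k L d := by field_simp
    rw [this]
    exact tSL_mem_HH α _

end psi

section theta

/-- conjugation by `J = [[0, 1], [-1, 0]]` (= transpose inverse on `SL₂`) -/
def theta : SpecialLinearGroup (Fin 2) L →* SpecialLinearGroup (Fin 2) L :=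
  conjSL !![0, 1; -1, 0] !![0, -1; 1, 0]
    (by ext i j; fin_cases i <;> fin_cases j <;> simp [Matrix.mul_apply, Fin.sum_univ_two])
    (by ext i j; fin_cases i <;> fin_cases j <;> simp [Matrix.mul_apply, Fin.sum_univ_two])

theorem theta_tSL (t : L) : theta (tSL t) = lSL (-t) := by
  apply Subtype.ext
  unfold theta
  rw [conjSL_coe, tSL_coe, lSL_coe]
  ext i j
  fin_cases i <;> fin_cases j <;> simp [Matrix.mul_apply, Fin.sum_univ_two]

theorem theta_lSL (t : L) : theta (lSL t) = tSL (-t) := by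
  apply Subtype.ext
  unfold theta
  rw [conjSL_coe, tSL_coe, lSL_coe]
  ext i j
  fin_cases i <;> fin_cases j <;> simp [Matrix.mul_apply, Fin.sum_univ_two]

theorem theta_theta (g : SpecialLinearGroup (Fin 2) L) : theta (theta g) = g := by
  apply Subtype.ext
  change ((theta (theta g) : SpecialLinearGroup (Fin 2) L) : Matrix (Fin 2) (Fin 2) L) =
    (g : Matrix (Fin 2) (Fin 2) L)
  unfold theta
  rw [conjSL_coe, conjSL_coe]
  generalize (g : Matrix (Fin 2) (Fin 2) L) = m
  ext i j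
  fin_cases i <;> fin_cases j <;> simp only [Matrix.mul_apply, Fin.sum_univ_two] <;> simp

end theta

/-- The set of `t` with `u(t) ∈ HH`, as a `k`-subspace. -/
def AA (α : L) : Submodule k L where
  carrier := {t | tSL t ∈ HH (k := k) α}
  add_mem' := by
    intro a b ha hb
    change tSL (a + b) ∈ HH (k := k) α
    rw [← tSL_mul]
    exact (HH α).mul_mem ha hb
  zero_mem' := by
    change tSL (0 : L) ∈ HH (k := k) α
    rw [tSL_zero]
    exact (HH α).one_mem
  smul_mem' := by
    intro c t ht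
    change tSL (c • t) ∈ HH (k := k) α
    by_cases hc : c = 0
    · rw [hc, zero_smul, tSL_zero]
      exact (HH α).one_mem
    · rw [Algebra.smul_def, ← phi_tSL _ (by simpa using hc)]
      exact phi_mem α c hc ht

theorem mem_AA {α : L} {t : L} : t ∈ AA (k := k) α ↔ tSL t ∈ HH (k := k) α := Iff.rfl

theorem algebraMap_mem_AA (α : L) (c : k) : algebraMap k L c ∈ AA (k := k) α :=
  tSL_mem_HH α c

theorem one_mem_AA (α : L) : (1 : L) ∈ AA (k := k) α := by
  have := algebraMap_mem_AA (k := k) α 1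
  rwa [map_one] at this

/-- `l(s) ∈ HH ↔ s/α ∈ AA` -/
theorem lSL_mem_iff (α : L) (hα : α ≠ 0) (s : L) :
    lSL s ∈ HH (k := k) α ↔ α⁻¹ * s ∈ AA (k := k) α := by
  constructor
  · intro h
    have := psi_mem α hα h
    rwa [psi_lSL] at this
  · intro h
    have := psi_mem α hα (mem_AA.mp h)
    rw [psi_tSL] at this
    have e : α * (α⁻¹ * s) = s := by field_simp
    rwa [e] at this

theorem HH_eq_top_of_AA (α : L) (hα : α ≠ 0) (h : AA (k := k) α = ⊤) : HH (k := k) α = ⊤ := by
  rw [eq_top_iff]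
  intro g _
  apply mem_of_tSL_lSL_mem
  · intro t
    have : t ∈ AA (k := k) α := by rw [h]; exact Submodule.mem_top
    exact this
  · intro s
    rw [lSL_mem_iff α hα, h]
    exact Submodule.mem_top

/-- If `AA` is stable under multiplication by `α` then it is everything. -/
theorem AA_eq_top_of_mul_mem (α : L) (hgen : Algebra.adjoin k ({α} : Set L) = ⊤)
    (h : ∀ t ∈ AA (k := k) α, α * t ∈ AA (k := k) α) : AA (k := k) α = ⊤ := by
  have key : ∀ x ∈ Algebra.adjoin k ({α} : Set L), ∀ t ∈ AA (k := k) α, x * t ∈ AA (k := k) α := by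
    intro x hx
    induction hx using Algebra.adjoin_induction with
    | mem y hy =>
      rw [Set.mem_singleton_iff] at hy
      subst hy
      exact h
    | algebraMap c =>
      intro t ht
      rw [← Algebra.smul_def]
      exact (AA α).smul_mem c ht
    | add x y _ _ hx hy =>
      intro t ht
      rw [add_mul]
      exact (AA α).add_mem (hx t ht) (hy t ht)
    | mul x y _ _ hx hy =>
      intro t ht
      rw [mul_assoc]
      exact hx _ (hy t ht)
  rw [eq_top_iff]
  intro x _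
  have hx : x ∈ Algebra.adjoin k ({α} : Set L) := by rw [hgen]; exact Algebra.mem_top
  have := key x hx 1 (one_mem_AA α)
  rwa [mul_one] at this

/-- Conjugating `u(t)` by an element `h` of `SL₂` whose first column is `(0, y)`. -/
theorem weyl_conj (h : SpecialLinearGroup (Fin 2) L) (y : L)
    (h00 : (h : Matrix (Fin 2) (Fin 2) L) 0 0 = 0) (h10 : (h : Matrix (Fin 2) (Fin 2) L) 1 0 = y)
    (t : L) : h * tSL t * h⁻¹ = lSL (-(y ^ 2 * t)) := by
  rw [mul_inv_eq_iff_eq_mul]
  apply Subtype.ext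
  change (h : Matrix (Fin 2) (Fin 2) L) * !![1, t; 0, 1] =
    !![1, 0; -(y ^ 2 * t), 1] * (h : Matrix (Fin 2) (Fin 2) L)
  have hdet := h.2
  rw [Matrix.det_fin_two, h00, h10] at hdet
  revert h00 h10 hdet
  generalize (h : Matrix (Fin 2) (Fin 2) L) = m
  intro h00 h10 hdet
  ext i j
  fin_cases i <;> fin_cases j <;> simp only [Matrix.mul_apply, Fin.sum_univ_two] <;>
    simp [h00, h10]
  linear_combination (-(y * t)) * hdet

/-- **Weyl-element criterion**: an element of `HH` with first column `(0, s α)`, `s ∈ kˣ`, forces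
`AA = ⊤`. -/
theorem AA_eq_top_of_weyl (α : L) (hα : α ≠ 0) (hgen : Algebra.adjoin k ({α} : Set L) = ⊤)
    (h : SpecialLinearGroup (Fin 2) L) (hh : h ∈ HH (k := k) α) (s : k) (hs : s ≠ 0)
    (h00 : (h : Matrix (Fin 2) (Fin 2) L) 0 0 = 0)
    (h10 : (h : Matrix (Fin 2) (Fin 2) L) 1 0 = algebraMap k L s * α) : AA (k := k) α = ⊤ := by
  apply AA_eq_top_of_mul_mem α hgen
  intro t ht
  have h1 : h * tSL t * h⁻¹ ∈ HH (k := k) α :=
    (HH α).mul_mem ((HH α).mul_mem hh ht) ((HH α).inv_mem hh)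
  rw [weyl_conj h _ h00 h10 t, lSL_mem_iff α hα] at h1
  have e : α⁻¹ * -((algebraMap k L s * α) ^ 2 * t) = (-(s ^ 2)) • (α * t) := by
    rw [Algebra.smul_def, map_neg, map_pow]
    field_simp
  rw [e] at h1
  have h2 := (AA (k := k) α).smul_mem (-(s ^ 2))⁻¹ h1
  rw [smul_smul, inv_mul_cancel₀ (by simpa using hs), one_smul] at h2
  exact h2

end Cfsg.Agent.Lib.Helper13.DG
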