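/-
helper13: S5060 part 2: the finite case, from Dickson's lemma (S0801) in helper9's form `k1b_dickson`.
-/
import Mathlib
import Cfsg.Agent.Lib.Helper13.DG1
import Cfsg.Agent.Lib.Helper9.Om7SK1b

set_option autoImplicit false

namespace Cfsg.Agent.Lib.Helper13.DG

open Matrix Subgroup Cfsg.Agent.Lib.Helper13

variable {k L : Type*} [Field k] [Field L] [Algebra k L]

/-- All powers of `α` in `AA` force `AA = ⊤`. -/
theorem AA_eq_top_of_pow_mem (α : L) (hgen : Algebra.adjoin k ({α} : Set L) = ⊤)
    (h : ∀ i : ℕ, α ^ i ∈ AA (k := k) α) : AA (k := k) α = ⊤ := by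
  rw [eq_top_iff]
  intro x _
  have hx : x ∈ Algebra.adjoin k ({α} : Set L) := by rw [hgen]; exact Algebra.mem_top
  rw [Algebra.adjoin_singleton_eq_range_aeval] at hx
  obtain ⟨P, rfl⟩ := hx
  change Polynomial.aeval α P ∈ AA (k := k) α
  rw [Polynomial.aeval_eq_sum_range]
  apply Submodule.sum_mem
  intro i _
  exact (AA α).smul_mem _ (h i)

theorem exists_good_scalar [Finite k] (hcard : 5 ≤ Nat.card k) (α : L) :
    ∃ d : k, d ≠ 0 ∧ (algebraMap k L d * α) ^ 2 ≠ -1 := by
  classical
  by_cases h1 : α ^ 2 = -1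
  · haveI : Fintype k := Fintype.ofFinite k
    have hc : ({0, 1, -1} : Finset k).card < (Finset.univ : Finset k).card := by
      have h3 : ({0, 1, -1} : Finset k).card ≤ 3 := Finset.card_le_three
      rw [Finset.card_univ, ← Nat.card_eq_fintype_card]
      omega
    obtain ⟨d, -, hd⟩ := Finset.exists_mem_notMem_of_card_lt_card hc
    simp only [Finset.mem_insert, Finset.mem_singleton, not_or] at hd
    refine ⟨d, hd.1, ?_⟩
    rw [mul_pow, h1, ← map_pow]
    intro h
    have h2 : algebraMap k L (d ^ 2) = algebraMap k L 1 := by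
      rw [map_one]
      linear_combination -h
    have h3 := (algebraMap k L).injective h2
    have h4 : (d - 1) * (d + 1) = 0 := by linear_combination h3
    rcases mul_eq_zero.mp h4 with h5 | h5
    · exact hd.2.1 (by linear_combination h5)
    · exact hd.2.2 (by linear_combination h5)
  · exact ⟨1, one_ne_zero, by rwa [map_one, one_mul]⟩

/-- **The finite case.** -/
theorem AA_eq_top_of_finite [Finite k] (h2 : (2 : k) ≠ 0) (hcard : 5 ≤ Nat.card k) (α : L)
    (hα : α ≠ 0) (hint : IsIntegral k α) (hgen : Algebra.adjoin k ({α} : Set L) = ⊤) :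
    AA (k := k) α = ⊤ := by
  classical
  -- `L` is finite
  have : Module.Finite k L := by
    rw [Module.finite_def]
    have := hint.fg_adjoin_singleton
    rwa [hgen] at this
  have : Finite L := Module.finite_of_finite k
  haveI : Fintype L := Fintype.ofFinite L
  have h2L : (2 : L) ≠ 0 := by
    intro h
    apply h2
    apply (algebraMap k L).injective
    rw [map_ofNat, map_zero]
    exact h
  obtain ⟨d, hd0, hd⟩ := exists_good_scalar hcard α
  set δ : L := -(algebraMap k L d * α) with hδ
  have hδ0 : δ ≠ 0 := by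
    rw [hδ, neg_ne_zero]
    exact mul_ne_zero (by simpa using hd0) hα
  have hδ2 : δ ^ 2 ≠ -1 := by
    rw [hδ, neg_sq]
    exact hd
  -- the Dickson subgroup maps into `HH` under `theta`
  have hle : Subgroup.closure ({lSL 1, tSL δ} : Set (SpecialLinearGroup (Fin 2) L)) ≤
      (HH (k := k) α).comap theta := by
    rw [closure_le]
    intro x hx
    rcases hx with rfl | hx
    · change theta (lSL (1 : L)) ∈ HH (k := k) α
      rw [theta_lSL]
      have := tSL_mem_HH (k := k) α (-1)
      rwa [map_neg, map_one] at this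
    · rw [Set.mem_singleton_iff] at hx
      subst hx
      change theta (tSL δ) ∈ HH (k := k) α
      rw [theta_tSL, hδ, neg_neg]
      exact lSL_mem_HH α d
  rcases Cfsg.Agent.Lib.Helper9.Om7SLeaf.k1b_dickson h2L hδ0 with hk | ⟨hbad, -⟩
  · have hsub : ∀ c ∈ Subfield.closure ({δ} : Set L), c ∈ AA (k := k) α := by
      intro c hc
      have h1 := hle (hk c hc)
      change theta (lSL c) ∈ HH (k := k) α at h1
      rw [theta_lSL] at h1
      have h3 : -c ∈ AA (k := k) α := h1
      have := (AA (k := k) α).neg_mem h3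
      rwa [neg_neg] at this
    apply AA_eq_top_of_pow_mem α hgen
    intro i
    have h0 : δ ∈ Subfield.closure ({δ} : Set L) := Subfield.subset_closure (Set.mem_singleton δ)
    have h1 : δ ^ i ∈ Subfield.closure ({δ} : Set L) := Subfield.pow_mem _ h0 i
    have h3 := hsub _ h1
    have h4 : α ^ i = ((-d)⁻¹ ^ i) • δ ^ i := by
      rw [Algebra.smul_def, map_pow, map_inv₀, map_neg, hδ, ← mul_pow]
      have : (-(algebraMap k L d))⁻¹ * -(algebraMap k L d * α) = α := by
        have hdL : algebraMap k L d ≠ 0 := by simpa using hd0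
        field_simp
      rw [this]
    have h5 := (AA (k := k) α).smul_mem ((-d)⁻¹ ^ i) h3
    rw [← h4] at h5
    exact h5
  · exact absurd hbad hδ2

end Cfsg.Agent.Lib.Helper13.DG
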