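/-
helper13: S5060 part 3: the fraction-free reverse Euclidean chain on pairs of polynomials
(moves `P ↦ qP - pQ`, `Q ↦ p'Q - qXP`), its pivot product, naturality under ring homomorphisms,
soundness with respect to an abstract reachable set, and the forward images with nonzero pivots.
-/
import Mathlib

set_option autoImplicit false

namespace Cfsg.Agent.Lib.Helper13.DG

open Polynomial

section steps

variable {R : Type*} [CommRing R]

/-- fraction-free a-step at level `j` -/
noncomputable def stA (j : ℕ) (s : R[X] × R[X]) : R[X] × R[X] :=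
  (C (s.2.coeff j) * s.1 - C (s.1.coeff j) * s.2, s.2)

/-- fraction-free b-step at level `j` -/
noncomputable def stB (j : ℕ) (s : R[X] × R[X]) : R[X] × R[X] :=
  (s.1, C (s.1.coeff (j - 1)) * s.2 - C (s.2.coeff j) * (X * s.1))

/-- one level of reduction -/
noncomputable def red (j : ℕ) (s : R[X] × R[X]) : R[X] × R[X] := stB j (stA j s)

/-- the product of the pivots from level `j` down to level `1` -/
noncomputable def piv : ℕ → R[X] × R[X] → R
  | 0, _ => 1
  | (j + 1), s => s.2.coeff (j + 1) * (stA (j + 1) s).1.coeff j * piv j (red (j + 1) s)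

theorem piv_zero (s : R[X] × R[X]) : piv 0 s = 1 := rfl

theorem piv_succ (j : ℕ) (s : R[X] × R[X]) :
    piv (j + 1) s = s.2.coeff (j + 1) * (stA (j + 1) s).1.coeff j * piv j (red (j + 1) s) := rfl

variable {S : Type*} [CommRing S]

/-- map a pair along a ring homomorphism -/
noncomputable def mapP (φ : R →+* S) (s : R[X] × R[X]) : S[X] × S[X] := (s.1.map φ, s.2.map φ)

theorem stA_mapP (φ : R →+* S) (j : ℕ) (s : R[X] × R[X]) :
    stA j (mapP φ s) = mapP φ (stA j s) := by
  simp [stA, mapP, Polynomial.map_sub, Polynomial.map_mul, coeff_map]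

theorem stB_mapP (φ : R →+* S) (j : ℕ) (s : R[X] × R[X]) :
    stB j (mapP φ s) = mapP φ (stB j s) := by
  simp [stB, mapP, Polynomial.map_sub, Polynomial.map_mul, coeff_map]

theorem red_mapP (φ : R →+* S) (j : ℕ) (s : R[X] × R[X]) :
    red j (mapP φ s) = mapP φ (red j s) := by
  rw [red, stA_mapP, stB_mapP, red]

theorem piv_mapP (φ : R →+* S) (j : ℕ) (s : R[X] × R[X]) :
    piv j (mapP φ s) = φ (piv j s) := by
  induction j generalizing s with
  | zero => simp [piv_zero]
  | succ j ih =>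
    rw [piv_succ, piv_succ, red_mapP, ih, stA_mapP, map_mul, map_mul]
    simp [mapP, coeff_map]

/-- level-`j` invariant -/
def Inv (j : ℕ) (s : R[X] × R[X]) : Prop :=
  s.1.natDegree ≤ j ∧ s.2.natDegree ≤ j ∧ s.2.coeff 0 = 0

theorem inv_red (j : ℕ) (s : R[X] × R[X]) (h : Inv (j + 1) s) : Inv j (red (j + 1) s) := by
  obtain ⟨h1, h2, h3⟩ := h
  have hP' : (stA (j + 1) s).1.natDegree ≤ j := by
    rw [natDegree_le_iff_coeff_eq_zero]
    intro N hN
    simp only [stA, coeff_sub, coeff_C_mul]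
    rcases Nat.lt_or_ge (j + 1) N with hN' | hN'
    · rw [coeff_eq_zero_of_natDegree_lt (lt_of_le_of_lt h1 hN'),
        coeff_eq_zero_of_natDegree_lt (lt_of_le_of_lt h2 hN')]
      ring
    · have : N = j + 1 := by omega
      subst this
      ring
  refine ⟨hP', ?_, ?_⟩
  · rw [natDegree_le_iff_coeff_eq_zero]
    intro N hN
    simp only [red, stB, coeff_sub, coeff_C_mul]
    rcases Nat.lt_or_ge (j + 1) N with hN' | hN'
    · have h4 : (X * (stA (j + 1) s).1).coeff N = 0 := by
        obtain ⟨M, rfl⟩ : ∃ M, N = M + 1 := ⟨N - 1, by omega⟩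
        rw [coeff_X_mul]
        exact coeff_eq_zero_of_natDegree_lt (by omega)
      have h5 : (stA (j + 1) s).2.coeff N = 0 := by
        change s.2.coeff N = 0
        exact coeff_eq_zero_of_natDegree_lt (lt_of_le_of_lt h2 hN')
      rw [h4, h5]
      ring
    · have : N = j + 1 := by omega
      subst this
      rw [coeff_X_mul]
      change (stA (j + 1) s).1.coeff (j + 1 - 1) * s.2.coeff (j + 1) -
        s.2.coeff (j + 1) * (stA (j + 1) s).1.coeff j = 0
      rw [Nat.add_sub_cancel]
      ring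
  · simp only [red, stB, coeff_sub, coeff_C_mul, coeff_X_mul_zero]
    change (stA (j + 1) s).1.coeff (j + 1 - 1) * s.2.coeff 0 - _ = 0
    rw [h3]
    ring

end steps

section sound

variable {k L : Type*} [Field k] [Field L] [Algebra k L] (α : L)

/-- Soundness of the chain with respect to a set `Ω` closed under the (inverse) moves. -/
theorem sound (Ω : Set (L × L))
    (h0 : ∀ s : k, s ≠ 0 → (algebraMap k L s, (0 : L)) ∈ Ω)
    (hA : ∀ (x1 x2 : L) (q p : k), q ≠ 0 → (q • x1 - p • x2, x2) ∈ Ω → (x1, x2) ∈ Ω)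
    (hB : ∀ (x1 x2 : L) (p' q : k), p' ≠ 0 → (x1, p' • x2 - q • (α * x1)) ∈ Ω → (x1, x2) ∈ Ω)
    (j : ℕ) (s : k[X] × k[X]) (hinv : Inv j s) (hj : j = 0 → s.1.coeff 0 ≠ 0)
    (hpiv : piv j s ≠ 0) : (aeval α s.1, aeval α s.2) ∈ Ω := by
  induction j generalizing s with
  | zero =>
    obtain ⟨h1, h2, h3⟩ := hinv
    have e1 : s.1 = C (s.1.coeff 0) := eq_C_of_natDegree_le_zero h1
    have e2 : s.2 = 0 := by
      rw [eq_C_of_natDegree_le_zero h2, h3, map_zero]
    rw [e1, e2, aeval_C, map_zero]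
    exact h0 _ (hj rfl)
  | succ j ih =>
    rw [piv_succ] at hpiv
    have hq : s.2.coeff (j + 1) ≠ 0 := left_ne_zero_of_mul (left_ne_zero_of_mul hpiv)
    have hp' : (stA (j + 1) s).1.coeff j ≠ 0 := right_ne_zero_of_mul (left_ne_zero_of_mul hpiv)
    have hrest : piv j (red (j + 1) s) ≠ 0 := right_ne_zero_of_mul hpiv
    have hinv' := inv_red j s hinv
    have hj' : j = 0 → (red (j + 1) s).1.coeff 0 ≠ 0 := by
      intro h
      subst h
      exact hp'
    have h1 := ih (red (j + 1) s) hinv' hj' hrest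
    apply hA _ _ (s.2.coeff (j + 1)) (s.1.coeff (j + 1)) hq
    apply hB _ _ ((stA (j + 1) s).1.coeff j) (s.2.coeff (j + 1)) hp'
    have e1 : aeval α (red (j + 1) s).1 =
        s.2.coeff (j + 1) • aeval α s.1 - s.1.coeff (j + 1) • aeval α s.2 := by
      simp only [red, stB, stA, map_sub, map_mul, aeval_C, Algebra.smul_def]
    have e2 : aeval α (red (j + 1) s).2 =
        (stA (j + 1) s).1.coeff j • aeval α s.2 - s.2.coeff (j + 1) •
          (α * (s.2.coeff (j + 1) • aeval α s.1 - s.1.coeff (j + 1) • aeval α s.2)) := by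
      simp only [red, stB, stA, map_sub, map_mul, aeval_C, aeval_X, Algebra.smul_def,
        Nat.add_sub_cancel]
    rw [e1, e2] at h1
    exact h1

end sound

section forward

variable {k : Type*} [Field k]

/-- the forward chain (all parameters `1`): `fP 0 = 1`, `fS 0 = 0`, `fS (j+1) = fS j + fP j`,
`fP (j+1) = fP j + X * fS (j+1)`. -/
noncomputable def fPS : ℕ → k[X] × k[X]
  | 0 => (1, 0)
  | (j + 1) => ((fPS j).1 + X * ((fPS j).2 + (fPS j).1), (fPS j).2 + (fPS j).1)

/-- `P_j` -/
noncomputable def fP (k : Type*) [Field k] (j : ℕ) : k[X] := (fPS j).1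
/-- `S_j = Q_j / X` -/
noncomputable def fS (k : Type*) [Field k] (j : ℕ) : k[X] := (fPS j).2

theorem fP_zero : fP k 0 = 1 := rfl
theorem fS_zero : fS k 0 = 0 := rfl
theorem fS_succ (j : ℕ) : fS k (j + 1) = fS k j + fP k j := rfl
theorem fP_succ (j : ℕ) : fP k (j + 1) = fP k j + X * fS k (j + 1) := rfl

theorem natDegree_X_mul_le' {R : Type*} [CommRing R] (p : R[X]) :
    (X * p).natDegree ≤ p.natDegree + 1 := by
  have h1 := natDegree_mul_le (p := (X : R[X])) (q := p)
  have h2 := natDegree_X_le (R := R)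
  omega

theorem fP_fS_deg (j : ℕ) :
    (fP k j).natDegree ≤ j ∧ (fP k j).coeff j = 1 ∧ (fP k j).coeff 0 = 1 ∧
    (fS k (j + 1)).natDegree ≤ j ∧ (fS k (j + 1)).coeff j = 1 := by
  induction j with
  | zero =>
    refine ⟨?_, ?_, ?_, ?_, ?_⟩
    · rw [fP_zero]; simp
    · rw [fP_zero]; simp
    · rw [fP_zero]; simp
    · rw [fS_succ, fS_zero, fP_zero]; simp
    · rw [fS_succ, fS_zero, fP_zero]; simp
  | succ j ih =>
    obtain ⟨h1, h2, h3, h4, h5⟩ := ih
    have hP1 : (fP k (j + 1)).natDegree ≤ j + 1 := by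
      rw [fP_succ]
      apply (natDegree_add_le _ _).trans
      apply max_le (h1.trans (Nat.le_succ j))
      apply (natDegree_X_mul_le' _).trans
      omega
    have hP2 : (fP k (j + 1)).coeff (j + 1) = 1 := by
      rw [fP_succ, coeff_add, coeff_X_mul, h5, coeff_eq_zero_of_natDegree_lt (by omega), zero_add]
    have hP3 : (fP k (j + 1)).coeff 0 = 1 := by
      rw [fP_succ, coeff_add, coeff_X_mul_zero, h3, add_zero]
    refine ⟨hP1, hP2, hP3, ?_, ?_⟩
    · rw [fS_succ]
      apply (natDegree_add_le _ _).trans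
      exact max_le (h4.trans (Nat.le_succ j)) hP1
    · rw [fS_succ, coeff_add, hP2, coeff_eq_zero_of_natDegree_lt (by omega), zero_add]

theorem fS_natDegree_le (j : ℕ) : (fS k j).natDegree ≤ j - 1 := by
  cases j with
  | zero => rw [fS_zero]; simp
  | succ j => exact (fP_fS_deg j).2.2.2.1

theorem X_mul_fS_natDegree_le (j : ℕ) : (X * fS k j).natDegree ≤ j := by
  cases j with
  | zero => rw [fS_zero]; simp
  | succ j =>
    apply (natDegree_X_mul_le' _).trans
    have := (fP_fS_deg (k := k) j).2.2.2.1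
    omega

/-- The forward images (up to nonzero scalings) have nonzero pivot products. -/
theorem piv_forward (j : ℕ) (σ σ' : k) (hσ : σ ≠ 0) (hσ' : σ' ≠ 0) :
    piv j (C σ * fP k j, C σ' * (X * fS k j)) ≠ 0 := by
  induction j generalizing σ σ' with
  | zero => rw [piv_zero]; exact one_ne_zero
  | succ j ih =>
    obtain ⟨h1, h2, h3, h4, h5⟩ := fP_fS_deg (k := k) j
    obtain ⟨g1, g2, g3, g4, g5⟩ := fP_fS_deg (k := k) (j + 1)
    have hq : (C σ' * (X * fS k (j + 1))).coeff (j + 1) = σ' := by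
      rw [coeff_C_mul, coeff_X_mul, h5, mul_one]
    have hp : (C σ * fP k (j + 1)).coeff (j + 1) = σ := by
      rw [coeff_C_mul, g2, mul_one]
    have hP' : (stA (j + 1) (C σ * fP k (j + 1), C σ' * (X * fS k (j + 1)))).1 =
        C (σ * σ') * fP k j := by
      simp only [stA]
      rw [hq, hp, fP_succ, map_mul]
      ring
    have hp' : (stA (j + 1) (C σ * fP k (j + 1), C σ' * (X * fS k (j + 1)))).1.coeff j
        = σ * σ' := by
      rw [hP', coeff_C_mul, h2, mul_one]
    have hred : red (j + 1) (C σ * fP k (j + 1), C σ' * (X * fS k (j + 1))) =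
        (C (σ * σ') * fP k j, C (σ * σ' ^ 2) * (X * fS k j)) := by
      rw [red]
      simp only [stB, Nat.add_sub_cancel]
      rw [hp', hP']
      refine Prod.ext rfl ?_
      change C (σ * σ') * (C σ' * (X * fS k (j + 1))) -
        C ((C σ' * (X * fS k (j + 1))).coeff (j + 1)) * (X * (C (σ * σ') * fP k j)) = _
      rw [hq, fS_succ, map_mul, map_mul, map_pow]
      ring
    rw [piv_succ, hq, hp', hred]
    exact mul_ne_zero (mul_ne_zero hσ' (mul_ne_zero hσ hσ'))
      (ih _ _ (mul_ne_zero hσ hσ') (mul_ne_zero hσ (pow_ne_zero 2 hσ')))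

end forward

end Cfsg.Agent.Lib.Helper13.DG
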