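/-
helper13: S5060 part 4: the infinite case.  The reachable set `Reach α` (`kˣ`-scalings of first
columns of `HH α`), the line of polynomial pairs joining a forward image to its `δ⁻¹`-image, the
choice of a good parameter, and the resulting Weyl-type element.
-/
import Mathlib
import Cfsg.Agent.Lib.Helper13.DG1
import Cfsg.Agent.Lib.Helper13.DG3

set_option autoImplicit false

namespace Cfsg.Agent.Lib.Helper13.DG

open Polynomial Matrix Subgroup Cfsg.Agent.Lib.Helper13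

variable {k L : Type*} [Field k] [Field L] [Algebra k L]

/-- the reachable set -/
def Reach (α : L) : Set (L × L) :=
  {v | ∃ g ∈ HH (k := k) α, ∃ s s' : k, s ≠ 0 ∧ s' ≠ 0 ∧
    v = (s • (g : Matrix (Fin 2) (Fin 2) L) 0 0, s' • (g : Matrix (Fin 2) (Fin 2) L) 1 0)}

theorem reach_zero (α : L) (s : k) (hs : s ≠ 0) : (algebraMap k L s, (0 : L)) ∈ Reach (k := k) α := by
  refine ⟨1, (HH α).one_mem, s, 1, hs, one_ne_zero, ?_⟩
  simp [Algebra.smul_def]

theorem tSL_mul_entries (c : L) (g : SpecialLinearGroup (Fin 2) L) :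
    ((tSL c * g : SpecialLinearGroup (Fin 2) L) : Matrix (Fin 2) (Fin 2) L) 0 0 =
      (g : Matrix (Fin 2) (Fin 2) L) 0 0 + c * (g : Matrix (Fin 2) (Fin 2) L) 1 0 ∧
    ((tSL c * g : SpecialLinearGroup (Fin 2) L) : Matrix (Fin 2) (Fin 2) L) 1 0 =
      (g : Matrix (Fin 2) (Fin 2) L) 1 0 := by
  change (!![1, c; 0, 1] * (g : Matrix (Fin 2) (Fin 2) L)) 0 0 = _ ∧
    (!![1, c; 0, 1] * (g : Matrix (Fin 2) (Fin 2) L)) 1 0 = _
  generalize (g : Matrix (Fin 2) (Fin 2) L) = m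
  constructor <;> simp [Matrix.mul_apply, Fin.sum_univ_two]

theorem lSL_mul_entries (c : L) (g : SpecialLinearGroup (Fin 2) L) :
    ((lSL c * g : SpecialLinearGroup (Fin 2) L) : Matrix (Fin 2) (Fin 2) L) 0 0 =
      (g : Matrix (Fin 2) (Fin 2) L) 0 0 ∧
    ((lSL c * g : SpecialLinearGroup (Fin 2) L) : Matrix (Fin 2) (Fin 2) L) 1 0 =
      (g : Matrix (Fin 2) (Fin 2) L) 1 0 + c * (g : Matrix (Fin 2) (Fin 2) L) 0 0 := by
  change (!![1, 0; c, 1] * (g : Matrix (Fin 2) (Fin 2) L)) 0 0 = _ ∧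
    (!![1, 0; c, 1] * (g : Matrix (Fin 2) (Fin 2) L)) 1 0 = _
  generalize (g : Matrix (Fin 2) (Fin 2) L) = m
  constructor <;> simp [Matrix.mul_apply, Fin.sum_univ_two, add_comm]

theorem algebraMap_ne_zero' {c : k} (hc : c ≠ 0) : algebraMap k L c ≠ 0 := by simpa using hc

theorem reach_A (α : L) (x1 x2 : L) (q p : k) (hq : q ≠ 0)
    (h : (q • x1 - p • x2, x2) ∈ Reach (k := k) α) : (x1, x2) ∈ Reach (k := k) α := by
  obtain ⟨g, hg, s, s', hs, hs', e⟩ := h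
  have e1 := congrArg Prod.fst e
  have e2 := congrArg Prod.snd e
  simp only [Algebra.smul_def] at e1 e2
  refine ⟨tSL (algebraMap k L (p * s' / s)) * g, (HH α).mul_mem (tSL_mem_HH α _) hg,
    s / q, s', div_ne_zero hs hq, hs', ?_⟩
  obtain ⟨h1, h2⟩ := tSL_mul_entries (algebraMap k L (p * s' / s)) g
  rw [h1, h2]
  have hS := algebraMap_ne_zero' (L := L) hs
  have hQ := algebraMap_ne_zero' (L := L) hq
  refine Prod.ext ?_ ?_
  · simp only [Algebra.smul_def, map_div₀, map_mul]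
    rw [e2] at e1
    field_simp
    linear_combination e1
  · simp only [Algebra.smul_def]
    exact e2

theorem reach_B (α : L) (x1 x2 : L) (p' q : k) (hp' : p' ≠ 0)
    (h : (x1, p' • x2 - q • (α * x1)) ∈ Reach (k := k) α) : (x1, x2) ∈ Reach (k := k) α := by
  obtain ⟨g, hg, s, s', hs, hs', e⟩ := h
  have e1 := congrArg Prod.fst e
  have e2 := congrArg Prod.snd e
  simp only [Algebra.smul_def] at e1 e2
  refine ⟨lSL (algebraMap k L (q * s / s') * α) * g, (HH α).mul_mem (lSL_mem_HH α _) hg,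
    s, s' / p', hs, div_ne_zero hs' hp', ?_⟩
  obtain ⟨h1, h2⟩ := lSL_mul_entries (algebraMap k L (q * s / s') * α) g
  rw [h1, h2]
  have hS' := algebraMap_ne_zero' (L := L) hs'
  have hP' := algebraMap_ne_zero' (L := L) hp'
  refine Prod.ext ?_ ?_
  · simp only [Algebra.smul_def]
    exact e1
  · simp only [Algebra.smul_def, map_div₀, map_mul]
    rw [e1] at e2
    field_simp
    linear_combination e2

theorem inv_mul_entries (a b : SpecialLinearGroup (Fin 2) L) :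
    ((a⁻¹ * b : SpecialLinearGroup (Fin 2) L) : Matrix (Fin 2) (Fin 2) L) 0 0 =
      (a : Matrix (Fin 2) (Fin 2) L) 1 1 * (b : Matrix (Fin 2) (Fin 2) L) 0 0 -
      (a : Matrix (Fin 2) (Fin 2) L) 0 1 * (b : Matrix (Fin 2) (Fin 2) L) 1 0 ∧
    ((a⁻¹ * b : SpecialLinearGroup (Fin 2) L) : Matrix (Fin 2) (Fin 2) L) 1 0 =
      (a : Matrix (Fin 2) (Fin 2) L) 0 0 * (b : Matrix (Fin 2) (Fin 2) L) 1 0 -
      (a : Matrix (Fin 2) (Fin 2) L) 1 0 * (b : Matrix (Fin 2) (Fin 2) L) 0 0 := by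
  rw [Matrix.SpecialLinearGroup.coe_mul, Matrix.SpecialLinearGroup.coe_inv,
    Matrix.adjugate_fin_two]
  generalize (a : Matrix (Fin 2) (Fin 2) L) = m1
  generalize (b : Matrix (Fin 2) (Fin 2) L) = m2
  constructor <;> simp [Matrix.mul_apply, Fin.sum_univ_two] <;> ring

theorem phi_psi_entries (α : L) (hα : α ≠ 0) (r : L) (hr : r ≠ 0)
    (g : SpecialLinearGroup (Fin 2) L) :
    ((phi r hr (psi α hα g) : SpecialLinearGroup (Fin 2) L) : Matrix (Fin 2) (Fin 2) L) =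
      !![(g : Matrix (Fin 2) (Fin 2) L) 1 1, r * (α⁻¹ * (g : Matrix (Fin 2) (Fin 2) L) 1 0);
         r⁻¹ * (α * (g : Matrix (Fin 2) (Fin 2) L) 0 1), (g : Matrix (Fin 2) (Fin 2) L) 0 0] := by
  unfold phi
  rw [conjSL_coe, psi_coe]
  generalize (g : Matrix (Fin 2) (Fin 2) L) = m
  ext i j
  fin_cases i <;> fin_cases j <;> simp only [Matrix.mul_apply, Fin.sum_univ_two] <;>
    simp [mul_comm, hr]

/-- From `v ∈ Reach` and `δ v ∈ Reach` to a Weyl-type element. -/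
theorem weyl_of_reach (α : L) (hα : α ≠ 0) (x1 x2 : L) (h1 : (x1, x2) ∈ Reach (k := k) α)
    (h2 : (x2, α * x1) ∈ Reach (k := k) α) :
    ∃ h ∈ HH (k := k) α, ∃ s : k, s ≠ 0 ∧ (h : Matrix (Fin 2) (Fin 2) L) 0 0 = 0 ∧
      (h : Matrix (Fin 2) (Fin 2) L) 1 0 = algebraMap k L s * α := by
  obtain ⟨g1, hg1, s1, s1', hs1, hs1', e⟩ := h1
  obtain ⟨g2, hg2, s2, s2', hs2, hs2', e'⟩ := h2
  have ea := congrArg Prod.fst e
  have eb := congrArg Prod.snd e
  have ec := congrArg Prod.fst e'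
  have ed := congrArg Prod.snd e'
  simp only [Algebra.smul_def] at ea eb ec ed
  -- `r = ρ⁻¹`
  set r : k := s1' * s2' / (s2 * s1) with hr
  have hr0 : r ≠ 0 := div_ne_zero (mul_ne_zero hs1' hs2') (mul_ne_zero hs2 hs1)
  set g3 : SpecialLinearGroup (Fin 2) L := phi (algebraMap k L r) (algebraMap_ne_zero' hr0) (psi α hα g1)
    with hg3
  have hg3m : g3 ∈ HH (k := k) α := phi_mem α r hr0 (psi_mem α hα hg1)
  obtain ⟨i00, i10⟩ := inv_mul_entries g3 g2
  have hm3 := phi_psi_entries α hα (algebraMap k L r) (algebraMap_ne_zero' hr0) g1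
  rw [← hg3] at hm3
  have hdet := g1.2
  rw [Matrix.det_fin_two] at hdet
  have hS1 := algebraMap_ne_zero' (L := L) hs1
  have hS1' := algebraMap_ne_zero' (L := L) hs1'
  have hS2 := algebraMap_ne_zero' (L := L) hs2
  have hS2' := algebraMap_ne_zero' (L := L) hs2'
  have hc2 : (g2 : Matrix (Fin 2) (Fin 2) L) 1 0 =
      (algebraMap k L s2')⁻¹ * (α * (algebraMap k L s1 * (g1 : Matrix (Fin 2) (Fin 2) L) 0 0)) := by
    rw [ea] at ed
    rw [ed]
    field_simp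
  have ha2 : (g2 : Matrix (Fin 2) (Fin 2) L) 0 0 =
      (algebraMap k L s2)⁻¹ * (algebraMap k L s1' * (g1 : Matrix (Fin 2) (Fin 2) L) 1 0) := by
    rw [eb] at ec
    rw [ec]
    field_simp
  have e11 : (g3 : Matrix (Fin 2) (Fin 2) L) 1 1 = (g1 : Matrix (Fin 2) (Fin 2) L) 0 0 := by
    rw [hm3]; simp
  have e01 : (g3 : Matrix (Fin 2) (Fin 2) L) 0 1 =
      algebraMap k L r * (α⁻¹ * (g1 : Matrix (Fin 2) (Fin 2) L) 1 0) := by
    rw [hm3]; simp
  have e00 : (g3 : Matrix (Fin 2) (Fin 2) L) 0 0 = (g1 : Matrix (Fin 2) (Fin 2) L) 1 1 := by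
    rw [hm3]; simp
  have e10 : (g3 : Matrix (Fin 2) (Fin 2) L) 1 0 =
      (algebraMap k L r)⁻¹ * (α * (g1 : Matrix (Fin 2) (Fin 2) L) 0 1) := by
    rw [hm3]; simp
  refine ⟨g3⁻¹ * g2, (HH α).mul_mem ((HH α).inv_mem hg3m) hg2, s1 / s2', div_ne_zero hs1 hs2', ?_, ?_⟩
  · rw [i00, e11, e01, hc2, ha2, hr]
    simp only [map_div₀, map_mul]
    field_simp
    ring
  · rw [i10, e00, e10, hc2, ha2, hr]
    simp only [map_div₀, map_mul]
    field_simp
    linear_combination hdet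

end Cfsg.Agent.Lib.Helper13.DG
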