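/-
helper13: S5060 part 5: the line of polynomial pairs, the choice of a good parameter over an
infinite field, and the infinite case `AA = ⊤`.
-/
import Mathlib
import Cfsg.Agent.Lib.Helper13.DG4

set_option autoImplicit false

namespace Cfsg.Agent.Lib.Helper13.DG

open Polynomial Matrix Subgroup Cfsg.Agent.Lib.Helper13

variable {k : Type*} [Field k]

theorem map_C_map_eval (t0 : k) (p : k[X]) : (p.map C).map (evalRingHom t0) = p := by
  rw [Polynomial.map_map]
  have : (evalRingHom t0).comp (C : k →+* k[X]) = RingHom.id k := by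
    ext x
    simp
  rw [this, Polynomial.map_id]

/-- the specialised first pair -/
noncomputable def st1 (n : ℕ) (F : k[X]) (t0 : k) : k[X] × k[X] :=
  (C (1 - t0) * fP k n + C t0 * fS k n, C (1 - t0) * (X * fS k n) + C t0 * (fP k n - F))

/-- the specialised second pair (`δ` applied to the first) -/
noncomputable def st2 (n : ℕ) (F : k[X]) (e : k) (t0 : k) : k[X] × k[X] :=
  (C (1 - t0) * (X * fS k n) + C t0 * fP k n,
    C (1 - t0) * (X * (fP k n - C e * F)) + C t0 * (X * fS k n))

/-- the first family over `k[t]` -/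
noncomputable def fam1 (n : ℕ) (F : k[X]) : k[X][X] × k[X][X] :=
  (C (1 - X) * (fP k n).map C + C X * (fS k n).map C,
    C (1 - X) * (X * fS k n).map C + C X * (fP k n - F).map C)

/-- the second family over `k[t]` -/
noncomputable def fam2 (n : ℕ) (F : k[X]) (e : k) : k[X][X] × k[X][X] :=
  (C (1 - X) * (X * fS k n).map C + C X * (fP k n).map C,
    C (1 - X) * (X * (fP k n - C e * F)).map C + C X * (X * fS k n).map C)

theorem mapP_fam1 (n : ℕ) (F : k[X]) (t0 : k) :
    mapP (evalRingHom t0) (fam1 n F) = st1 n F t0 := by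
  unfold mapP fam1 st1
  simp only [Polynomial.map_add, Polynomial.map_mul, Polynomial.map_C, map_C_map_eval,
    coe_evalRingHom, eval_sub, eval_one, eval_X]

theorem mapP_fam2 (n : ℕ) (F : k[X]) (e : k) (t0 : k) :
    mapP (evalRingHom t0) (fam2 n F e) = st2 n F e t0 := by
  unfold mapP fam2 st2
  simp only [Polynomial.map_add, Polynomial.map_mul, Polynomial.map_C, map_C_map_eval,
    coe_evalRingHom, eval_sub, eval_one, eval_X]

theorem piv_st1 (n : ℕ) (F : k[X]) (t0 : k) :
    piv n (st1 n F t0) = eval t0 (piv n (fam1 n F)) := by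
  rw [← mapP_fam1, piv_mapP, coe_evalRingHom]

theorem piv_st2 (n : ℕ) (F : k[X]) (e : k) (t0 : k) :
    piv n (st2 n F e t0) = eval t0 (piv n (fam2 n F e)) := by
  rw [← mapP_fam2, piv_mapP, coe_evalRingHom]

theorem piv_forward_one (n : ℕ) : piv n (fP k n, X * fS k n) ≠ 0 := by
  have := piv_forward (k := k) n 1 1 one_ne_zero one_ne_zero
  simpa using this

theorem st1_zero (n : ℕ) (F : k[X]) : st1 n F 0 = (fP k n, X * fS k n) := by
  simp [st1]

theorem st2_one (n : ℕ) (F : k[X]) (e : k) : st2 n F e 1 = (fP k n, X * fS k n) := by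
  simp [st2]

/-- Over an infinite field there is a parameter at which both pivot products are nonzero. -/
theorem exists_good_param [Infinite k] (n : ℕ) (F : k[X]) (e : k) :
    ∃ t0 : k, piv n (st1 n F t0) ≠ 0 ∧ piv n (st2 n F e t0) ≠ 0 := by
  have h1 : piv n (fam1 n F) ≠ 0 := by
    intro h
    have := piv_st1 n F 0
    rw [h, eval_zero, st1_zero] at this
    exact piv_forward_one n this
  have h2 : piv n (fam2 n F e) ≠ 0 := by
    intro h
    have := piv_st2 n F e 1
    rw [h, eval_zero, st2_one] at this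
    exact piv_forward_one n this
  have h3 : piv n (fam1 n F) * piv n (fam2 n F e) ≠ 0 := mul_ne_zero h1 h2
  by_contra hcon
  push Not at hcon
  apply h3
  apply Polynomial.funext
  intro t0
  rw [eval_mul, eval_zero, ← piv_st1, ← piv_st2]
  by_cases h : piv n (st1 n F t0) = 0
  · rw [h, zero_mul]
  · rw [hcon t0 h, mul_zero]

theorem natDegree_lin_le (n : ℕ) (a b : k) (p q : k[X]) (hp : p.natDegree ≤ n)
    (hq : q.natDegree ≤ n) : (C a * p + C b * q).natDegree ≤ n := by
  apply (natDegree_add_le _ _).trans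
  exact max_le ((natDegree_C_mul_le _ _).trans hp) ((natDegree_C_mul_le _ _).trans hq)

variable (n : ℕ) (F : k[X])

theorem natDegree_fP_sub_le (e : k) (hn : 1 ≤ n) (hF : F.natDegree ≤ n) (he : e * F.coeff n = 1) :
    (X * (fP k n - C e * F)).natDegree ≤ n := by
  have h1 : (fP k n - C e * F).natDegree ≤ n - 1 := by
    rw [natDegree_le_iff_coeff_eq_zero]
    intro N hN
    rw [coeff_sub, coeff_C_mul]
    rcases Nat.lt_or_ge n N with hN' | hN'
    · rw [coeff_eq_zero_of_natDegree_lt (lt_of_le_of_lt (fP_fS_deg n).1 hN'),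
        coeff_eq_zero_of_natDegree_lt (lt_of_le_of_lt hF hN')]
      ring
    · have : N = n := by omega
      subst this
      rw [(fP_fS_deg N).2.1, he, sub_self]
  have := natDegree_X_mul_le' (fP k n - C e * F)
  omega

theorem inv_st1 (hF : F.natDegree ≤ n) (hF0 : F.coeff 0 = 1) (t0 : k) :
    Inv n (st1 n F t0) := by
  refine ⟨?_, ?_, ?_⟩
  · apply natDegree_lin_le n _ _ _ _ (fP_fS_deg n).1
    exact (fS_natDegree_le n).trans (Nat.sub_le n 1)
  · apply natDegree_lin_le n _ _ _ _ (X_mul_fS_natDegree_le n)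
    exact (natDegree_sub_le _ _).trans (max_le (fP_fS_deg n).1 hF)
  · simp only [st1, coeff_add, coeff_C_mul, coeff_X_mul_zero, coeff_sub]
    rw [(fP_fS_deg n).2.2.1, hF0]
    ring

theorem inv_st2 (e : k) (hn : 1 ≤ n) (hF : F.natDegree ≤ n) (he : e * F.coeff n = 1) (t0 : k) :
    Inv n (st2 n F e t0) := by
  refine ⟨?_, ?_, ?_⟩
  · exact natDegree_lin_le n _ _ _ _ (X_mul_fS_natDegree_le n) (fP_fS_deg n).1
  · exact natDegree_lin_le n _ _ _ _ (natDegree_fP_sub_le n F e hn hF he) (X_mul_fS_natDegree_le n)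
  · simp only [st2, coeff_add, coeff_C_mul, coeff_X_mul_zero]
    ring

section main

variable {L : Type*} [Field L] [Algebra k L]

/-- **The infinite case.** -/
theorem AA_eq_top_of_infinite [Infinite k] (α : L) (hα : α ≠ 0) (hint : IsIntegral k α)
    (hgen : Algebra.adjoin k ({α} : Set L) = ⊤) : AA (k := k) α = ⊤ := by
  classical
  set f := minpoly k α with hf
  have hf0 : f.coeff 0 ≠ 0 := minpoly.coeff_zero_ne_zero hint hα
  set n := f.natDegree with hn
  have hn1 : 1 ≤ n := minpoly.natDegree_pos hint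
  set F : k[X] := C (f.coeff 0)⁻¹ * f with hFdef
  have hFdeg : F.natDegree ≤ n := natDegree_C_mul_le _ _
  have hF0 : F.coeff 0 = 1 := by
    rw [hFdef, coeff_C_mul, inv_mul_cancel₀ hf0]
  have hFα : aeval α F = 0 := by
    rw [hFdef, map_mul, minpoly.aeval, mul_zero]
  have hFn : F.coeff n ≠ 0 := by
    rw [hFdef, coeff_C_mul]
    apply mul_ne_zero (inv_ne_zero hf0)
    rw [hn, coeff_natDegree]
    exact leadingCoeff_ne_zero.mpr (minpoly.ne_zero hint)
  set e : k := (F.coeff n)⁻¹ with he
  have heF : e * F.coeff n = 1 := inv_mul_cancel₀ hFn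
  obtain ⟨t0, ht1, ht2⟩ := exists_good_param n F e
  have hn0 : n = 0 → ∀ s : k[X] × k[X], s.1.coeff 0 ≠ 0 := by
    intro h
    omega
  have r1 := sound α (Reach (k := k) α) (reach_zero α) (reach_A α) (reach_B α) n (st1 n F t0)
    (inv_st1 n F hFdeg hF0 t0) (fun h => hn0 h _) ht1
  have r2 := sound α (Reach (k := k) α) (reach_zero α) (reach_A α) (reach_B α) n (st2 n F e t0)
    (inv_st2 n F e hn1 hFdeg heF t0) (fun h => hn0 h _) ht2
  have e1 : aeval α (st2 n F e t0).1 = aeval α (st1 n F t0).2 := by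
    simp only [st1, st2, map_add, map_mul, map_sub, aeval_C, aeval_X, hFα, sub_zero]
  have e2 : aeval α (st2 n F e t0).2 = α * aeval α (st1 n F t0).1 := by
    simp only [st1, st2, map_add, map_mul, map_sub, aeval_C, aeval_X, hFα, sub_zero, mul_zero]
    ring
  rw [e1, e2] at r2
  obtain ⟨h, hh, s, hs, h00, h10⟩ := weyl_of_reach α hα _ _ r1 r2
  exact AA_eq_top_of_weyl α hα hgen h hh s hs h00 h10

end main

end Cfsg.Agent.Lib.Helper13.DG
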