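/-
helper13: S5060 part 6: assembly.  `HH α = ⊤` in `SL₂(L)` when `L = k[α]`, `char k ≠ 2`,
`|k| ≠ 3`, and the transfer to an arbitrary overfield `K` (`L = k⟮α⟯`).
-/
import Mathlib
import Cfsg.Agent.Lib.Helper13.DG2
import Cfsg.Agent.Lib.Helper13.DG5

set_option autoImplicit false

namespace Cfsg.Agent.Lib.Helper13.DG

open Polynomial Matrix Subgroup Cfsg.Agent.Lib.Helper13

variable {k : Type*} [Field k]

theorem two_ne_zero_of_ringChar (hk2 : ringChar k ≠ 2) : (2 : k) ≠ 0 := by
  intro h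
  have h1 : ((2 : ℕ) : k) = 0 := by exact_mod_cast h
  rw [ringChar.spec] at h1
  rcases (Nat.dvd_prime Nat.prime_two).mp h1 with h2 | h2
  · exact CharP.ringChar_ne_one h2
  · exact hk2 h2

theorem five_le_card [Finite k] (hk2 : ringChar k ≠ 2) (hk3 : Nat.card k ≠ 3) : 5 ≤ Nat.card k := by
  classical
  haveI : Fintype k := Fintype.ofFinite k
  have h1 := FiniteField.odd_card_of_char_ne_two hk2
  have h2 : 1 < Fintype.card k := Fintype.one_lt_card
  rw [Nat.card_eq_fintype_card] at hk3 ⊢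
  omega

section core

variable {L : Type*} [Field L] [Algebra k L]

/-- **Core theorem**: `⟨u(c), l(c α) : c ∈ k⟩ = SL₂(L)` when `L = k[α]`. -/
theorem HH_eq_top (hk2 : ringChar k ≠ 2) (hk3 : Nat.card k ≠ 3) (α : L) (hα : α ≠ 0)
    (hint : IsIntegral k α) (hgen : Algebra.adjoin k ({α} : Set L) = ⊤) :
    HH (k := k) α = ⊤ := by
  apply HH_eq_top_of_AA α hα
  rcases finite_or_infinite k with hfin | hinf
  · exact AA_eq_top_of_finite (two_ne_zero_of_ringChar hk2) (five_le_card hk2 hk3) α hα hint hgen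
  · exact AA_eq_top_of_infinite α hα hint hgen

end core

end Cfsg.Agent.Lib.Helper13.DG
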