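/-
helper13: DEFECT-ONE cluster, PART O (planner helper27), leaf DO-STRUCT `struct_of_data`
(assembly of SHAPE, VALX, DEGX, GALY, DEGY).  `struct_of_data_of` has the five cited leaves as hypotheses.
-/
import Mathlib
import Cfsg.Prelude.Def_BlockRank
import Cfsg.Agent.Lib.Helper27.DODefs
import Cfsg.Agent.Lib.Helper27.BlkAlgDefs2
import Cfsg.Agent.Lib.Helper8.DOSHAPE
import Cfsg.Agent.Lib.Helper9.DOVALX
import Cfsg.Agent.Lib.Helper9.DODEGX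
import Cfsg.Agent.Lib.Helper9.DOGALY
import Cfsg.Agent.Lib.Helper9.DODEGY

set_option autoImplicit false

namespace Cfsg.Agent.Lib.Helper13.DOSTRUCT

open Cfsg Cfsg.Agent.Lib.Helper8.DOM Cfsg.Agent.Lib.Helper27.DO Cfsg.Agent.Lib.Helper27.BlkAlg
open scoped ComplexConjugate

universe u

section data

variable {G : Type u} [Group G] [Finite G] {p : ℕ} [Fact p.Prime] {M : Ideal AlgInt}
  {P : Subgroup G} {B : Set (IrrCharacter G)} {θ : IrrCharacter (Cz P)} {T : Subgroup G} {x0 : G}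
  {E : Subgroup (ZMod p)ˣ} {μ : IrrCharacter G → ZMod p → ℤ} {D : IrrCharacter G → G → ℂ}

omit [Finite G] [Fact p.Prime] in
/-- powers of an element of a group of order `p` only depend on the exponent mod `p` -/
theorem pow_mod_of_mem {P : Subgroup G} (hP : Nat.card P = p) {x : G} (hx : x ∈ P) (k : ℕ) :
    x ^ (k % p) = x ^ k := by
  have h1 : (⟨x, hx⟩ : P) ^ p = 1 := by
    have := pow_card_eq_one' (G := P) (x := ⟨x, hx⟩)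
    rwa [hP] at this
  have h2 : x ^ p = 1 := by
    have := congrArg Subtype.val h1
    simpa using this
  conv_rhs => rw [← Nat.div_add_mod k p]
  rw [pow_add, pow_mul, h2, one_pow, one_mul]

/-- STRUCT in `_of` form: the five cited leaves (SHAPE, VALX, DEGX, GALY, DEGY) as hypotheses. -/
theorem struct_of_data_of (d : GSData p P B θ T x0 E μ D) (hP : Nat.card P = p)
    (hT : IsInertia P (θ : Cz P → ℂ) T)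
    (hcard : Nat.card B = Nat.card E + (p - 1) / Nat.card E)
    (hshape : ∃ (X : Set (IrrCharacter G)) (ψ : (ZMod p)ˣ → IrrCharacter G)
        (v : IrrCharacter G → ℤ) (ε : ℤ),
      B = X ∪ Set.range ψ ∧ Disjoint X (Set.range ψ) ∧ Nat.card X = Nat.card E ∧
      (∀ i j, ψ i = ψ j ↔ i * j⁻¹ ∈ E) ∧ (ε = 1 ∨ ε = -1) ∧
      (∀ χ ∈ X, (v χ = 1 ∨ v χ = -1) ∧ ∀ k : (ZMod p)ˣ, μ χ k - μ χ 0 = - v χ) ∧
      (∀ i k : (ZMod p)ˣ, (k * i⁻¹ ∈ E → μ (ψ i) k - μ (ψ i) 0 = ε) ∧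
        (k * i⁻¹ ∉ E → μ (ψ i) k - μ (ψ i) 0 = 0)) ∧
      (∀ i, ∀ g : G, ¬ p ∣ orderOf g →
        (ε : ℂ) * (ψ i : G → ℂ) g = ∑ᶠ χ ∈ X, (v χ : ℂ) * (χ : G → ℂ) g))
    (hvalX : ∀ (χ : IrrCharacter G) (_ : χ ∈ B) (v : ℤ)
        (_ : ∀ k : (ZMod p)ˣ, μ χ k - μ χ 0 = - v),
      ∀ x ∈ P, x ≠ 1 → ∀ y ∈ Cz P, ¬ p ∣ orderOf y →
        (χ : G → ℂ) (x * y) = (v : ℂ) * thetaSum P (θ : Cz P → ℂ) T y)
    (hdegX : ∀ (χ : IrrCharacter G) (_ : χ ∈ B) (v : ℤ)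
        (_ : ∀ k : (ZMod p)ˣ, μ χ k - μ χ 0 = - v),
      (charDegree (χ : G → ℂ) : ℤ) ≡
        v * (((Cz P).relIndex (Nz P) / (Cz P).relIndex T * charDegree (θ : Cz P → ℂ) : ℕ) : ℤ)
          [ZMOD p])
    (hgalY : ∀ (ψ : (ZMod p)ˣ → IrrCharacter G) (_ : ∀ i, ψ i ∈ B) (ε : ℤ)
        (_ : ∀ i k : (ZMod p)ˣ, (k * i⁻¹ ∈ E → μ (ψ i) k - μ (ψ i) 0 = ε) ∧
          (k * i⁻¹ ∉ E → μ (ψ i) k - μ (ψ i) 0 = 0)) (i c : (ZMod p)ˣ),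
      ∀ x ∈ P, x ≠ 1 → ∀ y ∈ Cz P, ¬ p ∣ orderOf y →
        (ψ (i * c) : G → ℂ) (x * y) = (ψ i : G → ℂ) (x ^ (c : ZMod p).val * y))
    (hdegY : ∀ (χ : IrrCharacter G) (_ : χ ∈ B) (i : (ZMod p)ˣ) (ε : ℤ)
        (_ : ∀ k : (ZMod p)ˣ, (k * i⁻¹ ∈ E → μ χ k - μ χ 0 = ε) ∧
          (k * i⁻¹ ∉ E → μ χ k - μ χ 0 = 0)),
      (charDegree (χ : G → ℂ) : ℤ) ≡
        ε * (((Cz P).relIndex (Nz P) * charDegree (θ : Cz P → ℂ) : ℕ) : ℤ) [ZMOD p]) :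
    (Cz P).relIndex T ∣ p - 1 ∧
    ∃ (X Y : Set (IrrCharacter G)) (εX : IrrCharacter G → ℤ) (ε : ℤ),
      B = X ∪ Y ∧ Disjoint X Y ∧ Nat.card X = (Cz P).relIndex T ∧
      Nat.card Y = (p - 1) / (Cz P).relIndex T ∧
      (∀ χ ∈ X, εX χ = 1 ∨ εX χ = -1) ∧ (ε = 1 ∨ ε = -1) ∧
      (∀ ψ ∈ Y, ∀ ψ' ∈ Y, ∀ g : G, ¬ p ∣ orderOf g → (ψ : G → ℂ) g = (ψ' : G → ℂ) g) ∧
      (∀ ψ ∈ Y, ∀ g : G, ¬ p ∣ orderOf g →
        (ε : ℂ) * (ψ : G → ℂ) g = ∑ᶠ χ ∈ X, (εX χ : ℂ) * (χ : G → ℂ) g) ∧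
      (∀ χ ∈ X, (charDegree (χ : G → ℂ) : ℤ) ≡
        εX χ * (((Cz P).relIndex (Nz P) / (Cz P).relIndex T * charDegree (θ : Cz P → ℂ) : ℕ) : ℤ)
          [ZMOD p]) ∧
      (∀ ψ ∈ Y, (charDegree (ψ : G → ℂ) : ℤ) ≡
        ε * (((Cz P).relIndex (Nz P) * charDegree (θ : Cz P → ℂ) : ℕ) : ℤ) [ZMOD p]) ∧
      (∀ χ ∈ X, ∀ x ∈ P, x ≠ 1 → ∀ y ∈ Cz P, ¬ p ∣ orderOf y →
        (χ : G → ℂ) (x * y) = (εX χ : ℂ) * thetaSum P (θ : Cz P → ℂ) T y) ∧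
      (∀ ψ ∈ Y, ∀ k : ℕ, ¬ p ∣ k → ∃ ψ' ∈ Y, ∀ x ∈ P, x ≠ 1 → ∀ y ∈ Cz P, ¬ p ∣ orderOf y →
        (ψ' : G → ℂ) (x * y) = (ψ : G → ℂ) (x ^ k * y)) ∧
      (∀ ψ ∈ Y, ∀ ψ' ∈ Y, ∃ k : ℕ, ¬ p ∣ k ∧ ∀ x ∈ P, x ≠ 1 → ∀ y ∈ Cz P, ¬ p ∣ orderOf y →
        (ψ' : G → ℂ) (x * y) = (ψ : G → ℂ) (x ^ k * y)) := by
  classical
  have hp : p.Prime := Fact.out
  obtain ⟨X, ψ, v, ε, hBu, hdisj, hXc, hψinj, hε, hXv, hψμ, hrel⟩ := hshape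
  have hXB : ∀ χ ∈ X, χ ∈ B := fun χ hχ => by rw [hBu]; exact Or.inl hχ
  have hψB : ∀ i, ψ i ∈ B := fun i => by rw [hBu]; exact Or.inr ⟨i, rfl⟩
  have hε0 : (ε : ℂ) ≠ 0 := by
    rcases hε with h | h <;> simp [h]
  -- e ∣ p - 1
  have hdvd : (Cz P).relIndex T ∣ p - 1 := by
    rw [← d.cardE]
    have h1 : Nat.card E ∣ Nat.card (ZMod p)ˣ := Subgroup.card_subgroup_dvd_card E
    have h2 : Nat.card (ZMod p)ˣ = p - 1 := by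
      rw [Nat.card_eq_fintype_card, ZMod.card_units_eq_totient, Nat.totient_prime hp]
    rwa [h2] at h1
  refine ⟨hdvd, X, Set.range ψ, v, ε, hBu, hdisj, ?_, ?_, ?_, hε, ?_, ?_, ?_, ?_, ?_, ?_, ?_⟩
  · rw [hXc, d.cardE]
  · -- |Y| = (p-1)/e
    have hfinB : B.Finite := Set.toFinite B
    have hfinX : X.Finite := Set.toFinite X
    have hfinY : (Set.range ψ).Finite := Set.toFinite _
    have h1 : Nat.card B = Nat.card X + Nat.card (Set.range ψ) := by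
      rw [Nat.card_coe_set_eq, Nat.card_coe_set_eq, Nat.card_coe_set_eq, hBu]
      exact Set.ncard_union_eq hdisj hfinX hfinY
    rw [← d.cardE]
    omega
  · exact fun χ hχ => (hXv χ hχ).1
  · -- the exceptional characters agree on `p`-regular elements
    rintro _ ⟨i, rfl⟩ _ ⟨j, rfl⟩ g hg
    have h1 := hrel i g hg
    have h2 := hrel j g hg
    exact mul_left_cancel₀ hε0 (h1.trans h2.symm)
  · rintro _ ⟨i, rfl⟩ g hg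
    exact hrel i g hg
  · intro χ hχ
    exact hdegX χ (hXB χ hχ) (v χ) (hXv χ hχ).2
  · rintro _ ⟨i, rfl⟩
    exact hdegY (ψ i) (hψB i) i ε (hψμ i)
  · intro χ hχ
    exact hvalX χ (hXB χ hχ) (v χ) (hXv χ hχ).2
  · -- Galois action
    rintro _ ⟨i, rfl⟩ k hk
    have hk0 : ((k : ℕ) : ZMod p) ≠ 0 := by
      rw [Ne, ZMod.natCast_eq_zero_iff]; exact hk
    let c : (ZMod p)ˣ := Units.mk0 _ hk0
    refine ⟨ψ (i * c), ⟨_, rfl⟩, ?_⟩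
    intro x hx hx1 y hy hyreg
    rw [hgalY ψ hψB ε hψμ i c x hx hx1 y hy hyreg]
    have hc : ((c : (ZMod p)ˣ) : ZMod p).val = k % p := by
      simp only [c, Units.val_mk0, ZMod.val_natCast]
    rw [hc, pow_mod_of_mem hP hx]
  · -- transitivity
    rintro _ ⟨i, rfl⟩ _ ⟨j, rfl⟩
    refine ⟨((i⁻¹ * j : (ZMod p)ˣ) : ZMod p).val, ?_, ?_⟩
    · intro hdiv
      have hlt : ((i⁻¹ * j : (ZMod p)ˣ) : ZMod p).val < p := ZMod.val_lt _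
      have h0 : ((i⁻¹ * j : (ZMod p)ˣ) : ZMod p).val = 0 := Nat.eq_zero_of_dvd_of_lt hdiv hlt
      rw [ZMod.val_eq_zero] at h0
      exact (Units.ne_zero _) h0
    · intro x hx hx1 y hy hyreg
      have := hgalY ψ hψB ε hψμ i (i⁻¹ * j) x hx hx1 y hy hyreg
      rwa [mul_inv_cancel_left] at this

/-- STRUCT (from the data): the structure theorem of a block of defect one. -/
theorem struct_of_data (d : GSData p P B θ T x0 E μ D) (hP : Nat.card P = p)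
    (hT : IsInertia P (θ : Cz P → ℂ) T)
    (hcard : Nat.card B = Nat.card E + (p - 1) / Nat.card E) :
    (Cz P).relIndex T ∣ p - 1 ∧
    ∃ (X Y : Set (IrrCharacter G)) (εX : IrrCharacter G → ℤ) (ε : ℤ),
      B = X ∪ Y ∧ Disjoint X Y ∧ Nat.card X = (Cz P).relIndex T ∧
      Nat.card Y = (p - 1) / (Cz P).relIndex T ∧
      (∀ χ ∈ X, εX χ = 1 ∨ εX χ = -1) ∧ (ε = 1 ∨ ε = -1) ∧
      (∀ ψ ∈ Y, ∀ ψ' ∈ Y, ∀ g : G, ¬ p ∣ orderOf g → (ψ : G → ℂ) g = (ψ' : G → ℂ) g) ∧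
      (∀ ψ ∈ Y, ∀ g : G, ¬ p ∣ orderOf g →
        (ε : ℂ) * (ψ : G → ℂ) g = ∑ᶠ χ ∈ X, (εX χ : ℂ) * (χ : G → ℂ) g) ∧
      (∀ χ ∈ X, (charDegree (χ : G → ℂ) : ℤ) ≡
        εX χ * (((Cz P).relIndex (Nz P) / (Cz P).relIndex T * charDegree (θ : Cz P → ℂ) : ℕ) : ℤ)
          [ZMOD p]) ∧
      (∀ ψ ∈ Y, (charDegree (ψ : G → ℂ) : ℤ) ≡
        ε * (((Cz P).relIndex (Nz P) * charDegree (θ : Cz P → ℂ) : ℕ) : ℤ) [ZMOD p]) ∧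
      (∀ χ ∈ X, ∀ x ∈ P, x ≠ 1 → ∀ y ∈ Cz P, ¬ p ∣ orderOf y →
        (χ : G → ℂ) (x * y) = (εX χ : ℂ) * thetaSum P (θ : Cz P → ℂ) T y) ∧
      (∀ ψ ∈ Y, ∀ k : ℕ, ¬ p ∣ k → ∃ ψ' ∈ Y, ∀ x ∈ P, x ≠ 1 → ∀ y ∈ Cz P, ¬ p ∣ orderOf y →
        (ψ' : G → ℂ) (x * y) = (ψ : G → ℂ) (x ^ k * y)) ∧
      (∀ ψ ∈ Y, ∀ ψ' ∈ Y, ∃ k : ℕ, ¬ p ∣ k ∧ ∀ x ∈ P, x ≠ 1 → ∀ y ∈ Cz P, ¬ p ∣ orderOf y →
        (ψ' : G → ℂ) (x * y) = (ψ : G → ℂ) (x ^ k * y)) :=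
  struct_of_data_of d hP hT hcard
    (Cfsg.Agent.Lib.Helper8.DOSHAPE.shape_of_data d hcard)
    (Cfsg.Agent.Lib.Helper9.DOVALX.valX_of_data d hP)
    (Cfsg.Agent.Lib.Helper9.DODEGX.degX_of_data d hP hT)
    (Cfsg.Agent.Lib.Helper9.DOGALY.galY_of_data d hP)
    (Cfsg.Agent.Lib.Helper9.DODEGY.degY_of_data d hP hT)

end data

end Cfsg.Agent.Lib.Helper13.DOSTRUCT
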