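import Mathlib
import Cfsg.Prelude.Def_GeometricClasses
import Cfsg.Agent.Lib.Helper20.AschDefs
import Cfsg.Agent.Lib.Helper4.AschA4
import Cfsg.Agent.Lib.Helper29.SpAschDefs
import Cfsg.Agent.Lib.Helper29.SpAschTools

/-!
S5662 / S5673 (Aschbacher for `Sp` / `Ω`), block [DSC] = FORM-AWARE SUBFIELD DESCENT, generic core
(ANY invertible Gram matrix `J`, any `n`, any finite field).

* `rational_of_line`: a non-zero solution `X₀` of a linear system which is stable under entrywise application of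
  `F₀`-linear functionals `F → F₀` and whose solutions are all proportional to `X₀` is a scalar multiple of an `F₀`-rational matrix
  (the abstract form of helper4's argument in `AschA4.geo_of_realisable`).
* `le_subfieldSubgroup_of_realisable`: `N ⊴ H`, `N` absolutely irreducible, `B N B⁻¹ ⊆ GL_n(F₀)`, `F₀ ≤ F₁`
  ⟹ `H ≤ subfieldSubgroup F₁ B⁻¹`.
* `exists_form_rational`: moreover `N ≤ isoG J`, `det J ≠ 0` ⟹ `ζ • (B⁻ᵀ J B⁻¹)` is `F₀`-rational for some `ζ ≠ 0`.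
* `dsc_core`: `∃ F₁ r P ζ, r.Prime ∧ |F| = |F₁|^r ∧ ζ ≠ 0 ∧ IsFormRationalStructure (bfm J) F₁ ζ P ∧ H ≤ subfieldSubgroup F₁ P`.
-/

set_option autoImplicit false
set_option linter.unusedSectionVars false
set_option linter.unusedVariables false

namespace Cfsg.Agent.Lib.Helper13.DSC
open Matrix Cfsg Cfsg.Geo Cfsg.Agent.Lib.Helper20.Asch Cfsg.Agent.Lib.Helper29.SpAsch

variable {F : Type*} [Field F] {n : ℕ}

/-! ### entrywise application of an `F₀`-linear functional -/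

section app
variable (F₀ : Subfield F) (f : F →ₗ[F₀] F₀)

/-- entrywise application of an `F₀`-linear functional `F → F₀` -/
def app (X : Matrix (Fin n) (Fin n) F) : Matrix (Fin n) (Fin n) F :=
  Matrix.of fun k l => ((f (X k l) : F₀) : F)

lemma app_apply (X : Matrix (Fin n) (Fin n) F) (k l : Fin n) : app F₀ f X k l = ((f (X k l) : F₀) : F) := rfl

lemma app_mul_right (R : Matrix (Fin n) (Fin n) F) (hR : ∀ k l, R k l ∈ F₀) (X : Matrix (Fin n) (Fin n) F) :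
    app F₀ f (X * R) = app F₀ f X * R := by
  ext k l
  rw [app_apply, Matrix.mul_apply, Matrix.mul_apply, map_sum, AddSubmonoidClass.coe_finsetSum]
  refine Finset.sum_congr rfl (fun t _ => ?_)
  rw [app_apply]
  have e1 : X k t * R t l = (⟨R t l, hR t l⟩ : F₀) • X k t := by
    rw [Algebra.smul_def, mul_comm]
    rfl
  rw [e1, map_smul, smul_eq_mul, Subfield.coe_mul, mul_comm]

lemma app_mul_left (R : Matrix (Fin n) (Fin n) F) (hR : ∀ k l, R k l ∈ F₀) (X : Matrix (Fin n) (Fin n) F) :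
    app F₀ f (R * X) = R * app F₀ f X := by
  ext k l
  rw [app_apply, Matrix.mul_apply, Matrix.mul_apply, map_sum, AddSubmonoidClass.coe_finsetSum]
  refine Finset.sum_congr rfl (fun t _ => ?_)
  rw [app_apply]
  have e1 : R k t * X t l = (⟨R k t, hR k t⟩ : F₀) • X t l := by
    rw [Algebra.smul_def]
    rfl
  rw [e1, map_smul, smul_eq_mul, Subfield.coe_mul]

end app

/-- RATIONALITY BY SCHUR: a solution set stable under scalars and under entrywise `F₀`-functionals, all of whose members are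
proportional to `X₀`: then `X₀ = c • Y` with `Y` rational over `F₀`. -/
theorem rational_of_line (F₀ : Subfield F) (Sol : Set (Matrix (Fin n) (Fin n) F))
    (hsmul : ∀ (c : F) (X : Matrix (Fin n) (Fin n) F), X ∈ Sol → c • X ∈ Sol)
    (hfun : ∀ (f : F →ₗ[F₀] F₀) (X : Matrix (Fin n) (Fin n) F), X ∈ Sol → app F₀ f X ∈ Sol)
    (X₀ : Matrix (Fin n) (Fin n) F) (hX₀ : X₀ ∈ Sol)
    (hline : ∀ X ∈ Sol, ∃ d : F, X = d • X₀) :
    ∃ c : F, c ≠ 0 ∧ ∀ i j, ∃ a ∈ F₀, X₀ i j = c * a := by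
  classical
  by_cases hnz : ∃ i₀ j₀, X₀ i₀ j₀ ≠ 0
  swap
  · have hz : ∀ i j, X₀ i j = 0 := by
      intro i j
      by_contra h
      exact hnz ⟨i, j, h⟩
    exact ⟨1, one_ne_zero, fun i j => ⟨0, F₀.zero_mem, by rw [hz i j, mul_zero]⟩⟩
  obtain ⟨i₀, j₀, hc⟩ := hnz
  obtain ⟨c, hcdef⟩ : ∃ c : F, c = X₀ i₀ j₀ := ⟨_, rfl⟩
  rw [← hcdef] at hc
  refine ⟨c, hc, ?_⟩
  obtain ⟨Y, hY⟩ : ∃ Y : Matrix (Fin n) (Fin n) F, Y = c⁻¹ • X₀ := ⟨_, rfl⟩
  have hYS : Y ∈ Sol := by rw [hY]; exact hsmul _ _ hX₀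
  have hY1 : Y i₀ j₀ = 1 := by
    rw [hY, Matrix.smul_apply, ← hcdef, smul_eq_mul, inv_mul_cancel₀ hc]
  have hYrat : ∀ i j, Y i j ∈ F₀ := by
    intro i j
    by_contra hy
    have hnot : Y i j ∉ (Submodule.span F₀ {(1 : F)} : Submodule F₀ F) := by
      intro hmem
      rw [Submodule.mem_span_singleton] at hmem
      obtain ⟨a, ha⟩ := hmem
      apply hy
      rw [← ha]
      have : a • (1 : F) = (a : F) := by
        rw [Algebra.smul_def, mul_one]
        rfl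
      rw [this]
      exact a.2
    obtain ⟨f, hfy, hf1⟩ := Submodule.exists_dual_map_eq_bot_of_notMem hnot inferInstance
    have hf1' : f 1 = 0 := by
      have : f 1 ∈ (Submodule.span F₀ {(1 : F)}).map f := ⟨1, Submodule.subset_span rfl, rfl⟩
      rw [hf1, Submodule.mem_bot] at this
      exact this
    obtain ⟨d, hd⟩ := hline _ (hfun f Y hYS)
    have hd' : app F₀ f Y = (d * c) • Y := by
      rw [hd, hY, smul_smul, mul_assoc, mul_inv_cancel₀ hc, mul_one]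
    have h00 : app F₀ f Y i₀ j₀ = 0 := by
      rw [app_apply, hY1, hf1']
      rfl
    have hdc : d * c = 0 := by
      have := congrFun (congrFun hd' i₀) j₀
      rw [h00, Matrix.smul_apply, hY1, smul_eq_mul, mul_one] at this
      exact this.symm
    have hij : app F₀ f Y i j = 0 := by
      rw [hd', hdc, zero_smul]
      rfl
    apply hfy
    rw [app_apply] at hij
    exact_mod_cast hij
  intro i j
  refine ⟨Y i j, hYrat i j, ?_⟩
  rw [hY, Matrix.smul_apply, smul_eq_mul, ← mul_assoc, mul_inv_cancel₀ hc, one_mul]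


/-! ### the group part: `H ≤ subfieldSubgroup F₁ B⁻¹` -/

section grp
variable {H N : Subgroup (GL (Fin n) F)}

lemma inv_mul_val (B : GL (Fin n) F) :
    ((B⁻¹ : GL (Fin n) F) : Matrix (Fin n) (Fin n) F) * (B : Matrix (Fin n) (Fin n) F) = 1 := by
  rw [← Units.val_mul, inv_mul_cancel, Units.val_one]

lemma mul_inv_val (B : GL (Fin n) F) :
    (B : Matrix (Fin n) (Fin n) F) * ((B⁻¹ : GL (Fin n) F) : Matrix (Fin n) (Fin n) F) = 1 := by
  rw [← Units.val_mul, mul_inv_cancel, Units.val_one]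

/-- (DSC-G) the group part of the subfield descent (helper4's A4 with the subfield group exposed). -/
theorem le_subfieldSubgroup_of_realisable (hN : N ≤ H) (hnorm : NormBy H N) (habs : AbsIrr N)
    {F₀ F₁ : Subfield F} (h01 : F₀ ≤ F₁) (B : GL (Fin n) F)
    (hB : ∀ s ∈ matrixSet N, ∀ i j, ((B : Matrix (Fin n) (Fin n) F) * s *
      ((B⁻¹ : GL (Fin n) F) : Matrix (Fin n) (Fin n) F)) i j ∈ F₀) :
    H ≤ subfieldSubgroup F₁ B⁻¹ := by
  classical
  intro h hh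
  obtain ⟨X₀, hX₀⟩ : ∃ X₀ : GL (Fin n) F, X₀ = B * h * B⁻¹ := ⟨_, rfl⟩
  suffices hmem : X₀ ∈ (Matrix.GeneralLinearGroup.map (F₁.subtype : F₁ →+* F)).range ⊔ scalars (Fin n) F by
    unfold subfieldSubgroup
    refine ⟨X₀, hmem, ?_⟩
    show B⁻¹ * X₀ * (B⁻¹)⁻¹ = h
    rw [hX₀]
    group
  have hBB := inv_mul_val B
  have hBB' := mul_inv_val B
  have hXX := inv_mul_val X₀
  have hXX' := mul_inv_val X₀
  have hrat : ∀ x ∈ N, ∀ i j, ((B * x * B⁻¹ : GL (Fin n) F) : Matrix (Fin n) (Fin n) F) i j ∈ F₀ := by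
    intro x hx i j
    have := hB _ ⟨x, hx, rfl⟩ i j
    rw [Units.val_mul, Units.val_mul]
    exact this
  have hrel : ∀ x : GL (Fin n) F, X₀ * (B * x * B⁻¹) = (B * (h * x * h⁻¹) * B⁻¹) * X₀ := by
    intro x
    rw [hX₀]
    group
  -- the solution set
  obtain ⟨Sol, hSol⟩ : ∃ Sol : Set (Matrix (Fin n) (Fin n) F), Sol = {X | ∀ x ∈ N,
      X * ((B * x * B⁻¹ : GL (Fin n) F) : Matrix (Fin n) (Fin n) F) =
        ((B * (h * x * h⁻¹) * B⁻¹ : GL (Fin n) F) : Matrix (Fin n) (Fin n) F) * X} := ⟨_, rfl⟩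
  have hsmul : ∀ (c : F) (X : Matrix (Fin n) (Fin n) F), X ∈ Sol → c • X ∈ Sol := by
    intro c X hX
    rw [hSol] at hX ⊢
    intro x hx
    rw [Matrix.smul_mul, Matrix.mul_smul, hX x hx]
  have hfun : ∀ (f : F →ₗ[F₀] F₀) (X : Matrix (Fin n) (Fin n) F), X ∈ Sol → app F₀ f X ∈ Sol := by
    intro f X hX
    rw [hSol] at hX ⊢
    intro x hx
    rw [← app_mul_right F₀ f _ (hrat x hx), ← app_mul_left F₀ f _ (hrat _ (hnorm h hh x hx)), hX x hx]
  have hX₀S : (X₀ : Matrix (Fin n) (Fin n) F) ∈ Sol := by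
    rw [hSol]
    intro x hx
    have h2 := congrArg (fun g : GL (Fin n) F => (g : Matrix (Fin n) (Fin n) F)) (hrel x)
    simp only [Units.val_mul] at h2 ⊢
    exact h2
  have hline : ∀ X ∈ Sol, ∃ d : F, X = d • (X₀ : Matrix (Fin n) (Fin n) F) := by
    intro X hX
    rw [hSol] at hX
    obtain ⟨T, hT⟩ : ∃ T : Matrix (Fin n) (Fin n) F,
        T = ((B⁻¹ : GL (Fin n) F) : Matrix (Fin n) (Fin n) F) *
          (((X₀⁻¹ : GL (Fin n) F) : Matrix (Fin n) (Fin n) F) * X) * (B : Matrix (Fin n) (Fin n) F) := ⟨_, rfl⟩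
    have hTc : ∀ s ∈ matrixSet N, T * s = s * T := by
      rintro s ⟨x, hx, rfl⟩
      have h1 := hX x hx
      have h2 := congrArg (fun g : GL (Fin n) F => (g : Matrix (Fin n) (Fin n) F)) (hrel x)
      simp only [Units.val_mul] at h1 h2
      have h3 : ((X₀⁻¹ : GL (Fin n) F) : Matrix (Fin n) (Fin n) F) *
          ((B : Matrix (Fin n) (Fin n) F) * ((h : Matrix (Fin n) (Fin n) F) * (x : Matrix (Fin n) (Fin n) F) *
            ((h⁻¹ : GL (Fin n) F) : Matrix (Fin n) (Fin n) F)) * ((B⁻¹ : GL (Fin n) F) : Matrix (Fin n) (Fin n) F)) =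
          ((B : Matrix (Fin n) (Fin n) F) * (x : Matrix (Fin n) (Fin n) F) *
            ((B⁻¹ : GL (Fin n) F) : Matrix (Fin n) (Fin n) F)) * ((X₀⁻¹ : GL (Fin n) F) : Matrix (Fin n) (Fin n) F) := by
        calc _ = ((X₀⁻¹ : GL (Fin n) F) : Matrix (Fin n) (Fin n) F) *
              (((B : Matrix (Fin n) (Fin n) F) * ((h : Matrix (Fin n) (Fin n) F) * (x : Matrix (Fin n) (Fin n) F) *
              ((h⁻¹ : GL (Fin n) F) : Matrix (Fin n) (Fin n) F)) * ((B⁻¹ : GL (Fin n) F) : Matrix (Fin n) (Fin n) F)) *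
              (X₀ : Matrix (Fin n) (Fin n) F)) * ((X₀⁻¹ : GL (Fin n) F) : Matrix (Fin n) (Fin n) F) := by
                rw [mul_assoc (((X₀⁻¹ : GL (Fin n) F) : Matrix (Fin n) (Fin n) F)) _
                  (((X₀⁻¹ : GL (Fin n) F) : Matrix (Fin n) (Fin n) F)),
                  mul_assoc _ (X₀ : Matrix (Fin n) (Fin n) F), hXX', mul_one]
          _ = _ := by
                rw [← h2, ← mul_assoc, ← mul_assoc, hXX, one_mul]
      rw [hT]
      calc _ = ((B⁻¹ : GL (Fin n) F) : Matrix (Fin n) (Fin n) F) *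
            (((X₀⁻¹ : GL (Fin n) F) : Matrix (Fin n) (Fin n) F) *
              (X * ((B : Matrix (Fin n) (Fin n) F) * (x : Matrix (Fin n) (Fin n) F) *
                ((B⁻¹ : GL (Fin n) F) : Matrix (Fin n) (Fin n) F)))) * (B : Matrix (Fin n) (Fin n) F) := by
              simp only [mul_assoc, hBB, mul_one]
        _ = ((B⁻¹ : GL (Fin n) F) : Matrix (Fin n) (Fin n) F) *
            ((((B : Matrix (Fin n) (Fin n) F) * (x : Matrix (Fin n) (Fin n) F) *
              ((B⁻¹ : GL (Fin n) F) : Matrix (Fin n) (Fin n) F)) * ((X₀⁻¹ : GL (Fin n) F) : Matrix (Fin n) (Fin n) F)) * X) *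
              (B : Matrix (Fin n) (Fin n) F) := by
              rw [h1, ← mul_assoc _ _ X, h3]
        _ = _ := by
              simp only [mul_assoc]
              rw [← mul_assoc _ (B : Matrix (Fin n) (Fin n) F), hBB, one_mul]
    obtain ⟨d, hd⟩ := habs.2 T hTc
    refine ⟨d, ?_⟩
    have h4 : X = (X₀ : Matrix (Fin n) (Fin n) F) * ((B : Matrix (Fin n) (Fin n) F) * T *
        ((B⁻¹ : GL (Fin n) F) : Matrix (Fin n) (Fin n) F)) := by
      rw [hT]
      simp only [← mul_assoc, hBB', one_mul]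
      simp only [mul_assoc, hBB', mul_one]
      rw [← mul_assoc, hXX', one_mul]
    rw [h4, hd, Matrix.mul_smul, Matrix.smul_mul, Matrix.mul_one, hBB', Matrix.mul_smul, Matrix.mul_one]
  obtain ⟨c, hc, hent⟩ := rational_of_line F₀ Sol hsmul hfun _ hX₀S hline
  apply Cfsg.Agent.Lib.Helper4.AschLeaf.mem_range_sup_scalars F₁ X₀ c hc
  intro i j
  obtain ⟨a, ha, he⟩ := hent i j
  exact ⟨a, h01 ha, he⟩

end grp

/-! ### the form part -/

section form
variable {H N : Subgroup (GL (Fin n) F)} {J : Matrix (Fin n) (Fin n) F}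

/-- (DSC-F) the Gram matrix in the rational basis is rational up to a scalar. -/
theorem exists_form_rational (hd : J.det ≠ 0) (hNJ : N ≤ isoG J) (habs : AbsIrr N) {F₀ : Subfield F}
    (B : GL (Fin n) F)
    (hB : ∀ s ∈ matrixSet N, ∀ i j, ((B : Matrix (Fin n) (Fin n) F) * s *
      ((B⁻¹ : GL (Fin n) F) : Matrix (Fin n) (Fin n) F)) i j ∈ F₀) :
    ∃ ζ : F, ζ ≠ 0 ∧ ∀ i j, (ζ • (((B⁻¹ : GL (Fin n) F) : Matrix (Fin n) (Fin n) F)ᵀ * J *
      ((B⁻¹ : GL (Fin n) F) : Matrix (Fin n) (Fin n) F))) i j ∈ F₀ := by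
  classical
  obtain ⟨b, hb⟩ : ∃ b : Matrix (Fin n) (Fin n) F, b = (B : Matrix (Fin n) (Fin n) F) := ⟨_, rfl⟩
  obtain ⟨bi, hbi⟩ : ∃ bi : Matrix (Fin n) (Fin n) F, bi = ((B⁻¹ : GL (Fin n) F) : Matrix (Fin n) (Fin n) F) :=
    ⟨_, rfl⟩
  rw [← hb, ← hbi] at hB
  rw [← hbi]
  have hBB : bi * b = 1 := by rw [hb, hbi]; exact inv_mul_val B
  have hBB' : b * bi = 1 := by rw [hb, hbi]; exact mul_inv_val B
  have hbt : bᵀ * biᵀ = 1 := by rw [← Matrix.transpose_mul, hBB, Matrix.transpose_one]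
  have hbt' : biᵀ * bᵀ = 1 := by rw [← Matrix.transpose_mul, hBB', Matrix.transpose_one]
  have hiso : ∀ x ∈ N, (x : Matrix (Fin n) (Fin n) F)ᵀ * (J * (x : Matrix (Fin n) (Fin n) F)) = J := by
    intro x hx
    have := (mem_isoG_iff x).1 (hNJ hx)
    rw [mul_assoc] at this
    exact this
  obtain ⟨Sol, hSol⟩ : ∃ Sol : Set (Matrix (Fin n) (Fin n) F), Sol = {Z | ∀ x ∈ N,
      (b * (x : Matrix (Fin n) (Fin n) F) * bi)ᵀ * Z * (b * (x : Matrix (Fin n) (Fin n) F) * bi) = Z} := ⟨_, rfl⟩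
  have hsmul : ∀ (c : F) (X : Matrix (Fin n) (Fin n) F), X ∈ Sol → c • X ∈ Sol := by
    intro c X hX
    rw [hSol] at hX ⊢
    intro x hx
    rw [Matrix.mul_smul, Matrix.smul_mul, hX x hx]
  have hfun : ∀ (f : F →ₗ[F₀] F₀) (X : Matrix (Fin n) (Fin n) F), X ∈ Sol → app F₀ f X ∈ Sol := by
    intro f X hX
    rw [hSol] at hX ⊢
    intro x hx
    have hR : ∀ k l, (b * (x : Matrix (Fin n) (Fin n) F) * bi) k l ∈ F₀ := hB _ ⟨x, hx, rfl⟩
    have hRt : ∀ k l, (b * (x : Matrix (Fin n) (Fin n) F) * bi)ᵀ k l ∈ F₀ := fun k l => hR l k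
    rw [← app_mul_left F₀ f _ hRt, ← app_mul_right F₀ f _ hR, hX x hx]
  have hJS : biᵀ * J * bi ∈ Sol := by
    rw [hSol]
    intro x hx
    rw [Matrix.transpose_mul, Matrix.transpose_mul]
    simp only [mul_assoc]
    rw [← mul_assoc bᵀ biᵀ, hbt, one_mul, ← mul_assoc bi b, hBB, one_mul, ← mul_assoc J, ← mul_assoc _ (J * _),
      hiso x hx]
  have hline : ∀ X ∈ Sol, ∃ d : F, X = d • (biᵀ * J * bi) := by
    intro Z hZ
    rw [hSol] at hZ
    -- `Z₁ = bᵀ Z b` is `N`-invariant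
    have hZ1 : ∀ x ∈ N, (x : Matrix (Fin n) (Fin n) F)ᵀ * ((bᵀ * Z * b) * (x : Matrix (Fin n) (Fin n) F)) =
        bᵀ * Z * b := by
      intro x hx
      have h1 := hZ x hx
      rw [Matrix.transpose_mul, Matrix.transpose_mul] at h1
      calc (x : Matrix (Fin n) (Fin n) F)ᵀ * ((bᵀ * Z * b) * (x : Matrix (Fin n) (Fin n) F))
          = bᵀ * ((biᵀ * ((x : Matrix (Fin n) (Fin n) F)ᵀ * bᵀ)) * Z * (b * (x : Matrix (Fin n) (Fin n) F) * bi)) * b := by
            simp only [mul_assoc]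
            rw [← mul_assoc bᵀ biᵀ, hbt, one_mul, hBB, mul_one]
        _ = bᵀ * Z * b := by rw [h1]
    -- `M = J⁻¹ Z₁` commutes with `N`
    have hcomm : ∀ s ∈ matrixSet N, (J⁻¹ * (bᵀ * Z * b)) * s = s * (J⁻¹ * (bᵀ * Z * b)) := by
      rintro s ⟨x, hx, rfl⟩
      have hadj := adjM_of_mem hd (hNJ hx)
      unfold adjM at hadj
      -- `x⁻¹ M x = M`
      have h2 : ((x⁻¹ : GL (Fin n) F) : Matrix (Fin n) (Fin n) F) * (J⁻¹ * (bᵀ * Z * b)) *
          (x : Matrix (Fin n) (Fin n) F) = J⁻¹ * (bᵀ * Z * b) := by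
        rw [← hadj]
        calc J⁻¹ * (x : Matrix (Fin n) (Fin n) F)ᵀ * J * (J⁻¹ * (bᵀ * Z * b)) * (x : Matrix (Fin n) (Fin n) F)
            = J⁻¹ * ((x : Matrix (Fin n) (Fin n) F)ᵀ * ((J * J⁻¹) * ((bᵀ * Z * b) * (x : Matrix (Fin n) (Fin n) F)))) := by
              simp only [mul_assoc]
          _ = J⁻¹ * (bᵀ * Z * b) := by rw [J_mul_inv hd, one_mul, hZ1 x hx]
      obtain ⟨M, hM⟩ : ∃ M : Matrix (Fin n) (Fin n) F, M = J⁻¹ * (bᵀ * Z * b) := ⟨_, rfl⟩
      rw [← hM] at h2 ⊢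
      calc M * (x : Matrix (Fin n) (Fin n) F)
          = ((x : Matrix (Fin n) (Fin n) F) * ((x⁻¹ : GL (Fin n) F) : Matrix (Fin n) (Fin n) F)) * M *
              (x : Matrix (Fin n) (Fin n) F) := by rw [mul_inv_val x, one_mul]
        _ = (x : Matrix (Fin n) (Fin n) F) * (((x⁻¹ : GL (Fin n) F) : Matrix (Fin n) (Fin n) F) * M *
              (x : Matrix (Fin n) (Fin n) F)) := by simp only [mul_assoc]
        _ = (x : Matrix (Fin n) (Fin n) F) * M := by rw [h2]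
    obtain ⟨d, hd'⟩ := habs.2 _ hcomm
    refine ⟨d, ?_⟩
    have h3 : bᵀ * Z * b = d • J := by
      calc bᵀ * Z * b = (J * J⁻¹) * (bᵀ * Z * b) := by rw [J_mul_inv hd, one_mul]
        _ = J * (J⁻¹ * (bᵀ * Z * b)) := by rw [mul_assoc]
        _ = d • J := by rw [hd', Matrix.mul_smul, mul_one]
    calc Z = (biᵀ * bᵀ) * Z * (b * bi) := by rw [hbt', hBB', one_mul, mul_one]
      _ = biᵀ * (bᵀ * Z * b) * bi := by simp only [mul_assoc]
      _ = d • (biᵀ * J * bi) := by rw [h3, Matrix.mul_smul, Matrix.smul_mul]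
  obtain ⟨c, hc, hent⟩ := rational_of_line F₀ Sol hsmul hfun _ hJS hline
  refine ⟨c⁻¹, inv_ne_zero hc, ?_⟩
  intro i j
  obtain ⟨a, ha, he⟩ := hent i j
  rw [Matrix.smul_apply, he, smul_eq_mul, ← mul_assoc, inv_mul_cancel₀ hc, one_mul]
  exact ha

/-- a Gram matrix which is rational up to the scalar `ζ` in the basis `P` gives a form-rational structure -/
theorem isFormRational_of_entries (F₁ : Subfield F) (P : GL (Fin n) F) (ζ : F)
    (h : ∀ i j, (ζ • ((P : Matrix (Fin n) (Fin n) F)ᵀ * J * (P : Matrix (Fin n) (Fin n) F))) i j ∈ F₁) :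
    IsFormRationalStructure (bfm J) F₁ ζ P := by
  intro u v hu hv
  rw [bfm_mulVec]
  have e : ζ * bfm ((P : Matrix (Fin n) (Fin n) F)ᵀ * J * (P : Matrix (Fin n) (Fin n) F)) u v =
      ∑ i, u i * ∑ j, (ζ • ((P : Matrix (Fin n) (Fin n) F)ᵀ * J * (P : Matrix (Fin n) (Fin n) F))) i j * v j := by
    unfold bfm
    simp only [dotProduct, Matrix.mulVec, Matrix.smul_apply, smul_eq_mul, Finset.mul_sum]
    refine Finset.sum_congr rfl fun i _ => Finset.sum_congr rfl fun j _ => ?_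
    ring
  rw [e]
  exact Subfield.sum_mem _ fun i _ => Subfield.mul_mem _ (hu i)
    (Subfield.sum_mem _ fun j _ => Subfield.mul_mem _ (h i j) (hv j))

/-- [DSC] core, for an ARBITRARY invertible Gram matrix `J`. -/
theorem dsc_core [Fintype F] (hd : J.det ≠ 0) (hN : N ≤ H) (hnorm : NormBy H N) (habs : AbsIrr N) (hNJ : N ≤ isoG J)
    (F₀ : Subfield F) (hF₀ : F₀ ≠ ⊤) (hreal : RealisableOver F₀ (matrixSet N)) :
    ∃ (F₁ : Subfield F) (r : ℕ) (P : GL (Fin n) F) (ζ : F), r.Prime ∧ Fintype.card F = Nat.card F₁ ^ r ∧ ζ ≠ 0 ∧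
      IsFormRationalStructure (bfm J) F₁ ζ P ∧ H ≤ subfieldSubgroup F₁ P := by
  obtain ⟨F₁, r, h01, hr, hcard⟩ := Cfsg.Agent.Lib.Helper4.AschLeaf.exists_max_subfield F₀ hF₀
  obtain ⟨B, hB⟩ := hreal
  obtain ⟨ζ, hζ, hent⟩ := exists_form_rational hd hNJ habs B hB
  exact ⟨F₁, r, B⁻¹, ζ, hr, hcard, hζ, isFormRational_of_entries F₁ B⁻¹ ζ (fun i j => h01 (hent i j)),
    le_subfieldSubgroup_of_realisable hN hnorm habs h01 B hB⟩

end form

end Cfsg.Agent.Lib.Helper13.DSC
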