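/-
helper13: element orders in `PGL₂(K)` and `PSL₂(K)`, `K` finite with `s` elements: every element
satisfies `x^(s+1) = 1`, `x^(s-1) = 1` or `x^p = 1`.
-/
import Mathlib
import Cfsg.Agent.Lib.Helper13.SL2Spectrum

set_option autoImplicit false

namespace Cfsg.Agent.Lib.Helper13.Dk

open Matrix Polynomial Cfsg.Agent.Lib.Helper13

section general

variable {K : Type*} [Field K]

theorem cayley_hamilton_gen (A : Matrix (Fin 2) (Fin 2) K) :
    A * A = (A 0 0 + A 1 1) • A - A.det • (1 : Matrix (Fin 2) (Fin 2) K) := by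
  rw [Matrix.det_fin_two]
  ext i j
  fin_cases i <;> fin_cases j <;> simp [Matrix.mul_apply, Fin.sum_univ_two] <;> ring

theorem exists_eigen_pair_gen (t d : K) :
    ∃ lam mu : AlgebraicClosure K, lam * mu = algebraMap K (AlgebraicClosure K) d ∧
      lam + mu = algebraMap K (AlgebraicClosure K) t := by
  set t' := algebraMap K (AlgebraicClosure K) t with ht
  set d' := algebraMap K (AlgebraicClosure K) d with hd
  have hdeg : (C (1 : AlgebraicClosure K) * X ^ 2 + C (-t') * X + C d').degree ≠ 0 := by
    rw [Polynomial.degree_quadratic one_ne_zero]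
    norm_num
  obtain ⟨lam, hlam⟩ := IsAlgClosed.exists_root _ hdeg
  simp only [IsRoot.def, eval_add, eval_mul, eval_C, eval_pow, eval_X] at hlam
  refine ⟨lam, t' - lam, ?_, by ring⟩
  linear_combination -hlam

theorem factor_gen (A : Matrix (Fin 2) (Fin 2) K) (lam mu : AlgebraicClosure K)
    (h1 : lam * mu = algebraMap K (AlgebraicClosure K) A.det)
    (h2 : lam + mu = algebraMap K (AlgebraicClosure K) (A 0 0 + A 1 1)) :
    (acMap K A - lam • 1) * (acMap K A - mu • 1) = 0 := by
  have hch := cayley_hamilton_gen (acMap K A)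
  have htr : acMap K A 0 0 + acMap K A 1 1 = lam + mu := by
    rw [acMap_apply, acMap_apply, h2, map_add]
  rw [htr, acMap_det, ← h1] at hch
  simp only [sub_mul, mul_sub, smul_mul_assoc, mul_smul_comm, one_mul, mul_one, smul_sub, smul_smul]
  rw [hch, mul_comm mu lam]
  module

/-- A matrix which becomes scalar over the algebraic closure is scalar. -/
theorem scalar_of_acMap (B : Matrix (Fin 2) (Fin 2) K) (c : AlgebraicClosure K)
    (h : acMap K B = c • (1 : Matrix (Fin 2) (Fin 2) (AlgebraicClosure K))) :
    B = (B 0 0) • (1 : Matrix (Fin 2) (Fin 2) K) := by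
  have e00 := congr_fun (congr_fun h 0) 0
  have e01 := congr_fun (congr_fun h 0) 1
  have e10 := congr_fun (congr_fun h 1) 0
  have e11 := congr_fun (congr_fun h 1) 1
  rw [acMap_apply] at e00 e01 e10 e11
  simp at e00 e01 e10 e11
  have h11 : B 1 1 = B 0 0 := by
    apply (algebraMap K (AlgebraicClosure K)).injective
    rw [e00, e11]
  ext i j
  fin_cases i <;> fin_cases j <;> simp [e01, e10, h11]

end general

section finite

variable {K : Type*} [Field K] [Fintype K]

/-- A power of any invertible `2 × 2` matrix over a finite field is scalar. -/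
theorem exists_pow_scalar (p : ℕ) [hpF : Fact p.Prime] [CharP K p] (A : Matrix (Fin 2) (Fin 2) K)
    (hdet : A.det ≠ 0) :
    ∃ k : ℕ, (k = Fintype.card K + 1 ∨ k = Fintype.card K - 1 ∨ k = p) ∧
      A ^ k = ((A ^ k) 0 0) • (1 : Matrix (Fin 2) (Fin 2) K) := by
  obtain ⟨n, -, hn⟩ := FiniteField.card K p
  have hq : 1 ≤ Fintype.card K := Fintype.card_pos
  set s := Fintype.card K with hs
  obtain ⟨lam, mu, h1, h2⟩ := exists_eigen_pair_gen (A 0 0 + A 1 1) A.det
  set t := algebraMap K (AlgebraicClosure K) (A 0 0 + A 1 1) with ht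
  set d := algebraMap K (AlgebraicClosure K) A.det with hd
  have hd0 : d ≠ 0 := by
    rw [hd]
    intro h
    exact hdet ((map_eq_zero _).mp h)
  have hlam0 : lam ≠ 0 := by
    intro h
    rw [h, zero_mul] at h1
    exact hd0 h1.symm
  have hmu0 : mu ≠ 0 := by
    intro h
    rw [h, mul_zero] at h1
    exact hd0 h1.symm
  have hf := factor_gen A lam mu h1 h2
  have htq : t ^ s = t := by rw [ht, ← map_pow, FiniteField.pow_card]
  have hdq : d ^ s = d := by rw [hd, ← map_pow, FiniteField.pow_card]
  -- Frobenius permutes the roots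
  have hfrob : ∀ x y : AlgebraicClosure K, x * y = d → x + y = t →
      (x ^ s - x) * (x ^ s - y) = 0 := by
    intro x y hxy hxy'
    have hroot : x ^ 2 + d = t * x := by rw [← hxy', ← hxy]; ring
    have h3 : (x ^ s) ^ 2 + d = t * x ^ s := by
      have := congrArg (fun z => z ^ s) hroot
      beta_reduce at this
      rw [mul_pow, htq, hn, add_pow_char_pow, ← hn, hdq] at this
      rw [← this]; ring
    rw [← hxy', ← hxy] at h3
    linear_combination h3
  have hinj : ∀ x y : AlgebraicClosure K, x ^ s = y ^ s → x = y := by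
    intro x y h
    have h3 : (x - y) ^ s = 0 := by
      rw [hn, sub_pow_char_pow, ← hn, h, sub_self]
    exact sub_eq_zero.mp (pow_eq_zero_iff (by omega) |>.mp h3)
  have finish : ∀ k : ℕ, ∀ c : AlgebraicClosure K, acMap K A ^ k = c • 1 →
      A ^ k = ((A ^ k) 0 0) • (1 : Matrix (Fin 2) (Fin 2) K) := by
    intro k c h
    apply scalar_of_acMap _ c
    rw [map_pow, h]
  by_cases hne : lam = mu
  · -- repeated root
    refine ⟨p, Or.inr (Or.inr rfl), ?_⟩
    apply finish p (lam ^ p)
    have hp : p.Prime := hpF.out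
    have hc : CharP (Matrix (Fin 2) (Fin 2) (AlgebraicClosure K)) p := Matrix.charP p
    set N := acMap K A - lam • (1 : Matrix (Fin 2) (Fin 2) (AlgebraicClosure K)) with hN
    have hN2 : N * N = 0 := by
      rw [← hne] at hf
      exact hf
    have hNp : N ^ p = 0 := by
      rw [← Nat.sub_add_cancel hp.two_le, pow_add, pow_two, hN2, mul_zero]
    have hg : acMap K A = N + lam • 1 := by rw [hN]; abel
    have hcomm : Commute N (lam • (1 : Matrix (Fin 2) (Fin 2) (AlgebraicClosure K))) :=
      (Commute.one_right N).smul_right lam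
    rw [hg, add_pow_char_of_commute (p := p) hcomm, hNp, zero_add, _root_.smul_pow, one_pow]
  · have hl := hfrob lam mu h1 h2
    have hm := hfrob mu lam (by rw [mul_comm]; exact h1) (by rw [add_comm]; exact h2)
    rcases mul_eq_zero.mp hl with h5 | h5
    · -- split case
      have hlam : lam ^ s = lam := sub_eq_zero.mp h5
      have hmu : mu ^ s = mu := by
        rcases mul_eq_zero.mp hm with h6 | h6
        · exact sub_eq_zero.mp h6
        · exfalso
          apply hne
          apply hinj
          rw [hlam, sub_eq_zero.mp h6]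
      refine ⟨s - 1, Or.inr (Or.inl rfl), ?_⟩
      apply finish (s - 1) 1
      apply pow_eq_smul_one_of_roots _ lam mu hne hf
      · have h6 : lam ^ (s - 1) * lam = 1 * lam := by
          rw [← pow_succ, Nat.sub_add_cancel hq, one_mul]
          exact hlam
        exact mul_right_cancel₀ hlam0 h6
      · have h6 : mu ^ (s - 1) * mu = 1 * mu := by
          rw [← pow_succ, Nat.sub_add_cancel hq, one_mul]
          exact hmu
        exact mul_right_cancel₀ hmu0 h6
    · -- non-split case
      have hlam : lam ^ s = mu := sub_eq_zero.mp h5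
      have hmu : mu ^ s = lam := by
        rcases mul_eq_zero.mp hm with h6 | h6
        · exfalso
          apply hne
          apply hinj
          rw [hlam, sub_eq_zero.mp h6]
        · exact sub_eq_zero.mp h6
      refine ⟨s + 1, Or.inl rfl, ?_⟩
      apply finish (s + 1) d
      apply pow_eq_smul_one_of_roots _ lam mu hne hf
      · rw [pow_succ, hlam, mul_comm]; exact h1
      · rw [pow_succ, hmu]; exact h1

/-- Element orders in `PGL₂(K)`. -/
theorem orderOf_PGL2_le (x : Matrix.ProjGenLinGroup (Fin 2) K) :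
    orderOf x ≤ Fintype.card K + 1 := by
  obtain ⟨p, hp⟩ := CharP.exists K
  have hpF : Fact p.Prime := ⟨CharP.char_is_prime K p⟩
  obtain ⟨n, -, hn⟩ := FiniteField.card K p
  have hs2 : 2 ≤ Fintype.card K := Fintype.one_lt_card
  have hps : p ≤ Fintype.card K := by
    rw [hn]
    calc p = p ^ 1 := (pow_one p).symm
      _ ≤ p ^ (n : ℕ) := Nat.pow_le_pow_right hpF.out.pos n.pos
  induction x using Matrix.ProjGenLinGroup.induction_on with | mk g =>
  have hdet : (g : Matrix (Fin 2) (Fin 2) K).det ≠ 0 := by
    have := g.det.ne_zero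
    simpa using this
  obtain ⟨k, hk, hsc⟩ := exists_pow_scalar p (g : Matrix (Fin 2) (Fin 2) K) hdet
  have hone : (Matrix.ProjGenLinGroup.mk g) ^ k = 1 := by
    rw [← map_pow, Matrix.ProjGenLinGroup.mk_eq_one,
      Matrix.GeneralLinearGroup.mem_center_iff_val_mem_range_scalar]
    refine ⟨((g : Matrix (Fin 2) (Fin 2) K) ^ k) 0 0, ?_⟩
    rw [Units.val_pow_eq_pow_val]
    rw [hsc]
    ext i j
    fin_cases i <;> fin_cases j <;> simp
  have hk0 : 0 < k := by
    rcases hk with h | h | h
    · omega
    · omega
    · rw [h]; exact hpF.out.pos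
  have hkle : k ≤ Fintype.card K + 1 := by
    rcases hk with h | h | h <;> omega
  exact (orderOf_le_of_pow_eq_one hk0 hone).trans hkle

/-- Element orders in `PSL₂(K)`. -/
theorem orderOf_PSL2_le (x : Matrix.ProjectiveSpecialLinearGroup (Fin 2) K) :
    orderOf x ≤ Fintype.card K + 1 := by
  rw [← orderOf_injective Matrix.ProjectiveSpecialLinearGroup.toPGL
    Matrix.ProjectiveSpecialLinearGroup.toPGL_injective x]
  exact orderOf_PGL2_le _

end finite

end Cfsg.Agent.Lib.Helper13.Dk
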