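/-
helper13: Dickson's theorem, refined form, recording the unipotent element and the Weyl-type element
in the subfield case.
-/
import Mathlib
import Cfsg.Agent.Lib.Helper13.DkRefine

set_option autoImplicit false

namespace Cfsg.Agent.Lib.Helper13.Dk

open Subgroup Matrix Cfsg.Agent.Lib.Helper13 Cfsg.Agent.Lib.Helper29.Dickson

namespace Emb

variable {F : Type*} [Field F] [Fintype F] {G : Type*} [Group G] [Finite G] (S : Emb F G)

/-- The subfield alternative, with the normalising data. -/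
def SubfieldCase' : Prop :=
  ∃ (Θ : Tw F) (K₀ : Subfield F) (k : ℕ),
    (∃ u : G, (S.app Θ).φ u = tSL 1) ∧ (∃ w : G, (S.app Θ).m w 0 0 = 0) ∧
    (∀ g : G, ∃ μ : F, μ ≠ 0 ∧ ∀ i j, μ * (S.app Θ).m g i j ∈ K₀) ∧
    Nat.card G = Nat.card (center G) * (Nat.card K₀ * k * (Nat.card K₀ + 1)) ∧
    (∃ x y : G, x * y ≠ y * x) ∧
    ∃ (K : Type) (_ : Field K) (_ : Fintype K) (m : ℕ), Fintype.card K ^ m = Fintype.card F ∧
      Fintype.card K = Nat.card K₀ ∧
      ((2 * k + 1 = Nat.card K₀ ∧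
        Nonempty (G ⧸ center G ≃* Matrix.ProjectiveSpecialLinearGroup (Fin 2) K)) ∨
      (k + 1 = Nat.card K₀ ∧ Nonempty (G ⧸ center G ≃* Matrix.ProjGenLinGroup (Fin 2) K)))

/-- **Dickson's theorem, refined form**, with the normalising data in the subfield case. -/
theorem dickson_refined' (p : ℕ) [hpF : Fact p.Prime] [CharP F p] :
    (∀ y : G, ¬ sc (S.m y) → S.tr y ^ 2 ≠ 4) ∨
    (∃ Θ : Tw F, ∀ g, (S.app Θ).m g 1 0 = 0) ∨
    S.DihType ∨ (Small G 60 5 ∧ HasFive G ∧ p = 3) ∨ S.SubfieldCase' := by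
  by_cases hss : ∀ y : G, ¬ sc (S.m y) → S.tr y ^ 2 ≠ 4
  · exact Or.inl hss
  right
  push Not at hss
  obtain ⟨y, hy, htr⟩ := hss
  obtain ⟨Θ, u, hu, hsc, hcase⟩ := S.exists_normal_form' y hy htr
  set S' := S.app Θ with hS'
  rcases hcase with hall | ⟨w, hw⟩
  · exact Or.inl ⟨Θ, hall⟩
  right
  have hmu : S'.m u = !![1, 1; 0, 1] := by
    change ((S'.φ u : SpecialLinearGroup (Fin 2) F) : Matrix (Fin 2) (Fin 2) F) = _
    rw [hu, tSL_coe]
  have hw10 : S'.m w 1 0 ≠ 0 := by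
    intro h0
    have := S'.m_det' w
    rw [hw, h0] at this
    simp at this
  have hna : ∃ x y : G, x * y ≠ y * x := by
    refine ⟨w, u, ?_⟩
    intro h
    have h1 : S'.m (w * u) 0 0 = S'.m (u * w) 0 0 := by rw [h]
    rw [S'.m_mul_apply, S'.m_mul_apply, hmu, hw] at h1
    simp at h1
    exact hw10 h1.symm
  let U : UEmb F G :=
    { toEmb := S', a := u, τ := 1, hτ := one_ne_zero, ha := hu, hna := hna }
  have hnn : U.borel ≠ ⊤ := by
    intro h
    have : w ∈ U.borel := h ▸ mem_top w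
    exact U.not_mem_borel_of_zero hw this
  rcases U.caseII' (p := p) hnn with h | ⟨h, h5, h3⟩ | ⟨hidx, hk⟩
  · left
    obtain ⟨g, hg1, hg2⟩ := h
    refine ⟨g, ?_, hg2⟩
    rw [← S.app_tr Θ g]
    exact hg1
  · right; left
    refine ⟨h, h5, ?_⟩
    obtain ⟨n, hn⟩ := IsPGroup.iff_card.mp (U.isPGroup_unip (p := p))
    rw [h3] at hn
    exact ((Nat.Prime.pow_eq_iff Nat.prime_three).mp hn.symm).1
  · right; right
    obtain ⟨K, hKf, hKt, m, hm, hcK, hiso⟩ := U.exists_field' (p := p) rfl hk hidx hw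
    have hcK0 : Nat.card U.K0 = Nat.card U.unip := U.card_K0 (p := p) rfl hk
    refine ⟨Θ, U.K0, U.kk, ⟨u, hu⟩, ⟨w, hw⟩,
      fun g => U.exists_scalar (p := p) rfl hk hidx hw g, ?_, hna,
      K, hKf, hKt, m, hm, hcK, ?_⟩
    · rw [hcK0, ← Subgroup.card_mul_index U.borel, U.card_borel', hidx]
      ring
    · rw [hcK0]
      exact hiso

end Emb

end Cfsg.Agent.Lib.Helper13.Dk
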