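import Cfsg.Agent.Lib.Helper13.DkMax
import Cfsg.Agent.Lib.Helper13.PSL2Subfield
import Cfsg.Agent.Lib.Helper15.PerfectIndex
import Cfsg.Agent.Lib.Lead.CharBurnside

/-!
# Solvability facts for Dickson-type arguments
-/

set_option autoImplicit false

namespace Cfsg.Agent.Lib.Helper13.Dk

open Matrix Subgroup

/-- Dihedral groups are solvable. -/
theorem isSolvable_dihedral (k : ℕ) : Group.IsSolvable (DihedralGroup k) := by
  let R : Subgroup (DihedralGroup k) :=
    { carrier := {x | ∃ i, x = DihedralGroup.r i}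
      one_mem' := ⟨0, rfl⟩
      mul_mem' := by
        rintro _ _ ⟨i, rfl⟩ ⟨j, rfl⟩
        exact ⟨i + j, rfl⟩
      inv_mem' := by
        rintro _ ⟨i, rfl⟩
        exact ⟨-i, rfl⟩ }
  have hR : ∀ x : DihedralGroup k, x ∈ R ↔ ∃ i, x = DihedralGroup.r i := fun x => Iff.rfl
  rw [Group.isSolvable_def]
  refine ⟨2, ?_⟩
  have h1 : derivedSeries (DihedralGroup k) 1 ≤ R := by
    rw [derivedSeries_succ, derivedSeries_zero, Subgroup.commutator_le]
    intro a _ b _
    rw [hR, commutatorElement_def]
    rcases a with i | i <;> rcases b with j | j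
    · exact ⟨i + j + -i + -j, rfl⟩
    · exact ⟨i + i, by
        show DihedralGroup.r i * DihedralGroup.sr j * DihedralGroup.r (-i) * DihedralGroup.sr j = _
        simp only [DihedralGroup.r_mul_sr, DihedralGroup.sr_mul_r, DihedralGroup.sr_mul_sr]
        congr 1; ring⟩
    · exact ⟨-j + -j, by
        show DihedralGroup.sr i * DihedralGroup.r j * DihedralGroup.sr i * DihedralGroup.r (-j) = _
        simp only [DihedralGroup.r_mul_sr, DihedralGroup.sr_mul_r, DihedralGroup.sr_mul_sr,
          DihedralGroup.r_mul_r]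
        congr 1; ring⟩
    · exact ⟨j - i + (j - i), by
        show DihedralGroup.sr i * DihedralGroup.sr j * DihedralGroup.sr i * DihedralGroup.sr j = _
        simp only [DihedralGroup.r_mul_sr, DihedralGroup.sr_mul_r, DihedralGroup.sr_mul_sr,
          DihedralGroup.r_mul_r]
        congr 1; ring⟩
  rw [derivedSeries_succ, eq_bot_iff]
  refine (Subgroup.commutator_mono h1 h1).trans ?_
  rw [Subgroup.commutator_le]
  rintro _ ⟨i, rfl⟩ _ ⟨j, rfl⟩
  rw [Subgroup.mem_bot, commutatorElement_def]
  show DihedralGroup.r i * DihedralGroup.r j * DihedralGroup.r (-i) * DihedralGroup.r (-j) = 1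
  simp only [DihedralGroup.r_mul_r, DihedralGroup.one_def]
  congr 1; ring

/-- A group whose commutator subgroup is a `p`-group is solvable. -/
theorem isSolvable_of_isPGroup_commutator {X : Type*} [Group X] [Finite X] (p : ℕ)
    [Fact p.Prime] (h : IsPGroup p (commutator X)) : Group.IsSolvable X := by
  have : Group.IsNilpotent (commutator X) := h.isNilpotent
  have : Group.IsSolvable (commutator X) := inferInstance
  have : Group.IsSolvable (Abelianization X) := inferInstance
  refine Group.isSolvable_of_ker_le_range (commutator X).subtype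
    (Abelianization.of (G := X)) ?_
  rw [Abelianization.ker_of, Subgroup.range_subtype]

/-- `A₅` is not solvable. -/
theorem not_isSolvable_alt5 : ¬ Group.IsSolvable (alternatingGroup (Fin 5)) := by
  intro h
  apply Equiv.Perm.not_isSolvable_fin_5
  refine Group.isSolvable_of_ker_le_range (alternatingGroup (Fin 5)).subtype
    (Equiv.Perm.sign (α := Fin 5)) ?_
  rw [Subgroup.range_subtype]
  exact le_of_eq rfl

variable {K : Type*} [Field K] [Fintype K]

theorem exists_sq_ne_one (h4 : 4 ≤ Fintype.card K) : ∃ a : K, a ≠ 0 ∧ a ^ 2 ≠ 1 := by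
  classical
  obtain ⟨s, hs⟩ : ∃ s : K, s ∉ ({0, 1, -1} : Finset K) := by
    by_contra hcon
    push Not at hcon
    have : (Finset.univ : Finset K) ⊆ {0, 1, -1} := fun x _ => hcon x
    have h1 := Finset.card_le_card this
    have h2 : ({0, 1, -1} : Finset K).card ≤ 3 := Finset.card_le_three
    rw [Finset.card_univ] at h1
    omega
  simp only [Finset.mem_insert, Finset.mem_singleton, not_or] at hs
  refine ⟨s, hs.1, fun h => ?_⟩
  have : (s - 1) * (s + 1) = 0 := by ring_nf; rw [h]; ring
  rcases mul_eq_zero.mp this with h' | h'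
  · exact hs.2.1 (sub_eq_zero.mp h')
  · exact hs.2.2 (eq_neg_of_add_eq_zero_left h')

/-- `PSL₂(K)` is not solvable for `|K| ≥ 4`. -/
theorem not_isSolvable_PSL2 (h4 : 4 ≤ Fintype.card K) :
    ¬ Group.IsSolvable (Matrix.ProjectiveSpecialLinearGroup (Fin 2) K) := by
  intro hs
  have h1 := SL2Simple.PSL_commutator_eq_top (exists_sq_ne_one h4)
  have h2 := Group.IsSolvable.commutator_lt_top_of_nontrivial
    (Matrix.ProjectiveSpecialLinearGroup (Fin 2) K)
  exact h2.ne h1

/-- `PSL₂(K)` is not commutative for `|K| ≥ 4`. -/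
theorem not_comm_PSL2 (h4 : 4 ≤ Fintype.card K) :
    ¬ IsMulCommutative (Matrix.ProjectiveSpecialLinearGroup (Fin 2) K) := by
  intro hc
  exact not_isSolvable_PSL2 h4 (Group.isSolvable_of_comm (fun a b => hc.is_comm.comm a b))

end Cfsg.Agent.Lib.Helper13.Dk
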