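import Mathlib

set_option autoImplicit false

/-!
# The Frobenius double count

A finite group `F` acting on `X` such that every non-identity element fixes at most one point of the
union of two distinct orbits: at most one of the two orbits is non-regular.
-/

namespace Cfsg.Agent.Lib.Helper13.F2Count

open MulAction Subgroup

variable {F : Type*} [Group F] {X : Type*} [MulAction F X]

/-- number of non-identity elements of a point stabilizer, as a filter -/
theorem card_filter_stab (x : X) [Fintype F] [DecidableEq F] [DecidableEq X] :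
    (Finset.univ.filter (fun f : F => f • x = x ∧ f ≠ 1)).card + 1 =
      Nat.card (stabilizer F x) := by
  classical
  have h1 : (Finset.univ.filter (fun f : F => f • x = x ∧ f ≠ 1)) =
      (Finset.univ.filter (fun f : F => f ∈ stabilizer F x)).erase 1 := by
    ext f
    simp only [Finset.mem_filter, Finset.mem_univ, true_and, Finset.mem_erase,
      MulAction.mem_stabilizer_iff]
    tauto
  rw [h1, Finset.card_erase_of_mem (by simp), Nat.card_eq_fintype_card, Fintype.card_subtype]
  have : 0 < (Finset.univ.filter (fun f : F => f ∈ stabilizer F x)).card :=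
    Finset.card_pos.mpr ⟨1, by simp⟩
  omega

theorem card_orbit_mul_card_stabilizer [Finite F] (δ : X) :
    Nat.card (orbit F δ) * Nat.card (stabilizer F δ) = Nat.card F := by
  rw [Nat.card_coe_set_eq, ← MulAction.index_stabilizer, mul_comm, Subgroup.card_mul_index]

variable [Finite F]

/-- **Frobenius count.** -/
theorem stabilizer_eq_bot_of_orbits (β γ : X)
    (h1 : ∀ f : F, f ≠ 1 → ∀ x ∈ orbit F β ∪ orbit F γ, ∀ y ∈ orbit F β ∪ orbit F γ,
      f • x = x → f • y = y → x = y)
    (hne : γ ∉ orbit F β) (hA : stabilizer F β ≠ ⊥) : stabilizer F γ = ⊥ := by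
  classical
  by_contra hB
  let _ : Fintype F := Fintype.ofFinite F
  have hfin : ∀ δ : X, Finite (orbit F δ) := fun δ => (Set.finite_range _).to_subtype
  let _ : ∀ δ : X, Fintype (orbit F δ) := fun δ => Fintype.ofFinite _
  set Oβ : Finset X := (orbit F β).toFinset with hOβ
  set Oγ : Finset X := (orbit F γ).toFinset with hOγ
  set t : X → Finset F := fun x => Finset.univ.filter (fun f : F => f • x = x ∧ f ≠ 1) with ht
  have hdisjO : Disjoint Oβ Oγ := by
    rw [Finset.disjoint_left]
    intro x hxβ hxγ
    rw [hOβ, Set.mem_toFinset] at hxβ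
    rw [hOγ, Set.mem_toFinset] at hxγ
    apply hne
    rw [← MulAction.orbit_eq_iff] at hxβ hxγ ⊢
    rw [← hxγ, hxβ]
  -- pairwise disjointness
  have hpd : ∀ x ∈ Oβ ∪ Oγ, ∀ y ∈ Oβ ∪ Oγ, x ≠ y → Disjoint (t x) (t y) := by
    intro x hx y hy hxy
    rw [Finset.disjoint_left]
    intro f hfx hfy
    simp only [ht, Finset.mem_filter, Finset.mem_univ, true_and] at hfx hfy
    apply hxy
    have hx' : x ∈ orbit F β ∪ orbit F γ := by
      simpa [hOβ, hOγ] using hx
    have hy' : y ∈ orbit F β ∪ orbit F γ := by
      simpa [hOβ, hOγ] using hy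
    exact h1 f hfx.2 x hx' y hy' hfx.1 hfy.1
  have hcard := Finset.card_biUnion hpd
  have hle : ((Oβ ∪ Oγ).biUnion t).card ≤ (Finset.univ.erase (1 : F)).card := by
    apply Finset.card_le_card
    intro f hf
    simp only [Finset.mem_biUnion, ht, Finset.mem_filter, Finset.mem_univ, true_and] at hf
    obtain ⟨x, _, _, hf1⟩ := hf
    simp [hf1]
  rw [Finset.card_erase_of_mem (Finset.mem_univ _), Finset.card_univ,
    ← Nat.card_eq_fintype_card] at hle
  rw [hcard, Finset.sum_union hdisjO] at hle
  -- sums over the orbits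
  have hsum : ∀ δ : X, ∑ x ∈ (orbit F δ).toFinset, (t x).card + Nat.card (orbit F δ) =
      Nat.card F := by
    intro δ
    have hconst : ∀ x ∈ (orbit F δ).toFinset, (t x).card = Nat.card (stabilizer F δ) - 1 := by
      intro x hx
      rw [Set.mem_toFinset] at hx
      have h2 := card_filter_stab (F := F) x
      have h3 := card_orbit_mul_card_stabilizer (F := F) x
      have h4 := card_orbit_mul_card_stabilizer (F := F) δ
      rw [MulAction.orbit_eq_iff.mpr hx] at h3
      have h5 : Nat.card (stabilizer F x) = Nat.card (stabilizer F δ) := by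
        have : Nonempty (orbit F δ) := ⟨⟨δ, MulAction.mem_orbit_self δ⟩⟩
        have hpos : 0 < Nat.card (orbit F δ) := Nat.card_pos
        exact Nat.eq_of_mul_eq_mul_left hpos (h3.trans h4.symm)
      simp only [ht]
      omega
    rw [Finset.sum_congr rfl hconst, Finset.sum_const, smul_eq_mul, Set.toFinset_card,
      ← Nat.card_eq_fintype_card]
    have h4 := card_orbit_mul_card_stabilizer (F := F) δ
    have hpos : 0 < Nat.card (stabilizer F δ) := Nat.card_pos
    rw [← h4, Nat.mul_sub, mul_one]
    have : Nat.card (orbit F δ) ≤ Nat.card (orbit F δ) * Nat.card (stabilizer F δ) :=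
      Nat.le_mul_of_pos_right _ hpos
    omega
  -- orbits are at most half of F
  have hhalf : ∀ δ : X, stabilizer F δ ≠ ⊥ → 2 * Nat.card (orbit F δ) ≤ Nat.card F := by
    intro δ hδ
    have h4 := card_orbit_mul_card_stabilizer (F := F) δ
    have h2 : 2 ≤ Nat.card (stabilizer F δ) := by
      have hne1 : Nat.card (stabilizer F δ) ≠ 1 := fun h => hδ (Subgroup.card_eq_one.mp h)
      have hpos : 0 < Nat.card (stabilizer F δ) := Nat.card_pos
      omega
    calc 2 * Nat.card (orbit F δ) = Nat.card (orbit F δ) * 2 := by ring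
      _ ≤ Nat.card (orbit F δ) * Nat.card (stabilizer F δ) := Nat.mul_le_mul_left _ h2
      _ = Nat.card F := h4
  have hβ : ∑ x ∈ Oβ, (t x).card + Nat.card (orbit F β) = Nat.card F := hsum β
  have hγ : ∑ x ∈ Oγ, (t x).card + Nat.card (orbit F γ) = Nat.card F := hsum γ
  have hhβ := hhalf β hA
  have hhγ := hhalf γ hB
  have hFpos : 0 < Nat.card F := Nat.card_pos
  omega


/-- three fixed points of a non-identity element in a fixity-2 action: two coincide -/
theorem eq_of_three_fixed {G : Type*} [Group G] {Ω : Type*} [Finite Ω] [MulAction G Ω]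
    (g : G) (hg : Nat.card (MulAction.fixedBy Ω g) ≤ 2) (x y z : Ω)
    (hx : g • x = x) (hy : g • y = y) (hz : g • z = z) : x = y ∨ x = z ∨ y = z := by
  classical
  by_contra hcon
  push Not at hcon
  obtain ⟨hxy, hxz, hyz⟩ := hcon
  have hsub : ({x, y, z} : Set Ω) ⊆ MulAction.fixedBy Ω g := by
    intro w hw
    simp only [Set.mem_insert_iff, Set.mem_singleton_iff] at hw
    rcases hw with rfl | rfl | rfl <;> assumption
  have h3 : ({x, y, z} : Set Ω).ncard = 3 := Set.ncard_eq_three.mpr ⟨x, y, z, hxy, hxz, hyz, rfl⟩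
  have := Set.ncard_le_ncard hsub (Set.toFinite _)
  rw [h3, ← Nat.card_coe_set_eq] at this
  omega

/-- **Frobenius count in a fixity-2 action**: inside the point stabilizer `G_α`, at most one orbit on
`Ω ∖ {α}` is non-regular. -/
theorem two_point_stabilizer_eq_bot {G : Type*} [Group G] [Finite G] {Ω : Type*} [MulAction G Ω]
    (hfix : ∀ g : G, g ≠ 1 → ∀ x y z : Ω, g • x = x → g • y = y → g • z = z →
      x = y ∨ x = z ∨ y = z)
    (α β γ : Ω) (hβ : β ≠ α) (hγ : γ ≠ α)
    (hne : γ ∉ orbit (stabilizer G α) β)
    (hA : stabilizer G α ⊓ stabilizer G β ≠ ⊥) :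
    stabilizer G α ⊓ stabilizer G γ = ⊥ := by
  classical
  -- translate to the group F = G_α
  have hstab : ∀ δ : Ω, stabilizer (stabilizer G α) δ = ⊥ ↔ stabilizer G α ⊓ stabilizer G δ = ⊥ := by
    intro δ
    constructor
    · intro h
      rw [eq_bot_iff]
      intro g hg
      rw [Subgroup.mem_inf] at hg
      have : (⟨g, hg.1⟩ : stabilizer G α) ∈ stabilizer (stabilizer G α) δ := by
        rw [MulAction.mem_stabilizer_iff]
        exact MulAction.mem_stabilizer_iff.mp hg.2
      rw [h, Subgroup.mem_bot] at this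
      rw [Subgroup.mem_bot]
      exact congrArg Subtype.val this
    · intro h
      rw [eq_bot_iff]
      intro g hg
      rw [MulAction.mem_stabilizer_iff] at hg
      have : (g : G) ∈ stabilizer G α ⊓ stabilizer G δ :=
        Subgroup.mem_inf.mpr ⟨g.2, MulAction.mem_stabilizer_iff.mpr hg⟩
      rw [h, Subgroup.mem_bot] at this
      rw [Subgroup.mem_bot]
      exact Subtype.ext this
  rw [← hstab]
  apply stabilizer_eq_bot_of_orbits (F := stabilizer G α) β γ ?_ hne
  · rw [Ne, hstab]; exact hA
  · intro f hf x hx y hy hfx hfy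
    have hf' : (f : G) ≠ 1 := fun h => hf (Subtype.ext h)
    have key : ∀ (u : stabilizer G α) (δ : Ω), (u : G) • δ = α → δ = α := by
      intro u δ h
      have hu : (u : G) • α = α := MulAction.mem_stabilizer_iff.mp u.2
      have : (u : G) • δ = (u : G) • α := by rw [h, hu]
      exact smul_left_cancel _ this
    have hxα : x ≠ α := by
      intro hxe
      rcases hx with ⟨u, hu⟩ | ⟨u, hu⟩
      · exact hβ (key u β (hu.trans hxe))
      · exact hγ (key u γ (hu.trans hxe))
    have hyα : y ≠ α := by
      intro hye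
      rcases hy with ⟨u, hu⟩ | ⟨u, hu⟩
      · exact hβ (key u β (hu.trans hye))
      · exact hγ (key u γ (hu.trans hye))
    have hfα : (f : G) • α = α := MulAction.mem_stabilizer_iff.mp f.2
    rcases hfix (f : G) hf' α x y hfα hfx hfy with h | h | h
    · exact absurd h.symm hxα
    · exact absurd h.symm hyα
    · exact h

end Cfsg.Agent.Lib.Helper13.F2Count
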