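import Mathlib

set_option autoImplicit false

/-!
# Transfer into a quotient of order two, controlled by fixed points

`S` a Sylow 2-subgroup of a finite group `G` acting on `Ω`, `T ≤ S` of index 2 such that an element
of `S` lies in `T` iff it fixes a point of `Ω`.  Then `G` has a normal subgroup `N` of index 2 with
`N ⊓ S = T` containing every point stabilizer.
-/

namespace Cfsg.Agent.Lib.Helper13.F2Transfer

open MulAction Subgroup

variable {G : Type*} [Group G]

/-- the sign character of a subgroup of index two -/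
noncomputable def signHom (S T : Subgroup G) (hidx : T.relIndex S = 2) : ↥S →* ℤˣ := by
  classical
  exact
  { toFun := fun s => if (s : G) ∈ T then 1 else -1
    map_one' := by simp [T.one_mem]
    map_mul' := by
      intro a b
      have h := Subgroup.mul_mem_iff_of_index_two (H := T.subgroupOf S) hidx (a := a) (b := b)
      simp only [Subgroup.mem_subgroupOf, Subgroup.coe_mul] at h
      by_cases ha : (a : G) ∈ T <;> by_cases hb : (b : G) ∈ T <;> simp_all }

theorem signHom_apply_of_mem (S T : Subgroup G) (hidx : T.relIndex S = 2) (s : ↥S)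
    (h : (s : G) ∈ T) : signHom S T hidx s = 1 := by
  classical
  simp [signHom, h]

theorem signHom_apply_of_not_mem (S T : Subgroup G) (hidx : T.relIndex S = 2) (s : ↥S)
    (h : (s : G) ∉ T) : signHom S T hidx s = -1 := by
  classical
  simp [signHom, h]


variable [Finite G] {Ω : Type*} [MulAction G Ω]

/-- elements fixing a point are killed by the transfer -/
theorem transfer_eq_one_of_fixes (S T : Subgroup G) (hidx : T.relIndex S = 2)
    (hT : ∀ s ∈ S, (∃ ω : Ω, s • ω = ω) → s ∈ T) (g : G) (ω : Ω) (hg : g • ω = ω) :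
    MonoidHom.transfer (signHom S T hidx) g = 1 := by
  classical
  let _ : Fintype (Quotient (orbitRel (zpowers g) (G ⧸ S))) := Fintype.ofFinite _
  rw [MonoidHom.transfer_eq_prod_quotient_orbitRel_zpowers_quot]
  apply Finset.prod_eq_one
  intro q _
  apply signHom_apply_of_mem
  apply hT _ (QuotientGroup.out_conj_pow_minimalPeriod_mem S g q.out)
  refine ⟨(q.out.out)⁻¹ • ω, ?_⟩
  have hpow : ∀ n : ℕ, g ^ n • ω = ω := by
    intro n
    induction n with
    | zero => simp
    | succ k ih => rw [pow_succ, mul_smul, hg, ih]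
  rw [smul_smul, mul_assoc, mul_assoc, mul_inv_cancel, mul_one, mul_smul, hpow]


omit [Finite G] in
theorem pow_smul_of_smul (g : G) (ω : Ω) (hg : g • ω = ω) (n : ℕ) : g ^ n • ω = ω := by
  induction n with
  | zero => simp
  | succ k ih => rw [pow_succ, mul_smul, hg, ih]

/-- elements of `S` outside `T` are mapped to `-1` by the transfer -/
theorem transfer_eq_neg_one (S : Sylow 2 G) (T : Subgroup G) (hidx : T.relIndex S = 2)
    (hT : ∀ s ∈ (S : Subgroup G), s ∈ T ↔ ∃ ω : Ω, s • ω = ω) (y : G)
    (hyS : y ∈ (S : Subgroup G)) (hyT : y ∉ T) :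
    MonoidHom.transfer (signHom (S : Subgroup G) T hidx) y = -1 := by
  classical
  have : Fact (Nat.Prime 2) := ⟨Nat.prime_two⟩
  let _ : Fintype (Quotient (orbitRel (zpowers y) (G ⧸ (S : Subgroup G)))) := Fintype.ofFinite _
  rw [MonoidHom.transfer_eq_prod_quotient_orbitRel_zpowers_quot]
  -- y² ∈ T
  have hsq : y ^ 2 ∈ T := by
    have := Subgroup.sq_mem_of_index_two (H := T.subgroupOf S) hidx ⟨y, hyS⟩
    simpa [Subgroup.mem_subgroupOf] using this
  -- order of y
  obtain ⟨k, hk⟩ := (IsPGroup.iff_orderOf (p := 2)).mp S.2 ⟨y, hyS⟩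
  rw [Subgroup.orderOf_mk] at hk
  have hfactor : ∀ q : Quotient (orbitRel (zpowers y) (G ⧸ (S : Subgroup G))),
      signHom (S : Subgroup G) T hidx
        ⟨q.out.out⁻¹ * y ^ Function.minimalPeriod (y • ·) q.out * q.out.out,
          QuotientGroup.out_conj_pow_minimalPeriod_mem (S : Subgroup G) y q.out⟩ =
      (-1) ^ Function.minimalPeriod (y • ·) q.out := by
    intro q
    set n := Function.minimalPeriod (y • ·) q.out with hn
    set x := q.out.out with hx
    have hmem : x⁻¹ * y ^ n * x ∈ (S : Subgroup G) :=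
      QuotientGroup.out_conj_pow_minimalPeriod_mem (S : Subgroup G) y q.out
    rcases Nat.even_or_odd n with he | ho
    · rw [he.neg_one_pow]
      apply signHom_apply_of_mem
      obtain ⟨m, hm⟩ := he
      have h1 : y ^ n ∈ T := by
        rw [hm, ← two_mul, pow_mul]; exact T.pow_mem hsq m
      obtain ⟨ω, hω⟩ := (hT _ ((S : Subgroup G).pow_mem hyS n)).mp h1
      apply (hT _ hmem).mpr
      refine ⟨x⁻¹ • ω, ?_⟩
      rw [smul_smul, mul_assoc, mul_assoc, mul_inv_cancel, mul_one, mul_smul, hω]
    · rw [ho.neg_one_pow]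
      apply signHom_apply_of_not_mem
      intro hmemT
      obtain ⟨ω, hω⟩ := (hT _ hmem).mp hmemT
      -- y^n fixes x • ω
      have h2 : y ^ n • (x • ω) = x • ω := by
        have : x • ((x⁻¹ * y ^ n * x) • ω) = x • ω := by rw [hω]
        rwa [smul_smul, mul_assoc, mul_inv_cancel_left, mul_smul] at this
      have hcop : n.Coprime (orderOf y) := by
        rw [hk]
        exact Nat.Coprime.pow_right k (Nat.coprime_two_right.mpr ho)
      obtain ⟨m, hm⟩ := exists_pow_eq_self_of_coprime hcop
      have h3 : y • (x • ω) = x • ω := by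
        have := pow_smul_of_smul (y ^ n) (x • ω) h2 m
        rwa [hm] at this
      exact hyT ((hT y hyS).mpr ⟨_, h3⟩)
  rw [Finset.prod_congr rfl (fun q _ => hfactor q), Finset.prod_pow_eq_pow_sum,
    ← Subgroup.index_eq_sum_minimalPeriod (S : Subgroup G) y]
  have hodd : Odd (S : Subgroup G).index := by
    rw [← Nat.not_even_iff_odd, even_iff_two_dvd]
    exact S.not_dvd_index
  exact hodd.neg_one_pow


/-- **Transfer into order two.**  If `T ≤ S` has index 2 in the Sylow 2-subgroup `S` and an element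
of `S` lies in `T` iff it fixes a point, then `G` has a normal subgroup `N` of index 2 with
`N ⊓ S = T` that contains every point stabilizer. -/
theorem exists_normal_index_two (S : Sylow 2 G) (T : Subgroup G) (hidx : T.relIndex S = 2)
    (hT : ∀ s ∈ (S : Subgroup G), s ∈ T ↔ ∃ ω : Ω, s • ω = ω) :
    ∃ N : Subgroup G, N.Normal ∧ N.index = 2 ∧ N ⊓ (S : Subgroup G) = T ⊓ (S : Subgroup G) ∧
      (∀ ω : Ω, MulAction.stabilizer G ω ≤ N) ∧ ∀ s ∈ (S : Subgroup G), s ∉ T → s ∉ N := by
  classical
  set τ : G →* ℤˣ := MonoidHom.transfer (signHom (S : Subgroup G) T hidx) with hτ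
  have hfix : ∀ (g : G) (ω : Ω), g • ω = ω → τ g = 1 := fun g ω hg =>
    transfer_eq_one_of_fixes (S : Subgroup G) T hidx (fun s hs h => (hT s hs).mpr h) g ω hg
  have hneg : ∀ s ∈ (S : Subgroup G), s ∉ T → τ s = -1 := fun s hs hsT =>
    transfer_eq_neg_one S T hidx hT s hs hsT
  have hout : ∀ s ∈ (S : Subgroup G), s ∉ T → s ∉ τ.ker := by
    intro s hs hsT hker
    rw [MonoidHom.mem_ker, hneg s hs hsT] at hker
    exact absurd hker (by decide)
  refine ⟨τ.ker, inferInstance, ?_, ?_, ?_, hout⟩
  · -- index two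
    rw [Subgroup.index_ker]
    have hex : ∃ y ∈ (S : Subgroup G), y ∉ T := by
      by_contra hcon
      push Not at hcon
      have : (S : Subgroup G) ≤ T := hcon
      have := Subgroup.relIndex_eq_one.mpr this
      omega
    obtain ⟨y, hyS, hyT⟩ := hex
    have htop : τ.range = ⊤ := by
      rw [eq_top_iff]
      intro u _
      rcases Int.units_eq_one_or u with rfl | rfl
      · exact τ.range.one_mem
      · exact ⟨y, hneg y hyS hyT⟩
    rw [htop, Subgroup.card_top]
    simp
  · ext s
    simp only [Subgroup.mem_inf]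
    constructor
    · rintro ⟨hsN, hsS⟩
      refine ⟨?_, hsS⟩
      by_contra hsT
      exact hout s hsS hsT hsN
    · rintro ⟨hsT, hsS⟩
      obtain ⟨ω, hω⟩ := (hT s hsS).mp hsT
      exact ⟨MonoidHom.mem_ker.mpr (hfix s ω hω), hsS⟩
  · intro ω g hg
    exact MonoidHom.mem_ker.mpr (hfix g ω (MulAction.mem_stabilizer_iff.mp hg))

end Cfsg.Agent.Lib.Helper13.F2Transfer
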