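import Mathlib
import Cfsg.Prelude.Def_Solvable
import Cfsg.Agent.Lib.Helper26.F2Defs
import Cfsg.Agent.Lib.Helper13.F2Transfer
import Cfsg.Agent.Lib.Helper13.F2Count

set_option autoImplicit false

/-! # S3390: the regular case in one theorem (transfer + Frobenius count) -/

namespace Cfsg.Agent.Lib.Helper13.F2Alt

open Cfsg.Agent.Lib.Helper26.F2 MulAction Subgroup

variable {G : Type*} [Group G] [Finite G] {Ω : Type*} [MulAction G Ω]

/-- a point stabilizer meeting each of its `N`-conjugates trivially is a Frobenius complement of `N` -/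
theorem isFrobeniusComplement_of_regular (N : Subgroup G) (α : Ω)
    (hle : stabilizer G α ≤ N) (hne : stabilizer G α ≠ ⊥) (hmove : ∃ g ∈ N, g • α ≠ α)
    (hreg : ∀ g ∈ N, g • α ≠ α → stabilizer G α ⊓ stabilizer G (g • α) = ⊥) :
    Cfsg.IsFrobeniusComplement ((stabilizer G α).subgroupOf N) := by
  refine ⟨?_, ?_, ?_⟩
  · intro h
    rw [Subgroup.subgroupOf_eq_bot] at h
    apply hne
    rw [eq_bot_iff]
    intro g hg
    exact h.le_bot ⟨hg, hle hg⟩
  · intro h
    rw [Subgroup.subgroupOf_eq_top] at h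
    obtain ⟨g, hgN, hg⟩ := hmove
    exact hg (h hgN)
  · intro n hn
    rw [eq_bot_iff]
    intro z hz
    rw [Subgroup.mem_inf] at hz
    obtain ⟨hz1, hz2⟩ := hz
    rw [Subgroup.mem_pointwise_smul_iff_inv_smul_mem] at hz2
    rw [Subgroup.mem_subgroupOf] at hz1 hz2 hn
    have hnα : (n : G) • α ≠ α := hn
    have hzα : (z : G) • α = α := hz1
    have hz2' : ((n : G)⁻¹ * (z : G) * (n : G)) • α = α := by
      have : ((MulAut.conj n)⁻¹ • z : ↥N) = n⁻¹ * z * n := by
        rw [MulAut.smul_def, MulAut.conj_inv_apply]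
      rw [this] at hz2
      exact hz2
    have hznα : (z : G) • ((n : G) • α) = (n : G) • α := by
      have := congrArg (fun w => (n : G) • w) hz2'
      simp only [smul_smul] at this
      rw [mul_assoc, mul_inv_cancel_left] at this
      rw [smul_smul]
      exact this
    have hmem : (z : G) ∈ stabilizer G α ⊓ stabilizer G ((n : G) • α) := ⟨hzα, hznα⟩
    rw [hreg n n.2 hnα, Subgroup.mem_bot] at hmem
    rw [Subgroup.mem_bot]
    exact Subtype.ext hmem


/-- **S3390, regular case**: if `T = S_α` has index 2 in the Sylow 2-subgroup `S`, `S_β = T` for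
`β = y • α ≠ α` and every other `S_ω` is trivial, then `G` has a normal Frobenius subgroup of index 2
(with complement `G_α`). -/
theorem exists_frobenius_normal (htr : MulAction.IsPretransitive G Ω) [FaithfulSMul G Ω]
    (hfix3 : Fix3 G Ω) (S : Sylow 2 G) (α β : Ω) (hβα : β ≠ α)
    (hT : (S : Subgroup G) ⊓ stabilizer G α ≠ ⊥)
    (hidx : ((S : Subgroup G) ⊓ stabilizer G α).relIndex (S : Subgroup G) = 2)
    (hTβ : (S : Subgroup G) ⊓ stabilizer G β = (S : Subgroup G) ⊓ stabilizer G α)
    (y : G) (hyS : y ∈ (S : Subgroup G)) (hyα : y • α = β)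
    (hst : ∀ ω : Ω, (S : Subgroup G) ⊓ stabilizer G ω = (S : Subgroup G) ⊓ stabilizer G α ∨
      (S : Subgroup G) ⊓ stabilizer G ω = ⊥) :
    ∃ N : Subgroup G, N.Normal ∧ N.index = 2 ∧
      ∃ H : Subgroup ↥N, Cfsg.IsFrobeniusComplement H := by
  classical
  have hTiff : ∀ s ∈ (S : Subgroup G), s ∈ (S : Subgroup G) ⊓ stabilizer G α ↔
      ∃ ω : Ω, s • ω = ω := by
    intro s hs
    constructor
    · intro h
      exact ⟨α, h.2⟩
    · rintro ⟨ω, hω⟩
      have hmem : s ∈ (S : Subgroup G) ⊓ stabilizer G ω := ⟨hs, hω⟩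
      rcases hst ω with h | h
      · rwa [h] at hmem
      · rw [h, Subgroup.mem_bot] at hmem
        rw [hmem]
        exact Subgroup.one_mem _
  obtain ⟨N, hNn, hN2, hNS, hstabN, hout⟩ :=
    Cfsg.Agent.Lib.Helper13.F2Transfer.exists_normal_index_two S
      ((S : Subgroup G) ⊓ stabilizer G α) hidx hTiff
  have hle : stabilizer G α ≤ N := hstabN α
  -- a non-identity element of `T`
  obtain ⟨⟨t, htT'⟩, ht1⟩ := (Subgroup.ne_bot_iff_exists_ne_one).mp hT
  have ht1' : t ≠ 1 := fun h => ht1 (Subtype.ext h)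
  have htα : t • α = α := htT'.2
  have htβ : t • β = β := by
    have : t ∈ (S : Subgroup G) ⊓ stabilizer G β := by rw [hTβ]; exact htT'
    exact this.2
  -- `y ∉ N`
  have hyT : y ∉ (S : Subgroup G) ⊓ stabilizer G α := by
    intro h
    have h1 : y • α = α := h.2
    exact hβα (hyα ▸ h1)
  have hyN : y ∉ N := hout y hyS hyT
  -- `N` does not map `α` to `β`
  have horb : ∀ g ∈ N, g • α ≠ β := by
    intro g hg hgα
    apply hyN
    have h1 : (y⁻¹ * g) • α = α := by
      rw [mul_smul, hgα, ← hyα, inv_smul_smul]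
    have h2 : y⁻¹ * g ∈ N := hle h1
    have h3 : y⁻¹ ∈ N := by
      have := N.mul_mem h2 (N.inv_mem hg)
      simpa [mul_assoc] using this
    simpa using N.inv_mem h3
  -- `N` moves `α`
  have hmove : ∃ g ∈ N, g • α ≠ α := by
    by_contra hcon
    push Not at hcon
    -- `t` acts trivially
    apply ht1'
    apply FaithfulSMul.eq_of_smul_eq_smul (α := Ω)
    intro ω
    obtain ⟨g, rfl⟩ := MulAction.exists_smul_eq G α ω
    have htN : t ∈ N := hle htα
    have hconj : g⁻¹ * t * g ∈ N := by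
      have := hNn.conj_mem t htN g⁻¹
      simpa using this
    have := hcon _ hconj
    rw [one_smul]
    have h2 := congrArg (fun w => g • w) this
    simp only [smul_smul] at h2
    rw [mul_assoc, mul_inv_cancel_left] at h2
    rw [smul_smul]
    exact h2
  -- the Frobenius count
  have hfix : ∀ g : G, g ≠ 1 → ∀ x y z : Ω, g • x = x → g • y = y → g • z = z →
      x = y ∨ x = z ∨ y = z := by
    intro g hg x y z hx hy hz
    by_contra hcon
    push Not at hcon
    exact hfix3 g hg x y z hcon.1 hcon.2.1 hcon.2.2 hx hy hz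
  have hA : stabilizer G α ⊓ stabilizer G β ≠ ⊥ := by
    intro h
    have : t ∈ stabilizer G α ⊓ stabilizer G β := ⟨htα, htβ⟩
    rw [h, Subgroup.mem_bot] at this
    exact ht1' this
  have hreg : ∀ g ∈ N, g • α ≠ α → stabilizer G α ⊓ stabilizer G (g • α) = ⊥ := by
    intro g hg hgα
    apply Cfsg.Agent.Lib.Helper13.F2Count.two_point_stabilizer_eq_bot hfix α β (g • α) hβα hgα ?_ hA
    rintro ⟨h, hh⟩
    have hh' : (h : G) • β = g • α := hh
    apply horb ((h : G)⁻¹ * g) (N.mul_mem (N.inv_mem (hle h.2)) hg)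
    rw [mul_smul, ← hh', inv_smul_smul]
  have hne : stabilizer G α ≠ ⊥ := by
    intro h
    have : t ∈ stabilizer G α := htα
    rw [h, Subgroup.mem_bot] at this
    exact ht1' this
  exact ⟨N, hNn, hN2, _, isFrobeniusComplement_of_regular N α hle hne hmove hreg⟩

end Cfsg.Agent.Lib.Helper13.F2Alt
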