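import Mathlib
import Cfsg.Agent.Lib.Helper26.F2Defs
import Cfsg.Agent.Lib.Helper13.F2Transfer

set_option autoImplicit false

/-! # F2-IDX2 (S3390 market): normal subgroup of index 2 by transfer -/

namespace Cfsg.Agent.Lib.Helper13.F2IDX2

open Cfsg.Agent.Lib.Helper26.F2 MulAction Subgroup

variable {G : Type*} [Group G] [Finite G] {Ω : Type*} [Finite Ω] [MulAction G Ω]

/-- **F2-IDX2** transfer into `S/T`: a normal subgroup of index 2 meeting `S` in `T`. -/
theorem exists_normal_index_two (S : Sylow 2 G) (α : Ω)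
    (hidx : ((S : Subgroup G) ⊓ stabilizer G α).relIndex (S : Subgroup G) = 2)
    (hst : ∀ ω : Ω, (S : Subgroup G) ⊓ stabilizer G ω = (S : Subgroup G) ⊓ stabilizer G α ∨
      (S : Subgroup G) ⊓ stabilizer G ω = ⊥) :
    ∃ N : Subgroup G, N.Normal ∧ N.index = 2 ∧
      N ⊓ (S : Subgroup G) = (S : Subgroup G) ⊓ stabilizer G α := by
  have hT : ∀ s ∈ (S : Subgroup G), s ∈ (S : Subgroup G) ⊓ stabilizer G α ↔
      ∃ ω : Ω, s • ω = ω := by
    intro s hs
    constructor
    · intro h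
      exact ⟨α, h.2⟩
    · rintro ⟨ω, hω⟩
      have hmem : s ∈ (S : Subgroup G) ⊓ stabilizer G ω := ⟨hs, hω⟩
      rcases hst ω with h | h
      · rwa [h] at hmem
      · rw [h, Subgroup.mem_bot] at hmem
        rw [hmem]
        exact Subgroup.one_mem _
  obtain ⟨N, hNn, hN2, hNS, -, -⟩ :=
    Cfsg.Agent.Lib.Helper13.F2Transfer.exists_normal_index_two S
      ((S : Subgroup G) ⊓ stabilizer G α) hidx hT
  refine ⟨N, hNn, hN2, ?_⟩
  rw [hNS, inf_comm, ← inf_assoc, inf_idem]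

end Cfsg.Agent.Lib.Helper13.F2IDX2
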