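import Mathlib
import Cfsg.Prelude.Def_Classical
import Cfsg.Agent.Lib.Helper13.BSGSC
import Cfsg.Agent.Lib.Helper13.Fi22O7Cert
import Cfsg.Agent.Lib.Helper28.TCFi22W1Def
import Cfsg.Agent.Lib.Helper2.IsomReindex

/-!
# Eight negated reflections in `GO_7(3)` satisfying the relations of the sub-presentation of `Fi22`
on `b, …, i` (helper13)
-/

set_option autoImplicit false
set_option maxRecDepth 100000

namespace Cfsg.Agent.Lib.Helper13.Fi22O7

open Cfsg.Agent.Lib.Helper13.BS Cfsg.Agent.Lib.Helper4.A10 Matrix
open Cfsg.Agent.Lib.Helper28.TCFi22W1Def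

/-- the index type of the form -/
abbrev I7 : Type := Unit ⊕ (Fin 3 ⊕ Fin 3)

/-- the coordinates in order -/
def e7 : I7 ≃ Fin 7 where
  toFun
    | .inl _ => 0
    | .inr (.inl i) => ⟨i.1 + 1, by have := i.2; omega⟩
    | .inr (.inr i) => ⟨i.1 + 4, by have := i.2; omega⟩
  invFun k := if k.1 = 0 then .inl () else
    if h : k.1 < 4 then .inr (.inl ⟨k.1 - 1, by omega⟩)
    else .inr (.inr ⟨k.1 - 4, by have := k.2; omega⟩)
  left_inv := by decide
  right_inv := by decide

/-- the Gram matrix of the polar form -/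
def Gexp : I7 → I7 → ZMod 3
  | .inl _, .inl _ => 2
  | .inr (.inl i), .inr (.inr j) => if i = j then 1 else 0
  | .inr (.inr i), .inr (.inl j) => if i = j then 1 else 0
  | _, _ => 0

/-- its code -/
def J7 : ℕ := 2954763066713861984492

theorem gram_eq' : ∀ x y : I7, ((ent 3 7 J7 (e7 x) (e7 y) : ℕ) : ZMod 3) = Gexp x y := by decide

theorem gram_eq (x y : I7) : (decM e7 J7 : Matrix I7 I7 (ZMod 3)) x y = Gexp x y := gram_eq' x y

theorem form_eq (u : I7 → ZMod 3) :
    Cfsg.quadFormOdd 3 (ZMod 3) u =
      2 * (u ⬝ᵥ ((decM e7 J7 : Matrix I7 I7 (ZMod 3)) *ᵥ u)) := by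
  have h3 : (3 : ZMod 3) = 0 := by decide
  unfold Cfsg.quadFormOdd
  simp only [dotProduct, Matrix.mulVec, gram_eq, Fintype.sum_sum_type,
    Fin.sum_univ_three, Finset.univ_unique, Finset.sum_singleton, Gexp]
  simp
  linear_combination (-(u (Sum.inl ()) ^ 2 +
      (u (Sum.inr (Sum.inl 0)) * u (Sum.inr (Sum.inr 0)) +
        u (Sum.inr (Sum.inl 1)) * u (Sum.inr (Sum.inr 1)) +
        u (Sum.inr (Sum.inl 2)) * u (Sum.inr (Sum.inr 2))))) * h3

/-- check that the matrix coded by `c` (with transpose `ct`) preserves the Gram matrix -/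
def isoChk (c ct : ℕ) : Bool := chkT 3 7 c ct && (mulc 3 7 ct (mulc 3 7 J7 c) == J7)

theorem iso_of_chk {c ct : ℕ} (h : isoChk c ct = true) (u : I7 → ZMod 3) :
    Cfsg.quadFormOdd 3 (ZMod 3) ((decM e7 c : Matrix I7 I7 (ZMod 3)) *ᵥ u) =
      Cfsg.quadFormOdd 3 (ZMod 3) u := by
  rw [isoChk, Bool.and_eq_true, beq_iff_eq] at h
  rw [form_eq, form_eq, dot_of_gram]
  rw [decM_transpose e7 h.1, decM_mul e7 (by norm_num), decM_mul e7 (by norm_num), h.2]

theorem decM_of_chkOne {c : ℕ} (h : chkOne 3 7 c = true) :
    (decM e7 c : Matrix I7 I7 (ZMod 3)) = 1 := by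
  unfold decM
  rw [dec_one h, Matrix.submatrix_one_equiv]

/-- position of a generator in the list `L0` -/
def idx : Gen → ℕ
  | .b => 0
  | .c => 1
  | .d => 2
  | .e => 3
  | .f => 4
  | .g => 5
  | .h => 6
  | .i => 7

/-- code of the matrix of a generator -/
def gcode (x : Gen) : ℕ := L0.getD (idx x) one7

/-- codes of the transposes -/
def Lt0 : List ℕ := [159554363207344863127490, 59110573185774382026674, 5932944465311440035110,
  159570263444977577194814, 130232916123255610235766, 159557201622488833834790,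
  194003473708026231309326, 157259450433398788870616]

theorem gcode_mem (x : Gen) : gcode x ∈ L0 := by
  cases x <;> decide

theorem exists_gcode : ∀ c ∈ L0, ∃ x : Gen, gcode x = c := by
  intro c hc
  simp only [L0, List.mem_cons, List.mem_nil_iff, or_false] at hc
  rcases hc with rfl | rfl | rfl | rfl | rfl | rfl | rfl | rfl
  exacts [⟨.b, rfl⟩, ⟨.c, rfl⟩, ⟨.d, rfl⟩, ⟨.e, rfl⟩, ⟨.f, rfl⟩, ⟨.g, rfl⟩, ⟨.h, rfl⟩, ⟨.i, rfl⟩]

theorem iso_all (x : Gen) : isoChk (gcode x) (Lt0.getD (idx x) 0) = true := by
  cases x <;> decide +kernel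

/-- the matrix of a generator -/
def gM (x : Gen) : Matrix I7 I7 (ZMod 3) := decM e7 (gcode x)

theorem gM_sq (x : Gen) : gM x * gM x = 1 := by
  unfold gM
  rw [decM_mul e7 (by norm_num), hinv0 _ (gcode_mem x), decM_one7]

/-- the matrix of a generator as a unit -/
def gU (x : Gen) : Matrix.GeneralLinearGroup I7 (ZMod 3) := ⟨gM x, gM x, gM_sq x, gM_sq x⟩

/-- the isometry group of the form -/
abbrev IG : Subgroup (Matrix.GeneralLinearGroup I7 (ZMod 3)) :=
  Cfsg.isometryGroup (ZMod 3) (Cfsg.quadFormOdd 3 (ZMod 3))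

theorem gU_mem (x : Gen) : gU x ∈ IG :=
  (Cfsg.Agent.Lib.Helper2.mem_isometryGroup_iff _ _).2 (iso_of_chk (iso_all x))

/-- the generators as isometries -/
def gI (x : Gen) : IG := ⟨gU x, gU_mem x⟩

/-- the matrix of an isometry -/
def muH : IG →* Matrix I7 I7 (ZMod 3) := (Units.coeHom _).comp IG.subtype

theorem muH_injective : Function.Injective muH := by
  intro a b h
  exact Subtype.ext (Units.ext h)

theorem muH_gI (x : Gen) : muH (gI x) = decM e7 (gcode x) := rfl

theorem gI_mul_self (x : Gen) : gI x * gI x = 1 := by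
  apply muH_injective
  rw [map_mul, map_one, muH_gI]
  exact gM_sq x

theorem gI_inv (x : Gen) : (gI x)⁻¹ = gI x := inv_eq_of_mul_eq_one_right (gI_mul_self x)

theorem cox_ok (x y : Gen) : chkOne 3 7 (powc 3 7 one7 (mulc 3 7 (gcode x) (gcode y))
    (Cfsg.Spor.coxLabel edges x y)) = true := by
  cases x <;> cases y <;> decide +kernel

theorem gI_pow (x y : Gen) : (gI x * gI y) ^ (Cfsg.Spor.coxLabel edges x y) = 1 := by
  apply muH_injective
  rw [map_pow, map_mul, map_one, muH_gI, muH_gI, decM_mul e7 (by norm_num),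
    ← decM_powc e7 (by norm_num) (decM_one7 e7)]
  exact decM_of_chkOne (cox_ok x y)

/-- the positions of the letters of a word -/
def idxWord (L : List (Gen × Bool)) : List ℕ := L.map (fun q => idx q.1)

theorem muH_lift_mk (L : List (Gen × Bool)) :
    muH (FreeGroup.lift gI (FreeGroup.mk L)) = decM e7 (evalWord 3 7 one7 L0 (idxWord L)) := by
  rw [FreeGroup.lift_mk, decM_evalWord e7 (by norm_num) (decM_one7 e7), map_list_prod, idxWord,
    List.map_map, List.map_map]
  congr 1
  apply List.map_congr_left
  rintro ⟨x, b⟩ -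
  cases b
  · simp only [Function.comp_apply, cond_false, gI_inv]
    rfl
  · rfl

/-- the relators of the sub-presentation on `b, …, i` -/
abbrev relsW1 : Set (FreeGroup Gen) := Cfsg.Spor.coxRelators edges ∪ {r | r ∈ extra}

theorem extra_ok1 : chkOne 3 7 (evalWord 3 7 one7 L0 (idxWord [(.d, true), (.c, true), (.b, true), (.d, true), (.e, true), (.f, true), (.d, true), (.h, true), (.i, true), (.d, true), (.c, true), (.b, true), (.d, true), (.e, true), (.f, true), (.d, true), (.h, true), (.i, true), (.d, true), (.c, true), (.b, true), (.d, true), (.e, true), (.f, true), (.d, true), (.h, true), (.i, true), (.d, true), (.c, true), (.b, true), (.d, true), (.e, true), (.f, true), (.d, true), (.h, true), (.i, true), (.d, true), (.c, true), (.b, true), (.d, true), (.e, true), (.f, true), (.d, true), (.h, true), (.i, true), (.d, true), (.c, true), (.b, true), (.d, true), (.e, true), (.f, true), (.d, true), (.h, true), (.i, true), (.d, true), (.c, true), (.b, true), (.d, true), (.e, true), (.f, true), (.d, true), (.h, true), (.i,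 true), (.d, true), (.c, true), (.b, true), (.d, true), (.e, true), (.f, true), (.d, true), (.h, true), (.i, true), (.d, true), (.c, true), (.b, true), (.d, true), (.e, true), (.f, true), (.d, true), (.h, true), (.i, true), (.d, true), (.c, true), (.b, true), (.d, true), (.e, true), (.f, true), (.d, true), (.h, true), (.i, true)])) = true := by
  decide +kernel

theorem extra_ok2 : chkOne 3 7 (evalWord 3 7 one7 L0 (idxWord [(.b, true), (.c, true), (.d, true), (.e, true), (.f, true), (.g, true), (.h, true), (.b, true), (.c, true), (.d, true), (.e, true), (.f, true), (.g, true), (.h, true), (.b, true), (.c, true), (.d, true), (.e, true), (.f, true), (.g, true), (.h, true), (.b, true), (.c, true), (.d, true), (.e, true), (.f, true), (.g, true), (.h, true), (.b, true), (.c, true), (.d, true), (.e, true), (.f, true), (.g, true), (.h, true), (.b, true), (.c, true), (.d, true), (.e, true), (.f, true), (.g, true), (.h, true), (.b, true), (.c, true), (.d, true), (.e, true), (.f, true), (.g, true), (.h, true), (.b, true), (.c, true),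 (.d, true), (.e, true), (.f, true), (.g, true), (.h, true), (.b, true), (.c, true), (.d, true), (.e, true), (.f, true), (.g, true), (.h, true)])) = true := by
  decide +kernel

theorem lift_rel : ∀ r ∈ relsW1, FreeGroup.lift gI r = 1 := by
  intro r hr
  rcases hr with ⟨x, -, y, -, rfl⟩ | hr
  · rw [map_pow, map_mul, FreeGroup.lift_apply_of, FreeGroup.lift_apply_of]
    exact gI_pow x y
  · unfold extra at hr
    simp only [Set.mem_ofPred_eq, List.mem_cons, List.mem_nil_iff, or_false] at hr
    rcases hr with rfl | rfl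
    · apply muH_injective
      rw [muH_lift_mk, map_one]
      exact decM_of_chkOne extra_ok1
    · apply muH_injective
      rw [muH_lift_mk, map_one]
      exact decM_of_chkOne extra_ok2

/-- the homomorphism from the presented group on `b, …, i` to the isometry group -/
noncomputable def phi : PresentedGroup relsW1 →* IG := PresentedGroup.toGroup lift_rel

theorem phi_of (x : Gen) : phi (PresentedGroup.of x) = gI x := PresentedGroup.toGroup.of lift_rel

end Cfsg.Agent.Lib.Helper13.Fi22O7
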