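import Mathlib
import Cfsg.Agent.Lib.Helper13.Fi22O7RepA
import Cfsg.Agent.Lib.Helper5.OmegaCenter
import Cfsg.Agent.Lib.Helper25.SpinForms
import Cfsg.Agent.Lib.Helper14.OrthOdd

/-!
# The presented group on `b, …, i` is `Ω_7(3)` (helper13)
-/

set_option autoImplicit false
set_option maxRecDepth 100000

namespace Cfsg.Agent.Lib.Helper13.Fi22O7

open Cfsg.Agent.Lib.Helper13.BS Cfsg.Agent.Lib.Helper4.A10 Matrix
open Cfsg.Agent.Lib.Helper28.TCFi22W1Def
open Cfsg.Agent.Lib.Helper5.OmegaCenter Cfsg.Agent.Lib.Helper25.Spin Cfsg.Agent.Lib.Helper14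

/-- the presented group on `b, …, i` is perfect: every homomorphism to an abelian group is
trivial -/
theorem hom_trivial {A : Type*} [CommGroup A] (χ : PresentedGroup relsW1 →* A)
    (g : PresentedGroup relsW1) : χ g = 1 := by
  obtain ⟨t, ht⟩ : ∃ t : Gen → A, t = fun x => χ (PresentedGroup.of x) := ⟨_, rfl⟩
  have hcomp : χ.comp (PresentedGroup.mk relsW1) = FreeGroup.lift t := by
    ext x
    rw [ht]
    simp [PresentedGroup.of]
  have hlift : ∀ w : FreeGroup Gen, χ (PresentedGroup.mk relsW1 w) = FreeGroup.lift t w :=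
    fun w => DFunLike.congr_fun hcomp w
  have hrel : ∀ r ∈ relsW1, FreeGroup.lift t r = 1 := by
    intro r hr
    rw [← hlift, PresentedGroup.one_of_mem hr, map_one]
  have hnode : ∀ x : Gen, x ∈ Cfsg.Spor.coxNodes edges := by
    intro x; cases x <;> decide
  have hsq : ∀ x, t x * t x = 1 := by
    intro x
    have h := hrel ((FreeGroup.of x * FreeGroup.of x) ^ Cfsg.Spor.coxLabel edges x x)
      (Or.inl ⟨x, hnode x, x, hnode x, rfl⟩)
    have h1 : Cfsg.Spor.coxLabel edges x x = 1 := by
      unfold Cfsg.Spor.coxLabel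
      rw [if_pos rfl]
    rw [h1, pow_one, map_mul, FreeGroup.lift_apply_of] at h
    exact h
  have hinv : ∀ x, (t x)⁻¹ = t x := fun x => inv_eq_of_mul_eq_one_right (hsq x)
  have hedge : ∀ x y, Cfsg.Spor.coxLabel edges x y = 3 → t y = t x := by
    intro x y hxy
    have h := hrel ((FreeGroup.of x * FreeGroup.of y) ^ Cfsg.Spor.coxLabel edges x y)
      (Or.inl ⟨x, hnode x, y, hnode y, rfl⟩)
    rw [hxy, map_pow, map_mul, FreeGroup.lift_apply_of, FreeGroup.lift_apply_of] at h
    have h2 : (t x * t y) ^ 3 = t x * t y := by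
      rw [mul_pow, pow_succ, pow_two, hsq x, one_mul, pow_succ, pow_two, hsq y, one_mul]
    rw [h2] at h
    rw [← hinv x]
    exact (inv_eq_of_mul_eq_one_right h).symm
  have hc : t .c = t .b := hedge .b .c (by decide)
  have hd : t .d = t .b := (hedge .c .d (by decide)).trans hc
  have he : t .e = t .b := (hedge .d .e (by decide)).trans hd
  have hh : t .h = t .b := (hedge .d .h (by decide)).trans hd
  have hf : t .f = t .b := (hedge .e .f (by decide)).trans he
  have hg : t .g = t .b := (hedge .f .g (by decide)).trans hf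
  have hi : t .i = t .b := (hedge .h .i (by decide)).trans hh
  have hall : ∀ x, t x = t .b := by
    intro x
    cases x
    exacts [rfl, hc, hd, he, hf, hg, hh, hi]
  have hconst : FreeGroup.lift t = FreeGroup.lift (fun _ : Gen => t .b) := by
    congr 1
    funext x
    exact hall x
  have hprod : ∀ L : List (Gen × Bool),
      FreeGroup.lift (fun _ : Gen => t .b) (FreeGroup.mk L) = (t .b) ^ L.length := by
    intro L
    rw [FreeGroup.lift_mk]
    induction L with
    | nil => simp
    | cons q L ih =>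
      rw [List.map_cons, List.prod_cons, ih, List.length_cons, pow_succ']
      congr 1
      cases q.2
      · simp only [cond_false]
        exact hinv .b
      · rfl
  have hb1 : t .b = 1 := by
    have hex : ∀ r ∈ extra, FreeGroup.lift t r = 1 := fun r hr => hrel r (Or.inr hr)
    unfold extra at hex
    simp only [List.forall_mem_cons] at hex
    have h63 := hex.2.1
    rw [hconst, hprod] at h63
    simp only [List.length_cons, List.length_nil] at h63
    norm_num at h63
    have h1 : t .b ^ 63 = t .b := by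
      rw [show 63 = 2 * 31 + 1 from rfl, pow_succ, pow_mul, pow_two, hsq, one_pow, one_mul]
    rw [← h1]
    exact h63
  obtain ⟨w, rfl⟩ := QuotientGroup.mk_surjective g
  have h1 := hlift w
  have h2 : FreeGroup.lift t = (1 : FreeGroup Gen →* A) := by
    ext x
    rw [FreeGroup.lift_apply_of, hall x, hb1]
    rfl
  rw [h2] at h1
  exact h1

/-- the image of `phi` lies in `Ω` -/
theorem phi_mem_omega (g : PresentedGroup relsW1) :
    phi g ∈ Cfsg.Omega (ZMod 3) (Cfsg.quadFormOdd 3 (ZMod 3)) := by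
  have h := hom_trivial ((Abelianization.of (G := IG)).comp phi) g
  rw [MonoidHom.comp_apply] at h
  have h1 : phi g ∈ (Abelianization.of (G := IG)).ker := h
  rwa [Abelianization.ker_of] at h1

theorem two_ne : (2 : ZMod 3) ≠ 0 := by decide

/-- the form as a quadratic form -/
noncomputable def Qf : QuadraticForm (ZMod 3) (I7 → ZMod 3) := qfOf (isQF_odd (m := 3) two_ne)

theorem coe_Qf : ⇑Qf = Cfsg.quadFormOdd 3 (ZMod 3) := rfl

theorem card_IG : Nat.card IG = 18341406720 := by
  rw [card_isometry_odd two_ne 3]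
  simp [ZMod.card, Finset.prod_range_succ]

theorem card_Omega : Nat.card (Cfsg.Omega (ZMod 3) (Cfsg.quadFormOdd 3 (ZMod 3))) = 4585351680 := by
  have hidx : (Cfsg.Omega (ZMod 3) ⇑Qf).index = 4 :=
    omega_index_four Qf two_ne (qfOf_nondeg _) (by simp)
  have h := (Cfsg.Omega (ZMod 3) ⇑Qf).card_mul_index
  rw [hidx, coe_Qf, card_IG] at h
  exact Nat.eq_of_mul_eq_mul_right (by norm_num : 0 < 4) (h.trans (by norm_num))

theorem card_POmega : Nat.card (Cfsg.POmega (ZMod 3) (Cfsg.quadFormOdd 3 (ZMod 3))) =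
    4585351680 := by
  have h := card_POmega_of_not Qf (qfOf_nondeg _) (Or.inl (by simp [ZMod.card])) (by simp)
    (Or.inr (by
      rintro ⟨g, hg, hneg⟩
      have hs := omega_le_special Qf two_ne (qfOf_nondeg _) hg
      have h1 : (Matrix.GeneralLinearGroup.det.comp
          (Cfsg.isometryGroup (ZMod 3) ⇑Qf).subtype) g = 1 := MonoidHom.mem_ker.1 hs
      have h2 := congrArg Units.val h1
      rw [MonoidHom.comp_apply, Matrix.GeneralLinearGroup.val_det_apply, Units.val_one] at h2
      have h3 : ((((Cfsg.isometryGroup (ZMod 3) ⇑Qf).subtype g :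
          Matrix.GeneralLinearGroup I7 (ZMod 3)) : Matrix I7 I7 (ZMod 3))) = -1 := hneg
      rw [h3, Matrix.det_neg, Matrix.det_one] at h2
      revert h2
      simp
      decide))
  rw [coe_Qf] at h
  rw [h, card_Omega]

/-- the image of `phi` is `Ω` -/
theorem range_phi : phi.range = Cfsg.Omega (ZMod 3) (Cfsg.quadFormOdd 3 (ZMod 3)) := by
  apply Subgroup.eq_of_le_of_card_ge
  · rintro _ ⟨g, rfl⟩
    exact phi_mem_omega g
  · rw [card_Omega]
    have h1 := card_lower e7
    have h2 : (grp e7 L0 : Subgroup (Matrix I7 I7 (ZMod 3))ˣ) ≤ phi.range.map IG.subtype := by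
      unfold grp
      rw [Subgroup.closure_le]
      rintro s ⟨c, hc, hs⟩
      obtain ⟨x, rfl⟩ := exists_gcode c hc
      refine ⟨gI x, ⟨PresentedGroup.of x, phi_of x⟩, ?_⟩
      exact Units.ext hs.symm
    have h3 : Nat.card (phi.range.map IG.subtype) = Nat.card phi.range :=
      Subgroup.card_map_of_injective IG.subtype_injective
    calc 4585351680 ≤ Nat.card (grp e7 L0 : Subgroup (Matrix I7 I7 (ZMod 3))ˣ) := h1
      _ ≤ Nat.card (phi.range.map IG.subtype) := Subgroup.card_le_of_le h2
      _ = Nat.card phi.range := h3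

/-- the presented group on `b, …, i` is `PΩ_7(3)`, given the bound for its order -/
theorem main_hat [Finite (PresentedGroup relsW1)]
    (hle : Nat.card (PresentedGroup relsW1) ≤ 4585351680) :
    Nonempty (PresentedGroup relsW1 ≃* Cfsg.POmega (ZMod 3) (Cfsg.quadFormOdd 3 (ZMod 3))) := by
  let φΩ : PresentedGroup relsW1 →* Cfsg.Omega (ZMod 3) (Cfsg.quadFormOdd 3 (ZMod 3)) :=
    phi.codRestrict _ phi_mem_omega
  have hsurj : Function.Surjective φΩ := by
    rintro ⟨w, hw⟩
    have hw' := hw
    rw [← range_phi] at hw'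
    obtain ⟨g, hg⟩ := hw'
    exact ⟨g, Subtype.ext hg⟩
  let ψ : PresentedGroup relsW1 →* Cfsg.POmega (ZMod 3) (Cfsg.quadFormOdd 3 (ZMod 3)) :=
    (QuotientGroup.mk' (Subgroup.center (Cfsg.Omega (ZMod 3) (Cfsg.quadFormOdd 3 (ZMod 3))))).comp
      φΩ
  have hψ : Function.Surjective ψ := (QuotientGroup.mk'_surjective _).comp hsurj
  have hcard : Nat.card (PresentedGroup relsW1) =
      Nat.card (Cfsg.POmega (ZMod 3) (Cfsg.quadFormOdd 3 (ZMod 3))) := by
    apply le_antisymm
    · rw [card_POmega]; exact hle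
    · exact Nat.card_le_card_of_surjective ψ hψ
  exact ⟨MulEquiv.ofBijective ψ ((Nat.bijective_iff_surjective_and_card ψ).2 ⟨hψ, hcard⟩)⟩

end Cfsg.Agent.Lib.Helper13.Fi22O7
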