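/-
helper13: for S3357.  From an irreducible complex character `χ` with `∑_{j<o(g)} χ(g^j) = 0` for all
`g ≠ 1` to a faithful irreducible fixed-point-free matrix representation over `AlgebraicClosure ℚ`
(via helper2's Brauer splitting field theorem).
-/
import Mathlib
import Cfsg.Agent.Lib.Helper2.SplitFieldD
import Cfsg.Agent.Lib.Lead.RealRep

set_option autoImplicit false

namespace Cfsg.Agent.Lib.Helper13.FrobRep

open Representation Module Cfsg Cfsg.Agent.CharLib

universe u

/-- no fixed vectors when the character sums over `⟨g⟩` to zero -/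
theorem fpf_of_char_sum {G : Type u} [Group G] [Finite G] {V : Type*} [AddCommGroup V] [Module ℂ V]
    [FiniteDimensional ℂ V] (ρ : Representation ℂ G V) (g : G)
    (hsum : ∑ j ∈ Finset.range (orderOf g), ρ.character (g ^ j) = 0) (v : V) (hv : ρ g v = v) :
    v = 0 := by
  set q := orderOf g with hq
  have hqpos : 0 < q := orderOf_pos g
  have hqne : (q : ℂ) ≠ 0 := by exact_mod_cast hqpos.ne'
  set P : Module.End ℂ V := ∑ j ∈ Finset.range q, ρ (g ^ j) with hP
  have htr : LinearMap.trace ℂ V P = 0 := by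
    rw [hP, map_sum]
    exact hsum
  have hgP : ρ g * P = P := by
    rw [hP, Finset.mul_sum]
    have h1 : ∀ j ∈ Finset.range q, ρ g * ρ (g ^ j) = ρ (g ^ (j + 1)) := by
      intro j _
      rw [← map_mul, pow_succ']
    rw [Finset.sum_congr rfl h1]
    have h2 := Finset.sum_range_succ' (fun j => ρ (g ^ j)) q
    have h3 := Finset.sum_range_succ (fun j => ρ (g ^ j)) q
    rw [h3] at h2
    have h4 : ρ (g ^ q) = ρ (g ^ 0) := by rw [hq, pow_orderOf_eq_one, pow_zero]
    rw [h4] at h2
    exact (add_right_cancel h2).symm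
  have hpowP : ∀ j : ℕ, ρ (g ^ j) * P = P := by
    intro j
    induction j with
    | zero => rw [pow_zero, map_one, one_mul]
    | succ j ih => rw [pow_succ', map_mul, mul_assoc, ih, hgP]
  have hPP : P * P = (q : ℂ) • P := by
    conv_lhs => rw [hP, Finset.sum_mul]
    rw [Finset.sum_congr rfl (fun j _ => hpowP j), Finset.sum_const, Finset.card_range,
      ← Nat.cast_smul_eq_nsmul ℂ]
  set e : Module.End ℂ V := (q : ℂ)⁻¹ • P with he
  have hee : e * e = e := by
    rw [he, smul_mul_smul_comm, hPP, smul_smul, mul_assoc, inv_mul_cancel₀ hqne, mul_one]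
  have hproj : LinearMap.IsProj (LinearMap.range e) e := by
    refine ⟨fun x => ⟨x, rfl⟩, ?_⟩
    rintro x ⟨y, rfl⟩
    exact LinearMap.congr_fun hee y
  have htre : LinearMap.trace ℂ V e = 0 := by
    rw [he, map_smul, htr, smul_zero]
  have h5 := hproj.trace
  rw [htre] at h5
  have h6 : Module.finrank ℂ (LinearMap.range e) = 0 := by exact_mod_cast h5.symm
  have h7 : LinearMap.range e = ⊥ := Submodule.finrank_eq_zero.mp h6
  have h8 : e = 0 := LinearMap.range_eq_bot.mp h7
  have h9 : P = 0 := by
    have : P = (q : ℂ) • e := by rw [he, smul_smul, mul_inv_cancel₀ hqne, one_smul]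
    rw [this, h8, smul_zero]
  have hfix : ∀ j : ℕ, ρ (g ^ j) v = v := by
    intro j
    induction j with
    | zero => simp
    | succ j ih => rw [pow_succ, map_mul, Module.End.mul_apply, hv, ih]
  have h10 : P v = (q : ℂ) • v := by
    rw [hP, LinearMap.sum_apply, Finset.sum_congr rfl (fun j _ => hfix j), Finset.sum_const,
      Finset.card_range, ← Nat.cast_smul_eq_nsmul ℂ]
  rw [h9, LinearMap.zero_apply] at h10
  rcases smul_eq_zero.mp h10.symm with h | h
  · exact absurd h hqne
  · exact h

end Cfsg.Agent.Lib.Helper13.FrobRep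

namespace Cfsg.Agent.Lib.Helper13.FrobRep

open Representation Module Cfsg Cfsg.Agent.CharLib

universe u

/-- the field of algebraic numbers inside `ℂ` -/
noncomputable abbrev Qbar : IntermediateField ℚ ℂ := algebraicClosure ℚ ℂ

/-- `Qbar ≃ AlgebraicClosure ℚ` -/
noncomputable def qbarEquiv : Qbar ≃+* AlgebraicClosure ℚ := by
  letI a1 : Algebra ℚ (AlgebraicClosure ℚ) := AlgebraicClosure.instAlgebra ℚ
  haveI h1 : IsAlgClosure ℚ (AlgebraicClosure ℚ) := inferInstance
  haveI h2 : IsAlgClosure ℚ Qbar := algebraicClosure.isAlgClosure ℚ ℂ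
  exact (IsAlgClosure.equiv ℚ Qbar (AlgebraicClosure ℚ)).toRingEquiv

/-- an embedding of `AlgebraicClosure ℚ` into `ℂ` -/
noncomputable def phiC : AlgebraicClosure ℚ →+* ℂ :=
  (algebraMap Qbar ℂ).comp qbarEquiv.symm.toRingHom

theorem phiC_injective : Function.Injective phiC := phiC.injective

theorem range_phiC : Set.range phiC = Set.range (algebraMap Qbar ℂ) := by
  ext z
  constructor
  · rintro ⟨a, rfl⟩
    exact ⟨qbarEquiv.symm a, rfl⟩
  · rintro ⟨b, rfl⟩
    refine ⟨qbarEquiv b, ?_⟩
    show algebraMap Qbar ℂ (qbarEquiv.symm (qbarEquiv b)) = _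
    rw [RingEquiv.symm_apply_apply]

theorem root_of_unity_mem_range {m : ℕ} (hm : m ≠ 0) {z : ℂ} (hz : z ^ m = 1) :
    z ∈ Set.range (algebraMap Qbar ℂ) := by
  have h1 : z ∈ Qbar := by
    rw [mem_algebraicClosure_iff]
    refine ⟨Polynomial.X ^ m - 1, ?_, ?_⟩
    · exact (Polynomial.monic_X_pow_sub_C (1 : ℚ) hm).ne_zero
    · simp [hz]
  exact ⟨⟨z, h1⟩, rfl⟩

/-- componentwise embedding of vectors -/
noncomputable def mapVec {n : ℕ} (w : Fin n → AlgebraicClosure ℚ) : Fin n → ℂ := fun i => phiC (w i)

theorem mapVec_injective {n : ℕ} : Function.Injective (mapVec (n := n)) := by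
  intro v w h
  funext i
  exact phiC_injective (congrFun h i)

theorem mapVec_eq_zero {n : ℕ} {w : Fin n → AlgebraicClosure ℚ} (h : mapVec w = 0) : w = 0 := by
  apply mapVec_injective
  rw [h]
  funext i
  simp [mapVec]

theorem mapVec_add {n : ℕ} (v w : Fin n → AlgebraicClosure ℚ) :
    mapVec (v + w) = mapVec v + mapVec w := by
  funext i; simp [mapVec]

theorem mapVec_smul {n : ℕ} (a : AlgebraicClosure ℚ) (w : Fin n → AlgebraicClosure ℚ) :
    mapVec (a • w) = phiC a • mapVec w := by
  funext i; simp [mapVec]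

theorem mapVec_sum {n : ℕ} {ι : Type*} (s : Finset ι) (f : ι → Fin n → AlgebraicClosure ℚ) :
    mapVec (∑ i ∈ s, f i) = ∑ i ∈ s, mapVec (f i) := by
  classical
  induction s using Finset.induction_on with
  | empty => funext i; simp [mapVec]
  | insert a s ha ih => rw [Finset.sum_insert ha, Finset.sum_insert ha, mapVec_add, ih]

theorem mapVec_mulVec {n : ℕ} (N : Matrix (Fin n) (Fin n) (AlgebraicClosure ℚ))
    (v : Fin n → AlgebraicClosure ℚ) :
    mapVec (N.mulVec v) = (N.map phiC).mulVec (mapVec v) := by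
  funext i
  exact RingHom.map_mulVec phiC N v i

end Cfsg.Agent.Lib.Helper13.FrobRep

namespace Cfsg.Agent.Lib.Helper13.FrobRep

open Representation Module Cfsg Cfsg.Agent.CharLib

universe u

/-- **Descent**: an irreducible complex character with vanishing sums over all nontrivial cyclic
subgroups gives a faithful, irreducible, fixed-point-free matrix representation over
`AlgebraicClosure ℚ`. -/
theorem exists_fpf_matrix_rep (G : Type u) [Group G] [Finite G] {χ : G → ℂ}
    (hχ : IsIrrCharacter G χ)
    (hfpf : ∀ g : G, g ≠ 1 → ∑ j ∈ Finset.range (orderOf g), χ (g ^ j) = 0) :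
    ∃ (n : ℕ) (ρ : G →* GL (Fin n) (AlgebraicClosure ℚ)), 0 < n ∧ Function.Injective ρ ∧
      (∀ W : Submodule (AlgebraicClosure ℚ) (Fin n → AlgebraicClosure ℚ),
        (∀ g : G, ∀ w ∈ W, ((ρ g : GL (Fin n) (AlgebraicClosure ℚ)) :
          Matrix (Fin n) (Fin n) (AlgebraicClosure ℚ)).mulVec w ∈ W) → W = ⊥ ∨ W = ⊤) ∧
      ∀ g : G, g ≠ 1 → ∀ v : Fin n → AlgebraicClosure ℚ,
        ((ρ g : GL (Fin n) (AlgebraicClosure ℚ)) :
          Matrix (Fin n) (Fin n) (AlgebraicClosure ℚ)).mulVec v = v → v = 0 := by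
  classical
  letI := Fintype.ofFinite G
  obtain ⟨n, ρ, hirr, hρ⟩ := hχ
  have hk : ∀ z : ℂ, z ^ Monoid.exponent G = 1 → z ∈ Set.range (algebraMap Qbar ℂ) := by
    intro z hz
    exact root_of_unity_mem_range Monoid.exponent_ne_zero_of_finite hz
  obtain ⟨σ, ⟨e⟩, hσ⟩ := Cfsg.Agent.Lib.Helper2.SplitField.exists_matrix_rep (k := Qbar) hk n ρ
  have hσχ : σ.character = χ := by rw [← char_iso e, hρ]
  have hσirr : σ.IsIrreducible := isIrreducible_of_equiv ρ σ e hirr
  have hex : ∀ (g : G) (i j : Fin n), ∃ a : AlgebraicClosure ℚ,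
      phiC a = LinearMap.toMatrix' (σ g) i j := by
    intro g i j
    have := hσ g i j
    rw [← range_phiC] at this
    exact this
  let Ng : G → Matrix (Fin n) (Fin n) (AlgebraicClosure ℚ) :=
    fun g i j => Classical.choose (hex g i j)
  have hNg : ∀ g, (Ng g).map phiC = LinearMap.toMatrix' (σ g) := by
    intro g
    ext i j
    exact Classical.choose_spec (hex g i j)
  have hinj : Function.Injective
      (fun M : Matrix (Fin n) (Fin n) (AlgebraicClosure ℚ) => M.map phiC) :=
    Matrix.map_injective phiC_injective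
  have hmul : ∀ g h, Ng (g * h) = Ng g * Ng h := by
    intro g h
    apply hinj
    show (Ng (g * h)).map phiC = (Ng g * Ng h).map phiC
    rw [Matrix.map_mul, hNg, hNg, hNg, map_mul, LinearMap.toMatrix'_mul]
  have hone : Ng 1 = 1 := by
    apply hinj
    show (Ng 1).map phiC = (1 : Matrix (Fin n) (Fin n) (AlgebraicClosure ℚ)).map phiC
    rw [hNg, map_one, Matrix.map_one _ (map_zero _) (map_one _)]
    exact LinearMap.toMatrix'_one
  let f : G →* Matrix (Fin n) (Fin n) (AlgebraicClosure ℚ) := ⟨⟨Ng, hone⟩, hmul⟩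
  have hfcoe : ∀ g, ((f.toHomUnits g : GL (Fin n) (AlgebraicClosure ℚ)) :
      Matrix (Fin n) (Fin n) (AlgebraicClosure ℚ)) = Ng g := fun g => rfl
  -- key transfer
  have hkey : ∀ (g : G) (v : Fin n → AlgebraicClosure ℚ),
      σ g (mapVec v) = mapVec ((Ng g).mulVec v) := by
    intro g v
    rw [mapVec_mulVec, hNg, LinearMap.toMatrix'_mulVec]
  have hnpos : 0 < n := by
    have := Cfsg.Agent.Lib.Helper24.finrank_pos_of_isIrreducible σ
    rwa [Module.finrank_fin_fun] at this
  have hfp : ∀ g : G, g ≠ 1 → ∀ v : Fin n → AlgebraicClosure ℚ, (Ng g).mulVec v = v → v = 0 := by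
    intro g hg v hv
    have h1 : σ g (mapVec v) = mapVec v := by rw [hkey, hv]
    have h2 := fpf_of_char_sum σ g (by rw [hσχ]; exact hfpf g hg) (mapVec v) h1
    exact mapVec_eq_zero h2
  refine ⟨n, f.toHomUnits, hnpos, ?_, ?_, ?_⟩
  · -- injective
    rw [injective_iff_map_eq_one]
    intro g hg
    by_contra hne
    have h1 : Ng g = 1 := by
      rw [← hfcoe g, hg]
      rfl
    have h2 := hfp g hne (Pi.single ⟨0, hnpos⟩ 1) (by rw [h1, Matrix.one_mulVec])
    have h3 := congrFun h2 ⟨0, hnpos⟩
    simp at h3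
  · -- irreducible
    intro W hW
    let W' : Submodule ℂ (Fin n → ℂ) := Submodule.span ℂ (mapVec '' (W : Set (Fin n → AlgebraicClosure ℚ)))
    have hW'inv : ∀ (g : G) ⦃x : Fin n → ℂ⦄, x ∈ W' → σ g x ∈ W' := by
      intro g x hx
      induction hx using Submodule.span_induction with
      | mem x hx =>
        obtain ⟨w, hw, rfl⟩ := hx
        rw [hkey]
        apply Submodule.subset_span
        exact ⟨_, hW g w hw, rfl⟩
      | zero => rw [map_zero]; exact Submodule.zero_mem _
      | add x y _ _ hx hy => rw [map_add]; exact Submodule.add_mem _ hx hy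
      | smul a x _ hx => rw [map_smul]; exact Submodule.smul_mem _ a hx
    let Wsub : Subrepresentation σ := ⟨W', hW'inv⟩
    rcases hσirr.eq_bot_or_eq_top Wsub with h1 | h1
    · left
      have h2 : W' = ⊥ := congrArg Subrepresentation.toSubmodule h1
      rw [Submodule.eq_bot_iff]
      intro w hw
      have h3 : mapVec w ∈ W' := Submodule.subset_span ⟨w, hw, rfl⟩
      rw [h2, Submodule.mem_bot] at h3
      exact mapVec_eq_zero h3
    · right
      have h2 : W' = ⊤ := congrArg Subrepresentation.toSubmodule h1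
      set r := Module.finrank (AlgebraicClosure ℚ) W with hr
      let b : Basis (Fin r) (AlgebraicClosure ℚ) W := Module.finBasis (AlgebraicClosure ℚ) W
      have h3 : W' ≤ Submodule.span ℂ (Set.range (fun i : Fin r => mapVec (b i : Fin n → AlgebraicClosure ℚ))) := by
        apply Submodule.span_le.mpr
        rintro x ⟨w, hw, rfl⟩
        have h4 : w = ∑ i : Fin r, (b.repr ⟨w, hw⟩ i) • (b i : Fin n → AlgebraicClosure ℚ) := by
          have := b.sum_repr ⟨w, hw⟩
          have h5 := congrArg (fun x : W => (x : Fin n → AlgebraicClosure ℚ)) this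
          simp only [Submodule.coe_sum, Submodule.coe_smul] at h5
          exact h5.symm
        rw [h4, mapVec_sum]
        apply Submodule.sum_mem
        intro i _
        rw [mapVec_smul]
        apply Submodule.smul_mem
        exact Submodule.subset_span ⟨i, rfl⟩
      have h6 : n ≤ r := by
        have h7 : Module.finrank ℂ (Submodule.span ℂ (Set.range (fun i : Fin r =>
            mapVec (b i : Fin n → AlgebraicClosure ℚ)))) ≤ r := by
          have := finrank_range_le_card (R := ℂ) (fun i : Fin r => mapVec (b i : Fin n → AlgebraicClosure ℚ))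
          simpa [Set.finrank] using this
        have h8 : Submodule.span ℂ (Set.range (fun i : Fin r =>
            mapVec (b i : Fin n → AlgebraicClosure ℚ))) = ⊤ := by
          rw [eq_top_iff, ← h2]
          exact h3
        rw [h8, finrank_top, Module.finrank_fin_fun] at h7
        exact h7
      apply Submodule.eq_top_of_finrank_eq
      rw [Module.finrank_fin_fun]
      have h9 : r ≤ n := by
        have := Submodule.finrank_le W
        rwa [Module.finrank_fin_fun] at this
      omega
  · intro g hg v hv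
    exact hfp g hg v hv

end Cfsg.Agent.Lib.Helper13.FrobRep
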