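/-
helper13: for S3357.  A fixed-point-free representation over `ZMod p` base-changes to a
fixed-point-free representation over any field of characteristic `p`.
-/
import Mathlib

set_option autoImplicit false

namespace Cfsg.Agent.Lib.Helper13.FrobRep

open TensorProduct

universe u v

/-- in a representation where `g` has no nonzero fixed vector, the "norm" operator
`∑_{j<o(g)} ρ(g^j)` vanishes -/
theorem norm_op_eq_zero {G : Type u} [Group G] [Finite G] {R : Type*} [CommRing R] {V : Type v}
    [AddCommGroup V] [Module R V] (ρ : Representation R G V) (g : G)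
    (hfix : ∀ v : V, ρ g v = v → v = 0) :
    ∑ j ∈ Finset.range (orderOf g), ρ (g ^ j) = 0 := by
  set q := orderOf g with hq
  set P : Module.End R V := ∑ j ∈ Finset.range q, ρ (g ^ j) with hP
  have hgP : ρ g * P = P := by
    rw [hP, Finset.mul_sum]
    have h1 : ∀ j ∈ Finset.range q, ρ g * ρ (g ^ j) = ρ (g ^ (j + 1)) := by
      intro j _
      rw [← map_mul, pow_succ']
    rw [Finset.sum_congr rfl h1]
    have h2 := Finset.sum_range_succ' (fun j => ρ (g ^ j)) q
    have h3 := Finset.sum_range_succ (fun j => ρ (g ^ j)) q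
    rw [h3] at h2
    have h4 : ρ (g ^ q) = ρ (g ^ 0) := by rw [hq, pow_orderOf_eq_one, pow_zero]
    rw [h4] at h2
    exact (add_right_cancel h2).symm
  apply LinearMap.ext
  intro v
  rw [LinearMap.zero_apply]
  apply hfix
  have := LinearMap.congr_fun hgP v
  rwa [Module.End.mul_apply] at this

/-- base change of a fixed-point-free `ZMod p`-representation to a field of characteristic `p` -/
theorem exists_modular_fpf {G : Type u} [Group G] [Finite G] (p : ℕ) [Fact p.Prime]
    {V : Type v} [AddCommGroup V] [Module (ZMod p) V] [Nontrivial V]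
    (ρ : Representation (ZMod p) G V)
    (hfix : ∀ g : G, g ≠ 1 → ∀ v : V, ρ g v = v → v = 0)
    (k : Type) [Field k] [CharP k p] :
    ∃ (W : Type v) (_ : AddCommGroup W) (_ : Module k W) (τ : Representation k G W),
      Nontrivial W ∧ ∀ g : G, g ≠ 1 → ∑ j ∈ Finset.range (orderOf g), τ (g ^ j) = 0 := by
  letI : Algebra (ZMod p) k := ZMod.algebra k p
  let bc : Module.End (ZMod p) V →ₐ[ZMod p] Module.End k (k ⊗[ZMod p] V) :=
    Module.End.baseChangeHom (ZMod p) k V
  let τ : Representation k G (k ⊗[ZMod p] V) := (bc : Module.End (ZMod p) V →* _).comp ρ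
  refine ⟨k ⊗[ZMod p] V, inferInstance, inferInstance, τ, ?_, ?_⟩
  · let b := Module.Free.chooseBasis (ZMod p) V
    let b' := Algebra.TensorProduct.basis k b
    obtain ⟨v, hv⟩ := exists_ne (0 : V)
    have hne : Nonempty (Module.Free.ChooseBasisIndex (ZMod p) V) := by
      by_contra hemp
      rw [not_nonempty_iff] at hemp
      apply hv
      apply b.repr.injective
      exact Subsingleton.elim _ _
    obtain ⟨i⟩ := hne
    exact ⟨⟨b' i, 0, b'.ne_zero i⟩⟩
  · intro g hg
    have h1 := norm_op_eq_zero ρ g (hfix g hg)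
    have h2 : ∑ j ∈ Finset.range (orderOf g), τ (g ^ j) =
        bc (∑ j ∈ Finset.range (orderOf g), ρ (g ^ j)) := by
      rw [map_sum]
      rfl
    rw [h2, h1, map_zero]

end Cfsg.Agent.Lib.Helper13.FrobRep

namespace Cfsg.Agent.Lib.Helper13.FrobRep

/-- a fixed-point-free action (by endomorphisms) of `H` on an elementary abelian `p`-group `N` gives
fixed-point-free modular representations over all fields of characteristic `p` -/
theorem exists_modular_of_end {H N : Type} [Group H] [Finite H] [Group N] [Nontrivial N]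
    (p : ℕ) [Fact p.Prime]
    (hcomm : ∀ a b : N, a * b = b * a) (hexp : ∀ a : N, a ^ p = 1) (φ : H →* Monoid.End N)
    (hfpf : ∀ h : H, h ≠ 1 → ∀ a : N, φ h a = a → a = 1)
    (k : Type) [Field k] [CharP k p] :
    ∃ (W : Type) (_ : AddCommGroup W) (_ : Module k W) (τ : Representation k H W),
      Nontrivial W ∧ ∀ g : H, g ≠ 1 → ∑ j ∈ Finset.range (orderOf g), τ (g ^ j) = 0 := by
  classical
  letI cg : CommGroup N := { (inferInstance : Group N) with mul_comm := hcomm }
  have hV0 : ∀ x : Additive N, p • x = 0 := by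
    intro x
    show Additive.ofMul (x.toMul ^ p) = 0
    rw [hexp]
    rfl
  haveI mz : Module (ZMod p) (Additive N) := AddCommGroup.zmodModule hV0
  let f : H → Module.End (ZMod p) (Additive N) :=
    fun h => AddMonoidHom.toZModLinearMap p (MonoidHom.toAdditive (φ h))
  have hf1 : f 1 = 1 := by
    apply LinearMap.ext
    intro v
    obtain ⟨x, rfl⟩ := Additive.ofMul.surjective v
    show Additive.ofMul (φ 1 x) = Additive.ofMul x
    rw [map_one]
    rfl
  have hfmul : ∀ a b : H, f (a * b) = f a * f b := by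
    intro a b
    apply LinearMap.ext
    intro v
    obtain ⟨x, rfl⟩ := Additive.ofMul.surjective v
    show Additive.ofMul (φ (a * b) x) = Additive.ofMul (φ a (φ b x))
    rw [map_mul]
    rfl
  let ρ : Representation (ZMod p) H (Additive N) :=
    (⟨⟨f, hf1⟩, hfmul⟩ : H →* Module.End (ZMod p) (Additive N))
  haveI : Nontrivial (Additive N) := by
    obtain ⟨a, b, hab⟩ := exists_pair_ne N
    exact ⟨⟨Additive.ofMul a, Additive.ofMul b, fun h => hab (Additive.ofMul.injective h)⟩⟩
  apply exists_modular_fpf p ρ ?_ k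
  intro g hg v hv
  obtain ⟨x, rfl⟩ := Additive.ofMul.surjective v
  have h1 : φ g x = x := Additive.ofMul.injective hv
  rw [hfpf g hg x h1]
  rfl

/-- conjugation action of a subgroup `H₁` on a normalized elementary abelian `p`-subgroup `V`,
fixed-point-free: gives fixed-point-free modular representations over all fields of
characteristic `p` -/
theorem exists_modular_of_conj {L : Type} [Group L] [Finite L] (p : ℕ) [Fact p.Prime]
    (H₁ V : Subgroup L) (hVne : V ≠ ⊥)
    (hVcomm : ∀ x ∈ V, ∀ y ∈ V, x * y = y * x) (hVexp : ∀ x ∈ V, x ^ p = 1)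
    (hnorm : ∀ h ∈ H₁, ∀ x ∈ V, h * x * h⁻¹ ∈ V)
    (hfpf : ∀ h ∈ H₁, h ≠ 1 → ∀ x ∈ V, h * x * h⁻¹ = x → x = 1)
    (k : Type) [Field k] [CharP k p] :
    ∃ (W : Type) (_ : AddCommGroup W) (_ : Module k W) (τ : Representation k H₁ W),
      Nontrivial W ∧ ∀ g : H₁, g ≠ 1 → ∑ j ∈ Finset.range (orderOf g), τ (g ^ j) = 0 := by
  classical
  haveI : Nontrivial V := (Subgroup.nontrivial_iff_ne_bot V).mpr hVne
  let cj : H₁ → (V →* V) := fun h =>
    { toFun := fun v => ⟨(h : L) * v * (h : L)⁻¹, hnorm h h.2 v v.2⟩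
      map_one' := by apply Subtype.ext; simp
      map_mul' := by intro a b; apply Subtype.ext; simp [mul_assoc] }
  have hcjapp : ∀ (h : H₁) (v : V), ((cj h v : V) : L) = (h : L) * v * (h : L)⁻¹ := fun _ _ => rfl
  have hcj1 : cj 1 = MonoidHom.id V := by
    apply MonoidHom.ext
    intro v
    apply Subtype.ext
    rw [hcjapp]
    simp
  have hcjmul : ∀ a b : H₁, cj (a * b) = (cj a).comp (cj b) := by
    intro a b
    apply MonoidHom.ext
    intro v
    apply Subtype.ext
    rw [hcjapp, MonoidHom.comp_apply, hcjapp, hcjapp]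
    simp [mul_assoc]
  let φ : H₁ →* Monoid.End V :=
    { toFun := cj
      map_one' := hcj1
      map_mul' := hcjmul }
  apply exists_modular_of_end p (fun a b => Subtype.ext (hVcomm a a.2 b b.2))
    (fun a => Subtype.ext (by simpa using hVexp a a.2)) φ ?_ k
  intro g hg x hx
  have h2 : (g : L) * x * (g : L)⁻¹ = x := congrArg Subtype.val hx
  have hg' : (g : L) ≠ 1 := fun h => hg (Subtype.ext h)
  exact Subtype.ext (hfpf g g.2 hg' x x.2 h2)

end Cfsg.Agent.Lib.Helper13.FrobRep
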