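/-
helper13: for S3357, group-theoretic part.  In a finite Frobenius group with complement `H` and
kernel `K`: for a prime `p ∣ |K|` and `P ∈ Syl_p(K)`, `N_L(P)` contains a complement `H₁ ≅ H` of `K`
(Frattini + Schur–Zassenhaus), which acts fixed-point-freely by conjugation on the nontrivial
elementary abelian `p`-group `V = Ω₁(Z(P))`.
-/
import Mathlib
import Cfsg.Agent.Lib.Lead.FrobConj
import Cfsg.Agent.Lib.Helper22.Frobenius
import Cfsg.Agent.Lib.Helper18.Frobenius

set_option autoImplicit false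

namespace Cfsg.Agent.Lib.Helper13.FrobRep

open Cfsg

universe u

/-- `Ω₁` of the centre of a subgroup `P`, as a subgroup of the ambient group -/
def omegaCenter {L : Type u} [Group L] (P : Subgroup L) (p : ℕ) : Subgroup L where
  carrier := {x | x ∈ P ∧ (∀ y ∈ P, x * y = y * x) ∧ x ^ p = 1}
  one_mem' := ⟨P.one_mem, fun y _ => by simp, one_pow p⟩
  mul_mem' := by
    rintro a b ⟨haP, hac, hap⟩ ⟨hbP, hbc, hbp⟩
    refine ⟨P.mul_mem haP hbP, ?_, ?_⟩
    · intro y hy
      rw [mul_assoc, hbc y hy, ← mul_assoc, hac y hy, mul_assoc]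
    · have hcomm : Commute a b := hac b hbP
      rw [hcomm.mul_pow, hap, hbp, one_mul]
  inv_mem' := by
    rintro a ⟨haP, hac, hap⟩
    refine ⟨P.inv_mem haP, ?_, ?_⟩
    · intro y hy
      have h1 : Commute a y := hac y hy
      exact h1.inv_left
    · rw [inv_pow, hap, inv_one]

theorem mem_omegaCenter {L : Type u} [Group L] {P : Subgroup L} {p : ℕ} {x : L} :
    x ∈ omegaCenter P p ↔ x ∈ P ∧ (∀ y ∈ P, x * y = y * x) ∧ x ^ p = 1 := Iff.rfl

/-- conjugation by an element normalizing `P` preserves `Ω₁(Z(P))` -/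
theorem conj_mem_omegaCenter {L : Type u} [Group L] {P : Subgroup L} {p : ℕ} {h x : L}
    (hh : h ∈ Subgroup.normalizer (P : Set L)) (hx : x ∈ omegaCenter P p) :
    h * x * h⁻¹ ∈ omegaCenter P p := by
  obtain ⟨hxP, hxc, hxp⟩ := hx
  rw [Subgroup.mem_normalizer_iff] at hh
  refine ⟨(hh x).mp hxP, ?_, ?_⟩
  · intro y hy
    have h1 : h⁻¹ * y * h ∈ P := by
      rw [hh (h⁻¹ * y * h)]
      have : h * (h⁻¹ * y * h) * h⁻¹ = y := by group
      rw [this]
      exact hy
    have h2 := hxc _ h1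
    calc h * x * h⁻¹ * y = h * (x * (h⁻¹ * y * h)) * h⁻¹ := by group
      _ = h * ((h⁻¹ * y * h) * x) * h⁻¹ := by rw [h2]
      _ = y * (h * x * h⁻¹) := by group
  · rw [conj_pow, hxp, mul_one, mul_inv_cancel]

/-- `Ω₁(Z(P))` is nontrivial for a nontrivial finite `p`-group `P` -/
theorem omegaCenter_ne_bot {L : Type u} [Group L] [Finite L] {p : ℕ} [hp : Fact p.Prime]
    (P : Subgroup L) (hP : IsPGroup p P) (hne : P ≠ ⊥) : omegaCenter P p ≠ ⊥ := by
  haveI : Nontrivial P := (Subgroup.nontrivial_iff_ne_bot P).mpr hne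
  haveI : Nontrivial (Subgroup.center P) := hP.center_nontrivial
  have hZ : IsPGroup p (Subgroup.center P) := hP.to_subgroup _
  have hdvd : p ∣ Nat.card (Subgroup.center P) := by
    rcases hZ.card_eq_or_dvd with h | h
    · exfalso
      have := (Subgroup.eq_bot_iff_card (Subgroup.center P)).mpr h
      exact (Subgroup.nontrivial_iff_ne_bot _).mp inferInstance this
    · exact h
  obtain ⟨z, hz⟩ := exists_prime_orderOf_dvd_card' (G := Subgroup.center P) p hdvd
  intro hbot
  have hmem : ((z : P) : L) ∈ omegaCenter P p := by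
    refine ⟨(z : P).2, ?_, ?_⟩
    · intro y hy
      have := Subgroup.mem_center_iff.mp z.2 ⟨y, hy⟩
      have h2 := congrArg (fun t : P => (t : L)) this
      simpa using h2.symm
    · have h1 : z ^ p = 1 := by rw [← hz]; exact pow_orderOf_eq_one z
      have h2 := congrArg (fun t : Subgroup.center P => ((t : P) : L)) h1
      simpa using h2
  rw [hbot, Subgroup.mem_bot] at hmem
  have hz1 : z = 1 := by
    apply Subtype.ext
    apply Subtype.ext
    simpa using hmem
  rw [hz1, orderOf_one] at hz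
  exact hp.out.one_lt.ne hz

end Cfsg.Agent.Lib.Helper13.FrobRep

namespace Cfsg.Agent.Lib.Helper13.FrobRep

open Cfsg

universe u

/-- restriction of the quotient map to a subgroup meeting `K` trivially and of the right order is
an isomorphism onto `L ⧸ K` -/
noncomputable def equivQuotientOfDisjoint {L : Type u} [Group L] [Finite L] (K : Subgroup L)
    [K.Normal] (A : Subgroup L) (hdisj : ∀ x ∈ A, x ∈ K → x = 1)
    (hcard : K.index ≤ Nat.card A) : A ≃* L ⧸ K :=
  MulEquiv.ofBijective ((QuotientGroup.mk' K).comp A.subtype) (by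
    have hinj : Function.Injective ((QuotientGroup.mk' K).comp A.subtype) := by
      rw [injective_iff_map_eq_one]
      intro a ha
      have h1 : (a : L) ∈ K := by
        have : ((a : L) : L ⧸ K) = 1 := ha
        exact (QuotientGroup.eq_one_iff (a : L)).mp this
      exact Subtype.ext (hdisj a a.2 h1)
    apply hinj.bijective_of_nat_card_le
    rw [← Subgroup.index_eq_card]
    exact hcard)

theorem frob_data {L : Type u} [Group L] [Finite L] (H : Subgroup L)
    (hH : IsFrobeniusComplement H) :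
    ∃ (p : ℕ) (_ : Fact p.Prime) (H₁ V : Subgroup L),
      Nonempty (H ≃* H₁) ∧ (Nat.card H₁).Coprime p ∧ V ≠ ⊥ ∧
      (∀ x ∈ V, ∀ y ∈ V, x * y = y * x) ∧ (∀ x ∈ V, x ^ p = 1) ∧
      (∀ h ∈ H₁, ∀ x ∈ V, h * x * h⁻¹ ∈ V) ∧
      (∀ h ∈ H₁, h ≠ 1 → ∀ x ∈ V, h * x * h⁻¹ = x → x = 1) := by
  classical
  obtain ⟨K, hKset, hKn, hcompl, hKne, hfpfK⟩ := Cfsg.Agent.CharLib.frob_setup H hH
  haveI := hKn
  have hHidx : H.index = Nat.card K := hcompl.index_eq_card
  have hKidx : K.index = Nat.card H := hcompl.symm.index_eq_card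
  have hcop : (Nat.card K).Coprime (Nat.card H) := by
    apply Nat.coprime_of_dvd
    intro q hq hqK hqH
    haveI := Fact.mk hq
    have h1 := Cfsg.Agent.Lib.Helper22.not_dvd_index_of_dvd_card_of_isFrobeniusComplement H hH q hqH
    rw [hHidx] at h1
    exact h1 hqK
  have hK1 : Nat.card K ≠ 1 := fun h => hKne ((Subgroup.eq_bot_iff_card K).mpr h)
  obtain ⟨p, hp, hpK⟩ := Nat.exists_prime_and_dvd hK1
  haveI hpf : Fact p.Prime := ⟨hp⟩
  have hpH : ¬ p ∣ Nat.card H := by
    intro h
    have := Nat.dvd_gcd hpK h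
    rw [hcop] at this
    exact hp.one_lt.ne' (Nat.dvd_one.mp this)
  obtain ⟨P₀⟩ : Nonempty (Sylow p K) := inferInstance
  set P : Subgroup L := (P₀ : Subgroup K).map K.subtype with hPdef
  have hPK : P ≤ K := by
    rintro x ⟨y, -, rfl⟩
    exact y.2
  have hPp : IsPGroup p P := P₀.isPGroup'.map K.subtype
  have hPne : P ≠ ⊥ := by
    intro h
    have h1 := P₀.ne_bot_of_dvd_card hpK
    apply h1
    rw [hPdef, Subgroup.map_eq_bot_iff_of_injective _ K.subtype_injective] at h
    exact h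
  set X : Subgroup L := Subgroup.normalizer (P : Set L) with hX
  have hfrat : X ⊔ K = ⊤ := Sylow.normalizer_sup_eq_top P₀
  -- Schur–Zassenhaus in X
  set N : Subgroup X := K.subgroupOf X with hN
  haveI : N.Normal := Subgroup.normal_subgroupOf
  have hNidx : N.index = Nat.card H := by
    have h1 : N.index = K.relIndex X := rfl
    rw [h1, ← Subgroup.relIndex_sup_right X K, hfrat, Subgroup.relIndex_top_right, hKidx]
  have hNcard : Nat.card N ∣ Nat.card K := by
    let f : N →* K :=
      { toFun := fun x => ⟨((x : X) : L), Subgroup.mem_subgroupOf.mp x.2⟩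
        map_one' := rfl
        map_mul' := fun _ _ => rfl }
    apply Subgroup.card_dvd_of_injective f
    intro a b hab
    apply Subtype.ext
    apply Subtype.ext
    exact congrArg (fun t : K => (t : L)) hab
  have hNcop : (Nat.card N).Coprime N.index := by
    rw [hNidx]
    exact Nat.Coprime.coprime_dvd_left hNcard hcop
  obtain ⟨H', hH'⟩ := Subgroup.exists_right_complement'_of_coprime hNcop
  set H₁ : Subgroup L := H'.map X.subtype with hH₁
  have hH₁card : Nat.card H₁ = Nat.card H := by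
    rw [hH₁, Subgroup.card_map_of_injective X.subtype_injective, ← hNidx]
    exact hH'.symm.index_eq_card.symm
  have hH₁X : ∀ h ∈ H₁, h ∈ X := by
    rintro h ⟨y, -, rfl⟩
    exact y.2
  have hH₁K : ∀ x ∈ H₁, x ∈ K → x = 1 := by
    rintro x ⟨y, hy, rfl⟩ hxK
    have h1 : y ∈ N := Subgroup.mem_subgroupOf.mpr hxK
    have h2 : y ∈ N ⊓ H' := ⟨h1, hy⟩
    rw [hH'.disjoint.eq_bot, Subgroup.mem_bot] at h2
    rw [h2]
    rfl
  have hHK : ∀ x ∈ H, x ∈ K → x = 1 := by
    intro x hxH hxK
    have h2 : x ∈ K ⊓ H := ⟨hxK, hxH⟩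
    rw [hcompl.disjoint.eq_bot, Subgroup.mem_bot] at h2
    exact h2
  have e1 : H ≃* L ⧸ K := equivQuotientOfDisjoint K H hHK (by rw [hKidx])
  have e2 : H₁ ≃* L ⧸ K := equivQuotientOfDisjoint K H₁ hH₁K (by rw [hKidx, hH₁card])
  refine ⟨p, hpf, H₁, omegaCenter P p, ⟨e1.trans e2.symm⟩, ?_, omegaCenter_ne_bot P hPp hPne,
    ?_, ?_, ?_, ?_⟩
  · rw [hH₁card]
    exact ((Nat.Prime.coprime_iff_not_dvd hp).mpr hpH).symm
  · intro x hx y hy
    exact hx.2.1 y hy.1
  · intro x hx
    exact hx.2.2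
  · intro h hh x hx
    exact conj_mem_omegaCenter (hH₁X h hh) hx
  · intro h hh hne x hx hfix
    have hhK : h ∉ K := fun hK => hne (hH₁K h hh hK)
    have hhker : h ∉ frobeniusKernel H := by
      rw [← hKset]
      exact hhK
    rw [Cfsg.Agent.Lib.Helper18.mem_frobeniusKernel_iff] at hhker
    push Not at hhker
    obtain ⟨-, g, hg⟩ := hhker
    have hxK : x ∈ K := hPK hx.1
    have hx'K : g⁻¹ * x * g ∈ K := by
      have := hKn.conj_mem x hxK g⁻¹
      simpa using this
    have hh'1 : g⁻¹ * h * g ≠ 1 := by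
      intro h1
      apply hne
      have : h = g * (g⁻¹ * h * g) * g⁻¹ := by group
      rw [this, h1]
      group
    have h3 : x * h = h * x := by
      have : h * x = (h * x * h⁻¹) * h := by group
      rw [this, hfix]
    have hc : g⁻¹ * x * g ∈ Subgroup.centralizer {g⁻¹ * h * g} := by
      rw [Subgroup.mem_centralizer_singleton_iff]
      calc g⁻¹ * x * g * (g⁻¹ * h * g) = g⁻¹ * (x * h) * g := by group
        _ = g⁻¹ * (h * x) * g := by rw [h3]
        _ = g⁻¹ * h * g * (g⁻¹ * x * g) := by group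
    have hcomm : g⁻¹ * x * g ∈ K ⊓ Subgroup.centralizer {g⁻¹ * h * g} :=
      Subgroup.mem_inf.mpr ⟨hx'K, hc⟩
    rw [hfpfK _ hg hh'1, Subgroup.mem_bot] at hcomm
    have : x = g * (g⁻¹ * x * g) * g⁻¹ := by group
    rw [this, hcomm]
    group

end Cfsg.Agent.Lib.Helper13.FrobRep
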