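/-
helper13: a finite group mapping multiplicatively into a ring of characteristic zero, so that
nonidentity elements have no nonzero fixed points under left multiplication, is a Frobenius
complement (general-ring version of helper22's S4293 `case_zero`).
-/
import Mathlib
import Cfsg.Agent.Lib.Helper22.FrobRing

set_option autoImplicit false

namespace Cfsg.Agent.Lib.Helper13.FrobRingZ

open Cfsg.Agent.Lib.Helper22

universe u v

variable {D : Type u} [Ring D] {K : Type v} [Group K] (ψ : K →* D)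

/-- the `ℤ`-subalgebra generated by the image of `ψ` -/
def genAlg : Subalgebra ℤ D := Algebra.adjoin ℤ (MonoidHom.mrange ψ : Set D)

theorem genAlg_toSubmodule :
    Subalgebra.toSubmodule (genAlg ψ) = Submodule.span ℤ (MonoidHom.mrange ψ : Set D) := by
  rw [genAlg, Algebra.adjoin_eq_span, Submonoid.closure_eq]

theorem mrange_finite [Finite K] : (MonoidHom.mrange ψ : Set D).Finite := by
  have : (MonoidHom.mrange ψ : Set D) = Set.range ψ := by
    ext x
    simp
  rw [this]
  exact Set.finite_range _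

theorem genAlg_fg [Finite K] : (Subalgebra.toSubmodule (genAlg ψ)).FG := by
  rw [genAlg_toSubmodule]
  exact Submodule.fg_span (mrange_finite ψ)

theorem apply_mem_genAlg (k : K) : ψ k ∈ genAlg ψ :=
  Algebra.subset_adjoin ⟨k, rfl⟩

/-- `ψ` with values in the subalgebra -/
def incl : K →* genAlg ψ where
  toFun k := ⟨ψ k, apply_mem_genAlg ψ k⟩
  map_one' := by
    apply Subtype.ext
    simp
  map_mul' := by
    intro a b
    apply Subtype.ext
    simp

theorem coe_incl (k : K) : ((incl ψ k : genAlg ψ) : D) = ψ k := rfl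

/-- The ideal generated by a natural number is two-sided. -/
theorem span_natCast_isTwoSided (p : ℕ) : (Ideal.span {(p : genAlg ψ)}).IsTwoSided := by
  refine ⟨?_⟩
  intro a b ha
  rw [Ideal.mem_span_singleton'] at ha ⊢
  obtain ⟨c, rfl⟩ := ha
  exact ⟨c * b, by rw [mul_assoc, mul_assoc, Nat.cast_comm]⟩

theorem natCast_smul_mem (p : ℕ) (x : genAlg ψ) : p • x ∈ Ideal.span {(p : genAlg ψ)} := by
  rw [Ideal.mem_span_singleton']
  exact ⟨x, by rw [nsmul_eq_mul, Nat.cast_comm]⟩

theorem finite_quot [Finite K] (p : ℕ) (hp : p ≠ 0) :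
    Finite (genAlg ψ ⧸ Ideal.span {(p : genAlg ψ)}) := by
  haveI := span_natCast_isTwoSided ψ p
  haveI h1 : Module.Finite ℤ (Subalgebra.toSubmodule (genAlg ψ)) :=
    Module.Finite.iff_fg.2 (genAlg_fg ψ)
  haveI h2 : Module.Finite ℤ (genAlg ψ) := h1
  haveI h3 : Module.Finite ℤ (genAlg ψ ⧸ Ideal.span {(p : genAlg ψ)}) :=
    Module.Finite.of_surjective
      ((Ideal.Quotient.mk (Ideal.span {(p : genAlg ψ)})).toAddMonoidHom.toIntLinearMap)
      Ideal.Quotient.mk_surjective
  apply Module.finite_of_fg_torsion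
  intro y
  obtain ⟨x, rfl⟩ := Ideal.Quotient.mk_surjective y
  refine ⟨⟨(p : ℤ), mem_nonZeroDivisors_of_ne_zero (by exact_mod_cast hp)⟩, ?_⟩
  show (p : ℤ) • (Ideal.Quotient.mk (Ideal.span {(p : genAlg ψ)}) x) = 0
  rw [natCast_zsmul, ← map_nsmul, Ideal.Quotient.eq_zero_iff_mem]
  exact natCast_smul_mem ψ p x

/-- A finite group mapping into a ring of characteristic zero so that nonidentity elements have no
nonzero fixed points under left multiplication is a Frobenius complement. -/
theorem exists_frobenius_of_charZero_ring [CharZero D] [Finite K] [Nontrivial K]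
    (hfpf : ∀ k : K, k ≠ 1 → ∀ x : D, ψ k * x = x → x = 0) :
    ∃ (L : Type) (_ : Group L) (_ : Finite L) (C : Subgroup L),
      Cfsg.IsFrobeniusComplement C ∧ Nonempty (K ≃* C) := by
  obtain ⟨p, hpge, hp⟩ := Nat.exists_infinite_primes (Nat.card K + 1)
  haveI := span_natCast_isTwoSided ψ p
  haveI := finite_quot ψ p hp.ne_zero
  have hnt : Ideal.span {(p : genAlg ψ)} ≠ ⊤ := by
    intro htop
    have h1 : (1 : genAlg ψ) ∈ Ideal.span {(p : genAlg ψ)} := by rw [htop]; trivial
    obtain ⟨r, hr⟩ := Ideal.mem_span_singleton'.1 h1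
    have hr' : (r : D) * (p : D) = 1 := by
      have h0 : ((p : genAlg ψ) : D) = (p : D) := map_natCast (genAlg ψ).val p
      have := congrArg Subtype.val hr
      rw [Subalgebra.coe_mul, h0] at this
      exact this
    have hle : Subalgebra.toSubmodule (genAlg ψ) ≤
        Ideal.span {(p : ℤ)} • Subalgebra.toSubmodule (genAlg ψ) := by
      intro n hn
      have h2 : n = (p : ℤ) • ((r : D) * n) := by
        rw [zsmul_eq_mul, Int.cast_natCast, ← mul_assoc, Nat.cast_comm, hr', one_mul]
      rw [h2]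
      exact Submodule.smul_mem_smul (Ideal.mem_span_singleton_self _)
        ((genAlg ψ).mul_mem r.2 hn)
    obtain ⟨s, hs1, hs2⟩ := Submodule.exists_sub_one_mem_and_smul_eq_zero_of_fg_of_le_smul _ _
      (genAlg_fg ψ) hle
    have h3 := hs2 1 ((Subalgebra.mem_toSubmodule (genAlg ψ)).2 (genAlg ψ).one_mem)
    rw [zsmul_eq_mul, mul_one, Int.cast_eq_zero] at h3
    rw [h3, zero_sub, Ideal.mem_span_singleton, dvd_neg] at hs1
    have h4 : p ∣ 1 := Int.natCast_dvd_natCast.1 (by exact_mod_cast hs1)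
    exact hp.one_lt.ne' (Nat.dvd_one.1 h4)
  haveI : Nontrivial (genAlg ψ ⧸ Ideal.span {(p : genAlg ψ)}) :=
    Ideal.Quotient.nontrivial_iff.2 hnt
  refine exists_frobenius_of_ring
    ((Ideal.Quotient.mk (Ideal.span {(p : genAlg ψ)})).toMonoidHom.comp (incl ψ)) ?_
  intro h hh y hy
  set b : genAlg ψ ⧸ Ideal.span {(p : genAlg ψ)} :=
    Ideal.Quotient.mk (Ideal.span {(p : genAlg ψ)}) (incl ψ h) with hb
  have hy' : b * y = y := hy
  have hpow : ∀ i : ℕ, b ^ i * y = y := by
    intro i
    induction i with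
    | zero => rw [pow_zero, one_mul]
    | succ i ih => rw [pow_succ, mul_assoc, hy', ih]
  have hsum : (∑ i ∈ Finset.range (orderOf h), b ^ i) * y = orderOf h • y := by
    rw [Finset.sum_mul, Finset.sum_congr rfl (fun i _ => hpow i), Finset.sum_const,
      Finset.card_range]
  have hzeroD : ∑ i ∈ Finset.range (orderOf h), (ψ h) ^ i = 0 := by
    have h1 := mul_geom_sum (ψ h) (orderOf h)
    have h2 : (ψ h) ^ orderOf h = 1 := by
      rw [← map_pow, pow_orderOf_eq_one, map_one]
    rw [h2, sub_self, sub_mul, one_mul, sub_eq_zero] at h1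
    exact hfpf h hh _ h1
  have hzero : ∑ i ∈ Finset.range (orderOf h), b ^ i = 0 := by
    have hbi : ∀ i : ℕ, b ^ i =
        Ideal.Quotient.mk (Ideal.span {(p : genAlg ψ)}) ((incl ψ h) ^ i) := fun i => by
      rw [hb, map_pow]
    have : ∑ i ∈ Finset.range (orderOf h), (incl ψ h) ^ i = 0 := by
      apply Subtype.ext
      rw [AddSubmonoidClass.coe_finsetSum]
      simp only [SubmonoidClass.coe_pow, coe_incl]
      exact hzeroD
    rw [Finset.sum_congr rfl (fun i _ => hbi i), ← map_sum, this, map_zero]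
  rw [hzero, zero_mul] at hsum
  have hpy : p • y = 0 := by
    obtain ⟨x, rfl⟩ := Ideal.Quotient.mk_surjective y
    rw [← map_nsmul, Ideal.Quotient.eq_zero_iff_mem]
    exact natCast_smul_mem ψ p x
  have hn1 : addOrderOf y ∣ orderOf h := addOrderOf_dvd_of_nsmul_eq_zero hsum.symm
  have hn2 : addOrderOf y ∣ p := addOrderOf_dvd_of_nsmul_eq_zero hpy
  have hcop : Nat.Coprime (orderOf h) p := by
    rw [Nat.coprime_comm, hp.coprime_iff_not_dvd]
    intro hdvd
    have h1 : orderOf h ∣ Nat.card K := orderOf_dvd_natCard h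
    have h2 : 0 < Nat.card K := Nat.card_pos
    have h3 := Nat.le_of_dvd h2 (hdvd.trans h1)
    omega
  have h5 : addOrderOf y = 1 := Nat.eq_one_of_dvd_coprimes hcop hn1 hn2
  exact AddMonoid.addOrderOf_eq_one_iff.1 h5

end Cfsg.Agent.Lib.Helper13.FrobRingZ
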