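import Mathlib
import Cfsg.Agent.Lib.Helper13.GL2Sylow

/-!
Helper lemmas (helper13): Sylow `p`-subgroups of `GL₂(F)` in the defining characteristic, continued:
elements have order `p`, distinct Sylow subgroups meet trivially, centralisers of their elements.
-/

set_option autoImplicit false

namespace Cfsg.Agent.Lib.Helper13

open Matrix

variable {F : Type*} [Field F]

/-- A `p`-element of `GL₂(F)`, `F` of characteristic `p`, has `p`-th power one. -/
theorem pow_char_eq_one_of_pow_char_pow (p : ℕ) [Fact p.Prime] [CharP F p] (g : GL (Fin 2) F) (k : ℕ)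
    (hg : g ^ p ^ k = 1) : g ^ p = 1 := by
  have hp : p.Prime := Fact.out
  have hc : CharP (Matrix (Fin 2) (Fin 2) F) p := Matrix.charP p
  set N : Matrix (Fin 2) (Fin 2) F := (g : Matrix (Fin 2) (Fin 2) F) - 1 with hN
  have hcomm : Commute ((g : Matrix (Fin 2) (Fin 2) F)) 1 := Commute.one_right _
  have hnil : IsNilpotent N := by
    refine ⟨p ^ k, ?_⟩
    rw [hN, sub_pow_char_pow_of_commute (p := p) (n := k) hcomm, one_pow, sub_eq_zero]
    have := congrArg (fun x : GL (Fin 2) F => (x : Matrix (Fin 2) (Fin 2) F)) hg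
    simpa using this
  have hN2 : N ^ 2 = 0 := nilpotent_pow_card N hnil
  have hNp : N ^ p = 0 := by
    rw [← Nat.sub_add_cancel hp.two_le, pow_add, hN2, mul_zero]
  apply Units.ext
  rw [Units.val_pow_eq_pow_val, Units.val_one]
  have hg' : (g : Matrix (Fin 2) (Fin 2) F) = N + 1 := by rw [hN]; abel
  rw [hg', add_pow_char_of_commute (p := p) (Commute.one_right N), hNp, one_pow, zero_add]

section sylow

variable [Fintype F] (p : ℕ) [Fact p.Prime] [CharP F p]

omit [Fintype F] in
theorem orderOf_eq_char_of_mem_sylow (P : Sylow p (GL (Fin 2) F)) {a : GL (Fin 2) F} (ha : a ∈ P)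
    (ha1 : a ≠ 1) : orderOf a = p := by
  obtain ⟨k, hk⟩ := P.2 ⟨a, ha⟩
  have hk' : a ^ p ^ k = 1 := by
    have := congrArg Subtype.val hk
    simpa using this
  exact orderOf_eq_prime (pow_char_eq_one_of_pow_char_pow p a k hk') ha1

/-- The only Sylow `p`-subgroup containing a non-trivial upper unitriangular matrix is the upper
unitriangular group. -/
theorem eq_sylowUnipGL_of_tGL_mem (R : Sylow p (GL (Fin 2) F)) {t : F} (ht : t ≠ 0)
    (h : tGL t ∈ R) : R = sylowUnipGL p := by
  obtain ⟨g, rfl⟩ := MulAction.exists_smul_eq (GL (Fin 2) F) (sylowUnipGL (F := F) p) R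
  have h' : tGL t ∈ ((g • sylowUnipGL (F := F) p : Sylow p (GL (Fin 2) F)) : Subgroup (GL (Fin 2) F)) := h
  rw [Sylow.coe_subgroup_smul, Subgroup.mem_pointwise_smul_iff_inv_smul_mem, coe_sylowUnipGL] at h'
  obtain ⟨s, hs⟩ := mem_unipGL.mp h'
  simp only [MulAut.smul_def, ← map_inv, MulAut.conj_apply, inv_inv] at hs
  -- hs : tGL s = g⁻¹ * tGL t * g
  have hg : g ∈ borelGL F := by
    apply upper_of_conj_tGL ht (s := s)
    rw [hs]; group
  rw [Sylow.smul_eq_iff_mem_normalizer]
  change g ∈ Subgroup.normalizer ((unipGL F : Subgroup (GL (Fin 2) F)) : Set (GL (Fin 2) F))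
  rw [normalizer_unipGL]
  exact hg

/-- A non-trivial `p`-element of `GL₂(F)` lies in a unique Sylow `p`-subgroup. -/
theorem sylow_eq_of_mem_of_mem (P Q : Sylow p (GL (Fin 2) F)) {a : GL (Fin 2) F} (ha1 : a ≠ 1)
    (haP : a ∈ P) (haQ : a ∈ Q) : P = Q := by
  have hp : p.Prime := Fact.out
  have hord := orderOf_eq_char_of_mem_sylow p P haP ha1
  have h1 : orderOf (tGL (1 : F)) = p := by
    apply orderOf_eq_prime
    · have : ∀ n : ℕ, tGL (1 : F) ^ n = tGL (n : F) := by
        intro n
        induction n with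
        | zero => simp [tGL_zero]
        | succ n ih => rw [pow_succ, ih, tGL_mul]; push_cast; rfl
      rw [this, CharP.cast_eq_zero, tGL_zero]
    · intro h
      rw [← tGL_zero] at h
      exact one_ne_zero (tGL_injective h)
  obtain ⟨c, hc⟩ := isConj_iff.mp (isConj_of_orderOf_eq_char p a (tGL 1) hord h1)
  -- hc : c * a * c⁻¹ = tGL 1
  have key : ∀ R : Sylow p (GL (Fin 2) F), a ∈ R → c • R = sylowUnipGL p := by
    intro R haR
    apply eq_sylowUnipGL_of_tGL_mem p (c • R) (one_ne_zero (α := F))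
    change tGL (1 : F) ∈ ((c • R : Sylow p (GL (Fin 2) F)) : Subgroup (GL (Fin 2) F))
    rw [Sylow.coe_subgroup_smul, Subgroup.mem_pointwise_smul_iff_inv_smul_mem]
    simp only [MulAut.smul_def, ← map_inv, MulAut.conj_apply, inv_inv]
    have : c⁻¹ * tGL 1 * c = a := by rw [← hc]; group
    rw [this]
    exact haR
  have := (key P haP).trans (key Q haQ).symm
  exact smul_left_cancel c this

/-- Distinct Sylow `p`-subgroups of `GL₂(q)` intersect trivially. -/
theorem sylow_inf_eq_bot (P Q : Sylow p (GL (Fin 2) F)) (h : P ≠ Q) :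
    (P : Subgroup (GL (Fin 2) F)) ⊓ (Q : Subgroup (GL (Fin 2) F)) = ⊥ := by
  rw [eq_bot_iff]
  intro a ha
  rw [Subgroup.mem_bot]
  by_contra ha1
  exact h (sylow_eq_of_mem_of_mem p P Q ha1 ha.1 ha.2)

end sylow

/-- The centraliser of `tGL 1` is in bijection with `Fˣ × F`. -/
theorem mem_centralizer_tGL_iff (X : GL (Fin 2) F) :
    X ∈ Subgroup.centralizer ({tGL (1 : F)} : Set (GL (Fin 2) F)) ↔
      (X : Matrix (Fin 2) (Fin 2) F) 1 0 = 0 ∧
        (X : Matrix (Fin 2) (Fin 2) F) 0 0 = (X : Matrix (Fin 2) (Fin 2) F) 1 1 := by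
  rw [Subgroup.mem_centralizer_singleton_iff]
  constructor
  · intro h
    have h00 := congrArg (fun Y : GL (Fin 2) F => (Y : Matrix (Fin 2) (Fin 2) F) 0 0) h
    have h01 := congrArg (fun Y : GL (Fin 2) F => (Y : Matrix (Fin 2) (Fin 2) F) 0 1) h
    simp only [Units.val_mul, tGL_coe, Matrix.mul_apply, Fin.sum_univ_two] at h00 h01
    simp at h00 h01
    refine ⟨h00, ?_⟩
    linear_combination h01
  · rintro ⟨h10, h00⟩
    apply Units.ext
    rw [Units.val_mul, Units.val_mul, tGL_coe]
    ext i j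
    fin_cases i <;> fin_cases j <;> simp [Matrix.mul_apply, Fin.sum_univ_two, h10, h00]
    ring

noncomputable def centralizerTGLEquiv (F : Type*) [Field F] :
    Subgroup.centralizer ({tGL (1 : F)} : Set (GL (Fin 2) F)) ≃ Fˣ × F where
  toFun g := (Units.mk0 ((g.1 : Matrix (Fin 2) (Fin 2) F) 0 0) (by
      have h := (mem_centralizer_tGL_iff g.1).mp g.2
      exact (diag_ne_zero_of_mem_borelGL (mem_borelGL.mpr h.1)).1),
    (g.1 : Matrix (Fin 2) (Fin 2) F) 0 1)
  invFun x := ⟨Matrix.GeneralLinearGroup.mkOfDetNeZero !![(x.1 : F), x.2; 0, (x.1 : F)]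
    (by simp [Matrix.det_fin_two]), by
      rw [mem_centralizer_tGL_iff]
      simp [Matrix.GeneralLinearGroup.mkOfDetNeZero]⟩
  left_inv g := by
    apply Subtype.ext
    apply Units.ext
    have h := (mem_centralizer_tGL_iff g.1).mp g.2
    ext i j
    fin_cases i <;> fin_cases j <;> simp [Matrix.GeneralLinearGroup.mkOfDetNeZero, h.1, h.2]
  right_inv x := by
    obtain ⟨a, b⟩ := x
    simp [Matrix.GeneralLinearGroup.mkOfDetNeZero]

theorem card_centralizer_tGL [Fintype F] :
    Nat.card (Subgroup.centralizer ({tGL (1 : F)} : Set (GL (Fin 2) F))) =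
      Fintype.card F * (Fintype.card F - 1) := by
  rw [Nat.card_congr (centralizerTGLEquiv F), Nat.card_prod, Nat.card_units, Nat.card_eq_fintype_card]
  ring

/-- Conjugate elements have centralisers of the same order. -/
theorem card_centralizer_eq_of_isConj {G : Type*} [Group G] [Finite G] {a b : G} (h : IsConj a b) :
    Nat.card (Subgroup.centralizer ({a} : Set G)) = Nat.card (Subgroup.centralizer ({b} : Set G)) := by
  have h1 := card_carrier_mul_card_centralizer a
  have h2 := card_carrier_mul_card_centralizer b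
  rw [ConjClasses.mk_eq_mk_iff_isConj.mpr h] at h1
  have hpos : 0 < Nat.card (ConjClasses.mk b).carrier := by
    have : Nonempty (ConjClasses.mk b).carrier := ⟨⟨b, ConjClasses.mem_carrier_mk⟩⟩
    exact Nat.card_pos
  exact Nat.eq_of_mul_eq_mul_left hpos (h1.trans h2.symm)

/-- In `GL₂(q)` the centraliser of a non-trivial element of a Sylow `p`-subgroup has order `q (q-1)`. -/
theorem card_centralizer_of_mem_sylow [Fintype F] (p : ℕ) [Fact p.Prime] [CharP F p]
    (P : Sylow p (GL (Fin 2) F)) {a : GL (Fin 2) F} (ha : a ∈ P) (ha1 : a ≠ 1) :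
    Nat.card (Subgroup.centralizer ({a} : Set (GL (Fin 2) F))) =
      Fintype.card F * (Fintype.card F - 1) := by
  have hord := orderOf_eq_char_of_mem_sylow p P ha ha1
  have h1 : orderOf (tGL (1 : F)) = p := by
    apply orderOf_eq_prime
    · have : ∀ n : ℕ, tGL (1 : F) ^ n = tGL (n : F) := by
        intro n
        induction n with
        | zero => simp [tGL_zero]
        | succ n ih => rw [pow_succ, ih, tGL_mul]; push_cast; rfl
      rw [this, CharP.cast_eq_zero, tGL_zero]
    · intro h
      rw [← tGL_zero] at h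
      exact one_ne_zero (tGL_injective h)
  rw [card_centralizer_eq_of_isConj (isConj_of_orderOf_eq_char p a (tGL 1) hord h1),
    card_centralizer_tGL]

end Cfsg.Agent.Lib.Helper13
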