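/-
helper13: Sylow 2-subgroups of `GL₂(F)`, `F` finite of odd order: order, and the quasi-dihedral /
wreathed models.
-/
import Mathlib
import Cfsg.Agent.Lib.Helper13.TwoGroupModels
import Cfsg.Agent.Lib.Helper13.PSL2Spectrum

set_option autoImplicit false

namespace Cfsg.Agent.Lib.Helper13

open Matrix

section arithmetic

theorem fact_two_of_mod_four_eq_two (a : ℕ) (h : a % 4 = 2) : a.factorization 2 = 1 := by
  obtain ⟨b, hb⟩ : ∃ b, a = 2 * b := ⟨a / 2, by omega⟩
  have hbodd : ¬ 2 ∣ b := by omega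
  have hb0 : b ≠ 0 := by omega
  rw [hb, Nat.factorization_mul (by norm_num) hb0]
  simp only [Finsupp.coe_add, Pi.add_apply]
  rw [Nat.Prime.factorization_self Nat.prime_two, Nat.factorization_eq_zero_of_not_dvd hbodd]

theorem two_le_fact_two_of_four_dvd (a : ℕ) (ha : a ≠ 0) (h : a % 4 = 0) :
    2 ≤ a.factorization 2 := by
  rw [← Nat.Prime.pow_dvd_iff_le_factorization Nat.prime_two ha]
  exact Nat.dvd_of_mod_eq_zero h

theorem fact_two_card_GL2 (q : ℕ) (hq : 2 ≤ q) (hodd : Odd q) :
    ((q ^ 2 - 1) * (q ^ 2 - q)).factorization 2 =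
      2 * (q - 1).factorization 2 + (q + 1).factorization 2 := by
  obtain ⟨r, hr⟩ : ∃ r, q = r + 2 := ⟨q - 2, by omega⟩
  have h1 : q ^ 2 - 1 = (q - 1) * (q + 1) := by
    rw [hr]
    have : (r + 2) ^ 2 - 1 = (r + 1) * (r + 3) := by
      rw [Nat.sub_eq_iff_eq_add (Nat.one_le_pow _ _ (by omega))]
      ring
    rw [this]
    rfl
  have h2 : q ^ 2 - q = q * (q - 1) := by
    rw [hr]
    have : (r + 2) ^ 2 - (r + 2) = (r + 2) * (r + 1) := by
      rw [Nat.sub_eq_iff_eq_add (by nlinarith)]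
      ring
    rw [this]
    rfl
  have hq1 : q - 1 ≠ 0 := by omega
  have hq2 : q + 1 ≠ 0 := by omega
  have hq0 : q ≠ 0 := by omega
  have hqodd : ¬ 2 ∣ q := by
    obtain ⟨s, hs⟩ := hodd
    omega
  rw [h1, h2, Nat.factorization_mul (Nat.mul_ne_zero hq1 hq2) (Nat.mul_ne_zero hq0 hq1),
    Nat.factorization_mul hq1 hq2, Nat.factorization_mul hq0 hq1]
  simp only [Finsupp.coe_add, Pi.add_apply]
  rw [Nat.factorization_eq_zero_of_not_dvd hqodd]
  ring

end arithmetic

section card

variable {F : Type*} [Field F] [Fintype F]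

theorem card_GL2_oddq : Nat.card (GL (Fin 2) F) =
    (Fintype.card F ^ 2 - 1) * (Fintype.card F ^ 2 - Fintype.card F) := by
  rw [Matrix.card_GL_field]
  simp only [Fin.prod_univ_two, Fin.val_zero, Fin.val_one, pow_zero, pow_one, Fintype.card_fin]

theorem card_sylow_two_GL2 (hodd : Odd (Fintype.card F)) (P : Sylow 2 (GL (Fin 2) F)) :
    Nat.card (P : Subgroup (GL (Fin 2) F)) =
      2 ^ (2 * (Fintype.card F - 1).factorization 2 + (Fintype.card F + 1).factorization 2) := by
  rw [Sylow.card_eq_multiplicity, card_GL2_oddq,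
    fact_two_card_GL2 _ Fintype.one_lt_card hodd]

end card

section wreathed

variable {F : Type*} [Field F]

/-- `a ↦ diag(a, 1)` as a monoid homomorphism. -/
def diagOne : F →* Matrix (Fin 2) (Fin 2) F where
  toFun a := !![a, 0; 0, 1]
  map_one' := by ext i j; fin_cases i <;> fin_cases j <;> simp
  map_mul' a b := by ext i j; fin_cases i <;> fin_cases j <;> simp

theorem diagOne_injective : Function.Injective (diagOne (F := F)) := by
  intro a b h
  have := congr_fun (congr_fun h 0) 0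
  simpa [diagOne] using this

/-- The swap matrix as an element of `GL₂`. -/
def swapGL : GL (Fin 2) F where
  val := !![0, 1; 1, 0]
  inv := !![0, 1; 1, 0]
  val_inv := by ext i j; fin_cases i <;> fin_cases j <;> simp
  inv_val := by ext i j; fin_cases i <;> fin_cases j <;> simp

theorem swapGL_mul_self : (swapGL : GL (Fin 2) F) * swapGL = 1 := by
  apply Units.ext
  change (!![0, 1; 1, 0] : Matrix (Fin 2) (Fin 2) F) * !![0, 1; 1, 0] = 1
  ext i j; fin_cases i <;> fin_cases j <;> simp

theorem orderOf_swapGL : orderOf (swapGL : GL (Fin 2) F) = 2 := by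
  apply orderOf_eq_prime
  · rw [pow_two]; exact swapGL_mul_self
  · intro h
    have := congrArg (fun g : GL (Fin 2) F => (g : Matrix (Fin 2) (Fin 2) F) 0 1) h
    simp [swapGL] at this

theorem conj_swapGL_val (a : Fˣ) :
    ((swapGL * Units.map (diagOne (F := F)) a * swapGL⁻¹ : GL (Fin 2) F) :
      Matrix (Fin 2) (Fin 2) F) = !![1, 0; 0, (a : F)] := by
  change (!![0, 1; 1, 0] : Matrix (Fin 2) (Fin 2) F) * !![(a : F), 0; 0, 1] * !![0, 1; 1, 0] = _
  ext i j; fin_cases i <;> fin_cases j <;> simp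

theorem wreathed_data [Finite F] (n : ℕ) (a : Fˣ) (ha : orderOf a = 2 ^ n) :
    orderOf (Units.map (diagOne (F := F)) a : GL (Fin 2) F) = 2 ^ n ∧
    (Units.map (diagOne (F := F)) a : GL (Fin 2) F) *
        (swapGL * Units.map (diagOne (F := F)) a * swapGL⁻¹) =
      (swapGL * Units.map (diagOne (F := F)) a * swapGL⁻¹) *
        (Units.map (diagOne (F := F)) a : GL (Fin 2) F) ∧
    Subgroup.zpowers (Units.map (diagOne (F := F)) a : GL (Fin 2) F) ⊓
      Subgroup.zpowers (swapGL * Units.map (diagOne (F := F)) a * swapGL⁻¹) = ⊥ := by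
  refine ⟨?_, ?_, ?_⟩
  · rw [orderOf_injective (Units.map (diagOne (F := F))) (Units.map_injective diagOne_injective) a,
      ha]
  · have hY := conj_swapGL_val a
    apply Units.ext
    calc (((Units.map (diagOne (F := F)) a : GL (Fin 2) F) *
          (swapGL * Units.map (diagOne (F := F)) a * swapGL⁻¹) : GL (Fin 2) F) :
          Matrix (Fin 2) (Fin 2) F)
        = ((Units.map (diagOne (F := F)) a : GL (Fin 2) F) : Matrix (Fin 2) (Fin 2) F) *
          ((swapGL * Units.map (diagOne (F := F)) a * swapGL⁻¹ : GL (Fin 2) F) :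
            Matrix (Fin 2) (Fin 2) F) := Units.val_mul _ _
      _ = (!![(a : F), 0; 0, 1] : Matrix (Fin 2) (Fin 2) F) * !![1, 0; 0, (a : F)] := by
          rw [hY]; rfl
      _ = !![1, 0; 0, (a : F)] * !![(a : F), 0; 0, 1] := by
          ext i j; fin_cases i <;> fin_cases j <;> simp
      _ = ((swapGL * Units.map (diagOne (F := F)) a * swapGL⁻¹ : GL (Fin 2) F) :
            Matrix (Fin 2) (Fin 2) F) *
          ((Units.map (diagOne (F := F)) a : GL (Fin 2) F) : Matrix (Fin 2) (Fin 2) F) := by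
          rw [hY]; rfl
      _ = _ := (Units.val_mul _ _).symm
  · rw [eq_bot_iff]
    intro w hw
    obtain ⟨hw1, hw2⟩ := Subgroup.mem_inf.mp hw
    obtain ⟨i, hi⟩ := Subgroup.mem_zpowers_iff.mp hw1
    obtain ⟨j, hj⟩ := Subgroup.mem_zpowers_iff.mp hw2
    rw [Subgroup.mem_bot]
    -- compare the `(1,1)` entries
    have h1 : (w : Matrix (Fin 2) (Fin 2) F) 1 1 = 1 := by
      have e : (Units.map (diagOne (F := F)) a) ^ i = Units.map (diagOne (F := F)) (a ^ i) :=
        (map_zpow _ a i).symm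
      rw [← hi, e]
      change (diagOne (((a ^ i : Fˣ)) : F)) 1 1 = 1
      simp [diagOne]
    have hconj : (swapGL * Units.map (diagOne (F := F)) a * swapGL⁻¹ : GL (Fin 2) F) ^ j =
        swapGL * Units.map (diagOne (F := F)) (a ^ j) * swapGL⁻¹ := by
      have := map_zpow (MulAut.conj (swapGL : GL (Fin 2) F)) (Units.map (diagOne (F := F)) a) j
      simp only [MulAut.conj_apply] at this
      rw [← this, map_zpow]
    have h2 : (w : Matrix (Fin 2) (Fin 2) F) 1 1 = ((a ^ j : Fˣ) : F) := by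
      rw [← hj, hconj, conj_swapGL_val]
      simp
    have haj : a ^ j = 1 := by
      apply Units.ext
      rw [← h2, h1]
      rfl
    rw [← hj, hconj, haj, map_one]
    group

end wreathed

section quasidihedral

variable {F : Type*} [Field F]

/-- The matrix `[[0, 1], [1, s]]` (trace `s`, determinant `-1`). -/
def qdXgl (s : F) : GL (Fin 2) F where
  val := !![0, 1; 1, s]
  inv := !![-s, 1; 1, 0]
  val_inv := by ext i j; fin_cases i <;> fin_cases j <;> simp
  inv_val := by ext i j; fin_cases i <;> fin_cases j <;> simp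

/-- The involution `[[1, 0], [s, -1]]`. -/
def qdYgl (s : F) : GL (Fin 2) F where
  val := !![1, 0; s, -1]
  inv := !![1, 0; s, -1]
  val_inv := by ext i j; fin_cases i <;> fin_cases j <;> simp
  inv_val := by ext i j; fin_cases i <;> fin_cases j <;> simp

theorem qdX_val (s : F) : ((qdXgl s : GL (Fin 2) F) : Matrix (Fin 2) (Fin 2) F) = !![0, 1; 1, s] := rfl

theorem orderOf_qdYgl (h2 : (2 : F) ≠ 0) (s : F) : orderOf (qdYgl s) = 2 := by
  apply orderOf_eq_prime
  · rw [pow_two]
    apply Units.ext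
    exact (qdYgl s).val_inv
  · intro h
    have := congrArg (fun g : GL (Fin 2) F => (g : Matrix (Fin 2) (Fin 2) F) 1 1) h
    simp only [qdYgl, Units.val_one, Matrix.one_apply_eq] at this
    have h3 : (-1 : F) = 1 := by simpa using this
    apply h2
    linear_combination -h3

theorem qd_factor (s : F) (xi xi' : AlgebraicClosure F)
    (hsum : xi + xi' = algebraMap F (AlgebraicClosure F) s) (hprod : xi * xi' = -1) :
    (acMap F (!![0, 1; 1, s]) - xi • 1) * (acMap F (!![0, 1; 1, s]) - xi' • 1) = 0 := by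
  have hM : acMap F (!![0, 1; 1, s]) = !![0, 1; 1, xi + xi'] := by
    ext i j
    rw [acMap_apply]
    fin_cases i <;> fin_cases j <;> simp [hsum]
  rw [hM]
  ext i j
  fin_cases i <;> fin_cases j
  · simp [Matrix.mul_apply, Fin.sum_univ_two]
    linear_combination hprod
  · simp [Matrix.mul_apply, Fin.sum_univ_two]
  · simp [Matrix.mul_apply, Fin.sum_univ_two]
  · simp [Matrix.mul_apply, Fin.sum_univ_two]
    linear_combination hprod

theorem qd_ne_smul (s : F) (c : AlgebraicClosure F) : acMap F (!![0, 1; 1, s]) ≠ c • 1 := by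
  intro h
  have := congr_fun (congr_fun h 0) 1
  rw [acMap_apply] at this
  simp at this

/-- Powers of `[[0,1],[1,s]]` in terms of its eigenvalues. -/
theorem qd_pow_eq_smul_iff (s : F) (xi xi' : AlgebraicClosure F)
    (hsum : xi + xi' = algebraMap F (AlgebraicClosure F) s) (hprod : xi * xi' = -1)
    (hne : xi ≠ xi') (k : ℕ) (c : F) :
    (!![0, 1; 1, s] : Matrix (Fin 2) (Fin 2) F) ^ k = c • (1 : Matrix (Fin 2) (Fin 2) F) ↔
      xi ^ k = algebraMap F (AlgebraicClosure F) c ∧ xi' ^ k = algebraMap F (AlgebraicClosure F) c := by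
  have hf := qd_factor s xi xi' hsum hprod
  have hf' : (acMap F (!![0, 1; 1, s]) - xi' • 1) * (acMap F (!![0, 1; 1, s]) - xi • 1) = 0 := by
    rw [factor_comm]; exact hf
  constructor
  · intro h
    have h' : acMap F (!![0, 1; 1, s]) ^ k =
        algebraMap F (AlgebraicClosure F) c • (1 : Matrix (Fin 2) (Fin 2) (AlgebraicClosure F)) := by
      rw [← map_pow, h, acMap_smul_one]
    exact ⟨eigen_pow_of_pow_eq_smul_one _ xi xi' hf (qd_ne_smul s xi') k _ h',
      eigen_pow_of_pow_eq_smul_one _ xi' xi hf' (qd_ne_smul s xi) k _ h'⟩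
  · rintro ⟨h1, h2⟩
    have h' := pow_eq_smul_one_of_roots _ xi xi' hne hf k _ h1 h2
    apply acMap_injective
    rw [map_pow, h', acMap_smul_one]

end quasidihedral

section qdexists

variable {F : Type*} [Field F] [Fintype F]

theorem exists_qd_data (hq3 : Fintype.card F % 4 = 3) :
    ∃ x y : GL (Fin 2) F, orderOf x = 2 ^ ((Fintype.card F + 1).factorization 2 + 1) ∧
      orderOf y = 2 ∧ y * x * y⁻¹ = x ^ (2 ^ ((Fintype.card F + 1).factorization 2) - 1) := by
  classical
  obtain ⟨p, hp⟩ := CharP.exists F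
  have := hp
  have : Fact p.Prime := ⟨CharP.char_is_prime F p⟩
  obtain ⟨k, -, hk⟩ := FiniteField.card F p
  set q := Fintype.card F with hq
  have hqodd : Odd q := by
    rw [Nat.odd_iff]; omega
  have h2F : (2 : F) ≠ 0 := by
    intro h
    have hp2 : p = 2 := by
      have : ((2 : ℕ) : F) = 0 := by exact_mod_cast h
      rw [CharP.cast_eq_zero_iff F p] at this
      exact (Nat.prime_dvd_prime_iff_eq (Fact.out) Nat.prime_two).mp this
    have : Even q := by
      rw [hk, hp2]
      exact (Nat.even_pow' k.ne_zero).mpr even_two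
    exact (Nat.not_even_iff_odd.mpr hqodd) this
  have : NeZero ((2 : ℕ) : F) := ⟨by exact_mod_cast h2F⟩
  set m := (q + 1).factorization 2 with hm
  have hm2 : 2 ≤ m := two_le_fact_two_of_four_dvd (q + 1) (by omega) (by omega)
  have h2m : 2 ^ m ∣ q + 1 := Nat.ordProj_dvd (q + 1) 2
  have hnot : ¬ 2 ^ (m + 1) ∣ q + 1 :=
    Nat.pow_succ_factorization_not_dvd (by omega) Nat.prime_two
  obtain ⟨xi, hxi⟩ := HasEnoughRootsOfUnity.exists_primitiveRoot (AlgebraicClosure F) (2 ^ (m + 1))
  have hxi0 : xi ≠ 0 := hxi.ne_zero (by positivity)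
  have hcp : CharP (AlgebraicClosure F) p := charP_of_injective_algebraMap
    (algebraMap F (AlgebraicClosure F)).injective p
  -- `ξ^(q+1) = -1`
  have f1 : xi ^ (q + 1) = -1 := by
    have hsq : xi ^ (q + 1) * xi ^ (q + 1) = 1 := by
      rw [← pow_add, ← two_mul, hxi.pow_eq_one_iff_dvd]
      rw [pow_succ, mul_comm]
      exact Nat.mul_dvd_mul_left 2 h2m
    rcases mul_self_eq_one_iff.mp hsq with h | h
    · exfalso
      exact hnot ((hxi.pow_eq_one_iff_dvd _).mp h)
    · exact h
  -- `ξ^(q²) = ξ`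
  have f2 : xi ^ (q ^ 2) = xi := by
    have hdvd : 2 ^ (m + 1) ∣ q ^ 2 - 1 := by
      have h1 : q ^ 2 - 1 = (q - 1) * (q + 1) := by
        obtain ⟨r, hr⟩ : ∃ r, q = r + 2 := ⟨q - 2, by omega⟩
        rw [hr]
        have : (r + 2) ^ 2 - 1 = (r + 1) * (r + 3) := by
          rw [Nat.sub_eq_iff_eq_add (Nat.one_le_pow _ _ (by omega))]
          ring
        rw [this]
        rfl
      rw [h1, pow_succ, mul_comm]
      apply Nat.mul_dvd_mul _ h2m
      omega
    have h1 : xi ^ (q ^ 2 - 1) = 1 := (hxi.pow_eq_one_iff_dvd _).mpr hdvd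
    have hq2 : q ^ 2 = (q ^ 2 - 1) + 1 := by
      have : 1 ≤ q ^ 2 := Nat.one_le_pow _ _ (by omega)
      omega
    rw [hq2, pow_succ, h1, one_mul]
  set xi' := xi ^ q with hxi'
  have hprod : xi * xi' = -1 := by
    rw [hxi', ← pow_succ', f1]
  have hfrob : (xi + xi') ^ q = xi + xi' := by
    rw [hk, add_pow_char_pow, ← hk, hxi', ← pow_mul, ← pow_two, f2, add_comm]
  obtain ⟨s, hs⟩ := mem_range_of_pow_card_eq (F := F) (xi + xi') hfrob
  have hsum : xi + xi' = algebraMap F (AlgebraicClosure F) s := hs.symm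
  have hne : xi ≠ xi' := by
    intro h
    have h1 : xi ^ (q - 1) = 1 := by
      have h3 : xi * xi ^ (q - 1) = xi * 1 := by
        rw [← pow_succ', mul_one]
        have : q - 1 + 1 = q := by omega
        rw [this]
        exact h.symm
      exact mul_left_cancel₀ hxi0 h3
    have hd := (hxi.pow_eq_one_iff_dvd _).mp h1
    have h4 : 4 ∣ q - 1 := by
      refine Dvd.dvd.trans ?_ hd
      exact pow_dvd_pow 2 (by omega : 2 ≤ m + 1)
    omega
  -- the order of `x`
  have hord : orderOf (qdXgl s : GL (Fin 2) F) = 2 ^ (m + 1) := by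
    rw [hxi.eq_orderOf, orderOf_eq_orderOf_iff]
    intro n
    have hiff := qd_pow_eq_smul_iff s xi xi' hsum hprod hne n 1
    rw [one_smul, map_one] at hiff
    constructor
    · intro h
      have h1 : ((qdXgl s : GL (Fin 2) F) : Matrix (Fin 2) (Fin 2) F) ^ n = 1 := by
        rw [← Units.val_pow_eq_pow_val, h, Units.val_one]
      exact (hiff.mp h1).1
    · intro h
      apply Units.ext
      rw [Units.val_pow_eq_pow_val, Units.val_one]
      apply hiff.mpr
      refine ⟨h, ?_⟩
      rw [hxi', ← pow_mul, mul_comm, pow_mul, h, one_pow]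
  -- `x^(2^m) = -1`
  have hxpow : (!![0, 1; 1, s] : Matrix (Fin 2) (Fin 2) F) ^ (2 ^ m) =
      (-1 : F) • (1 : Matrix (Fin 2) (Fin 2) F) := by
    have h1 : xi ^ (2 ^ m) = -1 := by
      have hsq : xi ^ (2 ^ m) * xi ^ (2 ^ m) = 1 := by
        rw [← pow_add, ← two_mul, ← pow_succ', hxi.pow_eq_one]
      rcases mul_self_eq_one_iff.mp hsq with h | h
      · exfalso
        have := (hxi.pow_eq_one_iff_dvd _).mp h
        have := Nat.le_of_dvd (by positivity) this
        have : 2 ^ m < 2 ^ (m + 1) := Nat.pow_lt_pow_right (by norm_num) (by omega)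
        omega
      · exact h
    apply (qd_pow_eq_smul_iff s xi xi' hsum hprod hne (2 ^ m) (-1)).mpr
    rw [map_neg, map_one]
    refine ⟨h1, ?_⟩
    rw [hxi', ← pow_mul, mul_comm, pow_mul, h1, hqodd.neg_one_pow]
  refine ⟨qdXgl s, qdYgl s, hord, orderOf_qdYgl h2F s, ?_⟩
  apply Units.ext
  have hL : ((qdYgl s * qdXgl s * (qdYgl s)⁻¹ : GL (Fin 2) F) : Matrix (Fin 2) (Fin 2) F) =
      !![s, -1; -1, 0] := by
    change (!![1, 0; s, -1] : Matrix (Fin 2) (Fin 2) F) * !![0, 1; 1, s] * !![1, 0; s, -1] = _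
    ext i j; fin_cases i <;> fin_cases j <;> simp
  rw [hL, Units.val_pow_eq_pow_val, qdX_val]
  -- cancel `x` on the right
  have h2pos : 1 ≤ 2 ^ m := Nat.one_le_pow _ _ (by norm_num)
  have hA : (!![0, 1; 1, s] : Matrix (Fin 2) (Fin 2) F) ^ (2 ^ m - 1) * !![0, 1; 1, s] =
      (!![s, -1; -1, 0] : Matrix (Fin 2) (Fin 2) F) * !![0, 1; 1, s] := by
    rw [← pow_succ, Nat.sub_add_cancel h2pos, hxpow]
    ext i j; fin_cases i <;> fin_cases j <;> simp
  have hinv : (!![0, 1; 1, s] : Matrix (Fin 2) (Fin 2) F) * !![-s, 1; 1, 0] = 1 :=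
    (qdXgl s).val_inv
  have := congrArg (fun M => M * (!![-s, 1; 1, 0] : Matrix (Fin 2) (Fin 2) F)) hA
  simp only [mul_assoc, hinv, mul_one] at this
  exact this.symm

end qdexists

end Cfsg.Agent.Lib.Helper13
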