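/-
helper13: the monomial `p`-subgroup `μ_p ≀ C_p` of `GL_p(F)`: matrices `mon d k` with
`(mon d k) i j = d i` if `j = i + k` and `0` otherwise.
-/
import Mathlib

set_option autoImplicit false
set_option linter.unusedSectionVars false

namespace Cfsg.Agent.Lib.Helper13.GLpRed

open Matrix

variable {F : Type*} [Field F] {p : ℕ} [NeZero p]

/-- Monomial matrix with entries `d i` at positions `(i, i + k)`. -/
def monMat (d : Fin p → F) (k : Fin p) : Matrix (Fin p) (Fin p) F :=
  Matrix.of fun i j => if j = i + k then d i else 0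

theorem monMat_apply (d : Fin p → F) (k i j : Fin p) :
    monMat d k i j = if j = i + k then d i else 0 := rfl

theorem monMat_mul (d d' : Fin p → F) (k k' : Fin p) :
    monMat d k * monMat d' k' = monMat (fun i => d i * d' (i + k)) (k + k') := by
  ext i j
  rw [Matrix.mul_apply, Finset.sum_eq_single (i + k)]
  · simp only [monMat_apply, if_true, add_assoc]
    split_ifs <;> simp
  · intro b _ hb
    simp [monMat_apply, hb]
  · intro h
    exact absurd (Finset.mem_univ _) h

theorem monMat_one : monMat (fun _ => (1 : F)) (0 : Fin p) = 1 := by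
  ext i j
  simp [monMat_apply, Matrix.one_apply, eq_comm]

/-- The monomial element of `GL_p(F)`. -/
def mon (d : Fin p → Fˣ) (k : Fin p) : GL (Fin p) F where
  val := monMat (fun i => (d i : F)) k
  inv := monMat (fun i => ((d (i - k))⁻¹ : Fˣ)) (-k)
  val_inv := by
    rw [monMat_mul]
    simp [monMat_one]
  inv_val := by
    rw [monMat_mul]
    simp [monMat_one, ← sub_eq_add_neg]

theorem mon_val (d : Fin p → Fˣ) (k : Fin p) :
    ((mon d k : GL (Fin p) F) : Matrix (Fin p) (Fin p) F) = monMat (fun i => (d i : F)) k := rfl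

theorem mon_apply (d : Fin p → Fˣ) (k i j : Fin p) :
    ((mon d k : GL (Fin p) F) : Matrix (Fin p) (Fin p) F) i j = if j = i + k then (d i : F) else 0 :=
  rfl

theorem mon_mul (d d' : Fin p → Fˣ) (k k' : Fin p) :
    mon d k * mon d' k' = mon (fun i => d i * d' (i + k)) (k + k') := by
  apply Units.ext
  rw [Units.val_mul, mon_val, mon_val, mon_val, monMat_mul]
  simp

theorem mon_one : mon (fun _ => (1 : Fˣ)) (0 : Fin p) = (1 : GL (Fin p) F) := by
  apply Units.ext
  rw [mon_val]
  simp [monMat_one]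

theorem mon_inv (d : Fin p → Fˣ) (k : Fin p) :
    (mon d k)⁻¹ = mon (fun i => (d (i - k))⁻¹) (-k) := by
  apply inv_eq_of_mul_eq_one_right
  rw [mon_mul, ← mon_one]
  congr 1
  · funext i
    simp
  · simp

theorem mon_injective {d d' : Fin p → Fˣ} {k k' : Fin p} (h : mon d k = mon d' k') :
    d = d' ∧ k = k' := by
  have hk : k = k' := by
    have h1 := congrArg (fun g : GL (Fin p) F => (g : Matrix (Fin p) (Fin p) F) 0 (0 + k)) h
    simp only [mon_apply, if_true] at h1
    by_contra hne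
    rw [if_neg] at h1
    · exact (d 0).ne_zero h1
    · intro h2
      exact hne (add_left_cancel h2)
  subst hk
  refine ⟨?_, rfl⟩
  funext i
  have h1 := congrArg (fun g : GL (Fin p) F => (g : Matrix (Fin p) (Fin p) F) i (i + k)) h
  simp only [mon_apply, if_true] at h1
  exact Units.ext h1


/-- The monomial subgroup `μ_p ≀ C_p`. -/
def Q0 (F : Type*) [Field F] (p : ℕ) [NeZero p] : Subgroup (GL (Fin p) F) where
  carrier := {g | ∃ (d : Fin p → Fˣ) (k : Fin p), (∀ i, d i ^ p = 1) ∧ g = mon d k}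
  one_mem' := ⟨fun _ => 1, 0, fun _ => one_pow _, mon_one.symm⟩
  mul_mem' := by
    rintro _ _ ⟨d, k, hd, rfl⟩ ⟨d', k', hd', rfl⟩
    refine ⟨_, _, fun i => ?_, mon_mul d d' k k'⟩
    rw [mul_pow, hd, hd', one_mul]
  inv_mem' := by
    rintro _ ⟨d, k, hd, rfl⟩
    refine ⟨_, _, fun i => ?_, mon_inv d k⟩
    rw [inv_pow, hd, inv_one]

theorem mem_Q0 {g : GL (Fin p) F} :
    g ∈ Q0 F p ↔ ∃ (d : Fin p → Fˣ) (k : Fin p), (∀ i, d i ^ p = 1) ∧ g = mon d k := Iff.rfl

/-- Membership in the diagonal part. -/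
def InD (g : GL (Fin p) F) : Prop := ∃ d : Fin p → Fˣ, (∀ i, d i ^ p = 1) ∧ g = mon d 0

theorem InD.mem_Q0 {g : GL (Fin p) F} (h : InD g) : g ∈ Q0 F p := by
  obtain ⟨d, hd, rfl⟩ := h
  exact ⟨d, 0, hd, rfl⟩

theorem card_Q0 [Fintype F] [Fact p.Prime] (hp : p ∣ Fintype.card F - 1) :
    Nat.card (Q0 F p) = p ^ (p + 1) := by
  classical
  -- a primitive root
  have hcard : Nat.card Fˣ = Fintype.card F - 1 := by
    rw [Nat.card_eq_fintype_card, Fintype.card_units]
  obtain ⟨ζ, hζ⟩ := exists_prime_orderOf_dvd_card' (G := Fˣ) p (by rw [hcard]; exact hp)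
  have hprim : IsPrimitiveRoot ζ p := by
    rw [← hζ]
    exact IsPrimitiveRoot.orderOf ζ
  have hprim' : IsPrimitiveRoot (ζ : F) p := hprim.map_of_injective (f := Units.coeHom F) Units.val_injective
  have hroots : Nat.card (rootsOfUnity p F) = p := hprim'.card_rootsOfUnity
  let f : (Fin p → rootsOfUnity p F) × Fin p → GL (Fin p) F :=
    fun x => mon (fun i => (x.1 i : Fˣ)) x.2
  have hf : Function.Injective f := by
    rintro ⟨d, k⟩ ⟨d', k'⟩ h
    obtain ⟨h1, h2⟩ := mon_injective h
    simp only at h2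
    subst h2
    congr 1
    funext i
    exact Subtype.ext (congrFun h1 i)
  have hrange : ((Q0 F p : Subgroup (GL (Fin p) F)) : Set (GL (Fin p) F)) = Set.range f := by
    ext g
    constructor
    · rintro ⟨d, k, hd, rfl⟩
      exact ⟨(fun i => ⟨d i, (mem_rootsOfUnity _ _).mpr (hd i)⟩, k), rfl⟩
    · rintro ⟨⟨d, k⟩, rfl⟩
      exact ⟨fun i => (d i : Fˣ), k, fun i => (mem_rootsOfUnity _ _).mp (d i).2, rfl⟩
  have h1 : Nat.card (Q0 F p) = Nat.card (Set.range f) := by
    apply Nat.card_congr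
    exact Equiv.setCongr hrange
  rw [h1, ← Nat.card_congr (Equiv.ofInjective f hf), Nat.card_prod, Nat.card_pi]
  simp only [hroots, Finset.prod_const, Finset.card_univ, Fintype.card_fin, Nat.card_eq_fintype_card]
  rw [pow_succ]

end Cfsg.Agent.Lib.Helper13.GLpRed
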