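/-
helper13: the normalizer of the monomial Sylow subgroup `Q0 = μ_p ≀ C_p` of `GL_p(F)` normalizes
its diagonal part, hence consists of matrices with at most one nonzero entry in each row.
-/
import Mathlib
import Cfsg.Agent.Lib.Helper13.GLpMonomial

set_option autoImplicit false
set_option linter.unusedSectionVars false

namespace Cfsg.Agent.Lib.Helper13.GLpRed

open Matrix

variable {F : Type*} [Field F] {p : ℕ} [NeZero p]

theorem mon_conj_zero (e d : Fin p → Fˣ) (k : Fin p) :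
    mon e k * mon d 0 * (mon e k)⁻¹ = mon (fun i => d (i + k)) 0 := by
  rw [mon_inv, mon_mul, mon_mul]
  congr 1
  · funext i
    simp [mul_assoc]
  · simp

theorem mon_zero_conj (e d : Fin p → Fˣ) (k : Fin p) :
    mon e 0 * mon d k * (mon e 0)⁻¹ = mon (fun i => e i * d i * (e (i + k))⁻¹) k := by
  rw [mon_inv, mon_mul, mon_mul]
  congr 1
  · funext i
    simp
  · simp

theorem InD.conj {y h : GL (Fin p) F} (hy : y ∈ Q0 F p) (hh : InD h) : InD (y * h * y⁻¹) := by
  obtain ⟨e, k, -, rfl⟩ := hy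
  obtain ⟨d, hd, rfl⟩ := hh
  exact ⟨_, fun i => hd _, mon_conj_zero e d k⟩

theorem InD.commute {a b : GL (Fin p) F} (ha : InD a) (hb : InD b) : Commute a b := by
  obtain ⟨d, -, rfl⟩ := ha
  obtain ⟨d', -, rfl⟩ := hb
  show mon d 0 * mon d' 0 = mon d' 0 * mon d 0
  rw [mon_mul, mon_mul]
  congr 1
  funext i
  simp [mul_comm]

/-- An element of `Q0` commuting with all its conjugates under the diagonal part is diagonal. -/
theorem InD_of_selfcomm [Fact p.Prime] (hp2 : p ≠ 2) {ζ : Fˣ} (hζ : orderOf ζ = p)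
    {x : GL (Fin p) F} (hx : x ∈ Q0 F p)
    (h : ∀ y, InD y → Commute x (y * x * y⁻¹)) : InD x := by
  classical
  obtain ⟨d, k, hd, rfl⟩ := hx
  by_cases hk : k = 0
  · subst hk
    exact ⟨d, hd, rfl⟩
  exfalso
  set e : Fin p → Fˣ := Function.update (fun _ => 1) 0 ζ with he
  have he0 : e 0 = ζ := by simp [he]
  have hek : ∀ j : Fin p, j ≠ 0 → e j = 1 := by
    intro j hj
    simp [he, Function.update_of_ne hj]
  have hep : ∀ i, e i ^ p = 1 := by
    intro i
    by_cases hi : i = 0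
    · rw [hi, he0]
      have := pow_orderOf_eq_one ζ
      rwa [hζ] at this
    · rw [hek i hi, one_pow]
  have hc := h (mon e 0) ⟨e, hep, rfl⟩
  rw [mon_zero_conj] at hc
  have hc' := hc.eq
  rw [mon_mul, mon_mul] at hc'
  obtain ⟨h1, -⟩ := mon_injective hc'
  have h2 := congrFun h1 (-k)
  simp only [neg_add_cancel, zero_add] at h2
  have hnk : -k ≠ 0 := neg_ne_zero.mpr hk
  rw [he0, hek k hk, hek (-k) hnk] at h2
  -- d (-k) * (ζ * d 0 * 1⁻¹) = 1 * d (-k) * ζ⁻¹ * d 0
  have h3 : ζ * ζ = 1 := by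
    have h4 : d (-k) * d 0 * ζ = d (-k) * d 0 * ζ⁻¹ := by
      calc d (-k) * d 0 * ζ = d (-k) * (ζ * d 0 * 1⁻¹) := by
            rw [inv_one, mul_one, mul_assoc, mul_comm (d 0) ζ]
        _ = 1 * d (-k) * ζ⁻¹ * d 0 := h2
        _ = d (-k) * d 0 * ζ⁻¹ := by
            rw [one_mul, mul_assoc, mul_comm ζ⁻¹ (d 0), ← mul_assoc]
    have h5 : ζ = ζ⁻¹ := mul_left_cancel h4
    calc ζ * ζ = ζ * ζ⁻¹ := by rw [← h5]
      _ = 1 := mul_inv_cancel ζ
  have h6 : orderOf ζ ∣ 2 := orderOf_dvd_of_pow_eq_one (by rw [pow_two]; exact h3)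
  rw [hζ] at h6
  have hpp : p.Prime := Fact.out
  exact hp2 ((Nat.prime_dvd_prime_iff_eq hpp Nat.prime_two).mp h6)

/-- The normalizer of `Q0` normalizes the diagonal part. -/
theorem InD.conj_of_mem_normalizer [Fact p.Prime] (hp2 : p ≠ 2) {ζ : Fˣ} (hζ : orderOf ζ = p)
    {g h : GL (Fin p) F} (hg : g ∈ Subgroup.normalizer ((Q0 F p : Subgroup (GL (Fin p) F)) : Set _))
    (hh : InD h) : InD (g * h * g⁻¹) := by
  have hg' := Subgroup.mem_normalizer_iff.mp hg
  apply InD_of_selfcomm hp2 hζ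
  · exact (hg' h).mp hh.mem_Q0
  · intro y hy
    -- y' = g⁻¹ y g ∈ Q0
    have hy' : g⁻¹ * y * g ∈ Q0 F p := by
      rw [hg' (g⁻¹ * y * g)]
      have : g * (g⁻¹ * y * g) * g⁻¹ = y := by group
      rw [this]
      exact hy.mem_Q0
    have hc : Commute h ((g⁻¹ * y * g) * h * (g⁻¹ * y * g)⁻¹) := hh.commute (hh.conj hy')
    have hc' := hc.eq
    show g * h * g⁻¹ * (y * (g * h * g⁻¹) * y⁻¹) = y * (g * h * g⁻¹) * y⁻¹ * (g * h * g⁻¹)
    have e1 : g * h * g⁻¹ * (y * (g * h * g⁻¹) * y⁻¹)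
        = g * (h * ((g⁻¹ * y * g) * h * (g⁻¹ * y * g)⁻¹)) * g⁻¹ := by group
    have e2 : y * (g * h * g⁻¹) * y⁻¹ * (g * h * g⁻¹)
        = g * (((g⁻¹ * y * g) * h * (g⁻¹ * y * g)⁻¹) * h) * g⁻¹ := by group
    rw [e1, e2, hc']

/-- Elements of the normalizer of `Q0` have at most one nonzero entry in each row. -/
theorem row_unique_of_mem_normalizer [Fact p.Prime] (hp2 : p ≠ 2) {ζ : Fˣ} (hζ : orderOf ζ = p)
    {g : GL (Fin p) F} (hg : g ∈ Subgroup.normalizer ((Q0 F p : Subgroup (GL (Fin p) F)) : Set _))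
    {i j j' : Fin p} (hj : (g : Matrix (Fin p) (Fin p) F) i j ≠ 0)
    (hj' : (g : Matrix (Fin p) (Fin p) F) i j' ≠ 0) : j = j' := by
  classical
  set e : Fin p → Fˣ := fun i => ζ ^ (i : ℕ) with he
  have hep : ∀ i, e i ^ p = 1 := by
    intro i
    have hζp : ζ ^ p = 1 := by
      have := pow_orderOf_eq_one ζ
      rwa [hζ] at this
    rw [he]
    simp only
    rw [← pow_mul, mul_comm, pow_mul, hζp, one_pow]
  have hinj : Function.Injective e := by
    intro a b hab
    simp only [he] at hab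
    have ha : (a : ℕ) < orderOf ζ := by rw [hζ]; exact a.2
    have hb : (b : ℕ) < orderOf ζ := by rw [hζ]; exact b.2
    exact Fin.ext (pow_injOn_Iio_orderOf ha hb hab)
  obtain ⟨e', -, he'⟩ := InD.conj_of_mem_normalizer hp2 hζ hg ⟨e, hep, rfl⟩
  have hmat : (g : Matrix (Fin p) (Fin p) F) * (mon e 0 : GL (Fin p) F).val
      = (mon e' 0 : GL (Fin p) F).val * (g : Matrix (Fin p) (Fin p) F) := by
    have : g * mon e 0 = mon e' 0 * g := by
      rw [← he']
      group
    have := congrArg Units.val this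
    simpa using this
  have key : ∀ c : Fin p, (g : Matrix (Fin p) (Fin p) F) i c ≠ 0 → (e c : F) = (e' i : F) := by
    intro c hc
    have h1 := congrFun (congrFun hmat i) c
    rw [Matrix.mul_apply, Matrix.mul_apply] at h1
    rw [Finset.sum_eq_single c, Finset.sum_eq_single i] at h1
    · rw [mon_apply, mon_apply] at h1
      simp only [add_zero, if_true] at h1
      have h2 : (g : Matrix (Fin p) (Fin p) F) i c * ((e c : F) - (e' i : F)) = 0 := by
        rw [mul_sub, h1]
        ring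
      rcases mul_eq_zero.mp h2 with h3 | h3
      · exact absurd h3 hc
      · exact sub_eq_zero.mp h3
    · intro b _ hb
      rw [mon_apply, if_neg, zero_mul]
      rw [add_zero]
      exact hb
    · intro h; exact absurd (Finset.mem_univ _) h
    · intro b _ hb
      rw [mon_apply, if_neg, mul_zero]
      rw [add_zero]
      exact fun h => hb h.symm
    · intro h; exact absurd (Finset.mem_univ _) h
  have h1 := key j hj
  have h2 := key j' hj'
  exact hinj (Units.ext (h1.trans h2.symm))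

end Cfsg.Agent.Lib.Helper13.GLpRed
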