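/-
helper13: the `p`-part of `|GL_p(q)|` when `p` is odd and `p ∥ q - 1` is `p ^ (p + 1)`.
-/
import Mathlib

set_option autoImplicit false
set_option linter.unusedSectionVars false

namespace Cfsg.Agent.Lib.Helper13.GLpRed

open Matrix

theorem padicValNat_pow_sub_one {p q : ℕ} [Fact p.Prime] (hp2 : p ≠ 2) (h1 : p ∣ q - 1)
    (h2 : ¬ p ^ 2 ∣ q - 1) (hq : 1 < q) {j : ℕ} (hj : j ≠ 0) :
    padicValNat p (q ^ j - 1) = 1 + padicValNat p j := by
  have hpp : p.Prime := Fact.out
  have hodd : Odd p := hpp.odd_of_ne_two hp2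
  have hnq : ¬ p ∣ q := by
    intro h
    have : p ∣ q - (q - 1) := Nat.dvd_sub h h1
    have h3 : q - (q - 1) = 1 := by omega
    rw [h3] at this
    exact hpp.one_lt.ne' (Nat.dvd_one.mp this)
  have h := padicValNat.pow_sub_pow (p := p) hodd hq h1 hnq hj
  rw [one_pow] at h
  rw [h]
  congr 1
  have hne : q - 1 ≠ 0 := by omega
  have ha : 1 ≤ padicValNat p (q - 1) := by
    rw [← padicValNat_dvd_iff_le hne, pow_one]
    exact h1
  have hb : ¬ 2 ≤ padicValNat p (q - 1) := by
    rw [← padicValNat_dvd_iff_le hne]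
    exact h2
  omega

theorem factorization_card_GL {F : Type*} [Field F] [Fintype F] {p : ℕ} [Fact p.Prime]
    (hp2 : p ≠ 2) (h1 : p ∣ Fintype.card F - 1) (h2 : ¬ p ^ 2 ∣ Fintype.card F - 1) :
    (Nat.card (GL (Fin p) F)).factorization p = p + 1 := by
  have hpp : p.Prime := Fact.out
  set q := Fintype.card F with hq
  have hq1 : 1 < q := Fintype.one_lt_card
  have hnq : ¬ p ∣ q := by
    intro h
    have : p ∣ q - (q - 1) := Nat.dvd_sub h h1
    have h3 : q - (q - 1) = 1 := by omega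
    rw [h3] at this
    exact hpp.one_lt.ne' (Nat.dvd_one.mp this)
  rw [Matrix.card_GL_field]
  have hfac : ∀ i : Fin p, q ^ p - q ^ (i : ℕ) = q ^ (i : ℕ) * (q ^ (p - (i : ℕ)) - 1) := by
    intro i
    have hi : (i : ℕ) < p := i.2
    have : q ^ p = q ^ (i : ℕ) * q ^ (p - (i : ℕ)) := by
      rw [← pow_add]
      congr 1
      omega
    rw [this, Nat.mul_sub, mul_one]
  have hpos : ∀ i : Fin p, q ^ (p - (i : ℕ)) - 1 ≠ 0 := by
    intro i
    have hi : (i : ℕ) < p := i.2
    have : 1 < q ^ (p - (i : ℕ)) := Nat.one_lt_pow (by omega) hq1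
    omega
  have hne : ∀ i ∈ (Finset.univ : Finset (Fin p)), q ^ p - q ^ (i : ℕ) ≠ 0 := by
    intro i _
    rw [hfac]
    exact mul_ne_zero (pow_ne_zero _ (by omega)) (hpos i)
  rw [Nat.factorization_prod hne, Finsupp.finsetSum_apply]
  have hterm : ∀ i : Fin p, (q ^ p - q ^ (i : ℕ)).factorization p = 1 + if i = 0 then 1 else 0 := by
    intro i
    have hi : (i : ℕ) < p := i.2
    rw [hfac, Nat.factorization_mul (pow_ne_zero _ (by omega)) (hpos i), Finsupp.add_apply,
      Nat.factorization_pow, Finsupp.smul_apply, Nat.factorization_eq_zero_of_not_dvd hnq,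
      smul_zero, zero_add, Nat.factorization_def _ hpp,
      padicValNat_pow_sub_one hp2 h1 h2 hq1 (by omega)]
    congr 1
    by_cases h0 : i = 0
    · subst h0
      simp
    · rw [if_neg h0]
      apply padicValNat.eq_zero_of_not_dvd
      intro hdvd
      have hpos' : 0 < (i : ℕ) := Nat.pos_of_ne_zero (fun h => h0 (Fin.ext h))
      have := Nat.le_of_dvd (by omega) hdvd
      omega
  simp_rw [hterm]
  rw [Finset.sum_add_distrib]
  simp

end Cfsg.Agent.Lib.Helper13.GLpRed
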