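/-
helper13: for `p` odd with `p ∥ q - 1`, the monomial Sylow `p`-subgroup `μ_p ≀ C_p` of `GL_p(q)`
is redundant: each of its elements lies in another Sylow `p`-subgroup.
-/
import Mathlib
import Cfsg.Agent.Lib.Helper13.GLpMonomial
import Cfsg.Agent.Lib.Helper13.GLpOrder
import Cfsg.Agent.Lib.Helper13.GLpNormalizer

set_option autoImplicit false
set_option linter.unusedSectionVars false

namespace Cfsg.Agent.Lib.Helper13.GLpRed

open Matrix

section general

theorem exists_ne_sylow_of_conj {G : Type*} [Group G] [Finite G] {p : ℕ} [Fact p.Prime]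
    (Q : Sylow p G) (x y g : G) (hy : y ∈ Q) (hx : x = g * y * g⁻¹)
    (hg : g ∉ Subgroup.normalizer ((Q : Subgroup G) : Set G)) :
    ∃ P : Sylow p G, P ≠ Q ∧ x ∈ P := by
  refine ⟨g • Q, fun h => hg (Sylow.smul_eq_iff_mem_normalizer.mp h), ?_⟩
  rw [hx]
  have : g * y * g⁻¹ = MulAut.conj g • y := rfl
  rw [this, ← SetLike.mem_coe, Sylow.coe_smul]
  exact Set.smul_mem_smul_set hy

end general

variable {F : Type*} [Field F] {p : ℕ} [Fact p.Prime]

theorem periodic_const {α : Type*} (f : Fin p → α) {k : Fin p} (hk : k ≠ 0)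
    (h : ∀ i, f (i + k) = f i) (i : Fin p) : f i = f 0 := by
  have htop := zmultiples_eq_top_of_prime_card (G := Fin p) (p := p) (by simp) hk
  have hi : i ∈ AddSubgroup.zmultiples k := by rw [htop]; trivial
  have hall : ∀ n : ℤ, f (n • k) = f 0 := by
    intro n
    induction n using Int.induction_on with
    | zero => simp
    | succ n ih =>
      rw [add_zsmul, one_zsmul, h]
      exact ih
    | pred n ih =>
      have : (-(n : ℤ)) • k = (-(n : ℤ) - 1) • k + k := by
        rw [sub_zsmul, one_zsmul, neg_add_cancel_right]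
      rw [this, h] at ih
      exact ih
  obtain ⟨n, rfl⟩ := AddSubgroup.mem_zmultiples_iff.mp hi
  exact hall n

theorem addOrderOf_fin {k : Fin p} (hk : k ≠ 0) : addOrderOf k = p := by
  apply addOrderOf_eq_prime _ hk
  simpa using card_nsmul_eq_zero (G := Fin p) (x := k)

theorem nsmul_fin_inj {k : Fin p} (hk : k ≠ 0) {m m' : ℕ} (hm : m < p) (hm' : m' < p)
    (h : m • k = m' • k) : m = m' := by
  have h1 : m ∈ Set.Iio (addOrderOf k) := by rw [addOrderOf_fin hk]; exact hm
  have h2 : m' ∈ Set.Iio (addOrderOf k) := by rw [addOrderOf_fin hk]; exact hm'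
  exact nsmul_injOn_Iio_addOrderOf h1 h2 h

theorem mon_pow (d : Fin p → Fˣ) (hd : ∀ i, d i ^ p = 1) (k : Fin p) (m : ℕ) :
    ∃ d' : Fin p → Fˣ, (∀ i, d' i ^ p = 1) ∧ mon d k ^ m = mon d' (m • k) := by
  induction m with
  | zero => exact ⟨fun _ => 1, fun _ => one_pow _, by rw [pow_zero, zero_nsmul, mon_one]⟩
  | succ m ih =>
    obtain ⟨d', hd', h⟩ := ih
    refine ⟨fun i => d' i * d (i + m • k), fun i => ?_, ?_⟩
    · rw [mul_pow, hd', hd, one_mul]
    · rw [pow_succ, h, mon_mul, succ_nsmul]

theorem mon_pow_p (d : Fin p → Fˣ) (hd : ∀ i, d i ^ p = 1) {k : Fin p} (hk : k ≠ 0) :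
    ∃ c : Fˣ, c ^ p = 1 ∧ mon d k ^ p = mon (fun _ => c) 0 := by
  obtain ⟨d', hd', h⟩ := mon_pow d hd k p
  have hpk : p • k = 0 := by simpa using card_nsmul_eq_zero (G := Fin p) (x := k)
  rw [hpk] at h
  have hc := (Commute.pow_self (mon d k) p).eq
  rw [h, mon_mul, mon_mul] at hc
  obtain ⟨h1, -⟩ := mon_injective hc
  have hper : ∀ i, d' (i + k) = d' i := by
    intro i
    have h2 := congrFun h1 i
    simp only [add_zero] at h2
    have h3 : d i * d' i = d i * d' (i + k) := by rw [← h2, mul_comm]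
    exact (mul_left_cancel h3).symm
  refine ⟨d' 0, hd' 0, ?_⟩
  rw [h]
  congr 1
  funext i
  exact periodic_const d' hk hper i

theorem monMat_const_zero (c : F) : monMat (fun _ : Fin p => c) 0 = c • (1 : Matrix (Fin p) (Fin p) F) := by
  ext i j
  simp [monMat_apply, Matrix.one_apply, eq_comm]

theorem two_le_p : 2 ≤ p := (Fact.out : p.Prime).two_le

theorem fin_one_ne_zero : (1 : Fin p) ≠ 0 := by
  intro h
  have := congrArg Fin.val h
  have h2 : 2 ≤ p := two_le_p
  rw [Fin.val_one', Fin.val_zero, Nat.mod_eq_of_lt (by omega)] at this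
  exact one_ne_zero this

/-- The matrix-level statement: entries of powers. -/
theorem mon_pow_apply (d : Fin p → Fˣ) (hd : ∀ i, d i ^ p = 1) (k : Fin p) (m : ℕ) (i j : Fin p) :
    (j ≠ i + m • k → ((mon d k : GL (Fin p) F).val ^ m) i j = 0) ∧
    (j = i + m • k → ((mon d k : GL (Fin p) F).val ^ m) i j ≠ 0) := by
  obtain ⟨d', -, h⟩ := mon_pow d hd k m
  have h' : (mon d k : GL (Fin p) F).val ^ m = (mon d' (m • k) : GL (Fin p) F).val := by
    rw [← h, Units.val_pow_eq_pow_val]
  rw [h', mon_apply]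
  constructor
  · intro hj
    rw [if_neg hj]
  · intro hj
    rw [if_pos hj]
    exact (d' i).ne_zero

/-- Case 1: a diagonal element with a repeated entry commutes with a transvection. -/
theorem exists_of_repeated (hp2 : p ≠ 2) {ζ : Fˣ} (hζ : orderOf ζ = p) (d : Fin p → Fˣ)
    {i j : Fin p} (hij : i ≠ j) (hd : d i = d j) :
    ∃ g : GL (Fin p) F, mon d 0 = g * mon d 0 * g⁻¹ ∧
      g ∉ Subgroup.normalizer ((Q0 F p : Subgroup (GL (Fin p) F)) : Set _) := by
  classical
  let g : GL (Fin p) F :=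
    ⟨transvection i j 1, transvection i j (-1),
      by rw [transvection_mul_transvection_same i j hij, add_neg_cancel, transvection_zero],
      by rw [transvection_mul_transvection_same i j hij, neg_add_cancel, transvection_zero]⟩
  have hgv : (g : Matrix (Fin p) (Fin p) F) = transvection i j 1 := rfl
  refine ⟨g, ?_, ?_⟩
  · have hcomm : g * mon d 0 = mon d 0 * g := by
      apply Units.ext
      rw [Units.val_mul, Units.val_mul, hgv, mon_val]
      ext a b
      rw [Matrix.mul_apply, Matrix.mul_apply, Finset.sum_eq_single b, Finset.sum_eq_single a]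
      · simp only [monMat_apply, add_zero, if_true, transvection, Matrix.add_apply,
          Matrix.single_apply]
        by_cases hab : a = b
        · subst hab
          ring
        · rw [Matrix.one_apply_ne hab, zero_add]
          by_cases h2 : i = a ∧ j = b
          · obtain ⟨rfl, rfl⟩ := h2
            rw [if_pos ⟨rfl, rfl⟩, hd]
            ring
          · rw [if_neg h2]
            ring
      · intro c _ hc
        rw [monMat_apply, if_neg, zero_mul]
        rw [add_zero]
        exact hc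
      · intro h; exact absurd (Finset.mem_univ _) h
      · intro c _ hc
        rw [monMat_apply, if_neg, mul_zero]
        rw [add_zero]
        exact fun h => hc h.symm
      · intro h; exact absurd (Finset.mem_univ _) h
    rw [hcomm]
    group
  · intro hg
    apply hij
    apply row_unique_of_mem_normalizer hp2 hζ hg (i := i)
    · rw [hgv, transvection, Matrix.add_apply, Matrix.one_apply_eq, Matrix.single_apply,
        if_neg (fun h => hij h.2.symm), add_zero]
      exact one_ne_zero
    · rw [hgv, transvection, Matrix.add_apply, Matrix.one_apply_ne hij, Matrix.single_apply,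
        if_pos ⟨rfl, rfl⟩, zero_add]
      exact one_ne_zero

/-- Case 2: a regular diagonal element is conjugate to the shift. -/
theorem exists_of_injective (hp2 : p ≠ 2) {ζ : Fˣ} (hζ : orderOf ζ = p) (d : Fin p → Fˣ)
    (hd : ∀ i, d i ^ p = 1) (hinj : Function.Injective d) :
    ∃ (g y : GL (Fin p) F), y ∈ Q0 F p ∧ mon d 0 = g * y * g⁻¹ ∧
      g ∉ Subgroup.normalizer ((Q0 F p : Subgroup (GL (Fin p) F)) : Set _) := by
  classical
  have hinj' : Function.Injective (fun i => (d i : F)) := fun a b h => hinj (Units.ext h)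
  have hdet : (vandermonde (fun i => (d i : F))).det ≠ 0 := det_vandermonde_ne_zero_iff.mpr hinj'
  let g : GL (Fin p) F := GeneralLinearGroup.mkOfDetNeZero _ hdet
  have hgv : (g : Matrix (Fin p) (Fin p) F) = vandermonde (fun i => (d i : F)) := rfl
  let y : GL (Fin p) F := mon (fun _ => 1) (-1)
  have hyQ : y ∈ Q0 F p := ⟨fun _ => 1, -1, fun _ => one_pow _, rfl⟩
  have hrel : mon d 0 * g = g * y := by
    apply Units.ext
    rw [Units.val_mul, Units.val_mul, hgv, mon_val, mon_val]
    ext a b
    rw [Matrix.mul_apply, Matrix.mul_apply, Finset.sum_eq_single a, Finset.sum_eq_single (b + 1)]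
    · simp only [monMat_apply, add_zero, if_true, vandermonde_apply, Units.val_one, mul_one,
        add_neg_cancel_right]
      have hda : (d a : F) ^ p = 1 := by
        rw [← Units.val_pow_eq_pow_val, hd a, Units.val_one]
      have h2 : 2 ≤ p := two_le_p
      rw [Fin.val_add, Fin.val_one', Nat.mod_eq_of_lt (show 1 < p by omega),
        ← pow_eq_pow_mod _ hda, pow_succ, mul_comm]
    · intro c _ hc
      rw [monMat_apply, if_neg, mul_zero]
      intro h
      apply hc
      rw [h]
      simp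
    · intro h; exact absurd (Finset.mem_univ _) h
    · intro c _ hc
      rw [monMat_apply, if_neg, zero_mul]
      rw [add_zero]
      exact hc
    · intro h; exact absurd (Finset.mem_univ _) h
  refine ⟨g, y, hyQ, ?_, ?_⟩
  · rw [← hrel]
    group
  · intro hg
    have hg' : g⁻¹ ∈ Subgroup.normalizer ((Q0 F p : Subgroup (GL (Fin p) F)) : Set _) :=
      inv_mem hg
    have hD := InD.conj_of_mem_normalizer hp2 hζ hg' ⟨d, hd, rfl⟩
    have : g⁻¹ * mon d 0 * g⁻¹⁻¹ = y := by
      rw [inv_inv, mul_assoc, hrel]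
      group
    rw [this] at hD
    obtain ⟨d', -, hd'⟩ := hD
    obtain ⟨-, h0⟩ := mon_injective hd'
    exact fin_one_ne_zero (neg_eq_zero.mp h0)

/-- Case 3a: a non-diagonal element whose `p`-th power is a non-trivial scalar. -/
theorem exists_of_pow_ne_one (hp2 : p ≠ 2) {ζ : Fˣ} (hζ : orderOf ζ = p) (d : Fin p → Fˣ)
    {k : Fin p} (hk : k ≠ 0) (c : Fˣ) (hc : c ^ p = 1) (hc1 : c ≠ 1)
    (hpow : mon d k ^ p = mon (fun _ => c) 0) :
    ∃ g : GL (Fin p) F, mon d k = g * mon d k * g⁻¹ ∧
      g ∉ Subgroup.normalizer ((Q0 F p : Subgroup (GL (Fin p) F)) : Set _) := by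
  classical
  have hodd : Odd p := (Fact.out : p.Prime).odd_of_ne_two hp2
  set A : Matrix (Fin p) (Fin p) F := (mon d k : GL (Fin p) F).val with hA
  have hAp : A ^ p = (c : F) • (1 : Matrix (Fin p) (Fin p) F) := by
    rw [hA, ← Units.val_pow_eq_pow_val, hpow, mon_val, monMat_const_zero]
  have hc2 : (c : F) + 1 ≠ 0 := by
    intro h
    have h1 : (c : F) = -1 := eq_neg_of_add_eq_zero_left h
    have h2 : (c : F) ^ p = 1 := by rw [← Units.val_pow_eq_pow_val, hc, Units.val_one]
    rw [h1, hodd.neg_pow, one_pow] at h2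
    apply hc1
    apply Units.ext
    rw [h1, h2, Units.val_one]
  have hleft : (((c : F) + 1)⁻¹ • ∑ m ∈ Finset.range p, (-A) ^ m) * (1 + A) = 1 := by
    have h1 := geom_sum_mul (-A) p
    rw [hodd.neg_pow, hAp] at h1
    have h2 : (∑ m ∈ Finset.range p, (-A) ^ m) * (1 + A) = ((c : F) + 1) • 1 := by
      have : (1 + A) = -(-A - 1) := by abel
      rw [this, mul_neg, h1, add_smul, one_smul]
      abel
    rw [smul_mul_assoc, h2, smul_smul, inv_mul_cancel₀ hc2, one_smul]
  have hdet : (1 + A).det ≠ 0 := det_ne_zero_of_left_inverse hleft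
  let g : GL (Fin p) F := GeneralLinearGroup.mkOfDetNeZero _ hdet
  have hgv : (g : Matrix (Fin p) (Fin p) F) = 1 + A := rfl
  refine ⟨g, ?_, ?_⟩
  · have hcomm : g * mon d k = mon d k * g := by
      apply Units.ext
      rw [Units.val_mul, Units.val_mul, hgv, ← hA, add_mul, mul_add, one_mul, mul_one]
    rw [hcomm]
    group
  · intro hg
    have hne : (0 : Fin p) ≠ 0 + k := fun h => hk (by simpa using h.symm)
    apply hne
    apply row_unique_of_mem_normalizer hp2 hζ hg (i := 0)
    · rw [hgv, Matrix.add_apply, Matrix.one_apply_eq, hA, mon_apply, if_neg hne, add_zero]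
      exact one_ne_zero
    · rw [hgv, Matrix.add_apply, Matrix.one_apply_ne hne, hA, mon_apply, if_pos rfl, zero_add]
      exact (d 0).ne_zero

/-- `p` is invertible in `F` when `F` has an element of multiplicative order `p`. -/
theorem cast_p_ne_zero {ζ : Fˣ} (hζ : orderOf ζ = p) : (p : F) ≠ 0 := by
  intro h0
  have hpp : p.Prime := Fact.out
  have hchar : CharP F p := (CharP.charP_iff_prime_eq_zero hpp).mpr h0
  have hζp : ζ ^ p = 1 := by
    have := pow_orderOf_eq_one ζ
    rwa [hζ] at this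
  have h1 : ((ζ : F) - 1) ^ p = 0 := by
    rw [sub_pow_char, one_pow, ← Units.val_pow_eq_pow_val, hζp, Units.val_one, sub_self]
  have h2 : (ζ : F) = 1 := sub_eq_zero.mp (pow_eq_zero_iff hpp.ne_zero |>.mp h1)
  have h3 : ζ = 1 := Units.ext (by rw [h2, Units.val_one])
  rw [h3, orderOf_one] at hζ
  exact hpp.one_lt.ne hζ

/-- Case 3b: a non-diagonal element of order `p`. -/
theorem exists_of_pow_eq_one (hp2 : p ≠ 2) {ζ : Fˣ} (hζ : orderOf ζ = p) (d : Fin p → Fˣ)
    (hd : ∀ i, d i ^ p = 1) {k : Fin p} (hk : k ≠ 0) (hpow : mon d k ^ p = 1) :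
    ∃ g : GL (Fin p) F, mon d k = g * mon d k * g⁻¹ ∧
      g ∉ Subgroup.normalizer ((Q0 F p : Subgroup (GL (Fin p) F)) : Set _) := by
  classical
  have hpp : p.Prime := Fact.out
  have hp3 : 3 ≤ p := by
    have := hpp.two_le
    omega
  set A : Matrix (Fin p) (Fin p) F := (mon d k : GL (Fin p) F).val with hA
  have hAp : A ^ p = 1 := by
    rw [hA, ← Units.val_pow_eq_pow_val, hpow, Units.val_one]
  set N : Matrix (Fin p) (Fin p) F := ∑ m ∈ Finset.range p, A ^ m with hN
  have hAN : A * N = N := by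
    have h1 := mul_geom_sum A p
    rw [hAp, sub_self, sub_mul, one_mul] at h1
    exact sub_eq_zero.mp h1
  have hAmN : ∀ m : ℕ, A ^ m * N = N := by
    intro m
    induction m with
    | zero => rw [pow_zero, one_mul]
    | succ m ih => rw [pow_succ, mul_assoc, hAN, ih]
  have hNN : N * N = (p : F) • N := by
    conv_lhs => rw [hN, Finset.sum_mul]
    rw [← hN, Finset.sum_congr rfl (fun m _ => hAmN m), Finset.sum_const, Finset.card_range,
      Nat.cast_smul_eq_nsmul]
  have hP : (p : F) ≠ 0 := cast_p_ne_zero hζ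
  have hc0 : (ζ : F) ≠ 0 := ζ.ne_zero
  have hc1 : (ζ : F) ≠ 1 := by
    intro h
    have h3 : ζ = 1 := Units.ext (by rw [h, Units.val_one])
    rw [h3, orderOf_one] at hζ
    exact hpp.one_lt.ne hζ
  set b : F := ((ζ : F) - 1) / (p : F) with hb
  set b' : F := -b / (ζ : F) with hb'
  have hb0 : b ≠ 0 := div_ne_zero (sub_ne_zero.mpr hc1) hP
  have hcoef : b' + b + b' * b * (p : F) = 0 := by
    rw [hb', hb]
    field_simp
    ring
  have hleft : (1 + b' • N) * (1 + b • N) = 1 := by
    have : (1 + b' • N) * (1 + b • N) = 1 + (b' + b + b' * b * (p : F)) • N := by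
      rw [add_mul, mul_add, mul_add, one_mul, one_mul, mul_one, smul_mul_smul_comm, hNN]
      module
    rw [this, hcoef, zero_smul, add_zero]
  have hdet : (1 + b • N).det ≠ 0 := det_ne_zero_of_left_inverse hleft
  let g : GL (Fin p) F := GeneralLinearGroup.mkOfDetNeZero _ hdet
  have hgv : (g : Matrix (Fin p) (Fin p) F) = 1 + b • N := rfl
  have hNent : ∀ m₀ : ℕ, m₀ < p → N 0 (0 + m₀ • k) ≠ 0 := by
    intro m₀ hm₀
    rw [hN, Matrix.sum_apply, Finset.sum_eq_single m₀]
    · exact (mon_pow_apply d hd k m₀ 0 (0 + m₀ • k)).2 rfl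
    · intro m hm hne
      apply (mon_pow_apply d hd k m 0 (0 + m₀ • k)).1
      intro h
      apply hne
      exact (nsmul_fin_inj hk hm₀ (Finset.mem_range.mp hm) (add_left_cancel h)).symm
    · intro h
      exact absurd (Finset.mem_range.mpr hm₀) h
  have hgent : ∀ m₀ : ℕ, m₀ < p → m₀ ≠ 0 →
      (g : Matrix (Fin p) (Fin p) F) 0 (0 + m₀ • k) ≠ 0 := by
    intro m₀ hm₀ h0
    have hne : (0 : Fin p) ≠ 0 + m₀ • k := by
      intro h
      have h1 : m₀ • k = 0 • k := by
        rw [zero_nsmul]
        simpa using h.symm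
      exact h0 (nsmul_fin_inj hk hm₀ (by omega) h1)
    rw [hgv, Matrix.add_apply, Matrix.one_apply_ne hne, zero_add, Matrix.smul_apply, smul_eq_mul]
    exact mul_ne_zero hb0 (hNent m₀ hm₀)
  refine ⟨g, ?_, ?_⟩
  · have hcomm : g * mon d k = mon d k * g := by
      apply Units.ext
      rw [Units.val_mul, Units.val_mul, hgv, ← hA, add_mul, mul_add, one_mul, mul_one,
        smul_mul_assoc, mul_smul_comm]
      congr 2
      rw [hAN, hN, Finset.sum_mul]
      have : ∀ m ∈ Finset.range p, A ^ m * A = A * A ^ m := fun m _ =>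
        ((Commute.refl A).pow_left m).eq
      rw [Finset.sum_congr rfl this, ← Finset.mul_sum, ← hN, hAN]
    rw [hcomm]
    group
  · intro hg
    have h12 := row_unique_of_mem_normalizer hp2 hζ hg (hgent 1 (by omega) one_ne_zero)
      (hgent 2 (by omega) two_ne_zero)
    have := nsmul_fin_inj hk (show 1 < p by omega) (show 2 < p by omega) (add_left_cancel h12)
    omega

/-- The monomial Sylow subgroup is redundant. -/
theorem exists_redundant_sylow [Fintype F] (hp2 : p ≠ 2) (h1 : p ∣ Fintype.card F - 1)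
    (h2 : ¬ p ^ 2 ∣ Fintype.card F - 1) :
    ∃ Q : Sylow p (GL (Fin p) F), ∀ x : GL (Fin p) F,
      (∃ k : ℕ, orderOf x = p ^ k) → ∃ P : Sylow p (GL (Fin p) F), P ≠ Q ∧ x ∈ P := by
  classical
  have hcard : Nat.card Fˣ = Fintype.card F - 1 := by
    rw [Nat.card_eq_fintype_card, Fintype.card_units]
  obtain ⟨ζ, hζ⟩ := exists_prime_orderOf_dvd_card' (G := Fˣ) p (by rw [hcard]; exact h1)
  let Q : Sylow p (GL (Fin p) F) := Sylow.ofCard (Q0 F p) (by
    rw [card_Q0 h1, factorization_card_GL hp2 h1 h2])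
  have hQ : (Q : Subgroup (GL (Fin p) F)) = Q0 F p := Sylow.coe_ofCard _ _
  refine ⟨Q, ?_⟩
  rintro x ⟨n, hn⟩
  by_cases hxQ : x ∈ Q
  · have hxQ0 : x ∈ Q0 F p := by
      rw [← hQ]
      exact hxQ
    obtain ⟨d, k, hd, rfl⟩ := hxQ0
    have key : ∀ (g y : GL (Fin p) F), y ∈ Q0 F p → mon d k = g * y * g⁻¹ →
        g ∉ Subgroup.normalizer ((Q0 F p : Subgroup (GL (Fin p) F)) : Set _) →
        ∃ P : Sylow p (GL (Fin p) F), P ≠ Q ∧ mon d k ∈ P := by
      intro g y hy hx hg
      apply exists_ne_sylow_of_conj Q (mon d k) y g _ hx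
      · rw [hQ]
        exact hg
      · show y ∈ (Q : Subgroup (GL (Fin p) F))
        rw [hQ]
        exact hy
    by_cases hk : k = 0
    · subst hk
      by_cases hinj : Function.Injective d
      · obtain ⟨g, y, hy, hx, hg⟩ := exists_of_injective hp2 hζ d hd hinj
        exact key g y hy hx hg
      · have : ∃ i j, d i = d j ∧ i ≠ j := by
          unfold Function.Injective at hinj
          push Not at hinj
          exact hinj
        obtain ⟨i, j, hij, hne⟩ := this
        obtain ⟨g, hx, hg⟩ := exists_of_repeated hp2 hζ d hne hij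
        exact key g (mon d 0) ⟨d, 0, hd, rfl⟩ hx hg
    · obtain ⟨c, hc, hpow⟩ := mon_pow_p d hd hk
      by_cases hc1 : c = 1
      · subst hc1
        rw [mon_one] at hpow
        obtain ⟨g, hx, hg⟩ := exists_of_pow_eq_one hp2 hζ d hd hk hpow
        exact key g (mon d k) ⟨d, k, hd, rfl⟩ hx hg
      · obtain ⟨g, hx, hg⟩ := exists_of_pow_ne_one hp2 hζ d hk c hc hc1 hpow
        exact key g (mon d k) ⟨d, k, hd, rfl⟩ hx hg
  · have hpg : IsPGroup p (Subgroup.zpowers x) := by
      apply IsPGroup.of_card (n := n)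
      rw [Nat.card_zpowers, hn]
    obtain ⟨P, hP⟩ := hpg.exists_le_sylow
    refine ⟨P, ?_, hP (Subgroup.mem_zpowers x)⟩
    rintro rfl
    exact hxQ (hP (Subgroup.mem_zpowers x))

end Cfsg.Agent.Lib.Helper13.GLpRed
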