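/-
helper13: Sylow 2-subgroups of `GU₂(q)`, `q` odd: order, and the quasi-dihedral / wreathed models.
-/
import Mathlib
import Cfsg.Agent.Lib.Helper13.GL2SylowTwo
import Cfsg.Agent.Lib.Helper14.Unitary

set_option autoImplicit false

namespace Cfsg.Agent.Lib.Helper13

open Matrix

section arithmetic

theorem fact_two_card_GU2 (q : ℕ) (hq : 2 ≤ q) (hodd : Odd q) :
    (q * ((q + 1) * (q ^ 2 - 1))).factorization 2 =
      2 * (q + 1).factorization 2 + (q - 1).factorization 2 := by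
  obtain ⟨r, hr⟩ : ∃ r, q = r + 2 := ⟨q - 2, by omega⟩
  have h1 : q ^ 2 - 1 = (q - 1) * (q + 1) := by
    rw [hr]
    have : (r + 2) ^ 2 - 1 = (r + 1) * (r + 3) := by
      rw [Nat.sub_eq_iff_eq_add (Nat.one_le_pow _ _ (by omega))]
      ring
    rw [this]
    rfl
  have hq1 : q - 1 ≠ 0 := by omega
  have hq2 : q + 1 ≠ 0 := by omega
  have hq0 : q ≠ 0 := by omega
  have hqodd : ¬ 2 ∣ q := by
    obtain ⟨s, hs⟩ := hodd
    omega
  rw [h1, Nat.factorization_mul hq0 (Nat.mul_ne_zero hq2 (Nat.mul_ne_zero hq1 hq2)),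
    Nat.factorization_mul hq2 (Nat.mul_ne_zero hq1 hq2), Nat.factorization_mul hq1 hq2]
  simp only [Finsupp.coe_add, Pi.add_apply]
  rw [Nat.factorization_eq_zero_of_not_dvd hqodd]
  ring

/-- if `m = v₂(q - 1)` then `2^(m+1) ∣ q + 2^m - 1`. -/
theorem two_pow_succ_dvd (q : ℕ) (hq : 2 ≤ q) :
    2 ^ ((q - 1).factorization 2 + 1) ∣ q + 2 ^ ((q - 1).factorization 2) - 1 := by
  set m := (q - 1).factorization 2 with hm
  have hq1 : q - 1 ≠ 0 := by omega
  have h1 : 2 ^ m * ((q - 1) / 2 ^ m) = q - 1 := Nat.ordProj_mul_ordCompl_eq_self (q - 1) 2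
  have h2 : ¬ 2 ∣ (q - 1) / 2 ^ m := Nat.not_dvd_ordCompl Nat.prime_two hq1
  set r := (q - 1) / 2 ^ m with hr
  have h3 : q + 2 ^ m - 1 = 2 ^ m * (r + 1) := by
    have hpos : 0 < 2 ^ m := Nat.pos_of_ne_zero (by positivity)
    have : q + 2 ^ m - 1 = (q - 1) + 2 ^ m := by omega
    rw [this, ← h1]
    ring
  rw [h3, pow_succ]
  apply Nat.mul_dvd_mul_left
  omega

end arithmetic

section unitary

variable {F : Type*} [Field F] [Fintype F] {q : ℕ}

/-- Membership in `GU₂` from the orthonormality of the columns. -/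
theorem mem_GU_two (hF : Fintype.card F = q ^ 2) (g : GL (Fin 2) F) (a b c d : F)
    (hg : (g : Matrix (Fin 2) (Fin 2) F) = !![a, b; c, d])
    (h1 : a * a ^ q + c * c ^ q = 1) (h2 : a * b ^ q + c * d ^ q = 0)
    (h3 : b * a ^ q + d * c ^ q = 0) (h4 : b * b ^ q + d * d ^ q = 1) :
    g ∈ Cfsg.GU 2 F q := by
  classical
  rw [Cfsg.Agent.Lib.Helper14.mem_GU_iff]
  intro u v
  apply Cfsg.Agent.Lib.Helper14.hermForm_mulVec_of_orthoN hF
  intro j l
  rw [hg]
  fin_cases j <;> fin_cases l <;> simp [Cfsg.hermForm, Fin.sum_univ_two, h1, h2, h3, h4]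

theorem card_GU2 (hF : Fintype.card F = q ^ 2) :
    Nat.card (Cfsg.GU 2 F q) = q * ((q + 1) * (q ^ 2 - 1)) := by
  classical
  rw [Cfsg.Agent.Lib.Helper14.card_GU hF 2]
  simp [Finset.prod_range_succ]

theorem card_sylow_two_GU2 (hF : Fintype.card F = q ^ 2) (hodd : Odd q)
    (P : Sylow 2 (Cfsg.GU 2 F q)) :
    Nat.card (P : Subgroup (Cfsg.GU 2 F q)) =
      2 ^ (2 * (q + 1).factorization 2 + (q - 1).factorization 2) := by
  classical
  rw [Sylow.card_eq_multiplicity, card_GU2 hF,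
    fact_two_card_GU2 _ (Cfsg.Agent.Lib.Helper14.herm_two_le hF) hodd]

end unitary

section torus

variable {F : Type*} [Field F]

/-- The matrix with eigenvalue `l` on `(1, w)` and `u` on `(1, -w)`. -/
def tmat (w l u : F) : Matrix (Fin 2) (Fin 2) F :=
  !![2⁻¹ * (l + u), 2⁻¹ * w⁻¹ * (l - u); 2⁻¹ * w * (l - u), 2⁻¹ * (l + u)]

theorem tmat_one (h2 : (2 : F) ≠ 0) (w : F) : tmat w 1 1 = 1 := by
  unfold tmat
  ext i j
  fin_cases i <;> fin_cases j <;> simp <;> field_simp <;> norm_num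

theorem tmat_mul (h2 : (2 : F) ≠ 0) (w : F) (hw : w ≠ 0) (l u l' u' : F) :
    tmat w l u * tmat w l' u' = tmat w (l * l') (u * u') := by
  unfold tmat
  ext i j
  fin_cases i <;> fin_cases j <;> simp <;> field_simp <;> ring

theorem tmat_conj (w l u : F) :
    (!![1, 0; 0, -1] : Matrix (Fin 2) (Fin 2) F) * tmat w l u * !![1, 0; 0, -1] = tmat w u l := by
  unfold tmat
  ext i j
  fin_cases i <;> fin_cases j <;>
    simp only [Matrix.mul_apply, Fin.sum_univ_two, Matrix.of_apply, Matrix.cons_val_zero,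
      Matrix.cons_val_one, Matrix.cons_val', Matrix.cons_val_fin_one, Fin.zero_eta, Fin.mk_one,
      Fin.isValue] <;> ring

theorem tmat_injective (h2 : (2 : F) ≠ 0) (w : F) (hw : w ≠ 0) (l u l' u' : F)
    (h : tmat w l u = tmat w l' u') : l = l' ∧ u = u' := by
  have e1 := congr_fun (congr_fun h 0) 0
  have e2 := congr_fun (congr_fun h 1) 0
  simp only [tmat, Matrix.of_apply, Matrix.cons_val_zero, Matrix.cons_val_one,
    Matrix.cons_val', Matrix.cons_val_fin_one] at e1 e2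
  have e1' : l + u = l' + u' := by
    have := mul_left_cancel₀ (inv_ne_zero h2) e1
    exact this
  have e2' : l - u = l' - u' := by
    have := mul_left_cancel₀ (mul_ne_zero (inv_ne_zero h2) hw) e2
    exact this
  constructor
  · have : 2 * l = 2 * l' := by linear_combination e1' + e2'
    exact mul_left_cancel₀ h2 this
  · have : 2 * u = 2 * u' := by linear_combination e1' - e2'
    exact mul_left_cancel₀ h2 this

end torus

section torusGU

variable {F : Type*} [Field F] [Fintype F] {q : ℕ}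

theorem two_ne_zero_of_card (hF : Fintype.card F = q ^ 2) (hodd : Odd q) : (2 : F) ≠ 0 := by
  intro h
  have hchar : ringChar F ∣ 2 := by
    have h' : ((2 : ℕ) : F) = 0 := by exact_mod_cast h
    exact (ringChar.spec F 2).mp h'
  have hp : ringChar F = 2 := by
    rcases (Nat.dvd_prime Nat.prime_two).mp hchar with h1 | h1
    · exact absurd h1 (CharP.ringChar_ne_one)
    · exact h1
  have h2 : (2 : ℕ) ∣ Fintype.card F := by
    have : ((Fintype.card F : ℕ) : F) = 0 := Nat.cast_card_eq_zero F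
    rw [← hp]
    exact (ringChar.spec F _).mp this
  rw [hF] at h2
  have := (Nat.Prime.dvd_of_dvd_pow Nat.prime_two h2)
  obtain ⟨s, hs⟩ := hodd
  omega

theorem tmat_unitary_eqs (hF : Fintype.card F = q ^ 2) (h2 : (2 : F) ≠ 0) (w l u : F)
    (hw : w * w ^ q = -1) (hlu : l ^ q * u = 1) (hul : u ^ q * l = 1) :
    (2⁻¹ * (l + u)) * (2⁻¹ * (l + u)) ^ q + (2⁻¹ * w * (l - u)) * (2⁻¹ * w * (l - u)) ^ q = 1 ∧
    (2⁻¹ * (l + u)) * (2⁻¹ * w⁻¹ * (l - u)) ^ q + (2⁻¹ * w * (l - u)) * (2⁻¹ * (l + u)) ^ q = 0 ∧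
    (2⁻¹ * w⁻¹ * (l - u)) * (2⁻¹ * (l + u)) ^ q + (2⁻¹ * (l + u)) * (2⁻¹ * w * (l - u)) ^ q = 0 ∧
    (2⁻¹ * w⁻¹ * (l - u)) * (2⁻¹ * w⁻¹ * (l - u)) ^ q + (2⁻¹ * (l + u)) * (2⁻¹ * (l + u)) ^ q = 1 := by
  classical
  have hw0 : w ≠ 0 := by
    rintro rfl
    rw [zero_mul] at hw
    exact (neg_ne_zero.mpr one_ne_zero) hw.symm
  have e2 : ((2 : F)⁻¹) ^ q = 2⁻¹ := by
    rw [inv_pow]
    congr 1
    have := Cfsg.Agent.Lib.Helper14.herm_add_pow hF (1 : F) 1
    rw [one_pow, one_add_one_eq_two] at this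
    exact this
  have ewq : w ^ q = -w⁻¹ := by
    field_simp
    linear_combination hw
  have ew : (w⁻¹) ^ q = -w := by
    rw [inv_pow, ewq]
    field_simp
  simp only [mul_pow, Cfsg.Agent.Lib.Helper14.herm_add_pow hF, Cfsg.Agent.Lib.Helper14.herm_sub_pow hF,
    e2, ew, ewq]
  generalize l ^ q = L at *
  generalize u ^ q = U at *
  refine ⟨?_, ?_, ?_, ?_⟩
  · field_simp
    linear_combination 2 * hlu + 2 * hul
  · field_simp
    linear_combination (2 * w) * hul - (2 * w) * hlu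
  · field_simp
    linear_combination 2 * hul - 2 * hlu
  · field_simp
    linear_combination 2 * hlu + 2 * hul

/-- The torus `a ↦ tmat w a a^{-q}` as a monoid homomorphism. -/
def torusHom (h2 : (2 : F) ≠ 0) (w : F) (hw : w ≠ 0) (q : ℕ) : Fˣ →* Matrix (Fin 2) (Fin 2) F where
  toFun a := tmat w (a : F) (((a ^ q)⁻¹ : Fˣ) : F)
  map_one' := by
    simp only [one_pow, inv_one, Units.val_one]
    exact tmat_one h2 w
  map_mul' a b := by
    rw [tmat_mul h2 w hw, mul_pow, mul_inv, Units.val_mul, Units.val_mul]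

omit [Fintype F] in
theorem torusHom_apply (h2 : (2 : F) ≠ 0) (w : F) (hw : w ≠ 0) (q : ℕ) (a : Fˣ) :
    torusHom h2 w hw q a = tmat w (a : F) (((a ^ q)⁻¹ : Fˣ) : F) := rfl

omit [Fintype F] in
theorem torusHom_injective (h2 : (2 : F) ≠ 0) (w : F) (hw : w ≠ 0) (q : ℕ) :
    Function.Injective (torusHom h2 w hw q) := by
  intro a b h
  rw [torusHom_apply, torusHom_apply] at h
  exact Units.ext (tmat_injective h2 w hw _ _ _ _ h).1

/-- The torus as a homomorphism into `GL₂`. -/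
def torusGL (h2 : (2 : F) ≠ 0) (w : F) (hw : w ≠ 0) (q : ℕ) : Fˣ →* GL (Fin 2) F :=
  (torusHom h2 w hw q).toHomUnits

omit [Fintype F] in
theorem torusGL_val (h2 : (2 : F) ≠ 0) (w : F) (hw : w ≠ 0) (q : ℕ) (a : Fˣ) :
    ((torusGL h2 w hw q a : GL (Fin 2) F) : Matrix (Fin 2) (Fin 2) F) =
      tmat w (a : F) (((a ^ q)⁻¹ : Fˣ) : F) := rfl

omit [Fintype F] in
theorem torusGL_injective (h2 : (2 : F) ≠ 0) (w : F) (hw : w ≠ 0) (q : ℕ) :
    Function.Injective (torusGL h2 w hw q) := by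
  intro a b h
  apply torusHom_injective h2 w hw q
  rw [torusHom_apply, torusHom_apply, ← torusGL_val h2 w hw, ← torusGL_val h2 w hw, h]

theorem units_pow_card_sq (hF : Fintype.card F = q ^ 2) (a : Fˣ) : a ^ (q ^ 2) = a := by
  classical
  apply Units.ext
  rw [Units.val_pow_eq_pow_val]
  exact Cfsg.Agent.Lib.Helper14.herm_pow_card hF _

theorem torusHom_mem_GU (hF : Fintype.card F = q ^ 2) (h2 : (2 : F) ≠ 0) (w : F) (hw0 : w ≠ 0)
    (hw : w * w ^ q = -1) (a : Fˣ) :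
    torusGL h2 w hw0 q a ∈ Cfsg.GU 2 F q := by
  have hlu : (a : F) ^ q * (((a ^ q)⁻¹ : Fˣ) : F) = 1 := by
    rw [← Units.val_pow_eq_pow_val, ← Units.val_mul, mul_inv_cancel, Units.val_one]
  have hul : ((((a ^ q)⁻¹ : Fˣ) : F)) ^ q * (a : F) = 1 := by
    have h : ((a ^ q)⁻¹) ^ q * a = 1 := by
      rw [inv_pow, ← pow_mul, ← pow_two, units_pow_card_sq hF, inv_mul_cancel]
    rw [← Units.val_pow_eq_pow_val, ← Units.val_mul, h, Units.val_one]
  obtain ⟨h1, h2', h3, h4⟩ := tmat_unitary_eqs hF h2 w (a : F) (((a ^ q)⁻¹ : Fˣ) : F) hw hlu hul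
  exact mem_GU_two hF _ _ _ _ _ rfl h1 h2' h3 h4

/-- `diag(1, -1)` as an element of `GL₂`. -/
def negGL : GL (Fin 2) F where
  val := !![1, 0; 0, -1]
  inv := !![1, 0; 0, -1]
  val_inv := by ext i j; fin_cases i <;> fin_cases j <;> simp
  inv_val := by ext i j; fin_cases i <;> fin_cases j <;> simp

omit [Fintype F] in
theorem orderOf_negGL (h2 : (2 : F) ≠ 0) : orderOf (negGL : GL (Fin 2) F) = 2 := by
  apply orderOf_eq_prime
  · rw [pow_two]
    apply Units.ext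
    change (!![1, 0; 0, -1] : Matrix (Fin 2) (Fin 2) F) * !![1, 0; 0, -1] = 1
    ext i j; fin_cases i <;> fin_cases j <;> simp
  · intro h
    have := congrArg (fun g : GL (Fin 2) F => (g : Matrix (Fin 2) (Fin 2) F) 1 1) h
    simp only [negGL, Matrix.of_apply, Matrix.cons_val_one, Matrix.cons_val', Matrix.cons_val_fin_one,
      Units.val_one, Matrix.one_apply_eq] at this
    apply h2
    linear_combination -this

theorem negGL_mem_GU (hF : Fintype.card F = q ^ 2) (hodd : Odd q) :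
    (negGL : GL (Fin 2) F) ∈ Cfsg.GU 2 F q := by
  have hq0 : q ≠ 0 := by
    obtain ⟨s, hs⟩ := hodd
    omega
  apply mem_GU_two hF negGL 1 0 0 (-1) rfl
  · simp [hq0]
  · simp [hq0]
  · simp [hq0]
  · simp [hq0, hodd.neg_one_pow]

theorem exists_norm_neg_one (hF : Fintype.card F = q ^ 2) (hodd : Odd q) :
    ∃ w : F, w * w ^ q = -1 := by
  classical
  have hmem : (-1 : F) ∈ Cfsg.Agent.Lib.Helper14.fixStar F q :=
    Cfsg.Agent.Lib.Helper14.mem_fixStar.mpr ⟨neg_ne_zero.mpr one_ne_zero, hodd.neg_one_pow⟩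
  have h := Cfsg.Agent.Lib.Helper14.normFiber_of_mem hF (-1) hmem
  unfold Cfsg.Agent.Lib.Helper14.normFiber at h
  have hpos : 0 < (Finset.univ.filter (fun w : F => w * w ^ q = -1)).card := by
    rw [h]; omega
  obtain ⟨w, hw⟩ := Finset.card_pos.mp hpos
  exact ⟨w, (Finset.mem_filter.mp hw).2⟩

theorem orderOf_generator_units (hF : Fintype.card F = q ^ 2) (g : Fˣ)
    (hg : ∀ x : Fˣ, x ∈ Subgroup.zpowers g) : orderOf g = q ^ 2 - 1 := by
  classical
  rw [orderOf_eq_card_of_forall_mem_zpowers hg, Nat.card_eq_fintype_card, Fintype.card_units, hF]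

theorem exists_qd_data_GU2 (hF : Fintype.card F = q ^ 2) (hq1 : q % 4 = 1) :
    ∃ x y : ↥(Cfsg.GU 2 F q), orderOf x = 2 ^ ((q - 1).factorization 2 + 1) ∧ orderOf y = 2 ∧
      y * x * y⁻¹ = x ^ (2 ^ ((q - 1).factorization 2) - 1) := by
  classical
  have hodd : Odd q := by rw [Nat.odd_iff]; omega
  have h2 := two_ne_zero_of_card hF hodd
  obtain ⟨w, hw⟩ := exists_norm_neg_one hF hodd
  have hw0 : w ≠ 0 := by
    rintro rfl
    rw [zero_mul] at hw
    exact (neg_ne_zero.mpr one_ne_zero) hw.symm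
  obtain ⟨g, hg⟩ := IsCyclic.exists_generator (α := Fˣ)
  have hgo := orderOf_generator_units hF g hg
  set m := (q - 1).factorization 2 with hm
  have hq2 : 2 ≤ q := Cfsg.Agent.Lib.Helper14.herm_two_le hF
  have hsq : q ^ 2 - 1 = (q - 1) * (q + 1) := by
    obtain ⟨r, rfl⟩ : ∃ r, q = r + 1 := ⟨q - 1, by omega⟩
    rw [Nat.sub_eq_iff_eq_add (Nat.one_le_pow _ _ (by omega))]
    simp only [Nat.add_sub_cancel]
    ring
  have hdvd : 2 ^ (m + 1) ∣ q ^ 2 - 1 := by
    rw [hsq, pow_succ]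
    exact Nat.mul_dvd_mul (Nat.ordProj_dvd _ 2) (by omega)
  have hne : q ^ 2 - 1 ≠ 0 := by
    rw [hsq]
    exact Nat.mul_ne_zero (by omega) (by omega)
  obtain ⟨a, ha⟩ := exists_orderOf_eq_of_dvd g (2 ^ (m + 1)) (by rw [hgo]; exact hdvd)
    (by rw [hgo]; exact hne)
  have hk : (a ^ q)⁻¹ = a ^ (2 ^ m - 1) := by
    apply inv_eq_of_mul_eq_one_right
    rw [← pow_add]
    apply orderOf_dvd_iff_pow_eq_one.mp
    rw [ha]
    have h := two_pow_succ_dvd q hq2
    have hpos : 0 < 2 ^ m := Nat.pos_of_ne_zero (by positivity)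
    have e : q + (2 ^ m - 1) = q + 2 ^ m - 1 := by omega
    rw [e]
    exact h
  have hk2 : ((a ^ (2 ^ m - 1)) ^ q)⁻¹ = a := by
    rw [← hk, inv_pow, inv_inv, ← pow_mul, ← pow_two, units_pow_card_sq hF]
  refine ⟨⟨torusGL h2 w hw0 q a, torusHom_mem_GU hF h2 w hw0 hw a⟩,
    ⟨negGL, negGL_mem_GU hF hodd⟩, ?_, ?_, ?_⟩
  · rw [Subgroup.orderOf_mk,
      orderOf_injective (torusGL h2 w hw0 q) (torusGL_injective h2 w hw0 q) a, ha]
  · rw [Subgroup.orderOf_mk, orderOf_negGL h2]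
  · apply Subtype.ext
    apply Units.ext
    have hpow : (torusGL h2 w hw0 q a) ^ (2 ^ m - 1) =
        torusGL h2 w hw0 q (a ^ (2 ^ m - 1)) := (map_pow _ a _).symm
    change (!![1, 0; 0, -1] : Matrix (Fin 2) (Fin 2) F) *
        ((torusGL h2 w hw0 q a : GL (Fin 2) F) : Matrix (Fin 2) (Fin 2) F) * !![1, 0; 0, -1] =
      (((torusGL h2 w hw0 q a) ^ (2 ^ m - 1) : GL (Fin 2) F) :
        Matrix (Fin 2) (Fin 2) F)
    rw [hpow, torusGL_val, torusGL_val, tmat_conj, hk2, ← hk]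

theorem swapGL_mem_GU (hF : Fintype.card F = q ^ 2) :
    (swapGL : GL (Fin 2) F) ∈ Cfsg.GU 2 F q := by
  classical
  have hq0 : q ≠ 0 := by
    have := Cfsg.Agent.Lib.Helper14.herm_two_le hF
    omega
  apply mem_GU_two hF swapGL 0 1 1 0 rfl
  · simp [hq0]
  · simp [hq0]
  · simp [hq0]
  · simp [hq0]

theorem diagOne_mem_GU (hF : Fintype.card F = q ^ 2) (a : Fˣ) (ha : a ^ (q + 1) = 1) :
    (Units.map (diagOne (F := F)) a : GL (Fin 2) F) ∈ Cfsg.GU 2 F q := by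
  classical
  have hq0 : q ≠ 0 := by
    have := Cfsg.Agent.Lib.Helper14.herm_two_le hF
    omega
  have ha' : (a : F) * (a : F) ^ q = 1 := by
    rw [← pow_succ', ← Units.val_pow_eq_pow_val, ha, Units.val_one]
  apply mem_GU_two hF _ (a : F) 0 0 1 rfl
  · simp [hq0, ha']
  · simp [hq0]
  · simp [hq0]
  · simp [hq0]

theorem exists_wreathed_data_GU2 (hF : Fintype.card F = q ^ 2) (hq3 : q % 4 = 3) :
    ∃ x z : ↥(Cfsg.GU 2 F q), orderOf x = 2 ^ ((q + 1).factorization 2) ∧ orderOf z = 2 ∧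
      x * (z * x * z⁻¹) = (z * x * z⁻¹) * x ∧
      Subgroup.zpowers x ⊓ Subgroup.zpowers (z * x * z⁻¹) = ⊥ := by
  classical
  have hq2 : 2 ≤ q := Cfsg.Agent.Lib.Helper14.herm_two_le hF
  obtain ⟨g, hg⟩ := IsCyclic.exists_generator (α := Fˣ)
  have hgo := orderOf_generator_units hF g hg
  set n := (q + 1).factorization 2 with hn
  have hsq : q ^ 2 - 1 = (q - 1) * (q + 1) := by
    obtain ⟨r, rfl⟩ : ∃ r, q = r + 1 := ⟨q - 1, by omega⟩
    rw [Nat.sub_eq_iff_eq_add (Nat.one_le_pow _ _ (by omega))]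
    simp only [Nat.add_sub_cancel]
    ring
  have hdvd1 : 2 ^ n ∣ q + 1 := Nat.ordProj_dvd _ 2
  have hdvd : 2 ^ n ∣ q ^ 2 - 1 := by
    rw [hsq]
    exact Dvd.dvd.mul_left hdvd1 _
  have hne : q ^ 2 - 1 ≠ 0 := by
    rw [hsq]
    exact Nat.mul_ne_zero (by omega) (by omega)
  obtain ⟨a, ha⟩ := exists_orderOf_eq_of_dvd g (2 ^ n) (by rw [hgo]; exact hdvd)
    (by rw [hgo]; exact hne)
  have ha1 : a ^ (q + 1) = 1 := by
    apply orderOf_dvd_iff_pow_eq_one.mp
    rw [ha]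
    exact hdvd1
  obtain ⟨h1, h2, h3⟩ := wreathed_data (F := F) n a ha
  refine ⟨⟨Units.map (diagOne (F := F)) a, diagOne_mem_GU hF a ha1⟩,
    ⟨swapGL, swapGL_mem_GU hF⟩, ?_, ?_, ?_, ?_⟩
  · rw [Subgroup.orderOf_mk, h1]
  · rw [Subgroup.orderOf_mk, orderOf_swapGL]
  · apply Subtype.ext
    exact h2
  · rw [eq_bot_iff]
    intro t ht
    obtain ⟨ht1, ht2⟩ := Subgroup.mem_inf.mp ht
    obtain ⟨i, hi⟩ := Subgroup.mem_zpowers_iff.mp ht1
    obtain ⟨j, hj⟩ := Subgroup.mem_zpowers_iff.mp ht2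
    rw [Subgroup.mem_bot]
    apply Subtype.ext
    have hmem : (t : GL (Fin 2) F) ∈ Subgroup.zpowers (Units.map (diagOne (F := F)) a : GL (Fin 2) F) ⊓
        Subgroup.zpowers (swapGL * Units.map (diagOne (F := F)) a * swapGL⁻¹) := by
      refine Subgroup.mem_inf.mpr ⟨Subgroup.mem_zpowers_iff.mpr ⟨i, ?_⟩,
        Subgroup.mem_zpowers_iff.mpr ⟨j, ?_⟩⟩
      · have := congrArg (Subtype.val) hi
        simpa using this
      · have := congrArg (Subtype.val) hj
        simpa using this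
    rw [h3, Subgroup.mem_bot] at hmem
    exact hmem

end torusGU

end Cfsg.Agent.Lib.Helper13
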