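import Mathlib
import Cfsg.Prelude.Def_SporadicCombinatorics

/-!
Helper lemmas (helper13): the group of monomial maps of `K⁶` as a semidirect product, and the
subgroup of monomial automorphisms of the hexacode, with its homomorphism to `Perm (Fin 6)`.
-/

set_option autoImplicit false

namespace Cfsg.Agent.Lib.Helper13.HexaGroup

variable (K : Type*) [Field K]

/-- permutations act on coefficient functions by `c ↦ c ∘ σ⁻¹` -/
def permAut : Equiv.Perm (Fin 6) →* MulAut (Fin 6 → Kˣ) where
  toFun σ :=
    { toFun := fun c => c ∘ σ.symm
      invFun := fun c => c ∘ σ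
      left_inv := fun c => by funext i; simp
      right_inv := fun c => by funext i; simp
      map_mul' := fun _ _ => rfl }
  map_one' := by ext c i; rfl
  map_mul' σ τ := by ext c i; rfl

/-- the monomial group `(Kˣ)⁶ ⋊ S₆` -/
abbrev Mon := (Fin 6 → Kˣ) ⋊[permAut K] Equiv.Perm (Fin 6)

variable {K}

theorem permAut_apply (σ : Equiv.Perm (Fin 6)) (c : Fin 6 → Kˣ) (i : Fin 6) :
    permAut K σ c i = c (σ.symm i) := rfl

/-- the action on vectors -/
def act (g : Mon K) (x : Fin 6 → K) : Fin 6 → K := Cfsg.monomialMap g.right g.left x

theorem act_apply (g : Mon K) (x : Fin 6 → K) (i : Fin 6) :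
    act g x i = (g.left i : K) * x (g.right.symm i) := rfl

theorem act_one (x : Fin 6 → K) : act (1 : Mon K) x = x := by
  funext i
  rw [act_apply]
  show ((1 : Kˣ) : K) * x i = x i
  simp

theorem act_mul (g h : Mon K) (x : Fin 6 → K) : act (g * h) x = act g (act h x) := by
  funext i
  simp only [act_apply, SemidirectProduct.mul_left, SemidirectProduct.mul_right, Pi.mul_apply,
    permAut_apply, Units.val_mul]
  rw [mul_assoc]
  rfl

theorem act_add (g : Mon K) (x y : Fin 6 → K) : act g (x + y) = act g x + act g y := by
  funext i
  simp only [act_apply, Pi.add_apply, mul_add]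

theorem act_smul (g : Mon K) (a : K) (x : Fin 6 → K) : act g (a • x) = a • act g x := by
  funext i
  simp only [act_apply, Pi.smul_apply, smul_eq_mul]
  ring

/-- `act g` as a linear map -/
def actLin (g : Mon K) : (Fin 6 → K) →ₗ[K] (Fin 6 → K) where
  toFun := act g
  map_add' := act_add g
  map_smul' := act_smul g

instance [Finite K] : Finite (Mon K) := Finite.of_equiv _ SemidirectProduct.equivProd.symm

/-- the monomial maps preserving a submodule form a submonoid -/
def stabMonoid (W : Submodule K (Fin 6 → K)) : Submonoid (Mon K) where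
  carrier := {g | ∀ x ∈ W, act g x ∈ W}
  one_mem' := fun x hx => by rw [act_one]; exact hx
  mul_mem' := fun {g h} hg hh x hx => by rw [act_mul]; exact hg _ (hh x hx)

/-- the monomial maps preserving a submodule, as a subgroup (finite field) -/
def stab [Finite K] (W : Submodule K (Fin 6 → K)) : Subgroup (Mon K) where
  toSubmonoid := stabMonoid W
  inv_mem' := by
    intro g hg
    have h1 : g⁻¹ = g ^ (orderOf g - 1) := by
      apply inv_eq_of_mul_eq_one_right
      rw [← pow_succ', Nat.sub_add_cancel (orderOf_pos g), pow_orderOf_eq_one]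
    show g⁻¹ ∈ stabMonoid W
    rw [h1]
    exact pow_mem hg _

theorem mem_stab [Finite K] (W : Submodule K (Fin 6 → K)) (g : Mon K) :
    g ∈ stab W ↔ ∀ x ∈ W, act g x ∈ W := Iff.rfl

/-- membership can be checked on a spanning set -/
theorem mem_stab_of_span [Finite K] (S : Set (Fin 6 → K)) (g : Mon K)
    (h : ∀ x ∈ S, act g x ∈ Submodule.span K S) : g ∈ stab (Submodule.span K S) := by
  intro x hx
  have : Submodule.span K S ≤ (Submodule.span K S).comap (actLin g) := by
    rw [Submodule.span_le]
    intro y hy
    exact h y hy
  exact this hx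

/-- elements with trivial permutation part and constant coefficients are central -/
theorem mem_center_of_const (g : Mon K) (hr : g.right = 1) (hc : ∀ i j, g.left i = g.left j) :
    g ∈ Subgroup.center (Mon K) := by
  rw [Subgroup.mem_center_iff]
  intro h
  refine SemidirectProduct.ext ?_ ?_
  · funext i
    simp only [SemidirectProduct.mul_left, Pi.mul_apply, permAut_apply, hr]
    rw [hc (h.right.symm i) i, mul_comm]
    rfl
  · simp only [SemidirectProduct.mul_right, hr, mul_one, one_mul]

end Cfsg.Agent.Lib.Helper13.HexaGroup
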