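import Mathlib
import Cfsg.Agent.Lib.Helper14.GF4
import Cfsg.Agent.Lib.Helper13.HexaGroup

/-!
Helper lemmas (helper13): explicit monomial automorphisms of the hexacode, via helper14's table model
of the field with four elements: two automorphisms whose commutator is the scalar `ω`.
-/

set_option autoImplicit false

namespace Cfsg.Agent.Lib.Helper13.HexaGroup

open Cfsg.Agent.Lib.Helper14.GF4

variable {K : Type*} [Field K] [Fintype K]

theorem mul4_ne_zero : ∀ a b : Fin 4, a ≠ 0 → b ≠ 0 → mul4 a b ≠ 0 := by decide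

/-- a monomial element from table-model data -/
noncomputable def mkM (hF : Fintype.card K = 4) {ω : K} (hω : ω ^ 2 + ω + 1 = 0)
    (σ : Equiv.Perm (Fin 6)) (cm : Fin 6 → Fin 4) (h : ∀ i, cm i ≠ 0) : Mon K :=
  ⟨fun i => Units.mk0 (E ω (cm i)) (fun h0 => h i ((E_eq_zero_iff hF hω _).mp h0)), σ⟩

theorem mkM_left (hF : Fintype.card K = 4) {ω : K} (hω : ω ^ 2 + ω + 1 = 0)
    (σ : Equiv.Perm (Fin 6)) (cm : Fin 6 → Fin 4) (h : ∀ i, cm i ≠ 0) (i : Fin 6) :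
    (((mkM hF hω σ cm h).left i : Kˣ) : K) = E ω (cm i) := rfl

theorem mkM_right (hF : Fintype.card K = 4) {ω : K} (hω : ω ^ 2 + ω + 1 = 0)
    (σ : Equiv.Perm (Fin 6)) (cm : Fin 6 → Fin 4) (h : ∀ i, cm i ≠ 0) :
    (mkM hF hω σ cm h).right = σ := rfl

theorem mkM_congr (hF : Fintype.card K = 4) {ω : K} (hω : ω ^ 2 + ω + 1 = 0)
    {σ σ' : Equiv.Perm (Fin 6)} {cm cm' : Fin 6 → Fin 4} (h : ∀ i, cm i ≠ 0) (h' : ∀ i, cm' i ≠ 0)
    (e1 : σ = σ') (e2 : cm = cm') : mkM hF hω σ cm h = mkM hF hω σ' cm' h' := by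
  subst e1 e2
  rfl

theorem mkM_mul (hF : Fintype.card K = 4) {ω : K} (hω : ω ^ 2 + ω + 1 = 0)
    (σ τ : Equiv.Perm (Fin 6)) (cm dm : Fin 6 → Fin 4) (h : ∀ i, cm i ≠ 0) (h' : ∀ i, dm i ≠ 0) :
    mkM hF hω σ cm h * mkM hF hω τ dm h' =
      mkM hF hω (σ * τ) (fun i => mul4 (cm i) (dm (σ.symm i)))
        (fun i => mul4_ne_zero _ _ (h i) (h' _)) := by
  refine SemidirectProduct.ext ?_ rfl
  funext i
  apply Units.ext
  rw [SemidirectProduct.mul_left, Pi.mul_apply, Units.val_mul, permAut_apply, mkM_left, mkM_left,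
    mkM_right, mkM_left, E_mul hF hω]

theorem act_mkM (hF : Fintype.card K = 4) {ω : K} (hω : ω ^ 2 + ω + 1 = 0)
    (σ : Equiv.Perm (Fin 6)) (cm : Fin 6 → Fin 4) (h : ∀ i, cm i ≠ 0) (xm : Fin 6 → Fin 4) :
    act (mkM hF hω σ cm h) (fun i => E ω (xm i)) =
      fun i => E ω (mul4 (cm i) (xm (σ.symm i))) := by
  funext i
  rw [act_apply, mkM_left, mkM_right, E_mul hF hω]

/-- membership in the stabilizer of the hexacode, from a table-model check -/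
theorem mkM_mem_stab [DecidableEq K] (hF : Fintype.card K = 4) {ω : K} (hω : ω ^ 2 + ω + 1 = 0)
    (σ : Equiv.Perm (Fin 6)) (cm : Fin 6 → Fin 4) (h : ∀ i, cm i ≠ 0)
    (h1 : ∃ a b c : Fin 4, (fun i => mul4 (cm i) (g1 (σ.symm i))) = wordN a b c)
    (h2 : ∃ a b c : Fin 4, (fun i => mul4 (cm i) (g2 (σ.symm i))) = wordN a b c)
    (h3 : ∃ a b c : Fin 4, (fun i => mul4 (cm i) (g3 (σ.symm i))) = wordN a b c) :
    mkM hF hω σ cm h ∈ stab (Cfsg.hexacode K ω) := by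
  have e1 : (![ω, ω ^ 2, ω ^ 2, ω, ω ^ 2, ω] : Fin 6 → K) = fun i => E ω (g1 i) :=
    funext (gen1 hF hω)
  have e2 : (![ω ^ 2, ω, ω, ω ^ 2, ω ^ 2, ω] : Fin 6 → K) = fun i => E ω (g2 i) :=
    funext (gen2 hF hω)
  have e3 : (![ω ^ 2, ω, ω ^ 2, ω, ω, ω ^ 2] : Fin 6 → K) = fun i => E ω (g3 i) :=
    funext (gen3 hF hω)
  have hs : Cfsg.hexacode K ω = Submodule.span K
      {![ω, ω ^ 2, ω ^ 2, ω, ω ^ 2, ω], ![ω ^ 2, ω, ω, ω ^ 2, ω ^ 2, ω],
        ![ω ^ 2, ω, ω ^ 2, ω, ω, ω ^ 2]} := rfl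
  rw [hs]
  apply mem_stab_of_span
  intro x hx
  rw [← hs]
  have key : ∀ gm : Fin 6 → Fin 4,
      (∃ a b c : Fin 4, (fun i => mul4 (cm i) (gm (σ.symm i))) = wordN a b c) →
      act (mkM hF hω σ cm h) (fun i => E ω (gm i)) ∈ Cfsg.hexacode K ω := by
    intro gm ⟨a, b, c, habc⟩
    rw [act_mkM, mem_hexacode_iff hF hω]
    refine ⟨a, b, c, ?_⟩
    funext i
    rw [← habc]
  simp only [Set.mem_insert_iff, Set.mem_singleton_iff] at hx
  rcases hx with rfl | rfl | rfl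
  · rw [e1]; exact key g1 h1
  · rw [e2]; exact key g2 h2
  · rw [e3]; exact key g3 h3

/-- the first automorphism: `σ = (3 4 5)`, coefficients `(ω, ω², 1, 1, 1, 1)` -/
def σ₀ : Equiv.Perm (Fin 6) where
  toFun := ![0, 1, 2, 4, 5, 3]
  invFun := ![0, 1, 2, 5, 3, 4]
  left_inv := by decide
  right_inv := by decide

/-- the second automorphism: `τ = (0 1 2)`, coefficients `(1, 1, 1, 1, ω², ω)` -/
def τ₀ : Equiv.Perm (Fin 6) where
  toFun := ![1, 2, 0, 3, 4, 5]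
  invFun := ![2, 0, 1, 3, 4, 5]
  left_inv := by decide
  right_inv := by decide

def cm₀ : Fin 6 → Fin 4 := ![2, 3, 1, 1, 1, 1]
def dm₀ : Fin 6 → Fin 4 := ![1, 1, 1, 1, 3, 2]

theorem cm₀_ne : ∀ i, cm₀ i ≠ 0 := by decide
theorem dm₀_ne : ∀ i, dm₀ i ≠ 0 := by decide
theorem two_ne : ∀ _ : Fin 6, (2 : Fin 4) ≠ 0 := by decide

noncomputable def gA (hF : Fintype.card K = 4) {ω : K} (hω : ω ^ 2 + ω + 1 = 0) : Mon K :=
  mkM hF hω σ₀ cm₀ cm₀_ne

noncomputable def gB (hF : Fintype.card K = 4) {ω : K} (hω : ω ^ 2 + ω + 1 = 0) : Mon K :=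
  mkM hF hω τ₀ dm₀ dm₀_ne

/-- the scalar `ω` -/
noncomputable def gZ (hF : Fintype.card K = 4) {ω : K} (hω : ω ^ 2 + ω + 1 = 0) : Mon K :=
  mkM hF hω 1 (fun _ => 2) two_ne

theorem gA_mem [DecidableEq K] (hF : Fintype.card K = 4) {ω : K} (hω : ω ^ 2 + ω + 1 = 0) :
    gA hF hω ∈ stab (Cfsg.hexacode K ω) := by
  apply mkM_mem_stab
  · exact ⟨0, 0, 1, by decide⟩
  · exact ⟨1, 2, 3, by decide⟩
  · exact ⟨1, 3, 2, by decide⟩

theorem gB_mem [DecidableEq K] (hF : Fintype.card K = 4) {ω : K} (hω : ω ^ 2 + ω + 1 = 0) :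
    gB hF hω ∈ stab (Cfsg.hexacode K ω) := by
  apply mkM_mem_stab
  · exact ⟨0, 0, 1, by decide⟩
  · exact ⟨1, 1, 1, by decide⟩
  · exact ⟨3, 2, 1, by decide⟩

theorem gA_mul_gB (hF : Fintype.card K = 4) {ω : K} (hω : ω ^ 2 + ω + 1 = 0) :
    gA hF hω * gB hF hω = gZ hF hω * gB hF hω * gA hF hω := by
  unfold gA gB gZ
  rw [mkM_mul, mkM_mul, mkM_mul]
  apply mkM_congr
  · decide
  · decide

theorem gZ_ne_one (hF : Fintype.card K = 4) {ω : K} (hω : ω ^ 2 + ω + 1 = 0) :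
    gZ hF hω ≠ 1 := by
  intro h
  have h1 := congrArg (fun g : Mon K => ((g.left 0 : Kˣ) : K)) h
  simp only [gZ, mkM_left, SemidirectProduct.one_left, Pi.one_apply, Units.val_one] at h1
  exact omega_ne_one hF hω h1

theorem gZ_right (hF : Fintype.card K = 4) {ω : K} (hω : ω ^ 2 + ω + 1 = 0) :
    (gZ hF hω).right = 1 := rfl

theorem gZ_pow_three (hF : Fintype.card K = 4) {ω : K} (hω : ω ^ 2 + ω + 1 = 0) :
    gZ hF hω ^ 3 = 1 := by
  unfold gZ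
  rw [pow_succ, pow_succ, pow_one, mkM_mul, mkM_mul]
  refine SemidirectProduct.ext ?_ ?_
  · funext i
    apply Units.ext
    rw [mkM_left]
    show E ω (mul4 (mul4 2 2) 2) = 1
    rfl
  · show (1 * 1 * 1 : Equiv.Perm (Fin 6)) = 1
    simp

end Cfsg.Agent.Lib.Helper13.HexaGroup
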