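/-
helper13: S3928 leaf F (planner helper25): a normal subgroup `N` meeting `JJ a` trivially has
`[N, a]` inside a normal 2-subgroup `P ≤ N` of `H` (Baer–Suzuki in `N ⊔ ⟨a⟩`; `P` = image of `O_2(N)`).
-/
import Mathlib
import Cfsg.Agent.Lib.Helper25.InvAutDefs
import Cfsg.Agent.Lib.Helper12.Cores
import Cfsg.Agent.S0200

set_option autoImplicit false

namespace Cfsg.Agent.Lib.Helper13.IAF

open Cfsg.Agent.Lib.Helper25.InvAut
open scoped Pointwise

/-- an odd-order element of `N ⊔ ⟨a⟩` (with `a * a = 1`, `N` normal) lies in `N`. -/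
theorem mem_of_odd_of_mem_sup {H : Type*} [Group H] {a : H} (ha : a * a = 1)
    (N : Subgroup H) [N.Normal] {h : H} (hh : h ∈ N ⊔ Subgroup.zpowers a)
    (hodd : Odd (orderOf h)) : h ∈ N := by
  have hmem : h ∈ ((N : Set H) * (Subgroup.zpowers a : Set H)) := by
    rw [← Subgroup.normal_mul]; exact hh
  obtain ⟨n, hn, z, hz, rfl⟩ := Set.mem_mul.mp hmem
  obtain ⟨k, rfl⟩ := Subgroup.mem_zpowers_iff.mp hz
  -- image in the quotient
  have hq : (QuotientGroup.mk' N (n * a ^ k)) = (QuotientGroup.mk' N a) ^ k := by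
    rw [map_mul, map_zpow]
    have : QuotientGroup.mk' N n = 1 := (QuotientGroup.eq_one_iff n).mpr hn
    rw [this, one_mul]
  have hsq : (QuotientGroup.mk' N (n * a ^ k)) ^ 2 = 1 := by
    rw [hq, ← zpow_natCast, ← zpow_mul, mul_comm, zpow_mul, zpow_natCast]
    have : (QuotientGroup.mk' N a) ^ 2 = 1 := by
      rw [← map_pow, pow_two, ha, map_one]
    rw [this, one_zpow]
  have hord : (QuotientGroup.mk' N (n * a ^ k)) ^ orderOf (n * a ^ k) = 1 := by
    rw [← map_pow, pow_orderOf_eq_one, map_one]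
  have h1 : QuotientGroup.mk' N (n * a ^ k) = 1 := by
    obtain ⟨m, hm⟩ := hodd
    have h2 : (QuotientGroup.mk' N (n * a ^ k)) ^ (2 * m + 1) = 1 := by rw [← hm]; exact hord
    rw [pow_succ, pow_mul, hsq, one_pow, one_mul] at h2
    exact h2
  exact (QuotientGroup.eq_one_iff _).mp h1

theorem exists_normal_two_subgroup {H : Type*} [Group H] [Finite H] {a : H} (ha : a * a = 1)
    (N : Subgroup H) [N.Normal] (hN : ∀ x ∈ JJ a, x ∈ N → x = 1) :
    ∃ P : Subgroup H, P.Normal ∧ P ≤ N ∧ IsPGroup 2 P ∧ ∀ n ∈ N, n * a * n⁻¹ * a⁻¹ ∈ P := by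
  classical
  have : Fact (Nat.Prime 2) := ⟨Nat.prime_two⟩
  have hchar : (Cfsg.pCore 2 ↥N).Characteristic :=
    Cfsg.Agent.Lib.Helper12.pCore_characteristic' (G := ↥N) 2
  refine ⟨(Cfsg.pCore 2 ↥N).map N.subtype, ConjAct.normal_of_characteristic_of_normal,
    Subgroup.map_subtype_le _, (Cfsg.Agent.Lib.Helper12.pCore_isPGroup' (X := ↥N) 2).map _, ?_⟩
  intro n hn
  by_cases ha1 : a = 1
  · subst ha1
    simp
  -- `a` has order 2
  have hord : orderOf a = 2 := orderOf_eq_prime (by rw [pow_two]; exact ha) ha1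
  set M : Subgroup H := N ⊔ Subgroup.zpowers a with hM
  have haM : a ∈ M := (le_sup_right : Subgroup.zpowers a ≤ M) (Subgroup.mem_zpowers a)
  have hNM : N ≤ M := le_sup_left
  let t : ↥M := ⟨a, haM⟩
  have ht : orderOf t = 2 := by
    rw [← hord]; exact (Subgroup.orderOf_mk a haM)
  by_cases hQ : ∃ Q : Subgroup ↥M, Q.Normal ∧ IsPGroup 2 Q ∧ t ∈ Q
  · obtain ⟨Q, hQn, hQp, htQ⟩ := hQ
    -- the 2-subgroup `R` of `↥N`
    let R : Subgroup ↥N := (Q.map M.subtype).subgroupOf N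
    have hRp : IsPGroup 2 R := (hQp.map M.subtype).comap_subtype
    have hRn : R.Normal := by
      refine ⟨fun x hx m => ?_⟩
      rw [Subgroup.mem_subgroupOf] at hx ⊢
      obtain ⟨q, hq, hqx⟩ := Subgroup.mem_map.mp hx
      refine Subgroup.mem_map.mpr ⟨(⟨(m : H), hNM m.2⟩ : ↥M) * q * (⟨(m : H), hNM m.2⟩ : ↥M)⁻¹,
        hQn.conj_mem q hq _, ?_⟩
      simp only [Subgroup.coe_subtype, Subgroup.coe_mul, Subgroup.coe_inv] at hqx ⊢
      rw [hqx]
    have hRle : R ≤ Cfsg.pCore 2 ↥N := Cfsg.Agent.Lib.Helper12.le_pCore' 2 R hRn hRp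
    have hcN : n * a * n⁻¹ * a⁻¹ ∈ N := by
      have : a * n⁻¹ * a⁻¹ ∈ N := ‹N.Normal›.conj_mem _ (N.inv_mem hn) a
      have h2 := N.mul_mem hn this
      simpa [mul_assoc] using h2
    refine Subgroup.mem_map.mpr ⟨⟨n * a * n⁻¹ * a⁻¹, hcN⟩, hRle ?_, rfl⟩
    rw [Subgroup.mem_subgroupOf]
    refine Subgroup.mem_map.mpr ⟨(⟨n, hNM hn⟩ : ↥M) * t * (⟨n, hNM hn⟩ : ↥M)⁻¹ * t⁻¹, ?_, ?_⟩
    · exact Q.mul_mem (hQn.conj_mem t htQ _) (Q.inv_mem htQ)
    · simp [t]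
  · exfalso
    have hO : ∀ Q : Subgroup ↥M, Q.Normal → IsPGroup 2 Q → t ∉ Q :=
      fun Q h1 h2 h3 => hQ ⟨Q, h1, h2, h3⟩
    obtain ⟨h, hh1, hodd, hinv⟩ := Cfsg.Agent.S0200.result t ht hO
    have hoddH : Odd (orderOf (h : H)) := by
      rw [Subgroup.orderOf_coe]; exact hodd
    have hinvH : a * (h : H) * a⁻¹ = (h : H)⁻¹ := by
      have := congrArg (fun x : ↥M => (x : H)) hinv
      simpa [t] using this
    have hmemN : (h : H) ∈ N := mem_of_odd_of_mem_sup ha N h.2 hoddH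
    have := hN (h : H) ⟨hoddH, hinvH⟩ hmemN
    exact hh1 (Subtype.ext this)

end Cfsg.Agent.Lib.Helper13.IAF
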