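/-
helper13: S4705 ("degree p - 2"), the INVOLUTION identity, interface-free part.
* `central_sq_eq_one` : if `A, B` are conjugates of an involution `y` and `A B = x z` with `z` central of order prime to `p`
  and `x ^ p = 1`, then `z ^ 2 = 1` (`A` inverts `A B`).
* `central_eq_one_of_odd` : if moreover `z` has odd order then `z = 1`.
* `centralOmega χ Z hZ` : the central character `z ↦ χ z / χ 1` of an irreducible character on a central subgroup, as a
  monoid hom, with `χ (g * z) = ω z * χ g`.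
* `card_mul_sum_lying_over` : Fourier inversion on a central subgroup `Z` of the class-multiplication formula: if no product
  of two conjugates of `y` is `x z` with `1 ≠ z ∈ Z`, then for EVERY linear character `μ` of `Z`
  `|Z| ∑_{χ over μ} χ(y)² conj χ(x) / χ(1) = ∑_χ χ(y)² conj χ(x) / χ(1)`.
* `sum_lying_over_eq` : `Z` central of odd order prime to `p`, `y * y = 1`, `x ^ p = 1`: the sector sums `S_μ` agree.
* `card_mul_sum_lying_over_gen`, `sum_lying_over_mul_eq` : the same when the products of two conjugates of `y` meet `x Z`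
  only in `x z0` (any `y`): `|Z| S_μ = μ(z0) ∑_χ χ(y)² conj χ(x z0) / χ(1)`, so `S_μ μ'(z0) = S_μ' μ(z0)`.
-/
import Mathlib
import Cfsg.Agent.Lib.Helper21.ClassMulPos
import Cfsg.Agent.Lib.Helper24.CentralElt

set_option autoImplicit false

namespace Cfsg.Agent.Lib.Helper13.InvZ

open Cfsg Cfsg.Agent.CharLib Cfsg.Agent.Lib.Helper24
open scoped ComplexConjugate

universe u

variable {G : Type u} [Group G]

/-- two involutions `A, B` whose product is `x z`, `z` central of order prime to `p`, `x ^ p = 1`: `z ^ 2 = 1` -/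
theorem central_sq_eq_one_aux {p : ℕ} (A B x z : G) (hAA : A * A = 1) (hBB : B * B = 1)
    (hz : z ∈ Subgroup.center G) (hx : x ^ p = 1) (hzp : (orderOf z).Coprime p)
    (h : A * B = x * z) : z ^ 2 = 1 := by
  have hAinv : A⁻¹ = A := inv_eq_of_mul_eq_one_left hAA
  have hBinv : B⁻¹ = B := inv_eq_of_mul_eq_one_left hBB
  have hzc : ∀ g : G, g * z = z * g := fun g => (Subgroup.mem_center_iff.mp hz g)
  -- `A (x z) A⁻¹ = (x z)⁻¹`
  have h1 : A * (x * z) * A⁻¹ = (x * z)⁻¹ := by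
    rw [← h, mul_inv_rev, hAinv, hBinv]
    calc A * (A * B) * A = (A * A) * B * A := by group
      _ = B * A := by rw [hAA, one_mul]
  -- `A x A⁻¹ = x⁻¹ (z⁻¹)²`
  have h2 : A * x * A⁻¹ = x⁻¹ * (z⁻¹) ^ 2 := by
    have h3 : A * (x * z) * A⁻¹ = A * x * A⁻¹ * z := by
      calc A * (x * z) * A⁻¹ = A * x * (z * A⁻¹) := by group
        _ = A * x * (A⁻¹ * z) := by rw [hzc A⁻¹]
        _ = A * x * A⁻¹ * z := by group
    rw [h3, mul_inv_rev] at h1
    have h4 : A * x * A⁻¹ = z⁻¹ * x⁻¹ * z⁻¹ := by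
      rw [← h1]; group
    rw [h4, pow_two]
    have hzi : ∀ g : G, g * z⁻¹ = z⁻¹ * g := by
      intro g
      have := hzc g
      calc g * z⁻¹ = z⁻¹ * (z * g) * z⁻¹ := by group
        _ = z⁻¹ * (g * z) * z⁻¹ := by rw [this]
        _ = z⁻¹ * g := by group
    rw [← hzi x⁻¹]; group
  -- raise to the `p`-th power
  have h5 : (A * x * A⁻¹) ^ p = 1 := by
    rw [conj_pow, hx]; group
  have hcomm : Commute x⁻¹ ((z⁻¹) ^ 2) := by
    have hz2 : (z⁻¹) ^ 2 ∈ Subgroup.center G := Subgroup.pow_mem _ (Subgroup.inv_mem _ hz) 2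
    exact (Subgroup.mem_center_iff.mp hz2 x⁻¹)
  rw [h2, hcomm.mul_pow, inv_pow, hx, inv_one, one_mul, ← pow_mul, inv_pow, inv_eq_one] at h5
  have hdvd : orderOf z ∣ 2 * p := orderOf_dvd_of_pow_eq_one h5
  have hdvd2 : orderOf z ∣ 2 := (Nat.Coprime.dvd_mul_right hzp).mp hdvd
  exact orderOf_dvd_iff_pow_eq_one.mp hdvd2

/-- two conjugates of an involution whose product is `x z`, `z` central of order prime to `p`, `x ^ p = 1`: `z ^ 2 = 1` -/
theorem central_sq_eq_one {p : ℕ} (y x z a b : G) (hy : y * y = 1) (hz : z ∈ Subgroup.center G)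
    (hx : x ^ p = 1) (hzp : (orderOf z).Coprime p)
    (h : a * y * a⁻¹ * (b * y * b⁻¹) = x * z) : z ^ 2 = 1 := by
  have hAA : (a * y * a⁻¹) * (a * y * a⁻¹) = 1 := by
    calc a * y * a⁻¹ * (a * y * a⁻¹) = a * (y * y) * a⁻¹ := by group
      _ = 1 := by rw [hy]; group
  have hBB : (b * y * b⁻¹) * (b * y * b⁻¹) = 1 := by
    calc b * y * b⁻¹ * (b * y * b⁻¹) = b * (y * y) * b⁻¹ := by group
      _ = 1 := by rw [hy]; group
  exact central_sq_eq_one_aux _ _ x z hAA hBB hz hx hzp h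

/-- the same with `z` of odd order prime to `p`: `z = 1` -/
theorem central_eq_one_of_odd {p : ℕ} (y x z a b : G) (hy : y * y = 1) (hz : z ∈ Subgroup.center G)
    (hx : x ^ p = 1) (hzp : (orderOf z).Coprime p) (hodd : Odd (orderOf z))
    (h : a * y * a⁻¹ * (b * y * b⁻¹) = x * z) : z = 1 := by
  have h2 := central_sq_eq_one y x z a b hy hz hx hzp h
  have hdvd : orderOf z ∣ 2 := orderOf_dvd_of_pow_eq_one h2
  have h1 : orderOf z = 1 := by
    rcases (Nat.dvd_prime Nat.prime_two).mp hdvd with h | h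
    · exact h
    · rw [h] at hodd; exact absurd hodd (by decide)
  exact orderOf_eq_one_iff.mp h1

/-- central elements act by scalars on irreducible characters: `χ (z * g) = (χ z / χ 1) * χ g` -/
theorem irr_central_mul (χ : IrrCharacter G) (z : G) (hz : z ∈ Subgroup.center G) (g : G) :
    (χ : G → ℂ) (z * g) = (χ : G → ℂ) z / (χ : G → ℂ) 1 * (χ : G → ℂ) g := by
  have h0 := irr_apply_one_ne_zero χ
  obtain ⟨n, ρ, hirr, hρ⟩ := χ.2
  have := hirr
  obtain ⟨c, hc⟩ := exists_central_scalar ρ z hz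
  have hmul : ∀ g : G, (χ : G → ℂ) (z * g) = c * (χ : G → ℂ) g := by
    intro g
    rw [← hρ]
    exact char_scalar_mul ρ z c hc g
  have h1 := hmul 1
  rw [mul_one] at h1
  rw [hmul g, h1, mul_div_assoc, div_self h0, mul_one]

/-- the central character of `χ` on a central subgroup `Z`, as a monoid hom -/
noncomputable def centralOmega (χ : IrrCharacter G) (Z : Subgroup G) (hZ : Z ≤ Subgroup.center G) : Z →* ℂ where
  toFun z := (χ : G → ℂ) (z : G) / (χ : G → ℂ) 1
  map_one' := by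
    simp only [Subgroup.coe_one]
    exact div_self (irr_apply_one_ne_zero χ)
  map_mul' z w := by
    simp only [Subgroup.coe_mul]
    rw [irr_central_mul χ (z : G) (hZ z.2) (w : G)]
    ring

theorem centralOmega_apply (χ : IrrCharacter G) (Z : Subgroup G) (hZ : Z ≤ Subgroup.center G) (z : Z) :
    centralOmega χ Z hZ z = (χ : G → ℂ) (z : G) / (χ : G → ℂ) 1 := rfl

theorem irr_mul_central (χ : IrrCharacter G) (Z : Subgroup G) (hZ : Z ≤ Subgroup.center G) (z : Z) (g : G) :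
    (χ : G → ℂ) (g * z) = centralOmega χ Z hZ z * (χ : G → ℂ) g := by
  have hc : g * (z : G) = (z : G) * g := (Subgroup.mem_center_iff.mp (hZ z.2) g)
  rw [hc, irr_central_mul χ (z : G) (hZ z.2) g]
  rfl

theorem norm_centralOmega [Finite G] (χ : IrrCharacter G) (Z : Subgroup G) (hZ : Z ≤ Subgroup.center G) (z : Z) :
    ‖centralOmega χ Z hZ z‖ = 1 := by
  have h1 : (centralOmega χ Z hZ z) ^ (orderOf z) = 1 := by
    rw [← map_pow, pow_orderOf_eq_one, map_one]
  exact Complex.norm_eq_one_of_pow_eq_one h1 (orderOf_pos z).ne'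

theorem centralOmega_mul_conj [Finite G] (χ : IrrCharacter G) (Z : Subgroup G) (hZ : Z ≤ Subgroup.center G) (z : Z) :
    centralOmega χ Z hZ z * conj (centralOmega χ Z hZ z) = 1 := by
  rw [Complex.mul_conj, Complex.normSq_eq_norm_sq, norm_centralOmega]
  norm_num

/-- orthogonality of linear characters of the central subgroup `Z`, against a central character -/
theorem sum_mul_conj_centralOmega [Finite G] (χ : IrrCharacter G) (Z : Subgroup G) [Fintype Z]
    (hZ : Z ≤ Subgroup.center G) (μ : Z →* ℂ) :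
    ∑ z : Z, μ z * conj (centralOmega χ Z hZ z) =
      if (∀ z : Z, (χ : G → ℂ) (z : G) = μ z * (χ : G → ℂ) 1) then (Fintype.card Z : ℂ) else 0 := by
  classical
  have h0 := irr_apply_one_ne_zero χ
  set ω := centralOmega χ Z hZ with hω
  let ν : Z →* ℂ := μ * ((starRingEnd ℂ).toMonoidHom.comp ω)
  have hν : ∀ z : Z, ν z = μ z * conj (ω z) := fun z => rfl
  have hiff : (∀ z : Z, (χ : G → ℂ) (z : G) = μ z * (χ : G → ℂ) 1) ↔ ν = 1 := by
    constructor
    · intro h
      ext z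
      rw [hν, MonoidHom.one_apply]
      have : μ z = ω z := by
        rw [hω, centralOmega_apply, h z, mul_div_assoc, div_self h0, mul_one]
      rw [this]
      exact centralOmega_mul_conj χ Z hZ z
    · intro h z
      have h1 : μ z * conj (ω z) = 1 := by
        rw [← hν, h, MonoidHom.one_apply]
      have h2 := centralOmega_mul_conj χ Z hZ z
      have h3 : μ z = ω z := by
        have hne : conj (ω z) ≠ 0 := by
          intro h4
          rw [h4, mul_zero] at h2
          exact zero_ne_one h2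
        apply mul_right_cancel₀ hne
        rw [h1]; exact h2.symm
      rw [h3, hω, centralOmega_apply, div_mul_cancel₀ _ h0]
  rw [Finset.sum_congr rfl (fun z _ => (hν z).symm)]
  by_cases hc : ν = 1
  · rw [if_pos (hiff.mpr hc), hc]
    simp
  · rw [if_neg (fun h => hc (hiff.mp h))]
    exact sum_hom_units_eq_zero ν hc

open Classical in
/-- Fourier inversion on a central subgroup of the class-multiplication formula -/
theorem card_mul_sum_lying_over [Finite G] (Z : Subgroup G) (hZ : Z ≤ Subgroup.center G) (y x : G)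
    (hvan : ∀ z : Z, z ≠ 1 → ∀ a b : G, a * y * a⁻¹ * (b * y * b⁻¹) ≠ x * (z : G))
    (μ : Z →* ℂ) :
    (Nat.card Z : ℂ) * ∑ᶠ χ ∈ {χ : IrrCharacter G | ∀ z : Z, (χ : G → ℂ) (z : G) = μ z * (χ : G → ℂ) 1},
        (χ : G → ℂ) y * (χ : G → ℂ) y * conj ((χ : G → ℂ) x) / (χ : G → ℂ) 1 =
      ∑ᶠ χ : IrrCharacter G, (χ : G → ℂ) y * (χ : G → ℂ) y * conj ((χ : G → ℂ) x) / (χ : G → ℂ) 1 := by
  let _ : Fintype G := Fintype.ofFinite G
  let _ : Fintype (IrrCharacter G) := Fintype.ofFinite _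
  let _ : Fintype Z := Fintype.ofFinite Z
  set T : IrrCharacter G → ℂ := fun χ =>
    (χ : G → ℂ) y * (χ : G → ℂ) y * conj ((χ : G → ℂ) x) / (χ : G → ℂ) 1 with hT
  have hG : (Fintype.card G : ℂ) ≠ 0 := by
    have : 0 < Fintype.card G := Fintype.card_pos
    exact_mod_cast this.ne'
  -- the twisted sums vanish off `z = 1`
  have h1 : ∀ z : Z, ∑ χ : IrrCharacter G, conj (centralOmega χ Z hZ z) * T χ =
      if z = 1 then ∑ χ : IrrCharacter G, T χ else 0 := by
    intro z
    have hc := Cfsg.Agent.Lib.Helper21.ClassMulPos.card_pairs_eq y y (x * (z : G))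
    have hsum : ∑ χ : IrrCharacter G,
        (χ : G → ℂ) y * (χ : G → ℂ) y * conj ((χ : G → ℂ) (x * (z : G))) / (χ : G → ℂ) 1 =
        ∑ χ : IrrCharacter G, conj (centralOmega χ Z hZ z) * T χ := by
      apply Finset.sum_congr rfl
      intro χ _
      rw [irr_mul_central χ Z hZ z x, map_mul, hT]
      ring
    by_cases hz : z = 1
    · rw [if_pos hz, hz]
      apply Finset.sum_congr rfl
      intro χ _
      rw [map_one, map_one, one_mul]
    · rw [if_neg hz, ← hsum]
      have hempty : (Finset.univ.filter (fun ab : G × G =>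
          ab.1 * y * ab.1⁻¹ * (ab.2 * y * ab.2⁻¹) = x * (z : G))) = ∅ := by
        apply Finset.filter_eq_empty_iff.mpr
        intro ab _
        exact hvan z hz ab.1 ab.2
      rw [hempty, Finset.card_empty, Nat.cast_zero] at hc
      rcases mul_eq_zero.mp hc.symm with h | h
      · exact absurd h hG
      · exact h
  -- multiply by `μ z` and sum over `z`
  have h2 : ∑ z : Z, μ z * ∑ χ : IrrCharacter G, conj (centralOmega χ Z hZ z) * T χ =
      ∑ χ : IrrCharacter G, T χ := by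
    rw [Finset.sum_congr rfl (fun z _ => by rw [h1 z])]
    simp [Finset.sum_ite_eq']
  have h3 : ∑ z : Z, μ z * ∑ χ : IrrCharacter G, conj (centralOmega χ Z hZ z) * T χ =
      ∑ χ : IrrCharacter G, (∑ z : Z, μ z * conj (centralOmega χ Z hZ z)) * T χ := by
    simp only [Finset.mul_sum, Finset.sum_mul]
    rw [Finset.sum_comm]
    apply Finset.sum_congr rfl
    intro χ _
    apply Finset.sum_congr rfl
    intro z _
    ring
  rw [h3] at h2
  have h4 : ∑ᶠ χ : IrrCharacter G, T χ = ∑ χ : IrrCharacter G, T χ := finsum_eq_sum_of_fintype _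
  have h5 : ∑ᶠ χ ∈ {χ : IrrCharacter G | ∀ z : Z, (χ : G → ℂ) (z : G) = μ z * (χ : G → ℂ) 1}, T χ =
      ∑ χ ∈ Finset.univ.filter (fun χ : IrrCharacter G => ∀ z : Z, (χ : G → ℂ) (z : G) = μ z * (χ : G → ℂ) 1),
        T χ := by
    rw [finsum_mem_eq_finite_toFinset_sum _ (Set.toFinite _)]
    apply Finset.sum_congr
    · ext χ
      simp
    · intro χ _
      rfl
  show (Nat.card Z : ℂ) * ∑ᶠ χ ∈ {χ : IrrCharacter G | ∀ z : Z, (χ : G → ℂ) (z : G) = μ z * (χ : G → ℂ) 1}, T χ =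
    ∑ᶠ χ : IrrCharacter G, T χ
  have h6 : ∑ χ : IrrCharacter G, (∑ z : Z, μ z * conj (centralOmega χ Z hZ z)) * T χ =
      ∑ χ : IrrCharacter G, (if (∀ z : Z, (χ : G → ℂ) (z : G) = μ z * (χ : G → ℂ) 1) then
        (Fintype.card Z : ℂ) * T χ else 0) := by
    apply Finset.sum_congr rfl
    intro χ _
    rw [sum_mul_conj_centralOmega χ Z hZ μ, ite_mul, zero_mul]
  rw [h4, h5, ← h2, h6, Finset.mul_sum, Nat.card_eq_fintype_card, ← Finset.sum_filter]

/-- **the involution identity**: `Z` central of odd order prime to `p`, `y` an involution, `x ^ p = 1`: the sum of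
`χ(y)² conj χ(x) / χ(1)` over the irreducible characters lying over a linear character `μ` of `Z` does not depend on `μ` -/
theorem sum_lying_over_eq [Finite G] {p : ℕ} (Z : Subgroup G) (hZ : Z ≤ Subgroup.center G)
    (hodd : Odd (Nat.card Z)) (hcop : (Nat.card Z).Coprime p) (y x : G) (hy : y * y = 1) (hx : x ^ p = 1)
    (μ μ' : Z →* ℂ) :
    ∑ᶠ χ ∈ {χ : IrrCharacter G | ∀ z : Z, (χ : G → ℂ) (z : G) = μ z * (χ : G → ℂ) 1},
        (χ : G → ℂ) y * (χ : G → ℂ) y * conj ((χ : G → ℂ) x) / (χ : G → ℂ) 1 =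
      ∑ᶠ χ ∈ {χ : IrrCharacter G | ∀ z : Z, (χ : G → ℂ) (z : G) = μ' z * (χ : G → ℂ) 1},
        (χ : G → ℂ) y * (χ : G → ℂ) y * conj ((χ : G → ℂ) x) / (χ : G → ℂ) 1 := by
  have hvan : ∀ z : Z, z ≠ 1 → ∀ a b : G, a * y * a⁻¹ * (b * y * b⁻¹) ≠ x * (z : G) := by
    intro z hz a b hab
    have hdvd : orderOf (z : G) ∣ Nat.card Z := by
      rw [Subgroup.orderOf_coe]
      exact orderOf_dvd_natCard z
    have h1 := central_eq_one_of_odd y x (z : G) a b hy (hZ z.2) hx
      (Nat.Coprime.coprime_dvd_left hdvd hcop) (Odd.of_dvd_nat hodd hdvd) hab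
    exact hz (Subtype.ext h1)
  have h1 := card_mul_sum_lying_over Z hZ y x hvan μ
  have h2 := card_mul_sum_lying_over Z hZ y x hvan μ'
  have hne : (Nat.card Z : ℂ) ≠ 0 := by
    have : 0 < Nat.card Z := Nat.card_pos
    exact_mod_cast this.ne'
  exact mul_left_cancel₀ hne (h1.trans h2.symm)

open Classical in
/-- Fourier inversion on a central subgroup, general form: if the products of two conjugates of `y` meet `x Z` only in
`x z0`, then `|Z| ∑_{χ over μ} χ(y)² conj χ(x) / χ(1) = μ(z0) ∑_χ χ(y)² conj χ(x z0) / χ(1)` for every `μ` -/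
theorem card_mul_sum_lying_over_gen [Finite G] (Z : Subgroup G) (hZ : Z ≤ Subgroup.center G) (y x : G) (z0 : Z)
    (hvan : ∀ z : Z, z ≠ z0 → ∀ a b : G, a * y * a⁻¹ * (b * y * b⁻¹) ≠ x * (z : G))
    (μ : Z →* ℂ) :
    (Nat.card Z : ℂ) * ∑ᶠ χ ∈ {χ : IrrCharacter G | ∀ z : Z, (χ : G → ℂ) (z : G) = μ z * (χ : G → ℂ) 1},
        (χ : G → ℂ) y * (χ : G → ℂ) y * conj ((χ : G → ℂ) x) / (χ : G → ℂ) 1 =
      μ z0 * ∑ᶠ χ : IrrCharacter G,
        (χ : G → ℂ) y * (χ : G → ℂ) y * conj ((χ : G → ℂ) (x * (z0 : G))) / (χ : G → ℂ) 1 := by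
  let _ : Fintype G := Fintype.ofFinite G
  let _ : Fintype (IrrCharacter G) := Fintype.ofFinite _
  let _ : Fintype Z := Fintype.ofFinite Z
  set T : IrrCharacter G → ℂ := fun χ =>
    (χ : G → ℂ) y * (χ : G → ℂ) y * conj ((χ : G → ℂ) x) / (χ : G → ℂ) 1 with hT
  set K : ℂ := ∑ χ : IrrCharacter G,
    (χ : G → ℂ) y * (χ : G → ℂ) y * conj ((χ : G → ℂ) (x * (z0 : G))) / (χ : G → ℂ) 1 with hK
  have hG : (Fintype.card G : ℂ) ≠ 0 := by
    have : 0 < Fintype.card G := Fintype.card_pos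
    exact_mod_cast this.ne'
  have hsum : ∀ z : Z, ∑ χ : IrrCharacter G,
      (χ : G → ℂ) y * (χ : G → ℂ) y * conj ((χ : G → ℂ) (x * (z : G))) / (χ : G → ℂ) 1 =
      ∑ χ : IrrCharacter G, conj (centralOmega χ Z hZ z) * T χ := by
    intro z
    apply Finset.sum_congr rfl
    intro χ _
    rw [irr_mul_central χ Z hZ z x, map_mul, hT]
    ring
  -- the twisted sums vanish off `z = z0`
  have h1 : ∀ z : Z, ∑ χ : IrrCharacter G, conj (centralOmega χ Z hZ z) * T χ =
      if z = z0 then K else 0 := by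
    intro z
    by_cases hz : z = z0
    · rw [if_pos hz, hz, hK, hsum z0]
    · rw [if_neg hz, ← hsum z]
      have hc := Cfsg.Agent.Lib.Helper21.ClassMulPos.card_pairs_eq y y (x * (z : G))
      have hempty : (Finset.univ.filter (fun ab : G × G =>
          ab.1 * y * ab.1⁻¹ * (ab.2 * y * ab.2⁻¹) = x * (z : G))) = ∅ := by
        apply Finset.filter_eq_empty_iff.mpr
        intro ab _
        exact hvan z hz ab.1 ab.2
      rw [hempty, Finset.card_empty, Nat.cast_zero] at hc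
      rcases mul_eq_zero.mp hc.symm with h | h
      · exact absurd h hG
      · exact h
  -- multiply by `μ z` and sum over `z`
  have h2 : ∑ z : Z, μ z * ∑ χ : IrrCharacter G, conj (centralOmega χ Z hZ z) * T χ = μ z0 * K := by
    rw [Finset.sum_congr rfl (fun z _ => by rw [h1 z])]
    simp [Finset.sum_ite_eq']
  have h3 : ∑ z : Z, μ z * ∑ χ : IrrCharacter G, conj (centralOmega χ Z hZ z) * T χ =
      ∑ χ : IrrCharacter G, (∑ z : Z, μ z * conj (centralOmega χ Z hZ z)) * T χ := by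
    simp only [Finset.mul_sum, Finset.sum_mul]
    rw [Finset.sum_comm]
    apply Finset.sum_congr rfl
    intro χ _
    apply Finset.sum_congr rfl
    intro z _
    ring
  rw [h3] at h2
  have h4 : ∑ᶠ χ : IrrCharacter G,
      (χ : G → ℂ) y * (χ : G → ℂ) y * conj ((χ : G → ℂ) (x * (z0 : G))) / (χ : G → ℂ) 1 = K :=
    finsum_eq_sum_of_fintype _
  have h5 : ∑ᶠ χ ∈ {χ : IrrCharacter G | ∀ z : Z, (χ : G → ℂ) (z : G) = μ z * (χ : G → ℂ) 1}, T χ =
      ∑ χ ∈ Finset.univ.filter (fun χ : IrrCharacter G => ∀ z : Z, (χ : G → ℂ) (z : G) = μ z * (χ : G → ℂ) 1),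
        T χ := by
    rw [finsum_mem_eq_finite_toFinset_sum _ (Set.toFinite _)]
    apply Finset.sum_congr
    · ext χ
      simp
    · intro χ _
      rfl
  show (Nat.card Z : ℂ) * ∑ᶠ χ ∈ {χ : IrrCharacter G | ∀ z : Z, (χ : G → ℂ) (z : G) = μ z * (χ : G → ℂ) 1}, T χ =
    μ z0 * ∑ᶠ χ : IrrCharacter G,
      (χ : G → ℂ) y * (χ : G → ℂ) y * conj ((χ : G → ℂ) (x * (z0 : G))) / (χ : G → ℂ) 1
  have h6 : ∑ χ : IrrCharacter G, (∑ z : Z, μ z * conj (centralOmega χ Z hZ z)) * T χ =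
      ∑ χ : IrrCharacter G, (if (∀ z : Z, (χ : G → ℂ) (z : G) = μ z * (χ : G → ℂ) 1) then
        (Fintype.card Z : ℂ) * T χ else 0) := by
    apply Finset.sum_congr rfl
    intro χ _
    rw [sum_mul_conj_centralOmega χ Z hZ μ, ite_mul, zero_mul]
  rw [h4, h5, ← h2, h6, Finset.mul_sum, Nat.card_eq_fintype_card, ← Finset.sum_filter]

/-- the sector sums `S_μ` are proportional to `μ z0`: `S_μ μ'(z0) = S_μ' μ(z0)` -/
theorem sum_lying_over_mul_eq [Finite G] (Z : Subgroup G) (hZ : Z ≤ Subgroup.center G) (y x : G) (z0 : Z)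
    (hvan : ∀ z : Z, z ≠ z0 → ∀ a b : G, a * y * a⁻¹ * (b * y * b⁻¹) ≠ x * (z : G))
    (μ μ' : Z →* ℂ) :
    (∑ᶠ χ ∈ {χ : IrrCharacter G | ∀ z : Z, (χ : G → ℂ) (z : G) = μ z * (χ : G → ℂ) 1},
        (χ : G → ℂ) y * (χ : G → ℂ) y * conj ((χ : G → ℂ) x) / (χ : G → ℂ) 1) * μ' z0 =
      (∑ᶠ χ ∈ {χ : IrrCharacter G | ∀ z : Z, (χ : G → ℂ) (z : G) = μ' z * (χ : G → ℂ) 1},
        (χ : G → ℂ) y * (χ : G → ℂ) y * conj ((χ : G → ℂ) x) / (χ : G → ℂ) 1) * μ z0 := by
  have h1 := card_mul_sum_lying_over_gen Z hZ y x z0 hvan μ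
  have h2 := card_mul_sum_lying_over_gen Z hZ y x z0 hvan μ'
  have hne : (Nat.card Z : ℂ) ≠ 0 := by
    have : 0 < Nat.card Z := Nat.card_pos
    exact_mod_cast this.ne'
  apply mul_left_cancel₀ hne
  rw [← mul_assoc, h1, ← mul_assoc, h2]
  ring

end Cfsg.Agent.Lib.Helper13.InvZ
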