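/-
helper13: generic lemmas on the semidirect product `Aff C V` (helper9) for `V` of prime exponent `r`,
and transport of a finite group to a group on a type in `Type`.  Used for S3452.
-/
import Mathlib
import Cfsg.Agent.Lib.Helper9.ReeCubeA

set_option autoImplicit false

namespace Cfsg.Agent.Lib.Helper13.Iso

open Cfsg.Agent.Lib.Helper9.ReeCube

section aff

variable {C V : Type*} [Group C] [AddCommGroup V] [DistribMulAction C V]

/-- the translation part of a power -/
theorem aff_pow_v (x : Aff C V) (k : ℕ) :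
    (x ^ k).v = ∑ i ∈ Finset.range k, (x.c ^ i) • x.v := by
  induction k with
  | zero => simp [Aff.one_v]
  | succ k ih =>
    rw [pow_succ', Aff.mul_v, ih, Finset.sum_range_succ', Finset.smul_sum, pow_zero, one_smul,
      add_comm]
    congr 1
    apply Finset.sum_congr rfl
    intro i _
    rw [← mul_smul, ← pow_succ']

theorem aff_eq_one_iff (x : Aff C V) : x = 1 ↔ x.v = 0 ∧ x.c = 1 := by
  constructor
  · rintro rfl
    exact ⟨rfl, rfl⟩
  · rintro ⟨h1, h2⟩
    exact Aff.ext h1 h2

/-- `x ^ (r * |c|) = 1` when `V` has exponent `r` -/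
theorem aff_orderOf_dvd_mul (r : ℕ) (hr : ∀ v : V, r • v = 0) (x : Aff C V) :
    orderOf x ∣ r * orderOf x.c := by
  apply orderOf_dvd_of_pow_eq_one
  rw [mul_comm, pow_mul]
  have hc : (x ^ orderOf x.c).c = 1 := by rw [Aff.pow_c, pow_orderOf_eq_one]
  rw [Aff.pow_of_c_eq_one _ hc, hr]
  rfl

/-- the order of `(v, c)` is `|c|` or `r |c|` -/
theorem aff_orderOf_eq_or (r : ℕ) (hrp : r.Prime) (hr : ∀ v : V, r • v = 0) (x : Aff C V)
    (hc : 0 < orderOf x.c) : orderOf x = orderOf x.c ∨ orderOf x = r * orderOf x.c := by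
  have h1 : orderOf x.c ∣ orderOf x := orderOf_map_dvd Aff.proj x
  have h2 := aff_orderOf_dvd_mul r hr x
  obtain ⟨k, hk⟩ := h1
  rw [hk, mul_comm r] at h2
  have hk3 : k ∣ r := Nat.dvd_of_mul_dvd_mul_left hc h2
  rcases (Nat.dvd_prime hrp).mp hk3 with rfl | rfl
  · left
    rw [hk, mul_one]
  · right
    rw [hk, mul_comm]

/-- if the norm of `v` does not vanish, the order of `(v, c)` is `r |c|` -/
theorem aff_orderOf_eq_mul (r : ℕ) (hrp : r.Prime) (hr : ∀ v : V, r • v = 0) (x : Aff C V)
    (hc : 0 < orderOf x.c)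
    (hN : ∑ i ∈ Finset.range (orderOf x.c), (x.c ^ i) • x.v ≠ 0) :
    orderOf x = r * orderOf x.c := by
  rcases aff_orderOf_eq_or r hrp hr x hc with h | h
  · exfalso
    apply hN
    have h1 : x ^ orderOf x.c = 1 := by rw [← h]; exact pow_orderOf_eq_one x
    have h2 := congrArg Aff.v h1
    rw [aff_pow_v] at h2
    exact h2
  · exact h

end aff

section transport

universe u

/-- a copy of `Fin n` without algebraic structure -/
structure Carrier (n : ℕ) where
  /-- the underlying index -/
  val : Fin n

/-- `Carrier n` is equivalent to `Fin n` -/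
def Carrier.equivFin (n : ℕ) : Carrier n ≃ Fin n where
  toFun x := x.val
  invFun i := ⟨i⟩
  left_inv _ := rfl
  right_inv _ := rfl

noncomputable instance (n : ℕ) : Fintype (Carrier n) := Fintype.ofEquiv _ (Carrier.equivFin n).symm

theorem Carrier.card (n : ℕ) : Fintype.card (Carrier n) = n := by
  rw [Fintype.card_congr (Carrier.equivFin n), Fintype.card_fin]

/-- every finite group has a copy on a type in `Type` with the same element orders -/
theorem exists_type0_model (K : Type u) [Group K] [Finite K] :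
    ∃ (H : Type) (_ : Group H) (_ : Fintype H), Fintype.card H = Nat.card K ∧
      Set.range (orderOf : H → ℕ) = Set.range (orderOf : K → ℕ) := by
  classical
  let e : Carrier (Nat.card K) ≃ K := (Carrier.equivFin _).trans (Finite.equivFin K).symm
  let _ : Group (Carrier (Nat.card K)) := e.group
  refine ⟨Carrier (Nat.card K), e.group, inferInstance, Carrier.card _, ?_⟩
  let em : Carrier (Nat.card K) ≃* K := e.mulEquiv
  ext m
  simp only [Set.mem_range]
  constructor
  · rintro ⟨x, rfl⟩
    exact ⟨em x, (MulEquiv.orderOf_eq em x)⟩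
  · rintro ⟨y, rfl⟩
    exact ⟨em.symm y, by rw [← MulEquiv.orderOf_eq em, MulEquiv.apply_symm_apply]⟩

end transport

end Cfsg.Agent.Lib.Helper13.Iso
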