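/-
helper13: "cuspidal" function modules.  For a family `𝒮` of finite subsets of a group `G` and an
abelian group `A`, `Cusp 𝒮 A` is the group of functions `f : G → A` all of whose sums over two-sided
translates `x T y`, `T ∈ 𝒮`, vanish; `G` acts by left translation.  An element `c` some of whose powers
fill a member `T` of `𝒮` with `|T|` prime to the exponent of `A` acts without fixed points.
Used for S3452.
-/
import Mathlib
import Cfsg.Agent.Lib.Helper13.IsoAff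

set_option autoImplicit false

namespace Cfsg.Agent.Lib.Helper13.Iso

open Cfsg.Agent.Lib.Helper9.ReeCube

variable {G : Type*} [Group G] (𝒮 : Set (Finset G)) (A : Type*) [AddCommGroup A]

/-- functions whose sums over all two-sided translates of the members of `𝒮` vanish -/
def Cusp : AddSubgroup (G → A) where
  carrier := {f | ∀ T ∈ 𝒮, ∀ x y : G, ∑ t ∈ T, f (x * t * y) = 0}
  zero_mem' := by
    intro T _ x y
    simp
  add_mem' := by
    intro f g hf hg T hT x y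
    simp only [Pi.add_apply, Finset.sum_add_distrib, hf T hT x y, hg T hT x y, add_zero]
  neg_mem' := by
    intro f hf T hT x y
    simp only [Pi.neg_apply, Finset.sum_neg_distrib, hf T hT x y, neg_zero]

variable {𝒮 A}

theorem mem_cusp (f : G → A) :
    f ∈ Cusp 𝒮 A ↔ ∀ T ∈ 𝒮, ∀ x y : G, ∑ t ∈ T, f (x * t * y) = 0 := Iff.rfl

instance : SMul G (Cusp 𝒮 A) := ⟨fun g f => ⟨fun z => f.1 (g⁻¹ * z), by
  intro T hT x y
  have := f.2 T hT (g⁻¹ * x) y
  simpa [mul_assoc] using this⟩⟩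

theorem cusp_smul_apply (g : G) (f : Cusp 𝒮 A) (z : G) : (g • f).1 z = f.1 (g⁻¹ * z) := rfl

theorem cusp_ext {f g : Cusp 𝒮 A} (h : ∀ z, f.1 z = g.1 z) : f = g :=
  Subtype.ext (funext h)

instance : DistribMulAction G (Cusp 𝒮 A) where
  one_smul f := by
    apply cusp_ext
    intro z
    rw [cusp_smul_apply, inv_one, one_mul]
  mul_smul g h f := by
    apply cusp_ext
    intro z
    rw [cusp_smul_apply, cusp_smul_apply, cusp_smul_apply, mul_inv_rev, mul_assoc]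
  smul_zero g := by
    apply cusp_ext
    intro z
    rfl
  smul_add g f f' := by
    apply cusp_ext
    intro z
    rfl

instance [Finite G] [Finite A] : Finite (Cusp 𝒮 A) :=
  Finite.of_injective (fun f : Cusp 𝒮 A => f.1) Subtype.val_injective

/-- a function fixed by `c` is invariant under left translation by the powers of `c` -/
theorem cusp_apply_of_smul_eq (c : G) (f : Cusp 𝒮 A) (h : c • f = f) {t : G}
    (ht : t ∈ Subgroup.zpowers c) (z : G) : f.1 (t * z) = f.1 z := by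
  have h1 : c ∈ MulAction.stabilizer G f := h
  have h2 : Subgroup.zpowers c ≤ MulAction.stabilizer G f := (Subgroup.zpowers_le).mpr h1
  have h3 : t⁻¹ ∈ MulAction.stabilizer G f := (MulAction.stabilizer G f).inv_mem (h2 ht)
  have h4 : t⁻¹ • f = f := h3
  have h5 := cusp_smul_apply t⁻¹ f z
  rw [h4, inv_inv] at h5
  exact h5.symm

/-- the basic vanishing lemma -/
theorem cusp_card_smul_eq_zero {T : Finset G} (hT : T ∈ 𝒮) (f : Cusp 𝒮 A)
    (hfix : ∀ t ∈ T, ∀ z, f.1 (t * z) = f.1 z) (z : G) : T.card • f.1 z = 0 := by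
  have h1 := f.2 T hT 1 z
  rw [← h1, ← Finset.sum_const]
  apply Finset.sum_congr rfl
  intro t ht
  rw [one_mul, hfix t ht z]

/-- an element some of whose powers fill a member of `𝒮` of size prime to the exponent of `A` has
no non-zero fixed point -/
theorem cusp_fpf (r : ℕ) (hr : ∀ a : A, r • a = 0) (c : G) {T : Finset G} (hT : T ∈ 𝒮)
    (hsub : ∀ t ∈ T, t ∈ Subgroup.zpowers c) (hcop : Nat.Coprime T.card r)
    (f : Cusp 𝒮 A) (h : c • f = f) : f = 0 := by
  apply cusp_ext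
  intro z
  have h1 := cusp_card_smul_eq_zero hT f
    (fun t ht z => cusp_apply_of_smul_eq c f h (hsub t ht) z) z
  have h2 := hr (f.1 z)
  have h3 : addOrderOf (f.1 z) ∣ T.card := addOrderOf_dvd_of_nsmul_eq_zero h1
  have h4 : addOrderOf (f.1 z) ∣ r := addOrderOf_dvd_of_nsmul_eq_zero h2
  have h5 : addOrderOf (f.1 z) = 1 := Nat.eq_one_of_dvd_coprimes hcop h3 h4
  exact AddMonoid.addOrderOf_eq_one_iff.mp h5

/-- the order of `(f, c)` for `c` as in `cusp_fpf` -/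
theorem aff_cusp_orderOf_eq (r : ℕ) (hr : ∀ a : A, r • a = 0) (x : Aff G (Cusp 𝒮 A))
    {T : Finset G} (hT : T ∈ 𝒮) (hsub : ∀ t ∈ T, t ∈ Subgroup.zpowers x.c)
    (hcop : Nat.Coprime T.card r) : orderOf x = orderOf x.c :=
  Aff.orderOf_eq_of_fpf x (fun w hw => cusp_fpf r hr x.c hT hsub hcop w hw)

/-- an integer template, whose sums are divisible by the exponent of `A`, gives elements of
`Cusp 𝒮 A` -/
def cuspOfInt (r : ℕ) (hr : ∀ a : A, r • a = 0) (φ : G → ℤ)
    (hφ : ∀ T ∈ 𝒮, ∀ x y : G, (r : ℤ) ∣ ∑ t ∈ T, φ (x * t * y)) (a : A) : Cusp 𝒮 A :=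
  ⟨fun z => φ z • a, by
    intro T hT x y
    rw [← Finset.sum_smul]
    obtain ⟨k, hk⟩ := hφ T hT x y
    rw [hk, mul_comm, mul_smul, natCast_zsmul, hr, smul_zero]⟩

theorem cuspOfInt_apply (r : ℕ) (hr : ∀ a : A, r • a = 0) (φ : G → ℤ)
    (hφ : ∀ T ∈ 𝒮, ∀ x y : G, (r : ℤ) ∣ ∑ t ∈ T, φ (x * t * y)) (a : A) (z : G) :
    (cuspOfInt r hr φ hφ a).1 z = φ z • a := rfl

theorem cuspOfInt_injective (r : ℕ) (hr : ∀ a : A, r • a = 0) (φ : G → ℤ)
    (hφ : ∀ T ∈ 𝒮, ∀ x y : G, (r : ℤ) ∣ ∑ t ∈ T, φ (x * t * y)) (z₀ : G) (hz : φ z₀ = 1) :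
    Function.Injective (cuspOfInt (A := A) r hr φ hφ) := by
  intro a b h
  have h1 := congrArg (fun f : Cusp 𝒮 A => f.1 z₀) h
  simp only [cuspOfInt_apply, hz, one_smul] at h1
  exact h1

theorem cusp_sum_apply {ι : Type*} (s : Finset ι) (F : ι → Cusp 𝒮 A) (z : G) :
    (∑ i ∈ s, F i).1 z = ∑ i ∈ s, (F i).1 z := by
  rw [AddSubmonoidClass.coe_finsetSum, Finset.sum_apply]

/-- an element of order `r |c|` -/
theorem aff_cusp_orderOf_eq_mul (r : ℕ) (hrp : r.Prime) (hr : ∀ a : A, r • a = 0) (φ : G → ℤ)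
    (hφ : ∀ T ∈ 𝒮, ∀ x y : G, (r : ℤ) ∣ ∑ t ∈ T, φ (x * t * y)) (a : A) (ha : a ≠ 0)
    (c : G) (hc : 0 < orderOf c) (z : G)
    (hsum : ∑ i ∈ Finset.range (orderOf c), φ ((c ^ i)⁻¹ * z) = 1) :
    orderOf (⟨cuspOfInt r hr φ hφ a, c⟩ : Aff G (Cusp 𝒮 A)) = r * orderOf c := by
  apply aff_orderOf_eq_mul r hrp (fun v => ?_) _ hc
  · intro h0
    apply ha
    have h1 := congrArg (fun f : Cusp 𝒮 A => f.1 z) h0
    simp only [cusp_sum_apply, cusp_smul_apply, cuspOfInt_apply] at h1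
    rw [← Finset.sum_smul, hsum, one_smul] at h1
    exact h1
  · apply cusp_ext
    intro z
    change (r • v).1 z = 0
    rw [AddSubgroup.coe_nsmul, Pi.smul_apply, hr]

/-- the cardinality of `Aff G (Cusp 𝒮 A)` is at least that of `A` -/
theorem card_le_card_aff_cusp [Finite G] [Finite A] (r : ℕ) (hr : ∀ a : A, r • a = 0) (φ : G → ℤ)
    (hφ : ∀ T ∈ 𝒮, ∀ x y : G, (r : ℤ) ∣ ∑ t ∈ T, φ (x * t * y)) (z₀ : G) (hz : φ z₀ = 1) :
    Nat.card A ≤ Nat.card (Aff G (Cusp 𝒮 A)) := by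
  have h1 : Nat.card A ≤ Nat.card (Cusp 𝒮 A) :=
    Nat.card_le_card_of_injective _ (cuspOfInt_injective r hr φ hφ z₀ hz)
  rw [Aff.card_eq]
  calc Nat.card A ≤ Nat.card (Cusp 𝒮 A) := h1
    _ = Nat.card (Cusp 𝒮 A) * 1 := (mul_one _).symm
    _ ≤ Nat.card (Cusp 𝒮 A) * Nat.card G := Nat.mul_le_mul_left _ Nat.card_pos

/-- the final assembly: if the spectrum of `Aff G (Cusp 𝒮 A)` is `S` for all non-trivial finite `A` of
exponent `r`, there are arbitrarily large groups in `Type` with spectrum `S` -/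
theorem exists_large_of_spectrum [Finite G] (r : ℕ) (hrp : r.Prime) (φ : G → ℤ)
    (hφ : ∀ T ∈ 𝒮, ∀ x y : G, (r : ℤ) ∣ ∑ t ∈ T, φ (x * t * y)) (z₀ : G) (hz : φ z₀ = 1)
    (S : Set ℕ)
    (hS : ∀ (B : Type) [AddCommGroup B] [Finite B], (∀ a : B, r • a = 0) → (∃ a : B, a ≠ 0) →
      Set.range (orderOf : Aff G (Cusp 𝒮 B) → ℕ) = S) (N : ℕ) :
    ∃ (H : Type) (_ : Group H) (_ : Fintype H), N < Fintype.card H ∧
      Set.range (orderOf : H → ℕ) = S := by
  have : Fact r.Prime := ⟨hrp⟩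
  have hrB : ∀ a : Fin (N + 1) → ZMod r, r • a = 0 := by
    intro a
    funext i
    rw [Pi.smul_apply, nsmul_eq_mul, ZMod.natCast_self, zero_mul]
    rfl
  have hne : ∃ a : Fin (N + 1) → ZMod r, a ≠ 0 := by
    refine ⟨fun _ => 1, fun h => ?_⟩
    have := congrFun h 0
    exact one_ne_zero this
  obtain ⟨H, iG, iF, hcard, hrange⟩ :=
    exists_type0_model (Aff G (Cusp 𝒮 (Fin (N + 1) → ZMod r)))
  refine ⟨H, iG, iF, ?_, ?_⟩
  · rw [hcard]
    have h1 := card_le_card_aff_cusp (A := Fin (N + 1) → ZMod r) r hrB φ hφ z₀ hz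
    have h2 : Nat.card (Fin (N + 1) → ZMod r) = r ^ (N + 1) := by
      rw [Nat.card_eq_fintype_card, Fintype.card_fun, ZMod.card, Fintype.card_fin]
    rw [h2] at h1
    have h3 : N < r ^ (N + 1) :=
      calc N < N + 1 := Nat.lt_succ_self N
        _ < r ^ (N + 1) := Nat.lt_pow_self hrp.one_lt
    omega
  · rw [hrange]
    exact hS _ hrB hne

end Cfsg.Agent.Lib.Helper13.Iso
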