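/-
helper13: Frobenius groups `Cusp 𝒮 A ⋊ C` and their spectra: if every non-identity element of `C` has
powers filling a member of `𝒮` of size prime to `r`, and a non-zero integer template exists, then
the element orders of `Aff C (Cusp 𝒮 A)` are those of `C` together with `r`.  Used for S3452.
-/
import Mathlib
import Cfsg.Agent.Lib.Helper13.IsoCusp

set_option autoImplicit false

namespace Cfsg.Agent.Lib.Helper13.Iso

open Cfsg.Agent.Lib.Helper9.ReeCube

variable {C : Type*} [Group C] {𝒮 : Set (Finset C)}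

/-- the spectrum of the Frobenius group `Cusp 𝒮 A ⋊ C` -/
theorem frobenius_spectrum [Finite C] (r : ℕ) (hrp : r.Prime)
    (hcov : ∀ c : C, c ≠ 1 → ∃ T ∈ 𝒮, (∀ t ∈ T, t ∈ Subgroup.zpowers c) ∧ Nat.Coprime T.card r)
    (φ : C → ℤ) (hφ : ∀ T ∈ 𝒮, ∀ x y : C, (r : ℤ) ∣ ∑ t ∈ T, φ (x * t * y)) (z₀ : C)
    (hz : φ z₀ = 1)
    (A : Type*) [AddCommGroup A] (hr : ∀ a : A, r • a = 0) (hne : ∃ a : A, a ≠ 0) :
    Set.range (orderOf : Aff C (Cusp 𝒮 A) → ℕ) = Set.range (orderOf : C → ℕ) ∪ {r} := by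
  ext m
  simp only [Set.mem_range, Set.mem_union, Set.mem_singleton_iff]
  constructor
  · rintro ⟨x, rfl⟩
    by_cases hc : x.c = 1
    · have h1 : x ^ r = 1 := by
        rw [Aff.pow_of_c_eq_one x hc]
        apply Aff.ext
        · apply cusp_ext
          intro z
          change (r • x.v).1 z = 0
          rw [AddSubgroup.coe_nsmul, Pi.smul_apply, hr]
        · rfl
      rcases (Nat.dvd_prime hrp).mp (orderOf_dvd_of_pow_eq_one h1) with h | h
      · left
        exact ⟨1, by rw [orderOf_one, h]⟩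
      · right
        exact h
    · left
      obtain ⟨T, hT, hsub, hcop⟩ := hcov x.c hc
      exact ⟨x.c, (aff_cusp_orderOf_eq r hr x hT hsub hcop).symm⟩
  · rintro (⟨c, rfl⟩ | rfl)
    · exact ⟨Aff.incl c, orderOf_injective (Aff.incl : C →* Aff C (Cusp 𝒮 A)) Aff.incl_injective c⟩
    · obtain ⟨a, ha⟩ := hne
      refine ⟨⟨cuspOfInt m hr φ hφ a, 1⟩, ?_⟩
      have : Fact m.Prime := ⟨hrp⟩
      apply orderOf_eq_prime
      · rw [Aff.pow_of_c_eq_one _ rfl]
        apply Aff.ext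
        · apply cusp_ext
          intro z
          change (m • (cuspOfInt m hr φ hφ a)).1 z = 0
          rw [AddSubgroup.coe_nsmul, Pi.smul_apply, hr]
        · rfl
      · intro h
        have h1 := congrArg (fun x : Aff C (Cusp 𝒮 A) => x.v.1 z₀) h
        simp only [cuspOfInt_apply, hz, one_smul] at h1
        exact ha h1

/-- arbitrarily large Frobenius groups with the spectrum `ω(C) ∪ {r}` -/
theorem frobenius_large [Finite C] (r : ℕ) (hrp : r.Prime)
    (hcov : ∀ c : C, c ≠ 1 → ∃ T ∈ 𝒮, (∀ t ∈ T, t ∈ Subgroup.zpowers c) ∧ Nat.Coprime T.card r)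
    (φ : C → ℤ) (hφ : ∀ T ∈ 𝒮, ∀ x y : C, ∑ t ∈ T, φ (x * t * y) = 0) (z₀ : C)
    (hz : φ z₀ = 1) (N : ℕ) :
    ∃ (H : Type) (_ : Group H) (_ : Fintype H), N < Fintype.card H ∧
      Set.range (orderOf : H → ℕ) = Set.range (orderOf : C → ℕ) ∪ {r} := by
  have hφ' : ∀ T ∈ 𝒮, ∀ x y : C, (r : ℤ) ∣ ∑ t ∈ T, φ (x * t * y) := by
    intro T hT x y
    rw [hφ T hT x y]
    exact dvd_zero _
  apply exists_large_of_spectrum r hrp φ hφ' z₀ hz _ _ N
  intro B _ _ hr hne
  exact frobenius_spectrum r hrp hcov φ hφ' z₀ hz B hr hne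

end Cfsg.Agent.Lib.Helper13.Iso
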