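import Mathlib
import Cfsg.Agent.Lib.Helper13.IsoFrob

set_option autoImplicit false

namespace Cfsg.Agent.Lib.Helper13.Iso

open Cfsg.Agent.Lib.Helper9.ReeCube

/-- computing a spectrum by exhaustion -/
theorem range_orderOf_eq_of_forall {C : Type*} [Group C] (L : Finset ℕ) (h0 : 0 ∉ L)
    (h1 : ∀ c : C, ∃ n ∈ L, c ^ n = 1 ∧ ∀ m ∈ Finset.range n, 0 < m → c ^ m ≠ 1)
    (h2 : ∀ n ∈ L, ∃ c : C, c ^ n = 1 ∧ ∀ m ∈ Finset.range n, 0 < m → c ^ m ≠ 1) :
    Set.range (orderOf : C → ℕ) = ↑L := by
  ext m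
  simp only [Set.mem_range, Finset.mem_coe]
  constructor
  · rintro ⟨c, rfl⟩
    obtain ⟨n, hn, h3, h4⟩ := h1 c
    have hn0 : 0 < n := Nat.pos_of_ne_zero (fun h => h0 (h ▸ hn))
    rw [(orderOf_eq_iff hn0).mpr ⟨h3, fun m hm hm0 => h4 m (Finset.mem_range.mpr hm) hm0⟩]
    exact hn
  · intro hm
    obtain ⟨c, h3, h4⟩ := h2 m hm
    have hn0 : 0 < m := Nat.pos_of_ne_zero (fun h => h0 (h ▸ hm))
    exact ⟨c, (orderOf_eq_iff hn0).mpr ⟨h3, fun k hk hk0 => h4 k (Finset.mem_range.mpr hk) hk0⟩⟩

theorem mem_zpowers_of_exists_pow {C : Type*} [Group C] {c t : C} (n : ℕ)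
    (h : ∃ k ∈ Finset.range n, c ^ k = t) : t ∈ Subgroup.zpowers c := by
  obtain ⟨k, -, rfl⟩ := h
  exact Subgroup.npow_mem_zpowers c k

/-! ### the cyclic group of order 2 -/

theorem range_orderOf_Z2 : Set.range (orderOf : Multiplicative (ZMod 2) → ℕ) = ↑({1, 2} : Finset ℕ) := by
  apply range_orderOf_eq_of_forall
  · decide
  · decide
  · decide


/-- arbitrarily large groups with spectrum `{1, 2, 3}` -/
theorem large_123 (N : ℕ) :
    ∃ (H : Type) (_ : Group H) (_ : Fintype H), N < Fintype.card H ∧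
      Set.range (orderOf : H → ℕ) = ↑({1, 2, 3} : Finset ℕ) := by
  have h := frobenius_large (C := Multiplicative (ZMod 2)) (𝒮 := {Finset.univ}) 3 Nat.prime_three
    (by
      intro c hc
      refine ⟨Finset.univ, rfl, ?_, by decide⟩
      intro t _
      apply mem_zpowers_of_exists_pow 2
      revert t
      revert c
      decide)
    (fun z => if z = 1 then 1 else -1)
    (by
      intro T hT
      rw [Set.mem_singleton_iff] at hT
      subst hT
      decide)
    1 (by decide) N
  rw [range_orderOf_Z2] at h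
  obtain ⟨H, i1, i2, h1, h2⟩ := h
  refine ⟨H, i1, i2, h1, ?_⟩
  rw [h2]
  ext m
  simp only [Finset.coe_insert, Finset.coe_singleton, Set.mem_union, Set.mem_insert_iff,
    Set.mem_singleton_iff]
  tauto

/-! ### the cyclic group of order 4 -/

theorem range_orderOf_Z4 :
    Set.range (orderOf : Multiplicative (ZMod 4) → ℕ) = ↑({1, 2, 4} : Finset ℕ) := by
  apply range_orderOf_eq_of_forall
  · decide
  · decide
  · decide

/-- arbitrarily large groups with spectrum `{1, 2, 3, 4}` -/
theorem large_1234 (N : ℕ) :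
    ∃ (H : Type) (_ : Group H) (_ : Fintype H), N < Fintype.card H ∧
      Set.range (orderOf : H → ℕ) = ↑({1, 2, 3, 4} : Finset ℕ) := by
  have h := frobenius_large (C := Multiplicative (ZMod 4))
    (𝒮 := {({1, Multiplicative.ofAdd 2} : Finset (Multiplicative (ZMod 4)))}) 3 Nat.prime_three
    (by
      intro c hc
      refine ⟨_, rfl, ?_, by decide⟩
      intro t ht
      apply mem_zpowers_of_exists_pow 4
      revert t
      revert c
      decide)
    (fun z => if z = 1 then 1 else if z = Multiplicative.ofAdd 2 then -1 else 0)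
    (by
      intro T hT
      rw [Set.mem_singleton_iff] at hT
      subst hT
      decide)
    1 (by decide) N
  rw [range_orderOf_Z4] at h
  obtain ⟨H, i1, i2, h1, h2⟩ := h
  refine ⟨H, i1, i2, h1, ?_⟩
  rw [h2]
  ext m
  simp only [Finset.coe_insert, Finset.coe_singleton, Set.mem_union, Set.mem_insert_iff,
    Set.mem_singleton_iff]
  tauto


/-! ### the Frobenius complement `5 : 8` of order 40 -/

theorem two_pow_add_val : ∀ k l : ZMod 8, (2 : ZMod 5) ^ (k + l).val = 2 ^ k.val * 2 ^ l.val := by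
  decide

/-- the cyclic group of order 8 acts on `ZMod 5` through multiplication by powers of `2` -/
instance act85 : DistribMulAction (Multiplicative (ZMod 8)) (ZMod 5) where
  smul k x := (2 : ZMod 5) ^ (Multiplicative.toAdd k).val * x
  one_smul x := by
    change (2 : ZMod 5) ^ (0 : ZMod 8).val * x = x
    rw [ZMod.val_zero, pow_zero, one_mul]
  mul_smul k l x := by
    change (2 : ZMod 5) ^ (Multiplicative.toAdd k + Multiplicative.toAdd l).val * x =
      2 ^ (Multiplicative.toAdd k).val * (2 ^ (Multiplicative.toAdd l).val * x)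
    rw [two_pow_add_val, mul_assoc]
  smul_zero k := by
    change (2 : ZMod 5) ^ (Multiplicative.toAdd k).val * 0 = 0
    rw [mul_zero]
  smul_add k x y := by
    change (2 : ZMod 5) ^ (Multiplicative.toAdd k).val * (x + y) =
      2 ^ (Multiplicative.toAdd k).val * x + 2 ^ (Multiplicative.toAdd k).val * y
    rw [mul_add]

/-- the group `5 : 8` -/
abbrev C40 : Type := Aff (Multiplicative (ZMod 8)) (ZMod 5)

instance : DecidableEq C40 := fun x y =>
  decidable_of_iff (x.v = y.v ∧ x.c = y.c) Aff.ext_iff.symm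

instance : Fintype C40 := Fintype.ofEquiv _ Aff.equivProd.symm

/-- the central involution -/
def s40 : C40 := ⟨0, Multiplicative.ofAdd 4⟩

/-- the normal subgroup of order 5 -/
def T5 : Finset C40 := Finset.univ.image (fun x : ZMod 5 => (⟨x, 1⟩ : C40))

/-- the template -/
def phi40 (z : C40) : ℤ :=
  if z.c = 1 then (if z.v = 0 then 1 else if z.v = 1 then -1 else 0)
  else if z.c = Multiplicative.ofAdd 4 then (if z.v = 0 then -1 else if z.v = 1 then 1 else 0)
  else 0

theorem range_orderOf_C40 :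
    Set.range (orderOf : C40 → ℕ) = ↑({1, 2, 4, 5, 8, 10} : Finset ℕ) := by
  apply range_orderOf_eq_of_forall
  · decide
  · decide
  · decide

theorem cov40 : ∀ c : C40, c ≠ 1 → (∀ t ∈ ({1, s40} : Finset C40), ∃ k ∈ Finset.range 8, c ^ k = t) ∨
    (∀ t ∈ T5, ∃ k ∈ Finset.range 5, c ^ k = t) := by
  decide

theorem phi40_T2 : ∀ x y : C40, ∑ t ∈ ({1, s40} : Finset C40), phi40 (x * t * y) = 0 := by
  decide

theorem phi40_T5 : ∀ x y : C40, ∑ t ∈ T5, phi40 (x * t * y) = 0 := by
  decide


/-- arbitrarily large groups with spectrum `{1, 2, 3, 4, 5, 8, 10}` -/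
theorem large_PGL29 (N : ℕ) :
    ∃ (H : Type) (_ : Group H) (_ : Fintype H), N < Fintype.card H ∧
      Set.range (orderOf : H → ℕ) = ↑({1, 2, 3, 4, 5, 8, 10} : Finset ℕ) := by
  have h := frobenius_large (C := C40)
    (𝒮 := {({1, s40} : Finset C40), T5}) 3 Nat.prime_three
    (by
      intro c hc
      rcases cov40 c hc with h | h
      · refine ⟨_, Set.mem_insert _ _, ?_, by decide⟩
        intro t ht
        exact mem_zpowers_of_exists_pow 8 (h t ht)
      · refine ⟨T5, Set.mem_insert_of_mem _ rfl, ?_, by decide⟩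
        intro t ht
        exact mem_zpowers_of_exists_pow 5 (h t ht))
    phi40
    (by
      intro T hT
      rcases hT with rfl | hT
      · exact phi40_T2
      · rw [Set.mem_singleton_iff] at hT
        subst hT
        exact phi40_T5)
    1 (by decide) N
  rw [range_orderOf_C40] at h
  obtain ⟨H, i1, i2, h1, h2⟩ := h
  refine ⟨H, i1, i2, h1, ?_⟩
  rw [h2]
  ext m
  simp only [Finset.coe_insert, Finset.coe_singleton, Set.mem_union, Set.mem_insert_iff,
    Set.mem_singleton_iff]
  tauto

end Cfsg.Agent.Lib.Helper13.Iso
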