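import Mathlib

/-!
Helper lemmas (helper13): element orders in `PGL_d(F)` for a finite field `F`: the bound
`(q - 1) * o(g) ≤ q ^ d - 1` and a Singer cycle attaining it.
-/

set_option autoImplicit false

namespace Cfsg.Agent.Lib.Helper13

open Matrix Polynomial

section span

variable {F : Type*} [Field F] {d : ℕ}

/-- The span of the first `d` powers of a `d × d` matrix. -/
noncomputable def powSpan (A : Matrix (Fin d) (Fin d) F) : Submodule F (Matrix (Fin d) (Fin d) F) :=
  Submodule.span F (Set.range fun i : Fin d => A ^ (i : ℕ))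

theorem pow_mem_powSpan_of_lt (A : Matrix (Fin d) (Fin d) F) (i : ℕ) (hi : i < d) :
    A ^ i ∈ powSpan A :=
  Submodule.subset_span ⟨⟨i, hi⟩, rfl⟩

theorem pow_dim_mem_powSpan (A : Matrix (Fin d) (Fin d) F) : A ^ d ∈ powSpan A := by
  have h1 := Matrix.aeval_self_charpoly A
  have hm := Matrix.charpoly_monic A
  have hdeg := Matrix.charpoly_natDegree_eq_dim A
  rw [Fintype.card_fin] at hdeg
  rw [hm.as_sum, hdeg] at h1
  simp only [map_add, map_pow, aeval_X, map_sum, map_mul, aeval_C] at h1
  have h2 : A ^ d = -∑ i ∈ Finset.range d, (algebraMap F (Matrix (Fin d) (Fin d) F)) (A.charpoly.coeff i) * A ^ i :=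
    eq_neg_of_add_eq_zero_left h1
  rw [h2]
  apply Submodule.neg_mem
  apply Submodule.sum_mem
  intro i hi
  rw [Algebra.algebraMap_eq_smul_one, smul_mul_assoc, one_mul]
  exact Submodule.smul_mem _ _ (pow_mem_powSpan_of_lt A i (Finset.mem_range.mp hi))

theorem mul_mem_powSpan (A : Matrix (Fin d) (Fin d) F) (w : Matrix (Fin d) (Fin d) F)
    (hw : w ∈ powSpan A) : A * w ∈ powSpan A := by
  unfold powSpan at hw
  induction hw using Submodule.span_induction with
  | mem x hx =>
    obtain ⟨i, rfl⟩ := hx
    change A * A ^ (i : ℕ) ∈ powSpan A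
    rw [← pow_succ']
    by_cases h : (i : ℕ) + 1 < d
    · exact pow_mem_powSpan_of_lt A _ h
    · have : (i : ℕ) + 1 = d := by have := i.2; omega
      rw [this]
      exact pow_dim_mem_powSpan A
  | zero => rw [mul_zero]; exact Submodule.zero_mem _
  | add x y _ _ hx hy => rw [mul_add]; exact Submodule.add_mem _ hx hy
  | smul c x _ hx => rw [mul_smul_comm]; exact Submodule.smul_mem _ _ hx

theorem pow_mem_powSpan (hd : 1 ≤ d) (A : Matrix (Fin d) (Fin d) F) (n : ℕ) : A ^ n ∈ powSpan A := by
  induction n with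
  | zero => exact pow_mem_powSpan_of_lt A 0 hd
  | succ n ih => rw [pow_succ']; exact mul_mem_powSpan A _ ih

theorem finrank_powSpan_le (A : Matrix (Fin d) (Fin d) F) : Module.finrank F (powSpan A) ≤ d := by
  have := finrank_range_le_card (R := F) (fun i : Fin d => A ^ (i : ℕ))
  rw [Fintype.card_fin] at this
  exact this

end span

section finite

variable {F : Type*} [Field F] [Fintype F] {d : ℕ}

theorem card_powSpan_le (A : Matrix (Fin d) (Fin d) F) :
    Nat.card (powSpan A) ≤ Fintype.card F ^ d := by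
  rw [Module.natCard_eq_pow_finrank (K := F), Nat.card_eq_fintype_card]
  exact Nat.pow_le_pow_right Fintype.card_pos (finrank_powSpan_le A)

/-- Every element of `PGL_d(F)` has order at most `(q ^ d - 1) / (q - 1)`. -/
theorem pgl_orderOf_le (hd : 1 ≤ d) (g : GL (Fin d) F) :
    (Fintype.card F - 1) *
      orderOf (QuotientGroup.mk g : GL (Fin d) F ⧸ Subgroup.center (GL (Fin d) F)) ≤
        Fintype.card F ^ d - 1 := by
  classical
  have : NeZero d := ⟨by omega⟩
  set gb : GL (Fin d) F ⧸ Subgroup.center (GL (Fin d) F) := QuotientGroup.mk g with hgb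
  set k := orderOf gb with hk
  set A : Matrix (Fin d) (Fin d) F := g.val with hA
  -- the map
  let ψ : Option (Fˣ × Fin k) → powSpan A := fun o =>
    match o with
    | none => 0
    | some (c, i) => ⟨(c : F) • A ^ (i : ℕ), Submodule.smul_mem _ _ (pow_mem_powSpan hd A _)⟩
  have hval : ∀ (c : Fˣ) (i : ℕ), (c : F) • A ^ i = ((GeneralLinearGroup.scalar (Fin d) c * g ^ i :
      GL (Fin d) F) : Matrix (Fin d) (Fin d) F) := by
    intro c i
    rw [Units.val_mul, GeneralLinearGroup.coe_scalar, Units.val_pow_eq_pow_val, ← hA]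
    rw [Matrix.scalar_apply, ← Matrix.smul_eq_diagonal_mul]
  have hinj : Function.Injective ψ := by
    intro o o' h
    rcases o with _ | ⟨c, i⟩ <;> rcases o' with _ | ⟨c', i'⟩
    · rfl
    · exfalso
      have h' := congrArg Subtype.val h
      change (0 : Matrix (Fin d) (Fin d) F) = (c' : F) • A ^ (i' : ℕ) at h'
      rw [hval] at h'
      exact (Units.ne_zero _) h'.symm
    · exfalso
      have h' := congrArg Subtype.val h
      change (c : F) • A ^ (i : ℕ) = (0 : Matrix (Fin d) (Fin d) F) at h'
      rw [hval] at h'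
      exact (Units.ne_zero _) h'
    · have h' := congrArg Subtype.val h
      change (c : F) • A ^ (i : ℕ) = (c' : F) • A ^ (i' : ℕ) at h'
      rw [hval, hval] at h'
      have h'' : GeneralLinearGroup.scalar (Fin d) c * g ^ (i : ℕ) =
          GeneralLinearGroup.scalar (Fin d) c' * g ^ (i' : ℕ) := Units.ext h'
      have hq := congrArg (QuotientGroup.mk (s := Subgroup.center (GL (Fin d) F))) h''
      have hz : ∀ c : Fˣ, (QuotientGroup.mk (GeneralLinearGroup.scalar (Fin d) c) :
          GL (Fin d) F ⧸ Subgroup.center (GL (Fin d) F)) = 1 := by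
        intro c
        rw [QuotientGroup.eq_one_iff, GeneralLinearGroup.center_eq_range_scalar]
        exact ⟨c, rfl⟩
      rw [QuotientGroup.mk_mul, QuotientGroup.mk_mul, hz, hz, one_mul, one_mul,
        QuotientGroup.mk_pow, QuotientGroup.mk_pow] at hq
      have hii : (i : ℕ) = (i' : ℕ) :=
        pow_injOn_Iio_orderOf (Set.mem_Iio.mpr i.2) (Set.mem_Iio.mpr i'.2) hq
      have hi : i = i' := Fin.ext hii
      subst hi
      have hc : GeneralLinearGroup.scalar (Fin d) c = GeneralLinearGroup.scalar (Fin d) c' :=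
        mul_right_cancel h''
      have hc' := congrArg (fun u : GL (Fin d) F => (u : Matrix (Fin d) (Fin d) F) 0 0) hc
      simp only [GeneralLinearGroup.coe_scalar, Matrix.scalar_apply, Matrix.diagonal_apply_eq] at hc'
      rw [Units.ext hc']
  have hcard := Nat.card_le_card_of_injective ψ hinj
  have h1 : Nat.card (Option (Fˣ × Fin k)) = (Fintype.card F - 1) * k + 1 := by
    rw [Nat.card_eq_fintype_card, Fintype.card_option, Fintype.card_prod, Fintype.card_units,
      Fintype.card_fin]
  have h2 := card_powSpan_le A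
  rw [h1] at hcard
  omega

/-- A Singer cycle: some element of `PGL_d(F)` has order exactly `(q ^ d - 1) / (q - 1)`. -/
theorem exists_pgl_orderOf_eq (hd : 1 ≤ d) :
    ∃ g : GL (Fin d) F ⧸ Subgroup.center (GL (Fin d) F),
      (Fintype.card F - 1) * orderOf g = Fintype.card F ^ d - 1 := by
  classical
  have : NeZero d := ⟨by omega⟩
  obtain ⟨p, hp⟩ := CharP.exists F
  have hpp : Fact p.Prime := ⟨CharP.char_is_prime F p⟩
  set K := FiniteField.Extension F p d with hK
  have hfr : Module.finrank F K = d := FiniteField.finrank_extension F p d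
  have hcardK : Nat.card K = Fintype.card F ^ d := by
    rw [hK, FiniteField.natCard_extension, Nat.card_eq_fintype_card]
  let b : Module.Basis (Fin d) F K := Module.finBasisOfFinrankEq F K hfr
  set ρ : K →ₐ[F] Matrix (Fin d) (Fin d) F := Algebra.leftMulMatrix b with hρ
  have hρinj : Function.Injective ρ := Algebra.leftMulMatrix_injective b
  have : Fintype K := Fintype.ofFinite K
  obtain ⟨ζ, hζ⟩ := IsCyclic.exists_generator (α := Kˣ)
  have hordζ : orderOf ζ = Fintype.card F ^ d - 1 := by
    rw [orderOf_eq_card_of_forall_mem_zpowers hζ, Nat.card_units, hcardK]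
  set s : GL (Fin d) F := Units.map (ρ : K →* Matrix (Fin d) (Fin d) F) ζ with hs
  set q := Fintype.card F with hq
  have hq2 : 2 ≤ q := Fintype.one_lt_card
  obtain ⟨N, hN⟩ : q - 1 ∣ q ^ d - 1 := Nat.sub_one_dvd_pow_sub_one q d
  refine ⟨QuotientGroup.mk s, le_antisymm (pgl_orderOf_le hd s) ?_⟩
  set o := orderOf (QuotientGroup.mk s : GL (Fin d) F ⧸ Subgroup.center (GL (Fin d) F)) with ho
  have hopos : 0 < o := orderOf_pos _
  have hNo : N ∣ o := by
    have h1 : (QuotientGroup.mk s : GL (Fin d) F ⧸ Subgroup.center (GL (Fin d) F)) ^ o = 1 :=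
      pow_orderOf_eq_one _
    rw [← QuotientGroup.mk_pow, QuotientGroup.eq_one_iff,
      GeneralLinearGroup.mem_center_iff_val_mem_range_scalar] at h1
    obtain ⟨a, ha⟩ := h1
    have h2 : ((s ^ o : GL (Fin d) F) : Matrix (Fin d) (Fin d) F) = ρ ((ζ : K) ^ o) := by
      rw [Units.val_pow_eq_pow_val, hs, Units.coe_map, map_pow]
      rfl
    have h3 : Matrix.scalar (Fin d) a = ρ (algebraMap F K a) := by
      rw [AlgHom.commutes, Matrix.algebraMap_eq_diagonal]
      rfl
    rw [h2, h3] at ha
    have h4 : algebraMap F K a = (ζ : K) ^ o := hρinj ha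
    have ha0 : a ≠ 0 := by
      intro h0
      rw [h0, map_zero] at h4
      exact (pow_ne_zero o (Units.ne_zero ζ)) h4.symm
    have h5 : a ^ (q - 1) = 1 := FiniteField.pow_card_sub_one_eq_one a ha0
    have h6 : ((ζ : K) ^ o) ^ (q - 1) = 1 := by
      rw [← h4, ← map_pow, h5, map_one]
    have h7 : ζ ^ (o * (q - 1)) = 1 := by
      apply Units.ext
      rw [Units.val_pow_eq_pow_val, pow_mul, h6, Units.val_one]
    have h8 := orderOf_dvd_of_pow_eq_one h7
    rw [hordζ, hN] at h8
    have hq1 : 0 < q - 1 := by omega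
    rw [mul_comm o] at h8
    exact Nat.dvd_of_mul_dvd_mul_left hq1 h8
  have hle : N ≤ o := Nat.le_of_dvd hopos hNo
  rw [hN]
  exact Nat.mul_le_mul_left _ hle

end finite

end Cfsg.Agent.Lib.Helper13
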