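/-
helper13: the set of element orders of `PGL₂(F)`, `F` a finite field with `q` elements of
characteristic `p`: the divisors of `p`, `q - 1` and `q + 1`.  Used for S3452.
-/
import Mathlib
import Cfsg.Agent.Lib.Helper13.DkPGLOrder
import Cfsg.Agent.Lib.Helper13.PGLOrder
import Cfsg.Agent.Lib.Helper13.PSL2Spectrum
import Cfsg.Agent.Lib.Helper13.GL2Sylow

set_option autoImplicit false

namespace Cfsg.Agent.Lib.Helper13.Iso

open Matrix Cfsg.Agent.Lib.Helper13

variable {F : Type*} [Field F] [Fintype F]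

/-- upper bound -/
theorem PGL2_orderOf_dvd (p : ℕ) [Fact p.Prime] [CharP F p]
    (x : GL (Fin 2) F ⧸ Subgroup.center (GL (Fin 2) F)) :
    orderOf x ∣ p ∨ orderOf x ∣ Fintype.card F - 1 ∨ orderOf x ∣ Fintype.card F + 1 := by
  obtain ⟨g, rfl⟩ := QuotientGroup.mk_surjective x
  have hdet : (g : Matrix (Fin 2) (Fin 2) F).det ≠ 0 := by
    have := g.det.ne_zero
    simpa using this
  obtain ⟨k, hk, hsc⟩ := Dk.exists_pow_scalar p (g : Matrix (Fin 2) (Fin 2) F) hdet
  have hone : (QuotientGroup.mk g : GL (Fin 2) F ⧸ Subgroup.center (GL (Fin 2) F)) ^ k = 1 := by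
    rw [← QuotientGroup.mk_pow, QuotientGroup.eq_one_iff,
      Matrix.GeneralLinearGroup.mem_center_iff_val_mem_range_scalar]
    refine ⟨((g : Matrix (Fin 2) (Fin 2) F) ^ k) 0 0, ?_⟩
    rw [Units.val_pow_eq_pow_val]
    rw [hsc]
    ext i j
    fin_cases i <;> fin_cases j <;> simp
  have hd := orderOf_dvd_of_pow_eq_one hone
  rcases hk with h | h | h
  · right; right; rw [← h]; exact hd
  · right; left; rw [← h]; exact hd
  · left; rw [← h]; exact hd

/-- the diagonal matrix `diag(a, 1)` -/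
noncomputable def dg (a : Fˣ) : GL (Fin 2) F :=
  Matrix.GeneralLinearGroup.mkOfDetNeZero (Matrix.diagonal ![(a : F), 1]) (by
    rw [Matrix.det_diagonal, Fin.prod_univ_two]
    simp)

omit [Fintype F] in
theorem dg_pow_val (a : Fˣ) (k : ℕ) :
    ((dg a ^ k : GL (Fin 2) F) : Matrix (Fin 2) (Fin 2) F) = Matrix.diagonal ![(a : F) ^ k, 1] := by
  rw [Units.val_pow_eq_pow_val]
  change (Matrix.diagonal ![(a : F), 1]) ^ k = _
  rw [Matrix.diagonal_pow]
  congr 1
  funext i
  fin_cases i <;> simp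

omit [Fintype F] in
theorem mk_dg_pow_eq_one_iff (a : Fˣ) (k : ℕ) :
    (QuotientGroup.mk (dg a) : GL (Fin 2) F ⧸ Subgroup.center (GL (Fin 2) F)) ^ k = 1 ↔ a ^ k = 1 := by
  rw [← QuotientGroup.mk_pow, QuotientGroup.eq_one_iff,
    Matrix.GeneralLinearGroup.mem_center_iff_val_mem_range_scalar, dg_pow_val]
  constructor
  · rintro ⟨r, hr⟩
    have h0 := congrFun (congrFun hr 0) 0
    have h1 := congrFun (congrFun hr 1) 1
    simp at h0 h1
    apply Units.ext
    rw [Units.val_pow_eq_pow_val, ← h0, h1]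
    rfl
  · intro h
    refine ⟨1, ?_⟩
    have h' : (a : F) ^ k = 1 := by
      rw [← Units.val_pow_eq_pow_val, h]
      rfl
    rw [h']
    ext i j
    fin_cases i <;> fin_cases j <;> simp

/-- an element of order `q - 1` -/
theorem exists_PGL2_orderOf_eq_sub_one :
    ∃ x : GL (Fin 2) F ⧸ Subgroup.center (GL (Fin 2) F), orderOf x = Fintype.card F - 1 := by
  classical
  obtain ⟨ζ, hζ⟩ := IsCyclic.exists_generator (α := Fˣ)
  have hord : orderOf ζ = Fintype.card F - 1 := by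
    rw [orderOf_eq_card_of_forall_mem_zpowers hζ, Nat.card_eq_fintype_card, Fintype.card_units]
  refine ⟨QuotientGroup.mk (dg ζ), ?_⟩
  rw [← hord]
  apply Nat.dvd_antisymm
  · apply orderOf_dvd_of_pow_eq_one
    rw [mk_dg_pow_eq_one_iff]
    exact pow_orderOf_eq_one ζ
  · apply orderOf_dvd_of_pow_eq_one
    rw [← mk_dg_pow_eq_one_iff]
    exact pow_orderOf_eq_one _

/-- an element of order `q + 1` -/
theorem exists_PGL2_orderOf_eq_add_one :
    ∃ x : GL (Fin 2) F ⧸ Subgroup.center (GL (Fin 2) F), orderOf x = Fintype.card F + 1 := by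
  obtain ⟨g, hg⟩ := exists_pgl_orderOf_eq (F := F) (d := 2) (by norm_num)
  refine ⟨g, ?_⟩
  have hq : 2 ≤ Fintype.card F := Fintype.one_lt_card
  have h1 : Fintype.card F ^ 2 - 1 = (Fintype.card F - 1) * (Fintype.card F + 1) := by
    obtain ⟨n, hn⟩ : ∃ n, Fintype.card F = n + 1 := ⟨Fintype.card F - 1, by omega⟩
    rw [hn]
    simp only [Nat.add_sub_cancel]
    have : (n + 1) ^ 2 = n * (n + 1 + 1) + 1 := by ring
    rw [this, Nat.add_sub_cancel]
  rw [h1] at hg
  exact Nat.eq_of_mul_eq_mul_left (by omega) hg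

/-- an element of order `p` -/
theorem exists_PGL2_orderOf_eq_char (p : ℕ) [Fact p.Prime] [CharP F p] :
    ∃ x : GL (Fin 2) F ⧸ Subgroup.center (GL (Fin 2) F), orderOf x = p := by
  refine ⟨QuotientGroup.mk (tGL 1), ?_⟩
  apply orderOf_eq_prime
  · rw [← QuotientGroup.mk_pow]
    have h1 : (tGL (1 : F)) ^ p = 1 := by
      have := map_pow (tGLHom (F := F)) (Multiplicative.ofAdd 1) p
      change tGL _ = tGL 1 ^ p at this
      rw [← this, ← ofAdd_nsmul, toAdd_ofAdd, nsmul_one, CharP.cast_eq_zero, tGL_zero]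
    rw [h1, QuotientGroup.mk_one]
  · intro h
    rw [QuotientGroup.eq_one_iff,
      Matrix.GeneralLinearGroup.mem_center_iff_val_mem_range_scalar] at h
    obtain ⟨r, hr⟩ := h
    have := congrFun (congrFun hr 0) 1
    simp [tGL] at this

/-- **the spectrum of `PGL₂(q)`** -/
theorem PGL2_spectrum (p : ℕ) [Fact p.Prime] [CharP F p] :
    Set.range (orderOf : GL (Fin 2) F ⧸ Subgroup.center (GL (Fin 2) F) → ℕ) =
      {m : ℕ | m ∣ p ∨ m ∣ Fintype.card F - 1 ∨ m ∣ Fintype.card F + 1} := by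
  have hp : p.Prime := Fact.out
  have hq : 2 ≤ Fintype.card F := Fintype.one_lt_card
  ext m
  simp only [Set.mem_range, Set.mem_ofPred_eq]
  constructor
  · rintro ⟨x, rfl⟩
    exact PGL2_orderOf_dvd p x
  · rintro (h | h | h)
    · obtain ⟨x, hx⟩ := exists_PGL2_orderOf_eq_char (F := F) p
      exact exists_orderOf_eq_of_dvd x m (hx ▸ h) (by rw [hx]; exact hp.ne_zero)
    · obtain ⟨x, hx⟩ := exists_PGL2_orderOf_eq_sub_one (F := F)
      exact exists_orderOf_eq_of_dvd x m (hx ▸ h) (by rw [hx]; omega)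
    · obtain ⟨x, hx⟩ := exists_PGL2_orderOf_eq_add_one (F := F)
      exact exists_orderOf_eq_of_dvd x m (hx ▸ h) (by rw [hx]; omega)

end Cfsg.Agent.Lib.Helper13.Iso
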