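/-
helper13: class functions on `PSL₂(F)` which are cuspidal (their sums over all two-sided translates
of unipotent subgroups vanish modulo 2).  Used for S3452.
-/
import Mathlib
import Cfsg.Agent.Lib.Helper13.IsoCusp
import Cfsg.Agent.Lib.Helper13.PSL2Spectrum
import Cfsg.Agent.Lib.Helper18.PSL2AutBasic

set_option autoImplicit false

namespace Cfsg.Agent.Lib.Helper13.Iso

open Matrix Cfsg.Agent.Lib.Helper13 Cfsg.Agent.Lib.Helper18.PSL2Aut

variable {F : Type*} [Field F]

open Classical in
/-- the family of all conjugates of the upper unitriangular subgroup -/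
noncomputable def unipFamily (F : Type*) [Field F] [Fintype F] :
    Set (Finset (ProjectiveSpecialLinearGroup (Fin 2) F)) :=
  {T | ∃ h : ProjectiveSpecialLinearGroup (Fin 2) F, T = Finset.univ.image (fun s : F => h * ub s * h⁻¹)}

open Classical in
/-- the indicator function of the elements whose squared trace is `t ^ 2` -/
noncomputable def trTemplate (t : F) (z : ProjectiveSpecialLinearGroup (Fin 2) F) : ℤ :=
  if trsq z = t ^ 2 then 1 else 0

theorem trsq_ub_mul_pi (s : F) (W : SpecialLinearGroup (Fin 2) F) :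
    trsq (ub s * pi W) = ((W : Matrix (Fin 2) (Fin 2) F) 0 0 + s * (W : Matrix (Fin 2) (Fin 2) F) 1 0 +
      (W : Matrix (Fin 2) (Fin 2) F) 1 1) ^ 2 := by
  rw [ub, ← map_mul, trsq_pi]
  congr 1
  rw [Matrix.SpecialLinearGroup.coe_mul, tSL_coe]
  simp [Matrix.mul_apply, Fin.sum_univ_two]

theorem det_entries (W : SpecialLinearGroup (Fin 2) F) :
    (W : Matrix (Fin 2) (Fin 2) F) 0 0 * (W : Matrix (Fin 2) (Fin 2) F) 1 1 -
      (W : Matrix (Fin 2) (Fin 2) F) 0 1 * (W : Matrix (Fin 2) (Fin 2) F) 1 0 = 1 := by
  have := W.2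
  rw [Matrix.det_fin_two] at this
  exact this

/-- the template sums over translates of the unipotent subgroup are even -/
theorem trTemplate_sum [Fintype F] (h2 : (2 : F) ≠ 0) (t : F) (ht : t ≠ 0)
    (hns : ∀ a : F, a ≠ 0 → (a + a⁻¹) ^ 2 ≠ t ^ 2)
    (x y : ProjectiveSpecialLinearGroup (Fin 2) F) :
    (2 : ℤ) ∣ ∑ s : F, trTemplate t (x * ub s * y) := by
  classical
  obtain ⟨W, hW⟩ := pi_surjective (y * x)
  have hconj : ∀ s : F, trTemplate t (x * ub s * y) =
      if ((W : Matrix (Fin 2) (Fin 2) F) 0 0 + s * (W : Matrix (Fin 2) (Fin 2) F) 1 0 +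
        (W : Matrix (Fin 2) (Fin 2) F) 1 1) ^ 2 = t ^ 2 then 1 else 0 := by
    intro s
    unfold trTemplate
    have h1 : x * ub s * y = x * (ub s * (y * x)) * x⁻¹ := by group
    rw [h1, trsq_conj, ← hW, trsq_ub_mul_pi]
  simp only [hconj]
  set a := (W : Matrix (Fin 2) (Fin 2) F) 0 0 with ha
  set b := (W : Matrix (Fin 2) (Fin 2) F) 0 1 with hb
  set c := (W : Matrix (Fin 2) (Fin 2) F) 1 0 with hc
  set d := (W : Matrix (Fin 2) (Fin 2) F) 1 1 with hd
  have hdet : a * d - b * c = 1 := det_entries W
  by_cases hc0 : c = 0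
  · have had : a * d = 1 := by rw [hc0, mul_zero, sub_zero] at hdet; exact hdet
    have ha0 : a ≠ 0 := by
      rintro h
      rw [h, zero_mul] at had
      exact zero_ne_one had
    have hd' : d = a⁻¹ := by
      field_simp
      rw [mul_comm]; exact had
    have hne : ∀ s : F, ¬ ((a + s * c + d) ^ 2 = t ^ 2) := by
      intro s
      rw [hc0, mul_zero, add_zero, hd']
      exact hns a ha0
    simp only [hne, if_false, Finset.sum_const_zero, dvd_zero]
  · rw [Finset.sum_boole]
    have hfilter : (Finset.univ.filter (fun s : F => (a + s * c + d) ^ 2 = t ^ 2)) =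
        {(t - a - d) / c, (-t - a - d) / c} := by
      ext s
      simp only [Finset.mem_filter, Finset.mem_univ, true_and, Finset.mem_insert,
        Finset.mem_singleton]
      constructor
      · intro h
        have h3 : (a + s * c + d - t) * (a + s * c + d + t) = 0 := by linear_combination h
        rcases mul_eq_zero.mp h3 with h4 | h4
        · left
          field_simp
          linear_combination h4
        · right
          field_simp
          linear_combination h4
      · rintro (h | h)
        · rw [h]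
          field_simp
          ring
        · rw [h]
          field_simp
          ring
    have hne : (t - a - d) / c ≠ (-t - a - d) / c := by
      intro h
      rw [div_left_inj' hc0] at h
      have : (2 : F) * t = 0 := by linear_combination h
      rcases mul_eq_zero.mp this with h5 | h5
      · exact h2 h5
      · exact ht h5
    rw [hfilter, Finset.card_pair hne]
    exact dvd_refl _

/-- the template is cuspidal modulo 2 with respect to the unipotent family -/
theorem trTemplate_cusp [Fintype F] (h2 : (2 : F) ≠ 0) (t : F) (ht : t ≠ 0)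
    (hns : ∀ a : F, a ≠ 0 → (a + a⁻¹) ^ 2 ≠ t ^ 2) :
    ∀ T ∈ unipFamily F, ∀ x y : ProjectiveSpecialLinearGroup (Fin 2) F,
      ((2 : ℕ) : ℤ) ∣ ∑ u ∈ T, trTemplate t (x * u * y) := by
  classical
  rintro T ⟨h, rfl⟩ x y
  rw [Finset.sum_image]
  · have := trTemplate_sum h2 t ht hns (x * h) (h⁻¹ * y)
    have h1 : ∀ s : F, x * (h * ub s * h⁻¹) * y = x * h * ub s * (h⁻¹ * y) := by
      intro s; group
    simp only [h1]
    exact_mod_cast this
  · intro s _ s' _ hss
    have hss' : h * ub s * h⁻¹ = h * ub s' * h⁻¹ := hss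
    have : ub s = ub s' := by
      have h3 : h⁻¹ * (h * ub s * h⁻¹) * h = h⁻¹ * (h * ub s' * h⁻¹) * h := by
        rw [hss']
      have e1 : h⁻¹ * (h * ub s * h⁻¹) * h = ub s := by group
      have e2 : h⁻¹ * (h * ub s' * h⁻¹) * h = ub s' := by group
      rw [e1, e2] at h3
      exact h3
    exact ub_injective this

end Cfsg.Agent.Lib.Helper13.Iso
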