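/-
helper13: elements of order `p` in `PSL₂(p)` are conjugate into the upper unitriangular subgroup,
whose non-identity elements generate it (prime field).  Used for S3452.
-/
import Mathlib
import Cfsg.Agent.Lib.Helper13.IsoPSL2A
import Cfsg.Agent.Lib.Helper13.SL2Gen

set_option autoImplicit false

namespace Cfsg.Agent.Lib.Helper13.Iso

open Matrix Cfsg.Agent.Lib.Helper13 Cfsg.Agent.Lib.Helper18.PSL2Aut

variable {F : Type*} [Field F]

theorem ub_natCast_mul (s₀ : F) (n : ℕ) : ub ((n : F) * s₀) = (ub s₀) ^ n := by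
  induction n with
  | zero => rw [Nat.cast_zero, zero_mul, ub_zero, pow_zero]
  | succ n ih => rw [Nat.cast_succ, add_mul, one_mul, ub_add, ih, pow_succ]

/-- in a prime field every element is a natural multiple of a given non-zero element -/
theorem exists_natCast_mul [Fintype F] (hp : (Fintype.card F).Prime) (s s₀ : F) (hs₀ : s₀ ≠ 0) :
    ∃ n : ℕ, s = (n : F) * s₀ := by
  obtain ⟨p, hchar⟩ := CharP.exists F
  have hpF : Fact p.Prime := ⟨CharP.char_is_prime F p⟩
  obtain ⟨n, -, hn⟩ := FiniteField.card F p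
  have hpq : Fintype.card F = p := by
    rw [hn] at hp
    have h1 : (n : ℕ) = 1 := by
      by_contra h1
      exact Nat.Prime.not_prime_pow' (x := p) (n := n) h1 hp
    rw [hn, h1, pow_one]
  let e := ZMod.ringEquivOfPrime F hpF.out hpq
  refine ⟨(e.symm (s / s₀)).val, ?_⟩
  have h1 : ((e.symm (s / s₀)).val : F) = s / s₀ := by
    have h2 : (((e.symm (s / s₀)).val : ZMod p)) = e.symm (s / s₀) := ZMod.natCast_zmod_val _
    have h3 := congrArg e h2
    rw [map_natCast, RingEquiv.apply_symm_apply] at h3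
    exact h3
  rw [h1, div_mul_cancel₀ s hs₀]

theorem center_sq_eq_one (z : SpecialLinearGroup (Fin 2) F)
    (hz : z ∈ Subgroup.center (SpecialLinearGroup (Fin 2) F)) : z ^ 2 = 1 := by
  obtain ⟨r, hr, hs⟩ := Matrix.SpecialLinearGroup.mem_center_iff.mp hz
  have hr2 : r ^ 2 = 1 := by simpa using hr
  apply Subtype.ext
  rw [Matrix.SpecialLinearGroup.coe_pow, Matrix.SpecialLinearGroup.coe_one, ← hs, ← map_pow, hr2,
    map_one]

/-- an element of order `p` of `PSL₂(F)`, `p` odd, is conjugate to some `ub s₀` -/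
theorem exists_conj_ub_of_orderOf [Fintype F] (p : ℕ) [Fact p.Prime] [CharP F p] (hp2 : p ≠ 2)
    (g : ProjectiveSpecialLinearGroup (Fin 2) F) (hg : orderOf g = p) :
    ∃ (h : ProjectiveSpecialLinearGroup (Fin 2) F) (s₀ : F), s₀ ≠ 0 ∧ g = h * ub s₀ * h⁻¹ := by
  have hp : p.Prime := Fact.out
  obtain ⟨m, hm⟩ : ∃ m, p + 1 = 2 * m := by
    rcases hp.eq_two_or_odd' with h | ⟨k, hk⟩
    · exact absurd h hp2
    · exact ⟨k + 1, by omega⟩
  obtain ⟨g', rfl⟩ := pi_surjective g
  have hgp : (pi g') ^ p = 1 := by rw [← hg]; exact pow_orderOf_eq_one _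
  have hcen : g' ^ p ∈ Subgroup.center (SpecialLinearGroup (Fin 2) F) := by
    rw [← pi_eq_one_iff, map_pow]; exact hgp
  set gh := g' ^ (p + 1) with hgh
  have hpi : pi gh = pi g' := by
    rw [hgh, map_pow, pow_succ, hgp, one_mul]
  have hghp : gh ^ p = 1 := by
    rw [hgh, ← pow_mul, mul_comm, pow_mul, hm, pow_mul, center_sq_eq_one _ hcen, one_pow]
  -- the cyclic group generated by `gh` is a `p`-group
  have hP : IsPGroup p (Subgroup.zpowers gh) := by
    rintro ⟨x, hx⟩
    obtain ⟨k, rfl⟩ := Subgroup.mem_zpowers_iff.mp hx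
    refine ⟨1, ?_⟩
    apply Subtype.ext
    rw [pow_one, Subgroup.coe_pow, Subgroup.coe_one]
    change (gh ^ k) ^ p = 1
    rw [← zpow_natCast, ← _root_.zpow_mul, mul_comm, _root_.zpow_mul, zpow_natCast, hghp, _root_.one_zpow]
  obtain ⟨Q, hQ⟩ := hP.exists_le_sylow
  obtain ⟨h', rfl⟩ := MulAction.exists_smul_eq (SpecialLinearGroup (Fin 2) F)
    (sylowUnipSL (F := F) p) Q
  have hmem : gh ∈ ((h' • sylowUnipSL (F := F) p : Sylow p (SpecialLinearGroup (Fin 2) F)) :
      Subgroup (SpecialLinearGroup (Fin 2) F)) := hQ (Subgroup.mem_zpowers gh)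
  rw [Sylow.coe_subgroup_smul, Subgroup.mem_pointwise_smul_iff_inv_smul_mem, coe_sylowUnipSL] at hmem
  simp only [MulAut.smul_def, ← map_inv, MulAut.conj_apply, inv_inv] at hmem
  obtain ⟨s₀, hs₀⟩ := mem_unipSL.mp hmem
  have hgh' : gh = h' * tSL s₀ * h'⁻¹ := by rw [hs₀]; group
  refine ⟨pi h', s₀, ?_, ?_⟩
  · rintro rfl
    rw [tSL_zero, mul_one, mul_inv_cancel] at hgh'
    have h1 : pi g' = 1 := by rw [← hpi, hgh', map_one]
    rw [h1, orderOf_one] at hg
    exact hp.one_lt.ne hg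
  · rw [← hpi, hgh', map_mul, map_mul, map_inv]
    rfl

/-- the conjugates of the unitriangular elements are powers of a conjugate of any non-trivial one -/
theorem conj_ub_mem_zpowers [Fintype F] (hp : (Fintype.card F).Prime)
    (h : ProjectiveSpecialLinearGroup (Fin 2) F) (s₀ : F) (hs₀ : s₀ ≠ 0) (s : F) :
    h * ub s * h⁻¹ ∈ Subgroup.zpowers (h * ub s₀ * h⁻¹) := by
  obtain ⟨n, rfl⟩ := exists_natCast_mul hp s s₀ hs₀
  rw [ub_natCast_mul, ← conj_pow]
  exact Subgroup.npow_mem_zpowers _ n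

end Cfsg.Agent.Lib.Helper13.Iso
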