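/-
helper13: tori of `PSL₂(F)` and an off-torus element `y` for which `trace² (m y) = t²` happens for
`m` in the torus only at `m = 1`.  Used for S3452.
-/
import Mathlib
import Cfsg.Agent.Lib.Helper13.IsoPSL2B

set_option autoImplicit false

namespace Cfsg.Agent.Lib.Helper13.Iso

open Matrix Cfsg.Agent.Lib.Helper13 Cfsg.Agent.Lib.Helper18.PSL2Aut

variable {F : Type*} [Field F]

/-- the companion matrix of `X² - tX + 1` -/
def compSL (t : F) : SpecialLinearGroup (Fin 2) F :=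
  ⟨!![0, -1; 1, t], by simp [Matrix.det_fin_two]⟩

theorem compSL_coe (t : F) :
    ((compSL t : SpecialLinearGroup (Fin 2) F) : Matrix (Fin 2) (Fin 2) F) = !![0, -1; 1, t] := rfl

theorem trsq_pi_mul_pi (M Y : SpecialLinearGroup (Fin 2) F) :
    trsq (pi M * pi Y) = ((M : Matrix (Fin 2) (Fin 2) F) 0 0 * (Y : Matrix (Fin 2) (Fin 2) F) 0 0 +
      (M : Matrix (Fin 2) (Fin 2) F) 0 1 * (Y : Matrix (Fin 2) (Fin 2) F) 1 0 +
      ((M : Matrix (Fin 2) (Fin 2) F) 1 0 * (Y : Matrix (Fin 2) (Fin 2) F) 0 1 +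
      (M : Matrix (Fin 2) (Fin 2) F) 1 1 * (Y : Matrix (Fin 2) (Fin 2) F) 1 1)) ^ 2 := by
  rw [← map_mul, trsq_pi, Matrix.SpecialLinearGroup.coe_mul]
  simp [Matrix.mul_apply, Fin.sum_univ_two]

/-- matrices commuting with the companion matrix -/
theorem entries_of_commute_compSL (t : F) (M : SpecialLinearGroup (Fin 2) F)
    (hM : M * compSL t = compSL t * M) :
    (M : Matrix (Fin 2) (Fin 2) F) 0 1 = -(M : Matrix (Fin 2) (Fin 2) F) 1 0 ∧
    (M : Matrix (Fin 2) (Fin 2) F) 1 1 =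
      (M : Matrix (Fin 2) (Fin 2) F) 0 0 + t * (M : Matrix (Fin 2) (Fin 2) F) 1 0 := by
  have h := congrArg (fun X : SpecialLinearGroup (Fin 2) F => (X : Matrix (Fin 2) (Fin 2) F)) hM
  simp only [Matrix.SpecialLinearGroup.coe_mul, compSL_coe] at h
  have h00 := congrFun (congrFun h 0) 0
  have h10 := congrFun (congrFun h 1) 0
  simp [Matrix.mul_apply, Fin.sum_univ_two] at h00 h10
  exact ⟨h00, by rw [h10]⟩

/-- matrices commuting with a non-scalar diagonal matrix -/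
theorem entries_of_commute_dSL (z : F) (hz : z ≠ 0) (hz2 : z ^ 2 ≠ 1) (M : SpecialLinearGroup (Fin 2) F)
    (hM : M * dSL z hz = dSL z hz * M) :
    (M : Matrix (Fin 2) (Fin 2) F) 0 1 = 0 ∧ (M : Matrix (Fin 2) (Fin 2) F) 1 0 = 0 := by
  have h := congrArg (fun X : SpecialLinearGroup (Fin 2) F => (X : Matrix (Fin 2) (Fin 2) F)) hM
  simp only [Matrix.SpecialLinearGroup.coe_mul] at h
  have h01 := congrFun (congrFun h 0) 1
  have h10 := congrFun (congrFun h 1) 0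
  simp [dSL, Matrix.mul_apply, Fin.sum_univ_two] at h01 h10
  have hne : z - z⁻¹ ≠ 0 := by
    intro h0
    apply hz2
    field_simp at h0
    linear_combination h0
  constructor
  · have : (M : Matrix (Fin 2) (Fin 2) F) 0 1 * (z - z⁻¹) = 0 := by linear_combination -h01
    rcases mul_eq_zero.mp this with h1 | h1
    · exact h1
    · exact absurd h1 hne
  · have : (M : Matrix (Fin 2) (Fin 2) F) 1 0 * (z - z⁻¹) = 0 := by linear_combination h10
    rcases mul_eq_zero.mp this with h1 | h1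
    · exact h1
    · exact absurd h1 hne

theorem pi_eq_one_of_entries (M : SpecialLinearGroup (Fin 2) F)
    (h01 : (M : Matrix (Fin 2) (Fin 2) F) 0 1 = 0) (h10 : (M : Matrix (Fin 2) (Fin 2) F) 1 0 = 0)
    (h11 : (M : Matrix (Fin 2) (Fin 2) F) 1 1 = (M : Matrix (Fin 2) (Fin 2) F) 0 0) : pi M = 1 := by
  rw [pi_eq_one_iff]
  apply mem_center_of_scalar M ((M : Matrix (Fin 2) (Fin 2) F) 0 0)
  ext i j
  fin_cases i <;> fin_cases j <;> simp [h01, h10, h11]

theorem entries_of_pi_eq_one (M : SpecialLinearGroup (Fin 2) F) (h : pi M = 1) :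
    (M : Matrix (Fin 2) (Fin 2) F) 0 1 = 0 ∧ (M : Matrix (Fin 2) (Fin 2) F) 1 0 = 0 ∧
      (M : Matrix (Fin 2) (Fin 2) F) 1 1 = (M : Matrix (Fin 2) (Fin 2) F) 0 0 := by
  rw [pi_eq_one_iff] at h
  obtain ⟨r, hr⟩ := scalar_of_mem_center M h
  rw [hr]
  simp

/-- the key computation for the non-split torus -/
theorem trsq_comp_torus (h2 : (2 : F) ≠ 0) (t : F) (ht : t ≠ 0) (ht4 : t ^ 2 ≠ 4)
    (M Y : SpecialLinearGroup (Fin 2) F)
    (hM1 : (M : Matrix (Fin 2) (Fin 2) F) 0 1 = -(M : Matrix (Fin 2) (Fin 2) F) 1 0)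
    (hM2 : (M : Matrix (Fin 2) (Fin 2) F) 1 1 =
      (M : Matrix (Fin 2) (Fin 2) F) 0 0 + t * (M : Matrix (Fin 2) (Fin 2) F) 1 0)
    (hY1 : (Y : Matrix (Fin 2) (Fin 2) F) 0 0 + (Y : Matrix (Fin 2) (Fin 2) F) 1 1 = t)
    (hY2 : 2 * ((Y : Matrix (Fin 2) (Fin 2) F) 0 1 - (Y : Matrix (Fin 2) (Fin 2) F) 1 0 +
      t * (Y : Matrix (Fin 2) (Fin 2) F) 1 1) = t ^ 2) :
    trsq (pi M * pi Y) = t ^ 2 ↔ pi M = 1 := by
  rw [trsq_pi_mul_pi]
  have hdet := det_entries M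
  set α := (M : Matrix (Fin 2) (Fin 2) F) 0 0 with hα
  set β := (M : Matrix (Fin 2) (Fin 2) F) 1 0 with hβ
  set y0 := (Y : Matrix (Fin 2) (Fin 2) F) 0 0
  set y1 := (Y : Matrix (Fin 2) (Fin 2) F) 0 1
  set y2 := (Y : Matrix (Fin 2) (Fin 2) F) 1 0
  set y3 := (Y : Matrix (Fin 2) (Fin 2) F) 1 1
  rw [hM1, hM2] at hdet ⊢
  have h4 : (4 : F) ≠ 0 := by
    have : (4 : F) = 2 * 2 := by norm_num
    rw [this]
    exact mul_ne_zero h2 h2
  have key : 4 * ((α * y0 + -β * y2 + (β * y1 + (α + t * β) * y3)) ^ 2 - t ^ 2) =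
      β ^ 2 * t ^ 2 * (t ^ 2 - 4) := by
    have e1 : y0 = t - y3 := by linear_combination hY1
    have e2 : 2 * y1 = t ^ 2 + 2 * y2 - 2 * t * y3 := by linear_combination hY2
    have e3 : 2 * (α * y0 + -β * y2 + (β * y1 + (α + t * β) * y3)) = 2 * α * t + β * t ^ 2 := by
      rw [e1]
      linear_combination β * e2
    have e4 : 4 * (α * y0 + -β * y2 + (β * y1 + (α + t * β) * y3)) ^ 2 =
        (2 * α * t + β * t ^ 2) ^ 2 := by
      rw [← e3]; ring
    linear_combination e4 + 4 * t ^ 2 * hdet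
  constructor
  · intro h
    rw [h, sub_self, mul_zero] at key
    have hβ0 : β = 0 := by
      have h5 : β ^ 2 * (t ^ 2 * (t ^ 2 - 4)) = 0 := by linear_combination -key
      rcases mul_eq_zero.mp h5 with h6 | h6
      · exact pow_eq_zero_iff (two_ne_zero) |>.mp h6
      · exfalso
        rcases mul_eq_zero.mp h6 with h7 | h7
        · exact ht (pow_eq_zero_iff (two_ne_zero) |>.mp h7)
        · exact ht4 (by linear_combination h7)
    apply pi_eq_one_of_entries M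
    · rw [hM1, hβ0, neg_zero]
    · exact hβ0
    · rw [hM2, hβ0, mul_zero, add_zero]
  · intro h
    obtain ⟨h01, h10, h11⟩ := entries_of_pi_eq_one M h
    have hβ0 : β = 0 := h10
    rw [hβ0] at key hdet
    have h6 : 4 * ((α * y0 + -0 * y2 + (0 * y1 + (α + t * 0) * y3)) ^ 2 - t ^ 2) = 0 := by
      rw [key]; ring
    rcases mul_eq_zero.mp h6 with h7 | h7
    · exact absurd h7 h4
    · rw [hβ0]
      exact sub_eq_zero.mp h7

/-- the key computation for the split torus -/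
theorem trsq_diag_torus (h2 : (2 : F) ≠ 0) (t : F) (ht : t ≠ 0)
    (M Y : SpecialLinearGroup (Fin 2) F)
    (hM1 : (M : Matrix (Fin 2) (Fin 2) F) 0 1 = 0)
    (hM2 : (M : Matrix (Fin 2) (Fin 2) F) 1 0 = 0)
    (hY1 : 2 * (Y : Matrix (Fin 2) (Fin 2) F) 0 0 = t)
    (hY2 : 2 * (Y : Matrix (Fin 2) (Fin 2) F) 1 1 = t) :
    trsq (pi M * pi Y) = t ^ 2 ↔ pi M = 1 := by
  rw [trsq_pi_mul_pi]
  have hdet := det_entries M
  set α := (M : Matrix (Fin 2) (Fin 2) F) 0 0 with hα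
  set δ := (M : Matrix (Fin 2) (Fin 2) F) 1 1 with hδ
  set y0 := (Y : Matrix (Fin 2) (Fin 2) F) 0 0
  set y1 := (Y : Matrix (Fin 2) (Fin 2) F) 0 1
  set y2 := (Y : Matrix (Fin 2) (Fin 2) F) 1 0
  set y3 := (Y : Matrix (Fin 2) (Fin 2) F) 1 1
  rw [hM1, hM2] at hdet ⊢
  have h4 : (4 : F) ≠ 0 := by
    have : (4 : F) = 2 * 2 := by norm_num
    rw [this]
    exact mul_ne_zero h2 h2
  have key : 4 * ((α * y0 + 0 * y2 + (0 * y1 + δ * y3)) ^ 2 - t ^ 2) = t ^ 2 * (α - δ) ^ 2 := by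
    have e3 : 2 * (α * y0 + 0 * y2 + (0 * y1 + δ * y3)) = t * (α + δ) := by
      linear_combination α * hY1 + δ * hY2
    have e4 : 4 * (α * y0 + 0 * y2 + (0 * y1 + δ * y3)) ^ 2 = (t * (α + δ)) ^ 2 := by
      rw [← e3]; ring
    linear_combination e4 + 4 * t ^ 2 * hdet
  constructor
  · intro h
    rw [h, sub_self, mul_zero] at key
    have hαδ : α = δ := by
      rcases mul_eq_zero.mp key.symm with h6 | h6
      · exact absurd (pow_eq_zero_iff (two_ne_zero) |>.mp h6) ht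
      · exact sub_eq_zero.mp (pow_eq_zero_iff (two_ne_zero) |>.mp h6)
    exact pi_eq_one_of_entries M hM1 hM2 hαδ.symm
  · intro h
    obtain ⟨h01, h10, h11⟩ := entries_of_pi_eq_one M h
    have hαδ : δ = α := h11
    rw [hαδ, sub_self] at key
    have h6 : 4 * ((α * y0 + 0 * y2 + (0 * y1 + δ * y3)) ^ 2 - t ^ 2) = 0 := by
      rw [hαδ, key]; ring
    rcases mul_eq_zero.mp h6 with h7 | h7
    · exact absurd h7 h4
    · exact sub_eq_zero.mp h7

end Cfsg.Agent.Lib.Helper13.Iso
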