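/-
helper13: the elements of order `(p ± 1)/2` of `PSL₂(p)` in explicit form, the trace of the non-split
one, and the norm sums of the cuspidal template.  Used for S3452.
-/
import Mathlib
import Cfsg.Agent.Lib.Helper13.IsoPSL2C

set_option autoImplicit false

namespace Cfsg.Agent.Lib.Helper13.Iso

open Matrix Polynomial Cfsg.Agent.Lib.Helper13 Cfsg.Agent.Lib.Helper18.PSL2Aut

variable {F : Type*} [Field F]

/-- an element of `SL₂(F)` off the non-split torus, with prescribed traces -/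
theorem exists_offTorus [Fintype F] (h2 : (2 : F) ≠ 0) (t : F) (ht4 : t ^ 2 ≠ 4) :
    ∃ Y : SpecialLinearGroup (Fin 2) F,
      (Y : Matrix (Fin 2) (Fin 2) F) 0 0 + (Y : Matrix (Fin 2) (Fin 2) F) 1 1 = t ∧
      2 * ((Y : Matrix (Fin 2) (Fin 2) F) 0 1 - (Y : Matrix (Fin 2) (Fin 2) F) 1 0 +
        t * (Y : Matrix (Fin 2) (Fin 2) F) 1 1) = t ^ 2 := by
  have hD : -(t ^ 2 - 4) ≠ 0 := by
    intro h
    apply ht4
    linear_combination -h
  have hodd : Fintype.card F % 2 = 1 := by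
    apply FiniteField.odd_card_of_char_ne_two
    intro h
    apply h2
    have := (ringChar.spec F 2).mpr (by rw [h])
    exact_mod_cast this
  obtain ⟨a, b, hab⟩ := FiniteField.exists_root_sum_quadratic (R := F)
    (f := X ^ 2) (g := C (-(t ^ 2 - 4)) * X ^ 2 + C 0 * X + C (-(t ^ 2 - 4)))
    (degree_X_pow 2) (degree_quadratic hD) hodd
  simp only [eval_pow, eval_X, eval_add, eval_mul, eval_C, zero_mul, add_zero] at hab
  have h2' : (2 : F) * 2⁻¹ = 1 := mul_inv_cancel₀ h2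
  refine ⟨⟨!![(t - a - t * b) * 2⁻¹, (2 * b - t * a - t ^ 2 * b) * 2⁻¹; b, (a + t + t * b) * 2⁻¹], ?_⟩,
    ?_, ?_⟩
  · rw [Matrix.det_fin_two_of]
    field_simp
    linear_combination (-1) * hab
  · simp
    field_simp
    ring
  · simp
    field_simp
    ring

/-- the norm sum of the template along a cyclic group, when only the identity contributes -/
theorem template_sum_eq_one (t : F) (c y : ProjectiveSpecialLinearGroup (Fin 2) F)
    (hk : 0 < orderOf c)
    (hkey : ∀ i : ℕ, trsq ((c ^ i)⁻¹ * y) = t ^ 2 ↔ (c ^ i)⁻¹ = 1) :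
    ∑ i ∈ Finset.range (orderOf c), trTemplate t ((c ^ i)⁻¹ * y) = 1 := by
  classical
  rw [Finset.sum_eq_single 0]
  · unfold trTemplate
    rw [if_pos]
    rw [hkey 0, pow_zero, inv_one]
  · intro i hi hi0
    unfold trTemplate
    rw [if_neg]
    rw [hkey i]
    intro h
    have h1 : c ^ i = 1 := by rw [← inv_inv (c ^ i), h, inv_one]
    exact pow_ne_one_of_lt_orderOf hi0 (Finset.mem_range.mp hi) h1
  · intro h
    exact absurd (Finset.mem_range.mpr hk) h

/-- the norm sum along the non-split torus -/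
theorem exists_sum_comp [Fintype F] (h2 : (2 : F) ≠ 0) (t : F) (ht : t ≠ 0) (ht4 : t ^ 2 ≠ 4)
    (hk : 0 < orderOf (pi (compSL t))) :
    ∃ y : ProjectiveSpecialLinearGroup (Fin 2) F,
      ∑ i ∈ Finset.range (orderOf (pi (compSL t))), trTemplate t ((pi (compSL t) ^ i)⁻¹ * y) = 1 := by
  obtain ⟨Y, hY1, hY2⟩ := exists_offTorus h2 t ht4
  refine ⟨pi Y, template_sum_eq_one t _ _ hk ?_⟩
  intro i
  have hcomm : (compSL t ^ i)⁻¹ * compSL t = compSL t * (compSL t ^ i)⁻¹ :=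
    (((Commute.refl (compSL t)).pow_left i).inv_left).eq
  obtain ⟨hM1, hM2⟩ := entries_of_commute_compSL t _ hcomm
  have h := trsq_comp_torus h2 t ht ht4 ((compSL t ^ i)⁻¹) Y hM1 hM2 hY1 hY2
  rw [map_inv, map_pow] at h
  exact h

/-- the norm sum along the split torus -/
theorem exists_sum_diag (h2 : (2 : F) ≠ 0) (t : F) (ht : t ≠ 0) (z : F) (hz : z ≠ 0)
    (hz2 : z ^ 2 ≠ 1) (hk : 0 < orderOf (pi (dSL z hz))) :
    ∃ y : ProjectiveSpecialLinearGroup (Fin 2) F,
      ∑ i ∈ Finset.range (orderOf (pi (dSL z hz))), trTemplate t ((pi (dSL z hz) ^ i)⁻¹ * y) = 1 := by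
  have h2' : (2 : F) * 2⁻¹ = 1 := mul_inv_cancel₀ h2
  let Y : SpecialLinearGroup (Fin 2) F :=
    ⟨!![t * 2⁻¹, 1; (t ^ 2 - 4) * 2⁻¹ * 2⁻¹, t * 2⁻¹], by
      rw [Matrix.det_fin_two_of]
      field_simp
      ring⟩
  have hY1 : 2 * (Y : Matrix (Fin 2) (Fin 2) F) 0 0 = t := by
    change 2 * (t * 2⁻¹) = t
    linear_combination t * h2'
  have hY2 : 2 * (Y : Matrix (Fin 2) (Fin 2) F) 1 1 = t := by
    change 2 * (t * 2⁻¹) = t
    linear_combination t * h2'
  refine ⟨pi Y, template_sum_eq_one t _ _ hk ?_⟩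
  intro i
  have hcomm : (dSL z hz ^ i)⁻¹ * dSL z hz = dSL z hz * (dSL z hz ^ i)⁻¹ :=
    (((Commute.refl (dSL z hz)).pow_left i).inv_left).eq
  obtain ⟨hM1, hM2⟩ := entries_of_commute_dSL z hz hz2 _ hcomm
  have h := trsq_diag_torus h2 t ht ((dSL z hz ^ i)⁻¹) Y hM1 hM2 hY1 hY2
  rw [map_inv, map_pow] at h
  exact h

end Cfsg.Agent.Lib.Helper13.Iso
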