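/-
helper13: explicit elements of order `(q ± 1)/2` in `PSL₂(q)`, `q` odd, and properties of the trace
of the non-split one for `q = p ≥ 5` prime.  Used for S3452.
-/
import Mathlib
import Cfsg.Agent.Lib.Helper13.IsoPSL2D

set_option autoImplicit false

namespace Cfsg.Agent.Lib.Helper13.Iso

open Matrix Polynomial Cfsg.Agent.Lib.Helper13 Cfsg.Agent.Lib.Helper18.PSL2Aut

variable {F : Type*} [Field F] [Fintype F]

/-- a field of prime cardinality `p` has characteristic `p` -/
theorem charP_of_card_prime (hp : (Fintype.card F).Prime) : CharP F (Fintype.card F) := by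
  obtain ⟨p, hchar⟩ := CharP.exists F
  have hpF : Fact p.Prime := ⟨CharP.char_is_prime F p⟩
  obtain ⟨n, -, hn⟩ := FiniteField.card F p
  have hpq : Fintype.card F = p := by
    rw [hn] at hp
    have h1 : (n : ℕ) = 1 := by
      by_contra h1
      exact Nat.Prime.not_prime_pow' (x := p) (n := n) h1 hp
    rw [hn, h1, pow_one]
  rw [hpq]
  exact hchar

/-- an element of order `(q + 1) / d` in companion form -/
theorem exists_compSL_orderOf (p : ℕ) [Fact p.Prime] [CharP F p] :
    ∃ t : F, orderOf (pi (compSL t)) = (Fintype.card F + 1) / Nat.gcd 2 (Fintype.card F - 1) := by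
  have hq : 1 < Fintype.card F := Fintype.one_lt_card
  have : NeZero ((Fintype.card F + 1 : ℕ) : F) :=
    ⟨by rw [Nat.cast_add, FiniteField.cast_card_eq_zero, zero_add, Nat.cast_one]; exact one_ne_zero⟩
  obtain ⟨lam, hlam⟩ := HasEnoughRootsOfUnity.exists_primitiveRoot (AlgebraicClosure F)
    (Fintype.card F + 1)
  have hord : orderOf lam = Fintype.card F + 1 := hlam.eq_orderOf.symm
  set mu := lam ^ Fintype.card F with hmu
  have h1 : lam * mu = 1 := by
    rw [hmu, ← pow_succ', ← hord]
    exact pow_orderOf_eq_one lam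
  obtain ⟨n, -, hn⟩ := FiniteField.card F p
  have hmuq : mu ^ Fintype.card F = lam := by
    have h3 : mu ^ Fintype.card F * mu = 1 := by
      nth_rewrite 2 [hmu]
      rw [← mul_pow, mul_comm, h1, one_pow]
    calc mu ^ Fintype.card F = mu ^ Fintype.card F * (lam * mu) := by rw [h1, mul_one]
      _ = (mu ^ Fintype.card F * mu) * lam := by ring
      _ = lam := by rw [h3, one_mul]
  have htau : (lam + mu) ^ Fintype.card F = lam + mu := by
    rw [hn, add_pow_char_pow, ← hn, hmuq, ← hmu, add_comm]
  obtain ⟨t, ht⟩ := mem_range_of_pow_card_eq (F := F) (lam + mu) htau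
  refine ⟨t, ?_⟩
  change orderOf (QuotientGroup.mk (compSL t) : ProjectiveSpecialLinearGroup (Fin 2) F) = _
  apply orderOf_mk_eq p (compSL t) lam mu h1 _ _ (by omega) hord
  · intro hp2
    obtain ⟨r, hr⟩ := odd_card_of_char_ne_two (F := F) p hp2
    exact ⟨r + 1, by omega⟩
  · intro hp2
    subst hp2
    obtain ⟨r, hr⟩ := even_card_of_char_two (F := F)
    exact ⟨r, by omega⟩
  · rw [← ht]
    congr 1
    change t = (!![0, -1; 1, t] : Matrix (Fin 2) (Fin 2) F) 0 0 + (!![0, -1; 1, t] : Matrix (Fin 2) (Fin 2) F) 1 1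
    simp

/-- an element of order `(q - 1) / d` in diagonal form -/
theorem exists_dSL_orderOf (p : ℕ) [Fact p.Prime] [CharP F p] (h4 : 4 ≤ Fintype.card F) :
    ∃ ζ : Fˣ, orderOf ζ = Fintype.card F - 1 ∧
      orderOf (pi (dSL (ζ : F) ζ.ne_zero)) = (Fintype.card F - 1) / Nat.gcd 2 (Fintype.card F - 1) := by
  classical
  obtain ⟨ζ, hζ⟩ := IsCyclic.exists_generator (α := Fˣ)
  have hord : orderOf ζ = Fintype.card F - 1 := by
    rw [orderOf_eq_card_of_forall_mem_zpowers hζ, Nat.card_eq_fintype_card, Fintype.card_units]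
  have hord' : orderOf (algebraMap F (AlgebraicClosure F) (ζ : F)) = Fintype.card F - 1 := by
    rw [← hord, ← orderOf_units (y := ζ)]
    exact orderOf_injective (algebraMap F (AlgebraicClosure F) : F →* AlgebraicClosure F)
      (algebraMap F (AlgebraicClosure F)).injective (ζ : F)
  refine ⟨ζ, hord, ?_⟩
  change orderOf (QuotientGroup.mk (dSL (ζ : F) ζ.ne_zero) :
    ProjectiveSpecialLinearGroup (Fin 2) F) = _
  apply orderOf_mk_eq p _ (algebraMap F (AlgebraicClosure F) (ζ : F))
    (algebraMap F (AlgebraicClosure F) ((ζ : F)⁻¹)) _ _ _ (by omega) hord'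
  · intro hp2
    obtain ⟨r, hr⟩ := odd_card_of_char_ne_two (F := F) p hp2
    exact ⟨r, by omega⟩
  · intro hp2
    subst hp2
    obtain ⟨r, hr⟩ := even_card_of_char_two (F := F)
    exact ⟨r - 1, by omega⟩
  · rw [← map_mul, mul_inv_cancel₀ ζ.ne_zero, map_one]
  · rw [← map_add]
    rfl

/-- the trace of an element of order `(p + 1) / 2` of `PSL₂(p)`, `p ≥ 5`, is non-zero and is not
of the form `± (a + a⁻¹)` -/
theorem trace_facts (p : ℕ) [Fact p.Prime] [CharP F p] (hq : Fintype.card F = p) (h5 : 5 ≤ p)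
    (t : F) (hord : orderOf (pi (compSL t)) = (p + 1) / 2) :
    t ≠ 0 ∧ ∀ a : F, a ≠ 0 → (a + a⁻¹) ^ 2 ≠ t ^ 2 := by
  have hp : p.Prime := Fact.out
  have hp2 : p ≠ 2 := by omega
  have hgcd : Nat.gcd 2 (Fintype.card F - 1) = 2 := (gcd_two_card_sub_one (F := F) p).2 hp2
  obtain ⟨m, hm⟩ : ∃ m, p = 2 * m + 1 := by
    rcases hp.eq_two_or_odd' with h | ⟨k, hk⟩
    · exact absurd h hp2
    · exact ⟨k, hk⟩
  have hord' : orderOf (pi (compSL t)) = m + 1 := by rw [hord, hm]; omega
  constructor
  · rintro rfl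
    have h1 : (pi (compSL (0 : F))) ^ 2 = 1 := by
      change (QuotientGroup.mk (compSL (0 : F)) : ProjectiveSpecialLinearGroup (Fin 2) F) ^ 2 = 1
      rw [mk_pow_eq_one_iff]
      refine ⟨-1, ?_⟩
      rw [compSL_coe, pow_two]
      ext i j
      fin_cases i <;> fin_cases j <;> simp
    have h2 := orderOf_dvd_of_pow_eq_one h1
    rw [hord'] at h2
    have := Nat.le_of_dvd (by norm_num) h2
    omega
  · intro a ha h
    -- reduce to `t = a' + a'⁻¹`
    obtain ⟨a', ha', hta⟩ : ∃ a' : F, a' ≠ 0 ∧ t = a' + a'⁻¹ := by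
      have h3 : (t - (a + a⁻¹)) * (t + (a + a⁻¹)) = 0 := by linear_combination -h
      rcases mul_eq_zero.mp h3 with h4 | h4
      · exact ⟨a, ha, by linear_combination h4⟩
      · refine ⟨-a, neg_ne_zero.mpr ha, ?_⟩
        rw [inv_neg]
        linear_combination h4
    by_cases hsq : a' ^ 2 = 1
    · -- `t = 2 a'`, the element has order dividing `p`
      have hta' : t = 2 * a' := by
        have : a'⁻¹ = a' := inv_eq_of_mul_eq_one_right (by rw [← pow_two]; exact hsq)
        rw [hta, this]; ring
      have hpow := pow_char_of_trace p (compSL t : Matrix (Fin 2) (Fin 2) F) (compSL t).2 a' hsq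
        (by rw [compSL_coe]; simp [hta'])
      have h1 : (pi (compSL t)) ^ p = 1 := by
        change (QuotientGroup.mk (compSL t) : ProjectiveSpecialLinearGroup (Fin 2) F) ^ p = 1
        rw [mk_pow_eq_one_iff]
        exact ⟨a' ^ p, hpow⟩
      have h2 := orderOf_dvd_of_pow_eq_one h1
      rw [hord'] at h2
      rcases (Nat.dvd_prime hp).mp h2 with h3 | h3 <;> omega
    · -- distinct eigenvalues in `F`
      have hne : algebraMap F (AlgebraicClosure F) a' ≠ algebraMap F (AlgebraicClosure F) a'⁻¹ := by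
        intro h0
        have h1 := (algebraMap F (AlgebraicClosure F)).injective h0
        apply hsq
        field_simp at h1
        linear_combination h1
      have hN : (algebraMap F (AlgebraicClosure F) a') ^ (Fintype.card F - 1) = 1 := by
        rw [← map_pow, FiniteField.pow_card_sub_one_eq_one a' ha', map_one]
      have h1 := mk_pow_div_gcd_eq_one p (compSL t) (algebraMap F (AlgebraicClosure F) a')
        (algebraMap F (AlgebraicClosure F) a'⁻¹)
        (by rw [← map_mul, mul_inv_cancel₀ ha', map_one])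
        (by
          rw [← map_add, ← hta, compSL_coe]
          congr 1
          simp)
        hne (Fintype.card F - 1) hN (fun _ => by rw [hq, hm]; exact ⟨m, by omega⟩)
      rw [hgcd] at h1
      have h2 := orderOf_dvd_of_pow_eq_one h1
      change orderOf (pi (compSL t)) ∣ _ at h2
      rw [hord', hq, hm] at h2
      have h3 : (2 * m + 1 - 1) / 2 = m := by omega
      rw [h3] at h2
      have := Nat.le_of_dvd (by omega) h2
      omega

end Cfsg.Agent.Lib.Helper13.Iso
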