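/-
helper13: for a prime `p ≥ 5`, the groups `Cusp ⋊ PSL₂(p)` (cuspidal functions with values in an
elementary abelian 2-group) have the same element orders as `PGL₂(p)`.  Used for S3452.
-/
import Mathlib
import Cfsg.Agent.Lib.Helper13.IsoPSL2E

set_option autoImplicit false

namespace Cfsg.Agent.Lib.Helper13.Iso

open Matrix Polynomial Cfsg.Agent.Lib.Helper13 Cfsg.Agent.Lib.Helper18.PSL2Aut
open Cfsg.Agent.Lib.Helper9.ReeCube

variable {F : Type*} [Field F] [Fintype F]

/-- the spectrum of `Cusp ⋊ PSL₂(p)` -/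
theorem PSL2_aff_spectrum (p : ℕ) [Fact p.Prime] [CharP F p] (hq : Fintype.card F = p) (h5 : 5 ≤ p)
    (t : F) (hord : orderOf (pi (compSL t)) = (p + 1) / 2)
    (hφ : ∀ T ∈ unipFamily F, ∀ x y : ProjectiveSpecialLinearGroup (Fin 2) F,
      ((2 : ℕ) : ℤ) ∣ ∑ u ∈ T, trTemplate t (x * u * y))
    (A : Type*) [AddCommGroup A] (hr : ∀ a : A, 2 • a = 0) (hne : ∃ a : A, a ≠ 0) :
    Set.range (orderOf : Aff (ProjectiveSpecialLinearGroup (Fin 2) F) (Cusp (unipFamily F) A) → ℕ) =
      {m : ℕ | m ∣ p ∨ m ∣ p - 1 ∨ m ∣ p + 1} := by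
  classical
  have hp : p.Prime := Fact.out
  have hp2 : p ≠ 2 := by omega
  have hgcd : Nat.gcd 2 (Fintype.card F - 1) = 2 := (gcd_two_card_sub_one (F := F) p).2 hp2
  obtain ⟨m, hm⟩ : ∃ m, p = 2 * m + 1 := by
    rcases hp.eq_two_or_odd' with h | ⟨k, hk⟩
    · exact absurd h hp2
    · exact ⟨k, hk⟩
  have hm2 : 2 ≤ m := by omega
  have hF2 : (2 : F) ≠ 0 := by
    intro h
    have h1 : ((2 : ℕ) : F) = 0 := by exact_mod_cast h
    rw [CharP.cast_eq_zero_iff F p] at h1
    have := Nat.le_of_dvd (by norm_num) h1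
    omega
  have hcardP : Fintype.card F = 2 * m + 1 := by rw [hq, hm]
  obtain ⟨ht0, hns⟩ := trace_facts p hq h5 t hord
  have ht4 : t ^ 2 ≠ 4 := by
    have := hns 1 one_ne_zero
    intro h
    apply this
    rw [h]; norm_num
  have hfin : ∀ g : ProjectiveSpecialLinearGroup (Fin 2) F, 0 < orderOf g := fun g => orderOf_pos g
  ext n
  simp only [Set.mem_range, Set.mem_ofPred_eq]
  constructor
  · rintro ⟨x, rfl⟩
    have hdvd2 := aff_orderOf_dvd_mul 2 (fun v : Cusp (unipFamily F) A => by
      apply cusp_ext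
      intro z
      change (2 • v).1 z = 0
      rw [AddSubgroup.coe_nsmul, Pi.smul_apply, hr]) x
    rcases PSL2_orderOf_dvd p x.c with h | h | h
    · rcases (Nat.dvd_prime hp).mp h with h1 | h1
      · right; left
        rw [h1, mul_one] at hdvd2
        exact hdvd2.trans ⟨m, by omega⟩
      · left
        obtain ⟨h', s₀, hs₀, hconj⟩ := exists_conj_ub_of_orderOf p hp2 x.c h1
        have hT : (Finset.univ.image (fun s : F => h' * ub s * h'⁻¹)) ∈ unipFamily F := ⟨h', rfl⟩
        have hsub : ∀ u ∈ Finset.univ.image (fun s : F => h' * ub s * h'⁻¹),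
            u ∈ Subgroup.zpowers x.c := by
          intro u hu
          obtain ⟨s, -, rfl⟩ := Finset.mem_image.mp hu
          rw [hconj]
          exact conj_ub_mem_zpowers (by rw [hq]; exact hp) h' s₀ hs₀ s
        have hcard : (Finset.univ.image (fun s : F => h' * ub s * h'⁻¹)).card = p := by
          rw [Finset.card_image_of_injective, Finset.card_univ, hq]
          intro s s' hss
          have hss' : h' * ub s * h'⁻¹ = h' * ub s' * h'⁻¹ := hss
          have h3 : h'⁻¹ * (h' * ub s * h'⁻¹) * h' = h'⁻¹ * (h' * ub s' * h'⁻¹) * h' := by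
            rw [hss']
          have e1 : h'⁻¹ * (h' * ub s * h'⁻¹) * h' = ub s := by group
          have e2 : h'⁻¹ * (h' * ub s' * h'⁻¹) * h' = ub s' := by group
          rw [e1, e2] at h3
          exact ub_injective h3
        have hcop : Nat.Coprime (Finset.univ.image (fun s : F => h' * ub s * h'⁻¹)).card 2 := by
          rw [hcard, hm]
          rw [Nat.coprime_two_right]
          exact ⟨m, rfl⟩
        rw [aff_cusp_orderOf_eq 2 hr x hT hsub hcop, h1]
    · right; left
      rw [hgcd, hcardP] at h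
      have h3 : (2 * m + 1 - 1) / 2 = m := by omega
      rw [h3] at h
      refine hdvd2.trans ?_
      have : p - 1 = 2 * m := by omega
      rw [this]
      exact Nat.mul_dvd_mul_left 2 h
    · right; right
      rw [hgcd, hcardP] at h
      have h3 : (2 * m + 1 + 1) / 2 = m + 1 := by omega
      rw [h3] at h
      refine hdvd2.trans ?_
      have : p + 1 = 2 * (m + 1) := by omega
      rw [this]
      exact Nat.mul_dvd_mul_left 2 h
  · obtain ⟨a, ha⟩ := hne
    rintro (h | h | h)
    · obtain ⟨g, hg⟩ := exists_orderOf_eq_char (F := F) p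
      have h1 : orderOf (Aff.incl g : Aff (ProjectiveSpecialLinearGroup (Fin 2) F)
          (Cusp (unipFamily F) A)) = p := by
        rw [orderOf_injective (Aff.incl : _ →* Aff (ProjectiveSpecialLinearGroup (Fin 2) F)
          (Cusp (unipFamily F) A)) Aff.incl_injective g, hg]
      exact exists_orderOf_eq_of_dvd _ n (h1 ▸ h) (by rw [h1]; exact hp.ne_zero)
    · obtain ⟨ζ, hζ, hζo⟩ := exists_dSL_orderOf (F := F) p (by omega)
      rw [hgcd, hcardP] at hζo
      have h3 : (2 * m + 1 - 1) / 2 = m := by omega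
      rw [h3] at hζo
      have hζ2 : (ζ : F) ^ 2 ≠ 1 := by
        intro h0
        have h1 : ζ ^ 2 = 1 := by
          apply Units.ext
          rw [Units.val_pow_eq_pow_val, h0]
          rfl
        have h2 := orderOf_dvd_of_pow_eq_one h1
        rw [hζ, hcardP] at h2
        have := Nat.le_of_dvd (by norm_num) h2
        omega
      obtain ⟨y, hy⟩ := exists_sum_diag hF2 t ht0 (ζ : F) ζ.ne_zero hζ2 (hfin _)
      have h1 := aff_cusp_orderOf_eq_mul (𝒮 := unipFamily F) 2 Nat.prime_two hr (trTemplate t) hφ a ha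
        (pi (dSL (ζ : F) ζ.ne_zero)) (hfin _) y hy
      rw [hζo] at h1
      have h4 : p - 1 = 2 * m := by omega
      exact exists_orderOf_eq_of_dvd _ n (by rw [h1, ← h4]; exact h) (by rw [h1]; omega)
    · obtain ⟨y, hy⟩ := exists_sum_comp hF2 t ht0 ht4 (hfin _)
      have h1 := aff_cusp_orderOf_eq_mul (𝒮 := unipFamily F) 2 Nat.prime_two hr (trTemplate t) hφ a ha
        (pi (compSL t)) (hfin _) y hy
      rw [hord] at h1
      have h4 : 2 * ((p + 1) / 2) = p + 1 := by omega
      rw [h4] at h1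
      exact exists_orderOf_eq_of_dvd _ n (by rw [h1]; exact h) (by rw [h1]; omega)

/-- arbitrarily large groups with the spectrum of `PGL₂(p)`, `p ≥ 5` prime -/
theorem large_PGL2_prime (hp : (Fintype.card F).Prime) (h5 : 5 ≤ Fintype.card F) (N : ℕ) :
    ∃ (H : Type) (_ : Group H) (_ : Fintype H), N < Fintype.card H ∧
      Set.range (orderOf : H → ℕ) =
        {m : ℕ | m ∣ Fintype.card F ∨ m ∣ Fintype.card F - 1 ∨ m ∣ Fintype.card F + 1} := by
  have : Fact (Fintype.card F).Prime := ⟨hp⟩
  have : CharP F (Fintype.card F) := charP_of_card_prime hp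
  have hp2 : Fintype.card F ≠ 2 := by omega
  have hgcd : Nat.gcd 2 (Fintype.card F - 1) = 2 :=
    (gcd_two_card_sub_one (F := F) (Fintype.card F)).2 hp2
  obtain ⟨t, ht⟩ := exists_compSL_orderOf (F := F) (Fintype.card F)
  rw [hgcd] at ht
  obtain ⟨ht0, hns⟩ := trace_facts (Fintype.card F) rfl h5 t ht
  have hF2 : (2 : F) ≠ 0 := by
    intro h
    have h1 : ((2 : ℕ) : F) = 0 := by exact_mod_cast h
    rw [CharP.cast_eq_zero_iff F (Fintype.card F)] at h1
    have := Nat.le_of_dvd (by norm_num) h1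
    omega
  have hφ := trTemplate_cusp hF2 t ht0 hns
  have htr : trTemplate t (pi (compSL t)) = 1 := by
    unfold trTemplate
    rw [if_pos]
    rw [trsq_pi, compSL_coe]
    simp
  apply exists_large_of_spectrum 2 Nat.prime_two (trTemplate t) hφ (pi (compSL t)) htr _ _ N
  intro B _ _ hr hne
  exact PSL2_aff_spectrum (Fintype.card F) rfl h5 t ht hφ B hr hne

end Cfsg.Agent.Lib.Helper13.Iso
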