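/-
helper13: S4651 leaf B0 (`card_mul_card_block_eq`): Brauer's count by subsections (S4511) in element
form: `|G| k(β) = ∑ over p-elements u of |C_G(u)| Lam_β(C_G(u))`.
Class invariance of `Lam β (Cz u)` by swapping one representative in S4511.
-/
import Mathlib
import Cfsg.Agent.Lib.Helper24.KRDefs
import Cfsg.Agent.S4511
import Cfsg.Agent.Lib.Helper16.KleinSCC
import Cfsg.Agent.Lib.Helper21.ClassSize

set_option autoImplicit false

namespace Cfsg.Agent.Lib.Helper13.KRB0

open Cfsg Cfsg.Agent.Lib.Helper24.KR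

universe u

variable {G : Type u} [Group G] [Finite G] {p : ℕ} [hpp : Fact p.Prime] {M : Ideal AlgInt}

/-- S4511 with the inner sums written as `Lam`. -/
theorem card_eq_sum_Lam (hM : IsPModular p M) (β : Set (IrrCharacter G)) (hβ : IsPBlock M β)
    (X : Finset G) (hX : ∀ x ∈ X, ∃ k : ℕ, orderOf x = p ^ k)
    (hXrep : ∀ g : G, (∃ k : ℕ, orderOf g = p ^ k) → ∃! x, x ∈ X ∧ IsConj g x) :
    Nat.card β = ∑ x ∈ X, Lam p M β (Cz x) :=
  Cfsg.Agent.S4511.result p M hM β hβ X hX hXrep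

theorem isPElt_of_isConj {a b : G} (h : IsConj a b) (ha : ∃ k : ℕ, orderOf a = p ^ k) :
    ∃ k : ℕ, orderOf b = p ^ k := by
  obtain ⟨k, hk⟩ := ha
  exact ⟨k, by rw [← Cfsg.Agent.Lib.Helper16.KleinSCC.orderOf_eq_of_isConj h, hk]⟩

/-- Swapping a representative. -/
theorem Lam_Cz_eq_rep (hM : IsPModular p M) (β : Set (IrrCharacter G)) (hβ : IsPBlock M β)
    (X : Finset G) (hX : ∀ x ∈ X, ∃ k : ℕ, orderOf x = p ^ k)
    (hXrep : ∀ g : G, (∃ k : ℕ, orderOf g = p ^ k) → ∃! x, x ∈ X ∧ IsConj g x)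
    (u x₀ : G) (hx₀ : x₀ ∈ X) (hux : IsConj u x₀) :
    Lam p M β (Cz u) = Lam p M β (Cz x₀) := by
  classical
  have hu : ∃ k : ℕ, orderOf u = p ^ k := isPElt_of_isConj hux.symm (hX x₀ hx₀)
  have hunot : u ∉ X.erase x₀ := by
    intro h
    rw [Finset.mem_erase] at h
    obtain ⟨y, _, hy⟩ := hXrep u hu
    have h1 := hy u ⟨h.2, IsConj.refl u⟩
    have h2 := hy x₀ ⟨hx₀, hux⟩
    exact h.1 (h1.trans h2.symm)
  have hX' : ∀ x ∈ insert u (X.erase x₀), ∃ k : ℕ, orderOf x = p ^ k := by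
    intro x hx
    rw [Finset.mem_insert] at hx
    rcases hx with rfl | hx
    · exact hu
    · exact hX x (Finset.mem_of_mem_erase hx)
  have hXrep' : ∀ g : G, (∃ k : ℕ, orderOf g = p ^ k) →
      ∃! x, x ∈ insert u (X.erase x₀) ∧ IsConj g x := by
    intro g hg
    obtain ⟨y, ⟨hyX, hgy⟩, hy⟩ := hXrep g hg
    by_cases hgu : IsConj g u
    · refine ⟨u, ⟨Finset.mem_insert_self _ _, hgu⟩, ?_⟩
      rintro z ⟨hz, hgz⟩
      rw [Finset.mem_insert] at hz
      rcases hz with rfl | hz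
      · rfl
      · exfalso
        rw [Finset.mem_erase] at hz
        have h1 := hy z ⟨hz.2, hgz⟩
        have h2 := hy x₀ ⟨hx₀, hgu.trans hux⟩
        exact hz.1 (h1.trans h2.symm)
    · have hyne : y ≠ x₀ := by
        rintro rfl
        exact hgu (hgy.trans hux.symm)
      refine ⟨y, ⟨Finset.mem_insert_of_mem (Finset.mem_erase.mpr ⟨hyne, hyX⟩), hgy⟩, ?_⟩
      rintro z ⟨hz, hgz⟩
      rw [Finset.mem_insert] at hz
      rcases hz with rfl | hz
      · exact absurd hgz hgu
      · exact hy z ⟨Finset.mem_of_mem_erase hz, hgz⟩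
  have h1 := card_eq_sum_Lam hM β hβ X hX hXrep
  have h2 := card_eq_sum_Lam hM β hβ _ hX' hXrep'
  rw [Finset.sum_insert hunot] at h2
  rw [← Finset.add_sum_erase X _ hx₀] at h1
  omega

/-- Class invariance of `Lam β (Cz u)`. -/
theorem Lam_Cz_eq_of_isConj (hM : IsPModular p M) (β : Set (IrrCharacter G)) (hβ : IsPBlock M β)
    (u x : G) (hu : ∃ k : ℕ, orderOf u = p ^ k) (hux : IsConj u x) :
    Lam p M β (Cz u) = Lam p M β (Cz x) := by
  classical
  let _ : Fintype G := Fintype.ofFinite G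
  obtain ⟨X, hX, hXrep⟩ := Cfsg.Agent.Lib.Helper16.KleinSCC.exists_pElement_reps (G := G) p
  obtain ⟨x₀, ⟨hx₀, hux₀⟩, _⟩ := hXrep u hu
  rw [Lam_Cz_eq_rep hM β hβ X hX hXrep u x₀ hx₀ hux₀,
    Lam_Cz_eq_rep hM β hβ X hX hXrep x x₀ hx₀ (hux.symm.trans hux₀)]

theorem card_Cz_eq_of_isConj {u x : G} (hux : IsConj u x) :
    Nat.card (Cz u) = Nat.card (Cz x) := by
  have h1 := Cfsg.Agent.Lib.Helper21.index_centralizer_eq_ncard_setOf_isConj u
  have h2 := Cfsg.Agent.Lib.Helper21.index_centralizer_eq_ncard_setOf_isConj x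
  have hset : {h : G | IsConj u h} = {h : G | IsConj x h} := by
    ext h
    exact ⟨fun hh => hux.symm.trans hh, fun hh => hux.trans hh⟩
  have hidx : (Cz u).index = (Cz x).index := by
    show (Subgroup.centralizer ({u} : Set G)).index = (Subgroup.centralizer ({x} : Set G)).index
    rw [h1, h2, hset]
  have e1 := Subgroup.card_mul_index (Cz u)
  have e2 := Subgroup.card_mul_index (Cz x)
  have hpos : 0 < (Cz x).index := Nat.pos_of_ne_zero (Subgroup.index_ne_zero_of_finite)
  rw [hidx] at e1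
  exact Nat.eq_of_mul_eq_mul_right hpos (e1.trans e2.symm)

/-- (B0) Brauer's count by subsections (S4511) in element form. -/
theorem card_mul_card_block_eq (hM : IsPModular p M) (β : Set (IrrCharacter G))
    (hβ : IsPBlock M β) :
    Nat.card G * Nat.card β =
      ∑ᶠ u ∈ {u : G | ∃ k : ℕ, orderOf u = p ^ k}, Nat.card (Cz u) * Lam p M β (Cz u) := by
  classical
  let _ : Fintype G := Fintype.ofFinite G
  obtain ⟨X, hX, hXrep⟩ := Cfsg.Agent.Lib.Helper16.KleinSCC.exists_pElement_reps (G := G) p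
  rw [card_eq_sum_Lam hM β hβ X hX hXrep, Finset.mul_sum]
  rw [finsum_mem_eq_finite_toFinset_sum _ (Set.toFinite _)]
  have hunion : (Set.toFinite {u : G | ∃ k : ℕ, orderOf u = p ^ k}).toFinset =
      X.biUnion (fun x => Finset.univ.filter (fun u => IsConj x u)) := by
    ext u
    simp only [Set.Finite.mem_toFinset, Set.mem_setOf_eq, Finset.mem_biUnion, Finset.mem_filter,
      Finset.mem_univ, true_and]
    constructor
    · intro hu
      obtain ⟨x, ⟨hx, hux⟩, _⟩ := hXrep u hu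
      exact ⟨x, hx, hux.symm⟩
    · rintro ⟨x, hx, hxu⟩
      exact isPElt_of_isConj hxu (hX x hx)
  rw [hunion, Finset.sum_biUnion]
  · apply Finset.sum_congr rfl
    intro x hx
    have hconst : ∀ u ∈ Finset.univ.filter (fun u => IsConj x u),
        Nat.card (Cz u) * Lam p M β (Cz u) = Nat.card (Cz x) * Lam p M β (Cz x) := by
      intro u hu
      rw [Finset.mem_filter] at hu
      rw [card_Cz_eq_of_isConj hu.2.symm,
        Lam_Cz_eq_of_isConj hM β hβ u x (isPElt_of_isConj hu.2 (hX x hx)) hu.2.symm]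
    rw [Finset.sum_congr rfl hconst, Finset.sum_const, smul_eq_mul]
    have hcard : (Finset.univ.filter (fun u => IsConj x u)).card = (Cz x).index := by
      rw [show (Cz x).index = {h : G | IsConj x h}.ncard from
        Cfsg.Agent.Lib.Helper21.index_centralizer_eq_ncard_setOf_isConj x]
      rw [Set.ncard_eq_toFinset_card']
      congr 1
      ext u
      simp
    rw [hcard, ← mul_assoc, mul_comm (Cz x).index, Subgroup.card_mul_index]
  · intro x hx y hy hxy
    rw [Function.onFun, Finset.disjoint_left]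
    intro u hux huy
    rw [Finset.mem_filter] at hux huy
    apply hxy
    have hu : ∃ k : ℕ, orderOf u = p ^ k := isPElt_of_isConj hux.2 (hX x hx)
    obtain ⟨z, _, hz⟩ := hXrep u hu
    exact (hz x ⟨hx, hux.2.symm⟩).trans (hz y ⟨hy, huy.2.symm⟩).symm

end Cfsg.Agent.Lib.Helper13.KRB0
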