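/-
helper13: S4651 leaf LB (`local_count`), `_of` form over B1 (`finsum_Lam_nested`) and
B2 (`card_indChars`, `blockRank_indChars`); B0 (`Helper13.KRB0`) is plugged in.

`|H| (k(b_H) - l(b_H)) = ∑ over p-elements 1 ≠ u ∈ H of |C_G(u) ⊓ H| Lam_b(C_G(u) ⊓ H)`.
-/
import Mathlib
import Cfsg.Agent.Lib.Helper24.KRDefs
import Cfsg.Agent.Lib.Helper13.KRB0

set_option autoImplicit false

namespace Cfsg.Agent.Lib.Helper13.KRLB

open Cfsg Cfsg.Agent.Lib.Helper24.KR

universe u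

variable {G : Type u} [Group G] [Finite G] {p : ℕ} [hpp : Fact p.Prime] {M : Ideal AlgInt}

theorem Cz_subtype_eq (H : Subgroup G) (u : H) : Cz u = (Cz (u : G)).subgroupOf H := by
  ext x
  rw [Subgroup.mem_subgroupOf, Subgroup.mem_centralizer_singleton_iff,
    Subgroup.mem_centralizer_singleton_iff]
  constructor
  · intro h
    have := congrArg Subtype.val h
    simpa using this
  · intro h
    apply Subtype.ext
    simpa using h

theorem card_Cz_subtype (H : Subgroup G) (u : H) :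
    Nat.card (Cz u) = Nat.card (Cz (u : G) ⊓ H : Subgroup G) := by
  rw [Cz_subtype_eq, ← Subgroup.inf_subgroupOf_right]
  exact Nat.card_congr (Subgroup.subgroupOfEquivOfLe inf_le_right).toEquiv

/-- (LB), natural number form, against B1 and B2a. -/
theorem local_count_nat_of (hM : IsPModular p M) (b : Set (IrrCharacter G)) (H : Subgroup G)
    (hB1 : ∀ (u : H), (∃ k : ℕ, orderOf u = p ^ k) →
      ∑ᶠ β ∈ {β : Set (IrrCharacter H) | IsInducedBlock M H β b}, Lam p M β (Cz u) =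
        Lam p M b (Cz (u : G) ⊓ H))
    (hB2a : Nat.card (indChars M b H) =
      ∑ᶠ β ∈ {β : Set (IrrCharacter H) | IsInducedBlock M H β b}, Nat.card β) :
    Nat.card H * Nat.card (indChars M b H) =
      ∑ᶠ u ∈ {u : G | u ∈ H ∧ ∃ k : ℕ, orderOf u = p ^ k},
        Nat.card (Cz u ⊓ H : Subgroup G) * Lam p M b (Cz u ⊓ H) := by
  classical
  have hfinB : {β : Set (IrrCharacter H) | IsInducedBlock M H β b}.Finite := Set.toFinite _
  have hfinP : {u : H | ∃ k : ℕ, orderOf u = p ^ k}.Finite := Set.toFinite _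
  -- B0 in the group H for every block inducing b
  have h0 : ∀ β ∈ {β : Set (IrrCharacter H) | IsInducedBlock M H β b},
      Nat.card H * Nat.card β =
        ∑ᶠ u ∈ {u : H | ∃ k : ℕ, orderOf u = p ^ k}, Nat.card (Cz u) * Lam p M β (Cz u) :=
    fun β hβ => Cfsg.Agent.Lib.Helper13.KRB0.card_mul_card_block_eq hM β hβ.1
  rw [hB2a, mul_finsum_mem, finsum_mem_congr rfl h0, finsum_mem_comm _ hfinB hfinP]
  have h1 : ∀ u ∈ {u : H | ∃ k : ℕ, orderOf u = p ^ k},
      ∑ᶠ β ∈ {β : Set (IrrCharacter H) | IsInducedBlock M H β b},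
        Nat.card (Cz u) * Lam p M β (Cz u) =
      Nat.card (Cz (u : G) ⊓ H : Subgroup G) * Lam p M b (Cz (u : G) ⊓ H) := by
    intro u hu
    rw [← mul_finsum_mem, hB1 u hu, card_Cz_subtype]
  rw [finsum_mem_congr rfl h1]
  have himg : {u : G | u ∈ H ∧ ∃ k : ℕ, orderOf u = p ^ k} =
      Subtype.val '' {u : H | ∃ k : ℕ, orderOf u = p ^ k} := by
    ext g
    simp only [Set.mem_setOf_eq, Set.mem_image]
    constructor
    · rintro ⟨hg, k, hk⟩
      exact ⟨⟨g, hg⟩, ⟨k, by rw [← hk]; exact Subgroup.orderOf_mk g hg⟩, rfl⟩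
    · rintro ⟨u, ⟨k, hk⟩, rfl⟩
      exact ⟨u.2, k, by rw [← hk]; exact (Subgroup.orderOf_coe u)⟩
  rw [himg, finsum_mem_image Subtype.val_injective.injOn]

/-- (LB), against B1, B2a, B2b as hypotheses. -/
theorem local_count_of (hM : IsPModular p M) (b : Set (IrrCharacter G)) (H : Subgroup G)
    (hB1 : ∀ (u : H), (∃ k : ℕ, orderOf u = p ^ k) →
      ∑ᶠ β ∈ {β : Set (IrrCharacter H) | IsInducedBlock M H β b}, Lam p M β (Cz u) =
        Lam p M b (Cz (u : G) ⊓ H))
    (hB2a : Nat.card (indChars M b H) =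
      ∑ᶠ β ∈ {β : Set (IrrCharacter H) | IsInducedBlock M H β b}, Nat.card β)
    (hB2b : blockRank p (indChars M b H) = Lam p M b H) :
    (Nat.card H : ℤ) * ((Nat.card (indChars M b H) : ℤ) - (blockRank p (indChars M b H) : ℤ)) =
      ∑ᶠ u ∈ {u : G | u ∈ H ∧ u ≠ 1 ∧ ∃ k : ℕ, orderOf u = p ^ k},
        (Nat.card (Cz u ⊓ H : Subgroup G) : ℤ) * (Lam p M b (Cz u ⊓ H) : ℤ) := by
  classical
  have hnat := local_count_nat_of hM b H hB1 hB2a
  have hfinS : {u : G | u ∈ H ∧ u ≠ 1 ∧ ∃ k : ℕ, orderOf u = p ^ k}.Finite := Set.toFinite _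
  have hins : {u : G | u ∈ H ∧ ∃ k : ℕ, orderOf u = p ^ k} =
      insert 1 {u : G | u ∈ H ∧ u ≠ 1 ∧ ∃ k : ℕ, orderOf u = p ^ k} := by
    ext g
    simp only [Set.mem_setOf_eq, Set.mem_insert_iff]
    constructor
    · rintro ⟨hg, hk⟩
      by_cases h1 : g = 1
      · exact Or.inl h1
      · exact Or.inr ⟨hg, h1, hk⟩
    · rintro (rfl | ⟨hg, _, hk⟩)
      · exact ⟨H.one_mem, 0, by simp⟩
      · exact ⟨hg, hk⟩
  have hnotin : (1 : G) ∉ {u : G | u ∈ H ∧ u ≠ 1 ∧ ∃ k : ℕ, orderOf u = p ^ k} := by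
    intro h
    exact h.2.1 rfl
  rw [hins, finsum_mem_insert _ hnotin hfinS] at hnat
  have hone : Cz (1 : G) ⊓ H = H := by
    have : Cz (1 : G) = ⊤ := by
      ext x
      simp [Subgroup.mem_centralizer_singleton_iff]
    rw [this, top_inf_eq]
  rw [hone, ← hB2b] at hnat
  have hcast := congrArg (fun n : ℕ => (n : ℤ)) hnat
  simp only [Nat.cast_mul, Nat.cast_add] at hcast
  rw [Nat.cast_finsum_mem hfinS] at hcast
  simp only [Nat.cast_mul] at hcast
  rw [mul_sub, hcast]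
  ring

end Cfsg.Agent.Lib.Helper13.KRLB
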