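/-
helper13: the normalizer of a self-centralizing Klein four-subgroup has no element of order `6`.
-/
import Mathlib

set_option autoImplicit false

namespace Cfsg.Agent.Lib.Helper13

section general

variable {G : Type*} [Group G]

theorem klein_mul_self (V : Subgroup G) (hV : IsKleinFour V) (u : G) (hu : u ∈ V) : u * u = 1 := by
  have := IsKleinFour.mul_self (⟨u, hu⟩ : V)
  exact congrArg Subtype.val this

theorem klein_enumerate (V : Subgroup G) (hV : IsKleinFour V) (v : G) (hv : v ∈ V) (hv1 : v ≠ 1) :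
    ∃ w ∈ V, w ≠ 1 ∧ w ≠ v ∧ ∀ u ∈ V, u = 1 ∨ u = v ∨ u = w ∨ u = v * w := by
  classical
  have : Finite V := Nat.finite_of_card_ne_zero (by rw [hV.card_four]; norm_num)
  have : Fintype V := Fintype.ofFinite V
  have hcard : (Finset.univ : Finset V).card = 4 := by
    rw [Finset.card_univ, ← Nat.card_eq_fintype_card, hV.card_four]
  have hlt : ({1, ⟨v, hv⟩} : Finset V).card < (Finset.univ : Finset V).card := by
    rw [hcard]
    exact lt_of_le_of_lt (Finset.card_le_two) (by norm_num)
  obtain ⟨w, -, hw⟩ := Finset.exists_mem_notMem_of_card_lt_card hlt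
  rw [Finset.mem_insert, Finset.mem_singleton, not_or] at hw
  have hv1' : (⟨v, hv⟩ : V) ≠ 1 := fun h => hv1 (congrArg Subtype.val h)
  refine ⟨(w : G), w.2, fun h => hw.1 (Subtype.ext h), fun h => hw.2 (Subtype.ext h), ?_⟩
  intro u hu
  by_cases h1 : u = 1
  · exact Or.inl h1
  by_cases h2 : u = v
  · exact Or.inr (Or.inl h2)
  by_cases h3 : u = (w : G)
  · exact Or.inr (Or.inr (Or.inl h3))
  right; right; right
  have := IsKleinFour.eq_mul_of_ne_all (x := (⟨v, hv⟩ : V)) (y := w) (z := ⟨u, hu⟩) hv1' hw.1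
    (fun h => hw.2 h.symm) (fun h => h1 (congrArg Subtype.val h))
    (fun h => h2 (congrArg Subtype.val h)) (fun h => h3 (congrArg Subtype.val h))
  exact congrArg Subtype.val this

theorem conj_mem_of_mem_normalizer (V : Subgroup G) (n u : G)
    (hn : n ∈ Subgroup.normalizer (V : Set G)) (hu : u ∈ V) : n * u * n⁻¹ ∈ V :=
  ((Subgroup.mem_normalizer_iff.mp hn) u).mp hu

/-- An element of order `3` normalizing a self-centralizing Klein four-group fixes no involution
of it. -/
theorem klein_no_fixed_point (V : Subgroup G) (hV : IsKleinFour V)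
    (hC : Subgroup.centralizer (V : Set G) = V) (c : G)
    (hcN : c ∈ Subgroup.normalizer (V : Set G)) (hc3 : c * c * c = 1) (hc2 : c * c ≠ 1)
    (v : G) (hv : v ∈ V) (hv1 : v ≠ 1) : c * v * c⁻¹ ≠ v := by
  intro hcv
  obtain ⟨w, hw, hw1, hwv, hall⟩ := klein_enumerate V hV v hv hv1
  have hw'V := conj_mem_of_mem_normalizer V c w hcN hw
  have hconj_mul : ∀ a b : G, c * (a * b) * c⁻¹ = (c * a * c⁻¹) * (c * b * c⁻¹) := by
    intro a b; group
  rcases hall _ hw'V with h | h | h | h
  · apply hw1
    have : w = c⁻¹ * (c * w * c⁻¹) * c := by group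
    rw [this, h]; group
  · apply hwv
    have : w = c⁻¹ * v * c := by rw [← h]; group
    rw [this]
    calc c⁻¹ * v * c = c⁻¹ * (c * v * c⁻¹) * c := by rw [hcv]
      _ = v := by group
  · -- `c` centralizes `V`
    have hcC : c ∈ Subgroup.centralizer (V : Set G) := by
      rw [Subgroup.mem_centralizer_iff]
      intro u hu
      have hu' : c * u * c⁻¹ = u := by
        rcases hall u hu with h' | h' | h' | h'
        · rw [h']; group
        · rw [h']; exact hcv
        · rw [h']; exact h
        · rw [h', hconj_mul, hcv, h]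
      calc u * c = (c * u * c⁻¹) * c := by rw [hu']
        _ = c * u := by group
    rw [hC] at hcC
    exact hc2 (klein_mul_self V hV c hcC)
  · have hvv := klein_mul_self V hV v hv
    have h2 : c * (c * w * c⁻¹) * c⁻¹ = w := by
      rw [h, hconj_mul, hcv, h, ← mul_assoc, hvv, one_mul]
    have h3 : c * (c * (c * w * c⁻¹) * c⁻¹) * c⁻¹ = w := by
      calc c * (c * (c * w * c⁻¹) * c⁻¹) * c⁻¹ = (c * c * c) * w * (c * c * c)⁻¹ := by group
        _ = w := by rw [hc3]; group
    rw [h2, h] at h3
    apply hv1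
    have : v * w = 1 * w := by rw [h3, one_mul]
    exact mul_right_cancel this

/-- The normalizer of a self-centralizing Klein four-subgroup has no element of order `6`. -/
theorem orderOf_ne_six_of_mem_normalizer_klein (V : Subgroup G) (hV : IsKleinFour V)
    (hC : Subgroup.centralizer (V : Set G) = V) (g : G)
    (hgN : g ∈ Subgroup.normalizer (V : Set G)) : orderOf g ≠ 6 := by
  intro h6
  have hg6 : g ^ 6 = 1 := by rw [← h6]; exact pow_orderOf_eq_one g
  have hpow_ne : ∀ k, 0 < k → k < 6 → g ^ k ≠ 1 := by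
    intro k hk0 hk6
    exact pow_ne_one_of_lt_orderOf hk0.ne' (by rw [h6]; exact hk6)
  set c := g ^ 2 with hc
  set t := g ^ 3 with ht
  have hcN : c ∈ Subgroup.normalizer (V : Set G) := pow_mem hgN 2
  have htN : t ∈ Subgroup.normalizer (V : Set G) := pow_mem hgN 3
  have hc3 : c * c * c = 1 := by
    rw [hc, ← pow_add, ← pow_add]; exact hg6
  have hc2 : c * c ≠ 1 := by
    rw [hc, ← pow_add]; exact hpow_ne 4 (by norm_num) (by norm_num)
  have ht2 : t * t = 1 := by
    rw [ht, ← pow_add]; exact hg6
  have ht1 : t ≠ 1 := hpow_ne 3 (by norm_num) (by norm_num)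
  have hct : c * t = t * c := by
    rw [hc, ht, ← pow_add, ← pow_add]
  have hcinv : c⁻¹ = c * c := by
    rw [inv_eq_iff_mul_eq_one, ← mul_assoc]; exact hc3
  have hfix := klein_no_fixed_point V hV hC c hcN hc3 hc2
  -- `c⁻¹ = c²` fixes no involution either
  have hfix' : ∀ v ∈ V, v ≠ 1 → c * c * v * (c * c)⁻¹ ≠ v := by
    intro v hv hv1 h
    apply hfix v hv hv1
    have : c * v * c⁻¹ = c * (c * c * v * (c * c)⁻¹) * c⁻¹ := by rw [h]
    rw [this]
    calc c * (c * c * v * (c * c)⁻¹) * c⁻¹ = (c * c * c) * v * (c * c * c)⁻¹ := by group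
      _ = v := by rw [hc3]; group
  -- `t` centralizes `V`
  have htC : t ∈ Subgroup.centralizer (V : Set G) := by
    rw [Subgroup.mem_centralizer_iff]
    intro v hv
    by_cases hv1 : v = 1
    · rw [hv1, one_mul, mul_one]
    have hv₁V := conj_mem_of_mem_normalizer V c v hcN hv
    have hv₁1 : c * v * c⁻¹ ≠ 1 := by
      intro h
      apply hv1
      have : v = c⁻¹ * (c * v * c⁻¹) * c := by group
      rw [this, h]; group
    have hv₁v : c * v * c⁻¹ ≠ v := hfix v hv hv1
    obtain ⟨w, hw, hw1, hwv, hall⟩ := klein_enumerate V hV v hv hv1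
    have htvV := conj_mem_of_mem_normalizer V t v htN hv
    -- the three involutions are `v`, `c v c⁻¹`, `c² v c⁻²`
    have hv₂V := conj_mem_of_mem_normalizer V (c * c) v (mul_mem hcN hcN) hv
    have hv₂v : c * c * v * (c * c)⁻¹ ≠ v := hfix' v hv hv1
    have hv₂v₁ : c * c * v * (c * c)⁻¹ ≠ c * v * c⁻¹ := by
      intro h
      apply hfix v hv hv1
      have : c * v * c⁻¹ = c⁻¹ * (c * c * v * (c * c)⁻¹) * c := by group
      rw [this, h]; group
    have hv₂1 : c * c * v * (c * c)⁻¹ ≠ 1 := by
      intro h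
      apply hv1
      have : v = (c * c)⁻¹ * (c * c * v * (c * c)⁻¹) * (c * c) := by group
      rw [this, h]; group
    have htv1 : t * v * t⁻¹ ≠ 1 := by
      intro h
      apply hv1
      have : v = t⁻¹ * (t * v * t⁻¹) * t := by group
      rw [this, h]; group
    -- every involution of `V` is one of the three
    have hthree : ∀ u ∈ V, u ≠ 1 → u = v ∨ u = c * v * c⁻¹ ∨ u = c * c * v * (c * c)⁻¹ := by
      intro u hu hu1
      by_contra hcon
      push Not at hcon
      obtain ⟨hcon1, hcon2, hcon3⟩ := hcon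
      -- `u`, `v₁`, `v₂` are all `≠ 1, ≠ v`; with `w`: all equal to `w` or `v w`
      have key : ∀ y ∈ V, y ≠ 1 → y ≠ v → y = w ∨ y = v * w := by
        intro y hy hy1 hyv
        rcases hall y hy with h | h | h | h
        · exact absurd h hy1
        · exact absurd h hyv
        · exact Or.inl h
        · exact Or.inr h
      rcases key u hu hu1 hcon1 with h1 | h1 <;>
      rcases key _ hv₁V hv₁1 hv₁v with h2 | h2 <;>
      rcases key _ hv₂V hv₂1 hv₂v with h3 | h3
      · exact hcon2 (h1.trans h2.symm)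
      · exact hcon2 (h1.trans h2.symm)
      · exact hcon3 (h1.trans h3.symm)
      · exact hv₂v₁ (h3.trans h2.symm)
      · exact hv₂v₁ (h3.trans h2.symm)
      · exact hcon3 (h1.trans h3.symm)
      · exact hcon2 (h1.trans h2.symm)
      · exact hcon2 (h1.trans h2.symm)
    have hgoal : t * v * t⁻¹ = v := by
      rcases hthree _ htvV htv1 with h | h | h
      · exact h
      · exfalso
        -- `u = c⁻¹ t` centralizes `v`, and `u² = c`
        have hu : (c⁻¹ * t) * v * (c⁻¹ * t)⁻¹ = v := by
          calc (c⁻¹ * t) * v * (c⁻¹ * t)⁻¹ = c⁻¹ * (t * v * t⁻¹) * c := by group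
            _ = v := by rw [h]; group
        have huu : (c⁻¹ * t) * (c⁻¹ * t) = c := by
          have hct' : t * c⁻¹ = c⁻¹ * t := by
            rw [eq_inv_mul_iff_mul_eq, ← mul_assoc, hct, mul_assoc, mul_inv_cancel, mul_one]
          calc (c⁻¹ * t) * (c⁻¹ * t) = c⁻¹ * (t * c⁻¹) * t := by group
            _ = c⁻¹ * (c⁻¹ * t) * t := by rw [hct']
            _ = c⁻¹ * c⁻¹ * (t * t) := by group
            _ = c := by rw [ht2, mul_one, hcinv]; rw [mul_assoc, ← mul_assoc c c c, hc3, mul_one]
        apply hfix v hv hv1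
        rw [← huu]
        calc (c⁻¹ * t) * (c⁻¹ * t) * v * ((c⁻¹ * t) * (c⁻¹ * t))⁻¹
            = (c⁻¹ * t) * ((c⁻¹ * t) * v * (c⁻¹ * t)⁻¹) * (c⁻¹ * t)⁻¹ := by group
          _ = v := by rw [hu, hu]
      · exfalso
        -- `u = c t` centralizes `v` (as `c = (c²)⁻¹`), and `u² = c²`
        have hu : (c * t) * v * (c * t)⁻¹ = v := by
          calc (c * t) * v * (c * t)⁻¹ = c * (t * v * t⁻¹) * c⁻¹ := by group
            _ = (c * c * c) * v * (c * c * c)⁻¹ := by rw [h]; group
            _ = v := by rw [hc3]; group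
        have huu : (c * t) * (c * t) = c * c := by
          calc (c * t) * (c * t) = c * (t * c) * t := by group
            _ = c * (c * t) * t := by rw [hct]
            _ = c * c * (t * t) := by group
            _ = c * c := by rw [ht2, mul_one]
        apply hfix' v hv hv1
        rw [← huu]
        calc (c * t) * (c * t) * v * ((c * t) * (c * t))⁻¹
            = (c * t) * ((c * t) * v * (c * t)⁻¹) * (c * t)⁻¹ := by group
          _ = v := by rw [hu, hu]
    calc v * t = (t * v * t⁻¹) * t := by rw [hgoal]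
      _ = t * v := by group
  rw [hC] at htC
  apply hfix t htC ht1
  rw [hct, mul_inv_cancel_right]

end general

end Cfsg.Agent.Lib.Helper13
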