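import Mathlib

set_option autoImplicit false
set_option linter.unusedSectionVars false

/-! Counting lemma for sesquilinear forms over a finite field with `σ a = a ^ q`: a set of matrices
containing a non-zero matrix and closed under `U ↦ hᵀ U h^σ`, for a family of matrices `h` transitive on the
non-zero vectors and containing the transvections fixing `e₀`, has at least `(|F|^m - 1)/(q+1)` elements. -/

namespace Cfsg.Agent.Lib.Helper13.LSU

open Matrix

section form

variable {F : Type*} [Field F] {ι : Type*} [Fintype ι] (σ : F →+* F)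

/-- the sesquilinear form `v U σ(w)` of a matrix -/
def B (U : Matrix ι ι F) (v w : ι → F) : F := v ⬝ᵥ (U *ᵥ (σ ∘ w))

theorem B_add_left (U : Matrix ι ι F) (v v' w : ι → F) :
    B σ U (v + v') w = B σ U v w + B σ U v' w := by
  rw [B, B, B, add_dotProduct]

theorem B_smul_left (U : Matrix ι ι F) (a : F) (v w : ι → F) :
    B σ U (a • v) w = a * B σ U v w := by
  rw [B, B, smul_dotProduct, smul_eq_mul]

theorem comp_add (w w' : ι → F) : σ ∘ (w + w') = σ ∘ w + σ ∘ w' := by
  ext i; simp

theorem comp_smul (a : F) (w : ι → F) : σ ∘ (a • w) = σ a • (σ ∘ w) := by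
  ext i; simp

theorem B_add_right (U : Matrix ι ι F) (v w w' : ι → F) :
    B σ U v (w + w') = B σ U v w + B σ U v w' := by
  rw [B, B, B, comp_add, mulVec_add, dotProduct_add]

theorem B_smul_right (U : Matrix ι ι F) (a : F) (v w : ι → F) :
    B σ U v (a • w) = σ a * B σ U v w := by
  rw [B, B, comp_smul, mulVec_smul, dotProduct_smul, smul_eq_mul]

theorem comp_mulVec (h : Matrix ι ι F) (w : ι → F) : σ ∘ (h *ᵥ w) = h.map σ *ᵥ (σ ∘ w) := by
  ext i
  simp [mulVec, dotProduct, map_sum]

theorem B_act (h U : Matrix ι ι F) (v w : ι → F) :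
    B σ (hᵀ * U * h.map σ) v w = B σ U (h *ᵥ v) (h *ᵥ w) := by
  rw [B, B, comp_mulVec, ← mulVec_mulVec, ← mulVec_mulVec, dotProduct_mulVec, vecMul_transpose]

theorem B_zero_left (U : Matrix ι ι F) (w : ι → F) : B σ U 0 w = 0 := by
  rw [B, zero_dotProduct]

variable [DecidableEq ι]

theorem comp_single (j : ι) : σ ∘ (Pi.single j (1 : F)) = Pi.single j 1 := by
  ext i
  by_cases h : i = j
  · subst h; simp
  · simp [Pi.single_eq_of_ne h]

theorem B_single (U : Matrix ι ι F) (i j : ι) :
    B σ U (Pi.single i 1) (Pi.single j 1) = U i j := by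
  rw [B, comp_single, mulVec_single_one, single_one_dotProduct]
  rfl

/-- polarisation: a non-zero matrix has a non-isotropic vector -/
theorem exists_B_ne_zero (hex : ∃ a, σ a ≠ a) {U : Matrix ι ι F} (hU : U ≠ 0) :
    ∃ v, B σ U v v ≠ 0 := by
  by_contra hcon
  push Not at hcon
  apply hU
  have hd : ∀ i, U i i = 0 := fun i => by rw [← B_single σ U i i]; exact hcon _
  obtain ⟨a, ha⟩ := hex
  ext i j
  by_cases hij : i = j
  · subst hij; exact hd i
  · have key : ∀ b : F, σ b * U i j + b * U j i = 0 := by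
      intro b
      have h1 := hcon (Pi.single i 1 + b • Pi.single j 1)
      rw [B_add_left, B_add_right, B_add_right, B_smul_left, B_smul_left, B_smul_right,
        B_smul_right, B_single, B_single, B_single, B_single, hd i, hd j] at h1
      linear_combination h1
    have h1 := key 1
    have h2 := key a
    rw [map_one, one_mul, one_mul] at h1
    have h3 : (σ a - a) * U i j = 0 := by linear_combination h2 - a * h1
    rcases mul_eq_zero.mp h3 with h4 | h4
    · exact absurd (sub_eq_zero.mp h4) ha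
    · exact h4

end form


section count

variable {F : Type*} [Field F] {m : ℕ} (σ : F →+* F)

/-- the first basis vector -/
def e0 : Fin (m + 1) → F := Pi.single 0 1

theorem e0_dot (r : Fin (m + 1) → F) : (e0 : Fin (m + 1) → F) ⬝ᵥ r = r 0 := by
  rw [e0, single_dotProduct, one_mul]

theorem dot_e0 (r : Fin (m + 1) → F) : r ⬝ᵥ (e0 : Fin (m + 1) → F) = r 0 := by
  rw [e0, dotProduct_single, mul_one]

/-- the transvections fixing `e₀` -/
def tv (z : Fin m → F) : Matrix (Fin (m + 1)) (Fin (m + 1)) F :=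
  1 + vecMulVec e0 (Fin.cons 0 z)

theorem tv_mulVec (z : Fin m → F) (x : Fin (m + 1) → F) :
    tv z *ᵥ x = x + ((Fin.cons 0 z : Fin (m + 1) → F) ⬝ᵥ x) • e0 := by
  rw [tv, add_mulVec, one_mulVec, vecMulVec_mulVec]
  ext i
  simp [mul_comm]

theorem tv_mulVec_e0 (z : Fin m → F) : tv z *ᵥ (e0 : Fin (m + 1) → F) = e0 := by
  rw [tv_mulVec, dot_e0, Fin.cons_zero, zero_smul, add_zero]

theorem tv_mulVec_single_succ (z : Fin m → F) (j : Fin m) :
    tv z *ᵥ (Pi.single j.succ 1 : Fin (m + 1) → F) = Pi.single j.succ 1 + z j • e0 := by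
  rw [tv_mulVec, dotProduct_single, mul_one, Fin.cons_succ]

theorem det_tv (z : Fin m → F) : (tv z).det = 1 := by
  rw [tv, vecMulVec_eq (ι := Unit), det_one_add_replicateCol_mul_replicateRow, dot_e0,
    Fin.cons_zero, add_zero]

theorem tv_act_zero_zero (U : Matrix (Fin (m + 1)) (Fin (m + 1)) F) (z : Fin m → F) :
    ((tv z)ᵀ * U * (tv z).map σ) 0 0 = U 0 0 := by
  rw [← B_single σ ((tv z)ᵀ * U * (tv z).map σ) 0 0, B_act, show (Pi.single 0 1 : Fin (m + 1) → F) = e0 from rfl, tv_mulVec_e0,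
    e0, B_single]

theorem tv_act_zero_succ (U : Matrix (Fin (m + 1)) (Fin (m + 1)) F) (z : Fin m → F) (j : Fin m) :
    ((tv z)ᵀ * U * (tv z).map σ) 0 j.succ = U 0 j.succ + σ (z j) * U 0 0 := by
  rw [← B_single σ ((tv z)ᵀ * U * (tv z).map σ) 0 j.succ, B_act, show (Pi.single 0 1 : Fin (m + 1) → F) = e0 from rfl,
    tv_mulVec_e0, tv_mulVec_single_succ, B_add_right, B_smul_right, e0, B_single, B_single]

theorem tv_act_injective {U : Matrix (Fin (m + 1)) (Fin (m + 1)) F} (hU : U 0 0 ≠ 0) :
    Function.Injective (fun z : Fin m → F => (tv z)ᵀ * U * (tv z).map σ) := by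
  intro z z' h
  ext j
  have h1 := congrFun (congrFun h 0) j.succ
  simp only [tv_act_zero_succ] at h1
  have h2 : σ (z j) = σ (z' j) := by
    have := add_left_cancel h1
    exact mul_right_cancel₀ hU this
  exact σ.injective h2

theorem cons_eq (a : F) (z : Fin m → F) :
    (Fin.cons a z : Fin (m + 1) → F) = a • e0 + Fin.cons 0 z := by
  ext i
  refine Fin.cases ?_ (fun j => ?_) i
  · simp [e0]
  · simp [e0]

variable [Fintype F] [DecidableEq F]

open Polynomial in
/-- the number of solutions on a line -/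
theorem card_fiber_le {q : ℕ} (hσ : ∀ a, σ a = a ^ q) (hq : 1 ≤ q)
    (U : Matrix (Fin (m + 1)) (Fin (m + 1)) F) (hU : U 0 0 ≠ 0) (c : F) (z : Fin m → F) :
    (Finset.univ.filter (fun a : F => B σ U (Fin.cons a z) (Fin.cons a z) = c)).card ≤ q + 1 := by
  set w : Fin (m + 1) → F := Fin.cons 0 z with hw
  set p : F[X] := C (U 0 0) * X ^ (q + 1) + C (B σ U w e0) * X ^ q + C (B σ U e0 w) * X +
    C (B σ U w w - c) with hp
  have hdeg : p.natDegree ≤ q + 1 := by
    rw [hp]
    compute_degree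
  have hcoeff : p.coeff (q + 1) = U 0 0 := by
    rw [hp]
    simp only [coeff_add, coeff_C_mul, coeff_X_pow, coeff_X, coeff_C]
    have h4 : q ≠ 0 := by omega
    simp [h4]
  have hp0 : p ≠ 0 := by
    intro h
    rw [h, coeff_zero] at hcoeff
    exact hU hcoeff.symm
  have heval : ∀ a : F, B σ U (Fin.cons a z) (Fin.cons a z) - c = p.eval a := by
    intro a
    rw [cons_eq, B_add_left, B_add_right, B_add_right, B_smul_left, B_smul_left, B_smul_right,
      B_smul_right, hσ a, hp]
    simp only [eval_add, eval_mul, eval_C, eval_pow, eval_X]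
    have : B σ U (e0 : Fin (m + 1) → F) e0 = U 0 0 := B_single σ U 0 0
    rw [this, ← hw]
    ring
  refine le_trans (card_le_degree_of_subset_roots (p := p) ?_) hdeg
  intro a ha
  rw [Finset.mem_val, Finset.mem_filter] at ha
  rw [mem_roots hp0, IsRoot, ← heval, ha.2, sub_self]

/-- the number of vectors of given norm -/
theorem card_norm_le {q : ℕ} (hσ : ∀ a, σ a = a ^ q) (hq : 1 ≤ q)
    (U : Matrix (Fin (m + 1)) (Fin (m + 1)) F) (hU : U 0 0 ≠ 0) (c : F) :
    (Finset.univ.filter (fun v : Fin (m + 1) → F => B σ U v v = c)).card ≤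
      (q + 1) * Fintype.card F ^ m := by
  classical
  set s := Finset.univ.filter (fun v : Fin (m + 1) → F => B σ U v v = c) with hs
  have h1 := Finset.card_le_mul_card_image (f := fun v : Fin (m + 1) → F => Fin.tail v) s (q + 1)
    (by
      intro z _
      have h2 : ((s.filter (fun v => Fin.tail v = z)).image (fun v => v 0)) ⊆
          Finset.univ.filter (fun a : F => B σ U (Fin.cons a z) (Fin.cons a z) = c) := by
        intro a ha
        obtain ⟨v, hv, rfl⟩ := Finset.mem_image.mp ha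
        rw [Finset.mem_filter] at hv
        obtain ⟨hv1, hv2⟩ := hv
        rw [hs, Finset.mem_filter] at hv1
        rw [Finset.mem_filter]
        refine ⟨Finset.mem_univ _, ?_⟩
        rw [← hv2, Fin.cons_self_tail]
        exact hv1.2
      have h3 : (s.filter (fun v => Fin.tail v = z)).card =
          ((s.filter (fun v => Fin.tail v = z)).image (fun v => v 0)).card := by
        rw [Finset.card_image_of_injOn]
        intro v hv v' hv' h
        rw [Finset.mem_coe, Finset.mem_filter] at hv hv'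
        have e1 : Fin.tail v = Fin.tail v' := by rw [hv.2, hv'.2]
        rw [← Fin.cons_self_tail v, ← Fin.cons_self_tail v', e1]
        exact congrArg (fun a => (Fin.cons a (Fin.tail v') : Fin (m + 1) → F)) h
      rw [h3]
      exact le_trans (Finset.card_le_card h2) (card_fiber_le σ hσ hq U hU c z))
  refine le_trans h1 (Nat.mul_le_mul_left _ ?_)
  refine le_trans (Finset.card_le_univ _) ?_
  rw [Fintype.card_fun, Fintype.card_fin]


/-- the counting lemma -/
theorem card_bound {q : ℕ} (hσ : ∀ a, σ a = a ^ q) (hq : 1 ≤ q) (hex : ∃ a, σ a ≠ a)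
    (Hp : Matrix (Fin (m + 1)) (Fin (m + 1)) F → Prop)
    (hT : ∀ v : Fin (m + 1) → F, v ≠ 0 → ∃ h h' : Matrix (Fin (m + 1)) (Fin (m + 1)) F,
      h * h' = 1 ∧ h' * h = 1 ∧ Hp h ∧ Hp h' ∧ h *ᵥ e0 = v)
    (hR : ∀ z : Fin m → F, Hp (tv z))
    (W : Finset (Matrix (Fin (m + 1)) (Fin (m + 1)) F))
    (hW : ∀ U ∈ W, ∀ h, Hp h → hᵀ * U * h.map σ ∈ W)
    (U₀ : Matrix (Fin (m + 1)) (Fin (m + 1)) F) (hU₀ : U₀ ∈ W) (hne : U₀ ≠ 0) :
    Fintype.card F ^ (m + 1) - 1 ≤ (q + 1) * W.card := by
  classical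
  obtain ⟨v₀, hv₀⟩ := exists_B_ne_zero σ hex hne
  set c₀ := B σ U₀ v₀ v₀ with hc₀
  have hv₀0 : v₀ ≠ 0 := by
    intro h
    apply hv₀
    rw [hc₀, h, B_zero_left]
  -- a member with `U 0 0 = c₀`
  obtain ⟨h₀, h₀', -, -, hH₀, -, hh₀⟩ := hT v₀ hv₀0
  set U₂ := h₀ᵀ * U₀ * h₀.map σ with hU₂
  have hU₂W : U₂ ∈ W := hW U₀ hU₀ h₀ hH₀
  have hU₂0 : U₂ 0 0 = c₀ := by
    rw [← B_single σ U₂ 0 0, hU₂, B_act, show (Pi.single 0 1 : Fin (m + 1) → F) = e0 from rfl, hh₀]
  set N₀ := W.filter (fun U => U 0 0 = c₀) with hN₀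
  have hN₀card : Fintype.card F ^ m ≤ N₀.card := by
    have h1 : Finset.card (Finset.univ : Finset (Fin m → F)) ≤ N₀.card := by
      apply Finset.card_le_card_of_injOn (fun z => (tv z)ᵀ * U₂ * (tv z).map σ)
      · intro z _
        rw [hN₀, Finset.mem_coe, Finset.mem_filter]
        exact ⟨hW U₂ hU₂W _ (hR z), by beta_reduce; rw [tv_act_zero_zero, hU₂0]⟩
      · intro z _ z' _ h
        exact tv_act_injective σ (by rw [hU₂0]; exact hv₀) h
    rwa [Finset.card_univ, Fintype.card_fun, Fintype.card_fin] at h1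
  -- lower bound for each non-zero vector
  have hlow : ∀ v : Fin (m + 1) → F, v ≠ 0 →
      Fintype.card F ^ m ≤ (W.filter (fun U => B σ U v v = c₀)).card := by
    intro v hv
    obtain ⟨h, h', hhh', hh'h, hH, hH', hhv⟩ := hT v hv
    refine le_trans hN₀card ?_
    apply Finset.card_le_card_of_injOn (fun U => h'ᵀ * U * h'.map σ)
    · intro U hU
      rw [hN₀, Finset.mem_coe, Finset.mem_filter] at hU
      rw [Finset.mem_coe, Finset.mem_filter]
      beta_reduce
      refine ⟨hW U hU.1 h' hH', ?_⟩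
      have h1 : h' *ᵥ v = e0 := by
        rw [← hhv, mulVec_mulVec, hh'h, one_mulVec]
      rw [B_act, h1, e0, B_single, hU.2]
    · intro U _ U' _ hUU'
      have h1 : ∀ V : Matrix (Fin (m + 1)) (Fin (m + 1)) F,
          hᵀ * (h'ᵀ * V * h'.map σ) * h.map σ = V := by
        intro V
        have e1 : hᵀ * h'ᵀ = 1 := by rw [← transpose_mul, hh'h, transpose_one]
        have e2 : h'.map σ * h.map σ = 1 := by
          rw [← Matrix.map_mul, hh'h]
          exact Matrix.map_one σ (map_zero σ) (map_one σ)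
        calc hᵀ * (h'ᵀ * V * h'.map σ) * h.map σ
            = (hᵀ * h'ᵀ) * V * (h'.map σ * h.map σ) := by simp only [Matrix.mul_assoc]
          _ = V := by rw [e1, e2, Matrix.one_mul, Matrix.mul_one]
      have h2 := congrArg (fun V => hᵀ * V * h.map σ) hUU'
      simp only [h1] at h2
      exact h2
  -- upper bound for each member
  have hup : ∀ U ∈ W, ((Finset.univ.filter (fun v : Fin (m + 1) → F => v ≠ 0)).filter
      (fun v => B σ U v v = c₀)).card ≤ (q + 1) * Fintype.card F ^ m := by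
    intro U _
    by_cases hemp : ∃ v₁, B σ U v₁ v₁ = c₀
    · obtain ⟨v₁, hv₁⟩ := hemp
      have hv₁0 : v₁ ≠ 0 := by
        intro h
        apply hv₀
        rw [← hv₁, h, B_zero_left]
      obtain ⟨h, h', hhh', hh'h, -, -, hhv⟩ := hT v₁ hv₁0
      set U' := hᵀ * U * h.map σ with hU'
      have hU'0 : U' 0 0 ≠ 0 := by
        rw [← B_single σ U' 0 0, hU', B_act, show (Pi.single 0 1 : Fin (m + 1) → F) = e0 from rfl,
          hhv, hv₁]
        exact hv₀
      refine le_trans ?_ (card_norm_le σ hσ hq U' hU'0 c₀)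
      apply Finset.card_le_card_of_injOn (fun v => h' *ᵥ v)
      · intro v hv
        rw [Finset.mem_coe, Finset.mem_filter] at hv
        rw [Finset.mem_coe, Finset.mem_filter]
        beta_reduce
        refine ⟨Finset.mem_univ _, ?_⟩
        rw [hU', B_act, mulVec_mulVec, hhh', one_mulVec]
        exact hv.2
      · intro v _ v' _ hvv'
        have h2 := congrArg (fun x => h *ᵥ x) hvv'
        simp only [mulVec_mulVec, hhh', one_mulVec] at h2
        exact h2
    · push Not at hemp
      have : ((Finset.univ.filter (fun v : Fin (m + 1) → F => v ≠ 0)).filter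
          (fun v => B σ U v v = c₀)) = ∅ := by
        rw [Finset.filter_eq_empty_iff]
        intro v _
        exact hemp v
      rw [this, Finset.card_empty]
      exact Nat.zero_le _
  -- double counting
  have hdc := Finset.sum_card_bipartiteAbove_eq_sum_card_bipartiteBelow
    (s := Finset.univ.filter (fun v : Fin (m + 1) → F => v ≠ 0)) (t := W)
    (fun v U => B σ U v v = c₀)
  have h1 : (Fintype.card F ^ (m + 1) - 1) * Fintype.card F ^ m ≤
      ∑ v ∈ Finset.univ.filter (fun v : Fin (m + 1) → F => v ≠ 0),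
        (W.filter (fun U => B σ U v v = c₀)).card := by
    have h2 : (Finset.univ.filter (fun v : Fin (m + 1) → F => v ≠ 0)).card =
        Fintype.card F ^ (m + 1) - 1 := by
      rw [Finset.filter_ne' Finset.univ (0 : Fin (m + 1) → F),
        Finset.card_erase_of_mem (Finset.mem_univ _), Finset.card_univ, Fintype.card_fun,
        Fintype.card_fin]
    rw [← h2, ← smul_eq_mul, ← Finset.sum_const]
    apply Finset.sum_le_sum
    intro v hv
    exact hlow v (Finset.mem_filter.mp hv).2
  have h3 : ∑ U ∈ W, ((Finset.univ.filter (fun v : Fin (m + 1) → F => v ≠ 0)).filter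
      (fun v => B σ U v v = c₀)).card ≤ W.card * ((q + 1) * Fintype.card F ^ m) := by
    rw [← smul_eq_mul, ← Finset.sum_const]
    exact Finset.sum_le_sum hup
  have h4 : (Fintype.card F ^ (m + 1) - 1) * Fintype.card F ^ m ≤
      ((q + 1) * W.card) * Fintype.card F ^ m := by
    calc (Fintype.card F ^ (m + 1) - 1) * Fintype.card F ^ m
        ≤ _ := h1
      _ = _ := hdc
      _ ≤ W.card * ((q + 1) * Fintype.card F ^ m) := h3
      _ = ((q + 1) * W.card) * Fintype.card F ^ m := by ring
  exact Nat.le_of_mul_le_mul_right h4 (pow_pos Fintype.card_pos m)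

end count


section trans

open scoped LinearAlgebra.Projectivization

variable {F : Type*} [Field F] {m : ℕ}

/-- `SL` is transitive on the non-zero vectors in dimension at least two -/
theorem exists_sl_mulVec_e0 (v : Fin (m + 1 + 1) → F) (hv : v ≠ 0) :
    ∃ h : Matrix.SpecialLinearGroup (Fin (m + 1 + 1)) F,
      (h : Matrix (Fin (m + 1 + 1)) (Fin (m + 1 + 1)) F) *ᵥ e0 = v := by
  classical
  have h2 : MulAction.IsMultiplyPretransitive (Matrix.SpecialLinearGroup (Fin (m + 1 + 1)) F)
      (ℙ F (Fin (m + 1 + 1) → F)) 2 := inferInstance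
  have h1 : MulAction.IsPretransitive (Matrix.SpecialLinearGroup (Fin (m + 1 + 1)) F)
      (ℙ F (Fin (m + 1 + 1) → F)) := MulAction.isPretransitive_of_is_two_pretransitive
  have he0 : (e0 : Fin (m + 1 + 1) → F) ≠ 0 := by
    intro h
    have := congrFun h 0
    simp [e0] at this
  obtain ⟨k, hk⟩ := MulAction.exists_smul_eq (Matrix.SpecialLinearGroup (Fin (m + 1 + 1)) F)
    (Projectivization.mk F (e0 : Fin (m + 1 + 1) → F) he0) (Projectivization.mk F v hv)
  rw [Projectivization.smul_mk, Projectivization.mk_eq_mk_iff] at hk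
  obtain ⟨a, ha⟩ := hk
  have ha' : (k : Matrix (Fin (m + 1 + 1)) (Fin (m + 1 + 1)) F) *ᵥ e0 = (a : F) • v := ha.symm
  let f : Fin (m + 1 + 1) → F := Fin.cons (a : F)⁻¹ (Fin.cons (a : F) (fun _ => 1))
  have hdet : (Matrix.diagonal f).det = 1 := by
    rw [Matrix.det_diagonal, Fin.prod_univ_succ, Fin.prod_univ_succ]
    simp only [f, Fin.cons_zero, Fin.cons_succ, Finset.prod_const_one, mul_one]
    exact inv_mul_cancel₀ a.ne_zero
  let dd : Matrix.SpecialLinearGroup (Fin (m + 1 + 1)) F := ⟨Matrix.diagonal f, hdet⟩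
  refine ⟨k * dd, ?_⟩
  rw [Matrix.SpecialLinearGroup.coe_mul, ← mulVec_mulVec]
  have h6 : Matrix.diagonal f *ᵥ (e0 : Fin (m + 1 + 1) → F) = (a : F)⁻¹ • e0 := by
    ext i
    rw [mulVec_diagonal, e0, Pi.smul_apply, smul_eq_mul]
    by_cases hi : i = 0
    · subst hi; simp [f]
    · simp [Pi.single_eq_of_ne hi]
  show (k : Matrix (Fin (m + 1 + 1)) (Fin (m + 1 + 1)) F) *ᵥ (Matrix.diagonal f *ᵥ e0) = v
  rw [h6, mulVec_smul, ha', smul_smul, inv_mul_cancel₀ a.ne_zero, one_smul]

/-- transitivity hypothesis of the counting lemma for matrices of determinant one -/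
theorem trans_sl (v : Fin (m + 1 + 1) → F) (hv : v ≠ 0) :
    ∃ h h' : Matrix (Fin (m + 1 + 1)) (Fin (m + 1 + 1)) F,
      h * h' = 1 ∧ h' * h = 1 ∧ h.det = 1 ∧ h'.det = 1 ∧ h *ᵥ e0 = v := by
  obtain ⟨g, hg⟩ := exists_sl_mulVec_e0 v hv
  refine ⟨g, (g⁻¹ : Matrix.SpecialLinearGroup (Fin (m + 1 + 1)) F), ?_, ?_, g.2, (g⁻¹).2, hg⟩
  · rw [← Matrix.SpecialLinearGroup.coe_mul, mul_inv_cancel, Matrix.SpecialLinearGroup.coe_one]
  · rw [← Matrix.SpecialLinearGroup.coe_mul, inv_mul_cancel, Matrix.SpecialLinearGroup.coe_one]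

end trans

end Cfsg.Agent.Lib.Helper13.LSU
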