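import Mathlib
import Cfsg.Agent.Lib.Helper16.FusSUA

set_option autoImplicit false
set_option linter.unusedSectionVars false

/-! Siegel elements `[[1, S], [0, 1]]` and Levi elements `[[g, 0], [0, g^{-*}]]` of the special unitary group
`UJ σ (m + m)` of the antidiagonal hermitian form (helper16), in block form. -/

namespace Cfsg.Agent.Lib.Helper13.LSU

open Matrix Cfsg.Agent.Lib.Helper16.FusSU

variable {K : Type*} [Field K] {m : ℕ} (σ : K →+* K)

/-- the index bijection pairing `inl i` with the reversed index `inr i` -/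
def eI (m : ℕ) : Fin m ⊕ Fin m ≃ Fin (m + m) :=
  (Equiv.sumCongr (Equiv.refl _) Fin.revPerm).trans finSumFinEquiv

theorem eI_rev (a : Fin m ⊕ Fin m) : (eI m a).rev = eI m a.swap := by
  rcases a with i | i
  · apply Fin.ext
    simp [eI, Fin.rev]
    omega
  · apply Fin.ext
    simp [eI, Fin.rev]
    omega

/-- conjugate transpose -/
def ct (M : Matrix (Fin m) (Fin m) K) : Matrix (Fin m) (Fin m) K := (M.map σ)ᵀ

theorem ct_apply (M : Matrix (Fin m) (Fin m) K) (i j : Fin m) : ct σ M i j = σ (M j i) := rfl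

theorem ct_mul (A B : Matrix (Fin m) (Fin m) K) : ct σ (A * B) = ct σ B * ct σ A := by
  rw [ct, ct, ct, Matrix.map_mul, transpose_mul]

theorem ct_one : ct σ (1 : Matrix (Fin m) (Fin m) K) = 1 := by
  rw [ct, Matrix.map_one σ (map_zero σ) (map_one σ), transpose_one]

theorem ct_zero : ct σ (0 : Matrix (Fin m) (Fin m) K) = 0 := by
  ext i j; simp [ct_apply]

theorem ct_add (A B : Matrix (Fin m) (Fin m) K) : ct σ (A + B) = ct σ A + ct σ B := by
  ext i j; simp [ct_apply]

theorem ct_sub (A B : Matrix (Fin m) (Fin m) K) : ct σ (A - B) = ct σ A - ct σ B := by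
  ext i j; simp [ct_apply]

theorem ct_ct (hσ : ∀ x, σ (σ x) = x) (A : Matrix (Fin m) (Fin m) K) : ct σ (ct σ A) = A := by
  ext i j; simp [ct_apply, hσ]

theorem det_ct (A : Matrix (Fin m) (Fin m) K) : (ct σ A).det = σ A.det := by
  rw [ct, det_transpose]
  exact (RingHom.map_det σ A).symm

/-- block matrices transported to `Fin (m + m)` -/
def blk (A B C D : Matrix (Fin m) (Fin m) K) : Matrix (Fin (m + m)) (Fin (m + m)) K :=
  (fromBlocks A B C D).submatrix (eI m).symm (eI m).symm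

theorem blk_mul (A B C D A' B' C' D' : Matrix (Fin m) (Fin m) K) :
    blk A B C D * blk A' B' C' D' =
      blk (A * A' + B * C') (A * B' + B * D') (C * A' + D * C') (C * B' + D * D') := by
  rw [blk, blk, blk, submatrix_mul_equiv, fromBlocks_multiply]

theorem blk_one : blk (1 : Matrix (Fin m) (Fin m) K) 0 0 1 = 1 := by
  rw [blk, fromBlocks_one, submatrix_one_equiv]

theorem blk_apply (A B C D : Matrix (Fin m) (Fin m) K) (a b : Fin m ⊕ Fin m) :
    blk A B C D (eI m a) (eI m b) = fromBlocks A B C D a b := by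
  simp [blk]

theorem adj_blk (A B C D : Matrix (Fin m) (Fin m) K) :
    adj σ (blk A B C D) = blk (ct σ D) (ct σ B) (ct σ C) (ct σ A) := by
  ext i j
  obtain ⟨a, rfl⟩ := (eI m).surjective i
  obtain ⟨b, rfl⟩ := (eI m).surjective j
  rw [adj_apply, eI_rev, eI_rev, blk_apply, blk_apply]
  rcases a with i | i <;> rcases b with j | j <;> simp [ct_apply]

theorem det_blk_upper (A B D : Matrix (Fin m) (Fin m) K) : (blk A B 0 D).det = A.det * D.det := by
  rw [blk, det_submatrix_equiv_self, det_fromBlocks_zero₂₁]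

theorem blk_inj {A B C D A' B' C' D' : Matrix (Fin m) (Fin m) K}
    (h : blk A B C D = blk A' B' C' D') : A = A' ∧ B = B' ∧ C = C' ∧ D = D' := by
  have h1 : fromBlocks A B C D = fromBlocks A' B' C' D' := by
    ext a b
    rw [← blk_apply, ← blk_apply, h]
  exact fromBlocks_inj.mp h1

/-- Siegel elements in `SL` -/
def XEs (S : Matrix (Fin m) (Fin m) K) : SpecialLinearGroup (Fin (m + m)) K :=
  ⟨blk 1 S 0 1, by rw [det_blk_upper, det_one, mul_one]⟩

/-- Siegel elements -/
def XE (S : Matrix (Fin m) (Fin m) K) (hS : S + ct σ S = 0) : UJ σ (m + m) :=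
  ⟨XEs S, mem_UJ.2 (by
    show blk 1 S 0 1 * adj σ (blk 1 S 0 1) = 1
    rw [adj_blk, blk_mul, ct_one, ct_zero]
    simp only [Matrix.mul_one, Matrix.one_mul, Matrix.mul_zero, Matrix.zero_mul, add_zero, zero_add]
    rw [add_comm (ct σ S) S, hS, blk_one])⟩

theorem XE_coe (S : Matrix (Fin m) (Fin m) K) (hS : S + ct σ S = 0) :
    ((XE σ S hS : SpecialLinearGroup (Fin (m + m)) K) : Matrix (Fin (m + m)) (Fin (m + m)) K) =
      blk 1 S 0 1 := rfl

theorem XE_mul (S S' : Matrix (Fin m) (Fin m) K) (hS : S + ct σ S = 0) (hS' : S' + ct σ S' = 0)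
    (hSS' : (S + S') + ct σ (S + S') = 0) : XE σ (S + S') hSS' = XE σ S hS * XE σ S' hS' := by
  apply Subtype.ext
  apply Subtype.ext
  show blk 1 (S + S') 0 1 = blk 1 S 0 1 * blk 1 S' 0 1
  rw [blk_mul]
  simp [add_comm]

theorem XE_zero (h0 : (0 : Matrix (Fin m) (Fin m) K) + ct σ 0 = 0) : XE σ 0 h0 = 1 := by
  apply Subtype.ext
  apply Subtype.ext
  show blk 1 0 0 1 = 1
  exact blk_one

theorem XE_congr {S S' : Matrix (Fin m) (Fin m) K} (h : S = S') (hS : S + ct σ S = 0)
    (hS' : S' + ct σ S' = 0) : XE σ S hS = XE σ S' hS' := by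
  subst h; rfl

/-- Levi elements in `SL` -/
def LEs (g h : Matrix (Fin m) (Fin m) K) (hdet : g.det * σ h.det = 1) :
    SpecialLinearGroup (Fin (m + m)) K :=
  ⟨blk g 0 0 (ct σ h), by rw [det_blk_upper, det_ct, hdet]⟩

/-- Levi elements -/
def LE (hσ : ∀ x, σ (σ x) = x) (g h : Matrix (Fin m) (Fin m) K) (hhg : h * g = 1)
    (hdet : g.det * σ h.det = 1) : UJ σ (m + m) :=
  ⟨LEs σ g h hdet, mem_UJ.2 (by
    show blk g 0 0 (ct σ h) * adj σ (blk g 0 0 (ct σ h)) = 1
    rw [adj_blk, blk_mul, ct_ct σ hσ, ct_zero]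
    simp only [Matrix.mul_zero, Matrix.zero_mul, add_zero, zero_add]
    rw [← ct_mul, mul_eq_one_comm.mp hhg, ct_one, blk_one])⟩

theorem LE_mul_XE (hσ : ∀ x, σ (σ x) = x) (g h : Matrix (Fin m) (Fin m) K) (hhg : h * g = 1)
    (hdet : g.det * σ h.det = 1) (S : Matrix (Fin m) (Fin m) K) (hS : S + ct σ S = 0)
    (hS' : g * S * ct σ g + ct σ (g * S * ct σ g) = 0) :
    LE σ hσ g h hhg hdet * XE σ S hS = XE σ (g * S * ct σ g) hS' * LE σ hσ g h hhg hdet := by
  apply Subtype.ext
  apply Subtype.ext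
  show blk g 0 0 (ct σ h) * blk 1 S 0 1 = blk 1 (g * S * ct σ g) 0 1 * blk g 0 0 (ct σ h)
  rw [blk_mul, blk_mul]
  have : g * S * ct σ g * ct σ h = g * S := by
    rw [Matrix.mul_assoc (g * S), ← ct_mul, hhg, ct_one, Matrix.mul_one]
  simp [this]

/-- a Siegel element which is a scalar matrix is trivial -/
theorem XE_scalar (S : Matrix (Fin m) (Fin m) K) (hS : S + ct σ S = 0) (c : K)
    (h : ((XE σ S hS : SpecialLinearGroup (Fin (m + m)) K) : Matrix (Fin (m + m)) (Fin (m + m)) K) =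
      c • 1) : S = 0 := by
  rw [XE_coe] at h
  ext i j
  have h1 := congrFun (congrFun h (eI m (Sum.inl i))) (eI m (Sum.inr j))
  rw [blk_apply, fromBlocks_apply₁₂, Matrix.smul_apply, Matrix.one_apply_ne, smul_zero] at h1
  · exact h1
  · intro h2
    have := (eI m).injective h2
    simp at this

end Cfsg.Agent.Lib.Helper13.LSU
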