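import Mathlib
import Cfsg.Agent.Lib.Helper13.LSUCount
import Cfsg.Agent.Lib.Helper13.LSUEven
import Cfsg.Agent.Lib.Helper15.OrbitBound
import Cfsg.Agent.Lib.Helper16.FusSUM
import Cfsg.Agent.S2392

set_option autoImplicit false
set_option linter.unusedSectionVars false

/-! Landazuri–Seitz bound for `SU_{2d}(q)`: a homomorphism to `GL_k(K')` in cross characteristic with central
kernel has `q^(2d) - 1 ≤ (q + 1) k`. -/

namespace Cfsg.Agent.Lib.Helper13.LSU

open Matrix Cfsg.Agent.Lib.Helper15.OrbitBound Cfsg.Agent.Lib.Helper16.FusSU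

open Cfsg.Agent.Lib.Helper5.HermBridge (frobHom)

section mat

variable {K : Type*} [Field K] {d : ℕ} (σ : K →+* K)

/-- matrices from functions on pairs -/
def toM (v : Fin d × Fin d → K) : Matrix (Fin d) (Fin d) K := Matrix.of fun i j => v (i, j)

/-- functions on pairs from matrices -/
def ofM (M : Matrix (Fin d) (Fin d) K) : Fin d × Fin d → K := fun p => M p.1 p.2

theorem toM_ofM (M : Matrix (Fin d) (Fin d) K) : toM (ofM M) = M := rfl

theorem ofM_toM (v : Fin d × Fin d → K) : ofM (toM v) = v := rfl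

theorem toM_add (v w : Fin d × Fin d → K) : toM (v + w) = toM v + toM w := rfl

theorem toM_zero : toM (0 : Fin d × Fin d → K) = 0 := rfl

theorem toM_injective : Function.Injective (toM : (Fin d × Fin d → K) → Matrix (Fin d) (Fin d) K) := by
  intro v w h
  rw [← ofM_toM v, h, ofM_toM]

theorem dot_eq_trace (u v : Fin d × Fin d → K) : u ⬝ᵥ v = trace ((toM u)ᵀ * toM v) := by
  rw [dotProduct, Fintype.sum_prod_type, Finset.sum_comm, trace]
  apply Finset.sum_congr rfl
  intro j _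
  rw [diag_apply, Matrix.mul_apply]
  rfl

/-- the skew-hermitian part -/
def sk (M : Matrix (Fin d) (Fin d) K) : Matrix (Fin d) (Fin d) K := M - ct σ M

theorem sk_skew (hσ : ∀ x, σ (σ x) = x) (M : Matrix (Fin d) (Fin d) K) :
    sk σ M + ct σ (sk σ M) = 0 := by
  rw [sk, ct_sub, ct_ct σ hσ]
  abel

theorem sk_add (M N : Matrix (Fin d) (Fin d) K) : sk σ (M + N) = sk σ M + sk σ N := by
  rw [sk, sk, sk, ct_add]
  abel

theorem sk_zero : sk σ (0 : Matrix (Fin d) (Fin d) K) = 0 := by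
  rw [sk, ct_zero, sub_zero]

theorem sk_conj (hσ : ∀ x, σ (σ x) = x) (g M : Matrix (Fin d) (Fin d) K) :
    g * sk σ M * ct σ g = sk σ (g * M * ct σ g) := by
  rw [sk, sk, ct_mul, ct_mul, ct_ct σ hσ, Matrix.mul_sub, Matrix.sub_mul, Matrix.mul_assoc g (ct σ M)]

/-- the abelian group of Siegel elements, parametrised by all matrices -/
def XV (hσ : ∀ x, σ (σ x) = x) (v : Fin d × Fin d → K) : UJ σ (d + d) :=
  XE σ (sk σ (toM v)) (sk_skew σ hσ _)

theorem XV_add (hσ : ∀ x, σ (σ x) = x) (v w : Fin d × Fin d → K) :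
    XV σ hσ (v + w) = XV σ hσ v * XV σ hσ w := by
  rw [XV, XV, XV, ← XE_mul σ _ _ _ _ (by rw [← sk_add]; exact sk_skew σ hσ _)]
  exact XE_congr σ (by rw [toM_add, sk_add]) _ _

theorem XV_zero (hσ : ∀ x, σ (σ x) = x) : XV σ hσ (0 : Fin d × Fin d → K) = 1 := by
  rw [XV, ← XE_zero σ (by rw [ct_zero, add_zero])]
  exact XE_congr σ (by rw [toM_zero, sk_zero]) _ _

theorem LE_mul_XV (hσ : ∀ x, σ (σ x) = x) (g h : Matrix (Fin d) (Fin d) K) (hhg : h * g = 1)
    (hdet : g.det * σ h.det = 1) (v : Fin d × Fin d → K) :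
    LE σ hσ g h hhg hdet * XV σ hσ v =
      XV σ hσ (ofM (g * toM v * ct σ g)) * LE σ hσ g h hhg hdet := by
  rw [XV, XV, LE_mul_XE σ hσ g h hhg hdet _ _ (by rw [sk_conj σ hσ]; exact sk_skew σ hσ _)]
  congr 1
  exact XE_congr σ (by rw [toM_ofM, sk_conj σ hσ]) _ _

end mat


section main

variable {F : Type*} [Field F] [Fintype F] {q : ℕ}

theorem frob_ne (hF : Fintype.card F = q ^ 2) : ∃ a : F, frobHom hF a ≠ a := by
  classical
  by_contra hcon
  push Not at hcon
  have hq2 : 2 ≤ q := by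
    have h1 : 1 < Fintype.card F := Fintype.one_lt_card
    rw [hF] at h1
    by_contra h
    have : q ≤ 1 := by omega
    have : q ^ 2 ≤ 1 := by
      calc q ^ 2 ≤ 1 ^ 2 := Nat.pow_le_pow_left this 2
        _ = 1 := one_pow 2
    omega
  have h1 : Fintype.card F ≤ q := by
    have h2 : (Finset.univ : Finset F).val ⊆ (Polynomial.X ^ q - Polynomial.X : Polynomial F).roots := by
      intro a _
      have hne : (Polynomial.X ^ q - Polynomial.X : Polynomial F) ≠ 0 :=
        FiniteField.X_pow_card_sub_X_ne_zero F (by omega)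
      rw [Polynomial.mem_roots hne, Polynomial.IsRoot, Polynomial.eval_sub, Polynomial.eval_pow,
        Polynomial.eval_X, sub_eq_zero]
      exact hcon a
    have h3 := Polynomial.card_le_degree_of_subset_roots h2
    rw [Finset.card_univ] at h3
    refine le_trans h3 ?_
    rw [FiniteField.X_pow_card_sub_X_natDegree_eq F (by omega)]
  rw [hF] at h1
  nlinarith


theorem main_aux_even (hF : Fintype.card F = q ^ 2) (m : ℕ) {K' : Type*} [Field K']
    (hK : ringChar K' ≠ ringChar F) {k : ℕ}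
    (ρ : ↥(Cfsg.SU ((m + 1 + 1) + (m + 1 + 1)) F q) →* GL (Fin k) K')
    (hker : ρ.ker ≤ Subgroup.center ↥(Cfsg.SU ((m + 1 + 1) + (m + 1 + 1)) F q)) :
    Fintype.card F ^ (m + 1 + 1) - 1 ≤ (q + 1) * k := by
  classical
  obtain ⟨ζ, τ, -, hτ, hζ⟩ := Cfsg.Agent.Lib.Helper18.PSUMod.exists_consts hF
  set σ₀ : F →+* F := frobHom hF with hσ₀def
  have hσ₀ : ∀ x, σ₀ (σ₀ x) = x := frob_invol hF
  set e : ↥(Cfsg.SU ((m + 1 + 1) + (m + 1 + 1)) F q) ≃* UJ σ₀ ((m + 1 + 1) + (m + 1 + 1)) :=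
    suIso hF ((m + 1 + 1) + (m + 1 + 1)) hζ hτ with he
  have hcen : (Subgroup.center ↥(Cfsg.SU ((m + 1 + 1) + (m + 1 + 1)) F q)).map e.toMonoidHom =
      ZJ σ₀ ((m + 1 + 1) + (m + 1 + 1)) := map_center_suIso hF ((m + 1 + 1) + m) hζ hτ
  let ψ₀ := AddChar.FiniteField.primitiveChar F K' hK
  let L := CyclotomicField ψ₀.n K'
  let ψ : AddChar F L := ψ₀.char
  have hψ : ψ.IsPrimitive := ψ₀.prim
  have hinj : Function.Injective (algebraMap K' L) := (algebraMap K' L).injective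
  let σ' : ↥(Cfsg.SU ((m + 1 + 1) + (m + 1 + 1)) F q) →* Matrix (Fin k) (Fin k) L :=
    ((RingHom.mapMatrix (algebraMap K' L)).toMonoidHom.comp (Units.coeHom _)).comp ρ
  have hσ1 : ∀ g, σ' g = 1 → g ∈ ρ.ker := by
    intro g hg
    rw [MonoidHom.mem_ker]
    apply Units.ext
    have : (RingHom.mapMatrix (algebraMap K' L)) ((ρ g : GL (Fin k) K') : Matrix (Fin k) (Fin k) K') =
        (RingHom.mapMatrix (algebraMap K' L)) 1 := by
      rw [map_one]; exact hg
    exact Matrix.map_injective hinj this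
  let x : (Fin (m + 1 + 1) × Fin (m + 1 + 1) → F) → Matrix (Fin k) (Fin k) L :=
    fun v => σ' (e.symm (XV σ₀ hσ₀ v))
  have hxa : ∀ v w, x (v + w) = x v * x w := fun v w => by
    show σ' (e.symm (XV σ₀ hσ₀ (v + w))) = σ' (e.symm (XV σ₀ hσ₀ v)) * σ' (e.symm (XV σ₀ hσ₀ w))
    rw [XV_add, map_mul, map_mul]
  have hx0 : x 0 = 1 := by
    show σ' (e.symm (XV σ₀ hσ₀ 0)) = 1
    rw [XV_zero, map_one, map_one]
  have hcard : (Fintype.card (Fin (m + 1 + 1) × Fin (m + 1 + 1) → F) : L) ≠ 0 := by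
    rw [Fintype.card_fun]
    push_cast
    exact pow_ne_zero _ (Cfsg.Agent.S2392.card_ne_zero_of_char hK)
  -- closure under the Levi elements
  have hclos : ∀ h : Matrix (Fin (m + 1 + 1)) (Fin (m + 1 + 1)) F, h.det = 1 →
      ∀ u : Fin (m + 1 + 1) × Fin (m + 1 + 1) → F, Pr ψ x u ≠ 0 →
      Pr ψ x (ofM (hᵀ * toM u * h.map σ₀)) ≠ 0 := by
    intro h hdet u hu
    let hS : Matrix.SpecialLinearGroup (Fin (m + 1 + 1)) F := ⟨h, hdet⟩
    set g : Matrix (Fin (m + 1 + 1)) (Fin (m + 1 + 1)) F :=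
      ((hS⁻¹ : Matrix.SpecialLinearGroup (Fin (m + 1 + 1)) F) :
        Matrix (Fin (m + 1 + 1)) (Fin (m + 1 + 1)) F) with hg
    have hhg : h * g = 1 := by
      show (hS : Matrix (Fin (m + 1 + 1)) (Fin (m + 1 + 1)) F) * _ = 1
      rw [← Matrix.SpecialLinearGroup.coe_mul, mul_inv_cancel, Matrix.SpecialLinearGroup.coe_one]
    have hgh : g * h = 1 := mul_eq_one_comm.mp hhg
    have hgdet : g.det = 1 := (hS⁻¹).2
    have hd1 : g.det * σ₀ h.det = 1 := by rw [hgdet, hdet, map_one, one_mul]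
    have hcc : ct σ₀ g * ct σ₀ h = 1 := by rw [← ct_mul, hhg, ct_one]
    have hcc' : ct σ₀ h * ct σ₀ g = 1 := by rw [← ct_mul, hgh, ct_one]
    let N : (Fin (m + 1 + 1) × Fin (m + 1 + 1) → F) ≃ (Fin (m + 1 + 1) × Fin (m + 1 + 1) → F) :=
      { toFun := fun v => ofM (g * toM v * ct σ₀ g)
        invFun := fun v => ofM (h * toM v * ct σ₀ h)
        left_inv := fun v => by
          show ofM (h * toM (ofM (g * toM v * ct σ₀ g)) * ct σ₀ h) = v
          rw [toM_ofM]
          have : h * (g * toM v * ct σ₀ g) * ct σ₀ h = toM v := by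
            calc h * (g * toM v * ct σ₀ g) * ct σ₀ h
                = (h * g) * toM v * (ct σ₀ g * ct σ₀ h) := by simp only [Matrix.mul_assoc]
              _ = toM v := by rw [hhg, hcc, Matrix.one_mul, Matrix.mul_one]
          rw [this, ofM_toM]
        right_inv := fun v => by
          show ofM (g * toM (ofM (h * toM v * ct σ₀ h)) * ct σ₀ g) = v
          rw [toM_ofM]
          have : g * (h * toM v * ct σ₀ h) * ct σ₀ g = toM v := by
            calc g * (h * toM v * ct σ₀ h) * ct σ₀ g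
                = (g * h) * toM v * (ct σ₀ h * ct σ₀ g) := by simp only [Matrix.mul_assoc]
              _ = toM v := by rw [hgh, hcc', Matrix.one_mul, Matrix.mul_one]
          rw [this, ofM_toM] }
    have hunit : IsUnit (σ' (e.symm (LE σ₀ hσ₀ g h hhg hd1))) := by
      refine ⟨⟨σ' (e.symm (LE σ₀ hσ₀ g h hhg hd1)), σ' (e.symm (LE σ₀ hσ₀ g h hhg hd1))⁻¹, ?_, ?_⟩,
        rfl⟩
      · rw [← map_mul, mul_inv_cancel, map_one]
      · rw [← map_mul, inv_mul_cancel, map_one]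
    refine Pr_ne_zero_of_conj ψ x hunit (N := N) ?_ ?_ hu
    · intro v
      show σ' (e.symm (LE σ₀ hσ₀ g h hhg hd1)) * σ' (e.symm (XV σ₀ hσ₀ v)) =
        σ' (e.symm (XV σ₀ hσ₀ (ofM (g * toM v * ct σ₀ g)))) * σ' (e.symm (LE σ₀ hσ₀ g h hhg hd1))
      rw [← map_mul, ← map_mul, ← map_mul, ← map_mul, LE_mul_XV]
    · intro v
      show u ⬝ᵥ v = ofM (hᵀ * toM u * h.map σ₀) ⬝ᵥ ofM (g * toM v * ct σ₀ g)
      rw [dot_eq_trace, dot_eq_trace, toM_ofM, toM_ofM]
      have h1 : (hᵀ * toM u * h.map σ₀)ᵀ = ct σ₀ h * (toM u)ᵀ * h := by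
        rw [transpose_mul, transpose_mul, transpose_transpose, ct, Matrix.mul_assoc]
      rw [h1]
      have h2 : ct σ₀ h * (toM u)ᵀ * h * (g * toM v * ct σ₀ g) =
          ct σ₀ h * ((toM u)ᵀ * toM v * ct σ₀ g) := by
        calc ct σ₀ h * (toM u)ᵀ * h * (g * toM v * ct σ₀ g)
            = ct σ₀ h * (toM u)ᵀ * (h * g) * toM v * ct σ₀ g := by simp only [Matrix.mul_assoc]
          _ = ct σ₀ h * ((toM u)ᵀ * toM v * ct σ₀ g) := by
            rw [hhg, Matrix.mul_one]; simp only [Matrix.mul_assoc]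
      rw [h2, trace_mul_comm (ct σ₀ h) ((toM u)ᵀ * toM v * ct σ₀ g), Matrix.mul_assoc, hcc,
        Matrix.mul_one]
  -- a non-trivial character occurs
  have hne1 : x (Pi.single (0, 1) 1) ≠ 1 := by
    intro hx1
    have h1 := hker (hσ1 _ hx1)
    have h2 : e (e.symm (XV σ₀ hσ₀ (Pi.single (0, 1) 1))) ∈ ZJ σ₀ ((m + 1 + 1) + (m + 1 + 1)) := by
      rw [← hcen]
      exact ⟨_, h1, rfl⟩
    rw [MulEquiv.apply_symm_apply] at h2
    obtain ⟨c, hc⟩ := h2
    have h3 := XE_scalar σ₀ _ _ c hc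
    have h4 := congrFun (congrFun h3 0) 1
    rw [sk, Matrix.sub_apply, ct_apply] at h4
    simp [toM] at h4
  obtain ⟨u₀, hu₀, hu₀'⟩ := exists_of_ne_one ψ x hψ hcard hx0 hne1
  have hu₀0 : toM u₀ ≠ 0 := by
    intro h
    apply hu₀'
    have : u₀ = 0 := toM_injective (by rw [h, toM_zero])
    rw [this, zero_dotProduct]
  -- the set of occurring characters
  set W0 : Finset (Fin (m + 1 + 1) × Fin (m + 1 + 1) → F) :=
    Finset.univ.filter (fun u => Pr ψ x u ≠ 0) with hW0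
  set W : Finset (Matrix (Fin (m + 1 + 1)) (Fin (m + 1 + 1)) F) := W0.image toM with hW
  have hWcard : W.card ≤ k := by
    rw [hW, Finset.card_image_of_injective _ toM_injective]
    have key := card_le_of_orthogonal (κ := {u : Fin (m + 1 + 1) × Fin (m + 1 + 1) → F // u ∈ W0})
      (fun p => Pr ψ x p.1)
      (fun p p' => by
        rw [Pr_mul_Pr ψ x hψ hcard hxa]
        by_cases hpp : p = p'
        · rw [if_pos hpp, if_pos (by rw [hpp])]
        · rw [if_neg hpp, if_neg]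
          intro h
          exact hpp (Subtype.ext h))
      (fun p => (Finset.mem_filter.mp p.2).2)
    rwa [Fintype.card_coe] at key
  have hbound := card_bound σ₀ (q := q) (fun a => rfl)
    (by
      have h1 : 1 < Fintype.card F := Fintype.one_lt_card
      rw [hF] at h1
      by_contra h
      have : q = 0 := by omega
      rw [this] at h1
      norm_num at h1)
    (frob_ne hF) (fun h => h.det = 1) (fun v hv => trans_sl v hv) (fun z => det_tv z) W
    (by
      intro U hU h hdet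
      obtain ⟨u, hu, rfl⟩ := Finset.mem_image.mp hU
      rw [hW, Finset.mem_image]
      refine ⟨ofM (hᵀ * toM u * h.map σ₀), ?_, toM_ofM _⟩
      rw [hW0, Finset.mem_filter]
      exact ⟨Finset.mem_univ _, hclos h hdet u (Finset.mem_filter.mp hu).2⟩)
    (toM u₀) (Finset.mem_image.mpr ⟨u₀, Finset.mem_filter.mpr ⟨Finset.mem_univ _, hu₀⟩, rfl⟩) hu₀0
  exact le_trans hbound (Nat.mul_le_mul_left _ hWcard)

end main

end Cfsg.Agent.Lib.Helper13.LSU
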