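import Mathlib
import Cfsg.Agent.Lib.Helper13.LSUEven

set_option autoImplicit false
set_option linter.unusedSectionVars false

/-! Unipotent elements `[[1, x, S], [0, 1, -x^*], [0, 0, 1]]` and Levi elements `diag(g, δ, g^{-*})` of the special
unitary group `UJ σ (d + 1 + d)` of the antidiagonal hermitian form (helper16), in block form. -/

namespace Cfsg.Agent.Lib.Helper13.LSU

open Matrix Cfsg.Agent.Lib.Helper16.FusSU

variable {K : Type*} [Field K] {d : ℕ} (σ : K →+* K)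

/-- the three-block index type -/
abbrev T3 (d : ℕ) := (Fin d ⊕ Fin 1) ⊕ Fin d

/-- the index bijection pairing `inl (inl i)` with the reversed index `inr i` -/
def eO (d : ℕ) : T3 d ≃ Fin (d + 1 + d) :=
  (Equiv.sumCongr finSumFinEquiv Fin.revPerm).trans finSumFinEquiv

/-- the reversal on the three-block index type -/
def sw3 : T3 d → T3 d
  | .inl (.inl i) => .inr i
  | .inl (.inr z) => .inl (.inr z)
  | .inr i => .inl (.inl i)

theorem eO_rev (a : T3 d) : (eO d a).rev = eO d (sw3 a) := by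
  rcases a with (i | z) | i
  · apply Fin.ext
    simp [eO, sw3, Fin.rev]
    omega
  · apply Fin.ext
    simp [eO, sw3, Fin.rev]
  · apply Fin.ext
    simp [eO, sw3, Fin.rev]
    omega

/-- the adjoint in three-block form -/
def adjT (M : Matrix (T3 d) (T3 d) K) : Matrix (T3 d) (T3 d) K :=
  Matrix.of fun a b => σ (M (sw3 b) (sw3 a))

/-- transport to `Fin (d + 1 + d)` -/
def tr3 (M : Matrix (T3 d) (T3 d) K) : Matrix (Fin (d + 1 + d)) (Fin (d + 1 + d)) K :=
  M.submatrix (eO d).symm (eO d).symm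

theorem tr3_apply (M : Matrix (T3 d) (T3 d) K) (a b : T3 d) : tr3 M (eO d a) (eO d b) = M a b := by
  simp [tr3]

theorem tr3_mul (M N : Matrix (T3 d) (T3 d) K) : tr3 M * tr3 N = tr3 (M * N) := by
  rw [tr3, tr3, tr3, submatrix_mul_equiv]

theorem tr3_one : tr3 (1 : Matrix (T3 d) (T3 d) K) = 1 := by
  rw [tr3, submatrix_one_equiv]

theorem det_tr3 (M : Matrix (T3 d) (T3 d) K) : (tr3 M).det = M.det := by
  rw [tr3, det_submatrix_equiv_self]

theorem tr3_injective : Function.Injective (tr3 : Matrix (T3 d) (T3 d) K → _) := by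
  intro M N h
  ext a b
  rw [← tr3_apply M, ← tr3_apply N, h]

theorem adj_tr3 (M : Matrix (T3 d) (T3 d) K) : adj σ (tr3 M) = tr3 (adjT σ M) := by
  ext i j
  obtain ⟨a, rfl⟩ := (eO d).surjective i
  obtain ⟨b, rfl⟩ := (eO d).surjective j
  rw [adj_apply, eO_rev, eO_rev, tr3_apply, tr3_apply]
  rfl

/-- unipotent elements -/
def uT (x : Fin d → K) (S : Matrix (Fin d) (Fin d) K) : Matrix (T3 d) (T3 d) K :=
  fromBlocks (fromBlocks (1 : Matrix (Fin d) (Fin d) K) (replicateCol (Fin 1) x) 0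
      (1 : Matrix (Fin 1) (Fin 1) K))
    (fromRows S (replicateRow (Fin 1) (fun j => - σ (x j)))) 0 (1 : Matrix (Fin d) (Fin d) K)

/-- Levi elements -/
def lT (g : Matrix (Fin d) (Fin d) K) (δ : K) (h' : Matrix (Fin d) (Fin d) K) :
    Matrix (T3 d) (T3 d) K :=
  fromBlocks (fromBlocks g 0 0 (δ • (1 : Matrix (Fin 1) (Fin 1) K))) 0 0 h'

theorem det_uT (x : Fin d → K) (S : Matrix (Fin d) (Fin d) K) : (uT σ x S).det = 1 := by
  rw [uT, det_fromBlocks_zero₂₁, det_fromBlocks_zero₂₁]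
  simp

theorem det_lT (g : Matrix (Fin d) (Fin d) K) (δ : K) (h' : Matrix (Fin d) (Fin d) K) :
    (lT g δ h').det = g.det * δ * h'.det := by
  rw [lT, det_fromBlocks_zero₂₁, det_fromBlocks_zero₂₁]
  simp

theorem uT_zero : uT σ (0 : Fin d → K) 0 = 1 := by
  ext a b
  rcases a with (i | z) | i <;> rcases b with (j | w) | j <;> simp [uT, Matrix.one_apply]

/-- the matrix `x x'^*` -/
def xx (x x' : Fin d → K) : Matrix (Fin d) (Fin d) K := Matrix.of fun i j => x i * σ (x' j)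

theorem xx_apply (x x' : Fin d → K) (i j : Fin d) : xx σ x x' i j = x i * σ (x' j) := rfl

theorem uT_mul (x x' : Fin d → K) (S S' : Matrix (Fin d) (Fin d) K) :
    uT σ x S * uT σ x' S' = uT σ (x + x') (S + S' - xx σ x x') := by
  ext a b
  rcases a with (i | z) | i <;> rcases b with (j | w) | j
  · simp [uT, xx, Matrix.mul_apply, Fintype.sum_sum_type, Matrix.one_apply]
  · obtain rfl : w = 0 := Subsingleton.elim _ _
    simp [uT, xx, Matrix.mul_apply, Fintype.sum_sum_type, Matrix.one_apply, add_comm]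
  · simp [uT, xx, Matrix.mul_apply, Fintype.sum_sum_type, Matrix.one_apply]
    ring
  · obtain rfl : z = 0 := Subsingleton.elim _ _
    simp [uT, xx, Matrix.mul_apply, Fintype.sum_sum_type, Matrix.one_apply]
  · obtain rfl : z = 0 := Subsingleton.elim _ _
    obtain rfl : w = 0 := Subsingleton.elim _ _
    simp [uT, xx, Matrix.mul_apply, Fintype.sum_sum_type, Matrix.one_apply]
  · obtain rfl : z = 0 := Subsingleton.elim _ _
    simp [uT, xx, Matrix.mul_apply, Fintype.sum_sum_type, Matrix.one_apply]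
  · simp [uT, xx, Matrix.mul_apply, Fintype.sum_sum_type, Matrix.one_apply]
  · obtain rfl : w = 0 := Subsingleton.elim _ _
    simp [uT, xx, Matrix.mul_apply, Fintype.sum_sum_type, Matrix.one_apply]
  · simp [uT, xx, Matrix.mul_apply, Fintype.sum_sum_type, Matrix.one_apply]

theorem adjT_uT (hσ : ∀ x, σ (σ x) = x) (x : Fin d → K) (S : Matrix (Fin d) (Fin d) K) :
    adjT σ (uT σ x S) = uT σ (-x) (ct σ S) := by
  ext a b
  rcases a with (i | z) | i <;> rcases b with (j | w) | j <;>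
    simp [adjT, sw3, uT, Matrix.one_apply, ct_apply, hσ, eq_comm]

theorem adjT_lT (g : Matrix (Fin d) (Fin d) K) (δ : K) (h' : Matrix (Fin d) (Fin d) K) :
    adjT σ (lT g δ h') = lT (ct σ h') (σ δ) (ct σ g) := by
  ext a b
  rcases a with (i | z) | i <;> rcases b with (j | w) | j <;>
    simp [adjT, sw3, lT, Matrix.one_apply, ct_apply, eq_comm, apply_ite σ]

theorem lT_mul (g g' : Matrix (Fin d) (Fin d) K) (δ δ' : K) (h h' : Matrix (Fin d) (Fin d) K) :
    lT g δ h * lT g' δ' h' = lT (g * g') (δ * δ') (h * h') := by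
  rw [lT, lT, lT, fromBlocks_multiply, fromBlocks_multiply]
  simp [Matrix.mul_smul, smul_smul, mul_comm]

theorem lT_one : lT (1 : Matrix (Fin d) (Fin d) K) 1 1 = 1 := by
  rw [lT, one_smul, fromBlocks_one, fromBlocks_one]

theorem lT_mul_uT (g : Matrix (Fin d) (Fin d) K) (δ : K) (h' : Matrix (Fin d) (Fin d) K)
    (S : Matrix (Fin d) (Fin d) K) (S' : Matrix (Fin d) (Fin d) K) (hS' : S' * h' = g * S) :
    lT g δ h' * uT σ 0 S = uT σ 0 S' * lT g δ h' := by
  ext a b
  rcases a with (i | z) | i <;> rcases b with (j | w) | j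
  · simp [uT, lT, Matrix.mul_apply, Fintype.sum_sum_type, Matrix.one_apply]
  · simp [uT, lT, Matrix.mul_apply, Fintype.sum_sum_type, Matrix.one_apply]
  · have h1 := congrFun (congrFun hS' i) j
    rw [Matrix.mul_apply, Matrix.mul_apply] at h1
    simp [uT, lT, Matrix.mul_apply, Fintype.sum_sum_type, Matrix.one_apply]
    exact h1.symm
  · simp [uT, lT, Matrix.mul_apply, Fintype.sum_sum_type, Matrix.one_apply]
  · simp [uT, lT, Matrix.mul_apply, Fintype.sum_sum_type, Matrix.one_apply]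
  · simp [uT, lT, Matrix.mul_apply, Fintype.sum_sum_type, Matrix.one_apply]
  · simp [uT, lT, Matrix.mul_apply, Fintype.sum_sum_type, Matrix.one_apply]
  · simp [uT, lT, Matrix.mul_apply, Fintype.sum_sum_type, Matrix.one_apply]
  · simp [uT, lT, Matrix.mul_apply, Fintype.sum_sum_type, Matrix.one_apply]

/-! ### the group elements -/

/-- unipotent elements in `SL` -/
def UOs (x : Fin d → K) (S : Matrix (Fin d) (Fin d) K) : SpecialLinearGroup (Fin (d + 1 + d)) K :=
  ⟨tr3 (uT σ x S), by rw [det_tr3, det_uT]⟩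

theorem xx_neg_right (x x' : Fin d → K) : xx σ x (-x') = - xx σ x x' := by
  ext i j; simp [xx]

theorem xx_zero_left (x' : Fin d → K) : xx σ (0 : Fin d → K) x' = 0 := by
  ext i j; simp [xx]

theorem xx_zero_right (x : Fin d → K) : xx σ x (0 : Fin d → K) = 0 := by
  ext i j; simp [xx]

/-- unipotent elements -/
def UO (hσ : ∀ x, σ (σ x) = x) (x : Fin d → K) (S : Matrix (Fin d) (Fin d) K)
    (hS : S + ct σ S + xx σ x x = 0) : UJ σ (d + 1 + d) :=
  ⟨UOs σ x S, mem_UJ.2 (by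
    show tr3 (uT σ x S) * adj σ (tr3 (uT σ x S)) = 1
    rw [adj_tr3, tr3_mul, adjT_uT σ hσ, uT_mul, xx_neg_right, sub_neg_eq_add, hS, add_neg_cancel,
      uT_zero, tr3_one])⟩

theorem UO_congr (hσ : ∀ x, σ (σ x) = x) {x x' : Fin d → K} {S S' : Matrix (Fin d) (Fin d) K}
    (hx : x = x') (h : S = S') (hS : S + ct σ S + xx σ x x = 0)
    (hS' : S' + ct σ S' + xx σ x' x' = 0) : UO σ hσ x S hS = UO σ hσ x' S' hS' := by
  subst hx; subst h; rfl

theorem UO_mul (hσ : ∀ x, σ (σ x) = x) (x x' : Fin d → K) (S S' : Matrix (Fin d) (Fin d) K)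
    (hS : S + ct σ S + xx σ x x = 0) (hS' : S' + ct σ S' + xx σ x' x' = 0)
    (hSS' : (S + S' - xx σ x x') + ct σ (S + S' - xx σ x x') + xx σ (x + x') (x + x') = 0) :
    UO σ hσ x S hS * UO σ hσ x' S' hS' = UO σ hσ (x + x') (S + S' - xx σ x x') hSS' := by
  apply Subtype.ext
  apply Subtype.ext
  show tr3 (uT σ x S) * tr3 (uT σ x' S') = tr3 (uT σ (x + x') (S + S' - xx σ x x'))
  rw [tr3_mul, uT_mul]

theorem UO_zero (hσ : ∀ x, σ (σ x) = x)
    (h0 : (0 : Matrix (Fin d) (Fin d) K) + ct σ 0 + xx σ (0 : Fin d → K) 0 = 0) :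
    UO σ hσ 0 0 h0 = 1 := by
  apply Subtype.ext
  apply Subtype.ext
  show tr3 (uT σ 0 0) = 1
  rw [uT_zero, tr3_one]

/-- Levi elements in `SL` -/
def LOs (g h : Matrix (Fin d) (Fin d) K) (δ : K) (hdet : g.det * δ * σ h.det = 1) :
    SpecialLinearGroup (Fin (d + 1 + d)) K :=
  ⟨tr3 (lT g δ (ct σ h)), by rw [det_tr3, det_lT, det_ct, hdet]⟩

/-- Levi elements -/
def LO (hσ : ∀ x, σ (σ x) = x) (g h : Matrix (Fin d) (Fin d) K) (δ : K) (hhg : h * g = 1)
    (hδ : δ * σ δ = 1) (hdet : g.det * δ * σ h.det = 1) : UJ σ (d + 1 + d) :=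
  ⟨LOs σ g h δ hdet, mem_UJ.2 (by
    show tr3 (lT g δ (ct σ h)) * adj σ (tr3 (lT g δ (ct σ h))) = 1
    rw [adj_tr3, tr3_mul, adjT_lT, lT_mul, ct_ct σ hσ, mul_eq_one_comm.mp hhg, hδ, ← ct_mul,
      mul_eq_one_comm.mp hhg, ct_one, lT_one, tr3_one])⟩

theorem LO_mul_UO (hσ : ∀ x, σ (σ x) = x) (g h : Matrix (Fin d) (Fin d) K) (δ : K)
    (hhg : h * g = 1) (hδ : δ * σ δ = 1) (hdet : g.det * δ * σ h.det = 1)
    (S : Matrix (Fin d) (Fin d) K) (hS : S + ct σ S + xx σ (0 : Fin d → K) 0 = 0)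
    (hS' : g * S * ct σ g + ct σ (g * S * ct σ g) + xx σ (0 : Fin d → K) 0 = 0) :
    LO σ hσ g h δ hhg hδ hdet * UO σ hσ 0 S hS =
      UO σ hσ 0 (g * S * ct σ g) hS' * LO σ hσ g h δ hhg hδ hdet := by
  apply Subtype.ext
  apply Subtype.ext
  show tr3 (lT g δ (ct σ h)) * tr3 (uT σ 0 S) = tr3 (uT σ 0 (g * S * ct σ g)) * tr3 (lT g δ (ct σ h))
  rw [tr3_mul, tr3_mul]
  congr 1
  apply lT_mul_uT
  rw [Matrix.mul_assoc (g * S), ← ct_mul, hhg, ct_one, Matrix.mul_one]

/-- a central-type unipotent element which is a scalar matrix is trivial -/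
theorem UO_scalar (hσ : ∀ x, σ (σ x) = x) (S : Matrix (Fin d) (Fin d) K)
    (hS : S + ct σ S + xx σ (0 : Fin d → K) 0 = 0) (c : K)
    (h : ((UO σ hσ 0 S hS : SpecialLinearGroup (Fin (d + 1 + d)) K) :
      Matrix (Fin (d + 1 + d)) (Fin (d + 1 + d)) K) = c • 1) : S = 0 := by
  have h' : tr3 (uT σ 0 S) = c • 1 := h
  ext i j
  have h1 := congrFun (congrFun h' (eO d (Sum.inl (Sum.inl i)))) (eO d (Sum.inr j))
  rw [tr3_apply, Matrix.smul_apply, Matrix.one_apply_ne, smul_zero] at h1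
  · simpa [uT] using h1
  · intro h2
    have := (eO d).injective h2
    simp at this

end Cfsg.Agent.Lib.Helper13.LSU
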