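import Mathlib

set_option autoImplicit false
set_option linter.unusedSectionVars false

/-! Rank lemmas for idempotent matrices: a Heisenberg-type family of units commuting with an idempotent `P`
forces `|A| ≤ (rank P)^2`; the ranks of orthogonal idempotents add up to at most the size. -/

namespace Cfsg.Agent.Lib.Helper13.LSU

open Matrix

variable {L : Type*} [Field L] {k : ℕ}

/-- the range of an idempotent matrix -/
abbrev rg (P : Matrix (Fin k) (Fin k) L) : Submodule L (Fin k → L) := LinearMap.range (Matrix.mulVecLin P)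

theorem heis_linearIndependent {A : Type*} [AddCommGroup A] [Fintype A]
    (P : Matrix (Fin k) (Fin k) L) (hP0 : P ≠ 0)
    (y yi : A → Matrix (Fin k) (Fin k) L) (hy : ∀ μ, y μ * yi μ = 1) (hyi : ∀ μ, yi μ * y μ = 1)
    (χ : A → AddChar A L) (hχ : Function.Injective χ)
    (hrel : ∀ μ ν, y ν * (y μ * P) = χ μ ν • (y μ * P * y ν)) :
    LinearIndependent L (fun μ => y μ * P) := by
  classical
  rw [Fintype.linearIndependent_iff]
  intro a ha μ₀
  have h1 : ∀ ν, ∑ μ, (a μ * χ μ ν) • (y μ * P) = 0 := by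
    intro ν
    have h2 : y ν * (∑ μ, a μ • (y μ * P)) * yi ν = 0 := by rw [ha, Matrix.mul_zero, Matrix.zero_mul]
    rw [Finset.mul_sum, Finset.sum_mul] at h2
    rw [← h2]
    apply Finset.sum_congr rfl
    intro μ _
    rw [Matrix.mul_smul, hrel, Matrix.smul_mul, Matrix.smul_mul, Matrix.mul_assoc (y μ * P), hy,
      Matrix.mul_one, smul_smul]
  have hli := (linearIndependent_monoidHom (Multiplicative A) L).comp
    (fun μ => (χ μ).toMonoidHom) (fun μ μ' h => hχ (AddChar.toMonoidHomEquiv.injective h))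
  rw [Fintype.linearIndependent_iff] at hli
  have h3 : ∀ i j, a μ₀ * (y μ₀ * P) i j = 0 := by
    intro i j
    apply hli (fun μ => a μ * (y μ * P) i j)
    ext ν
    have h4 := congrFun (congrFun (h1 (Multiplicative.toAdd ν)) i) j
    rw [Matrix.sum_apply] at h4
    simp only [Matrix.smul_apply, smul_eq_mul, Matrix.zero_apply] at h4
    simp only [Function.comp_apply, Finset.sum_apply, Pi.smul_apply, smul_eq_mul, Pi.zero_apply,
      AddChar.toMonoidHom_apply]
    rw [← h4]
    apply Finset.sum_congr rfl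
    intro μ _
    ring
  have h5 : y μ₀ * P ≠ 0 := by
    intro h
    apply hP0
    calc P = yi μ₀ * (y μ₀ * P) := by rw [← Matrix.mul_assoc, hyi, Matrix.one_mul]
      _ = 0 := by rw [h, Matrix.mul_zero]
  by_contra ha0
  apply h5
  ext i j
  exact (mul_eq_zero.mp (h3 i j)).resolve_left ha0

theorem card_le_finrank_sq {A : Type*} [AddCommGroup A] [Fintype A]
    (P : Matrix (Fin k) (Fin k) L) (hPP : P * P = P) (hP0 : P ≠ 0)
    (y yi : A → Matrix (Fin k) (Fin k) L) (hy : ∀ μ, y μ * yi μ = 1) (hyi : ∀ μ, yi μ * y μ = 1)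
    (hc : ∀ μ, y μ * P = P * y μ)
    (χ : A → AddChar A L) (hχ : Function.Injective χ)
    (hrel : ∀ μ ν, y ν * (y μ * P) = χ μ ν • (y μ * P * y ν)) :
    Fintype.card A ≤ Module.finrank L (rg P) ^ 2 := by
  classical
  have hli := heis_linearIndependent P hP0 y yi hy hyi χ hχ hrel
  have hinv : ∀ μ, ∀ v ∈ rg P, Matrix.mulVecLin (y μ * P) v ∈ rg P := by
    intro μ v _
    refine ⟨y μ *ᵥ v, ?_⟩
    rw [Matrix.mulVecLin_apply, Matrix.mulVecLin_apply, mulVec_mulVec, ← hc]
  let f : A → (rg P →ₗ[L] rg P) := fun μ => (Matrix.mulVecLin (y μ * P)).restrict (hinv μ)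
  let Ψ : (rg P →ₗ[L] rg P) →ₗ[L] ((Fin k → L) →ₗ[L] (Fin k → L)) :=
    { toFun := fun φ => (rg P).subtype.comp (φ.comp (Matrix.mulVecLin P).rangeRestrict)
      map_add' := fun φ φ' => by
        apply LinearMap.ext
        intro w
        simp
      map_smul' := fun c φ => by
        apply LinearMap.ext
        intro w
        simp }
  have hΨ : ∀ μ, Ψ (f μ) = Matrix.toLin' (y μ * P) := by
    intro μ
    apply LinearMap.ext
    intro w
    show (y μ * P) *ᵥ (P *ᵥ w) = Matrix.toLin' (y μ * P) w
    rw [Matrix.toLin'_apply, mulVec_mulVec, Matrix.mul_assoc, hPP]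
  have hfli : LinearIndependent L f := by
    apply LinearIndependent.of_comp Ψ
    have h2 : (Ψ ∘ f) = (fun μ => Matrix.toLin' (y μ * P)) := funext hΨ
    rw [h2]
    exact hli.map' (Matrix.toLin' : Matrix (Fin k) (Fin k) L ≃ₗ[L] _).toLinearMap
      (LinearEquiv.ker _)
  have h1 := hfli.fintype_card_le_finrank
  rw [Module.finrank_linearMap] at h1
  rw [sq]
  exact h1

/-- the ranks of orthogonal idempotents add up to at most the size -/
theorem sum_finrank_le {κ : Type*} [Fintype κ] [DecidableEq κ] (E : κ → Matrix (Fin k) (Fin k) L)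
    (hE : ∀ a b, E a * E b = if a = b then E b else 0) :
    ∑ a, Module.finrank L (rg (E a)) ≤ k := by
  let T : (Fin k → L) →ₗ[L] (∀ a, rg (E a)) :=
    LinearMap.pi (fun a => (Matrix.mulVecLin (E a)).rangeRestrict)
  have hT : Function.Surjective T := by
    intro v
    have hu : ∀ a, ∃ u : Fin k → L, E a *ᵥ u = (v a : Fin k → L) := by
      intro a
      obtain ⟨u, hu⟩ := (v a).2
      exact ⟨u, hu⟩
    choose u hu using hu
    refine ⟨∑ b, (v b : Fin k → L), ?_⟩
    funext a
    apply Subtype.ext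
    show E a *ᵥ (∑ b, (v b : Fin k → L)) = (v a : Fin k → L)
    rw [mulVec_sum, Finset.sum_eq_single a]
    · rw [← hu a, mulVec_mulVec, hE, if_pos rfl]
    · intro b _ hb
      rw [← hu b, mulVec_mulVec, hE, if_neg (Ne.symm hb), zero_mulVec]
    · intro h; exact absurd (Finset.mem_univ a) h
  have h1 := LinearMap.finrank_le_finrank_of_surjective hT
  rw [Module.finrank_pi_fintype, Module.finrank_fin_fun] at h1
  exact h1

/-- conjugate idempotents have the same rank -/
theorem finrank_rg_conj (P P' g gi : Matrix (Fin k) (Fin k) L) (hg : g * gi = 1) (hgi : gi * g = 1)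
    (h : g * P = P' * g) : Module.finrank L (rg P) = Module.finrank L (rg P') := by
  have hinv : ∀ v ∈ rg P, Matrix.mulVecLin g v ∈ rg P' := by
    rintro v ⟨w, rfl⟩
    refine ⟨g *ᵥ w, ?_⟩
    rw [Matrix.mulVecLin_apply, Matrix.mulVecLin_apply, Matrix.mulVecLin_apply, mulVec_mulVec,
      mulVec_mulVec, h]
  have hinv' : ∀ v ∈ rg P', Matrix.mulVecLin gi v ∈ rg P := by
    rintro v ⟨w, rfl⟩
    refine ⟨gi *ᵥ w, ?_⟩
    have h' : gi * P' = P * gi := by
      calc gi * P' = gi * (P' * g) * gi := by
            rw [Matrix.mul_assoc, Matrix.mul_assoc, hg, Matrix.mul_one]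
        _ = gi * (g * P) * gi := by rw [h]
        _ = P * gi := by rw [← Matrix.mul_assoc, hgi, Matrix.one_mul]
    rw [Matrix.mulVecLin_apply, Matrix.mulVecLin_apply, Matrix.mulVecLin_apply, mulVec_mulVec,
      mulVec_mulVec, h']
  apply le_antisymm
  · apply LinearMap.finrank_le_finrank_of_injective
      (f := (Matrix.mulVecLin g).restrict hinv)
    intro v v' hvv'
    apply Subtype.ext
    have h1 := congrArg (fun z : rg P' => gi *ᵥ (z : Fin k → L)) hvv'
    simp only [LinearMap.coe_restrict_apply, Matrix.mulVecLin_apply, mulVec_mulVec, hgi,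
      one_mulVec] at h1
    exact h1
  · apply LinearMap.finrank_le_finrank_of_injective
      (f := (Matrix.mulVecLin gi).restrict hinv')
    intro v v' hvv'
    apply Subtype.ext
    have h1 := congrArg (fun z : rg P => g *ᵥ (z : Fin k → L)) hvv'
    simp only [LinearMap.coe_restrict_apply, Matrix.mulVecLin_apply, mulVec_mulVec, hg,
      one_mulVec] at h1
    exact h1

end Cfsg.Agent.Lib.Helper13.LSU
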