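import Mathlib
import Cfsg.Agent.Lib.Helper13.LSUEvenMain
import Cfsg.Agent.Lib.Helper13.LSUOdd
import Cfsg.Agent.Lib.Helper13.LSURank

set_option autoImplicit false
set_option linter.unusedSectionVars false

/-! Landazuri–Seitz bound for `SU_{2d+1}(q)`: a homomorphism to `GL_k(K')` in cross characteristic with central
kernel has `q (q^(2d) - 1) ≤ (q + 1) k`. -/

namespace Cfsg.Agent.Lib.Helper13.LSU

open Matrix Cfsg.Agent.Lib.Helper15.OrbitBound Cfsg.Agent.Lib.Helper16.FusSU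

open Cfsg.Agent.Lib.Helper5.HermBridge (frobHom)

section mat

variable {K : Type*} [Field K] {d : ℕ} (σ : K →+* K)

theorem skew_zero_add {S : Matrix (Fin d) (Fin d) K} (h : S + ct σ S = 0) :
    S + ct σ S + xx σ (0 : Fin d → K) 0 = 0 := by
  rw [h, xx_zero_left, add_zero]

/-- the abelian group of central unipotent elements, parametrised by all matrices -/
def XVO (hσ : ∀ x, σ (σ x) = x) (v : Fin d × Fin d → K) : UJ σ (d + 1 + d) :=
  UO σ hσ 0 (sk σ (toM v)) (skew_zero_add σ (sk_skew σ hσ _))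

theorem XVO_add (hσ : ∀ x, σ (σ x) = x) (v w : Fin d × Fin d → K) :
    XVO σ hσ (v + w) = XVO σ hσ v * XVO σ hσ w := by
  rw [XVO, XVO, XVO, UO_mul σ hσ _ _ _ _ _ _ (by
    rw [xx_zero_left, sub_zero, add_zero, ← sk_add]
    exact skew_zero_add σ (sk_skew σ hσ _))]
  exact UO_congr σ hσ (by rw [add_zero]) (by rw [toM_add, sk_add, xx_zero_left, sub_zero]) _ _

theorem XVO_zero (hσ : ∀ x, σ (σ x) = x) : XVO σ hσ (0 : Fin d × Fin d → K) = 1 := by
  rw [XVO, ← UO_zero σ hσ (by rw [ct_zero, add_zero, xx_zero_left, add_zero])]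
  exact UO_congr σ hσ rfl (by rw [toM_zero, sk_zero]) _ _

theorem LO_mul_XVO (hσ : ∀ x, σ (σ x) = x) (g h : Matrix (Fin d) (Fin d) K) (δ : K)
    (hhg : h * g = 1) (hδ : δ * σ δ = 1) (hdet : g.det * δ * σ h.det = 1)
    (v : Fin d × Fin d → K) :
    LO σ hσ g h δ hhg hδ hdet * XVO σ hσ v =
      XVO σ hσ (ofM (g * toM v * ct σ g)) * LO σ hσ g h δ hhg hδ hdet := by
  rw [XVO, XVO, LO_mul_UO σ hσ g h δ hhg hδ hdet _ _ (by
    rw [sk_conj σ hσ]; exact skew_zero_add σ (sk_skew σ hσ _))]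
  congr 1
  exact UO_congr σ hσ rfl (by rw [toM_ofM, sk_conj σ hσ]) _ _

end mat

section heis

variable {K : Type*} [Field K] {m : ℕ} (σ : K →+* K)

/-- the matrix unit `E₀₀` -/
def E00 : Matrix (Fin (m + 1)) (Fin (m + 1)) K := Matrix.of fun i j => if i = 0 ∧ j = 0 then 1 else 0

theorem ct_smul_E00 (c : K) : ct σ (c • (E00 : Matrix (Fin (m + 1)) (Fin (m + 1)) K)) = σ c • E00 := by
  ext i j
  simp only [ct_apply, Matrix.smul_apply, E00, Matrix.of_apply, smul_eq_mul]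
  by_cases h : i = 0 ∧ j = 0
  · rw [if_pos h, if_pos ⟨h.2, h.1⟩, mul_one, mul_one]
  · rw [if_neg h, if_neg (fun h' => h ⟨h'.2, h'.1⟩), mul_zero, mul_zero, map_zero]

theorem xx_smul_e0 (a b : K) :
    xx σ (a • (e0 : Fin (m + 1) → K)) (b • e0) = (a * σ b) • E00 := by
  ext i j
  simp only [xx_apply, Pi.smul_apply, e0, smul_eq_mul, Matrix.smul_apply, E00, Matrix.of_apply]
  by_cases hi : i = 0
  · by_cases hj : j = 0
    · subst hi; subst hj; simp
    · rw [if_neg (fun h => hj h.2), Pi.single_eq_of_ne hj]; simp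
  · rw [if_neg (fun h => hi h.1), Pi.single_eq_of_ne hi]; simp

theorem sk_toM_single (hσ : ∀ x, σ (σ x) = x) (c : K) :
    sk σ (toM (Pi.single ((0 : Fin (m + 1)), (0 : Fin (m + 1))) c)) = (c - σ c) • E00 := by
  have h1 : toM (Pi.single ((0 : Fin (m + 1)), (0 : Fin (m + 1))) c) = c • E00 := by
    ext i j
    simp only [toM, Matrix.of_apply, Matrix.smul_apply, E00, smul_eq_mul]
    by_cases h : i = 0 ∧ j = 0
    · rw [if_pos h, h.1, h.2, Pi.single_eq_same, mul_one]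
    · rw [if_neg h, mul_zero, Pi.single_eq_of_ne]
      intro h'
      exact h ⟨congrArg Prod.fst h', congrArg Prod.snd h'⟩
  rw [sk, h1, ct_smul_E00, sub_smul]

/-- Heisenberg elements -/
def HO (hσ : ∀ x, σ (σ x) = x) {τ : K} (hτ : τ + σ τ = 1) (μ : K) : UJ σ (m + 1 + 1 + (m + 1)) :=
  UO σ hσ (μ • e0) ((-(τ * (μ * σ μ))) • E00) (by
    rw [ct_smul_E00, xx_smul_e0, ← add_smul, ← add_smul]
    have : -(τ * (μ * σ μ)) + σ (-(τ * (μ * σ μ))) + μ * σ μ = 0 := by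
      rw [map_neg, map_mul, map_mul, hσ]
      have h1 : σ τ = 1 - τ := by rw [← hτ]; ring
      rw [h1]
      ring
    rw [this, zero_smul])

theorem HO_comm_XVO (hσ : ∀ x, σ (σ x) = x) {τ : K} (hτ : τ + σ τ = 1) (μ : K)
    (v : Fin (m + 1) × Fin (m + 1) → K) :
    HO σ hσ hτ μ * XVO σ hσ v = XVO σ hσ v * HO σ hσ hτ μ := by
  have hA : ∀ (x : Fin (m + 1) → K) (S S' : Matrix (Fin (m + 1)) (Fin (m + 1)) K)
      (hS : S + ct σ S + xx σ x x = 0) (hS' : S' + ct σ S' + xx σ (0 : Fin (m + 1) → K) 0 = 0)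
      (hSS' : (S + S') + ct σ (S + S') + xx σ x x = 0),
      UO σ hσ x S hS * UO σ hσ 0 S' hS' = UO σ hσ x (S + S') hSS' ∧
      UO σ hσ 0 S' hS' * UO σ hσ x S hS = UO σ hσ x (S + S') hSS' := by
    intro x S S' hS hS' hSS'
    constructor
    · rw [UO_mul σ hσ x 0 S S' hS hS' (by
        rw [xx_zero_right, sub_zero, add_zero]; exact hSS')]
      exact UO_congr σ hσ (add_zero x) (by rw [xx_zero_right, sub_zero]) _ _
    · rw [UO_mul σ hσ 0 x S' S hS' hS (by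
        rw [xx_zero_left, sub_zero, zero_add, add_comm S' S]; exact hSS')]
      exact UO_congr σ hσ (zero_add x) (by rw [xx_zero_left, sub_zero, add_comm S' S]) _ _
  have hSS' : ((-(τ * (μ * σ μ))) • (E00 : Matrix (Fin (m + 1)) (Fin (m + 1)) K) + sk σ (toM v)) +
      ct σ ((-(τ * (μ * σ μ))) • (E00 : Matrix (Fin (m + 1)) (Fin (m + 1)) K) + sk σ (toM v)) +
      xx σ (μ • (e0 : Fin (m + 1) → K)) (μ • e0) = 0 := by
    have h1 := sk_skew σ hσ (toM v)
    have h2 : (-(τ * (μ * σ μ))) • (E00 : Matrix (Fin (m + 1)) (Fin (m + 1)) K) +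
        ct σ ((-(τ * (μ * σ μ))) • (E00 : Matrix (Fin (m + 1)) (Fin (m + 1)) K)) +
        xx σ (μ • (e0 : Fin (m + 1) → K)) (μ • e0) = 0 := by
      rw [ct_smul_E00, xx_smul_e0, ← add_smul, ← add_smul]
      have : -(τ * (μ * σ μ)) + σ (-(τ * (μ * σ μ))) + μ * σ μ = 0 := by
        rw [map_neg, map_mul, map_mul, hσ]
        have h1 : σ τ = 1 - τ := by rw [← hτ]; ring
        rw [h1]
        ring
      rw [this, zero_smul]
    rw [ct_add]
    calc _ = ((-(τ * (μ * σ μ))) • (E00 : Matrix (Fin (m + 1)) (Fin (m + 1)) K) +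
        ct σ ((-(τ * (μ * σ μ))) • (E00 : Matrix (Fin (m + 1)) (Fin (m + 1)) K)) +
        xx σ (μ • (e0 : Fin (m + 1) → K)) (μ • e0)) + (sk σ (toM v) + ct σ (sk σ (toM v))) := by abel
      _ = 0 := by rw [h1, h2, add_zero]
  obtain ⟨h1, h2⟩ := hA (μ • e0) _ (sk σ (toM v)) _ (skew_zero_add σ (sk_skew σ hσ _)) hSS'
  rw [HO, XVO, h1, h2]

theorem HO_rel (hσ : ∀ x, σ (σ x) = x) {τ : K} (hτ : τ + σ τ = 1) (μ ν : K) :
    HO σ hσ hτ ν * HO σ hσ hτ μ =
      HO σ hσ hτ μ * HO σ hσ hτ ν *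
        XVO σ hσ (Pi.single ((0 : Fin (m + 1)), (0 : Fin (m + 1))) (μ * σ ν)) := by
  apply Subtype.ext
  apply Subtype.ext
  show tr3 (uT σ (ν • e0) ((-(τ * (ν * σ ν))) • E00)) * tr3 (uT σ (μ • e0) ((-(τ * (μ * σ μ))) • E00)) =
    tr3 (uT σ (μ • e0) ((-(τ * (μ * σ μ))) • E00)) * tr3 (uT σ (ν • e0) ((-(τ * (ν * σ ν))) • E00)) *
      tr3 (uT σ 0 (sk σ (toM (Pi.single ((0 : Fin (m + 1)), (0 : Fin (m + 1))) (μ * σ ν)))))
  rw [tr3_mul, tr3_mul, tr3_mul, uT_mul, uT_mul, uT_mul, sk_toM_single σ hσ, xx_smul_e0, xx_smul_e0,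
    xx_zero_right, sub_zero, add_zero]
  have hx : ν • (e0 : Fin (m + 1) → K) + μ • e0 = μ • e0 + ν • e0 := add_comm _ _
  have hS : (-(τ * (ν * σ ν))) • (E00 : Matrix (Fin (m + 1)) (Fin (m + 1)) K) +
      (-(τ * (μ * σ μ))) • E00 - (ν * σ μ) • E00 =
      (-(τ * (μ * σ μ))) • E00 + (-(τ * (ν * σ ν))) • E00 - (μ * σ ν) • E00 +
        (μ * σ ν - σ (μ * σ ν)) • E00 := by
    rw [← add_smul, ← sub_smul, ← add_smul, ← sub_smul, ← add_smul, map_mul, hσ]
    congr 1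
    ring
  rw [hx, hS]

end heis


section main

variable {F : Type*} [Field F] [Fintype F] {q : ℕ}

/-- invertible matrices are transitive on the non-zero vectors -/
theorem trans_gl {K : Type*} [Field K] (m : ℕ) (v : Fin (m + 1) → K) (hv : v ≠ 0) :
    ∃ h h' : Matrix (Fin (m + 1)) (Fin (m + 1)) K,
      h * h' = 1 ∧ h' * h = 1 ∧ h.det ≠ 0 ∧ h'.det ≠ 0 ∧ h *ᵥ e0 = v := by
  rcases m with _ | m
  · have hi0 : ∀ i : Fin (0 + 1), i = 0 := fun i => Fin.ext (by have := i.2; simp only [Fin.val_zero]; omega)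
    have hv0 : v 0 ≠ 0 := by
      intro h
      apply hv
      ext i
      rw [hi0 i, h]
      rfl
    refine ⟨Matrix.diagonal (fun _ => v 0), Matrix.diagonal (fun _ => (v 0)⁻¹), ?_, ?_, ?_, ?_, ?_⟩
    · rw [Matrix.diagonal_mul_diagonal]
      simp [mul_inv_cancel₀ hv0]
    · rw [Matrix.diagonal_mul_diagonal]
      simp [inv_mul_cancel₀ hv0]
    · rw [Matrix.det_diagonal]
      simpa using hv0
    · rw [Matrix.det_diagonal]
      simpa using hv0
    · ext i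
      rw [hi0 i, mulVec_diagonal, e0, Pi.single_eq_same, mul_one]
  · obtain ⟨h, h', h1, h2, h3, h4, h5⟩ := trans_sl v hv
    exact ⟨h, h', h1, h2, by rw [h3]; exact one_ne_zero, by rw [h4]; exact one_ne_zero, h5⟩

theorem map_center' (hF : Fintype.card F = q ^ 2) {n : ℕ} (hn : 2 ≤ n) {ζ τ : F}
    (hζ : ζ * frobHom hF ζ = -1) (hτ : τ + frobHom hF τ = 1) :
    (Subgroup.center ↥(Cfsg.SU n F q)).map (suIso hF n hζ hτ).toMonoidHom = ZJ (frobHom hF) n := by
  obtain ⟨m', rfl⟩ : ∃ m', n = m' + 2 := ⟨n - 2, by omega⟩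
  exact map_center_suIso hF m' hζ hτ


theorem main_aux_odd (hF : Fintype.card F = q ^ 2) (m : ℕ) {K' : Type*} [Field K']
    (hK : ringChar K' ≠ ringChar F) {k : ℕ}
    (ρ : ↥(Cfsg.SU (m + 1 + 1 + (m + 1)) F q) →* GL (Fin k) K')
    (hker : ρ.ker ≤ Subgroup.center ↥(Cfsg.SU (m + 1 + 1 + (m + 1)) F q)) :
    q * (Fintype.card F ^ (m + 1) - 1) ≤ (q + 1) * k := by
  classical
  obtain ⟨ζ, τ, -, hτ, hζ⟩ := Cfsg.Agent.Lib.Helper18.PSUMod.exists_consts hF
  set σ₀ : F →+* F := frobHom hF with hσ₀def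
  have hσ₀ : ∀ x, σ₀ (σ₀ x) = x := frob_invol hF
  set e : ↥(Cfsg.SU (m + 1 + 1 + (m + 1)) F q) ≃* UJ σ₀ (m + 1 + 1 + (m + 1)) :=
    suIso hF (m + 1 + 1 + (m + 1)) hζ hτ with he
  have hcen : (Subgroup.center ↥(Cfsg.SU (m + 1 + 1 + (m + 1)) F q)).map e.toMonoidHom =
      ZJ σ₀ (m + 1 + 1 + (m + 1)) := map_center' hF (by omega) hζ hτ
  have hq1 : 1 ≤ q := by
    have h1 : 1 < Fintype.card F := Fintype.one_lt_card
    rw [hF] at h1
    by_contra h
    have : q = 0 := by omega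
    rw [this] at h1
    norm_num at h1
  let ψ₀ := AddChar.FiniteField.primitiveChar F K' hK
  let L := CyclotomicField ψ₀.n K'
  let ψ : AddChar F L := ψ₀.char
  have hψ : ψ.IsPrimitive := ψ₀.prim
  have hinj : Function.Injective (algebraMap K' L) := (algebraMap K' L).injective
  let σ' : ↥(Cfsg.SU (m + 1 + 1 + (m + 1)) F q) →* Matrix (Fin k) (Fin k) L :=
    ((RingHom.mapMatrix (algebraMap K' L)).toMonoidHom.comp (Units.coeHom _)).comp ρ
  have hσ1 : ∀ g, σ' g = 1 → g ∈ ρ.ker := by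
    intro g hg
    rw [MonoidHom.mem_ker]
    apply Units.ext
    have : (RingHom.mapMatrix (algebraMap K' L)) ((ρ g : GL (Fin k) K') : Matrix (Fin k) (Fin k) K') =
        (RingHom.mapMatrix (algebraMap K' L)) 1 := by
      rw [map_one]; exact hg
    exact Matrix.map_injective hinj this
  have hσ'inv : ∀ g, σ' g * σ' g⁻¹ = 1 ∧ σ' g⁻¹ * σ' g = 1 := by
    intro g
    constructor
    · rw [← map_mul, mul_inv_cancel, map_one]
    · rw [← map_mul, inv_mul_cancel, map_one]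
  let x : (Fin (m + 1) × Fin (m + 1) → F) → Matrix (Fin k) (Fin k) L :=
    fun v => σ' (e.symm (XVO σ₀ hσ₀ v))
  have hxa : ∀ v w, x (v + w) = x v * x w := fun v w => by
    show σ' (e.symm (XVO σ₀ hσ₀ (v + w))) = σ' (e.symm (XVO σ₀ hσ₀ v)) * σ' (e.symm (XVO σ₀ hσ₀ w))
    rw [XVO_add, map_mul, map_mul]
  have hx0 : x 0 = 1 := by
    show σ' (e.symm (XVO σ₀ hσ₀ 0)) = 1
    rw [XVO_zero, map_one, map_one]
  have hcard : (Fintype.card (Fin (m + 1) × Fin (m + 1) → F) : L) ≠ 0 := by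
    rw [Fintype.card_fun]
    push_cast
    exact pow_ne_zero _ (Cfsg.Agent.S2392.card_ne_zero_of_char hK)
  -- conjugation by the Levi elements
  have hconj : ∀ h : Matrix (Fin (m + 1)) (Fin (m + 1)) F, h.det ≠ 0 →
      ∀ u : Fin (m + 1) × Fin (m + 1) → F, ∃ G Gi : Matrix (Fin k) (Fin k) L,
        G * Gi = 1 ∧ Gi * G = 1 ∧
        G * Pr ψ x u = Pr ψ x (ofM (hᵀ * toM u * h.map σ₀)) * G := by
    intro h hdet u
    set g : Matrix (Fin (m + 1)) (Fin (m + 1)) F := h⁻¹ with hg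
    have hhg : h * g = 1 := Matrix.mul_nonsing_inv h (isUnit_iff_ne_zero.mpr hdet)
    have hgh : g * h = 1 := mul_eq_one_comm.mp hhg
    have hgdet : g.det * h.det = 1 := by rw [← Matrix.det_mul, hgh, Matrix.det_one]
    have hgdet0 : g.det ≠ 0 := fun h0 => by rw [h0, zero_mul] at hgdet; exact zero_ne_one hgdet
    set δ : F := σ₀ g.det * (g.det)⁻¹ with hδdef
    have hδ : δ * σ₀ δ = 1 := by
      rw [hδdef, map_mul, hσ₀, map_inv₀]
      field_simp [hgdet0, (map_ne_zero σ₀).mpr hgdet0]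
    have hd1 : g.det * δ * σ₀ h.det = 1 := by
      rw [hδdef]
      have : σ₀ g.det * σ₀ h.det = 1 := by rw [← map_mul, hgdet, map_one]
      calc g.det * (σ₀ g.det * (g.det)⁻¹) * σ₀ h.det
          = (g.det * (g.det)⁻¹) * (σ₀ g.det * σ₀ h.det) := by ring
        _ = 1 := by rw [mul_inv_cancel₀ hgdet0, this, one_mul]
    have hcc : ct σ₀ g * ct σ₀ h = 1 := by rw [← ct_mul, hhg, ct_one]
    have hcc' : ct σ₀ h * ct σ₀ g = 1 := by rw [← ct_mul, hgh, ct_one]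
    let N : (Fin (m + 1) × Fin (m + 1) → F) ≃ (Fin (m + 1) × Fin (m + 1) → F) :=
      { toFun := fun v => ofM (g * toM v * ct σ₀ g)
        invFun := fun v => ofM (h * toM v * ct σ₀ h)
        left_inv := fun v => by
          show ofM (h * toM (ofM (g * toM v * ct σ₀ g)) * ct σ₀ h) = v
          rw [toM_ofM]
          have : h * (g * toM v * ct σ₀ g) * ct σ₀ h = toM v := by
            calc h * (g * toM v * ct σ₀ g) * ct σ₀ h
                = (h * g) * toM v * (ct σ₀ g * ct σ₀ h) := by simp only [Matrix.mul_assoc]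
              _ = toM v := by rw [hhg, hcc, Matrix.one_mul, Matrix.mul_one]
          rw [this, ofM_toM]
        right_inv := fun v => by
          show ofM (g * toM (ofM (h * toM v * ct σ₀ h)) * ct σ₀ g) = v
          rw [toM_ofM]
          have : g * (h * toM v * ct σ₀ h) * ct σ₀ g = toM v := by
            calc g * (h * toM v * ct σ₀ h) * ct σ₀ g
                = (g * h) * toM v * (ct σ₀ h * ct σ₀ g) := by simp only [Matrix.mul_assoc]
              _ = toM v := by rw [hgh, hcc', Matrix.one_mul, Matrix.mul_one]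
          rw [this, ofM_toM] }
    refine ⟨σ' (e.symm (LO σ₀ hσ₀ g h δ hhg hδ hd1)), σ' (e.symm (LO σ₀ hσ₀ g h δ hhg hδ hd1))⁻¹,
      (hσ'inv _).1, (hσ'inv _).2, ?_⟩
    refine Pr_conj ψ x (N := N) ?_ ?_
    · intro v
      show σ' (e.symm (LO σ₀ hσ₀ g h δ hhg hδ hd1)) * σ' (e.symm (XVO σ₀ hσ₀ v)) =
        σ' (e.symm (XVO σ₀ hσ₀ (ofM (g * toM v * ct σ₀ g)))) *
          σ' (e.symm (LO σ₀ hσ₀ g h δ hhg hδ hd1))
      rw [← map_mul, ← map_mul, ← map_mul, ← map_mul, LO_mul_XVO]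
    · intro v
      show u ⬝ᵥ v = ofM (hᵀ * toM u * h.map σ₀) ⬝ᵥ ofM (g * toM v * ct σ₀ g)
      rw [dot_eq_trace, dot_eq_trace, toM_ofM, toM_ofM]
      have h1 : (hᵀ * toM u * h.map σ₀)ᵀ = ct σ₀ h * (toM u)ᵀ * h := by
        rw [transpose_mul, transpose_mul, transpose_transpose, ct, Matrix.mul_assoc]
      rw [h1]
      have h2 : ct σ₀ h * (toM u)ᵀ * h * (g * toM v * ct σ₀ g) =
          ct σ₀ h * ((toM u)ᵀ * toM v * ct σ₀ g) := by
        calc ct σ₀ h * (toM u)ᵀ * h * (g * toM v * ct σ₀ g)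
            = ct σ₀ h * (toM u)ᵀ * (h * g) * toM v * ct σ₀ g := by simp only [Matrix.mul_assoc]
          _ = ct σ₀ h * ((toM u)ᵀ * toM v * ct σ₀ g) := by
            rw [hhg, Matrix.mul_one]; simp only [Matrix.mul_assoc]
      rw [h2, trace_mul_comm (ct σ₀ h) ((toM u)ᵀ * toM v * ct σ₀ g), Matrix.mul_assoc, hcc,
        Matrix.mul_one]
  have hPr_ne : ∀ h : Matrix (Fin (m + 1)) (Fin (m + 1)) F, h.det ≠ 0 →
      ∀ u : Fin (m + 1) × Fin (m + 1) → F, Pr ψ x u ≠ 0 →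
        Pr ψ x (ofM (hᵀ * toM u * h.map σ₀)) ≠ 0 := by
    intro h hdet u hu h0
    obtain ⟨G, Gi, hG1, hG2, hGP⟩ := hconj h hdet u
    apply hu
    calc Pr ψ x u = Gi * (G * Pr ψ x u) := by rw [← Matrix.mul_assoc, hG2, Matrix.one_mul]
      _ = 0 := by rw [hGP, h0, Matrix.zero_mul, Matrix.mul_zero]
  -- a non-trivial character occurs
  obtain ⟨θ, hθ⟩ := frob_ne hF
  have hne1 : x (Pi.single (0, 0) θ) ≠ 1 := by
    intro hx1
    have h1 := hker (hσ1 _ hx1)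
    have h2 : e (e.symm (XVO σ₀ hσ₀ (Pi.single (0, 0) θ))) ∈ ZJ σ₀ (m + 1 + 1 + (m + 1)) := by
      rw [← hcen]
      exact ⟨_, h1, rfl⟩
    rw [MulEquiv.apply_symm_apply] at h2
    obtain ⟨c, hc⟩ := h2
    have h3 := UO_scalar σ₀ hσ₀ _ _ c hc
    rw [sk_toM_single σ₀ hσ₀] at h3
    have h4 := congrFun (congrFun h3 0) 0
    simp only [Matrix.smul_apply, E00, Matrix.of_apply, and_self, if_true, smul_eq_mul, mul_one,
      Matrix.zero_apply] at h4
    exact hθ (sub_eq_zero.mp h4).symm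
  obtain ⟨u₀, hu₀, hu₀'⟩ := exists_of_ne_one ψ x hψ hcard hx0 hne1
  have hu₀0 : u₀ ≠ 0 := by
    intro h
    apply hu₀'
    rw [h, zero_dotProduct]
  -- the rank of each occurring non-trivial character
  have hrank : ∀ u : Fin (m + 1) × Fin (m + 1) → F, u ≠ 0 → Pr ψ x u ≠ 0 →
      q ≤ Module.finrank L (rg (Pr ψ x u)) := by
    intro u hu0 hu
    have hU0 : toM u ≠ 0 := fun h => hu0 (toM_injective (by rw [h, toM_zero]))
    obtain ⟨v, hv⟩ := exists_B_ne_zero σ₀ (frob_ne hF) hU0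
    have hv0 : v ≠ 0 := by
      intro h
      apply hv
      rw [h, B_zero_left]
    obtain ⟨h, h', -, -, hdet, -, hhv⟩ := trans_gl m v hv0
    set u' := ofM (hᵀ * toM u * h.map σ₀) with hu'
    have hu'00 : u' (0, 0) ≠ 0 := by
      have h1 : u' (0, 0) = B σ₀ (toM u) v v := by
        show (hᵀ * toM u * h.map σ₀) 0 0 = _
        rw [← B_single σ₀ (hᵀ * toM u * h.map σ₀) 0 0, B_act,
          show (Pi.single 0 1 : Fin (m + 1) → F) = e0 from rfl, hhv]
      rw [h1]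
      exact hv
    obtain ⟨G, Gi, hG1, hG2, hGP⟩ := hconj h hdet u
    rw [finrank_rg_conj (Pr ψ x u) (Pr ψ x u') G Gi hG1 hG2 hGP]
    have hP0 : Pr ψ x u' ≠ 0 := hPr_ne h hdet u hu
    have hPP : Pr ψ x u' * Pr ψ x u' = Pr ψ x u' := by
      rw [Pr_mul_Pr ψ x hψ hcard hxa, if_pos rfl]
    let y : F → Matrix (Fin k) (Fin k) L := fun μ => σ' (e.symm (HO σ₀ hσ₀ hτ μ))
    let yi : F → Matrix (Fin k) (Fin k) L := fun μ => σ' (e.symm (HO σ₀ hσ₀ hτ μ))⁻¹
    have hyx : ∀ μ v, y μ * x v = x v * y μ := by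
      intro μ v
      show σ' (e.symm (HO σ₀ hσ₀ hτ μ)) * σ' (e.symm (XVO σ₀ hσ₀ v)) =
        σ' (e.symm (XVO σ₀ hσ₀ v)) * σ' (e.symm (HO σ₀ hσ₀ hτ μ))
      rw [← map_mul, ← map_mul, ← map_mul, ← map_mul, HO_comm_XVO]
    have hc : ∀ μ, y μ * Pr ψ x u' = Pr ψ x u' * y μ := by
      intro μ
      exact Pr_conj ψ x (N := Equiv.refl _) (fun v => hyx μ v) (fun v => rfl)
    let fμ : F → (F →+ F) := fun μ =>
      (AddMonoidHom.mulLeft (u' (0, 0) * μ)).comp σ₀.toAddMonoidHom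
    let χ : F → AddChar F L := fun μ => ψ.compAddMonoidHom (fμ μ)
    have hχapp : ∀ μ ν, χ μ ν = ψ (u' (0, 0) * μ * σ₀ ν) := fun μ ν => rfl
    have hχ : Function.Injective χ := by
      intro μ μ' hμ
      by_contra hne
      have h1 : u' (0, 0) * (μ - μ') ≠ 0 := mul_ne_zero hu'00 (sub_ne_zero.mpr hne)
      obtain ⟨t, ht⟩ := AddChar.ne_one_iff.mp (hψ h1)
      apply ht
      have h2 := congrArg (fun c : AddChar F L => c (σ₀ t)) hμ
      simp only [hχapp, hσ₀] at h2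
      show ψ (u' (0, 0) * (μ - μ') * t) = 1
      have h3 : u' (0, 0) * (μ - μ') * t = u' (0, 0) * μ * t - u' (0, 0) * μ' * t := by ring
      rw [h3, sub_eq_add_neg, AddChar.map_add_eq_mul, AddChar.map_neg_eq_inv, h2,
        mul_inv_cancel₀]
      have h4 : ψ (u' (0, 0) * μ' * t) * ψ (-(u' (0, 0) * μ' * t)) = 1 := by
        rw [← AddChar.map_add_eq_mul, add_neg_cancel, AddChar.map_zero_eq_one]
      exact left_ne_zero_of_mul_eq_one h4
    have hrel : ∀ μ ν, y ν * (y μ * Pr ψ x u') = χ μ ν • (y μ * Pr ψ x u' * y ν) := by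
      intro μ ν
      have h1 : y ν * y μ = y μ * y ν * x (Pi.single (0, 0) (μ * σ₀ ν)) := by
        show σ' (e.symm (HO σ₀ hσ₀ hτ ν)) * σ' (e.symm (HO σ₀ hσ₀ hτ μ)) =
          σ' (e.symm (HO σ₀ hσ₀ hτ μ)) * σ' (e.symm (HO σ₀ hσ₀ hτ ν)) *
            σ' (e.symm (XVO σ₀ hσ₀ (Pi.single (0, 0) (μ * σ₀ ν))))
        rw [← map_mul, ← map_mul, ← map_mul, ← map_mul, ← map_mul, ← map_mul, HO_rel]
      have h2 : x (Pi.single (0, 0) (μ * σ₀ ν)) * Pr ψ x u' = χ μ ν • Pr ψ x u' := by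
        rw [x_mul_Pr ψ x hxa, hχapp, dotProduct_single, mul_assoc]
      calc y ν * (y μ * Pr ψ x u') = (y ν * y μ) * Pr ψ x u' := by rw [Matrix.mul_assoc]
        _ = y μ * y ν * (x (Pi.single (0, 0) (μ * σ₀ ν)) * Pr ψ x u') := by
          rw [h1, Matrix.mul_assoc]
        _ = χ μ ν • (y μ * (y ν * Pr ψ x u')) := by
          rw [h2, Matrix.mul_smul, Matrix.mul_assoc]
        _ = χ μ ν • (y μ * Pr ψ x u' * y ν) := by
          rw [hc ν, Matrix.mul_assoc]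
    have h1 := card_le_finrank_sq (Pr ψ x u') hPP hP0 y yi (fun μ => (hσ'inv _).1)
      (fun μ => (hσ'inv _).2) hc χ hχ hrel
    rw [hF] at h1
    exact (Nat.pow_le_pow_iff_left (by norm_num)).mp h1
  -- the set of occurring non-trivial characters
  set W1 : Finset (Fin (m + 1) × Fin (m + 1) → F) :=
    Finset.univ.filter (fun u => u ≠ 0 ∧ Pr ψ x u ≠ 0) with hW1
  set W : Finset (Matrix (Fin (m + 1)) (Fin (m + 1)) F) := W1.image toM with hW
  have hsum : q * W1.card ≤ k := by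
    have h1 := sum_finrank_le (κ := Fin (m + 1) × Fin (m + 1) → F) (fun u => Pr ψ x u)
      (fun a b => Pr_mul_Pr ψ x hψ hcard hxa a b)
    refine le_trans ?_ h1
    calc q * W1.card = ∑ _u ∈ W1, q := by rw [Finset.sum_const, smul_eq_mul, mul_comm]
      _ ≤ ∑ u ∈ W1, Module.finrank L (rg (Pr ψ x u)) := by
        apply Finset.sum_le_sum
        intro u hu
        rw [hW1, Finset.mem_filter] at hu
        exact hrank u hu.2.1 hu.2.2
      _ ≤ ∑ u, Module.finrank L (rg (Pr ψ x u)) :=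
        Finset.sum_le_sum_of_subset (Finset.subset_univ _)
  have hbound := card_bound σ₀ (q := q) (fun a => rfl) hq1 (frob_ne hF) (fun h => h.det ≠ 0)
    (fun v hv => trans_gl m v hv) (fun z => by rw [det_tv]; exact one_ne_zero) W
    (by
      intro U hU h hdet
      obtain ⟨u, hu, rfl⟩ := Finset.mem_image.mp hU
      rw [hW1, Finset.mem_filter] at hu
      rw [hW, Finset.mem_image]
      refine ⟨ofM (hᵀ * toM u * h.map σ₀), ?_, toM_ofM _⟩
      rw [hW1, Finset.mem_filter]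
      refine ⟨Finset.mem_univ _, ?_, hPr_ne h hdet u hu.2.2⟩
      intro h0
      apply hu.2.1
      have h1 : hᵀ * toM u * h.map σ₀ = 0 := by
        rw [← toM_ofM (hᵀ * toM u * h.map σ₀), h0, toM_zero]
      have hhg : h * h⁻¹ = 1 := Matrix.mul_nonsing_inv h (isUnit_iff_ne_zero.mpr hdet)
      have e1 : (h⁻¹)ᵀ * hᵀ = 1 := by rw [← transpose_mul, hhg, transpose_one]
      have e2 : h.map σ₀ * (h⁻¹).map σ₀ = 1 := by
        rw [← Matrix.map_mul, hhg]
        exact Matrix.map_one σ₀ (map_zero σ₀) (map_one σ₀)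
      have h2 : toM u = (h⁻¹)ᵀ * (hᵀ * toM u * h.map σ₀) * (h⁻¹).map σ₀ := by
        calc toM u = ((h⁻¹)ᵀ * hᵀ) * toM u * (h.map σ₀ * (h⁻¹).map σ₀) := by
              rw [e1, e2, Matrix.one_mul, Matrix.mul_one]
          _ = (h⁻¹)ᵀ * (hᵀ * toM u * h.map σ₀) * (h⁻¹).map σ₀ := by
              simp only [Matrix.mul_assoc]
      rw [h1, Matrix.mul_zero, Matrix.zero_mul] at h2
      exact toM_injective (by rw [h2, toM_zero]))
    (toM u₀) (Finset.mem_image.mpr ⟨u₀, Finset.mem_filter.mpr ⟨Finset.mem_univ _, hu₀0, hu₀⟩, rfl⟩)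
    (fun h => hu₀0 (toM_injective (by rw [h, toM_zero])))
  have hWcard : W.card = W1.card := Finset.card_image_of_injective _ toM_injective
  rw [hWcard] at hbound
  calc q * (Fintype.card F ^ (m + 1) - 1) ≤ q * ((q + 1) * W1.card) := Nat.mul_le_mul_left _ hbound
    _ = (q + 1) * (q * W1.card) := by ring
    _ ≤ (q + 1) * k := Nat.mul_le_mul_left _ hsum

end main

end Cfsg.Agent.Lib.Helper13.LSU
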