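import Mathlib
import Cfsg.Agent.Lib.Helper14.Unitary3

/-!
helper13: leaf U2 for helper12's S6001: the golden ratio in the prime field, `p ≡ ±1 (mod 5)`.
-/

set_option autoImplicit false

open Polynomial Cfsg.Agent.Lib.Helper14

namespace Cfsg.Agent.Lib.Helper13.Leaf6001

theorem four_eq_two_mul_two' : ((4 : ℕ) : ZMod 5) = 2 * 2 := by decide

variable {F : Type*} [Field F] [Fintype F] {p : ℕ} [Fact p.Prime] [CharP F p]

/-- (U2) a root of `X² + X - 1` fixed by the Frobenius `x ↦ x ^ p`. -/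
theorem U2 (h : p % 5 = 1 ∨ p % 5 = 4) : ∃ τ : F, τ ^ 2 + τ - 1 = 0 ∧ τ ^ p = τ := by
  have hpp : p.Prime := Fact.out
  haveI : Fact (Nat.Prime 5) := ⟨by norm_num⟩
  have hp2 : p ≠ 2 := by
    rintro rfl
    omega
  -- 5 is a square mod p
  have hsq : IsSquare ((5 : ℕ) : ZMod p) := by
    rw [← ZMod.exists_sq_eq_prime_iff_of_mod_four_eq_one (p := 5) (q := p) (by norm_num) hp2]
    rcases h with h | h
    · refine ⟨1, ?_⟩
      have : ((p : ℕ) : ZMod 5) = ((p % 5 : ℕ) : ZMod 5) := by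
        rw [ZMod.natCast_mod]
      rw [this, h]; simp
    · refine ⟨2, ?_⟩
      have : ((p : ℕ) : ZMod 5) = ((p % 5 : ℕ) : ZMod 5) := by
        rw [ZMod.natCast_mod]
      rw [this, h]
      exact four_eq_two_mul_two'
  obtain ⟨s, hs⟩ := hsq
  have h2 : (2 : ZMod p) ≠ 0 := by
    intro h0
    have h1 : ((2 : ℕ) : ZMod p) = 0 := by exact_mod_cast h0
    rw [ZMod.natCast_eq_zero_iff] at h1
    have hle : p ≤ 2 := Nat.le_of_dvd (by norm_num) h1
    have := hpp.two_le
    omega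
  -- the root in `ZMod p`
  set t : ZMod p := (-1 + s) / 2 with ht
  have hroot : t ^ 2 + t - 1 = 0 := by
    rw [ht]
    field_simp
    ring_nf
    have h5 : s ^ 2 = 5 := by
      rw [pow_two, ← hs]; norm_num
    rw [h5]; ring
  have hfrob : t ^ p = t := ZMod.pow_card t
  let φ : ZMod p →+* F := ZMod.castHom (dvd_refl p) F
  refine ⟨φ t, ?_, ?_⟩
  · have := congrArg φ hroot
    simpa using this
  · rw [← map_pow, hfrob]

end Cfsg.Agent.Lib.Helper13.Leaf6001
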