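import Mathlib
import Cfsg.Agent.Lib.Helper14.Unitary3
import Cfsg.Agent.S2643

/-!
helper13: leaf U5 for helper12's S6001: a unitary `4 × 4` matrix `x ≠ 1` over `F_{p²}` with
`x ^ 5 = 1`, `p` of order `4` modulo `5`, has characteristic polynomial `X⁴ + X³ + X² + X + 1`.

Proof: over the algebraic closure `x` is diagonalisable with eigenvalues `μ_i`, fifth roots of
unity; unitarity gives `{μ_i⁻¹} = {μ_i ^ p}` as multisets, so the multiplicity function is invariant
under `w ↦ (w ^ p)⁻¹`, which permutes the four primitive fifth roots of unity cyclically.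
-/

set_option autoImplicit false

open Polynomial Cfsg.Agent.Lib.Helper14
open scoped Matrix

namespace Cfsg.Agent.Lib.Helper13.Leaf6001

universe u

/-- eigenbasis for an endomorphism of finite order prime to the characteristic -/
theorem exists_eigenbasis_of_pow_eq_one' {K : Type u} {V : Type*} [Field K] [IsAlgClosed K]
    [AddCommGroup V] [Module K V] [FiniteDimensional K V] (f : Module.End K V) (m : ℕ)
    (hm : (m : K) ≠ 0) (hf : f ^ m = 1) :
    ∃ (ι : Type u) (_ : Fintype ι) (b : Module.Basis ι K V) (μ : ι → K),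
      (∀ i, μ i ^ m = 1) ∧ ∀ i, f (b i) = μ i • b i := by
  classical
  have hss : f.IsSemisimple := by
    apply Module.End.isSemisimple_of_squarefree_aeval_eq_zero (p := X ^ m - C (1 : K))
    · exact (separable_X_pow_sub_C (1 : K) hm one_ne_zero).squarefree
    · simp [hf]
  have hint := DirectSum.isInternal_submodule_of_iSupIndep_of_iSup_eq_top
    (Module.End.eigenspaces_iSupIndep f) hss.iSup_eigenspace_eq_top
  let b := hint.collectedBasis (fun μ => Module.finBasis K (f.eigenspace μ))
  have : Fintype (Σ μ : K, Fin (Module.finrank K (f.eigenspace μ))) :=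
    FiniteDimensional.fintypeBasisIndex b
  refine ⟨_, inferInstance, b, fun a => a.1, ?_, ?_⟩
  · intro a
    have hmem : (b a : V) ∈ f.eigenspace a.1 := hint.collectedBasis_mem _ a
    have h1 : f (b a) = a.1 • b a := Module.End.mem_eigenspace_iff.mp hmem
    have h2 : ∀ k : ℕ, (f ^ k) (b a) = a.1 ^ k • b a := by
      intro k
      induction k with
      | zero => simp
      | succ k ih =>
        rw [pow_succ, Module.End.mul_apply, h1, map_smul, ih, smul_smul, pow_succ, mul_comm]
    have h3 := h2 m
    rw [hf, Module.End.one_apply] at h3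
    have hne : b a ≠ 0 := b.ne_zero a
    have : (a.1 ^ m - 1) • b a = 0 := by rw [sub_smul, one_smul, ← h3, sub_self]
    rcases smul_eq_zero.mp this with h | h
    · exact sub_eq_zero.mp h
    · exact absurd h hne
  · intro a
    exact Module.End.mem_eigenspace_iff.mp (hint.collectedBasis_mem _ a)

/-- the characteristic polynomial from an eigenbasis -/
theorem charpoly_of_eigenbasis {K : Type*} [Field K] {n : Type*} [Fintype n] [DecidableEq n]
    (M : Matrix n n K) {ι : Type*} [Fintype ι] [DecidableEq ι]
    (b : Module.Basis ι K (n → K)) (μ : ι → K)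
    (h : ∀ i, Matrix.toLin' M (b i) = μ i • b i) :
    M.charpoly = ∏ i, (X - C (μ i)) := by
  have hmat : LinearMap.toMatrix b b (Matrix.toLin' M) = Matrix.diagonal μ := by
    ext i j
    rw [LinearMap.toMatrix_apply, h j, Matrix.diagonal_apply]
    simp only [map_smul, Module.Basis.repr_self, Finsupp.smul_apply, smul_eq_mul,
      Finsupp.single_apply]
    by_cases hij : i = j
    · subst hij; simp
    · rw [if_neg hij, if_neg (Ne.symm hij), mul_zero]
  rw [← Matrix.charpoly_toLin', ← LinearMap.charpoly_toMatrix (Matrix.toLin' M) b, hmat,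
    Matrix.charpoly_diagonal]

variable {F : Type*} [Field F] [Fintype F] {p : ℕ} [Fact p.Prime] [CharP F p]

theorem U5 (hF : Fintype.card F = p ^ 2) (hord : orderOf (p : ZMod 5) = 4)
    (x : Matrix (Fin 4) (Fin 4) F) (hu : IsUni F p 4 x) (hx5 : x ^ 5 = 1) (hx1 : x ≠ 1) :
    x.charpoly = X ^ 4 + X ^ 3 + X ^ 2 + X + 1 := by
  classical
  have hpp : p.Prime := Fact.out
  -- `p mod 5 ∈ {2, 3}`
  have hp5 : p % 5 = 2 ∨ p % 5 = 3 := by
    have hcast : ((p : ℕ) : ZMod 5) = ((p % 5 : ℕ) : ZMod 5) := (ZMod.natCast_mod p 5).symm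
    have h4 : ((p : ℕ) : ZMod 5) ^ 4 = 1 := by
      rw [← hord]; exact pow_orderOf_eq_one _
    have hlt : p % 5 < 5 := Nat.mod_lt _ (by norm_num)
    have hnot2 : ¬ ((p : ℕ) : ZMod 5) ^ 2 = 1 := by
      intro h2
      have := orderOf_dvd_of_pow_eq_one h2
      rw [hord] at this
      norm_num at this
    rw [hcast] at h4 hnot2
    generalize p % 5 = r at hlt h4 hnot2
    interval_cases r
    · exfalso; revert h4; decide
    · exfalso; apply hnot2; decide
    · left; rfl
    · right; rfl
    · exfalso; apply hnot2; decide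
  have hp5ne : p ≠ 5 := by
    rintro rfl
    omega
  have h5F : ((5 : ℕ) : F) ≠ 0 := by
    intro h
    rw [CharP.cast_eq_zero_iff F p] at h
    exact hp5ne ((Nat.prime_dvd_prime_iff_eq hpp (by norm_num)).mp h)
  haveI : NeZero ((5 : ℕ) : F) := ⟨h5F⟩
  -- the algebraic closure
  let K := AlgebraicClosure F
  let ι : F →+* K := algebraMap F K
  have hιinj : Function.Injective ι := (algebraMap F K).injective
  haveI : CharP K p := charP_of_injective_algebraMap hιinj p
  haveI : ExpChar K p := ExpChar.prime hpp
  haveI : ExpChar F p := ExpChar.prime hpp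
  have h5K : ((5 : ℕ) : K) ≠ 0 := by
    intro h
    rw [CharP.cast_eq_zero_iff K p] at h
    exact hp5ne ((Nat.prime_dvd_prime_iff_eq hpp (by norm_num)).mp h)
  -- the inverse of `x`
  set y : Matrix (Fin 4) (Fin 4) F := xᵀ.map (fun a => a ^ p) with hy
  have hyx : y * x = 1 := (Cfsg.Agent.S2643.isUni_iff hF x).mp hu
  have hxy : x * y = 1 := mul_eq_one_comm.mp hyx
  have hycp : y.charpoly = x.charpoly.map (frobenius F p) := by
    have : y = xᵀ.map (frobenius F p) := by
      rw [hy]; rfl
    rw [this, Matrix.charpoly_map, Matrix.charpoly_transpose]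
  -- matrices over `K`
  set M : Matrix (Fin 4) (Fin 4) K := x.map ι with hM
  set N : Matrix (Fin 4) (Fin 4) K := y.map ι with hN
  have hM5 : M ^ 5 = 1 := by
    rw [hM, ← Matrix.map_pow, hx5, Matrix.map_one _ (map_zero ι) (map_one ι)]
  have hNM : N * M = 1 := by
    rw [hN, hM, ← Matrix.map_mul, hyx, Matrix.map_one _ (map_zero ι) (map_one ι)]
  have hf5 : Matrix.toLin' M ^ 5 = 1 := by
    rw [← Matrix.toLin'_pow, hM5, Matrix.toLin'_one]; rfl
  obtain ⟨κ, hκ, b, μ, hμ5, hb⟩ :=
    exists_eigenbasis_of_pow_eq_one' (Matrix.toLin' M) 5 h5K hf5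
  have hμ0 : ∀ i, μ i ≠ 0 := by
    intro i h0
    have := hμ5 i
    rw [h0] at this
    norm_num at this
  have hbN : ∀ i, Matrix.toLin' N (b i) = (μ i)⁻¹ • b i := by
    intro i
    have h1 : Matrix.toLin' N (Matrix.toLin' M (b i)) = b i := by
      rw [← LinearMap.comp_apply, ← Matrix.toLin'_mul, hNM, Matrix.toLin'_one]
      rfl
    rw [hb i, map_smul] at h1
    calc Matrix.toLin' N (b i) = (μ i)⁻¹ • (μ i • Matrix.toLin' N (b i)) := by
          rw [smul_smul, inv_mul_cancel₀ (hμ0 i), one_smul]
      _ = (μ i)⁻¹ • b i := by rw [h1]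
  have hcardκ : Fintype.card κ = 4 := by
    rw [← Module.finrank_eq_card_basis b]
    simp
  have cM : M.charpoly = ∏ i, (X - C (μ i)) := charpoly_of_eigenbasis M b μ hb
  have cN : N.charpoly = ∏ i, (X - C ((μ i)⁻¹)) := charpoly_of_eigenbasis N b _ hbN
  have hMx : M.charpoly = x.charpoly.map ι := Matrix.charpoly_map x ι
  have hcomm : ι.comp (frobenius F p) = (frobenius K p).comp ι := by
    ext a
    simp [frobenius_def]
  have cN' : N.charpoly = ∏ i, (X - C ((μ i) ^ p)) := by
    rw [hN, Matrix.charpoly_map, hycp, Polynomial.map_map, hcomm, ← Polynomial.map_map, ← hMx, cM,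
      Polynomial.map_prod]
    apply Finset.prod_congr rfl
    intro i _
    rw [Polynomial.map_sub, Polynomial.map_X, Polynomial.map_C, frobenius_def]
  -- the multiset of eigenvalues
  set S : Multiset K := Finset.univ.val.map μ with hS
  have hprod : ∀ g : K → K, ∏ i, (X - C (g (μ i))) =
      ((S.map g).map (fun a => X - C a)).prod := by
    intro g
    rw [hS, Multiset.map_map, Multiset.map_map]
    rfl
  have hSeq : S.map (fun a => a⁻¹) = S.map (fun a => a ^ p) := by
    have h1 := cN.symm.trans cN'
    rw [hprod (fun a => a⁻¹), hprod (fun a => a ^ p)] at h1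
    have h2 := congrArg Polynomial.roots h1
    rwa [roots_multiset_prod_X_sub_C, roots_multiset_prod_X_sub_C] at h2
  have hScard : Multiset.card S = 4 := by
    rw [hS, Multiset.card_map]
    exact hcardκ
  have hSmem : ∀ a ∈ S, a ^ 5 = 1 := by
    intro a ha
    rw [hS, Multiset.mem_map] at ha
    obtain ⟨i, -, rfl⟩ := ha
    exact hμ5 i
  -- invariance of the multiplicity
  have hfrobinj : Function.Injective (fun a : K => a ^ p) := by
    intro a c hac
    exact frobenius_inj K p hac
  have hinvinj : Function.Injective (fun a : K => a⁻¹) := inv_injective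
  have hcount : ∀ w : K, S.count w = S.count ((w ^ p)⁻¹) := by
    intro w
    have h1 := Multiset.count_map_eq_count' (fun a : K => a ^ p) S hfrobinj w
    have h2 := Multiset.count_map_eq_count' (fun a : K => a⁻¹) S hinvinj ((w ^ p)⁻¹)
    simp only [inv_inv] at h2
    rw [← h1, ← hSeq, h2]
  -- a primitive fifth root of unity
  obtain ⟨ζ, hζ⟩ := HasEnoughRootsOfUnity.exists_primitiveRoot K 5
  have hζ5 : ζ ^ 5 = 1 := hζ.pow_eq_one
  have hpow : ∀ a b : ℕ, 5 ∣ p * a + b → S.count (ζ ^ a) = S.count (ζ ^ b) := by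
    intro a b hab
    rw [hcount (ζ ^ a)]
    congr 1
    apply inv_eq_of_mul_eq_one_right
    obtain ⟨c, hc⟩ := hab
    rw [← pow_mul, ← pow_add, mul_comm a p, hc, pow_mul, hζ5, one_pow]
  have heq : S.count (ζ ^ 1) = S.count (ζ ^ 2) ∧ S.count (ζ ^ 1) = S.count (ζ ^ 3) ∧
      S.count (ζ ^ 1) = S.count (ζ ^ 4) := by
    rcases hp5 with h | h
    · have e1 := hpow 1 3 (by omega)
      have e2 := hpow 3 4 (by omega)
      have e3 := hpow 4 2 (by omega)
      exact ⟨by rw [e1, e2, e3], e1, by rw [e1, e2]⟩
    · have e1 := hpow 1 2 (by omega)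
      have e2 := hpow 2 4 (by omega)
      have e3 := hpow 4 3 (by omega)
      exact ⟨e1, by rw [e1, e2, e3], by rw [e1, e2]⟩
  obtain ⟨eq2, eq3, eq4⟩ := heq
  -- the sum of the multiplicities
  have hinj5 : Set.InjOn (fun k : ℕ => ζ ^ k) (Finset.range 5 : Set ℕ) := by
    intro i hi j hj hij
    exact hζ.pow_inj (Finset.mem_range.mp hi) (Finset.mem_range.mp hj) hij
  have hsub : S.toFinset ⊆ (Finset.range 5).image (fun k : ℕ => ζ ^ k) := by
    intro a ha
    rw [Multiset.mem_toFinset] at ha
    obtain ⟨k, hk, hk'⟩ := hζ.eq_pow_of_pow_eq_one (hSmem a ha)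
    exact Finset.mem_image.mpr ⟨k, Finset.mem_range.mpr hk, hk'⟩
  have hsum : ∑ k ∈ Finset.range 5, S.count (ζ ^ k) = 4 := by
    rw [← hScard, ← Multiset.toFinset_sum_count_eq S,
      ← Finset.sum_image (f := fun a : K => Multiset.count a S) (g := fun k : ℕ => ζ ^ k) hinj5]
    symm
    apply Finset.sum_subset hsub
    intro a _ ha
    rw [Multiset.mem_toFinset] at ha
    exact Multiset.count_eq_zero_of_notMem ha
  simp only [Finset.sum_range_succ, Finset.sum_range_zero, zero_add, pow_zero] at hsum
  rw [← eq2, ← eq3, ← eq4] at hsum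
  have hm : S.count (ζ ^ 1) = 0 ∨ S.count (ζ ^ 1) = 1 := by omega
  rcases hm with hm0 | hm1
  · -- all eigenvalues are `1`: `x = 1`
    exfalso
    apply hx1
    have hall : ∀ i, μ i = 1 := by
      intro i
      have hmem : μ i ∈ S := by
        rw [hS, Multiset.mem_map]
        exact ⟨i, Finset.mem_univ_val i, rfl⟩
      obtain ⟨k, hk, hk'⟩ := hζ.eq_pow_of_pow_eq_one (hμ5 i)
      have hpos : 0 < S.count (μ i) := Multiset.count_pos.mpr hmem
      rw [← hk'] at hpos ⊢
      interval_cases k
      · rw [pow_zero]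
      · omega
      · omega
      · omega
      · omega
    have hfid : Matrix.toLin' M = LinearMap.id := by
      apply b.ext
      intro i
      rw [hb i, hall i, one_smul]
      rfl
    have hM1 : M = 1 := by
      apply Matrix.toLin'.injective
      rw [hfid, Matrix.toLin'_one]
    apply Matrix.map_injective hιinj
    show x.map ι = (1 : Matrix (Fin 4) (Fin 4) F).map ι
    rw [← hM, hM1, Matrix.map_one _ (map_zero ι) (map_one ι)]
  · -- the eigenvalues are the four primitive fifth roots of unity
    have hc0 : S.count (1 : K) = 0 := by omega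
    have hST : (1 : K) ::ₘ S = (Multiset.range 5).map (fun k : ℕ => ζ ^ k) := by
      have hnodup : ((Multiset.range 5).map (fun k : ℕ => ζ ^ k)).Nodup := by
        apply Multiset.Nodup.map_on _ (Multiset.nodup_range 5)
        intro i hi j hj hij
        exact hζ.pow_inj (Multiset.mem_range.mp hi) (Multiset.mem_range.mp hj) hij
      ext a
      rw [Multiset.count_cons]
      by_cases ha : a ∈ (Multiset.range 5).map (fun k : ℕ => ζ ^ k)
      · rw [Multiset.count_eq_one_of_mem hnodup ha]
        rw [Multiset.mem_map] at ha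
        obtain ⟨k, hk, rfl⟩ := ha
        rw [Multiset.mem_range] at hk
        interval_cases k
        · rw [pow_zero, hc0, if_pos rfl]
        · rw [hm1, if_neg]
          intro h
          have := hζ.pow_inj (by norm_num : 1 < 5) (by norm_num : 0 < 5) (by rw [pow_zero]; exact h)
          omega
        · rw [← eq2, hm1, if_neg]
          intro h
          have := hζ.pow_inj (by norm_num : 2 < 5) (by norm_num : 0 < 5) (by rw [pow_zero]; exact h)
          omega
        · rw [← eq3, hm1, if_neg]
          intro h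
          have := hζ.pow_inj (by norm_num : 3 < 5) (by norm_num : 0 < 5) (by rw [pow_zero]; exact h)
          omega
        · rw [← eq4, hm1, if_neg]
          intro h
          have := hζ.pow_inj (by norm_num : 4 < 5) (by norm_num : 0 < 5) (by rw [pow_zero]; exact h)
          omega
      · rw [Multiset.count_eq_zero_of_notMem ha]
        have ha1 : a ≠ 1 := by
          intro h
          apply ha
          rw [Multiset.mem_map]
          exact ⟨0, Multiset.mem_range.mpr (by norm_num), by rw [pow_zero, h]⟩
        have haS : a ∉ S := by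
          intro h
          apply ha
          obtain ⟨k, hk, hk'⟩ := hζ.eq_pow_of_pow_eq_one (hSmem a h)
          rw [Multiset.mem_map]
          exact ⟨k, Multiset.mem_range.mpr hk, hk'⟩
        rw [Multiset.count_eq_zero_of_notMem haS, if_neg ha1]
    -- `X ^ 5 - 1 = ∏ (X - ζ ^ k)`
    have hX5 : (X : K[X]) ^ 5 - 1 = (((Multiset.range 5).map (fun k : ℕ => ζ ^ k)).map
        (fun a => X - C a)).prod := by
      rw [X_pow_sub_one_eq_prod (by norm_num : 0 < 5) hζ]
      have hfs : nthRootsFinset 5 (1 : K) = (Finset.range 5).image (fun k : ℕ => ζ ^ k) := by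
        symm
        apply Finset.eq_of_subset_of_card_le
        · intro a ha
          rw [Finset.mem_image] at ha
          obtain ⟨k, -, rfl⟩ := ha
          rw [mem_nthRootsFinset (by norm_num : 0 < 5), ← pow_mul, mul_comm, pow_mul, hζ5, one_pow]
        · rw [hζ.card_nthRootsFinset, Finset.card_image_of_injOn hinj5, Finset.card_range]
      rw [hfs, Finset.prod_image hinj5, Multiset.map_map]
      rfl
    have hfac : (X : K[X]) ^ 5 - 1 = (X - 1) * (X ^ 4 + X ^ 3 + X ^ 2 + X + 1) := by ring
    have hprodS : (X - C (1 : K)) * ∏ i, (X - C (μ i)) = X ^ 5 - 1 := by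
      rw [hX5, ← hST, Multiset.map_cons, Multiset.prod_cons]
      congr 1
      have := hprod id
      simpa using this
    have hne : (X - 1 : K[X]) ≠ 0 := by
      have := X_sub_C_ne_zero (1 : K)
      simpa using this
    have hfinal : x.charpoly.map ι = X ^ 4 + X ^ 3 + X ^ 2 + X + 1 := by
      rw [← hMx, cM]
      apply mul_left_cancel₀ hne
      rw [← hfac, ← hprodS, map_one]
    apply Polynomial.map_injective ι hιinj
    rw [hfinal]
    simp

end Cfsg.Agent.Lib.Helper13.Leaf6001
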