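import Mathlib
import Cfsg.Agent.Lib.Helper14.Unitary3
import Cfsg.Agent.S2643
import Cfsg.Agent.Lib.Helper13.Leaf6001U5

/-!
helper13: leaf U6 for helper12's S6001: a unitary `4 × 4` matrix `x` over `F_{p²}` with `x ^ 3 = 1`,
`p ≡ 1 (mod 3)`, has characteristic polynomial `(X - 1) ^ (4 - 2 a) * (X² + X + 1) ^ a` for some
`a ≤ 2`.  Corollaries: the trace is `4`, `1` or `-2`, and it determines the characteristic polynomial.

Proof: over the algebraic closure `x` is diagonalisable with eigenvalues `μ_i`, cube roots of unity;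
unitarity gives `{μ_i⁻¹} = {μ_i ^ p}` as multisets, and `w ^ p = w` for a cube root of unity `w`,
so `w` and `w⁻¹` have the same multiplicity.
-/

set_option autoImplicit false
set_option linter.unusedSimpArgs false
set_option linter.style.haveILetI false

open Polynomial Cfsg.Agent.Lib.Helper14
open scoped Matrix

namespace Cfsg.Agent.Lib.Helper13.Leaf6001

variable {F : Type*} [Field F] [Fintype F] {p : ℕ} [Fact p.Prime] [CharP F p]

theorem U6 (hF : Fintype.card F = p ^ 2) (hp3 : p % 3 = 1)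
    (x : Matrix (Fin 4) (Fin 4) F) (hu : IsUni F p 4 x) (hx3 : x ^ 3 = 1) :
    ∃ a : ℕ, a ≤ 2 ∧ x.charpoly = (X - 1) ^ (4 - 2 * a) * (X ^ 2 + X + 1) ^ a := by
  classical
  have hpp : p.Prime := Fact.out
  have hp3ne : p ≠ 3 := by
    rintro rfl
    omega
  have h3F : ((3 : ℕ) : F) ≠ 0 := by
    intro h
    rw [CharP.cast_eq_zero_iff F p] at h
    exact hp3ne ((Nat.prime_dvd_prime_iff_eq hpp (by norm_num)).mp h)
  haveI : NeZero ((3 : ℕ) : F) := ⟨h3F⟩
  -- the algebraic closure
  let K := AlgebraicClosure F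
  let ι : F →+* K := algebraMap F K
  have hιinj : Function.Injective ι := (algebraMap F K).injective
  haveI : CharP K p := charP_of_injective_algebraMap hιinj p
  haveI : ExpChar K p := ExpChar.prime hpp
  haveI : ExpChar F p := ExpChar.prime hpp
  have h3K : ((3 : ℕ) : K) ≠ 0 := by
    intro h
    rw [CharP.cast_eq_zero_iff K p] at h
    exact hp3ne ((Nat.prime_dvd_prime_iff_eq hpp (by norm_num)).mp h)
  haveI : NeZero ((3 : ℕ) : K) := ⟨h3K⟩
  -- the inverse of `x`
  set y : Matrix (Fin 4) (Fin 4) F := xᵀ.map (fun a => a ^ p) with hy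
  have hyx : y * x = 1 := (Cfsg.Agent.S2643.isUni_iff hF x).mp hu
  have hycp : y.charpoly = x.charpoly.map (frobenius F p) := by
    have : y = xᵀ.map (frobenius F p) := by
      rw [hy]; rfl
    rw [this, Matrix.charpoly_map, Matrix.charpoly_transpose]
  -- matrices over `K`
  set M : Matrix (Fin 4) (Fin 4) K := x.map ι with hM
  set N : Matrix (Fin 4) (Fin 4) K := y.map ι with hN
  have hM3 : M ^ 3 = 1 := by
    rw [hM, ← Matrix.map_pow, hx3, Matrix.map_one _ (map_zero ι) (map_one ι)]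
  have hNM : N * M = 1 := by
    rw [hN, hM, ← Matrix.map_mul, hyx, Matrix.map_one _ (map_zero ι) (map_one ι)]
  have hf3 : Matrix.toLin' M ^ 3 = 1 := by
    rw [← Matrix.toLin'_pow, hM3, Matrix.toLin'_one]; rfl
  obtain ⟨κ, hκ, b, μ, hμ3, hb⟩ :=
    exists_eigenbasis_of_pow_eq_one' (Matrix.toLin' M) 3 h3K hf3
  have hμ0 : ∀ i, μ i ≠ 0 := by
    intro i h0
    have := hμ3 i
    rw [h0] at this
    norm_num at this
  have hbN : ∀ i, Matrix.toLin' N (b i) = (μ i)⁻¹ • b i := by
    intro i
    have h1 : Matrix.toLin' N (Matrix.toLin' M (b i)) = b i := by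
      rw [← LinearMap.comp_apply, ← Matrix.toLin'_mul, hNM, Matrix.toLin'_one]
      rfl
    rw [hb i, map_smul] at h1
    calc Matrix.toLin' N (b i) = (μ i)⁻¹ • (μ i • Matrix.toLin' N (b i)) := by
          rw [smul_smul, inv_mul_cancel₀ (hμ0 i), one_smul]
      _ = (μ i)⁻¹ • b i := by rw [h1]
  have hcardκ : Fintype.card κ = 4 := by
    rw [← Module.finrank_eq_card_basis b]
    simp
  have cM : M.charpoly = ∏ i, (X - C (μ i)) := charpoly_of_eigenbasis M b μ hb
  have cN : N.charpoly = ∏ i, (X - C ((μ i)⁻¹)) := charpoly_of_eigenbasis N b _ hbN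
  have hMx : M.charpoly = x.charpoly.map ι := Matrix.charpoly_map x ι
  have hcomm : ι.comp (frobenius F p) = (frobenius K p).comp ι := by
    ext a
    simp [frobenius_def]
  have cN' : N.charpoly = ∏ i, (X - C ((μ i) ^ p)) := by
    rw [hN, Matrix.charpoly_map, hycp, Polynomial.map_map, hcomm, ← Polynomial.map_map, ← hMx, cM,
      Polynomial.map_prod]
    apply Finset.prod_congr rfl
    intro i _
    rw [Polynomial.map_sub, Polynomial.map_X, Polynomial.map_C, frobenius_def]
  -- the multiset of eigenvalues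
  set S : Multiset K := Finset.univ.val.map μ with hS
  have hprod : ∀ g : K → K, ∏ i, (X - C (g (μ i))) =
      ((S.map g).map (fun a => X - C a)).prod := by
    intro g
    rw [hS, Multiset.map_map, Multiset.map_map]
    rfl
  have hSeq : S.map (fun a => a⁻¹) = S.map (fun a => a ^ p) := by
    have h1 := cN.symm.trans cN'
    rw [hprod (fun a => a⁻¹), hprod (fun a => a ^ p)] at h1
    have h2 := congrArg Polynomial.roots h1
    rwa [roots_multiset_prod_X_sub_C, roots_multiset_prod_X_sub_C] at h2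
  have hScard : Multiset.card S = 4 := by
    rw [hS, Multiset.card_map]
    exact hcardκ
  have hSmem : ∀ a ∈ S, a ^ 3 = 1 := by
    intro a ha
    rw [hS, Multiset.mem_map] at ha
    obtain ⟨i, -, rfl⟩ := ha
    exact hμ3 i
  -- invariance of the multiplicity
  have hfrobinj : Function.Injective (fun a : K => a ^ p) := by
    intro a c hac
    exact frobenius_inj K p hac
  have hinvinj : Function.Injective (fun a : K => a⁻¹) := inv_injective
  have hcount : ∀ w : K, S.count w = S.count ((w ^ p)⁻¹) := by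
    intro w
    have h1 := Multiset.count_map_eq_count' (fun a : K => a ^ p) S hfrobinj w
    have h2 := Multiset.count_map_eq_count' (fun a : K => a⁻¹) S hinvinj ((w ^ p)⁻¹)
    simp only [inv_inv] at h2
    rw [← h1, ← hSeq, h2]
  -- a primitive cube root of unity
  obtain ⟨ζ, hζ⟩ := HasEnoughRootsOfUnity.exists_primitiveRoot K 3
  have hζ3 : ζ ^ 3 = 1 := hζ.pow_eq_one
  have hζp : ζ ^ p = ζ := by
    have hp : p = 3 * (p / 3) + 1 := by omega
    rw [hp, pow_succ, pow_mul, hζ3, one_pow, one_mul]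
  have heq : S.count (ζ ^ 1) = S.count (ζ ^ 2) := by
    rw [pow_one, hcount ζ, hζp]
    congr 1
    apply inv_eq_of_mul_eq_one_right
    rw [← pow_succ', hζ3]
  -- the sum of the multiplicities
  have hinj3 : Set.InjOn (fun k : ℕ => ζ ^ k) (Finset.range 3 : Set ℕ) := by
    intro i hi j hj hij
    exact hζ.pow_inj (Finset.mem_range.mp hi) (Finset.mem_range.mp hj) hij
  have hsub : S.toFinset ⊆ (Finset.range 3).image (fun k : ℕ => ζ ^ k) := by
    intro a ha
    rw [Multiset.mem_toFinset] at ha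
    obtain ⟨k, hk, hk'⟩ := hζ.eq_pow_of_pow_eq_one (hSmem a ha)
    exact Finset.mem_image.mpr ⟨k, Finset.mem_range.mpr hk, hk'⟩
  have hsum : ∑ k ∈ Finset.range 3, S.count (ζ ^ k) = 4 := by
    rw [← hScard, ← Multiset.toFinset_sum_count_eq S,
      ← Finset.sum_image (f := fun a : K => Multiset.count a S) (g := fun k : ℕ => ζ ^ k) hinj3]
    symm
    apply Finset.sum_subset hsub
    intro a _ ha
    rw [Multiset.mem_toFinset] at ha
    exact Multiset.count_eq_zero_of_notMem ha
  -- the characteristic polynomial as a product over the three cube roots of unity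
  have hcp : M.charpoly = ∏ k ∈ Finset.range 3, (X - C (ζ ^ k)) ^ S.count (ζ ^ k) := by
    rw [cM]
    have h0 : ∏ i, (X - C (μ i)) = (S.map (fun a => X - C a)).prod := by
      rw [hS, Multiset.map_map]
      rfl
    rw [h0, Finset.prod_multiset_map_count,
      ← Finset.prod_image (f := fun a : K => (X - C a) ^ Multiset.count a S)
        (g := fun k : ℕ => ζ ^ k) hinj3]
    apply Finset.prod_subset hsub
    intro a _ ha
    rw [Multiset.mem_toFinset] at ha
    rw [Multiset.count_eq_zero_of_notMem ha, pow_zero]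
  simp only [Finset.sum_range_succ, Finset.sum_range_zero, zero_add, pow_zero] at hsum
  simp only [Finset.prod_range_succ, Finset.prod_range_zero, one_mul, pow_zero] at hcp
  rw [← heq] at hsum hcp
  set a := S.count (ζ ^ 1) with ha
  have ha2 : a ≤ 2 := by omega
  have hc1 : S.count (1 : K) = 4 - 2 * a := by omega
  refine ⟨a, ha2, ?_⟩
  -- `(X - ζ) (X - ζ²) = X² + X + 1`
  have hζsum : 1 + ζ + ζ ^ 2 = 0 := by
    have h := hζ.geom_sum_eq_zero (by norm_num : 1 < 3)
    simpa [Finset.sum_range_succ] using h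
  have hquad : (X - C (ζ ^ 1)) * (X - C (ζ ^ 2)) = (X ^ 2 + X + 1 : K[X]) := by
    have h1 : ζ ^ 1 * ζ ^ 2 = 1 := by rw [← pow_add]; exact hζ3
    have h2 : -(ζ ^ 1 + ζ ^ 2) = 1 := by
      rw [pow_one]
      linear_combination -hζsum
    calc (X - C (ζ ^ 1)) * (X - C (ζ ^ 2))
        = X ^ 2 + C (-(ζ ^ 1 + ζ ^ 2)) * X + C (ζ ^ 1 * ζ ^ 2) := by
          simp only [C_neg, C_add, C_mul]
          ring
      _ = X ^ 2 + X + 1 := by rw [h1, h2, C_1, one_mul]
  have hfinal : x.charpoly.map ι = (X - 1) ^ (4 - 2 * a) * (X ^ 2 + X + 1) ^ a := by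
    rw [← hMx, hcp, hc1, mul_assoc, ← mul_pow, hquad, C_1]
  apply Polynomial.map_injective ι hιinj
  rw [hfinal]
  simp

/-- the trace of a unitary element of order dividing `3` -/
theorem U6_trace (hF : Fintype.card F = p ^ 2) (hp3 : p % 3 = 1)
    (x : Matrix (Fin 4) (Fin 4) F) (hu : IsUni F p 4 x) (hx3 : x ^ 3 = 1) :
    ∃ a : ℕ, a ≤ 2 ∧ x.charpoly = (X - 1) ^ (4 - 2 * a) * (X ^ 2 + X + 1) ^ a ∧
      x.trace = 4 - 3 * (a : F) := by
  obtain ⟨a, ha2, hcp⟩ := U6 hF hp3 x hu hx3
  refine ⟨a, ha2, hcp, ?_⟩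
  rw [Matrix.trace_eq_neg_charpoly_coeff, hcp]
  simp only [Fintype.card_fin]
  interval_cases a
  · have : ((X - 1) ^ (4 - 2 * 0) * (X ^ 2 + X + 1) ^ 0 : F[X]) =
        X ^ 4 + C (-4) * X ^ 3 + C 6 * X ^ 2 + C (-4) * X + C 1 := by
      simp only [map_neg, C_ofNat, C_1]
      ring
    rw [this]
    simp [coeff_X, coeff_one, coeff_X_pow]
  · have : ((X - 1) ^ (4 - 2 * 1) * (X ^ 2 + X + 1) ^ 1 : F[X]) =
        X ^ 4 + C (-1) * X ^ 3 + C 0 * X ^ 2 + C (-1) * X + C 1 := by
      simp only [map_neg, C_0, C_1]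
      ring
    rw [this]
    simp [coeff_X, coeff_one, coeff_X_pow]
    norm_num
  · have : ((X - 1) ^ (4 - 2 * 2) * (X ^ 2 + X + 1) ^ 2 : F[X]) =
        X ^ 4 + C 2 * X ^ 3 + C 3 * X ^ 2 + C 2 * X + C 1 := by
      simp only [C_ofNat, C_1]
      ring
    rw [this]
    simp [coeff_X, coeff_one, coeff_X_pow]
    norm_num

/-- the trace is `4`, `1` or `-2` -/
theorem U6'' (hF : Fintype.card F = p ^ 2) (hp3 : p % 3 = 1)
    (x : Matrix (Fin 4) (Fin 4) F) (hu : IsUni F p 4 x) (hx3 : x ^ 3 = 1) :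
    x.trace = 4 ∨ x.trace = 1 ∨ x.trace = -2 := by
  obtain ⟨a, ha2, -, htr⟩ := U6_trace hF hp3 x hu hx3
  interval_cases a
  · left; rw [htr]; norm_num
  · right; left; rw [htr]; norm_num
  · right; right; rw [htr]; norm_num

/-- the trace determines the characteristic polynomial -/
theorem U6' (hF : Fintype.card F = p ^ 2) (hp3 : p % 3 = 1)
    (x y : Matrix (Fin 4) (Fin 4) F) (hux : IsUni F p 4 x) (hx3 : x ^ 3 = 1)
    (huy : IsUni F p 4 y) (hy3 : y ^ 3 = 1) (htr : x.trace = y.trace) :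
    x.charpoly = y.charpoly := by
  have hpp : p.Prime := Fact.out
  obtain ⟨a, ha2, hcpx, htrx⟩ := U6_trace hF hp3 x hux hx3
  obtain ⟨c, hc2, hcpy, htry⟩ := U6_trace hF hp3 y huy hy3
  have hp7 : 7 ≤ p := by
    by_contra hlt
    rw [not_le] at hlt
    have h2 : 2 ≤ p := hpp.two_le
    interval_cases p <;> first | omega | (exfalso; revert hpp; decide)
  have hne : ∀ k : ℕ, 0 < k → k < 7 → ((k : ℕ) : F) ≠ 0 := by
    intro k hk0 hk7 h
    rw [CharP.cast_eq_zero_iff F p] at h
    have := Nat.le_of_dvd hk0 h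
    omega
  have hac : a = c := by
    rw [htrx, htry] at htr
    have h3 : (3 : F) * (a : F) = 3 * (c : F) := by linear_combination -htr
    by_contra hne'
    rcases Nat.lt_or_gt_of_ne hne' with hlt | hgt
    · have : ((3 * (c - a) : ℕ) : F) = 0 := by
        rw [Nat.cast_mul, Nat.cast_sub hlt.le]
        push_cast
        linear_combination -h3
      exact hne (3 * (c - a)) (by omega) (by omega) this
    · have : ((3 * (a - c) : ℕ) : F) = 0 := by
        rw [Nat.cast_mul, Nat.cast_sub hgt.le]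
        push_cast
        linear_combination h3
      exact hne (3 * (a - c)) (by omega) (by omega) this
  rw [hcpx, hcpy, hac]

end Cfsg.Agent.Lib.Helper13.Leaf6001
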