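/-
helper13: S4923 market (planner helper17), leaves (MEM+) `mem_adjoin_add_of_fixed`,
(MEM-) `mem_adjoin_sub_of_fixed`.
-/
import Mathlib

set_option autoImplicit false

namespace Cfsg.Agent.Lib.Helper13.MCF

/-- an automorphism of `ℂ` fixing `S` pointwise fixes `ℚ(S)` pointwise -/
theorem fix_adjoin (τ : ℂ ≃+* ℂ) (S : Set ℂ) (h : ∀ z ∈ S, τ z = z) :
    ∀ z ∈ IntermediateField.adjoin ℚ S, τ z = z := by
  intro z hz
  induction hz using IntermediateField.adjoin_induction with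
  | mem x hx => exact h x hx
  | algebraMap x =>
    have : (algebraMap ℚ ℂ) x = ((x : ℚ) : ℂ) := rfl
    rw [this, map_ratCast]
  | add x y _ _ hx hy => rw [map_add, hx, hy]
  | inv x _ hx => rw [map_inv₀, hx]
  | mul x y _ _ hx hy => rw [map_mul, hx, hy]

/-- the common core: `ζ² = u ζ + v` with `u, v ∈ K`, `τ` fixes `K` pointwise and moves `ζ`; then a
`τ`-fixed sum of powers of `ζ` lies in `K`. -/
theorem mem_of_fixed_core (K : IntermediateField ℚ ℂ) (ζ u v : ℂ) (hu : u ∈ K) (hv : v ∈ K)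
    (hζ : ζ ^ 2 = u * ζ + v) (τ : ℂ ≃+* ℂ) (hτK : ∀ z ∈ K, τ z = z) (hτζ : τ ζ ≠ ζ)
    {ι : Type} [Fintype ι] (a : ι → ℕ) (hfix : τ (∑ i, ζ ^ a i) = ∑ i, ζ ^ a i) :
    (∑ i, ζ ^ a i) ∈ K := by
  classical
  -- `ζ ^ j = A + B ζ`
  have hpow : ∀ j : ℕ, ∃ A ∈ K, ∃ B ∈ K, ζ ^ j = A + B * ζ := by
    intro j
    induction j with
    | zero => exact ⟨1, K.one_mem, 0, K.zero_mem, by simp⟩
    | succ j ih =>
      obtain ⟨A, hA, B, hB, h⟩ := ih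
      refine ⟨B * v, K.mul_mem hB hv, A + B * u, K.add_mem hA (K.mul_mem hB hu), ?_⟩
      rw [pow_succ, h]
      have : (A + B * ζ) * ζ = A * ζ + B * ζ ^ 2 := by ring
      rw [this, hζ]
      ring
  -- sums
  have hsum : ∀ s : Finset ι, ∃ A ∈ K, ∃ B ∈ K, (∑ i ∈ s, ζ ^ a i) = A + B * ζ := by
    intro s
    induction s using Finset.induction_on with
    | empty => exact ⟨0, K.zero_mem, 0, K.zero_mem, by simp⟩
    | insert i s hi ih =>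
      obtain ⟨A, hA, B, hB, h⟩ := ih
      obtain ⟨A', hA', B', hB', h'⟩ := hpow (a i)
      refine ⟨A' + A, K.add_mem hA' hA, B' + B, K.add_mem hB' hB, ?_⟩
      rw [Finset.sum_insert hi, h, h']
      ring
  obtain ⟨A, hA, B, hB, h⟩ := hsum Finset.univ
  rw [h] at hfix ⊢
  rw [map_add, map_mul, hτK A hA, hτK B hB] at hfix
  have hB0 : B * (τ ζ - ζ) = 0 := by
    have := add_left_cancel hfix
    rw [mul_sub, this, sub_self]
  rcases mul_eq_zero.1 hB0 with hB0 | hB0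
  · rw [hB0, zero_mul, add_zero]
    exact hA
  · exact absurd (sub_eq_zero.1 hB0) hτζ

/-- (MEM+) an integral combination of powers of `ζ` fixed by `ζ ↦ ζ⁻¹` lies in `ℚ(ζ + ζ⁻¹)`. -/
theorem mem_adjoin_add_of_fixed (ζ : ℂ) (hζ0 : ζ ≠ 0) (hζ2 : ζ ^ 2 ≠ 1) (τ : ℂ ≃+* ℂ)
    (hτ : τ ζ = ζ⁻¹) {ι : Type} [Fintype ι] (a : ι → ℕ)
    (hfix : τ (∑ i, ζ ^ a i) = ∑ i, ζ ^ a i) :
    (∑ i, ζ ^ a i) ∈ IntermediateField.adjoin ℚ ({ζ + ζ⁻¹} : Set ℂ) := by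
  set K := IntermediateField.adjoin ℚ ({ζ + ζ⁻¹} : Set ℂ) with hK
  have ht : ζ + ζ⁻¹ ∈ K := IntermediateField.subset_adjoin ℚ _ (Set.mem_singleton _)
  have hτt : τ (ζ + ζ⁻¹) = ζ + ζ⁻¹ := by
    rw [map_add, map_inv₀, hτ, inv_inv, add_comm]
  have hτK : ∀ z ∈ K, τ z = z := by
    apply fix_adjoin
    intro z hz
    rw [Set.mem_singleton_iff] at hz
    rw [hz, hτt]
  refine mem_of_fixed_core K ζ (ζ + ζ⁻¹) (-1) ht (K.neg_mem K.one_mem) ?_ τ hτK ?_ a hfix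
  · field_simp
    ring
  · rw [hτ]
    intro h
    apply hζ2
    have : ζ * ζ⁻¹ = 1 := mul_inv_cancel₀ hζ0
    rw [h] at this
    rw [pow_two]
    exact this

/-- (MEM-) the same for `ζ ↦ -ζ⁻¹` and `ℚ(ζ - ζ⁻¹)`. -/
theorem mem_adjoin_sub_of_fixed (ζ : ℂ) (hζ0 : ζ ≠ 0) (hζ2 : ζ ^ 2 ≠ -1) (τ : ℂ ≃+* ℂ)
    (hτ : τ ζ = -ζ⁻¹) {ι : Type} [Fintype ι] (a : ι → ℕ)
    (hfix : τ (∑ i, ζ ^ a i) = ∑ i, ζ ^ a i) :
    (∑ i, ζ ^ a i) ∈ IntermediateField.adjoin ℚ ({ζ - ζ⁻¹} : Set ℂ) := by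
  set K := IntermediateField.adjoin ℚ ({ζ - ζ⁻¹} : Set ℂ) with hK
  have ht : ζ - ζ⁻¹ ∈ K := IntermediateField.subset_adjoin ℚ _ (Set.mem_singleton _)
  have hτt : τ (ζ - ζ⁻¹) = ζ - ζ⁻¹ := by
    rw [map_sub, map_inv₀, hτ, inv_neg, inv_inv]
    ring
  have hτK : ∀ z ∈ K, τ z = z := by
    apply fix_adjoin
    intro z hz
    rw [Set.mem_singleton_iff] at hz
    rw [hz, hτt]
  refine mem_of_fixed_core K ζ (ζ - ζ⁻¹) 1 ht K.one_mem ?_ τ hτK ?_ a hfix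
  · field_simp
    ring
  · rw [hτ]
    intro h
    apply hζ2
    have : ζ * ζ⁻¹ = 1 := mul_inv_cancel₀ hζ0
    have h' : ζ⁻¹ = -ζ := by linear_combination -h
    rw [h'] at this
    rw [pow_two]
    linear_combination -this

end Cfsg.Agent.Lib.Helper13.MCF
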