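/-
helper13: S4923 market (planner helper17), leaves (ZT+) `pow_add_inv_eq_iff`, (ZT-) `pow_sub_inv_eq_iff`.
-/
import Mathlib

set_option autoImplicit false

namespace Cfsg.Agent.Lib.Helper13.MCF

/-- powers of a primitive root agree iff the exponents are congruent -/
theorem pow_eq_pow_iff_of_primitive {N : ℕ} (hN : 0 < N) {ζ : ℂ} (hζ : IsPrimitiveRoot ζ N)
    (a b : ℕ) : ζ ^ a = ζ ^ b ↔ a ≡ b [MOD N] := by
  have hζ0 : ζ ≠ 0 := hζ.ne_zero hN.ne'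
  have h : (Units.mk0 ζ hζ0) ^ a = (Units.mk0 ζ hζ0) ^ b ↔ ζ ^ a = ζ ^ b := by
    rw [← Units.val_inj]
    simp
  rw [← h, pow_eq_pow_iff_modEq, ← orderOf_units, Units.val_mk0, ← hζ.eq_orderOf]

theorem modEq_iff_mod_eq {N r : ℕ} (hr : r < N) (k : ℕ) : k ≡ r [MOD N] ↔ k % N = r := by
  unfold Nat.ModEq
  rw [Nat.mod_eq_of_lt hr]

/-- (ZT+) -/
theorem pow_add_inv_eq_iff (N : ℕ) (hN : 2 < N) (ζ : ℂ) (hζ : IsPrimitiveRoot ζ N) (k : ℕ) :
    ζ ^ k + (ζ ^ k)⁻¹ = ζ + ζ⁻¹ ↔ (k % N = 1 ∨ k % N = N - 1) := by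
  have hζ0 : ζ ≠ 0 := hζ.ne_zero (by omega)
  have hw0 : ζ ^ k ≠ 0 := pow_ne_zero k hζ0
  have hfac : ζ ^ k + (ζ ^ k)⁻¹ - (ζ + ζ⁻¹) = (ζ ^ k - ζ) * (ζ ^ (k + 1) - 1) * (ζ ^ (k + 1))⁻¹ := by
    rw [pow_succ]
    field_simp
    ring
  have h1 : ζ ^ k = ζ ↔ k % N = 1 := by
    have := pow_eq_pow_iff_of_primitive (by omega) hζ k 1
    rw [pow_one] at this
    rw [this]
    exact modEq_iff_mod_eq (by omega) k
  have h2 : ζ ^ (k + 1) = 1 ↔ k % N = N - 1 := by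
    have h := pow_eq_pow_iff_of_primitive (by omega) hζ (k + 1) (N - 1 + 1)
    have hN1 : ζ ^ (N - 1 + 1) = 1 := by
      rw [Nat.sub_add_cancel (by omega)]
      exact hζ.pow_eq_one
    rw [hN1] at h
    rw [h]
    constructor
    · intro h'
      exact (modEq_iff_mod_eq (by omega) k).1 (Nat.ModEq.add_right_cancel' 1 h')
    · intro h'
      exact Nat.ModEq.add_right 1 ((modEq_iff_mod_eq (by omega) k).2 h')
  rw [← sub_eq_zero, hfac, mul_eq_zero, mul_eq_zero, sub_eq_zero, sub_eq_zero, h1, h2]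
  constructor
  · rintro ((h | h) | h)
    · exact Or.inl h
    · exact Or.inr h
    · exact absurd (inv_eq_zero.1 h) (pow_ne_zero _ hζ0)
  · rintro (h | h)
    · exact Or.inl (Or.inl h)
    · exact Or.inl (Or.inr h)

/-- (ZT-) -/
theorem pow_sub_inv_eq_iff (m : ℕ) (hm : 2 ≤ m) (ζ : ℂ) (hζ : IsPrimitiveRoot ζ (2 * m)) (k : ℕ) :
    ζ ^ k - (ζ ^ k)⁻¹ = ζ - ζ⁻¹ ↔ (k % (2 * m) = 1 ∨ k % (2 * m) = m - 1) := by
  have hζ0 : ζ ≠ 0 := hζ.ne_zero (by omega)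
  have hw0 : ζ ^ k ≠ 0 := pow_ne_zero k hζ0
  have hfac : ζ ^ k - (ζ ^ k)⁻¹ - (ζ - ζ⁻¹) = (ζ ^ k - ζ) * (ζ ^ (k + 1) + 1) * (ζ ^ (k + 1))⁻¹ := by
    rw [pow_succ]
    field_simp
    ring
  have hm1 : ζ ^ m = -1 := by
    have h2 : IsPrimitiveRoot (ζ ^ m) 2 := hζ.pow (by omega) (by ring)
    exact h2.eq_neg_one_of_two_right
  have h1 : ζ ^ k = ζ ↔ k % (2 * m) = 1 := by
    have := pow_eq_pow_iff_of_primitive (by omega) hζ k 1
    rw [pow_one] at this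
    rw [this]
    exact modEq_iff_mod_eq (by omega) k
  have h2 : ζ ^ (k + 1) + 1 = 0 ↔ k % (2 * m) = m - 1 := by
    have h := pow_eq_pow_iff_of_primitive (by omega) hζ (k + 1) (m - 1 + 1)
    have hN1 : ζ ^ (m - 1 + 1) = -1 := by
      rw [Nat.sub_add_cancel (by omega)]
      exact hm1
    rw [hN1] at h
    rw [add_eq_zero_iff_eq_neg, h]
    constructor
    · intro h'
      exact (modEq_iff_mod_eq (by omega) k).1 (Nat.ModEq.add_right_cancel' 1 h')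
    · intro h'
      exact Nat.ModEq.add_right 1 ((modEq_iff_mod_eq (by omega) k).2 h')
  rw [← sub_eq_zero, hfac, mul_eq_zero, mul_eq_zero, sub_eq_zero, h1, h2]
  constructor
  · rintro ((h | h) | h)
    · exact Or.inl h
    · exact Or.inr h
    · exact absurd (inv_eq_zero.1 h) (pow_ne_zero _ hζ0)
  · rintro (h | h)
    · exact Or.inl (Or.inl h)
    · exact Or.inl (Or.inr h)

end Cfsg.Agent.Lib.Helper13.MCF
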