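/-
helper13: counting irreducible characters of degree prime to `ℓ` (McKay counts): transport along
isomorphisms, groups with an abelian normal subgroup of index prime to `ℓ`, normalizers of
conjugate subgroups.
-/
import Mathlib
import Cfsg.Agent.Lib.Helper13.IrrCount
import Cfsg.Agent.Lib.Helper21.IsaacsThm1211
import Cfsg.Agent.Lib.Helper6.LinChar
import Cfsg.Agent.Lib.Helper24.IrrFacts
import Cfsg.Agent.Lib.Helper24.PerfectLemmas
import Cfsg.Agent.Lib.Lead.CharMain

set_option autoImplicit false

namespace Cfsg.Agent.Lib.Helper13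

open Cfsg Cfsg.Agent.CharLib

universe u v

/-- The number of irreducible characters of degree not divisible by `ℓ`. -/
noncomputable def irrNot (ℓ : ℕ) (X : Type u) [Group X] : ℕ :=
  Nat.card {χ : IrrCharacter X // ¬ ℓ ∣ charDegree (χ : X → ℂ)}

theorem irrNot_congr {A : Type u} {B : Type v} [Group A] [Group B] (ℓ : ℕ) (e : A ≃* B) :
    irrNot ℓ A = irrNot ℓ B := by
  unfold irrNot
  symm
  apply Nat.card_congr
  apply Equiv.subtypeEquiv (irrCongr e)
  intro χ
  have : charDegree ((irrCongr e χ : IrrCharacter A) : A → ℂ) = charDegree (χ : B → ℂ) := by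
    unfold charDegree
    rw [irrCongr_apply_one]
  rw [this]

theorem irrNot_eq_card_conjClasses {X : Type u} [Group X] [Finite X] (ℓ : ℕ)
    (h : ∀ χ : IrrCharacter X, ¬ ℓ ∣ charDegree (χ : X → ℂ)) :
    irrNot ℓ X = Nat.card (ConjClasses X) := by
  unfold irrNot
  rw [← card_irrCharacter]
  apply Nat.card_congr
  exact Equiv.subtypeUnivEquiv h

/-- Ito: with an abelian normal subgroup of index prime to `ℓ`, all degrees are prime to `ℓ`. -/
theorem irrNot_of_abelian_normal {X : Type u} [Group X] [Finite X] (ℓ : ℕ)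
    (A : Subgroup X) [A.Normal] (hab : ∀ a ∈ A, ∀ b ∈ A, a * b = b * a)
    (hℓ : ¬ ℓ ∣ A.index) : irrNot ℓ X = Nat.card (ConjClasses X) := by
  apply irrNot_eq_card_conjClasses
  intro χ hχ
  exact hℓ (hχ.trans (Cfsg.Agent.Lib.Helper21.Isaacs.charDegree_dvd_index_of_abelian A hab χ))

/-- If `S` is normal, the group and the normalizer of `S` have the same count. -/
theorem irrNot_normalizer_of_eq_top {G : Type u} [Group G] (ℓ : ℕ) (S : Subgroup G)
    (h : Subgroup.normalizer (S : Set G) = ⊤) :
    irrNot ℓ G = irrNot ℓ ↥(Subgroup.normalizer (S : Set G)) := by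
  exact (irrNot_congr ℓ ((MulEquiv.subgroupCongr h).trans Subgroup.topEquiv)).symm

/-- Conjugate subgroups have isomorphic normalizers. -/
theorem irrNot_normalizer_conj {G : Type u} [Group G] (ℓ : ℕ) (K : Subgroup G) (g : G) :
    irrNot ℓ ↥(Subgroup.normalizer ((K.map (MulAut.conj g).toMonoidHom : Subgroup G) : Set G)) =
      irrNot ℓ ↥(Subgroup.normalizer (K : Set G)) := by
  have h := Subgroup.map_equiv_normalizer_eq K (MulAut.conj g)
  have e1 : ↥(Subgroup.normalizer (K : Set G)) ≃*
      ↥((Subgroup.normalizer (K : Set G)).map (MulAut.conj g).toMonoidHom) :=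
    Subgroup.equivMapOfInjective _ _ (MulAut.conj g).injective
  have e2 := MulEquiv.subgroupCongr h
  exact (irrNot_congr ℓ (e1.trans e2)).symm

/-- Equal subgroups. -/
theorem irrNot_subgroup_eq {G : Type u} [Group G] (ℓ : ℕ) {H K : Subgroup G} (h : H = K) :
    irrNot ℓ ↥H = irrNot ℓ ↥K :=
  irrNot_congr ℓ (MulEquiv.subgroupCongr h)

end Cfsg.Agent.Lib.Helper13
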