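/-
helper13: principal series of `SL₂(F)`, `q` odd: restriction of `Ind(α, β)` from `GL₂`,
the quadratic character, and the characters of degree `q + 1` and `(q + 1) / 2`.
-/
import Mathlib
import Cfsg.Agent.Lib.Helper13.SLBridge4

set_option autoImplicit false

namespace Cfsg.Agent.Lib.Helper13

open Matrix Cfsg Cfsg.Agent.CharLib Cfsg.Agent.Lib.Helper6
open scoped ComplexConjugate

variable {F : Type*} [Field F]

theorem extendByZero_toGL' (α β : MulChar F ℂ) (z : SpecialLinearGroup (Fin 2) F) :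
    extendByZero (Cfsg.upperTriangularGL 2 F) (psChar α β) (SpecialLinearGroup.toGL z) =
      extendByZero (borelSL F) (psCharSL (α * β⁻¹)) z := by
  by_cases hz : z ∈ borelSL F
  · have hz' : SpecialLinearGroup.toGL z ∈ Cfsg.upperTriangularGL 2 F := hz
    have e1 : SpecialLinearGroup.toGL z =
      ((⟨SpecialLinearGroup.toGL z, hz'⟩ : ↥(Cfsg.upperTriangularGL 2 F)) : GL (Fin 2) F) := rfl
    have e2 : z = ((⟨z, hz⟩ : ↥(borelSL F)) : SpecialLinearGroup (Fin 2) F) := rfl
    rw [e1, extendByZero_apply_coe]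
    conv_rhs => rw [e2, extendByZero_apply_coe]
    rw [psChar_apply, psCharSL_apply]
    change α ((z : Matrix (Fin 2) (Fin 2) F) 0 0) * β ((z : Matrix (Fin 2) (Fin 2) F) 1 1) =
      (α * β⁻¹) ((z : Matrix (Fin 2) (Fin 2) F) 0 0)
    have hd := borelSL_diag hz
    have hu : IsUnit ((z : Matrix (Fin 2) (Fin 2) F) 0 0) :=
      (left_ne_zero_of_mul_eq_one hd).isUnit
    rw [MulChar.mul_apply, MulChar.inv_apply' β]
    have h11 : (z : Matrix (Fin 2) (Fin 2) F) 1 1 = ((z : Matrix (Fin 2) (Fin 2) F) 0 0)⁻¹ :=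
      eq_inv_of_mul_eq_one_right hd
    rw [h11]
  · have hz' : SpecialLinearGroup.toGL z ∉ Cfsg.upperTriangularGL 2 F := hz
    rw [extendByZero_apply_of_not_mem _ _ hz, extendByZero_apply_of_not_mem _ _ hz']

variable [Fintype F] [DecidableEq F]

/-- Restriction to `SL₂` of the principal series character `Ind(α, β)` of `GL₂`. -/
theorem resSL_indFun_psChar' (α β : MulChar F ℂ) :
    resSL (indFun (Cfsg.upperTriangularGL 2 F) (psChar α β)) =
      indFun (borelSL F) (psCharSL (α * β⁻¹)) := by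
  funext g
  rw [resSL_apply]
  unfold Cfsg.indFun
  rw [sum_glDecomp]
  have h1 : ∀ (y : SpecialLinearGroup (Fin 2) F) (t : Fˣ),
      extendByZero (Cfsg.upperTriangularGL 2 F) (psChar α β)
        ((SpecialLinearGroup.toGL y * dGL t)⁻¹ * SpecialLinearGroup.toGL g *
          (SpecialLinearGroup.toGL y * dGL t)) =
      extendByZero (borelSL F) (psCharSL (α * β⁻¹)) (y⁻¹ * g * y) := by
    intro y t
    have e1 : (SpecialLinearGroup.toGL y * dGL t)⁻¹ * SpecialLinearGroup.toGL g *
          (SpecialLinearGroup.toGL y * dGL t) =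
        (dGL t)⁻¹ * SpecialLinearGroup.toGL (y⁻¹ * g * y) * dGL t := by
      rw [map_mul, map_mul, map_inv]; group
    rw [e1, extendByZero_psChar_conj α β (dGL_mem t)]
    exact extendByZero_toGL' α β (y⁻¹ * g * y)
  rw [Finset.sum_congr rfl (fun y _ => Finset.sum_congr rfl (fun t _ => h1 y t))]
  simp only [Finset.sum_const, Finset.card_univ, nsmul_eq_mul]
  rw [← Finset.mul_sum, card_ut_complex, card_borelSL_complex, Fintype.card_units]
  have hq : 1 < Fintype.card F := Fintype.one_lt_card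
  have hq0 : (Fintype.card F : ℂ) ≠ 0 := by
    exact_mod_cast (Fintype.card_pos (α := F)).ne'
  have hq1 : (Fintype.card F : ℂ) - 1 ≠ 0 := by
    rw [sub_ne_zero]
    exact_mod_cast hq.ne'
  rw [Nat.cast_sub hq.le, Nat.cast_one]
  field_simp

section quad



/-- The quadratic character of `F` with complex values. -/
noncomputable def quadC (F : Type*) [Field F] [Fintype F] [DecidableEq F] : MulChar F ℂ :=
  (quadraticChar F).ringHomComp (Int.castRingHom ℂ)

theorem quadC_apply (a : F) : quadC F a = ((quadraticChar F a : ℤ) : ℂ) := rfl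

theorem quadC_of_isSquare {a : F} (ha : a ≠ 0) (h : IsSquare a) : quadC F a = 1 := by
  rw [quadC_apply, (quadraticChar_one_iff_isSquare ha).mpr h, Int.cast_one]

theorem quadC_of_not_isSquare {a : F} (h : ¬ IsSquare a) : quadC F a = -1 := by
  rw [quadC_apply, quadraticChar_neg_one_iff_not_isSquare.mpr h]
  simp

theorem quadC_mul_self : quadC F * quadC F = 1 := by
  ext a
  rw [MulChar.mul_apply, MulChar.one_apply_coe]
  by_cases h : IsSquare (a : F)
  · rw [quadC_of_isSquare a.ne_zero h, mul_one]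
  · rw [quadC_of_not_isSquare h]; norm_num

theorem quadC_inv : (quadC F)⁻¹ = quadC F :=
  inv_eq_of_mul_eq_one_left quadC_mul_self

theorem quadC_ne_one (h2 : (2 : F) ≠ 0) : quadC F ≠ 1 := by
  have hF : ringChar F ≠ 2 := by
    intro h
    apply h2
    have := ringChar.Nat.cast_ringChar (R := F)
    rw [h] at this
    exact_mod_cast this
  obtain ⟨a, ha⟩ := FiniteField.exists_nonsquare hF
  intro h
  have h1 := quadC_of_not_isSquare ha
  have ha0 : a ≠ 0 := by
    rintro rfl
    exact ha IsSquare.zero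
  rw [h, MulChar.one_apply ha0.isUnit] at h1
  norm_num at h1

/-- A character of order at most two is trivial or the quadratic character. -/
theorem eq_one_or_quadC {γ : MulChar F ℂ} (h : γ = γ⁻¹) : γ = 1 ∨ γ = quadC F := by
  have hsq : ∀ a : Fˣ, γ a * γ a = 1 := by
    intro a
    have := congrArg (fun δ : MulChar F ℂ => (γ * δ) a) h
    simp only [MulChar.mul_apply] at this
    rw [this, ← MulChar.mul_apply, mul_inv_cancel, MulChar.one_apply_coe]
  have hpm : ∀ a : Fˣ, γ a = 1 ∨ γ a = -1 := by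
    intro a
    exact mul_self_eq_one_iff.mp (hsq a)
  have hsquare : ∀ a : Fˣ, IsSquare (a : F) → γ a = 1 := by
    rintro a ⟨b, hb⟩
    have hb0 : b ≠ 0 := by
      rintro rfl
      rw [mul_zero] at hb
      exact a.ne_zero hb
    rw [hb, map_mul]
    exact hsq (Units.mk0 b hb0)
  by_cases hall : ∀ a : Fˣ, γ a = 1
  · left
    ext a
    rw [hall a, MulChar.one_apply_coe]
  · right
    push Not at hall
    obtain ⟨a₀, ha₀⟩ := hall
    have ha₀' : γ a₀ = -1 := (hpm a₀).resolve_left ha₀
    have hns₀ : ¬ IsSquare (a₀ : F) := fun h => ha₀ (hsquare a₀ h)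
    ext a
    by_cases hs : IsSquare (a : F)
    · rw [hsquare a hs, quadC_of_isSquare a.ne_zero hs]
    · rw [quadC_of_not_isSquare hs]
      have hprod : IsSquare ((a * a₀ : Fˣ) : F) := by
        rw [← quadraticChar_one_iff_isSquare (a * a₀).ne_zero, Units.val_mul, map_mul,
          quadraticChar_neg_one_iff_not_isSquare.mpr hs,
          quadraticChar_neg_one_iff_not_isSquare.mpr hns₀]
        norm_num
      have h1 := hsquare (a * a₀) hprod
      rw [Units.val_mul, map_mul, ha₀'] at h1
      linear_combination -h1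

omit [DecidableEq F] in
theorem card_eq_mul_of_fibers' {A B : Type*} [Finite A] [Finite B] (φ : A → B) (n : ℕ)
    (h : ∀ b, Nat.card {a // φ a = b} = n) : Nat.card A = n * Nat.card B := by
  classical
  have : Fintype B := Fintype.ofFinite B
  rw [← Nat.card_congr (Equiv.sigmaFiberEquiv φ), Nat.card_sigma,
    Finset.sum_congr rfl (fun b _ => h b), Finset.sum_const, Finset.card_univ, smul_eq_mul,
    Nat.card_eq_fintype_card, mul_comm]

/-- The number of characters `γ` of `Fˣ` with `γ ≠ γ⁻¹`. -/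
theorem card_mulChar_ne_inv (h2 : (2 : F) ≠ 0) :
    Nat.card {γ : MulChar F ℂ // γ ≠ γ⁻¹} + 2 = Fintype.card F - 1 := by
  classical
  have : Fintype (MulChar F ℂ) := Fintype.ofFinite _
  rw [← card_mulChar (F := F), Nat.card_eq_fintype_card, Nat.card_eq_fintype_card,
    Fintype.card_subtype_compl]
  have h2' : Fintype.card {γ : MulChar F ℂ // γ = γ⁻¹} = 2 := by
    rw [Fintype.card_subtype]
    have : (Finset.univ.filter (fun γ : MulChar F ℂ => γ = γ⁻¹)) = {1, quadC F} := by
      ext γ
      simp only [Finset.mem_filter, Finset.mem_univ, true_and, Finset.mem_insert,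
        Finset.mem_singleton]
      constructor
      · exact eq_one_or_quadC
      · rintro (rfl | rfl)
        · simp
        · exact quadC_inv.symm
    rw [this, Finset.card_pair (quadC_ne_one h2).symm]
  have hle : Fintype.card {γ : MulChar F ℂ // γ = γ⁻¹} ≤ Fintype.card (MulChar F ℂ) :=
    Fintype.card_subtype_le _
  omega


end quad



section general

variable {S : Type*} {G : Type*} [Group S] [Group G] [Fintype S] [Fintype G]

theorem classInner_finset_sum_left {G : Type*} [Group G] [Fintype G] {κ : Type*} (s : Finset κ)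
    (f : κ → G → ℂ) (ψ : G → ℂ) :
    classInner (∑ i ∈ s, f i) ψ = ∑ i ∈ s, classInner (f i) ψ := by
  classical
  induction s using Finset.induction_on with
  | empty => unfold classInner; simp
  | insert a s ha ih =>
    rw [Finset.sum_insert ha, Finset.sum_insert ha,
      Cfsg.Agent.Lib.Helper10.classInner_add_left, ih]

/-- Clifford's theorem with the norm of the restriction: `χ 1 = a t θ 1` and `‖res χ‖² = a² t`. -/
theorem clifford_norm (ι : S →* G) (hι : Function.Injective ι) [hN : ι.range.Normal]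
    {χ : G → ℂ} (hχ : IsIrrCharacter G χ) {θ : S → ℂ} (hθ : IsIrrCharacter S θ)
    (h1 : classInner (fun s => χ (ι s)) θ ≠ 0) :
    ∃ a t : ℕ, a ≠ 0 ∧ t ≠ 0 ∧ χ 1 = ((a * t : ℕ) : ℂ) * θ 1 ∧
      classInner (fun s => χ (ι s)) (fun s => χ (ι s)) = ((a ^ 2 * t : ℕ) : ℂ) := by
  classical
  let e : S ≃* ι.range := MonoidHom.ofInjective hι
  let _ : Fintype ι.range := Fintype.ofFinite _
  have hθ' : IsIrrCharacter ι.range (θ ∘ e.symm) := isIrrCharacter_comp_mulEquiv' e.symm hθ
  have key : ∀ φ : S → ℂ, classInner (resFun ι.range χ) (φ ∘ e.symm) =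
      classInner (fun s => χ (ι s)) φ := by
    intro φ
    rw [← classInner_comp_mulEquiv e]
    have e1 : (resFun ι.range χ) ∘ e = fun s => χ (ι s) := rfl
    have e2 : (φ ∘ e.symm) ∘ e = φ := by
      funext s
      simp
    rw [e1, e2]
  have key2 : classInner (resFun ι.range χ) (resFun ι.range χ) =
      classInner (fun s => χ (ι s)) (fun s => χ (ι s)) := by
    rw [← classInner_comp_mulEquiv e]
    rfl
  have h1' : classInner (resFun ι.range χ) (θ ∘ e.symm) ≠ 0 := by rw [key]; exact h1
  have hcl := clifford ι.range hχ hθ' h1'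
  have hdeg := clifford_degree ι.range hχ hθ' h1'
  have hcls : IsClassFunction G χ := IsCharacter.isClassFunction (IsIrrCharacter.isCharacter hχ)
  obtain ⟨a, ha⟩ := IsCharacter.classInner_nat
    (isCharacter_resFun ι.range (IsIrrCharacter.isCharacter hχ)) (IsIrrCharacter.isCharacter hθ')
  have ha0 : a ≠ 0 := by
    intro h0
    apply h1'
    rw [ha, h0, Nat.cast_zero]
  have hne : (conjOrbit ι.range (θ ∘ e.symm)).card ≠ 0 :=
    Finset.card_ne_zero.mpr ⟨_, self_mem_conjOrbit ι.range _⟩
  refine ⟨a, (conjOrbit ι.range (θ ∘ e.symm)).card, ha0, hne, ?_, ?_⟩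
  · rw [hdeg, ha]
    have : (θ ∘ e.symm) 1 = θ 1 := by simp
    rw [this]
    push_cast
    ring
  · rw [← key2]
    have h3 : ∀ ψ ∈ conjOrbit ι.range (θ ∘ e.symm), classInner ψ (resFun ι.range χ) = (a : ℂ) := by
      intro ψ hψ
      obtain ⟨g, rfl⟩ := (mem_conjOrbit ι.range).mp hψ
      rw [Cfsg.Agent.Lib.Helper10.classInner_conj_symm, classInner_resFun_conjFun ι.range hcls, ha,
        Complex.conj_natCast]
    have h4 : classInner (classInner (resFun ι.range χ) (θ ∘ e.symm) •
        ∑ ψ ∈ conjOrbit ι.range (θ ∘ e.symm), ψ) (resFun ι.range χ) =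
        ((a ^ 2 * (conjOrbit ι.range (θ ∘ e.symm)).card : ℕ) : ℂ) := by
      rw [Cfsg.Agent.Lib.Helper10.classInner_smul_left, classInner_finset_sum_left,
        Finset.sum_congr rfl h3, Finset.sum_const, nsmul_eq_mul, ha]
      push_cast
      ring
    rw [← hcl] at h4
    exact h4

end general

section bound

variable {F : Type*} [Field F] [Fintype F] [DecidableEq F]

theorem sum_sq_units_le (g : Fˣ → ℝ) (hg : ∀ t, 0 ≤ g t) :
    ∑ z : Fˣ, g (z * z) ≤ 2 * ∑ t : Fˣ, g t := by
  classical
  rw [← Finset.sum_fiberwise_of_maps_to (s := Finset.univ) (t := Finset.univ)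
    (g := fun z : Fˣ => z * z) (fun _ _ => Finset.mem_univ _), Finset.mul_sum]
  apply Finset.sum_le_sum
  intro t _
  have h1 : ∑ z ∈ Finset.univ.filter (fun z : Fˣ => z * z = t), g (z * z) =
      ((Finset.univ.filter (fun z : Fˣ => z * z = t)).card : ℝ) * g t := by
    rw [Finset.sum_congr rfl (g := fun _ => g t), Finset.sum_const, nsmul_eq_mul]
    intro z hz
    rw [(Finset.mem_filter.mp hz).2]
  rw [h1]
  have h2 : (Finset.univ.filter (fun z : Fˣ => z * z = t)).card ≤ 2 := by
    by_cases hne : (Finset.univ.filter (fun z : Fˣ => z * z = t)).Nonempty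
    · obtain ⟨z₀, hz₀⟩ := hne
      have hz₀' := (Finset.mem_filter.mp hz₀).2
      have hsub : Finset.univ.filter (fun z : Fˣ => z * z = t) ⊆ {z₀, -z₀} := by
        intro z hz
        have hz' := (Finset.mem_filter.mp hz).2
        rw [Finset.mem_insert, Finset.mem_singleton]
        have h3 : (z : F) * z = z₀ * z₀ := by
          rw [← Units.val_mul, ← Units.val_mul, hz', hz₀']
        rcases mul_self_eq_mul_self_iff.mp h3 with h4 | h4
        · left; exact Units.ext h4
        · right; exact Units.ext (by rw [h4, Units.val_neg])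
      exact (Finset.card_le_card hsub).trans Finset.card_le_two
    · rw [Finset.not_nonempty_iff_eq_empty.mp hne, Finset.card_empty]
      norm_num
  have h3 : ((Finset.univ.filter (fun z : Fˣ => z * z = t)).card : ℝ) ≤ 2 := by exact_mod_cast h2
  exact mul_le_mul_of_nonneg_right h3 (hg t)

omit [Fintype F] [DecidableEq F] in
theorem dGL_sq (z : Fˣ) :
    dGL (z * z) = scalGL z * SpecialLinearGroup.toGL (dSL (z : F) z.ne_zero) := by
  apply Units.ext
  rw [Units.val_mul, scalGL_coe, dGL_coe]
  change _ = !![(z : F), 0; 0, (z : F)] * !![(z : F), 0; 0, (z : F)⁻¹]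
  ext i j
  fin_cases i <;> fin_cases j <;> simp [Matrix.mul_apply, Fin.sum_univ_two]

/-- The restriction to `SL₂` of an irreducible character of `GL₂` has norm at most `2`. -/
theorem norm_resSL_le_two {χ : GL (Fin 2) F → ℂ} (hχ : IsIrrCharacter (GL (Fin 2) F) χ) :
    ∑ s : SpecialLinearGroup (Fin 2) F, ‖χ (SpecialLinearGroup.toGL s)‖ ^ 2 ≤
      2 * (Nat.card (SpecialLinearGroup (Fin 2) F) : ℝ) := by
  obtain ⟨c, hc1, hc2⟩ := Cfsg.Agent.Lib.Helper6.IsIrrCharacter.exists_central_hom hχ
  have htot := sum_norm_sq_irr hχ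
  have hcardGL : (Nat.card (GL (Fin 2) F) : ℝ) =
      (Nat.card (SpecialLinearGroup (Fin 2) F) : ℝ) * (Fintype.card Fˣ : ℝ) := by
    rw [← Nat.card_congr (glDecomp F), Nat.card_prod, Nat.card_eq_fintype_card (α := Fˣ)]
    push_cast
    ring
  have hdec : ∑ x : GL (Fin 2) F, ‖χ x‖ ^ 2 =
      ∑ t : Fˣ, ∑ y : SpecialLinearGroup (Fin 2) F, ‖χ (SpecialLinearGroup.toGL y * dGL t)‖ ^ 2 := by
    rw [Finset.sum_comm, ← Fintype.sum_prod_type']
    exact (Fintype.sum_equiv (glDecomp F) _ _ (fun _ => rfl)).symm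
  have hsq : ∀ z : Fˣ, ∑ y : SpecialLinearGroup (Fin 2) F,
      ‖χ (SpecialLinearGroup.toGL y * dGL (z * z))‖ ^ 2 =
      ∑ s : SpecialLinearGroup (Fin 2) F, ‖χ (SpecialLinearGroup.toGL s)‖ ^ 2 := by
    intro z
    have h1 : ∀ y : SpecialLinearGroup (Fin 2) F,
        ‖χ (SpecialLinearGroup.toGL y * dGL (z * z))‖ ^ 2 =
        ‖χ (SpecialLinearGroup.toGL (y * dSL (z : F) z.ne_zero))‖ ^ 2 := by
      intro y
      rw [dGL_sq, ← mul_assoc, scalGL_central, mul_assoc, ← map_mul]
      have := hc1 ⟨scalGL z, scalGL_mem_center z⟩ (SpecialLinearGroup.toGL (y * dSL (z : F) z.ne_zero))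
      rw [this, norm_mul, hc2, one_mul]
    rw [Finset.sum_congr rfl (fun y _ => h1 y)]
    exact Fintype.sum_equiv (Equiv.mulRight (dSL (z : F) z.ne_zero)) _ _ (fun _ => rfl)
  have hle := sum_sq_units_le (F := F)
    (fun t => ∑ y : SpecialLinearGroup (Fin 2) F, ‖χ (SpecialLinearGroup.toGL y * dGL t)‖ ^ 2)
    (fun t => Finset.sum_nonneg (fun y _ => by positivity))
  simp only [hsq] at hle
  rw [← hdec, htot, hcardGL, Finset.sum_const, Finset.card_univ, nsmul_eq_mul] at hle
  have hpos : (0 : ℝ) < (Fintype.card Fˣ : ℝ) := by exact_mod_cast Fintype.card_pos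
  have : (Fintype.card Fˣ : ℝ) * ∑ s : SpecialLinearGroup (Fin 2) F, ‖χ (SpecialLinearGroup.toGL s)‖ ^ 2 ≤
      (Fintype.card Fˣ : ℝ) * (2 * (Nat.card (SpecialLinearGroup (Fin 2) F) : ℝ)) := by
    linarith
  exact le_of_mul_le_mul_left this hpos

end bound


end Cfsg.Agent.Lib.Helper13
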