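/-
helper13: the irreducible characters of `SL₂(F)`, `q` odd, by degree: each lies under an
irreducible character of `GL₂(F)` with multiplicity data `m ∈ {1, 2}`; the characters of degree
`1`, `q`, `q + 1`, `(q + 1) / 2`.
-/
import Mathlib
import Cfsg.Agent.Lib.Helper13.SL2OddPS
import Cfsg.Agent.Lib.Helper13.SLSteinberg

set_option autoImplicit false

namespace Cfsg.Agent.Lib.Helper13

open Matrix Cfsg Cfsg.Agent.CharLib Cfsg.Agent.Lib.Helper6
open scoped ComplexConjugate

variable {F : Type*} [Field F] [Fintype F] [DecidableEq F]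

omit [DecidableEq F] in
theorem two_ne_zero_of_odd_card' (hodd : Odd (Fintype.card F)) : (2 : F) ≠ 0 := by
  intro h
  have hchar : ringChar F = 2 := by
    have h2 : ((2 : ℕ) : F) = 0 := by exact_mod_cast h
    have hdvd := ringChar.dvd h2
    have hp := CharP.char_is_prime F (ringChar F)
    exact (Nat.prime_dvd_prime_iff_eq hp Nat.prime_two).mp hdvd
  have := FiniteField.even_card_of_char_two hchar
  obtain ⟨s, hs⟩ := hodd
  omega

/-- Every irreducible character `θ` of `SL₂` lies under an irreducible character `X` of `GL₂` with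
`X 1 = θ 1` or `X 1 = 2 θ 1`. -/
theorem under_data {θ : SpecialLinearGroup (Fin 2) F → ℂ}
    (hθ : IsIrrCharacter (SpecialLinearGroup (Fin 2) F) θ) :
    ∃ X : GL (Fin 2) F → ℂ, IsIrrCharacter (GL (Fin 2) F) X ∧ classInner (resSL X) θ ≠ 0 ∧
      (X 1 = θ 1 ∨ X 1 = 2 * θ 1) := by
  obtain ⟨X, hX, h1⟩ := exists_irr_over_SL hθ
  obtain ⟨a, t, ha, ht, hdeg, hnorm⟩ := clifford_norm SpecialLinearGroup.toGL
    SpecialLinearGroup.toGL_injective hX hθ h1
  have hb := norm_resSL_le_two hX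
  refine ⟨X, hX, h1, ?_⟩
  have hG : (Nat.card (SpecialLinearGroup (Fin 2) F) : ℝ) ≠ 0 := by
    exact_mod_cast Nat.card_pos.ne'
  have hGpos : (0 : ℝ) < (Nat.card (SpecialLinearGroup (Fin 2) F) : ℝ) := by
    exact_mod_cast Nat.card_pos
  have hsum : ∑ s : SpecialLinearGroup (Fin 2) F,
      X (SpecialLinearGroup.toGL s) * conj (X (SpecialLinearGroup.toGL s)) =
      ((∑ s : SpecialLinearGroup (Fin 2) F, ‖X (SpecialLinearGroup.toGL s)‖ ^ 2 : ℝ) : ℂ) := by
    rw [Complex.ofReal_sum]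
    apply Finset.sum_congr rfl
    intro s _
    rw [Complex.mul_conj, Complex.normSq_eq_norm_sq]
  unfold classInner at hnorm
  rw [hsum] at hnorm
  have hreal : (∑ s : SpecialLinearGroup (Fin 2) F, ‖X (SpecialLinearGroup.toGL s)‖ ^ 2 : ℝ) =
      ((a ^ 2 * t : ℕ) : ℝ) * (Nat.card (SpecialLinearGroup (Fin 2) F) : ℝ) := by
    have hGc : (Nat.card (SpecialLinearGroup (Fin 2) F) : ℂ) ≠ 0 := by
      exact_mod_cast Nat.card_pos.ne'
    have : ((∑ s : SpecialLinearGroup (Fin 2) F, ‖X (SpecialLinearGroup.toGL s)‖ ^ 2 : ℝ) : ℂ) =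
        (((a ^ 2 * t : ℕ) : ℝ) * (Nat.card (SpecialLinearGroup (Fin 2) F) : ℝ) : ℝ) := by
      rw [Complex.ofReal_mul, Complex.ofReal_natCast, Complex.ofReal_natCast, ← hnorm]
      field_simp
    exact_mod_cast this
  rw [hreal] at hb
  have hle : ((a ^ 2 * t : ℕ) : ℝ) ≤ 2 := by
    by_contra hlt
    push Not at hlt
    have := mul_lt_mul_of_pos_right hlt hGpos
    linarith
  have hle' : a ^ 2 * t ≤ 2 := by exact_mod_cast hle
  have ha1 : a = 1 := by
    by_contra hne
    have h2 : 2 ≤ a := by omega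
    have h4 : 4 ≤ a ^ 2 := by nlinarith
    have ht1 : 1 ≤ t := by omega
    nlinarith
  subst ha1
  have ht2 : t = 1 ∨ t = 2 := by omega
  rcases ht2 with rfl | rfl
  · left
    rw [hdeg]
    simp
  · right
    rw [hdeg]
    norm_num


/-- The types of `GL₂`-characters over an irreducible character of `SL₂`, with the degree. -/
theorem under_types (hodd : Odd (Fintype.card F)) {θ : SpecialLinearGroup (Fin 2) F → ℂ}
    (hθ : IsIrrCharacter (SpecialLinearGroup (Fin 2) F) θ) :
    ∃ (X : GL (Fin 2) F → ℂ) (d : ℕ), IsIrrCharacter (GL (Fin 2) F) X ∧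
      classInner (resSL X) θ ≠ 0 ∧ θ 1 = (d : ℂ) ∧
      (((∃ α : MulChar F ℂ, X = detChar α) ∧ d = 1) ∨
       (X 1 = (Fintype.card F : ℂ) ∧ d = Fintype.card F) ∨
       ((∃ α β : MulChar F ℂ, α ≠ β ∧ X = indFun (Cfsg.upperTriangularGL 2 F) (psChar α β)) ∧
          (d = Fintype.card F + 1 ∨ 2 * d = Fintype.card F + 1)) ∨
       ((X 1 = (Fintype.card F : ℂ) - 1 ∧ X (tGL 1) = -1) ∧
          (d + 1 = Fintype.card F ∨ 2 * d + 1 = Fintype.card F))) := by
  obtain ⟨X, hX, h1, hdeg⟩ := under_data hθ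
  obtain ⟨d, hd0, hd⟩ := IsIrrCharacter.apply_one_pos hθ
  obtain ⟨r, hr⟩ := hodd
  refine ⟨X, d, hX, h1, hd, ?_⟩
  rw [hd] at hdeg
  rcases irr_GL2_cases hX with ⟨hα, h2⟩ | ⟨-, h2⟩ | ⟨hαβ, h2⟩ | ⟨h2, h3⟩
  · left
    refine ⟨hα, ?_⟩
    rw [h2] at hdeg
    rcases hdeg with h | h
    · exact_mod_cast h.symm
    · exfalso
      have : (1 : ℕ) = 2 * d := by exact_mod_cast h
      omega
  · right; left
    refine ⟨h2, ?_⟩
    rw [h2] at hdeg
    rcases hdeg with h | h
    · exact_mod_cast h.symm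
    · exfalso
      have : Fintype.card F = 2 * d := by exact_mod_cast h
      omega
  · right; right; left
    refine ⟨hαβ, ?_⟩
    rw [h2] at hdeg
    rcases hdeg with h | h
    · left
      have : ((Fintype.card F + 1 : ℕ) : ℂ) = (d : ℂ) := by push_cast; exact h
      exact_mod_cast this.symm
    · right
      have : ((Fintype.card F + 1 : ℕ) : ℂ) = ((2 * d : ℕ) : ℂ) := by push_cast; exact h
      exact_mod_cast this.symm
  · right; right; right
    refine ⟨⟨h2, h3⟩, ?_⟩
    rw [h2] at hdeg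
    rcases hdeg with h | h
    · left
      have : ((d + 1 : ℕ) : ℂ) = ((Fintype.card F : ℕ) : ℂ) := by push_cast; linear_combination -h
      exact_mod_cast this
    · right
      have : ((2 * d + 1 : ℕ) : ℂ) = ((Fintype.card F : ℕ) : ℂ) := by
        push_cast; linear_combination -h
      exact_mod_cast this

omit [Fintype F] [DecidableEq F] in
theorem resSL_detChar (α : MulChar F ℂ) : resSL (detChar α) = 1 := by
  funext s
  rw [resSL_apply, detChar_apply]
  have hdet : ((SpecialLinearGroup.toGL s : GL (Fin 2) F) : Matrix (Fin 2) (Fin 2) F).det = 1 := s.2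
  rw [hdet, map_one]
  rfl

/-- Irreducible characters with non-zero inner product are equal. -/
theorem eq_of_classInner_ne_zero {G : Type*} [Group G] [Fintype G] {θ φ : G → ℂ}
    (hθ : IsIrrCharacter G θ) (hφ : IsIrrCharacter G φ) (h : classInner θ φ ≠ 0) : θ = φ := by
  rw [classInner_irr hθ hφ] at h
  by_contra hne
  rw [if_neg hne] at h
  exact h rfl

/-- The trivial character is the only irreducible character of degree one (`q ≥ 5`). -/
theorem eq_one_of_degree_one (hodd : Odd (Fintype.card F)) (hq : 5 ≤ Fintype.card F)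
    {θ : SpecialLinearGroup (Fin 2) F → ℂ}
    (hθ : IsIrrCharacter (SpecialLinearGroup (Fin 2) F) θ) (h1 : θ 1 = 1) : θ = 1 := by
  obtain ⟨X, d, hX, hc, hd, htype⟩ := under_types hodd hθ
  have hd1 : d = 1 := by
    rw [hd] at h1
    exact_mod_cast h1
  rcases htype with ⟨⟨α, rfl⟩, -⟩ | ⟨-, h⟩ | ⟨-, h⟩ | ⟨-, h⟩
  · rw [resSL_detChar] at hc
    exact (eq_of_classInner_ne_zero Cfsg.Agent.CharLib.isIrrCharacter_one hθ hc).symm
  all_goals (exfalso; omega)

/-- The Steinberg character is the only irreducible character of degree `q` (`q ≥ 5`). -/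
theorem eq_steinberg_of_degree_q (hodd : Odd (Fintype.card F)) (hq : 5 ≤ Fintype.card F)
    {θ : SpecialLinearGroup (Fin 2) F → ℂ}
    (hθ : IsIrrCharacter (SpecialLinearGroup (Fin 2) F) θ) (h1 : θ 1 = (Fintype.card F : ℂ)) :
    θ = resSL (stChar (1 : MulChar F ℂ)) := by
  obtain ⟨X, d, hX, hc, hd, htype⟩ := under_types hodd hθ
  have hd1 : d = Fintype.card F := by
    rw [hd] at h1
    exact_mod_cast h1
  rcases htype with ⟨-, h⟩ | ⟨hX1, -⟩ | ⟨-, h⟩ | ⟨-, h⟩
  · exfalso; omega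
  · exact eq_resSL_of_under_degree_q hX hX1 hθ hc
  all_goals (exfalso; omega)

theorem indFun_psCharSL_one (γ : MulChar F ℂ) :
    indFun (borelSL F) (psCharSL γ) 1 = (Fintype.card F : ℂ) + 1 := by
  rw [← resSL_indFun_psChar γ, resSL_one, indFun_psChar_one]

theorem isCharacter_indFun_psCharSL (γ : MulChar F ℂ) :
    IsCharacter (SpecialLinearGroup (Fin 2) F) (indFun (borelSL F) (psCharSL γ)) :=
  IsCharacter.indFun (borelSL F) (isCharacter_psCharSL γ)

theorem isIrrCharacter_indFun_psCharSL {γ : MulChar F ℂ} (hγ : γ ≠ γ⁻¹) :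
    IsIrrCharacter (SpecialLinearGroup (Fin 2) F) (indFun (borelSL F) (psCharSL γ)) := by
  have h2 := classInner_indFun_psCharSL γ γ
  rw [if_pos rfl, if_neg hγ, add_zero] at h2
  exact Cfsg.Agent.Lib.Helper6.isIrrCharacter_of_classInner_self_eq_one
    (isCharacter_indFun_psCharSL γ) h2

/-- Irreducible characters of degree `q + 1` are the irreducible principal series. -/
theorem exists_ps_of_degree_q_add_one (hodd : Odd (Fintype.card F)) (hq : 5 ≤ Fintype.card F)
    {θ : SpecialLinearGroup (Fin 2) F → ℂ}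
    (hθ : IsIrrCharacter (SpecialLinearGroup (Fin 2) F) θ)
    (h1 : θ 1 = (Fintype.card F : ℂ) + 1) :
    ∃ γ : MulChar F ℂ, γ ≠ γ⁻¹ ∧ θ = indFun (borelSL F) (psCharSL γ) := by
  obtain ⟨X, d, hX, hc, hd, htype⟩ := under_types hodd hθ
  have hd1 : d = Fintype.card F + 1 := by
    rw [hd] at h1
    have : ((d : ℕ) : ℂ) = ((Fintype.card F + 1 : ℕ) : ℂ) := by push_cast; exact h1
    exact_mod_cast this
  rcases htype with ⟨-, h⟩ | ⟨-, h⟩ | ⟨⟨α, β, hαβ, rfl⟩, -⟩ | ⟨-, h⟩
  · exfalso; omega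
  · exfalso; omega
  · obtain ⟨-, n, hn, hn0⟩ :=
      constituent_degree (isCharacter_resSL (IsIrrCharacter.isCharacter hX)) hθ hc
    rw [resSL_one, indFun_psChar_one, h1] at hn
    have hn' : n = 0 := by
      have : (n : ℂ) = 0 := by linear_combination -hn
      exact_mod_cast this
    have hres := hn0 hn'
    rw [resSL_indFun_psChar'] at hres
    refine ⟨α * β⁻¹, ?_, hres.symm⟩
    intro hγ
    have h2 := classInner_indFun_psCharSL (α * β⁻¹) (α * β⁻¹)
    rw [if_pos rfl, if_pos hγ, hres, classInner_irr hθ hθ, if_pos rfl] at h2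
    norm_num at h2
  · exfalso; omega

/-- Two irreducible principal series of `SL₂` coincide iff the parameters agree up to inversion. -/
theorem indFun_psCharSL_eq_iff {γ γ' : MulChar F ℂ} (hγ : γ ≠ γ⁻¹) :
    indFun (borelSL F) (psCharSL γ') = indFun (borelSL F) (psCharSL γ) ↔ γ' = γ ∨ γ' = γ⁻¹ := by
  constructor
  · intro h
    have h2 := classInner_indFun_psCharSL γ γ'
    rw [h, classInner_irr (isIrrCharacter_indFun_psCharSL hγ) (isIrrCharacter_indFun_psCharSL hγ),
      if_pos rfl] at h2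
    by_cases h3 : γ = γ'
    · left; exact h3.symm
    · right
      rw [if_neg h3, zero_add] at h2
      by_contra h4
      have h5 : γ ≠ γ'⁻¹ := by
        intro h6
        apply h4
        rw [h6, inv_inv]
      rw [if_neg h5] at h2
      exact one_ne_zero h2
  · rintro (rfl | rfl)
    · rfl
    · have hγ' : γ⁻¹ ≠ γ⁻¹⁻¹ := by
        rw [inv_inv]
        exact hγ.symm
      apply eq_of_classInner_ne_zero (isIrrCharacter_indFun_psCharSL hγ')
        (isIrrCharacter_indFun_psCharSL hγ)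
      rw [classInner_indFun_psCharSL, if_neg hγ.symm, if_pos rfl]
      norm_num

/-- The number of irreducible characters of degree `q + 1`. -/
theorem card_degree_q_add_one (hodd : Odd (Fintype.card F)) (hq : 5 ≤ Fintype.card F) :
    2 * Nat.card {χ : IrrCharacter (SpecialLinearGroup (Fin 2) F) //
      (χ : SpecialLinearGroup (Fin 2) F → ℂ) 1 = (Fintype.card F : ℂ) + 1} + 3 = Fintype.card F := by
  have h2 : (2 : F) ≠ 0 := two_ne_zero_of_odd_card' hodd
  have hcount := card_mulChar_ne_inv (F := F) h2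
  let f : {γ : MulChar F ℂ // γ ≠ γ⁻¹} → {χ : IrrCharacter (SpecialLinearGroup (Fin 2) F) //
      (χ : SpecialLinearGroup (Fin 2) F → ℂ) 1 = (Fintype.card F : ℂ) + 1} :=
    fun γ => ⟨⟨indFun (borelSL F) (psCharSL γ.1), isIrrCharacter_indFun_psCharSL γ.2⟩,
      indFun_psCharSL_one γ.1⟩
  have : Finite {χ : IrrCharacter (SpecialLinearGroup (Fin 2) F) //
      (χ : SpecialLinearGroup (Fin 2) F → ℂ) 1 = (Fintype.card F : ℂ) + 1} := by
    have := fintypeIrr (SpecialLinearGroup (Fin 2) F)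
    infer_instance
  have hfib : ∀ b, Nat.card {a // f a = b} = 2 := by
    rintro ⟨⟨θ, hθ⟩, hθ1⟩
    obtain ⟨γ, hγ, rfl⟩ := exists_ps_of_degree_q_add_one hodd hq hθ hθ1
    have hγ' : γ⁻¹ ≠ γ⁻¹⁻¹ := by
      rw [inv_inv]
      exact hγ.symm
    rw [Nat.card_eq_two_iff]
    refine ⟨⟨⟨γ, hγ⟩, rfl⟩, ⟨⟨γ⁻¹, hγ'⟩, ?_⟩, ?_, ?_⟩
    · apply Subtype.ext
      apply Subtype.ext
      exact (indFun_psCharSL_eq_iff hγ).mpr (Or.inr rfl)
    · intro h
      apply hγ
      exact congrArg (fun x => x.1.1) h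
    · ext ⟨⟨γ', hγ''⟩, hfγ'⟩
      simp only [Set.mem_insert_iff, Set.mem_singleton_iff, Set.mem_univ, iff_true]
      have h3 : indFun (borelSL F) (psCharSL γ') = indFun (borelSL F) (psCharSL γ) :=
        congrArg (fun x => x.1.1) hfγ'
      rcases (indFun_psCharSL_eq_iff hγ).mp h3 with rfl | rfl
      · left; rfl
      · right; rfl
  have := card_eq_mul_of_fibers' f 2 hfib
  omega

end Cfsg.Agent.Lib.Helper13
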