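/-
helper13: the number of irreducible characters of `SL₂(F)` of each degree, `q` odd, `q ≥ 5`.
-/
import Mathlib
import Cfsg.Agent.Lib.Helper13.SL2OddDegrees
import Cfsg.Agent.S2325

set_option autoImplicit false

namespace Cfsg.Agent.Lib.Helper13

open Matrix Cfsg Cfsg.Agent.CharLib Cfsg.Agent.Lib.Helper6
open scoped ComplexConjugate

variable {F : Type*} [Field F] [Fintype F] [DecidableEq F]

/-- The two irreducible characters of degree `(q + 1) / 2`. -/
theorem exists_half_ps (hodd : Odd (Fintype.card F)) (hq : 5 ≤ Fintype.card F) :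
    ∃ ξ₁ ξ₂ : SpecialLinearGroup (Fin 2) F → ℂ,
      IsIrrCharacter (SpecialLinearGroup (Fin 2) F) ξ₁ ∧
      IsIrrCharacter (SpecialLinearGroup (Fin 2) F) ξ₂ ∧ ξ₁ ≠ ξ₂ ∧
      indFun (borelSL F) (psCharSL (quadC F)) = ξ₁ + ξ₂ ∧
      2 * ξ₁ 1 = (Fintype.card F : ℂ) + 1 ∧ 2 * ξ₂ 1 = (Fintype.card F : ℂ) + 1 ∧
      ∀ θ : SpecialLinearGroup (Fin 2) F → ℂ, IsIrrCharacter (SpecialLinearGroup (Fin 2) F) θ →
        2 * θ 1 = (Fintype.card F : ℂ) + 1 → θ = ξ₁ ∨ θ = ξ₂ := by
  have h2 : (2 : F) ≠ 0 := two_ne_zero_of_odd_card' hodd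
  have hne1 : quadC F ≠ 1 := quadC_ne_one h2
  have hnorm : classInner (indFun (borelSL F) (psCharSL (quadC F)))
      (indFun (borelSL F) (psCharSL (quadC F))) = 2 := by
    rw [classInner_indFun_psCharSL, if_pos rfl, if_pos quadC_inv.symm]
    norm_num
  obtain ⟨ξ₁, ξ₂, hξ₁, hξ₂, hne, hsum, hc₁, hc₂⟩ :=
    exists_two_of_norm_two (isCharacter_indFun_psCharSL (quadC F)) hnorm
  have hX₀ : IsIrrCharacter (GL (Fin 2) F)
      (indFun (Cfsg.upperTriangularGL 2 F) (psChar (quadC F) 1)) :=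
    isIrrCharacter_indFun_psChar hne1
  have hres := resSL_indFun_psChar (quadC F)
  have hdegeq : ξ₁ 1 = ξ₂ 1 :=
    degree_eq_of_constituents_SL hX₀ hξ₁ hξ₂ (by rw [hres]; exact hc₁) (by rw [hres]; exact hc₂)
  have hone := indFun_psCharSL_one (quadC F)
  rw [hsum, Pi.add_apply] at hone
  refine ⟨ξ₁, ξ₂, hξ₁, hξ₂, hne, hsum, by linear_combination hone + hdegeq,
    by linear_combination hone - hdegeq, ?_⟩
  intro θ hθ hθ1
  obtain ⟨X, d, hX, hc, hd, htype⟩ := under_types hodd hθ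
  have hd1 : 2 * d = Fintype.card F + 1 := by
    rw [hd] at hθ1
    have : ((2 * d : ℕ) : ℂ) = ((Fintype.card F + 1 : ℕ) : ℂ) := by push_cast; exact hθ1
    exact_mod_cast this
  rcases htype with ⟨-, h⟩ | ⟨-, h⟩ | ⟨⟨α, β, hαβ, rfl⟩, -⟩ | ⟨-, h⟩
  · exfalso; omega
  · exfalso; omega
  · rw [resSL_indFun_psChar'] at hc
    have hγ : α * β⁻¹ = quadC F := by
      by_cases hinv : α * β⁻¹ = (α * β⁻¹)⁻¹
      · rcases eq_one_or_quadC hinv with h | h
        · exact absurd (mul_inv_eq_one.mp h) hαβ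
        · exact h
      · exfalso
        have := eq_of_classInner_ne_zero (isIrrCharacter_indFun_psCharSL hinv) hθ hc
        have h3 := congrFun this 1
        rw [indFun_psCharSL_one, hd] at h3
        have : Fintype.card F + 1 = d := by exact_mod_cast h3
        omega
    rw [hγ, hsum, Cfsg.Agent.Lib.Helper10.classInner_add_left] at hc
    by_cases h1 : classInner ξ₁ θ = 0
    · right
      rw [h1, zero_add] at hc
      exact (eq_of_classInner_ne_zero hξ₂ hθ hc).symm
    · left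
      exact (eq_of_classInner_ne_zero hξ₁ hθ h1).symm
  · exfalso; omega

/-- Counting by degree. -/
theorem sum_by_degree {G : Type*} [Group G] [Fintype (IrrCharacter G)] (K : Finset ℕ)
    (hK : ∀ χ : IrrCharacter G, charDegree (χ : G → ℂ) ∈ K) (g : ℕ → ℕ) :
    ∑ χ : IrrCharacter G, g (charDegree (χ : G → ℂ)) =
      ∑ k ∈ K, g k * Nat.card {χ : IrrCharacter G // charDegree (χ : G → ℂ) = k} := by
  classical
  have h1 : ∀ χ : IrrCharacter G, g (charDegree (χ : G → ℂ)) =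
      ∑ k ∈ K, if charDegree (χ : G → ℂ) = k then g k else 0 := by
    intro χ
    rw [Finset.sum_ite_eq K (charDegree (χ : G → ℂ)) g, if_pos (hK χ)]
  rw [Finset.sum_congr rfl (fun χ _ => h1 χ), Finset.sum_comm]
  apply Finset.sum_congr rfl
  intro k _
  exact sum_ite_const' (fun χ : IrrCharacter G => charDegree (χ : G → ℂ) = k) (g k)

/-- The number of irreducible characters of `SL₂(F)` of each degree (`q = 2 r + 1 ≥ 5`). -/
theorem card_by_degree_SL2_odd (r : ℕ) (hr : Fintype.card F = 2 * r + 1) (hr2 : 2 ≤ r) :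
    Nat.card {χ : IrrCharacter (SpecialLinearGroup (Fin 2) F) //
      charDegree (χ : SpecialLinearGroup (Fin 2) F → ℂ) = 1} = 1 ∧
    Nat.card {χ : IrrCharacter (SpecialLinearGroup (Fin 2) F) //
      charDegree (χ : SpecialLinearGroup (Fin 2) F → ℂ) = 2 * r + 1} = 1 ∧
    Nat.card {χ : IrrCharacter (SpecialLinearGroup (Fin 2) F) //
      charDegree (χ : SpecialLinearGroup (Fin 2) F → ℂ) = 2 * r + 2} + 1 = r ∧
    Nat.card {χ : IrrCharacter (SpecialLinearGroup (Fin 2) F) //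
      charDegree (χ : SpecialLinearGroup (Fin 2) F → ℂ) = 2 * r} = r ∧
    Nat.card {χ : IrrCharacter (SpecialLinearGroup (Fin 2) F) //
      charDegree (χ : SpecialLinearGroup (Fin 2) F → ℂ) = r + 1} = 2 ∧
    Nat.card {χ : IrrCharacter (SpecialLinearGroup (Fin 2) F) //
      charDegree (χ : SpecialLinearGroup (Fin 2) F → ℂ) = r} = 2 := by
  classical
  let _ := fintypeIrr (SpecialLinearGroup (Fin 2) F)
  have hodd : Odd (Fintype.card F) := ⟨r, hr⟩
  have hq : 5 ≤ Fintype.card F := by omega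
  have hdeg : ∀ χ : IrrCharacter (SpecialLinearGroup (Fin 2) F),
      (χ : SpecialLinearGroup (Fin 2) F → ℂ) 1 =
        (charDegree (χ : SpecialLinearGroup (Fin 2) F → ℂ) : ℂ) :=
    fun χ => Cfsg.Agent.Lib.Helper24.irr_apply_one χ
  -- degree 1
  have hN1 : Nat.card {χ : IrrCharacter (SpecialLinearGroup (Fin 2) F) //
      charDegree (χ : SpecialLinearGroup (Fin 2) F → ℂ) = 1} = 1 := by
    rw [Nat.card_eq_one_iff_unique]
    constructor
    · constructor
      rintro ⟨χ, hχ⟩ ⟨ψ, hψ⟩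
      apply Subtype.ext
      apply Subtype.ext
      have h1 := eq_one_of_degree_one hodd hq χ.2 (by rw [hdeg, hχ, Nat.cast_one])
      have h2 := eq_one_of_degree_one hodd hq ψ.2 (by rw [hdeg, hψ, Nat.cast_one])
      rw [h1, h2]
    · refine ⟨⟨⟨1, Cfsg.Agent.CharLib.isIrrCharacter_one⟩, ?_⟩⟩
      have h1 := hdeg ⟨1, Cfsg.Agent.CharLib.isIrrCharacter_one⟩
      change (1 : ℂ) = _ at h1
      exact_mod_cast h1.symm
  -- degree q
  have hNq : Nat.card {χ : IrrCharacter (SpecialLinearGroup (Fin 2) F) //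
      charDegree (χ : SpecialLinearGroup (Fin 2) F → ℂ) = 2 * r + 1} = 1 := by
    rw [Nat.card_eq_one_iff_unique]
    constructor
    · constructor
      rintro ⟨χ, hχ⟩ ⟨ψ, hψ⟩
      apply Subtype.ext
      apply Subtype.ext
      have h1 := eq_steinberg_of_degree_q hodd hq χ.2 (by rw [hdeg, hχ, hr])
      have h2 := eq_steinberg_of_degree_q hodd hq ψ.2 (by rw [hdeg, hψ, hr])
      rw [h1, h2]
    · refine ⟨⟨⟨resSL (stChar (1 : MulChar F ℂ)), isIrrCharacter_resSL_stChar⟩, ?_⟩⟩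
      have h1 := hdeg ⟨resSL (stChar (1 : MulChar F ℂ)), isIrrCharacter_resSL_stChar⟩
      change resSL (stChar (1 : MulChar F ℂ)) 1 = _ at h1
      rw [resSL_stChar_one, hr] at h1
      exact_mod_cast h1.symm
  -- degree q + 1
  have hNa : Nat.card {χ : IrrCharacter (SpecialLinearGroup (Fin 2) F) //
      charDegree (χ : SpecialLinearGroup (Fin 2) F → ℂ) = 2 * r + 2} + 1 = r := by
    have h := card_degree_q_add_one hodd hq
    have hcongr : Nat.card {χ : IrrCharacter (SpecialLinearGroup (Fin 2) F) //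
        charDegree (χ : SpecialLinearGroup (Fin 2) F → ℂ) = 2 * r + 2} =
        Nat.card {χ : IrrCharacter (SpecialLinearGroup (Fin 2) F) //
          (χ : SpecialLinearGroup (Fin 2) F → ℂ) 1 = (Fintype.card F : ℂ) + 1} := by
      apply Nat.card_congr
      apply Equiv.subtypeEquivRight
      intro χ
      rw [hdeg, hr]
      constructor
      · intro h; rw [h]; push_cast; ring
      · intro h
        have : ((charDegree (χ : SpecialLinearGroup (Fin 2) F → ℂ) : ℕ) : ℂ) = ((2 * r + 2 : ℕ) : ℂ) := by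
          rw [h]; push_cast; ring
        exact_mod_cast this
    rw [hcongr]
    omega
  -- degree (q + 1) / 2
  have hNc : Nat.card {χ : IrrCharacter (SpecialLinearGroup (Fin 2) F) //
      charDegree (χ : SpecialLinearGroup (Fin 2) F → ℂ) = r + 1} = 2 := by
    obtain ⟨ξ₁, ξ₂, hξ₁, hξ₂, hne, -, h1, h2, hall⟩ := exists_half_ps hodd hq
    have hconv : ∀ χ : IrrCharacter (SpecialLinearGroup (Fin 2) F),
        charDegree (χ : SpecialLinearGroup (Fin 2) F → ℂ) = r + 1 ↔
        2 * (χ : SpecialLinearGroup (Fin 2) F → ℂ) 1 = (Fintype.card F : ℂ) + 1 := by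
      intro χ
      rw [hdeg, hr]
      constructor
      · intro h; rw [h]; push_cast; ring
      · intro h
        have : ((2 * charDegree (χ : SpecialLinearGroup (Fin 2) F → ℂ) : ℕ) : ℂ) =
            ((2 * (r + 1) : ℕ) : ℂ) := by
          push_cast at h ⊢; linear_combination h
        have : 2 * charDegree (χ : SpecialLinearGroup (Fin 2) F → ℂ) = 2 * (r + 1) := by
          exact_mod_cast this
        omega
    rw [Nat.card_eq_two_iff]
    refine ⟨⟨⟨ξ₁, hξ₁⟩, (hconv ⟨ξ₁, hξ₁⟩).mpr h1⟩, ⟨⟨ξ₂, hξ₂⟩, (hconv ⟨ξ₂, hξ₂⟩).mpr h2⟩, ?_, ?_⟩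
    · intro h
      exact hne (congrArg (fun x => x.1.1) h)
    · ext ⟨χ, hχ⟩
      simp only [Set.mem_insert_iff, Set.mem_singleton_iff, Set.mem_univ, iff_true]
      rcases hall χ.1 χ.2 ((hconv χ).mp hχ) with h | h
      · left; exact Subtype.ext (Subtype.ext h)
      · right; exact Subtype.ext (Subtype.ext h)
  -- every degree is one of the six
  have hK : ∀ χ : IrrCharacter (SpecialLinearGroup (Fin 2) F),
      charDegree (χ : SpecialLinearGroup (Fin 2) F → ℂ) ∈
        ({1, 2 * r + 1, 2 * r + 2, 2 * r, r + 1, r} : Finset ℕ) := by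
    intro χ
    obtain ⟨X, d, hX, hc, hd, htype⟩ := under_types hodd χ.2
    have hdd : charDegree (χ : SpecialLinearGroup (Fin 2) F → ℂ) = d := by
      have := hdeg χ
      rw [hd] at this
      exact_mod_cast this.symm
    rw [hdd]
    simp only [Finset.mem_insert, Finset.mem_singleton]
    rcases htype with ⟨-, h⟩ | ⟨-, h⟩ | ⟨-, h | h⟩ | ⟨-, h | h⟩ <;> omega
  have hcount := sum_by_degree ({1, 2 * r + 1, 2 * r + 2, 2 * r, r + 1, r} : Finset ℕ) hK (fun _ => 1)
  have hsq := sum_by_degree ({1, 2 * r + 1, 2 * r + 2, 2 * r, r + 1, r} : Finset ℕ) hK (fun k => k ^ 2)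
  have htot : Fintype.card (IrrCharacter (SpecialLinearGroup (Fin 2) F)) = 2 * r + 5 := by
    rw [← Nat.card_eq_fintype_card, card_irrCharacter, Cfsg.Agent.S2325.result hodd, hr]
  have hG : Fintype.card (SpecialLinearGroup (Fin 2) F) = (2 * r + 1) * (2 * r) * (2 * r + 2) := by
    rw [← Nat.card_eq_fintype_card, card_SL2, hr]
    have : (2 * r + 1) ^ 2 - 1 = (2 * r) * (2 * r + 2) := by
      have : (2 * r + 1) ^ 2 = (2 * r) * (2 * r + 2) + 1 := by ring
      omega
    rw [this]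
    ring
  rw [Cfsg.Agent.Lib.Helper24.sum_charDegree_sq, hG] at hsq
  rw [Finset.sum_const, Finset.card_univ, htot, smul_eq_mul, mul_one] at hcount
  have hn1 : (1 : ℕ) ∉ ({2 * r + 1, 2 * r + 2, 2 * r, r + 1, r} : Finset ℕ) := by
    simp only [Finset.mem_insert, Finset.mem_singleton]; omega
  have hn2 : (2 * r + 1 : ℕ) ∉ ({2 * r + 2, 2 * r, r + 1, r} : Finset ℕ) := by
    simp only [Finset.mem_insert, Finset.mem_singleton]; omega
  have hn3 : (2 * r + 2 : ℕ) ∉ ({2 * r, r + 1, r} : Finset ℕ) := by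
    simp only [Finset.mem_insert, Finset.mem_singleton]; omega
  have hn4 : (2 * r : ℕ) ∉ ({r + 1, r} : Finset ℕ) := by
    simp only [Finset.mem_insert, Finset.mem_singleton]; omega
  have hn5 : (r + 1 : ℕ) ∉ ({r} : Finset ℕ) := by
    simp only [Finset.mem_singleton]; omega
  rw [Finset.sum_insert hn1, Finset.sum_insert hn2, Finset.sum_insert hn3, Finset.sum_insert hn4,
    Finset.sum_insert hn5, Finset.sum_singleton] at hcount hsq
  set Nb := Nat.card {χ : IrrCharacter (SpecialLinearGroup (Fin 2) F) //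
      charDegree (χ : SpecialLinearGroup (Fin 2) F → ℂ) = 2 * r} with hNb
  set Nd := Nat.card {χ : IrrCharacter (SpecialLinearGroup (Fin 2) F) //
      charDegree (χ : SpecialLinearGroup (Fin 2) F → ℂ) = r} with hNd
  set Na := Nat.card {χ : IrrCharacter (SpecialLinearGroup (Fin 2) F) //
      charDegree (χ : SpecialLinearGroup (Fin 2) F → ℂ) = 2 * r + 2} with hNa'
  rw [hN1, hNq, hNc] at hcount hsq
  have e1 : Nb + Nd = r + 2 := by omega
  have e2 : (r : ℤ) ^ 2 * (4 * Nb + Nd) = (r : ℤ) ^ 2 * (4 * r + 2) := by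
    have hNaz : (Na : ℤ) + 1 = r := by exact_mod_cast hNa
    have hsqz : ((2 * r + 1) * (2 * r) * (2 * r + 2) : ℤ) =
        1 ^ 2 * 1 + ((2 * r + 1) ^ 2 * 1 + ((2 * r + 2) ^ 2 * Na + ((2 * r) ^ 2 * Nb +
          ((r + 1) ^ 2 * 2 + r ^ 2 * Nd)))) := by exact_mod_cast hsq
    linear_combination -hsqz - (2 * (r : ℤ) + 2) ^ 2 * hNaz
  have hr0 : (r : ℤ) ^ 2 ≠ 0 := by
    have : (r : ℤ) ≠ 0 := by exact_mod_cast (by omega : r ≠ 0)
    exact pow_ne_zero 2 this
  have e3 : (4 * (Nb : ℤ) + Nd) = 4 * r + 2 := mul_left_cancel₀ hr0 e2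
  have e3' : 4 * Nb + Nd = 4 * r + 2 := by exact_mod_cast e3
  refine ⟨hN1, hNq, hNa, ?_, hNc, ?_⟩ <;> omega

end Cfsg.Agent.Lib.Helper13
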