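/-
helper13: abstract counts of odd-degree irreducible characters: `2`-groups, groups with a cyclic
subgroup of index two inverted by the outer elements, and groups of order `24` of `SL₂(3)`-type.
-/
import Mathlib
import Cfsg.Agent.Lib.Helper13.McKayBasic
import Cfsg.Agent.Lib.Helper13.SL2OddCount

set_option autoImplicit false

namespace Cfsg.Agent.Lib.Helper13

open Cfsg Cfsg.Agent.CharLib
open scoped commutatorElement

universe u

/-- The count as a sum. -/
theorem irrNot_eq_sum {X : Type u} [Group X] [Fintype (IrrCharacter X)] (ℓ : ℕ) :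
    irrNot ℓ X = ∑ χ : IrrCharacter X, (if ℓ ∣ charDegree (χ : X → ℂ) then 0 else 1) := by
  classical
  unfold irrNot
  rw [Nat.card_eq_fintype_card, Fintype.card_subtype, Finset.card_filter]
  apply Finset.sum_congr rfl
  intro χ _
  by_cases h : ℓ ∣ charDegree (χ : X → ℂ) <;> simp [h]

theorem charDegree_eq_one_iff {X : Type u} [Group X] (χ : IrrCharacter X) :
    charDegree (χ : X → ℂ) = 1 ↔ (χ : X → ℂ) 1 = 1 := by
  have h1 := Cfsg.Agent.Lib.Helper24.irr_apply_one χ
  constructor
  · intro h
    rw [h1, h, Nat.cast_one]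
  · intro h
    rw [h1] at h
    exact_mod_cast h

theorem card_charDegree_eq_one {X : Type u} [Group X] [Finite X] :
    Nat.card {χ : IrrCharacter X // charDegree (χ : X → ℂ) = 1} = (commutator X).index := by
  rw [← Cfsg.Agent.Lib.Helper6.card_linear_irr]
  apply Nat.card_congr
  apply Equiv.subtypeEquivRight
  intro χ
  exact charDegree_eq_one_iff χ

/-- In a `2`-group the odd-degree irreducible characters are the linear ones. -/
theorem irrNot_two_of_card_two_pow {X : Type u} [Group X] [Finite X] (k : ℕ)
    (hX : Nat.card X = 2 ^ k) : irrNot 2 X = (commutator X).index := by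
  rw [← card_charDegree_eq_one]
  unfold irrNot
  apply Nat.card_congr
  apply Equiv.subtypeEquivRight
  intro χ
  have hd := Cfsg.Agent.Lib.Helper24.irr_charDegree_dvd_card χ
  rw [hX] at hd
  obtain ⟨j, -, hj⟩ := (Nat.dvd_prime_pow Nat.prime_two).mp hd
  constructor
  · intro h
    have : j = 0 := by
      by_contra hj0
      apply h
      rw [hj]
      exact dvd_pow_self 2 hj0
    rw [hj, this, pow_zero]
  · intro h
    rw [h]
    norm_num

/-- A group with a cyclic subgroup of index two and even order, inverted by an outer element, has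
commutator subgroup of index four. -/
theorem index_commutator_of_inverting {X : Type u} [Group X] [Finite X] (A : Subgroup X)
    (hA : A.index = 2) [hcyc : IsCyclic A] (h2 : 2 ∣ Nat.card A) (s : X) (hs : s ∉ A)
    (hinv : ∀ t ∈ A, s * t * s⁻¹ = t⁻¹) : (commutator X).index = 4 := by
  classical
  have : Fact (Nat.Prime 2) := ⟨Nat.prime_two⟩
  obtain ⟨b, hbA, hAz⟩ : ∃ b ∈ A, ∀ t ∈ A, t ∈ Subgroup.zpowers b := by
    obtain ⟨b₀, hb₀⟩ := hcyc.exists_generator
    refine ⟨(b₀ : X), b₀.2, ?_⟩
    intro t ht
    obtain ⟨k, hk⟩ := Subgroup.mem_zpowers_iff.mp (hb₀ ⟨t, ht⟩)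
    rw [Subgroup.mem_zpowers_iff]
    refine ⟨k, ?_⟩
    have := congrArg Subtype.val hk
    simpa using this
  have hAeq : A = Subgroup.zpowers b :=
    le_antisymm hAz (by rw [Subgroup.zpowers_le]; exact hbA)
  have hcomm : ∀ t ∈ A, Commute t b := by
    intro t ht
    obtain ⟨k, rfl⟩ := Subgroup.mem_zpowers_iff.mp (hAz t ht)
    exact (Commute.refl b).zpow_left k
  have hconj : ∀ x : X, x * b * x⁻¹ = b ∨ x * b * x⁻¹ = b⁻¹ := by
    intro x
    by_cases hx : x ∈ A
    · left
      rw [(hcomm x hx).eq, mul_inv_cancel_right]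
    · right
      have hs' : s⁻¹ ∉ A := fun h => hs (by simpa using inv_mem h)
      have hxs : x * s⁻¹ ∈ A := by
        rw [Subgroup.mul_mem_iff_of_index_two hA]
        exact iff_of_false hx hs'
      have e : x * b * x⁻¹ = (x * s⁻¹) * (s * b * s⁻¹) * (x * s⁻¹)⁻¹ := by group
      rw [e, hinv b hbA, (hcomm (x * s⁻¹) hxs).inv_right.eq, mul_inv_cancel_right]
  set c : X := b ^ 2 with hc
  have hcconj : ∀ x : X, x * c * x⁻¹ = c ∨ x * c * x⁻¹ = c⁻¹ := by
    intro x
    have e : x * c * x⁻¹ = (x * b * x⁻¹) ^ 2 := by rw [hc, conj_pow]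
    rcases hconj x with h | h
    · left; rw [e, h]
    · right; rw [e, h, inv_pow]
  have hnormal : (Subgroup.zpowers c).Normal := by
    constructor
    intro n hn x
    obtain ⟨k, rfl⟩ := Subgroup.mem_zpowers_iff.mp hn
    rw [← conj_zpow]
    rcases hcconj x with h | h
    · rw [h]; exact Subgroup.zpow_mem_zpowers c k
    · rw [h]; exact (Subgroup.zpowers c).zpow_mem (inv_mem (Subgroup.mem_zpowers c)) k
  have hcardA : Nat.card A = orderOf b := by
    rw [← Nat.card_zpowers]
    exact congrArg (fun H : Subgroup X => Nat.card H) hAeq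
  rw [hcardA] at h2
  obtain ⟨m, hm⟩ := h2
  have hm0 : 0 < m := by
    have := orderOf_pos b
    omega
  have hordc : orderOf c = m := by
    rw [hc, orderOf_pow, hm]
    have : Nat.gcd (2 * m) 2 = 2 := by
      rw [Nat.gcd_comm]; exact Nat.gcd_mul_right_right m 2 |>.symm ▸ rfl
    rw [this]
    omega
  have hcardX : Nat.card X = 4 * m := by
    rw [← A.card_mul_index, hA, hcardA, hm]; ring
  have hidx : (Subgroup.zpowers c).index = 4 := by
    have h1 := (Subgroup.zpowers c).card_mul_index
    rw [Nat.card_zpowers, hordc, hcardX] at h1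
    have : m * (Subgroup.zpowers c).index = m * 4 := by rw [h1]; ring
    exact Nat.eq_of_mul_eq_mul_left hm0 this
  have hle : commutator X ≤ Subgroup.zpowers c := by
    have hq : Nat.card (X ⧸ Subgroup.zpowers c) = 2 ^ 2 := by
      rw [← Subgroup.index_eq_card, hidx]; norm_num
    have hqc := IsPGroup.commutative_of_card_eq_prime_sq hq
    rw [commutator_def, Subgroup.commutator_le]
    intro g _ h _
    rw [← QuotientGroup.eq_one_iff, commutatorElement_def]
    simp only [QuotientGroup.mk_mul, QuotientGroup.mk_inv]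
    rw [hqc (g : X ⧸ Subgroup.zpowers c) (h : X ⧸ Subgroup.zpowers c)]
    group
  have hge : Subgroup.zpowers c ≤ commutator X := by
    rw [Subgroup.zpowers_le]
    have h1 : c = ⁅s, b⁻¹⁆ := by
      rw [commutatorElement_def, hinv b⁻¹ (inv_mem hbA), inv_inv, hc, pow_two]
    rw [h1, commutator_def]
    exact Subgroup.commutator_mem_commutator (Subgroup.mem_top s) (Subgroup.mem_top _)
  rw [le_antisymm hle hge, hidx]

/-- A group of order `24` with a normal subgroup `Q` of order `8` having a unique involution `z`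
(central), all squares in `{1, z}`, and `C(Q) = {1, z}`: exactly four irreducible characters of
odd degree. -/
theorem irrNot_two_of_card_24 {X : Type u} [Group X] [Finite X] (hX : Nat.card X = 24)
    (Q : Subgroup X) [hQn : Q.Normal] (hQ : Nat.card Q = 8) (z : X)
    (hzc : ∀ x : X, x * z = z * x) (hz2 : z * z = 1)
    (h1 : ∀ s ∈ Q, s * s = 1 → s = 1 ∨ s = z) (h2 : ∀ s ∈ Q, s * s = 1 ∨ s * s = z)
    (h3 : ∀ x : X, (∀ s ∈ Q, x * s = s * x) → x = 1 ∨ x = z) : irrNot 2 X = 4 := by
  classical
  have : Fact (Nat.Prime 3) := ⟨Nat.prime_three⟩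
  -- an element of order three
  obtain ⟨x, hx⟩ := exists_prime_orderOf_dvd_card' (G := X) 3 (by rw [hX]; norm_num)
  have hx3 : x ^ 3 = 1 := by rw [← hx]; exact pow_orderOf_eq_one x
  have hxne1 : x ≠ 1 := by
    intro h; rw [h, orderOf_one] at hx; omega
  have hxnez : x ≠ z := by
    intro h
    have : orderOf x ∣ 2 := orderOf_dvd_of_pow_eq_one (by rw [h, pow_two, hz2])
    rw [hx] at this
    omega
  set φ : X → X := fun y => x * y * x⁻¹ with hφ
  have hφ3 : ∀ y, φ (φ (φ y)) = y := by
    intro y
    have hxxx : x * x * x = 1 := by rw [← hx3, pow_succ, pow_succ, pow_one]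
    have : φ (φ (φ y)) = (x * x * x) * y * (x * x * x)⁻¹ := by simp only [hφ]; group
    rw [this, hxxx]; group
  have hφinj : Function.Injective φ := by
    intro a b hab
    have : x * a * x⁻¹ = x * b * x⁻¹ := hab
    exact mul_left_cancel (mul_right_cancel this)
  have hφ1 : φ 1 = 1 := by simp [hφ]
  have hφz : φ z = z := by
    change x * z * x⁻¹ = z
    rw [hzc x, mul_inv_cancel_right]
  have hφmul : ∀ a b, φ (a * b) = φ a * φ b := by
    intro a b; simp only [hφ]; group
  set E : Subgroup X := commutator X ⊓ Q with hE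
  have hφE : ∀ e ∈ E, φ e ∈ E := by
    intro e he
    rw [hE, Subgroup.mem_inf] at he ⊢
    refine ⟨?_, hQn.conj_mem e he.2 x⟩
    exact (inferInstance : (commutator X).Normal).conj_mem e he.1 x
  -- `x` moves some element of `E`
  have hmove : ∃ e ∈ E, φ e ≠ e := by
    by_contra hcon
    push Not at hcon
    have hcent : ∀ s ∈ Q, x * s = s * x := by
      intro s hs
      set u := x * s * x⁻¹ * s⁻¹ with hu
      have huE : u ∈ E := by
        rw [hE, Subgroup.mem_inf]
        refine ⟨?_, ?_⟩
        · rw [commutator_def]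
          have : u = ⁅x, s⁆ := by rw [commutatorElement_def]
          rw [this]
          exact Subgroup.commutator_mem_commutator (Subgroup.mem_top x) (Subgroup.mem_top s)
        · exact mul_mem (hQn.conj_mem s hs x) (inv_mem hs)
      have hfix : φ u = u := hcon u huE
      have hs1 : φ s = u * s := by simp only [hφ, hu]; group
      have hs2 : φ (φ s) = u * u * s := by rw [hs1, hφmul, hfix, hs1]; group
      have hs3 : φ (φ (φ s)) = u * u * u * s := by rw [hs2, hφmul, hφmul, hfix, hs1]; group
      rw [hφ3] at hs3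
      have hu3 : u ^ 3 = 1 := by
        have : u * u * u = 1 := by
          have := congrArg (fun w => w * s⁻¹) hs3
          simp only [mul_inv_cancel, mul_inv_cancel_right] at this
          exact this.symm
        rw [← this, pow_succ, pow_succ, pow_one]
      have hu8 : u ^ 8 = 1 := by
        have := Subgroup.orderOf_dvd_natCard Q huE.2
        rw [hQ] at this
        exact orderOf_dvd_iff_pow_eq_one.mp this
      have hu1 : u = 1 := by
        have : u = (u ^ 3) ^ 3 * (u ^ 8)⁻¹ := by group
        rw [this, hu3, hu8]; group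
      have : x * s * x⁻¹ * s⁻¹ = 1 := hu1
      have h4 : x * s * x⁻¹ = s := by
        have := congrArg (fun w => w * s) this
        simpa using this
      calc x * s = (x * s * x⁻¹) * x := by group
        _ = s * x := by rw [h4]
    rcases h3 x hcent with h | h
    · exact hxne1 h
    · exact hxnez h
  obtain ⟨e, heE, hne⟩ := hmove
  have he1 : e ≠ 1 := fun h => hne (by rw [h, hφ1])
  have hez : e ≠ z := fun h => hne (by rw [h, hφz])
  have hee : e * e = z := by
    rcases h2 e heE.2 with h | h
    · rcases h1 e heE.2 h with h' | h'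
      · exact absurd h' he1
      · exact absurd h' hez
    · exact h
  have hzE : z ∈ E := by rw [← hee]; exact mul_mem heE heE
  -- five distinct elements of `E`
  have d1 : φ e ≠ 1 := fun h => he1 (hφinj (h.trans hφ1.symm))
  have d2 : φ e ≠ z := fun h => hez (hφinj (h.trans hφz.symm))
  have d3 : φ (φ e) ≠ 1 := fun h => d1 (hφinj (h.trans hφ1.symm))
  have d4 : φ (φ e) ≠ z := fun h => d2 (hφinj (h.trans hφz.symm))
  have d5 : φ (φ e) ≠ φ e := fun h => hne (hφinj h)
  have d6 : φ (φ e) ≠ e := by
    intro h
    apply hne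
    have := congrArg φ h
    rw [hφ3] at this
    exact this.symm
  have hz1 : z ≠ 1 := by
    intro h
    apply he1
    rcases h1 e heE.2 (by rw [hee, h]) with h' | h'
    · exact h'
    · rw [h', h]
  let T : Finset X := {1, z, e, φ e, φ (φ e)}
  have hTcard : T.card = 5 := by
    have n1 : (1 : X) ∉ ({z, e, φ e, φ (φ e)} : Finset X) := by
      simp only [Finset.mem_insert, Finset.mem_singleton, not_or]
      exact ⟨hz1.symm, he1.symm, d1.symm, d3.symm⟩
    have n2 : z ∉ ({e, φ e, φ (φ e)} : Finset X) := by
      simp only [Finset.mem_insert, Finset.mem_singleton, not_or]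
      exact ⟨hez.symm, d2.symm, d4.symm⟩
    have n3 : e ∉ ({φ e, φ (φ e)} : Finset X) := by
      simp only [Finset.mem_insert, Finset.mem_singleton, not_or]
      exact ⟨hne.symm, d6.symm⟩
    have n4 : φ e ∉ ({φ (φ e)} : Finset X) := by
      simp only [Finset.mem_singleton]
      exact d5.symm
    rw [Finset.card_insert_of_notMem n1, Finset.card_insert_of_notMem n2,
      Finset.card_insert_of_notMem n3, Finset.card_insert_of_notMem n4, Finset.card_singleton]
  have hTE : (T : Set X) ⊆ (E : Set X) := by
    intro y hy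
    simp only [T, Finset.coe_insert, Finset.coe_singleton, Set.mem_insert_iff,
      Set.mem_singleton_iff] at hy
    rcases hy with rfl | rfl | rfl | rfl | rfl
    · exact one_mem E
    · exact hzE
    · exact heE
    · exact hφE _ heE
    · exact hφE _ (hφE _ heE)
  have h5 : 5 ≤ Nat.card E := by
    have := Set.ncard_le_ncard hTE (Set.toFinite _)
    rw [Set.ncard_coe_finset, hTcard] at this
    rwa [← Nat.card_coe_set_eq] at this
  have hEdvd : Nat.card E ∣ 8 := by
    rw [← hQ]
    exact Subgroup.card_dvd_of_le inf_le_right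
  have hE8 : Nat.card E = 8 := by
    have hle : Nat.card E ≤ 8 := Nat.le_of_dvd (by norm_num) hEdvd
    interval_cases h : Nat.card E <;> first | rfl | (exfalso; revert hEdvd; decide)
  have hEQ : E = Q := Subgroup.eq_of_le_of_card_ge inf_le_right (by rw [hE8, hQ])
  have hQle : Q ≤ commutator X := by rw [← hEQ]; exact inf_le_left
  -- the index of the commutator subgroup
  have hQidx : Q.index = 3 := by
    have := Q.card_mul_index
    rw [hQ, hX] at this
    omega
  have hc1 : (commutator X).index = 1 ∨ (commutator X).index = 3 := by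
    have := Subgroup.index_dvd_of_le hQle
    rw [hQidx] at this
    exact (Nat.dvd_prime Nat.prime_three).mp this
  -- counting characters
  let _ := Fintype.ofFinite X
  let _ := fintypeIrr X
  have hsum := Cfsg.Agent.Lib.Helper24.sum_charDegree_sq (G := X)
  have hcardX : Fintype.card X = 24 := by rw [← Nat.card_eq_fintype_card]; exact hX
  have hK : ∀ χ : IrrCharacter X, charDegree (χ : X → ℂ) ∈ ({1, 2, 3, 4} : Finset ℕ) := by
    intro χ
    have hpos := Cfsg.Agent.Lib.Helper24.irr_charDegree_pos χ
    have hle : charDegree (χ : X → ℂ) ^ 2 ≤ 24 := by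
      rw [← hcardX, ← hsum]
      exact Finset.single_le_sum (f := fun χ : IrrCharacter X => charDegree (χ : X → ℂ) ^ 2)
        (fun _ _ => Nat.zero_le _) (Finset.mem_univ χ)
    have : charDegree (χ : X → ℂ) ≤ 4 := by nlinarith
    simp only [Finset.mem_insert, Finset.mem_singleton]
    omega
  have hcount := sum_by_degree ({1, 2, 3, 4} : Finset ℕ) hK (fun k => if 2 ∣ k then 0 else 1)
  have hsq := sum_by_degree ({1, 2, 3, 4} : Finset ℕ) hK (fun k => k ^ 2)
  rw [hsum, hcardX] at hsq
  rw [← irrNot_eq_sum] at hcount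
  have n1 : (1 : ℕ) ∉ ({2, 3, 4} : Finset ℕ) := by decide
  have n2 : (2 : ℕ) ∉ ({3, 4} : Finset ℕ) := by decide
  have n3 : (3 : ℕ) ∉ ({4} : Finset ℕ) := by decide
  rw [Finset.sum_insert n1, Finset.sum_insert n2, Finset.sum_insert n3,
    Finset.sum_singleton] at hcount hsq
  rw [card_charDegree_eq_one] at hcount hsq
  norm_num at hcount hsq
  rcases hc1 with h | h <;> rw [h] at hcount hsq <;> omega

end Cfsg.Agent.Lib.Helper13
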