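/-
helper13: the Borel subgroup of `SL₂(F)`, `q` odd, has `q + 3` conjugacy classes.
-/
import Mathlib
import Cfsg.Agent.Lib.Helper13.PSSL
import Cfsg.Agent.Lib.Helper13.SL2TorusClasses

set_option autoImplicit false

namespace Cfsg.Agent.Lib.Helper13

open Matrix

variable {F : Type*} [Field F]

/-- `δ(a) = a - a⁻¹`. -/
def unitDelta (a : Fˣ) : F := (a : F) - ((a⁻¹ : Fˣ) : F)

theorem commute_slEquiv_symm_iff (p p' : Fˣ × F) :
    Commute ((slEquiv F).symm p) ((slEquiv F).symm p') ↔
      p'.2 * unitDelta p.1 = p.2 * unitDelta p'.1 := by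
  obtain ⟨a, e⟩ := p
  obtain ⟨a', e'⟩ := p'
  have hmul : ∀ (a a' : Fˣ) (e e' : F),
      ((((slEquiv F).symm (a, e) * (slEquiv F).symm (a', e') : ↥(borelSL F)) :
        SpecialLinearGroup (Fin 2) F) : Matrix (Fin 2) (Fin 2) F) =
      !![(a : F) * a', a * e' + e * ((a'⁻¹ : Fˣ) : F); 0,
        ((a⁻¹ : Fˣ) : F) * ((a'⁻¹ : Fˣ) : F)] := by
    intro a a' e e'
    change (!![(a : F), e; 0, ((a⁻¹ : Fˣ) : F)] : Matrix (Fin 2) (Fin 2) F) *
      !![(a' : F), e'; 0, ((a'⁻¹ : Fˣ) : F)] = _
    ext i j
    fin_cases i <;> fin_cases j <;> simp [Matrix.mul_apply, Fin.sum_univ_two]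
  unfold unitDelta
  constructor
  · intro h
    have h1 := congrArg (fun b : ↥(borelSL F) =>
      ((b : SpecialLinearGroup (Fin 2) F) : Matrix (Fin 2) (Fin 2) F) 0 1) h.eq
    simp only [hmul] at h1
    have h2 : (a : F) * e' + e * ((a'⁻¹ : Fˣ) : F) = (a' : F) * e + e' * ((a⁻¹ : Fˣ) : F) := by
      simpa using h1
    show e' * ((a : F) - ((a⁻¹ : Fˣ) : F)) = e * ((a' : F) - ((a'⁻¹ : Fˣ) : F))
    linear_combination h2
  · intro h
    have h' : e' * ((a : F) - ((a⁻¹ : Fˣ) : F)) = e * ((a' : F) - ((a'⁻¹ : Fˣ) : F)) := h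
    apply Subtype.ext
    apply Subtype.ext
    rw [hmul, hmul]
    ext i j
    fin_cases i <;> fin_cases j
    · simp [mul_comm]
    · simp only [Fin.zero_eta, Fin.mk_one, of_apply, cons_val', cons_val_one, cons_val_fin_one,
        cons_val_zero]
      linear_combination h'
    · simp
    · simp [mul_comm]

section count

variable [Fintype F] [DecidableEq F]

/-- Number of solutions `(e, e')` of `e' x = e y`. -/
theorem sum_linear_solutions (x y : F) :
    ∑ e : F, ∑ e' : F, (if e' * x = e * y then 1 else 0 : ℕ) =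
      if x = 0 ∧ y = 0 then Fintype.card F * Fintype.card F else Fintype.card F := by
  by_cases hx : x = 0
  · by_cases hy : y = 0
    · rw [if_pos ⟨hx, hy⟩]
      subst hx; subst hy
      simp
    · rw [if_neg (fun h => hy h.2)]
      subst hx
      have : ∀ e : F, ∑ e' : F, (if e' * 0 = e * y then 1 else 0 : ℕ) =
          if e = 0 then Fintype.card F else 0 := by
        intro e
        by_cases he : e = 0
        · subst he; simp
        · rw [if_neg he]
          apply Finset.sum_eq_zero
          intro e' _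
          rw [if_neg]
          rw [mul_zero]
          intro h
          exact (mul_ne_zero he hy) h.symm
      rw [Finset.sum_congr rfl (fun e _ => this e)]
      simp
  · rw [if_neg (fun h => hx h.1)]
    have : ∀ e : F, ∑ e' : F, (if e' * x = e * y then 1 else 0 : ℕ) = 1 := by
      intro e
      have h1 : ∀ e' : F, (e' * x = e * y) ↔ e' = e * y / x := by
        intro e'
        rw [eq_div_iff hx]
      simp only [h1]
      simp
    rw [Finset.sum_congr rfl (fun e _ => this e)]
    simp

omit [Fintype F] [DecidableEq F] in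
theorem unitDelta_eq_zero_iff (a : Fˣ) : unitDelta a = 0 ↔ a = 1 ∨ a = -1 := by
  unfold unitDelta
  constructor
  · intro h
    have h1 : (a : F) * ((a⁻¹ : Fˣ) : F) = 1 := by
      rw [← Units.val_mul, mul_inv_cancel, Units.val_one]
    have h3 : ((a : F) - 1) * ((a : F) + 1) = 0 := by
      have : ((a⁻¹ : Fˣ) : F) = a := by linear_combination -h
      rw [this] at h1
      linear_combination h1
    rcases mul_eq_zero.mp h3 with h4 | h4
    · left
      apply Units.ext
      rw [Units.val_one]
      linear_combination h4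
    · right
      apply Units.ext
      rw [Units.val_neg, Units.val_one]
      linear_combination h4
  · rintro (rfl | rfl)
    · simp
    · simp

theorem sum_unitDelta_zero (h2 : (2 : F) ≠ 0) :
    ∑ a : Fˣ, (if unitDelta a = 0 then 1 else 0 : ℕ) = 2 := by
  have hne : (1 : Fˣ) ≠ -1 := by
    intro h
    have := congrArg Units.val h
    rw [Units.val_neg, Units.val_one] at this
    apply h2
    linear_combination this
  simp only [unitDelta_eq_zero_iff]
  rw [Finset.sum_ite, Finset.sum_const_zero, add_zero, Finset.sum_const, smul_eq_mul, mul_one]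
  have : (Finset.univ.filter (fun a : Fˣ => a = 1 ∨ a = -1)) = {1, -1} := by
    ext a
    simp
  rw [this, Finset.card_pair hne]

end count

section main

variable [Fintype F]

theorem card_commuting_pairs_borelSL (h2 : (2 : F) ≠ 0) :
    Nat.card {bb : ↥(borelSL F) × ↥(borelSL F) // Commute bb.1 bb.2} =
      Fintype.card F * (Fintype.card F - 1) * (Fintype.card F + 3) := by
  classical
  let e2 : (Fˣ × F) × (Fˣ × F) ≃ ↥(borelSL F) × ↥(borelSL F) :=
    Equiv.prodCongr (slEquiv F).symm (slEquiv F).symm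
  have h1 : Nat.card {bb : ↥(borelSL F) × ↥(borelSL F) // Commute bb.1 bb.2} =
      Nat.card {pp : (Fˣ × F) × (Fˣ × F) //
        pp.2.2 * unitDelta pp.1.1 = pp.1.2 * unitDelta pp.2.1} := by
    symm
    apply Nat.card_congr
    exact Equiv.subtypeEquiv e2 (fun pp => (commute_slEquiv_symm_iff pp.1 pp.2).symm)
  rw [h1, Nat.card_eq_fintype_card, Fintype.card_subtype, Finset.card_filter]
  simp only [Fintype.sum_prod_type]
  have hswap : ∀ a : Fˣ, ∑ e : F, ∑ a' : Fˣ, ∑ e' : F,
      (if e' * unitDelta a = e * unitDelta a' then 1 else 0 : ℕ) =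
      ∑ a' : Fˣ, ∑ e : F, ∑ e' : F,
        (if e' * unitDelta a = e * unitDelta a' then 1 else 0 : ℕ) := fun a => Finset.sum_comm
  simp only [hswap, sum_linear_solutions]
  set q := Fintype.card F with hq
  have hq1 : 1 ≤ q := Fintype.card_pos
  have hterm : ∀ a a' : Fˣ, (if unitDelta a = 0 ∧ unitDelta a' = 0 then q * q else q) =
      q + (if unitDelta a = 0 then 1 else 0) * (if unitDelta a' = 0 then 1 else 0) *
        (q * (q - 1)) := by
    intro a a'
    by_cases ha : unitDelta a = 0 <;> by_cases ha' : unitDelta a' = 0 <;> simp [ha, ha']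
    obtain ⟨r, hr⟩ : ∃ r, q = r + 1 := ⟨q - 1, by omega⟩
    rw [hr, Nat.add_sub_cancel]
    ring
  simp only [hterm]
  simp only [Finset.sum_add_distrib, Finset.sum_const, Finset.card_univ, Fintype.card_units,
    smul_eq_mul]
  simp only [← Finset.mul_sum, ← Finset.sum_mul, sum_unitDelta_zero h2]
  obtain ⟨r, hr⟩ : ∃ r, q = r + 1 := ⟨q - 1, by omega⟩
  rw [← hq, hr, Nat.add_sub_cancel]
  ring

/-- The Borel subgroup of `SL₂(F)`, `q` odd, has `q + 3` conjugacy classes. -/
theorem card_conjClasses_borelSL (h2 : (2 : F) ≠ 0) :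
    Nat.card (ConjClasses ↥(borelSL F)) = Fintype.card F + 3 := by
  have h1 := card_comm_eq_card_conjClasses_mul_card ↥(borelSL F)
  rw [card_commuting_pairs_borelSL h2] at h1
  have hB : Nat.card ↥(borelSL F) = Fintype.card F * (Fintype.card F - 1) := by
    rw [Nat.card_congr (slEquiv F), Nat.card_prod, Nat.card_units, Nat.card_eq_fintype_card,
      mul_comm]
  rw [hB] at h1
  have hq : 2 ≤ Fintype.card F := Fintype.one_lt_card
  have hpos : 0 < Fintype.card F * (Fintype.card F - 1) :=
    Nat.mul_pos (by omega) (by omega)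
  have : (Fintype.card F * (Fintype.card F - 1)) * (Fintype.card F + 3) =
      (Fintype.card F * (Fintype.card F - 1)) * Nat.card (ConjClasses ↥(borelSL F)) := by
    rw [h1]; ring
  exact (Nat.eq_of_mul_eq_mul_left hpos this).symm

end main

end Cfsg.Agent.Lib.Helper13
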