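/-
helper13: McKay counts for `SL₂(F)`, `q` odd: the number of irreducible characters of degree prime
to `ℓ`, for the group and for Sylow normalizers.
-/
import Mathlib
import Cfsg.Agent.Lib.Helper13.McKayTwo
import Cfsg.Agent.Lib.Helper13.SL2BorelClasses
import Cfsg.Agent.Lib.Helper13.SL2SylowOdd
import Cfsg.Agent.Lib.Helper13.SL2SylowTwoNorm2
import Cfsg.Agent.Lib.Helper13.SL2Redundant
import Cfsg.Agent.S2431
import Cfsg.Agent.S2299

set_option autoImplicit false

namespace Cfsg.Agent.Lib.Helper13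

open Matrix Cfsg Cfsg.Agent.CharLib Cfsg.Agent.Lib.Helper6

variable {F : Type*} [Field F] [Fintype F]

section census

/-- Every irreducible degree of `SL₂(F)`, `q = 2 r + 1`, is one of six numbers. -/
theorem charDegree_mem_six (r : ℕ) (hr : Fintype.card F = 2 * r + 1)
    (χ : IrrCharacter (SpecialLinearGroup (Fin 2) F)) :
    charDegree (χ : SpecialLinearGroup (Fin 2) F → ℂ) ∈
      ({1, 2 * r + 1, 2 * r + 2, 2 * r, r + 1, r} : Finset ℕ) := by
  classical
  have hodd : Odd (Fintype.card F) := ⟨r, hr⟩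
  obtain ⟨X, d, hX, hc, hd, htype⟩ := under_types hodd χ.2
  have hdd : charDegree (χ : SpecialLinearGroup (Fin 2) F → ℂ) = d := by
    have := Cfsg.Agent.Lib.Helper24.irr_apply_one χ
    rw [hd] at this
    exact_mod_cast this.symm
  rw [hdd]
  simp only [Finset.mem_insert, Finset.mem_singleton]
  rcases htype with ⟨-, h⟩ | ⟨-, h⟩ | ⟨-, h | h⟩ | ⟨-, h | h⟩ <;> omega

/-- The McKay count of `SL₂(F)`, `q = 2 r + 1 ≥ 5`, by degrees. -/
theorem irrNot_SL2_odd (r : ℕ) (hr : Fintype.card F = 2 * r + 1) (hr2 : 2 ≤ r) (ℓ : ℕ) :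
    irrNot ℓ (SpecialLinearGroup (Fin 2) F) =
      (if ℓ ∣ 1 then 0 else 1) + (if ℓ ∣ 2 * r + 1 then 0 else 1) +
        (if ℓ ∣ 2 * r + 2 then 0 else 1) * (r - 1) + (if ℓ ∣ 2 * r then 0 else 1) * r +
        (if ℓ ∣ r + 1 then 0 else 1) * 2 + (if ℓ ∣ r then 0 else 1) * 2 := by
  classical
  let _ := fintypeIrr (SpecialLinearGroup (Fin 2) F)
  obtain ⟨c1, c2, c3, c4, c5, c6⟩ := card_by_degree_SL2_odd (F := F) r hr hr2
  have hcount := sum_by_degree ({1, 2 * r + 1, 2 * r + 2, 2 * r, r + 1, r} : Finset ℕ)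
    (charDegree_mem_six r hr) (fun k => if ℓ ∣ k then 0 else 1)
  rw [← irrNot_eq_sum] at hcount
  have hn1 : (1 : ℕ) ∉ ({2 * r + 1, 2 * r + 2, 2 * r, r + 1, r} : Finset ℕ) := by
    simp only [Finset.mem_insert, Finset.mem_singleton]; omega
  have hn2 : (2 * r + 1 : ℕ) ∉ ({2 * r + 2, 2 * r, r + 1, r} : Finset ℕ) := by
    simp only [Finset.mem_insert, Finset.mem_singleton]; omega
  have hn3 : (2 * r + 2 : ℕ) ∉ ({2 * r, r + 1, r} : Finset ℕ) := by
    simp only [Finset.mem_insert, Finset.mem_singleton]; omega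
  have hn4 : (2 * r : ℕ) ∉ ({r + 1, r} : Finset ℕ) := by
    simp only [Finset.mem_insert, Finset.mem_singleton]; omega
  have hn5 : (r + 1 : ℕ) ∉ ({r} : Finset ℕ) := by
    simp only [Finset.mem_singleton]; omega
  rw [Finset.sum_insert hn1, Finset.sum_insert hn2, Finset.sum_insert hn3, Finset.sum_insert hn4,
    Finset.sum_insert hn5, Finset.sum_singleton] at hcount
  have c3' : Nat.card {χ : IrrCharacter (SpecialLinearGroup (Fin 2) F) //
      charDegree (χ : SpecialLinearGroup (Fin 2) F → ℂ) = 2 * r + 2} = r - 1 := by omega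
  rw [hcount, c1, c2, c3', c4, c5, c6]
  ring

theorem false_of_dvd_succ {ℓ a b : ℕ} (hℓ : ℓ.Prime) (ha : ℓ ∣ a) (hb : ℓ ∣ b) (hab : b = a + 1) :
    False := by
  rw [hab] at hb
  have := (Nat.dvd_add_right ha).mp hb
  exact hℓ.one_lt.ne' (Nat.dvd_one.mp this)

theorem false_of_dvd_add_two {ℓ a b : ℕ} (hℓ : ℓ.Prime) (h2 : ℓ ≠ 2) (ha : ℓ ∣ a) (hb : ℓ ∣ b)
    (hab : b = a + 2) : False := by
  rw [hab] at hb
  have := (Nat.dvd_add_right ha).mp hb
  exact h2 ((Nat.prime_dvd_prime_iff_eq hℓ Nat.prime_two).mp this)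

theorem dvd_of_dvd_two_mul {ℓ a : ℕ} (hℓ : ℓ.Prime) (h2 : ℓ ≠ 2) (ha : ℓ ∣ 2 * a) : ℓ ∣ a := by
  rcases (Nat.Prime.dvd_mul hℓ).mp ha with h | h
  · exact absurd ((Nat.prime_dvd_prime_iff_eq hℓ Nat.prime_two).mp h) h2
  · exact h

/-- `ℓ = p`. -/
theorem irrNot_SL2_odd_char (r : ℕ) (hr : Fintype.card F = 2 * r + 1) (hr2 : 2 ≤ r) (ℓ : ℕ)
    (hℓ : ℓ.Prime) (hd : ℓ ∣ 2 * r + 1) :
    irrNot ℓ (SpecialLinearGroup (Fin 2) F) = 2 * r + 4 := by
  have n1 : ¬ ℓ ∣ 1 := fun h => hℓ.one_lt.ne' (Nat.dvd_one.mp h)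
  have n3 : ¬ ℓ ∣ 2 * r + 2 := fun h => false_of_dvd_succ hℓ hd h rfl
  have n4 : ¬ ℓ ∣ 2 * r := fun h => false_of_dvd_succ hℓ h hd rfl
  have n5 : ¬ ℓ ∣ r + 1 := fun h => n3 (by
    have : 2 * r + 2 = 2 * (r + 1) := by ring
    rw [this]; exact Dvd.dvd.mul_left h 2)
  have n6 : ¬ ℓ ∣ r := fun h => n4 (Dvd.dvd.mul_left h 2)
  rw [irrNot_SL2_odd r hr hr2 ℓ, if_neg n1, if_pos hd, if_neg n3, if_neg n4, if_neg n5, if_neg n6]
  omega

/-- `ℓ = 2`. -/
theorem irrNot_SL2_odd_two (r : ℕ) (hr : Fintype.card F = 2 * r + 1) (hr2 : 2 ≤ r) :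
    irrNot 2 (SpecialLinearGroup (Fin 2) F) = 4 := by
  rw [irrNot_SL2_odd r hr hr2 2]
  have n1 : ¬ 2 ∣ 1 := by omega
  have n2 : ¬ 2 ∣ 2 * r + 1 := by omega
  have p3 : 2 ∣ 2 * r + 2 := by omega
  have p4 : 2 ∣ 2 * r := by omega
  rw [if_neg n1, if_neg n2, if_pos p3, if_pos p4]
  rcases Nat.even_or_odd r with h | h
  · have p6 : 2 ∣ r := h.two_dvd
    have n5 : ¬ 2 ∣ r + 1 := by omega
    rw [if_neg n5, if_pos p6]
    omega
  · have n6 : ¬ 2 ∣ r := by
      obtain ⟨k, hk⟩ := h
      omega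
    have p5 : 2 ∣ r + 1 := by
      obtain ⟨k, hk⟩ := h
      omega
    rw [if_pos p5, if_neg n6]
    omega

/-- `ℓ` odd dividing `q - 1`. -/
theorem irrNot_SL2_odd_minus (r : ℕ) (hr : Fintype.card F = 2 * r + 1) (hr2 : 2 ≤ r) (ℓ : ℕ)
    (hℓ : ℓ.Prime) (h2 : ℓ ≠ 2) (hd : ℓ ∣ 2 * r) :
    irrNot ℓ (SpecialLinearGroup (Fin 2) F) = r + 3 := by
  have p6 : ℓ ∣ r := dvd_of_dvd_two_mul hℓ h2 hd
  have n1 : ¬ ℓ ∣ 1 := fun h => hℓ.one_lt.ne' (Nat.dvd_one.mp h)
  have n2 : ¬ ℓ ∣ 2 * r + 1 := fun h => false_of_dvd_succ hℓ hd h rfl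
  have n3 : ¬ ℓ ∣ 2 * r + 2 := fun h => false_of_dvd_add_two hℓ h2 hd h rfl
  have n5 : ¬ ℓ ∣ r + 1 := fun h => false_of_dvd_succ hℓ p6 h rfl
  rw [irrNot_SL2_odd r hr hr2 ℓ, if_neg n1, if_neg n2, if_neg n3, if_pos hd, if_neg n5, if_pos p6]
  omega

/-- `ℓ` odd dividing `q + 1`. -/
theorem irrNot_SL2_odd_plus (r : ℕ) (hr : Fintype.card F = 2 * r + 1) (hr2 : 2 ≤ r) (ℓ : ℕ)
    (hℓ : ℓ.Prime) (h2 : ℓ ≠ 2) (hd : ℓ ∣ 2 * r + 2) :
    irrNot ℓ (SpecialLinearGroup (Fin 2) F) = r + 4 := by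
  have p5 : ℓ ∣ r + 1 := dvd_of_dvd_two_mul hℓ h2 (by
    have : 2 * (r + 1) = 2 * r + 2 := by ring
    rw [this]; exact hd)
  have n1 : ¬ ℓ ∣ 1 := fun h => hℓ.one_lt.ne' (Nat.dvd_one.mp h)
  have n2 : ¬ ℓ ∣ 2 * r + 1 := fun h => false_of_dvd_succ hℓ h hd rfl
  have n4 : ¬ ℓ ∣ 2 * r := fun h => false_of_dvd_add_two hℓ h2 h hd rfl
  have n6 : ¬ ℓ ∣ r := fun h => false_of_dvd_succ hℓ h p5 rfl
  rw [irrNot_SL2_odd r hr hr2 ℓ, if_neg n1, if_neg n2, if_pos hd, if_neg n4, if_pos p5, if_neg n6]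
  omega

end census

section oddl

/-- The McKay count of the normalizer of a torus, at a prime not dividing `2`. -/
theorem irrNot_normalizer_torus (h2 : (2 : F) ≠ 0) (g : SpecialLinearGroup (Fin 2) F)
    (hg : (g : Matrix (Fin 2) (Fin 2) F).trace ^ 2 ≠ 4) (hne : g ≠ g⁻¹) (ℓ : ℕ)
    (hℓ : ¬ ℓ ∣ 2) :
    2 * irrNot ℓ ↥(Subgroup.normalizer
      ((Subgroup.centralizer ({g} : Set (SpecialLinearGroup (Fin 2) F)) :
      Subgroup (SpecialLinearGroup (Fin 2) F)) : Set (SpecialLinearGroup (Fin 2) F))) =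
      Nat.card (Subgroup.centralizer ({g} : Set (SpecialLinearGroup (Fin 2) F))) + 6 := by
  classical
  have hTN : Subgroup.centralizer ({g} : Set (SpecialLinearGroup (Fin 2) F)) ≤
      Subgroup.normalizer ((Subgroup.centralizer ({g} : Set (SpecialLinearGroup (Fin 2) F)) :
      Subgroup (SpecialLinearGroup (Fin 2) F)) : Set (SpecialLinearGroup (Fin 2) F)) :=
    Subgroup.le_normalizer
  have hnorm : ((Subgroup.centralizer ({g} : Set (SpecialLinearGroup (Fin 2) F))).subgroupOf
      (Subgroup.normalizer ((Subgroup.centralizer ({g} : Set (SpecialLinearGroup (Fin 2) F)) :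
      Subgroup (SpecialLinearGroup (Fin 2) F)) : Set (SpecialLinearGroup (Fin 2) F)))).Normal :=
    Subgroup.normal_in_normalizer
  have hcc := centralizer_centralizer_eq g hg
  have hab : ∀ a ∈ (Subgroup.centralizer ({g} : Set (SpecialLinearGroup (Fin 2) F))).subgroupOf
      (Subgroup.normalizer ((Subgroup.centralizer ({g} : Set (SpecialLinearGroup (Fin 2) F)) :
      Subgroup (SpecialLinearGroup (Fin 2) F)) : Set (SpecialLinearGroup (Fin 2) F))),
      ∀ b ∈ (Subgroup.centralizer ({g} : Set (SpecialLinearGroup (Fin 2) F))).subgroupOf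
      (Subgroup.normalizer ((Subgroup.centralizer ({g} : Set (SpecialLinearGroup (Fin 2) F)) :
      Subgroup (SpecialLinearGroup (Fin 2) F)) : Set (SpecialLinearGroup (Fin 2) F))),
      a * b = b * a := by
    intro a ha b hb
    rw [Subgroup.mem_subgroupOf] at ha hb
    have ha' : (a : SpecialLinearGroup (Fin 2) F) ∈ Subgroup.centralizer
        ((Subgroup.centralizer ({g} : Set (SpecialLinearGroup (Fin 2) F)) :
        Subgroup (SpecialLinearGroup (Fin 2) F)) : Set (SpecialLinearGroup (Fin 2) F)) :=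
      hcc.symm ▸ ha
    rw [Subgroup.mem_centralizer_iff] at ha'
    apply Subtype.ext
    exact (ha' _ hb).symm
  have hidx : ((Subgroup.centralizer ({g} : Set (SpecialLinearGroup (Fin 2) F))).subgroupOf
      (Subgroup.normalizer ((Subgroup.centralizer ({g} : Set (SpecialLinearGroup (Fin 2) F)) :
      Subgroup (SpecialLinearGroup (Fin 2) F)) : Set (SpecialLinearGroup (Fin 2) F)))).index = 2 := by
    have h1 := ((Subgroup.centralizer ({g} : Set (SpecialLinearGroup (Fin 2) F))).subgroupOf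
      (Subgroup.normalizer ((Subgroup.centralizer ({g} : Set (SpecialLinearGroup (Fin 2) F)) :
      Subgroup (SpecialLinearGroup (Fin 2) F)) : Set (SpecialLinearGroup (Fin 2) F)))).card_mul_index
    rw [Nat.card_congr (Subgroup.subgroupOfEquivOfLe hTN).toEquiv,
      card_normalizer_centralizer g hg hne] at h1
    have hpos : 0 < Nat.card (Subgroup.centralizer ({g} : Set (SpecialLinearGroup (Fin 2) F))) :=
      Nat.card_pos
    have : Nat.card (Subgroup.centralizer ({g} : Set (SpecialLinearGroup (Fin 2) F))) *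
        ((Subgroup.centralizer ({g} : Set (SpecialLinearGroup (Fin 2) F))).subgroupOf
      (Subgroup.normalizer ((Subgroup.centralizer ({g} : Set (SpecialLinearGroup (Fin 2) F)) :
      Subgroup (SpecialLinearGroup (Fin 2) F)) : Set (SpecialLinearGroup (Fin 2) F)))).index =
        Nat.card (Subgroup.centralizer ({g} : Set (SpecialLinearGroup (Fin 2) F))) * 2 := by
      rw [h1]; ring
    exact Nat.eq_of_mul_eq_mul_left hpos this
  rw [irrNot_of_abelian_normal ℓ _ hab (by rw [hidx]; exact hℓ)]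
  exact two_mul_card_conjClasses_normalizer_torus h2 g hg hne

/-- `N(P)` for `ℓ` odd, `ℓ ∤ q`. -/
theorem irrNot_normalizer_sylow_odd (hodd : Odd (Fintype.card F)) (ℓ : ℕ) [Fact ℓ.Prime]
    (hℓ : ℓ ≠ 2) (hdvd : ℓ ∣ Fintype.card F - 1 ∨ ℓ ∣ Fintype.card F + 1)
    (P : Sylow ℓ (SpecialLinearGroup (Fin 2) F)) :
    ∃ c : ℕ, (c = Fintype.card F - 1 ∨ c = Fintype.card F + 1) ∧ ℓ ∣ c ∧
      2 * irrNot ℓ ↥(Subgroup.normalizer ((P : Subgroup (SpecialLinearGroup (Fin 2) F)) :
        Set (SpecialLinearGroup (Fin 2) F))) = c + 6 := by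
  classical
  have h2 := two_ne_zero_of_odd_card hodd
  have hℓp : ℓ.Prime := Fact.out
  obtain ⟨g, hP, hg, hne, hℓg⟩ := exists_gen_sylow_odd ℓ hℓ hdvd P
  have hNP : Subgroup.normalizer ((P : Subgroup (SpecialLinearGroup (Fin 2) F)) :
      Set (SpecialLinearGroup (Fin 2) F)) =
      Subgroup.normalizer ((Subgroup.centralizer ({g} : Set (SpecialLinearGroup (Fin 2) F)) :
      Subgroup (SpecialLinearGroup (Fin 2) F)) : Set (SpecialLinearGroup (Fin 2) F)) := by
    ext h
    rw [hP, mem_normalizer_zpowers_iff' g hg, mem_normalizer_centralizer_iff g hg]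
  refine ⟨Nat.card (Subgroup.centralizer ({g} : Set (SpecialLinearGroup (Fin 2) F))),
    card_centralizer_cases g hg, ?_, ?_⟩
  · exact hℓg.trans (Subgroup.orderOf_dvd_natCard _ (self_mem_centralizer g))
  · rw [irrNot_subgroup_eq ℓ hNP]
    apply irrNot_normalizer_torus h2 g hg hne ℓ
    intro h
    exact hℓ ((Nat.prime_dvd_prime_iff_eq hℓp Nat.prime_two).mp h)

end oddl

section charp

omit [Fintype F] in
/-- The normalizer of the upper unitriangular group is the Borel subgroup. -/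
theorem normalizer_range_tSLHom :
    Subgroup.normalizer (((tSLHom (K := F)).range : Subgroup (SpecialLinearGroup (Fin 2) F)) :
      Set (SpecialLinearGroup (Fin 2) F)) = borelSL F := by
  ext k
  rw [mem_borelSL]
  constructor
  · intro hk
    apply upper_of_conj_tSL_mem k 1 one_ne_zero
    exact (Subgroup.mem_normalizer_iff.mp hk _).mp ⟨Multiplicative.ofAdd 1, rfl⟩
  · exact mem_normalizer_range_tSLHom_of_upper k

/-- The McKay count of the Borel subgroup at the characteristic. -/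
theorem irrNot_borelSL (hodd : Odd (Fintype.card F)) (p : ℕ) [Fact p.Prime] [CharP F p] :
    irrNot p ↥(borelSL F) = Fintype.card F + 3 := by
  classical
  have h2 := two_ne_zero_of_odd_card hodd
  have hpp : p.Prime := Fact.out
  have hUB : (tSLHom (K := F)).range ≤ borelSL F := by
    rw [← normalizer_range_tSLHom]; exact Subgroup.le_normalizer
  have hnorm : ((tSLHom (K := F)).range.subgroupOf (borelSL F)).Normal := by
    rw [Subgroup.normal_subgroupOf_iff_le_normalizer hUB, normalizer_range_tSLHom]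
  have hab : ∀ a ∈ (tSLHom (K := F)).range.subgroupOf (borelSL F),
      ∀ b ∈ (tSLHom (K := F)).range.subgroupOf (borelSL F), a * b = b * a := by
    intro a ha b hb
    rw [Subgroup.mem_subgroupOf] at ha hb
    apply Subtype.ext
    exact comm_of_mem_range_tSLHom ha hb
  have hq : 2 ≤ Fintype.card F := Fintype.one_lt_card
  have hidx : ((tSLHom (K := F)).range.subgroupOf (borelSL F)).index = Fintype.card F - 1 := by
    have h1 := ((tSLHom (K := F)).range.subgroupOf (borelSL F)).card_mul_index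
    have hB : Nat.card ↥(borelSL F) = Fintype.card F * (Fintype.card F - 1) := by
      rw [Nat.card_congr (slEquiv F), Nat.card_prod, Nat.card_units, Nat.card_eq_fintype_card,
        mul_comm]
    rw [Nat.card_congr (Subgroup.subgroupOfEquivOfLe hUB).toEquiv, card_range_tSLHom,
      Nat.card_eq_fintype_card, hB] at h1
    exact Nat.eq_of_mul_eq_mul_left (by omega) h1
  have hpq : p ∣ Fintype.card F := by
    obtain ⟨n, -, hn⟩ := FiniteField.card F p
    rw [hn]
    exact dvd_pow_self p n.ne_zero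
  have hnd : ¬ p ∣ ((tSLHom (K := F)).range.subgroupOf (borelSL F)).index := by
    rw [hidx]
    intro h
    have h1 : p ∣ 1 := by
      have := Nat.dvd_sub hpq h
      rwa [show Fintype.card F - (Fintype.card F - 1) = 1 by omega] at this
    exact hpp.one_lt.ne' (Nat.dvd_one.mp h1)
  rw [irrNot_of_abelian_normal p _ hab hnd]
  exact card_conjClasses_borelSL h2

/-- The McKay count of the normalizer of a Sylow `p`-subgroup, `p` the characteristic. -/
theorem irrNot_normalizer_sylow_char (hodd : Odd (Fintype.card F)) (p : ℕ) [Fact p.Prime]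
    [CharP F p] (S : Sylow p (SpecialLinearGroup (Fin 2) F)) :
    irrNot p ↥(Subgroup.normalizer ((S : Subgroup (SpecialLinearGroup (Fin 2) F)) :
      Set (SpecialLinearGroup (Fin 2) F))) = Fintype.card F + 3 := by
  obtain ⟨U, hU⟩ := exists_sylow_eq_range_tSLHom (K := F) p
  obtain ⟨g, hg⟩ := sylow_conj_exists U S
  have h1 : Subgroup.normalizer ((S : Subgroup (SpecialLinearGroup (Fin 2) F)) :
      Set (SpecialLinearGroup (Fin 2) F)) =
      Subgroup.normalizer ((((tSLHom (K := F)).range).map (MulAut.conj g).toMonoidHom :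
        Subgroup (SpecialLinearGroup (Fin 2) F)) : Set (SpecialLinearGroup (Fin 2) F)) := by
    rw [hg, hU]
  rw [irrNot_subgroup_eq p h1, irrNot_normalizer_conj,
    irrNot_subgroup_eq p normalizer_range_tSLHom]
  exact irrNot_borelSL hodd p

end charp

section two

/-- The McKay count of a self-normalizing Sylow `2`-subgroup, `q ≡ ±1 (mod 8)`. -/
theorem irrNot_normalizer_sylow_two_of_one_seven (hodd : Odd (Fintype.card F))
    (hq : Fintype.card F % 8 = 1 ∨ Fintype.card F % 8 = 7)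
    (S : Sylow 2 (SpecialLinearGroup (Fin 2) F)) :
    irrNot 2 ↥(Subgroup.normalizer ((S : Subgroup (SpecialLinearGroup (Fin 2) F)) :
      Set (SpecialLinearGroup (Fin 2) F))) = 4 := by
  classical
  have : Fact (Nat.Prime 2) := ⟨Nat.prime_two⟩
  have h2 := two_ne_zero_of_odd_card hodd
  have hNS := (Cfsg.Agent.S2431.result hodd S).2.1 hq
  rw [irrNot_subgroup_eq 2 hNS]
  obtain ⟨a, ha0, hSN⟩ := exists_torus_normalizer_ge_sylow hodd S
  have hg := trace_zero_sq_ne_four h2 a ha0
  obtain ⟨k, hk⟩ := S.isPGroup'.exists_card_eq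
  rw [irrNot_two_of_card_two_pow k hk]
  obtain ⟨s, hsS, hsT⟩ := exists_mem_sylow_not_mem_torus h2 a ha0 S
  have hinv := inverts_of_mem_normalizer_not_mem a hg s (hSN hsS) hsT
  have hcycT := isCyclic_centralizer a hg
  have hcyc : IsCyclic ↥((Subgroup.centralizer ({a} : Set (SpecialLinearGroup (Fin 2) F))).subgroupOf
      (S : Subgroup (SpecialLinearGroup (Fin 2) F))) := by
    apply isCyclic_of_injective
      ((S : Subgroup (SpecialLinearGroup (Fin 2) F)).subtype.subgroupComap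
        (Subgroup.centralizer ({a} : Set (SpecialLinearGroup (Fin 2) F))))
    intro x y hxy
    have h1 := congrArg Subtype.val hxy
    exact Subtype.ext (Subtype.ext h1)
  have hidx : ((Subgroup.centralizer ({a} : Set (SpecialLinearGroup (Fin 2) F))).subgroupOf
      (S : Subgroup (SpecialLinearGroup (Fin 2) F))).index = 2 := by
    rw [Subgroup.index_eq_two_iff]
    refine ⟨⟨s, hsS⟩, ?_⟩
    intro b
    rw [Subgroup.mem_subgroupOf, Subgroup.mem_subgroupOf]
    by_cases hb : (b : SpecialLinearGroup (Fin 2) F) ∈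
        Subgroup.centralizer ({a} : Set (SpecialLinearGroup (Fin 2) F))
    · right
      refine ⟨hb, ?_⟩
      intro hbs
      apply hsT
      have : s = (b : SpecialLinearGroup (Fin 2) F)⁻¹ *
          ((b : SpecialLinearGroup (Fin 2) F) * s) := by group
      rw [this]
      exact mul_mem (inv_mem hb) hbs
    · left
      refine ⟨?_, hb⟩
      have hbinv := inverts_of_mem_normalizer_not_mem a hg b (hSN b.2) hb
      change (b : SpecialLinearGroup (Fin 2) F) * s ∈ _
      rw [mem_centralizer_singleton_iff']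
      calc (b : SpecialLinearGroup (Fin 2) F) * s * a * ((b : SpecialLinearGroup (Fin 2) F) * s)⁻¹
          = (b : SpecialLinearGroup (Fin 2) F) * (s * a * s⁻¹) *
            (b : SpecialLinearGroup (Fin 2) F)⁻¹ := by group
        _ = ((b : SpecialLinearGroup (Fin 2) F) * a * (b : SpecialLinearGroup (Fin 2) F)⁻¹)⁻¹ := by
          rw [hinv]; group
        _ = a := by rw [hbinv, inv_inv]
  have hzS := zSL_mem_sylow h2 a ha0 S hSN
  have h2dvd : 2 ∣ Nat.card ↥((Subgroup.centralizer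
      ({a} : Set (SpecialLinearGroup (Fin 2) F))).subgroupOf
      (S : Subgroup (SpecialLinearGroup (Fin 2) F))) := by
    have hord : orderOf (zSL F) = 2 :=
      orderOf_eq_prime (by rw [pow_two, zSL_mul_self]) (zSL_ne_one h2)
    have hmem : (⟨zSL F, hzS⟩ : ↥(S : Subgroup (SpecialLinearGroup (Fin 2) F))) ∈
        (Subgroup.centralizer ({a} : Set (SpecialLinearGroup (Fin 2) F))).subgroupOf
          (S : Subgroup (SpecialLinearGroup (Fin 2) F)) := by
      rw [Subgroup.mem_subgroupOf]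
      exact zSL_mem_centralizer a
    have := Subgroup.orderOf_dvd_natCard _ hmem
    rwa [← Subgroup.orderOf_coe, hord] at this
  apply index_commutator_of_inverting _ hidx h2dvd ⟨s, hsS⟩
  · rw [Subgroup.mem_subgroupOf]
    exact hsT
  · intro t ht
    rw [Subgroup.mem_subgroupOf] at ht
    apply Subtype.ext
    exact conj_eq_inv_of_mem_centralizer a hg s hinv t ht

/-- The McKay count of the normalizer of a Sylow `2`-subgroup, `q ≡ ±3 (mod 8)`. -/
theorem irrNot_normalizer_sylow_two_of_three_five (hodd : Odd (Fintype.card F))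
    (hq : Fintype.card F % 8 = 3 ∨ Fintype.card F % 8 = 5)
    (S : Sylow 2 (SpecialLinearGroup (Fin 2) F)) :
    irrNot 2 ↥(Subgroup.normalizer ((S : Subgroup (SpecialLinearGroup (Fin 2) F)) :
      Set (SpecialLinearGroup (Fin 2) F))) = 4 := by
  classical
  have h2 := two_ne_zero_of_odd_card hodd
  obtain ⟨a, ha0, hSN⟩ := exists_torus_normalizer_ge_sylow hodd S
  have hN24 := card_normalizer_sylow_two_of_three_five h2 a ha0 S hSN hq hodd
  have hS8 := card_sylow_two_SL2_of_three_five hq S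
  have hcent := centralizer_sylow_two_eq h2 a ha0 S hSN
  have hSleN : (S : Subgroup (SpecialLinearGroup (Fin 2) F)) ≤
      Subgroup.normalizer ((S : Subgroup (SpecialLinearGroup (Fin 2) F)) :
        Set (SpecialLinearGroup (Fin 2) F)) := Subgroup.le_normalizer
  have hzS := zSL_mem_sylow h2 a ha0 S hSN
  have hnorm : ((S : Subgroup (SpecialLinearGroup (Fin 2) F)).subgroupOf
      (Subgroup.normalizer ((S : Subgroup (SpecialLinearGroup (Fin 2) F)) :
        Set (SpecialLinearGroup (Fin 2) F)))).Normal := Subgroup.normal_in_normalizer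
  have hQ8 : Nat.card ↥((S : Subgroup (SpecialLinearGroup (Fin 2) F)).subgroupOf
      (Subgroup.normalizer ((S : Subgroup (SpecialLinearGroup (Fin 2) F)) :
        Set (SpecialLinearGroup (Fin 2) F)))) = 8 := by
    rw [Nat.card_congr (Subgroup.subgroupOfEquivOfLe hSleN).toEquiv]
    exact hS8
  apply irrNot_two_of_card_24 hN24 _ hQ8 ⟨zSL F, hSleN hzS⟩
  · intro x
    apply Subtype.ext
    exact Subgroup.mem_center_iff.mp zSL_mem_center x.1
  · apply Subtype.ext
    exact zSL_mul_self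
  · intro s hs hss
    rcases sq_eq_one_cases h2 s.1 (congrArg Subtype.val hss) with h | h
    · left; exact Subtype.ext h
    · right; exact Subtype.ext h
  · intro s hs
    rw [Subgroup.mem_subgroupOf] at hs
    rcases center_cases _ (mul_self_mem_center_of_mem_sylow h2 a ha0 S hSN hq s.1 hs) with h | h
    · left; exact Subtype.ext h
    · right; exact Subtype.ext h
  · intro x hx
    have hxc : (x : SpecialLinearGroup (Fin 2) F) ∈ Subgroup.centralizer
        ((S : Subgroup (SpecialLinearGroup (Fin 2) F)) : Set (SpecialLinearGroup (Fin 2) F)) := by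
      rw [Subgroup.mem_centralizer_iff]
      intro h hh
      have := hx ⟨h, hSleN hh⟩ (by rw [Subgroup.mem_subgroupOf]; exact hh)
      exact (congrArg Subtype.val this).symm
    rw [hcent] at hxc
    rcases center_cases _ hxc with h | h
    · left; exact Subtype.ext h
    · right; exact Subtype.ext h

end two

section three

/-- `SL₂(3)` has six irreducible characters of degree prime to `3`. -/
theorem irrNot_SL2_three (hq : Fintype.card F = 3) :
    irrNot 3 (SpecialLinearGroup (Fin 2) F) = 6 := by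
  classical
  let _ := fintypeIrr (SpecialLinearGroup (Fin 2) F)
  have hodd : Odd (Fintype.card F) := ⟨1, by omega⟩
  have hK : ∀ χ : IrrCharacter (SpecialLinearGroup (Fin 2) F),
      charDegree (χ : SpecialLinearGroup (Fin 2) F → ℂ) ∈ ({1, 2, 3, 4} : Finset ℕ) := by
    intro χ
    have := charDegree_mem_six 1 (by rw [hq]) χ
    simp only [Finset.mem_insert, Finset.mem_singleton] at this ⊢
    omega
  have hcount := sum_by_degree ({1, 2, 3, 4} : Finset ℕ) hK (fun _ => 1)
  have hsq := sum_by_degree ({1, 2, 3, 4} : Finset ℕ) hK (fun k => k ^ 2)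
  have hnot := sum_by_degree ({1, 2, 3, 4} : Finset ℕ) hK (fun k => if 3 ∣ k then 0 else 1)
  rw [← irrNot_eq_sum] at hnot
  have htot : Fintype.card (IrrCharacter (SpecialLinearGroup (Fin 2) F)) = 7 := by
    rw [← Nat.card_eq_fintype_card, card_irrCharacter, Cfsg.Agent.S2325.result hodd, hq]
  have hG : Fintype.card (SpecialLinearGroup (Fin 2) F) = 24 := by
    rw [← Nat.card_eq_fintype_card, card_SL2, hq]
    norm_num
  rw [Cfsg.Agent.Lib.Helper24.sum_charDegree_sq, hG] at hsq
  rw [Finset.sum_const, Finset.card_univ, htot, smul_eq_mul, mul_one] at hcount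
  have n1 : (1 : ℕ) ∉ ({2, 3, 4} : Finset ℕ) := by decide
  have n2 : (2 : ℕ) ∉ ({3, 4} : Finset ℕ) := by decide
  have n3 : (3 : ℕ) ∉ ({4} : Finset ℕ) := by decide
  rw [Finset.sum_insert n1, Finset.sum_insert n2, Finset.sum_insert n3,
    Finset.sum_singleton] at hcount hsq hnot
  norm_num at hcount hsq hnot
  omega

/-- In `SL₂(3)` the Sylow `2`-subgroup is normal. -/
theorem normalizer_sylow_two_eq_top_of_three (hq : Fintype.card F = 3)
    (S : Sylow 2 (SpecialLinearGroup (Fin 2) F)) :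
    Subgroup.normalizer ((S : Subgroup (SpecialLinearGroup (Fin 2) F)) :
      Set (SpecialLinearGroup (Fin 2) F)) = ⊤ := by
  have hodd : Odd (Fintype.card F) := ⟨1, by omega⟩
  have hq8 : Fintype.card F % 8 = 3 ∨ Fintype.card F % 8 = 5 := Or.inl (by rw [hq])
  have h3 := (Cfsg.Agent.S2431.result hodd S).2.2 hq8
  have h8 : Nat.card S = 8 := card_sylow_two_SL2_of_three_five hq8 S
  apply Subgroup.eq_top_of_card_eq
  rw [h3, h8, card_SL2, hq]
  norm_num

end three

section main

/-- McKay's equality for `SL₂(F)`, `q` odd, at every prime. -/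
theorem mckay_SL2_odd (hodd : Odd (Fintype.card F)) (ℓ : ℕ) [Fact ℓ.Prime]
    (S : Sylow ℓ (SpecialLinearGroup (Fin 2) F)) :
    irrNot ℓ (SpecialLinearGroup (Fin 2) F) =
      irrNot ℓ ↥(Subgroup.normalizer ((S : Subgroup (SpecialLinearGroup (Fin 2) F)) :
        Set (SpecialLinearGroup (Fin 2) F))) := by
  classical
  have hℓp : ℓ.Prime := Fact.out
  obtain ⟨r, hr⟩ := hodd
  have hodd : Odd (Fintype.card F) := ⟨r, hr⟩
  have hq1 : 2 ≤ Fintype.card F := Fintype.one_lt_card
  have hr1 : 1 ≤ r := by omega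
  by_cases hℓG : ℓ ∣ Nat.card (SpecialLinearGroup (Fin 2) F)
  swap
  · have hS1 : (S : Subgroup (SpecialLinearGroup (Fin 2) F)) = ⊥ := by
      obtain ⟨k, hk⟩ := S.isPGroup'.exists_card_eq
      have hdvd := Subgroup.card_subgroup_dvd_card (S : Subgroup (SpecialLinearGroup (Fin 2) F))
      rw [hk] at hdvd
      have hk0 : k = 0 := by
        by_contra h
        exact hℓG ((dvd_pow_self ℓ h).trans hdvd)
      rw [hk0, pow_zero] at hk
      exact Subgroup.card_eq_one.mp hk
    have hNtop : Subgroup.normalizer ((S : Subgroup (SpecialLinearGroup (Fin 2) F)) :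
        Set (SpecialLinearGroup (Fin 2) F)) = ⊤ := by
      rw [hS1]
      exact Subgroup.normalizer_eq_top_iff.mpr inferInstance
    exact irrNot_normalizer_of_eq_top ℓ _ hNtop
  rw [card_SL2, hr] at hℓG
  have hsq : (2 * r + 1) ^ 2 - 1 = 2 * r * (2 * r + 2) := by
    have : (2 * r + 1) ^ 2 = 2 * r * (2 * r + 2) + 1 := by ring
    omega
  rw [hsq] at hℓG
  by_cases hℓq : ℓ ∣ 2 * r + 1
  · -- the characteristic
    obtain ⟨p, hp⟩ := CharP.exists F
    have hpp : p.Prime := CharP.char_is_prime F p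
    have : Fact p.Prime := ⟨hpp⟩
    obtain ⟨n, -, hn⟩ := FiniteField.card F p
    have hℓeq : ℓ = p := by
      rw [← hr, hn] at hℓq
      exact (Nat.prime_dvd_prime_iff_eq hℓp hpp).mp (hℓp.dvd_of_dvd_pow hℓq)
    have hcp : CharP F ℓ := by rw [hℓeq]; exact hp
    rw [irrNot_normalizer_sylow_char ⟨r, hr⟩ ℓ S]
    by_cases hr2 : 2 ≤ r
    · rw [irrNot_SL2_odd_char r hr hr2 ℓ hℓp hℓq, hr]
    · have hr' : r = 1 := by omega
      have hq3 : Fintype.card F = 3 := by omega
      have hℓ3 : ℓ = 3 := by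
        rw [hr'] at hℓq
        exact (Nat.prime_dvd_prime_iff_eq hℓp Nat.prime_three).mp hℓq
      rw [hq3, hℓ3]
      exact irrNot_SL2_three hq3
  · have hd : ℓ ∣ 2 * r ∨ ℓ ∣ 2 * r + 2 := by
      rcases (Nat.Prime.dvd_mul hℓp).mp hℓG with h | h
      · exact absurd h hℓq
      · exact (Nat.Prime.dvd_mul hℓp).mp h
    by_cases hℓ2 : ℓ = 2
    · subst hℓ2
      have hq8 : (Fintype.card F % 8 = 1 ∨ Fintype.card F % 8 = 7) ∨
          (Fintype.card F % 8 = 3 ∨ Fintype.card F % 8 = 5) := by omega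
      rcases hq8 with h | h
      · rw [irrNot_normalizer_sylow_two_of_one_seven ⟨r, hr⟩ h S]
        exact irrNot_SL2_odd_two r hr (by omega)
      · rw [irrNot_normalizer_sylow_two_of_three_five ⟨r, hr⟩ h S]
        by_cases hr2 : 2 ≤ r
        · exact irrNot_SL2_odd_two r hr hr2
        · have hr' : r = 1 := by omega
          have hq3 : Fintype.card F = 3 := by omega
          rw [irrNot_normalizer_of_eq_top 2 _ (normalizer_sylow_two_eq_top_of_three hq3 S)]
          exact irrNot_normalizer_sylow_two_of_three_five ⟨r, hr⟩ h S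
    · have hdvd : ℓ ∣ Fintype.card F - 1 ∨ ℓ ∣ Fintype.card F + 1 := by
        rw [hr]
        rcases hd with h | h
        · left; simpa using h
        · right; exact h
      obtain ⟨c, hc, hℓc, hcount⟩ := irrNot_normalizer_sylow_odd ⟨r, hr⟩ ℓ hℓ2 hdvd S
      have hr2 : 2 ≤ r := by
        by_contra hlt
        have hr' : r = 1 := by omega
        rw [hr'] at hd
        rcases hd with h | h
        · exact hℓ2 ((Nat.prime_dvd_prime_iff_eq hℓp Nat.prime_two).mp h)
        · have h4 : ℓ ∣ 2 ^ 2 := by norm_num at h ⊢; exact h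
          exact hℓ2 ((Nat.prime_dvd_prime_iff_eq hℓp Nat.prime_two).mp (hℓp.dvd_of_dvd_pow h4))
      rcases hc with hc | hc
      · have h1 : ℓ ∣ 2 * r := by
          rw [hc, hr] at hℓc
          simpa using hℓc
        rw [irrNot_SL2_odd_minus r hr hr2 ℓ hℓp hℓ2 h1]
        rw [hc, hr] at hcount
        omega
      · have h1 : ℓ ∣ 2 * r + 2 := by
          rw [hc, hr] at hℓc
          exact hℓc
        rw [irrNot_SL2_odd_plus r hr hr2 ℓ hℓp hℓ2 h1]
        rw [hc, hr] at hcount
        omega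

end main

end Cfsg.Agent.Lib.Helper13
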