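import Mathlib
import Cfsg.Prelude.Def_LocalEven
import Cfsg.Agent.Lib.Helper13.SL2Sylow
import Cfsg.Agent.Lib.Helper13.PSL2

/-!
Helper lemmas (helper13): natural `SL₂(F)`-modules inside an ambient group
(`Cfsg.IsNaturalSL2Module`), reduced to a standard coordinate model in which a given Sylow
`p`-subgroup of `L` corresponds to the upper unitriangular matrices.
-/

set_option autoImplicit false

namespace Cfsg.Agent.Lib.Helper13.NatSL2

open Matrix Cfsg.Agent.Lib.Helper13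
open scoped commutatorElement

section field

variable {F : Type*} [Field F]

local notation:1024 "↑ₘ" A:1024 =>
  ((A : SpecialLinearGroup (Fin 2) F) : Matrix (Fin 2) (Fin 2) F)

theorem tSL_mulVec (a : F) (x : Fin 2 → F) :
    ↑ₘ(tSL a) *ᵥ x = ![x 0 + a * x 1, x 1] := by
  ext i
  fin_cases i <;> simp [tSL, Matrix.mulVec, dotProduct, Fin.sum_univ_two]

theorem dSL_mulVec (s : F) (hs : s ≠ 0) (x : Fin 2 → F) :
    ↑ₘ(dSL s hs) *ᵥ x = ![s * x 0, s⁻¹ * x 1] := by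
  ext i
  fin_cases i <;> simp [dSL, Matrix.mulVec, dotProduct, Fin.sum_univ_two]

theorem dSL_apply_one_zero (s : F) (hs : s ≠ 0) : ↑ₘ(dSL s hs) 1 0 = 0 := by
  simp [dSL]

theorem tSL_apply_one_zero (a : F) : ↑ₘ(tSL a) 1 0 = 0 := by
  simp [tSL]

theorem det_eq_of_upper (M : SpecialLinearGroup (Fin 2) F) (h : ↑ₘM 1 0 = 0) :
    ↑ₘM 0 0 * ↑ₘM 1 1 = 1 := by
  have := M.2
  rw [Matrix.det_fin_two, h, mul_zero, sub_zero] at this
  exact this

/-- An upper triangular element of `SL₂` normalizes the upper unitriangular group. -/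
theorem upper_conj_tSL (M : SpecialLinearGroup (Fin 2) F) (h : ↑ₘM 1 0 = 0) (a : F) :
    M * tSL a * M⁻¹ = tSL (↑ₘM 0 0 ^ 2 * a) := by
  have hd := det_eq_of_upper M h
  apply Subtype.ext
  rw [Matrix.SpecialLinearGroup.coe_mul, Matrix.SpecialLinearGroup.coe_mul, Matrix.SpecialLinearGroup.coe_inv,
    Matrix.adjugate_fin_two]
  ext i j
  fin_cases i <;> fin_cases j <;>
    simp [tSL, Matrix.mul_apply, Fin.sum_univ_two, h]
  · exact hd
  · ring
  · linear_combination hd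

theorem inv_apply_one_zero (M : SpecialLinearGroup (Fin 2) F) (h : ↑ₘM 1 0 = 0) :
    ↑ₘ(M⁻¹) 1 0 = 0 := by
  rw [Matrix.SpecialLinearGroup.coe_inv, Matrix.adjugate_fin_two]
  simp [h]

theorem inv_mulVec_one (M : SpecialLinearGroup (Fin 2) F) (x : Fin 2 → F) :
    (↑ₘ(M⁻¹) *ᵥ x) 1 = - ↑ₘM 1 0 * x 0 + ↑ₘM 0 0 * x 1 := by
  rw [Matrix.SpecialLinearGroup.coe_inv, Matrix.adjugate_fin_two]
  simp [Matrix.mulVec, dotProduct, Fin.sum_univ_two]

/-- An element of `SL₂(F)` fixing a nonzero vector has trace `2`. -/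
theorem trace_eq_two_of_fixed (M : SpecialLinearGroup (Fin 2) F) (u : Fin 2 → F) (hu : u ≠ 0)
    (h : ↑ₘM *ᵥ u = u) : (↑ₘM).trace = 2 := by
  have h0 : (↑ₘM - 1).det = 0 := by
    rw [← Matrix.exists_mulVec_eq_zero_iff]
    refine ⟨u, hu, ?_⟩
    rw [Matrix.sub_mulVec, h, Matrix.one_mulVec, sub_self]
  have hdet := M.2
  rw [Matrix.det_fin_two] at hdet h0
  rw [Matrix.trace_fin_two]
  simp only [Matrix.sub_apply, Matrix.one_apply_eq, Matrix.one_apply_ne, ne_eq, one_ne_zero,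
    not_false_eq_true, zero_ne_one, sub_zero] at h0
  linear_combination hdet - h0

theorem pow_char_eq_one_of_trace (p : ℕ) [Fact p.Prime] [CharP F p]
    (g : SpecialLinearGroup (Fin 2) F)
    (h : (g : Matrix (Fin 2) (Fin 2) F).trace = 2) : g ^ p = 1 := by
  have hch := cayley_hamilton_two (g : Matrix (Fin 2) (Fin 2) F) g.2
  rw [← Matrix.trace_fin_two, h] at hch
  set N : Matrix (Fin 2) (Fin 2) F := (g : Matrix (Fin 2) (Fin 2) F) - 1 with hNdef
  have hN : N ^ 2 = 0 := by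
    rw [hNdef, pow_two, sub_mul, mul_sub, mul_sub, hch]
    simp only [Matrix.mul_one, Matrix.one_mul]
    module
  have e : (g : Matrix (Fin 2) (Fin 2) F) = 1 + N := by rw [hNdef]; abel
  have hp2 : 2 ≤ p := (Fact.out : p.Prime).two_le
  have hNp : N ^ p = 0 := by
    have : p = 2 + (p - 2) := by omega
    rw [this, pow_add, hN, zero_mul]
  apply Subtype.ext
  rw [Matrix.SpecialLinearGroup.coe_pow, Matrix.SpecialLinearGroup.coe_one, e,
    add_pow_char_of_commute p (Commute.one_left N), one_pow, hNp, add_zero]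

/-- The characteristic of a finite field of order `p ^ n`. -/
theorem charP_of_card [Fintype F] {p : ℕ} [hp : Fact p.Prime] (n : ℕ)
    (hF : Fintype.card F = p ^ n) : CharP F p := by
  obtain ⟨q, hq⟩ := CharP.exists F
  have hqp : q.Prime := by
    rcases CharP.char_is_prime_or_zero F q with h | h
    · exact h
    · exfalso
      subst h
      have : CharZero F := CharP.charP_to_charZero F
      exact not_finite F
  have : Fact q.Prime := ⟨hqp⟩
  obtain ⟨m, -, hm⟩ := FiniteField.card F q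
  have hdvd : q ∣ p ^ n := by
    rw [← hF, hm]
    exact dvd_pow_self q m.pos.ne'
  have : q = p := (Nat.prime_dvd_prime_iff_eq hqp hp.out).mp (hqp.dvd_of_dvd_pow hdvd)
  subst this
  exact hq

/-- The upper unitriangular matrices form a Sylow `p`-subgroup of `SL₂(F)`. -/
theorem exists_sylow_tSL (p : ℕ) [Fact p.Prime] [Fintype F] [CharP F p] :
    ∃ P : Sylow p (SpecialLinearGroup (Fin 2) F),
      (P : Subgroup (SpecialLinearGroup (Fin 2) F)) = (tSLHom (K := F)).range := by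
  have hp : p.Prime := Fact.out
  obtain ⟨n, -, hq⟩ := FiniteField.card F p
  have hcardU : Nat.card (tSLHom (K := F)).range = p ^ (n : ℕ) := by
    rw [card_range_tSLHom, Nat.card_eq_fintype_card, hq]
  have hPG : IsPGroup p (tSLHom (K := F)).range := IsPGroup.of_card hcardU
  have hindex : ¬ p ∣ (tSLHom (K := F)).range.index := by
    have h1 := Subgroup.card_mul_index (tSLHom (K := F)).range
    rw [card_SL2, hcardU, hq] at h1
    have hpos : 0 < p ^ (n : ℕ) := pow_pos hp.pos _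
    have h2 : (tSLHom (K := F)).range.index = (p ^ (n : ℕ)) ^ 2 - 1 :=
      Nat.eq_of_mul_eq_mul_left hpos h1
    rw [h2]
    intro hdvd
    have h3 : p ∣ (p ^ (n : ℕ)) ^ 2 := by
      rw [← pow_mul]
      exact dvd_pow_self p (by positivity)
    have h4 : 1 ≤ (p ^ (n : ℕ)) ^ 2 := Nat.one_le_pow _ _ hpos
    have h5 : p ∣ 1 := by
      have := Nat.dvd_sub h3 hdvd
      rwa [Nat.sub_sub_self h4] at this
    exact hp.one_lt.ne' (Nat.dvd_one.mp h5)
  exact ⟨hPG.toSylow hindex, rfl⟩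

end field

section model

variable {G : Type*} [Group G] {F : Type*} [Field F]

/-- A standard coordinate model for a faithful natural `SL₂(F)`-module `V` for `L` in which the subgroup
`T` of `L` corresponds to the upper unitriangular matrices. -/
structure IsStdModel (V L T : Subgroup G) (ρ : L →* SpecialLinearGroup (Fin 2) F)
    (φ : V → (Fin 2 → F)) : Prop where
  le_normalizer : L ≤ Subgroup.normalizer (V : Set G)
  T_le : T ≤ L
  ρ_bij : Function.Bijective ρ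
  φ_bij : Function.Bijective φ
  φ_mul : ∀ v v' : V, φ (v * v') = φ v + φ v'
  conj_mem : ∀ (l : L) (v : V), (l : G) * v * (l : G)⁻¹ ∈ V
  φ_conj : ∀ (l : L) (v : V),
    φ ⟨(l : G) * v * (l : G)⁻¹, conj_mem l v⟩ = (ρ l : Matrix (Fin 2) (Fin 2) F) *ᵥ φ v
  mem_T : ∀ l : L, (l : G) ∈ T ↔ ∃ a : F, ρ l = tSL a

theorem exists_std_model [Finite G] {p : ℕ} [Fact p.Prime] [Fintype F] [CharP F p]
    (V L : Subgroup G) (hnat : Cfsg.IsNaturalSL2Module F V L)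
    (hf : L ⊓ Subgroup.centralizer (V : Set G) = ⊥) (S : Sylow p ↥L) :
    ∃ (ρ : L →* SpecialLinearGroup (Fin 2) F) (φ : V → (Fin 2 → F)),
      IsStdModel V L ((S : Subgroup ↥L).map L.subtype) ρ φ := by
  obtain ⟨hN, ρ₀, ψ, hsurj, hker, heq⟩ := hnat
  have hinj : Function.Injective ρ₀ := by
    rw [← MonoidHom.ker_eq_bot_iff, hker, Subgroup.subgroupOf_eq_bot, disjoint_iff, inf_comm]
    exact hf
  obtain ⟨U, hU⟩ := exists_sylow_tSL (F := F) p
  obtain ⟨g, hg⟩ := MulAction.exists_smul_eq (SpecialLinearGroup (Fin 2) F) U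
    (S.mapSurjective hsurj)
  refine ⟨(MulAut.conj g⁻¹).toMonoidHom.comp ρ₀,
    fun v => (↑(g⁻¹) : Matrix (Fin 2) (Fin 2) F) *ᵥ ψ (Additive.ofMul v), ?_⟩
  have hgg : (↑(g⁻¹) : Matrix (Fin 2) (Fin 2) F) * (↑g : Matrix (Fin 2) (Fin 2) F) = 1 := by
    rw [← Matrix.SpecialLinearGroup.coe_mul, inv_mul_cancel, Matrix.SpecialLinearGroup.coe_one]
  have hgg' : (↑g : Matrix (Fin 2) (Fin 2) F) * (↑(g⁻¹) : Matrix (Fin 2) (Fin 2) F) = 1 := by
    rw [← Matrix.SpecialLinearGroup.coe_mul, mul_inv_cancel, Matrix.SpecialLinearGroup.coe_one]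
  have hconj : ∀ (l : L) (v : V), (l : G) * v * (l : G)⁻¹ ∈ V := by
    intro l v
    obtain ⟨w, hw, -⟩ := heq l v
    rw [← hw]
    exact w.2
  refine ⟨hN, Subgroup.map_subtype_le _, ?_, ?_, ?_, hconj, ?_, ?_⟩
  · exact (MulAut.conj g⁻¹).bijective.comp ⟨hinj, hsurj⟩
  · refine Function.bijective_iff_has_inverse.mpr
      ⟨fun x => Additive.toMul (ψ.symm ((↑g : Matrix (Fin 2) (Fin 2) F) *ᵥ x)), ?_, ?_⟩
    · intro v
      simp only [Matrix.mulVec_mulVec, hgg', Matrix.one_mulVec, AddEquiv.symm_apply_apply,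
        toMul_ofMul]
    · intro x
      simp only [ofMul_toMul, AddEquiv.apply_symm_apply, Matrix.mulVec_mulVec, hgg,
        Matrix.one_mulVec]
  · intro v v'
    simp only [ofMul_mul, map_add, Matrix.mulVec_add]
  · intro l v
    obtain ⟨w, hw, hψ⟩ := heq l v
    have hwe : (⟨(l : G) * v * (l : G)⁻¹, hconj l v⟩ : V) = w := Subtype.ext hw.symm
    rw [hwe, hψ]
    simp only [MonoidHom.coe_comp, MulEquiv.coe_toMonoidHom, Function.comp_apply,
      MulAut.conj_apply, inv_inv, Matrix.SpecialLinearGroup.coe_mul, Matrix.mulVec_mulVec]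
    rw [Matrix.mul_assoc, Matrix.mul_assoc, hgg', Matrix.mul_one]
  · intro l
    have h1 : (l : G) ∈ (S : Subgroup ↥L).map L.subtype ↔ l ∈ (S : Subgroup ↥L) := by
      constructor
      · rintro ⟨l', hl', hll'⟩
        have : l' = l := Subtype.ext hll'
        rwa [← this]
      · intro hl
        exact ⟨l, hl, rfl⟩
    have h2 : l ∈ (S : Subgroup ↥L) ↔ ρ₀ l ∈ ((S.mapSurjective hsurj : Sylow p _) :
        Subgroup (SpecialLinearGroup (Fin 2) F)) := by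
      rw [Sylow.coe_mapSurjective]
      exact (Subgroup.mem_map_iff_mem hinj).symm
    rw [h1, h2, ← hg, Sylow.coe_subgroup_smul, Subgroup.mem_pointwise_smul_iff_inv_smul_mem, hU]
    simp only [MulAut.smul_def, MonoidHom.coe_comp, MulEquiv.coe_toMonoidHom,
      Function.comp_apply, map_inv]
    constructor
    · rintro ⟨t, ht⟩
      exact ⟨Multiplicative.toAdd t, ht.symm⟩
    · rintro ⟨a, ha⟩
      exact ⟨Multiplicative.ofAdd a, ha.symm⟩

theorem tSL_mulVec_eq_iff (a : F) (x : Fin 2 → F) :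
    (tSL a : Matrix (Fin 2) (Fin 2) F) *ᵥ x = x ↔ a * x 1 = 0 := by
  rw [tSL_mulVec]
  constructor
  · intro h
    have := congrFun h 0
    simpa using this
  · intro h
    ext i
    fin_cases i <;> simp [h]

namespace IsStdModel

variable {V L T : Subgroup G} {ρ : L →* SpecialLinearGroup (Fin 2) F} {φ : V → (Fin 2 → F)}

theorem φ_one (h : IsStdModel V L T ρ φ) : φ 1 = 0 := by
  have := h.φ_mul 1 1
  rw [mul_one] at this
  exact left_eq_add.mp this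

theorem φ_inv (h : IsStdModel V L T ρ φ) (v : V) : φ v⁻¹ = - φ v := by
  have := h.φ_mul v v⁻¹
  rw [mul_inv_cancel, h.φ_one] at this
  exact (neg_eq_of_add_eq_zero_right this.symm).symm

theorem φ_eq_zero_iff (h : IsStdModel V L T ρ φ) (v : V) : φ v = 0 ↔ v = 1 := by
  rw [← h.φ_one]
  exact h.φ_bij.1.eq_iff

theorem comm (h : IsStdModel V L T ρ φ) (v v' : V) : v * v' = v' * v := by
  apply h.φ_bij.1
  rw [h.φ_mul, h.φ_mul, add_comm]

theorem commute_iff (h : IsStdModel V L T ρ φ) (l : L) (v : V) :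
    (l : G) * v = v * l ↔ (ρ l : Matrix (Fin 2) (Fin 2) F) *ᵥ φ v = φ v := by
  rw [← h.φ_conj l v, h.φ_bij.1.eq_iff]
  constructor
  · intro h1
    apply Subtype.ext
    change (l : G) * v * (l : G)⁻¹ = v
    rw [h1, mul_inv_cancel_right]
  · intro h1
    have h2 : (l : G) * v * (l : G)⁻¹ = v := congrArg Subtype.val h1
    calc (l : G) * v = ((l : G) * v * (l : G)⁻¹) * l := by group
      _ = v * l := by rw [h2]

theorem exists_of_tSL (h : IsStdModel V L T ρ φ) (a : F) :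
    ∃ l : L, ρ l = tSL a ∧ (l : G) ∈ T := by
  obtain ⟨l, hl⟩ := h.ρ_bij.2 (tSL a)
  exact ⟨l, hl, (h.mem_T l).mpr ⟨a, hl⟩⟩

theorem mem_normalizer_of_upper (h : IsStdModel V L T ρ φ) (l : L)
    (hl : (ρ l : Matrix (Fin 2) (Fin 2) F) 1 0 = 0) :
    (l : G) ∈ Subgroup.normalizer (T : Set G) := by
  rw [Subgroup.mem_normalizer_iff]
  intro x
  constructor
  · intro hx
    obtain ⟨a, ha⟩ := (h.mem_T ⟨x, h.T_le hx⟩).mp hx
    have : (l : G) * x * (l : G)⁻¹ = ((l * ⟨x, h.T_le hx⟩ * l⁻¹ : L) : G) := by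
      simp
    rw [this, h.mem_T]
    refine ⟨(ρ l : Matrix (Fin 2) (Fin 2) F) 0 0 ^ 2 * a, ?_⟩
    rw [map_mul, map_mul, map_inv, ha]
    exact upper_conj_tSL _ hl a
  · intro hx
    have hyL : (l : G) * x * (l : G)⁻¹ ∈ L := h.T_le hx
    have hxL : x ∈ L := by
      have : x = (l : G)⁻¹ * ((l : G) * x * (l : G)⁻¹) * (l : G) := by group
      rw [this]
      exact L.mul_mem (L.mul_mem (L.inv_mem l.2) hyL) l.2
    have hx' : ((l * ⟨x, hxL⟩ * l⁻¹ : L) : G) ∈ T := by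
      simpa using hx
    obtain ⟨a, ha⟩ := (h.mem_T _).mp hx'
    have h3 : ρ ⟨x, hxL⟩ = (ρ l)⁻¹ * tSL a * ((ρ l)⁻¹)⁻¹ := by
      rw [← ha, map_mul, map_mul, map_inv]
      group
    have : x = ((⟨x, hxL⟩ : L) : G) := rfl
    rw [this, h.mem_T]
    refine ⟨(((ρ l)⁻¹ : SpecialLinearGroup (Fin 2) F) : Matrix (Fin 2) (Fin 2) F) 0 0 ^ 2 * a, ?_⟩
    rw [h3]
    exact upper_conj_tSL _ (inv_apply_one_zero _ hl) a

theorem exists_of_dSL (h : IsStdModel V L T ρ φ) (s : F) (hs : s ≠ 0) :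
    ∃ l : L, ρ l = dSL s hs ∧ (l : G) ∈ Subgroup.normalizer (T : Set G) := by
  obtain ⟨l, hl⟩ := h.ρ_bij.2 (dSL s hs)
  refine ⟨l, hl, h.mem_normalizer_of_upper l ?_⟩
  rw [hl]
  exact dSL_apply_one_zero s hs

theorem mem_fix_iff (h : IsStdModel V L T ρ φ) (v : G) :
    v ∈ V ⊓ Subgroup.centralizer (T : Set G) ↔ ∃ hv : v ∈ V, φ ⟨v, hv⟩ 1 = 0 := by
  rw [Subgroup.mem_inf, Subgroup.mem_centralizer_iff]
  constructor
  · rintro ⟨hv, hc⟩
    refine ⟨hv, ?_⟩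
    obtain ⟨l, hl, hlT⟩ := h.exists_of_tSL 1
    have h1 := (h.commute_iff l ⟨v, hv⟩).mp (hc _ hlT)
    rw [hl, tSL_mulVec_eq_iff, one_mul] at h1
    exact h1
  · rintro ⟨hv, h0⟩
    refine ⟨hv, ?_⟩
    intro t ht
    obtain ⟨a, ha⟩ := (h.mem_T ⟨t, h.T_le ht⟩).mp ht
    have := (h.commute_iff ⟨t, h.T_le ht⟩ ⟨v, hv⟩).mpr (by
      rw [ha, tSL_mulVec_eq_iff, h0, mul_zero])
    exact this

theorem mem_fix_single_iff (h : IsStdModel V L T ρ φ) (s : G) (hs : s ∈ T) (hs1 : s ≠ 1) (v : G) :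
    v ∈ V ⊓ Subgroup.centralizer ({s} : Set G) ↔ ∃ hv : v ∈ V, φ ⟨v, hv⟩ 1 = 0 := by
  obtain ⟨a, ha⟩ := (h.mem_T ⟨s, h.T_le hs⟩).mp hs
  have ha0 : a ≠ 0 := by
    rintro rfl
    rw [tSL_zero] at ha
    have : (⟨s, h.T_le hs⟩ : L) = 1 := h.ρ_bij.1 (by rw [ha, map_one])
    exact hs1 (congrArg Subtype.val this)
  rw [Subgroup.mem_inf, Subgroup.mem_centralizer_iff]
  constructor
  · rintro ⟨hv, hc⟩
    refine ⟨hv, ?_⟩
    have h1 := (h.commute_iff ⟨s, h.T_le hs⟩ ⟨v, hv⟩).mp (hc s rfl)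
    rw [ha, tSL_mulVec_eq_iff] at h1
    exact (mul_eq_zero.mp h1).resolve_left ha0
  · rintro ⟨hv, h0⟩
    refine ⟨hv, ?_⟩
    intro t ht
    rw [Set.mem_singleton_iff] at ht
    subst ht
    exact (h.commute_iff ⟨t, h.T_le hs⟩ ⟨v, hv⟩).mpr (by
      rw [ha, tSL_mulVec_eq_iff, h0, mul_zero])

theorem commutator_mem (h : IsStdModel V L T ρ φ) (v : V) (l : L) : ⁅(v : G), (l : G)⁆ ∈ V := by
  have : ⁅(v : G), (l : G)⁆ = (v : G) * ((l : G) * (v⁻¹ : V) * (l : G)⁻¹) := by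
    rw [commutatorElement_def]
    simp only [Subgroup.coe_inv]
    group
  rw [this]
  exact V.mul_mem v.2 (h.conj_mem l v⁻¹)

theorem φ_commutator (h : IsStdModel V L T ρ φ) (v : V) (l : L) :
    φ ⟨⁅(v : G), (l : G)⁆, h.commutator_mem v l⟩ =
      φ v - (ρ l : Matrix (Fin 2) (Fin 2) F) *ᵥ φ v := by
  have : (⟨⁅(v : G), (l : G)⁆, h.commutator_mem v l⟩ : V) =
      v * ⟨(l : G) * (v⁻¹ : V) * (l : G)⁻¹, h.conj_mem l v⁻¹⟩ := by
    apply Subtype.ext
    rw [Subgroup.coe_mul]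
    change ⁅(v : G), (l : G)⁆ = (v : G) * ((l : G) * (v⁻¹ : V) * (l : G)⁻¹)
    rw [commutatorElement_def]
    simp only [Subgroup.coe_inv]
    group
  rw [this, h.φ_mul, h.φ_conj, h.φ_inv, Matrix.mulVec_neg, sub_eq_add_neg]

theorem φ_commutator_tSL (h : IsStdModel V L T ρ φ) (v : V) (l : L) (a : F) (hl : ρ l = tSL a) :
    φ ⟨⁅(v : G), (l : G)⁆, h.commutator_mem v l⟩ = ![- (a * φ v 1), 0] := by
  rw [h.φ_commutator, hl, tSL_mulVec]
  ext i
  fin_cases i <;> simp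

theorem card_V [Fintype F] (h : IsStdModel V L T ρ φ) : Nat.card V = Fintype.card F ^ 2 := by
  rw [Nat.card_congr (Equiv.ofBijective φ h.φ_bij), Nat.card_eq_fintype_card, Fintype.card_fun,
    Fintype.card_fin]

theorem card_fix [Fintype F] (h : IsStdModel V L T ρ φ) :
    Nat.card ↥(V ⊓ Subgroup.centralizer (T : Set G)) = Fintype.card F := by
  rw [← Nat.card_eq_fintype_card]
  refine Nat.card_congr (Equiv.ofBijective
    (fun w : ↥(V ⊓ Subgroup.centralizer (T : Set G)) => φ ⟨w.1, w.2.1⟩ 0) ⟨?_, ?_⟩)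
  · intro w w' hww
    obtain ⟨hv, h0⟩ := (h.mem_fix_iff w.1).mp w.2
    obtain ⟨hv', h0'⟩ := (h.mem_fix_iff w'.1).mp w'.2
    have : φ ⟨w.1, w.2.1⟩ = φ ⟨w'.1, w'.2.1⟩ := by
      ext i
      fin_cases i
      · exact hww
      · exact h0.trans h0'.symm
    have h3 : (⟨w.1, w.2.1⟩ : V) = ⟨w'.1, w'.2.1⟩ := h.φ_bij.1 this
    have h4 : (w : G) = (w' : G) := congrArg (fun z : V => (z : G)) h3
    exact Subtype.ext h4
  · intro c
    obtain ⟨v, hv⟩ := h.φ_bij.2 ![c, 0]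
    have hmem : (v : G) ∈ V ⊓ Subgroup.centralizer (T : Set G) :=
      (h.mem_fix_iff v.1).mpr ⟨v.2, by
        change φ v 1 = 0
        rw [hv]; rfl⟩
    refine ⟨⟨v.1, hmem⟩, ?_⟩
    change φ v 0 = c
    rw [hv]; rfl

theorem commutator_le_fix (h : IsStdModel V L T ρ φ) :
    ⁅V, T⁆ ≤ V ⊓ Subgroup.centralizer (T : Set G) := by
  rw [Subgroup.commutator_le]
  intro v hv t ht
  obtain ⟨a, ha⟩ := (h.mem_T ⟨t, h.T_le ht⟩).mp ht
  rw [h.mem_fix_iff]
  refine ⟨h.commutator_mem ⟨v, hv⟩ ⟨t, h.T_le ht⟩, ?_⟩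
  rw [h.φ_commutator_tSL ⟨v, hv⟩ ⟨t, h.T_le ht⟩ a ha]
  rfl

/-- Every element of `C_V(T)` is a commutator `[v, t]` for given `v ∈ V ∖ C_V(T)`. -/
theorem exists_commutator_eq (h : IsStdModel V L T ρ φ) (v : G) (hv : v ∈ V)
    (hvT : v ∉ Subgroup.centralizer (T : Set G)) (w : G)
    (hw : w ∈ V ⊓ Subgroup.centralizer (T : Set G)) : ∃ t ∈ T, w = ⁅v, t⁆ := by
  obtain ⟨hwV, hw0⟩ := (h.mem_fix_iff w).mp hw
  have hx1 : φ ⟨v, hv⟩ 1 ≠ 0 := by
    intro h0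
    exact hvT ((h.mem_fix_iff v).mpr ⟨hv, h0⟩).2
  obtain ⟨l, hl, hlT⟩ := h.exists_of_tSL (- (φ ⟨w, hwV⟩ 0 / φ ⟨v, hv⟩ 1))
  refine ⟨l, hlT, ?_⟩
  have h1 := h.φ_commutator_tSL ⟨v, hv⟩ l _ hl
  have h2 : φ ⟨w, hwV⟩ = φ ⟨⁅v, (l : G)⁆, h.commutator_mem ⟨v, hv⟩ l⟩ := by
    rw [h1]
    ext i
    fin_cases i
    · simp only [Fin.zero_eta, Fin.isValue, Matrix.cons_val_zero]
      field_simp
    · simpa using hw0
  exact congrArg Subtype.val (h.φ_bij.1 h2)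

/-- Every element of `C_V(T)` is a commutator `[v, s]` for given `1 ≠ s ∈ T`. -/
theorem exists_commutator_eq' (h : IsStdModel V L T ρ φ) (s : G) (hs : s ∈ T) (hs1 : s ≠ 1) (w : G)
    (hw : w ∈ V ⊓ Subgroup.centralizer (T : Set G)) : ∃ v ∈ V, w = ⁅v, s⁆ := by
  obtain ⟨hwV, hw0⟩ := (h.mem_fix_iff w).mp hw
  obtain ⟨a, ha⟩ := (h.mem_T ⟨s, h.T_le hs⟩).mp hs
  have ha0 : a ≠ 0 := by
    rintro rfl
    rw [tSL_zero] at ha
    have : (⟨s, h.T_le hs⟩ : L) = 1 := h.ρ_bij.1 (by rw [ha, map_one])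
    exact hs1 (congrArg Subtype.val this)
  obtain ⟨v, hv⟩ := h.φ_bij.2 ![0, - (φ ⟨w, hwV⟩ 0 / a)]
  refine ⟨v, v.2, ?_⟩
  have h1 := h.φ_commutator_tSL v ⟨s, h.T_le hs⟩ a ha
  have h2 : φ ⟨w, hwV⟩ = φ ⟨⁅(v : G), s⁆, h.commutator_mem v ⟨s, h.T_le hs⟩⟩ := by
    rw [h1, hv]
    ext i
    fin_cases i
    · simp only [Fin.zero_eta, Fin.isValue, Matrix.cons_val_zero, Matrix.cons_val_one]
      field_simp
    · simpa using hw0
  exact congrArg Subtype.val (h.φ_bij.1 h2)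

theorem lower_ne_zero (h : IsStdModel V L T ρ φ) (g : L)
    (hg : (g : G) ∉ Subgroup.normalizer (T : Set G)) :
    (ρ g : Matrix (Fin 2) (Fin 2) F) 1 0 ≠ 0 :=
  fun h0 => hg (h.mem_normalizer_of_upper g h0)

theorem conj_inv_mem (h : IsStdModel V L T ρ φ) (g : L) (v : G) (hv : v ∈ V) :
    ∃ hv' : (g : G)⁻¹ * v * (g : G) ∈ V,
      φ ⟨(g : G)⁻¹ * v * (g : G), hv'⟩ =
        (((ρ g)⁻¹ : SpecialLinearGroup (Fin 2) F) : Matrix (Fin 2) (Fin 2) F) *ᵥ φ ⟨v, hv⟩ := by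
  have h1 := h.conj_mem g⁻¹ ⟨v, hv⟩
  have h2 := h.φ_conj g⁻¹ ⟨v, hv⟩
  simp only [Subgroup.coe_inv, inv_inv, map_inv] at h1 h2
  exact ⟨h1, h2⟩

theorem mem_centralizer_conj_iff (g v : G) :
    v ∈ Subgroup.centralizer ((T.map (MulAut.conj g).toMonoidHom : Subgroup G) : Set G) ↔
      g⁻¹ * v * g ∈ Subgroup.centralizer (T : Set G) := by
  rw [Subgroup.mem_centralizer_iff, Subgroup.mem_centralizer_iff]
  constructor
  · intro hc t ht
    have := hc (g * t * g⁻¹) ⟨t, ht, rfl⟩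
    calc t * (g⁻¹ * v * g) = g⁻¹ * ((g * t * g⁻¹) * v) * g := by group
      _ = g⁻¹ * (v * (g * t * g⁻¹)) * g := by rw [this]
      _ = g⁻¹ * v * g * t := by group
  · rintro hc y ⟨t, ht, rfl⟩
    have := hc t ht
    simp only [MulEquiv.coe_toMonoidHom, MulAut.conj_apply]
    calc g * t * g⁻¹ * v = g * (t * (g⁻¹ * v * g)) * g⁻¹ := by group
      _ = g * ((g⁻¹ * v * g) * t) * g⁻¹ := by rw [this]
      _ = v * (g * t * g⁻¹) := by group

theorem mem_fix_conj_iff (h : IsStdModel V L T ρ φ) (g : L) (v : G) :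
    v ∈ V ⊓ Subgroup.centralizer
        ((T.map (MulAut.conj (g : G)).toMonoidHom : Subgroup G) : Set G) ↔
      ∃ hv : v ∈ V, - (ρ g : Matrix (Fin 2) (Fin 2) F) 1 0 * φ ⟨v, hv⟩ 0 +
        (ρ g : Matrix (Fin 2) (Fin 2) F) 0 0 * φ ⟨v, hv⟩ 1 = 0 := by
  rw [Subgroup.mem_inf, mem_centralizer_conj_iff]
  constructor
  · rintro ⟨hv, hc⟩
    obtain ⟨hv', hφ⟩ := h.conj_inv_mem g v hv
    obtain ⟨_, h0⟩ := (h.mem_fix_iff _).mp ⟨hv', hc⟩
    refine ⟨hv, ?_⟩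
    rw [hφ, inv_mulVec_one] at h0
    exact h0
  · rintro ⟨hv, h0⟩
    obtain ⟨hv', hφ⟩ := h.conj_inv_mem g v hv
    refine ⟨hv, ((h.mem_fix_iff _).mpr ⟨hv', ?_⟩).2⟩
    rw [hφ, inv_mulVec_one]
    exact h0

theorem isInternalDirectProduct_fix (h : IsStdModel V L T ρ φ) (g : L)
    (hg : (g : G) ∉ Subgroup.normalizer (T : Set G)) :
    Cfsg.IsInternalDirectProduct (V ⊓ Subgroup.centralizer (T : Set G))
      (V ⊓ Subgroup.centralizer
        ((T.map (MulAut.conj (g : G)).toMonoidHom : Subgroup G) : Set G)) V := by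
  have hM := h.lower_ne_zero g hg
  refine ⟨inf_le_left, inf_le_left, ?_, ?_, ?_⟩
  · intro a ha b hb
    exact congrArg Subtype.val (h.comm ⟨a, ha.1⟩ ⟨b, hb.1⟩)
  · rw [Subgroup.eq_bot_iff_forall]
    rintro x ⟨hx1, hx2⟩
    obtain ⟨hv, h0⟩ := (h.mem_fix_iff x).mp hx1
    obtain ⟨hv', h1⟩ := (h.mem_fix_conj_iff g x).mp hx2
    rw [h0, mul_zero, add_zero, neg_mul, neg_eq_zero] at h1
    have h2 : φ ⟨x, hv⟩ 0 = 0 := (mul_eq_zero.mp h1).resolve_left hM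
    have h3 : φ ⟨x, hv⟩ = 0 := by
      ext i
      fin_cases i
      · exact h2
      · exact h0
    have := (h.φ_eq_zero_iff _).mp h3
    exact congrArg Subtype.val this
  · apply le_antisymm (sup_le inf_le_left inf_le_left)
    intro v hv
    set x := φ ⟨v, hv⟩ with hx
    set M := (ρ g : Matrix (Fin 2) (Fin 2) F) with hMdef
    obtain ⟨v₁, hv₁⟩ := h.φ_bij.2 ![x 0 - x 1 / M 1 0 * M 0 0, 0]
    obtain ⟨v₂, hv₂⟩ := h.φ_bij.2 ![x 1 / M 1 0 * M 0 0, x 1 / M 1 0 * M 1 0]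
    have hprod : (⟨v, hv⟩ : V) = v₁ * v₂ := by
      apply h.φ_bij.1
      rw [h.φ_mul, hv₁, hv₂, ← hx]
      ext i
      fin_cases i
      · simp
      · simp only [Fin.mk_one, Fin.isValue, Pi.add_apply, Matrix.cons_val_one,
          Matrix.cons_val_zero, zero_add]
        field_simp
    have h1 : (v₁ : G) ∈ V ⊓ Subgroup.centralizer (T : Set G) :=
      (h.mem_fix_iff _).mpr ⟨v₁.2, by
        change φ v₁ 1 = 0
        rw [hv₁]; rfl⟩
    have h2 : (v₂ : G) ∈ V ⊓ Subgroup.centralizer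
        ((T.map (MulAut.conj (g : G)).toMonoidHom : Subgroup G) : Set G) :=
      (h.mem_fix_conj_iff g _).mpr ⟨v₂.2, by
        change - M 1 0 * φ v₂ 0 + M 0 0 * φ v₂ 1 = 0
        rw [hv₂]
        simp only [Fin.isValue, Matrix.cons_val_zero, Matrix.cons_val_one]
        ring⟩
    have : v = (v₁ : G) * (v₂ : G) := congrArg Subtype.val hprod
    rw [this]
    exact Subgroup.mul_mem_sup h1 h2

theorem fix_eq_bot_of_coprime {p : ℕ} [Fact p.Prime] [CharP F p] (h : IsStdModel V L T ρ φ)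
    (x : G) (hx : x ∈ L) (hx1 : x ≠ 1) (hcop : (orderOf x).Coprime p) :
    V ⊓ Subgroup.centralizer ({x} : Set G) = ⊥ := by
  rw [Subgroup.eq_bot_iff_forall]
  intro v hvc
  obtain ⟨hv, hc⟩ := Subgroup.mem_inf.mp hvc
  by_contra hv1
  have hu : φ ⟨v, hv⟩ ≠ 0 := by
    intro h0
    exact hv1 (congrArg Subtype.val ((h.φ_eq_zero_iff _).mp h0))
  rw [Subgroup.mem_centralizer_iff] at hc
  have hfix := (h.commute_iff ⟨x, hx⟩ ⟨v, hv⟩).mp (hc x rfl)
  have htr := trace_eq_two_of_fixed _ _ hu hfix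
  have hpow := pow_char_eq_one_of_trace p _ htr
  rw [← map_pow] at hpow
  have h1 : (⟨x, hx⟩ : L) ^ p = 1 := h.ρ_bij.1 (by rw [hpow, map_one])
  have h2 : x ^ p = 1 := by
    have := congrArg Subtype.val h1
    simpa using this
  have h3 : orderOf x = 1 := Nat.Coprime.eq_one_of_dvd hcop (orderOf_dvd_of_pow_eq_one h2)
  exact hx1 (orderOf_eq_one_iff.mp h3)

theorem fix_irreducible (h : IsStdModel V L T ρ φ) (U : Subgroup G)
    (hU : U ≤ V ⊓ Subgroup.centralizer (T : Set G))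
    (hN : L ⊓ Subgroup.normalizer (T : Set G) ≤ Subgroup.normalizer (U : Set G)) :
    U = ⊥ ∨ U = V ⊓ Subgroup.centralizer (T : Set G) := by
  by_cases hbot : U = ⊥
  · exact Or.inl hbot
  right
  obtain ⟨⟨u, huU⟩, hu1⟩ := (Subgroup.ne_bot_iff_exists_ne_one).mp hbot
  have hu1' : u ≠ 1 := fun h0 => hu1 (Subtype.ext h0)
  obtain ⟨huV, hu0⟩ := (h.mem_fix_iff u).mp (hU huU)
  have hc : φ ⟨u, huV⟩ 0 ≠ 0 := by
    intro h0
    have h3 : φ ⟨u, huV⟩ = 0 := by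
      ext i
      fin_cases i
      · exact h0
      · exact hu0
    exact hu1' (congrArg Subtype.val ((h.φ_eq_zero_iff _).mp h3))
  apply le_antisymm hU
  intro w hw
  obtain ⟨hwV, hw0⟩ := (h.mem_fix_iff w).mp hw
  by_cases hw00 : φ ⟨w, hwV⟩ 0 = 0
  · have h3 : φ ⟨w, hwV⟩ = 0 := by
      ext i
      fin_cases i
      · exact hw00
      · exact hw0
    have : w = 1 := congrArg Subtype.val ((h.φ_eq_zero_iff _).mp h3)
    rw [this]
    exact U.one_mem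
  · have hlam : φ ⟨w, hwV⟩ 0 / φ ⟨u, huV⟩ 0 ≠ 0 := div_ne_zero hw00 hc
    obtain ⟨l, hl, hlN⟩ := h.exists_of_dSL _ hlam
    have hlU : (l : G) ∈ Subgroup.normalizer (U : Set G) := hN ⟨l.2, hlN⟩
    have hconjU : (l : G) * u * (l : G)⁻¹ ∈ U := (Subgroup.mem_normalizer_iff.mp hlU u).mp huU
    have hφ := h.φ_conj l ⟨u, huV⟩
    rw [hl, dSL_mulVec] at hφ
    have heq : (⟨w, hwV⟩ : V) = ⟨(l : G) * u * (l : G)⁻¹, h.conj_mem l ⟨u, huV⟩⟩ := by
      apply h.φ_bij.1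
      rw [hφ]
      ext i
      fin_cases i
      · simp only [Fin.zero_eta, Fin.isValue, Matrix.cons_val_zero]
        field_simp
      · simp only [Fin.mk_one, Fin.isValue, Matrix.cons_val_one, Matrix.cons_val_zero]
        rw [hw0, hu0, mul_zero]
    have : w = (l : G) * u * (l : G)⁻¹ := congrArg Subtype.val heq
    rw [this]
    exact hconjU

theorem quot_irreducible (h : IsStdModel V L T ρ φ) (U : Subgroup G)
    (hle : V ⊓ Subgroup.centralizer (T : Set G) ≤ U) (hUV : U ≤ V)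
    (hN : L ⊓ Subgroup.normalizer (T : Set G) ≤ Subgroup.normalizer (U : Set G)) :
    U = V ⊓ Subgroup.centralizer (T : Set G) ∨ U = V := by
  by_cases hU : U ≤ V ⊓ Subgroup.centralizer (T : Set G)
  · exact Or.inl (le_antisymm hU hle)
  right
  obtain ⟨u, huU, hufix⟩ := SetLike.not_le_iff_exists.mp hU
  have huV : u ∈ V := hUV huU
  have hb : φ ⟨u, huV⟩ 1 ≠ 0 := fun h0 => hufix ((h.mem_fix_iff u).mpr ⟨huV, h0⟩)
  obtain ⟨u', hu'⟩ := h.φ_bij.2 ![- φ ⟨u, huV⟩ 0, 0]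
  have hu'U : (u' : G) ∈ U := hle ((h.mem_fix_iff _).mpr ⟨u'.2, by
    change φ u' 1 = 0
    rw [hu']; rfl⟩)
  have hu₂U : u * (u' : G) ∈ U := U.mul_mem huU hu'U
  have hφ₂ : φ (⟨u, huV⟩ * u') = ![0, φ ⟨u, huV⟩ 1] := by
    rw [h.φ_mul, hu']
    ext i
    fin_cases i <;> simp
  apply le_antisymm hUV
  intro v hv
  by_cases hx1 : φ ⟨v, hv⟩ 1 = 0
  · exact hle ((h.mem_fix_iff v).mpr ⟨hv, hx1⟩)
  · have hlam : φ ⟨u, huV⟩ 1 / φ ⟨v, hv⟩ 1 ≠ 0 := div_ne_zero hb hx1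
    obtain ⟨l, hl, hlN⟩ := h.exists_of_dSL _ hlam
    have hlU : (l : G) ∈ Subgroup.normalizer (U : Set G) := hN ⟨l.2, hlN⟩
    have hconjU : (l : G) * (u * (u' : G)) * (l : G)⁻¹ ∈ U :=
      (Subgroup.mem_normalizer_iff.mp hlU _).mp hu₂U
    have hφ := h.φ_conj l (⟨u, huV⟩ * u')
    rw [hl, dSL_mulVec, hφ₂] at hφ
    obtain ⟨v₀, hv₀⟩ := h.φ_bij.2 ![φ ⟨v, hv⟩ 0, 0]
    have hv₀U : (v₀ : G) ∈ U := hle ((h.mem_fix_iff _).mpr ⟨v₀.2, by
      change φ v₀ 1 = 0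
      rw [hv₀]; rfl⟩)
    have heq : (⟨v, hv⟩ : V) = v₀ * ⟨(l : G) * ((⟨u, huV⟩ * u' : V) : G) * (l : G)⁻¹,
        h.conj_mem l (⟨u, huV⟩ * u')⟩ := by
      apply h.φ_bij.1
      rw [h.φ_mul, hφ, hv₀]
      ext i
      fin_cases i
      · simp
      · simp only [Fin.mk_one, Fin.isValue, Pi.add_apply, Matrix.cons_val_one,
          Matrix.cons_val_zero, zero_add]
        field_simp
    have : v = (v₀ : G) * ((l : G) * (u * (u' : G)) * (l : G)⁻¹) := congrArg Subtype.val heq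
    rw [this]
    exact U.mul_mem hv₀U hconjU

end IsStdModel

end model

end Cfsg.Agent.Lib.Helper13.NatSL2
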