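import Mathlib
import Cfsg.Prelude.Def_GeometricClasses
import Cfsg.Agent.Lib.Helper20.AschDefs
import Cfsg.Agent.Lib.Helper29.SpAschDefs
import Cfsg.Agent.Lib.Helper29.SpAschTools
import Cfsg.Agent.Lib.Helper29.SpAschQU
import Cfsg.Agent.Lib.Helper18.OAschDefs
import Cfsg.Agent.Lib.Helper18.OAschG
import Cfsg.Agent.Lib.Helper13.DSCCore

/-!
S5673 (Aschbacher for `Ω_{2m+1}(q)`, `q` odd; planner helper18), packet **O-OB** of `notes/S5673_leaves.lean` (exact signatures):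
basics of `bfm`, `qf`, `isoG`, `adjM` for a symmetric invertible Gram matrix, plus NIL1 `sq_eq_one_of_scalar_isoG'`, UNI2
`unitary_conj'` (copies of the symplectic proofs with `G.det ≠ 0` in place of `IsAltGram`) and the restated `dsc_core`
(adapter on `Cfsg.Agent.Lib.Helper13.DSC.dsc_core`).
-/

set_option autoImplicit false
set_option linter.unusedSectionVars false
set_option linter.unusedVariables false

namespace Cfsg.Agent.Lib.Helper13.OAschLeaf
open Matrix Cfsg Cfsg.Geo Cfsg.Agent.Lib.Helper20.Asch Cfsg.Agent.Lib.Helper29.SpAsch Cfsg.Agent.Lib.Helper18.OAsch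
  Cfsg.Agent.Lib.Helper27.AschO4
open scoped Kronecker

variable {F : Type*} [Field F] [Fintype F] {n : ℕ} {G : Matrix (Fin n) (Fin n) F} {H N : Subgroup (GL (Fin n) F)}

section basics
variable {κ : Type} [Fintype κ] [DecidableEq κ]

/-- OB1 -/
theorem two_ne_zero_of_odd (h : Odd (Fintype.card F)) : (2 : F) ≠ 0 := by
  intro h2
  have h1 : addOrderOf (1 : F) ∣ 2 := by
    apply addOrderOf_dvd_of_nsmul_eq_zero
    rw [nsmul_eq_mul, mul_one]
    exact_mod_cast h2
  have h3 : addOrderOf (1 : F) ∣ Fintype.card F := addOrderOf_dvd_card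
  rcases (Nat.dvd_prime Nat.prime_two).1 h1 with h4 | h4
  · rw [AddMonoid.addOrderOf_eq_one_iff] at h4
    exact one_ne_zero h4
  · rw [h4] at h3
    exact (Nat.not_even_iff_odd.2 h) (even_iff_two_dvd.2 h3)

/-- OB2 -/
theorem bfm_symm {G : Matrix κ κ F} (hs : Gᵀ = G) (u v : κ → F) : bfm G u v = bfm G v u :=
  bf_symm G hs u v

/-- OB3 -/
theorem gramMatrix_bfm (G : Matrix κ κ F) : gramMatrix (bfm G) = G := by
  ext a b
  unfold gramMatrix
  exact bfm_entry a b

/-- OB4 -/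
theorem isSymmetricForm_bfm {G : Matrix κ κ F} (hs : Gᵀ = G) (hd : G.det ≠ 0) : IsSymmetricForm (bfm G) :=
  ⟨bfm_bilinear G, bfm_symm hs, bf_nondeg G hd⟩

/-- OB5: `polar (qf G) u v = qf G (u + v) - qf G u - qf G v = bfm G u v` (symmetry and `2 ≠ 0`) -/
theorem polar_qf {G : Matrix κ κ F} (h2 : (2 : F) ≠ 0) (hs : Gᵀ = G) : QuadraticMap.polar (qf G) = bfm G := by
  funext u v
  unfold QuadraticMap.polar qf
  have hb := bfm_bilinear G
  rw [hb.add_left, hb.add_right, hb.add_right, bfm_symm hs v u]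
  field_simp
  ring

/-- OB7: in odd characteristic the isometries of `qf G` are the isometries of its polar form -/
theorem isometryGroup_qf {G : Matrix κ κ F} (h2 : (2 : F) ≠ 0) (hs : Gᵀ = G) : isometryGroup F (qf G) = isoG G := by
  ext g
  constructor
  · intro hg u v
    have hq : ∀ w : κ → F, qf G ((g : Matrix κ κ F) *ᵥ w) = qf G w := fun w => hg w w
    show bfm G ((g : Matrix κ κ F) *ᵥ u) ((g : Matrix κ κ F) *ᵥ v) = bfm G u v
    rw [← polar_qf h2 hs]
    unfold QuadraticMap.polar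
    rw [← Matrix.mulVec_add, hq, hq, hq]
  · intro hg u v
    have h := hg u u
    show qf G ((g : Matrix κ κ F) *ᵥ u) = qf G u
    unfold qf
    have h' : bfm G ((g : Matrix κ κ F) *ᵥ u) ((g : Matrix κ κ F) *ᵥ u) = bfm G u u := h
    rw [h']

/-- OB10 -/
theorem adjM_adjM {G : Matrix κ κ F} (hs : Gᵀ = G) (hd : G.det ≠ 0) (T : Matrix κ κ F) : adjM G (adjM G T) = T := by
  unfold adjM
  have hi : (G⁻¹)ᵀ = G⁻¹ := by rw [Matrix.transpose_nonsing_inv, hs]
  rw [Matrix.transpose_mul, Matrix.transpose_mul, Matrix.transpose_transpose, hs, hi]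
  calc G⁻¹ * (G * (T * G⁻¹)) * G = (G⁻¹ * G) * T * (G⁻¹ * G) := by simp only [mul_assoc]
    _ = T := by rw [J_inv_mul hd, one_mul, mul_one]

/-- OB16: `qf G` is a non-degenerate quadratic form -/
theorem isNondegenerateQuadraticForm_qf {G : Matrix κ κ F} (h2 : (2 : F) ≠ 0) (hs : Gᵀ = G) (hd : G.det ≠ 0) :
    IsNondegenerateQuadraticForm (qf G) := by
  refine ⟨?_, ?_, ?_⟩
  · intro c v
    unfold qf
    have hb := bfm_bilinear G
    rw [hb.smul_left, hb.smul_right]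
    ring
  · rw [polar_qf h2 hs]
    exact bfm_bilinear G
  · rw [polar_qf h2 hs]
    exact bf_nondeg G hd

/-- OB15: Gram matrix of `bfm G` in the coordinates `x ↦ P (x ∘ e)` -/
theorem bfm_reindex {κ' : Type} [Fintype κ'] [DecidableEq κ'] (G P : Matrix κ κ F) (e : κ ≃ κ') (x y : κ' → F) :
    bfm G (P *ᵥ (x ∘ e)) (P *ᵥ (y ∘ e)) = bfm (Matrix.reindex e e (Pᵀ * G * P)) x y := by
  have h1 : bfm G (P *ᵥ (x ∘ e)) (P *ᵥ (y ∘ e)) = bfm (Pᵀ * G * P) (x ∘ e) (y ∘ e) :=
    (bf_congr G P (x ∘ e) (y ∘ e)).symm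
  rw [h1]
  unfold bfm
  rw [Matrix.reindex_apply, Matrix.submatrix_mulVec_equiv, Equiv.symm_symm]
  exact (dotProduct_comp_equiv_symm _ _ e).symm

end basics

/-- OB8: `Q = qf G` for `G = gramMatrix (polar Q)` -/
theorem og_of_octx {Q : (Fin n → F) → F} (hc : OCtx Q) : ∃ G : Matrix (Fin n) (Fin n) F, OG G ∧ Q = qf G := by
  have h2 := two_ne_zero_of_odd hc.oddq
  have hb := hc.nd.polar_bilinear
  have hrep : ∀ u v, QuadraticMap.polar Q u v = bfm (gramMatrix (QuadraticMap.polar Q)) u v := by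
    intro u v
    have := Cfsg.Agent.Lib.Helper7.AschLeaf.rep_of (RingHom.id F) (QuadraticMap.polar Q) hb.add_left hb.smul_left
      hb.add_right (by intro c v x; simpa using hb.smul_right c v x) u v
    rw [this]
    rfl
  have hdet : (gramMatrix (QuadraticMap.polar Q)).det ≠ 0 := by
    have := Cfsg.Agent.Lib.Helper7.AschLeaf.gram_det_ne_zero' (RingHom.id F) (QuadraticMap.polar Q)
      (fun u v => by rw [hrep u v]; rfl) hc.nd.nondegenerate
    exact this
  refine ⟨gramMatrix (QuadraticMap.polar Q), ⟨?_, hdet, hc.oddq, hc.oddn, hc.three, hc.disc⟩, ?_⟩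
  · ext a b
    rw [Matrix.transpose_apply]
    unfold gramMatrix
    exact QuadraticMap.polar_comm Q _ _
  · funext v
    unfold qf
    rw [← hrep]
    unfold QuadraticMap.polar
    have h4 : Q (v + v) = 4 * Q v := by
      have := hc.nd.smul 2 v
      rw [two_smul] at this
      rw [this]
      norm_num
    rw [h4]
    field_simp
    ring

/-! ## NIL1 -/

/-- a scalar `c • 1` of `isoG G` has `c * c = 1` (`n > 0`, `G ≠ 0`) -/
lemma scalar_sq' (hd : G.det ≠ 0) (hpos : 0 < n) {x : GL (Fin n) F} (hx : x ∈ isoG G) (c : F)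
    (hc : (x : Matrix (Fin n) (Fin n) F) = c • (1 : Matrix (Fin n) (Fin n) F)) : c * c = 1 := by
  have : Nonempty (Fin n) := ⟨⟨0, hpos⟩⟩
  rw [mem_isoG_iff, hc] at hx
  have h1 : (c * c) • G = G := by
    rw [Matrix.transpose_smul, Matrix.transpose_one, Matrix.smul_mul, Matrix.one_mul, Matrix.mul_smul,
      Matrix.mul_one, smul_smul] at hx
    exact hx
  have hG0 : G ≠ 0 := by
    intro h
    rw [h, Matrix.det_zero] at hd
    exact hd rfl
  by_contra hne
  apply hG0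
  have h2 : (c * c - 1) • G = 0 := by rw [sub_smul, h1, one_smul, sub_self]
  rcases smul_eq_zero.1 h2 with h | h
  · exact absurd (sub_eq_zero.1 h) hne
  · exact h

/-- NIL1: a scalar isometry of a non-zero bilinear form has square `1` -/
theorem sq_eq_one_of_scalar_isoG' (hd : G.det ≠ 0) {x : GL (Fin n) F} (hx : x ∈ isoG G)
    (hs : x ∈ scalars (Fin n) F) : x * x = 1 := by
  rcases Nat.eq_zero_or_pos n with h0 | hpos
  · subst h0
    exact Units.ext (Matrix.ext fun i => i.elim0)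
  obtain ⟨c, hc⟩ := (mem_scalars_iff _).1 hs
  have hcc := scalar_sq' hd hpos hx (c : F) hc
  apply Units.ext
  rw [Units.val_mul, hc, Units.val_one, Matrix.smul_mul, Matrix.one_mul, smul_smul, hcc, one_smul]

/-! ## DSC core, restated -/

/-- (DSC-core) as restated in `notes/S5673_leaves.lean` -/
theorem dsc_core (hd : G.det ≠ 0) (hI : H ≤ isoG G) (hN : N ≤ H) (hnorm : NormBy H N) (habs : AbsIrr N)
    (F₀ : Subfield F) (hF₀ : F₀ ≠ ⊤) (hreal : RealisableOver F₀ (matrixSet N)) :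
    ∃ (F₁ : Subfield F) (r : ℕ) (P : GL (Fin n) F) (ζ : F), r.Prime ∧ Fintype.card F = Nat.card F₁ ^ r ∧ ζ ≠ 0 ∧
      IsFormRationalStructure (bfm G) F₁ ζ P ∧ H ≤ subfieldSubgroup F₁ P :=
  Cfsg.Agent.Lib.Helper13.DSC.dsc_core hd hN hnorm habs (hN.trans hI) F₀ hF₀ hreal

/-! ## UNI2 -/

/-- UNI2 -/
theorem unitary_conj' (hd : G.det ≠ 0) (hNI : N ≤ isoG G) (σ : F ≃+* F) (U : Matrix (Fin n) (Fin n) F)
    (hU : U.det ≠ 0) (g : (Fin n → F) → (Fin n → F) → F)
    (hrep : ∀ u v : Fin n → F, g u v = u ⬝ᵥ (U *ᵥ (fun i => σ (v i))))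
    (hfix : FixesForm (matrixSet N) g) :
    ∃ C : GL (Fin n) F, ∀ x ∈ N, (x : Matrix (Fin n) (Fin n) F).map σ =
      ((C⁻¹ : GL (Fin n) F) : Matrix (Fin n) (Fin n) F) * (x : Matrix (Fin n) (Fin n) F) * (C : Matrix (Fin n) (Fin n) F) := by
  classical
  have hGi : U⁻¹ * U = 1 := Matrix.nonsing_inv_mul U (Ne.isUnit hU)
  have hGi' : U * U⁻¹ = 1 := Matrix.mul_nonsing_inv U (Ne.isUnit hU)
  let C : GL (Fin n) F := ⟨G⁻¹ * U, U⁻¹ * G, by
      calc G⁻¹ * U * (U⁻¹ * G) = G⁻¹ * (U * U⁻¹) * G := by simp only [mul_assoc]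
        _ = 1 := by rw [hGi', mul_one, J_inv_mul hd], by
      calc U⁻¹ * G * (G⁻¹ * U) = U⁻¹ * (G * G⁻¹) * U := by simp only [mul_assoc]
        _ = 1 := by rw [J_mul_inv hd, mul_one, hGi]⟩
  refine ⟨C, fun x hx => ?_⟩
  have hCv : (C : Matrix (Fin n) (Fin n) F) = G⁻¹ * U := rfl
  have hCi : ((C⁻¹ : GL (Fin n) F) : Matrix (Fin n) (Fin n) F) = U⁻¹ * G := rfl
  have hJx : (x : Matrix (Fin n) (Fin n) F)ᵀ * G * (x : Matrix (Fin n) (Fin n) F) = G :=
    (mem_isoG_iff x).1 (hNI hx)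
  have hGx : (x : Matrix (Fin n) (Fin n) F)ᵀ * U * (x : Matrix (Fin n) (Fin n) F).map σ = U := by
    apply Cfsg.Agent.Lib.Helper7.AschLeaf.eq_of_forall_dot (σ : F →+* F)
    intro u v
    have h1 := hfix _ ⟨x, hx, rfl⟩ u v
    rw [hrep, hrep] at h1
    have h2 := Cfsg.Agent.Lib.Helper7.AschLeaf.dot_conj (σ : F →+* F) U
      (x : Matrix (Fin n) (Fin n) F) u v
    exact h2.symm.trans h1
  have h1 := Cfsg.Agent.Lib.Helper29.SpAschLeaf.conj_mul_transpose hd _ hJx
  have h2 : U * (x : Matrix (Fin n) (Fin n) F).map σ =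
      G * (x : Matrix (Fin n) (Fin n) F) * G⁻¹ * U := by
    calc U * (x : Matrix (Fin n) (Fin n) F).map σ
        = (G * (x : Matrix (Fin n) (Fin n) F) * G⁻¹ * (x : Matrix (Fin n) (Fin n) F)ᵀ) *
            (U * (x : Matrix (Fin n) (Fin n) F).map σ) := by rw [h1, one_mul]
      _ = G * (x : Matrix (Fin n) (Fin n) F) * G⁻¹ *
            ((x : Matrix (Fin n) (Fin n) F)ᵀ * U * (x : Matrix (Fin n) (Fin n) F).map σ) := by
          simp only [mul_assoc]
      _ = _ := by rw [hGx]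
  rw [hCv, hCi]
  calc (x : Matrix (Fin n) (Fin n) F).map σ
      = (U⁻¹ * U) * (x : Matrix (Fin n) (Fin n) F).map σ := by rw [hGi, one_mul]
    _ = U⁻¹ * (U * (x : Matrix (Fin n) (Fin n) F).map σ) := by rw [mul_assoc]
    _ = U⁻¹ * G * (x : Matrix (Fin n) (Fin n) F) * (G⁻¹ * U) := by rw [h2]; simp only [mul_assoc]

end Cfsg.Agent.Lib.Helper13.OAschLeaf
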