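import Mathlib
import Cfsg.Prelude.Def_GeometricClasses
import Cfsg.Agent.Lib.Helper20.AschDefs
import Cfsg.Agent.Lib.Helper29.SpAschDefs
import Cfsg.Agent.Lib.Helper29.SpAschTools
import Cfsg.Agent.Lib.Helper18.OAschDefs
import Cfsg.Agent.Lib.Helper18.OAschG
import Cfsg.Agent.Lib.Helper18.AschA89Defs
import Cfsg.Agent.Lib.Helper20.AschA89WR
import Cfsg.Agent.Lib.Helper20.AschA89F2J
import Cfsg.Agent.Lib.Helper6.TWQ1
import Cfsg.Agent.Lib.Helper6.TWSlot
import Cfsg.Agent.Lib.Helper12.TWTS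
import Cfsg.Agent.Lib.Helper13.OAschOB

/-!
S5673 (Aschbacher for `Ω_{2m+1}(q)`, `q` odd; planner helper18), packet **O-PRF** of `notes/S5673_leaves.lean` (exact signatures):
`gram_ptens` (the Gram matrix in tensor coordinates is a scalar multiple of a pure tensor), `ptens_symm_odd`, `tensorPower_of_gram`,
`simple_of_core'`; `ptens_equalise` is in `OAschPRF2` (it uses the packets TNS4 / WC).
-/

set_option autoImplicit false
set_option linter.unusedSectionVars false
set_option linter.unusedVariables false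

namespace Cfsg.Agent.Lib.Helper13.OAschLeaf
open Matrix Cfsg Cfsg.Geo Cfsg.Agent.Lib.Helper20.Asch Cfsg.Agent.Lib.Helper29.SpAsch Cfsg.Agent.Lib.Helper18.OAsch
  Cfsg.Agent.Lib.Helper18.AschA89 Cfsg.Agent.Lib.Helper20.AschLeaf
open scoped Kronecker

variable {F : Type*} [Field F] [Fintype F] {n : ℕ} {G : Matrix (Fin n) (Fin n) F} {H N : Subgroup (GL (Fin n) F)}

/-! ## generic pieces (any field) -/

section pieces
variable {K : Type*} [Field K]

/-- transpose of a slot matrix -/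
lemma slot_transpose13 (m t : ℕ) (i : Fin t) (A : Matrix (Fin m) (Fin m) K) :
    (slot m t i A)ᵀ = slot m t i Aᵀ := by
  ext x y
  rw [Matrix.transpose_apply, slot_apply, slot_apply, Matrix.transpose_apply]
  have : (∀ j, j ≠ i → y j = x j) ↔ (∀ j, j ≠ i → x j = y j) :=
    ⟨fun h j hj => (h j hj).symm, fun h j hj => (h j hj).symm⟩
  simp only [this]

/-- the factors of an invertible pure tensor are invertible -/
lemma det_factor_ne_zero {m t : ℕ} (gs : Fin t → Matrix (Fin m) (Fin m) K)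
    (hdet : (ptens m t gs).det ≠ 0) (i : Fin t) : (gs i).det ≠ 0 := by
  intro h0
  obtain ⟨v, hv, hv0⟩ := Matrix.exists_mulVec_eq_zero_iff.mpr h0
  have hm : 0 < m := by
    rcases Nat.eq_zero_or_pos m with h | h
    · subst h
      exfalso
      apply hv
      funext a
      exact a.elim0
    · exact h
  have hB : gs i * Matrix.vecMulVec v (fun _ : Fin m => (1 : K)) = 0 := by
    rw [Matrix.mul_vecMulVec, hv0]
    ext a b
    simp [Matrix.vecMulVec_apply]
  have h1 : ptens m t gs * slot m t i (Matrix.vecMulVec v (fun _ : Fin m => (1 : K))) = 0 := by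
    rw [Cfsg.Agent.Lib.Helper12.TWLeaf.ptens_mul_slot, hB]
    ext x y
    rw [ptens_apply]
    exact Finset.prod_eq_zero (Finset.mem_univ i) (by rw [Function.update_self]; rfl)
  have h2 : slot m t i (Matrix.vecMulVec v (fun _ : Fin m => (1 : K))) = 0 := by
    have h3 := congrArg (fun X => (ptens m t gs)⁻¹ * X) h1
    simp only [mul_zero] at h3
    rw [← mul_assoc, Matrix.nonsing_inv_mul _ (isUnit_iff_ne_zero.2 hdet), one_mul] at h3
    exact h3
  have h4 : Matrix.vecMulVec v (fun _ : Fin m => (1 : K)) = 0 := by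
    apply Cfsg.Agent.Lib.Helper6.TWQ.slot_injective hm i
    rw [h2, Cfsg.Agent.Lib.Helper6.TWQ.slot_zero]
  apply hv
  funext a
  have := congrFun (congrFun h4 a) ⟨0, hm⟩
  simpa [Matrix.vecMulVec_apply] using this

/-- PRF2, any field -/
lemma ptens_symm_odd_gen (h2 : (2 : K) ≠ 0) {m r : ℕ} (hm : Odd m) (c : K) (hc : c ≠ 0)
    (gs : Fin r → Matrix (Fin m) (Fin m) K) (hsym : (c • ptens m r gs)ᵀ = c • ptens m r gs)
    (hdet : (c • ptens m r gs).det ≠ 0) : ∀ i, (gs i)ᵀ = gs i ∧ (gs i).det ≠ 0 := by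
  classical
  have hdetM : (ptens m r gs).det ≠ 0 := by
    rw [Matrix.det_smul] at hdet
    exact right_ne_zero_of_mul hdet
  have hsymM : ptens m r (fun i => (gs i)ᵀ) = ptens m r gs := by
    rw [← ptens_transpose]
    rw [Matrix.transpose_smul] at hsym
    exact smul_right_injective _ hc hsym
  have hM0 : ptens m r gs ≠ 0 := by
    intro h
    have hmpos : 0 < m := hm.pos
    have : Nonempty (Fin r → Fin m) := ⟨fun _ => ⟨0, hmpos⟩⟩
    rw [h, Matrix.det_zero] at hdetM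
    exact hdetM rfl
  obtain ⟨x0, y0, hxy⟩ : ∃ x0 y0, ptens m r gs x0 y0 ≠ 0 := by
    by_contra hcon
    push Not at hcon
    apply hM0
    ext x y
    exact hcon x y
  rw [ptens_apply] at hxy
  have hfac : ∀ j, gs j (x0 j) (y0 j) ≠ 0 := fun j => (Finset.prod_ne_zero_iff.1 hxy) j (Finset.mem_univ j)
  intro i
  have hdi := det_factor_ne_zero gs hdetM i
  refine ⟨?_, hdi⟩
  -- evaluate at updated indices
  have hev : ∀ (hs : Fin r → Matrix (Fin m) (Fin m) K) (x y : Fin r → Fin m) (a b : Fin m),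
      ptens m r hs (Function.update x i a) (Function.update y i b) =
        hs i a b * ∏ j ∈ Finset.univ.erase i, hs j (x j) (y j) := by
    intro hs x y a b
    rw [ptens_apply, ← Finset.mul_prod_erase Finset.univ _ (Finset.mem_univ i), Function.update_self,
      Function.update_self]
    congr 1
    apply Finset.prod_congr rfl
    intro j hj
    have hji : j ≠ i := Finset.ne_of_mem_erase hj
    rw [Function.update_of_ne hji, Function.update_of_ne hji]
  obtain ⟨k, hk⟩ : ∃ k, k = ∏ j ∈ Finset.univ.erase i, gs j (x0 j) (y0 j) := ⟨_, rfl⟩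
  obtain ⟨k', hk'⟩ : ∃ k', k' = ∏ j ∈ Finset.univ.erase i, gs j (y0 j) (x0 j) := ⟨_, rfl⟩
  have hk0 : k ≠ 0 := by
    rw [hk]
    apply Finset.prod_ne_zero_iff.2
    intro j _
    exact hfac j
  have heq : ∀ a b, gs i b a * k' = gs i a b * k := by
    intro a b
    have h := congrFun (congrFun hsymM (Function.update x0 i a)) (Function.update y0 i b)
    rw [hev, hev] at h
    rw [hk, hk']
    exact h
  have hk'0 : k' ≠ 0 := by
    have h := heq (x0 i) (y0 i)
    intro h0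
    rw [h0, mul_zero] at h
    exact mul_ne_zero (hfac i) hk0 h.symm
  obtain ⟨μ, hμ⟩ : ∃ μ, μ = k / k' := ⟨_, rfl⟩
  have hT : ∀ a b, gs i b a = μ * gs i a b := by
    intro a b
    have h := heq a b
    rw [hμ]
    field_simp
    linear_combination h
  have hμ2 : μ * μ = 1 := by
    have h1 := hT (x0 i) (y0 i)
    have h2' := hT (y0 i) (x0 i)
    rw [h1] at h2'
    have h3 : (μ * μ - 1) * gs i (x0 i) (y0 i) = 0 := by linear_combination -h2'
    rcases mul_eq_zero.1 h3 with h | h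
    · exact sub_eq_zero.1 h
    · exact absurd h (hfac i)
  have hμ1 : μ = 1 ∨ μ = -1 := by
    have h3 : (μ - 1) * (μ + 1) = 0 := by linear_combination hμ2
    rcases mul_eq_zero.1 h3 with h | h
    · exact Or.inl (sub_eq_zero.1 h)
    · exact Or.inr (eq_neg_of_add_eq_zero_left h)
  rcases hμ1 with h1 | h1
  · ext a b
    rw [Matrix.transpose_apply, hT b a, h1, one_mul]
  · exfalso
    apply hdi
    have hneg : (gs i)ᵀ = -gs i := by
      ext a b
      rw [Matrix.transpose_apply, Matrix.neg_apply, hT a b, h1]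
      ring
    have h3 : (gs i).det = -(gs i).det := by
      conv_lhs => rw [← Matrix.det_transpose, hneg, Matrix.det_neg, Fintype.card_fin, hm.neg_one_pow]
      ring
    have h4 : (2 : K) * (gs i).det = 0 := by linear_combination h3
    rcases mul_eq_zero.1 h4 with h | h
    · exact absurd h h2
    · exact h

end pieces

/-! ## PRF2 -/

/-- PRF2 -/
theorem ptens_symm_odd (h2 : (2 : F) ≠ 0) {m r : ℕ} (hm : Odd m) (c : F) (hc : c ≠ 0)
    (gs : Fin r → Matrix (Fin m) (Fin m) F) (hsym : (c • ptens m r gs)ᵀ = c • ptens m r gs)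
    (hdet : (c • ptens m r gs).det ≠ 0) : ∀ i, (gs i)ᵀ = gs i ∧ (gs i).det ≠ 0 :=
  ptens_symm_odd_gen h2 hm c hc gs hsym hdet

/-! ## PRF4 -/

/-- PRF4 -/
theorem tensorPower_of_gram {m r : ℕ} (e : Fin n ≃ (Fin r → Fin m)) (P : GL (Fin n) F) (c : F) (hc : c ≠ 0)
    (G₁ : Matrix (Fin m) (Fin m) F)
    (h : Matrix.reindex e e ((P : Matrix (Fin n) (Fin n) F)ᵀ * G * (P : Matrix (Fin n) (Fin n) F)) =
      c • ptens m r fun _ => G₁) :
    IsTensorPowerFormStructure id (bfm G) (bfm G₁) e P := by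
  refine ⟨c, hc, ?_⟩
  intro x y
  rw [bfm_reindex, h, gramMatrix_bfm]
  unfold bfm
  rw [dotProduct, Finset.mul_sum]
  apply Finset.sum_congr rfl
  intro a _
  rw [Matrix.mulVec, dotProduct, Finset.mul_sum, Finset.mul_sum]
  apply Finset.sum_congr rfl
  intro b _
  rw [Matrix.smul_apply, ptens_apply, smul_eq_mul, id]
  ring

/-! ## PRF5 -/

/-- PRF5: `Helper14.AschLeaf.simple_of_core` with an arbitrary proposition in place of `Geo H` (same proof) -/
theorem simple_of_core' {p : Prop} (hns : ¬ N ≤ scalars (Fin n) F)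
    (hcore : ∀ K : Subgroup (GL (Fin n) F), K ≤ N → NormBy N K → ¬ K ≤ scalars (Fin n) F → K ≠ N → p) :
    p ∨ IsSimpleGroup (N ⧸ (scalars (Fin n) F).subgroupOf N) := by
  classical
  by_cases hG : p
  · exact Or.inl hG
  right
  have hall : ∀ K : Subgroup (GL (Fin n) F), K ≤ N → NormBy N K → K ≤ scalars (Fin n) F ∨ K = N := by
    intro K hK hKn
    by_contra hcon
    push Not at hcon
    exact hG (hcore K hK hKn hcon.1 hcon.2)
  have hnt : Nontrivial (N ⧸ (scalars (Fin n) F).subgroupOf N) := by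
    by_contra hcon
    rw [not_nontrivial_iff_subsingleton] at hcon
    have h1 := QuotientGroup.subgroup_eq_top_of_subsingleton _ hcon
    rw [Subgroup.subgroupOf_eq_top] at h1
    exact hns h1
  refine { toNontrivial := hnt, eq_bot_or_eq_top_of_normal := ?_ }
  intro Kb hKb
  obtain ⟨K', hK'def⟩ : ∃ K' : Subgroup N,
      K' = Kb.comap (QuotientGroup.mk' ((scalars (Fin n) F).subgroupOf N)) := ⟨_, rfl⟩
  have hK'mem : ∀ x : N, x ∈ K' ↔
      (QuotientGroup.mk x : N ⧸ (scalars (Fin n) F).subgroupOf N) ∈ Kb := by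
    intro x
    rw [hK'def]
    rfl
  have hK'n : K'.Normal := by
    rw [hK'def]
    exact Subgroup.Normal.comap hKb _
  obtain ⟨K, hKdef⟩ : ∃ K : Subgroup (GL (Fin n) F), K = K'.map N.subtype := ⟨_, rfl⟩
  have hKN : K ≤ N := by rw [hKdef]; exact Subgroup.map_subtype_le K'
  have hKmem : ∀ x : N, (x : GL (Fin n) F) ∈ K ↔ x ∈ K' := by
    intro x
    rw [hKdef]
    constructor
    · rintro ⟨x'', hx'', hxx⟩
      have : x'' = x := Subtype.ext hxx
      rwa [this] at hx''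
    · intro hx
      exact ⟨x, hx, rfl⟩
  have hKnorm : NormBy N K := by
    intro y hy x hx
    have hxN : x ∈ N := hKN hx
    have h1 : (⟨x, hxN⟩ : N) ∈ K' := (hKmem ⟨x, hxN⟩).1 hx
    have h2 := hK'n.conj_mem ⟨x, hxN⟩ h1 ⟨y, hy⟩
    exact (hKmem _).2 h2
  rcases hall K hKN hKnorm with h1 | h1
  · left
    rw [eq_bot_iff]
    intro q hq
    obtain ⟨x', rfl⟩ := QuotientGroup.mk_surjective q
    have hx' : x' ∈ K' := (hK'mem x').2 hq
    have h2 : (x' : GL (Fin n) F) ∈ scalars (Fin n) F := h1 ((hKmem x').2 hx')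
    rw [Subgroup.mem_bot, QuotientGroup.eq_one_iff]
    exact h2
  · right
    rw [eq_top_iff]
    intro q _
    obtain ⟨x', rfl⟩ := QuotientGroup.mk_surjective q
    have h2 : (x' : GL (Fin n) F) ∈ K := h1 ▸ x'.2
    exact (hK'mem x').1 ((hKmem x').1 h2)

/-! ## PRF1 -/

/-- `adjM G` of a conjugated reindexed matrix, in the coordinates `(e, P)`:
`adjM G (conjR e P S) = conjR e P (Gi' * Sᵀ * G')` with `G' = reindex e e (Pᵀ G P)`, `Gi' = reindex e e (P⁻¹ G⁻¹ P⁻ᵀ)`. -/
lemma adjM_conjR13 (hd : G.det ≠ 0) {κ : Type} [Fintype κ] [DecidableEq κ] (e : Fin n ≃ κ) (P : GL (Fin n) F)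
    (S : Matrix κ κ F) :
    adjM G (conjR e P S) =
      conjR e P (Matrix.reindex e e (((P⁻¹ : GL (Fin n) F) : Matrix (Fin n) (Fin n) F) * G⁻¹ *
          ((P⁻¹ : GL (Fin n) F) : Matrix (Fin n) (Fin n) F)ᵀ) * Sᵀ *
        Matrix.reindex e e ((P : Matrix (Fin n) (Fin n) F)ᵀ * G * (P : Matrix (Fin n) (Fin n) F))) := by
  have hPP : (P : Matrix (Fin n) (Fin n) F) * ((P⁻¹ : GL (Fin n) F) : Matrix (Fin n) (Fin n) F) = 1 := by
    rw [← Units.val_mul, mul_inv_cancel, Units.val_one]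
  have hback : ∀ X : Matrix (Fin n) (Fin n) F, Matrix.reindex e.symm e.symm (Matrix.reindex e e X) = X := by
    intro X
    ext a b
    simp [Matrix.reindex_apply, Matrix.submatrix_apply]
  have hmul : ∀ X Y : Matrix κ κ F, Matrix.reindex e.symm e.symm (X * Y) =
      Matrix.reindex e.symm e.symm X * Matrix.reindex e.symm e.symm Y := by
    intro X Y
    simp only [Matrix.reindex_apply]
    rw [Matrix.submatrix_mul_equiv]
  have htr : Matrix.reindex e.symm e.symm Sᵀ = (Matrix.reindex e.symm e.symm S)ᵀ := by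
    ext a b
    simp [Matrix.reindex_apply, Matrix.submatrix_apply]
  unfold adjM conjR
  rw [hmul, hmul, hback, hback, htr]
  rw [Matrix.transpose_mul, Matrix.transpose_mul]
  obtain ⟨R, hR⟩ : ∃ R, R = (Matrix.reindex e.symm e.symm S)ᵀ := ⟨_, rfl⟩
  rw [← hR]
  calc G⁻¹ * (((P⁻¹ : GL (Fin n) F) : Matrix (Fin n) (Fin n) F)ᵀ * (R * (P : Matrix (Fin n) (Fin n) F)ᵀ)) * G
      = ((P : Matrix (Fin n) (Fin n) F) * ((P⁻¹ : GL (Fin n) F) : Matrix (Fin n) (Fin n) F)) * G⁻¹ *
          ((P⁻¹ : GL (Fin n) F) : Matrix (Fin n) (Fin n) F)ᵀ * R * (P : Matrix (Fin n) (Fin n) F)ᵀ * G *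
          ((P : Matrix (Fin n) (Fin n) F) * ((P⁻¹ : GL (Fin n) F) : Matrix (Fin n) (Fin n) F)) := by
        rw [hPP, one_mul, mul_one]; simp only [mul_assoc]
    _ = _ := by simp only [mul_assoc]

/-- (PRF-core) -/
theorem gram_ptens (hd : G.det ≠ 0) {m r : ℕ} (hm : 0 < m) (Nf : Fin r → Subgroup (GL (Fin n) F))
    (hNI : ∀ i, Nf i ≤ isoG G) (e : Fin n ≃ (Fin r → Fin m)) (P : GL (Fin n) F)
    (h1 : ∀ i, ∀ A : Matrix (Fin m) (Fin m) F, conjR e P (slot m r i A) ∈ Env (Nf i))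
    (h2 : ∀ i, ∀ T ∈ Env (Nf i), ∃ A : Matrix (Fin m) (Fin m) F, T = conjR e P (slot m r i A)) :
    ∃ (c : F) (gs : Fin r → Matrix (Fin m) (Fin m) F), c ≠ 0 ∧
      Matrix.reindex e e ((P : Matrix (Fin n) (Fin n) F)ᵀ * G * (P : Matrix (Fin n) (Fin n) F)) = c • ptens m r gs := by
  classical
  obtain ⟨G', hG'⟩ : ∃ G', G' = Matrix.reindex e e ((P : Matrix (Fin n) (Fin n) F)ᵀ * G *
      (P : Matrix (Fin n) (Fin n) F)) := ⟨_, rfl⟩
  obtain ⟨Gi', hGi'⟩ : ∃ Gi', Gi' = Matrix.reindex e e (((P⁻¹ : GL (Fin n) F) : Matrix (Fin n) (Fin n) F) * G⁻¹ *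
          ((P⁻¹ : GL (Fin n) F) : Matrix (Fin n) (Fin n) F)ᵀ) := ⟨_, rfl⟩
  have hPP : (P : Matrix (Fin n) (Fin n) F) * ((P⁻¹ : GL (Fin n) F) : Matrix (Fin n) (Fin n) F) = 1 := by
    rw [← Units.val_mul, mul_inv_cancel, Units.val_one]
  have hPP' : ((P⁻¹ : GL (Fin n) F) : Matrix (Fin n) (Fin n) F) * (P : Matrix (Fin n) (Fin n) F) = 1 := by
    rw [← Units.val_mul, inv_mul_cancel, Units.val_one]
  have hPPt : ((P⁻¹ : GL (Fin n) F) : Matrix (Fin n) (Fin n) F)ᵀ * (P : Matrix (Fin n) (Fin n) F)ᵀ = 1 := by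
    rw [← Matrix.transpose_mul, hPP, Matrix.transpose_one]
  have hPPt' : (P : Matrix (Fin n) (Fin n) F)ᵀ * ((P⁻¹ : GL (Fin n) F) : Matrix (Fin n) (Fin n) F)ᵀ = 1 := by
    rw [← Matrix.transpose_mul, hPP', Matrix.transpose_one]
  have hmulR : ∀ X Y : Matrix (Fin n) (Fin n) F, Matrix.reindex e e (X * Y) =
      Matrix.reindex e e X * Matrix.reindex e e Y := by
    intro X Y
    simp only [Matrix.reindex_apply]
    rw [Matrix.submatrix_mul_equiv]
  have honeR : Matrix.reindex e e (1 : Matrix (Fin n) (Fin n) F) = 1 := by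
    simp only [Matrix.reindex_apply]
    rw [Matrix.submatrix_one_equiv]
  have hGiG : Gi' * G' = 1 := by
    rw [hGi', hG', ← hmulR, ← honeR]
    congr 1
    calc ((P⁻¹ : GL (Fin n) F) : Matrix (Fin n) (Fin n) F) * G⁻¹ *
          ((P⁻¹ : GL (Fin n) F) : Matrix (Fin n) (Fin n) F)ᵀ *
          ((P : Matrix (Fin n) (Fin n) F)ᵀ * G * (P : Matrix (Fin n) (Fin n) F))
        = ((P⁻¹ : GL (Fin n) F) : Matrix (Fin n) (Fin n) F) * G⁻¹ *
          (((P⁻¹ : GL (Fin n) F) : Matrix (Fin n) (Fin n) F)ᵀ * (P : Matrix (Fin n) (Fin n) F)ᵀ) * G *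
            (P : Matrix (Fin n) (Fin n) F) := by simp only [mul_assoc]
      _ = ((P⁻¹ : GL (Fin n) F) : Matrix (Fin n) (Fin n) F) * (G⁻¹ * G) * (P : Matrix (Fin n) (Fin n) F) := by
          rw [hPPt, mul_one]; simp only [mul_assoc]
      _ = 1 := by rw [J_inv_mul hd, mul_one, hPP']
  have hGGi : G' * Gi' = 1 := mul_eq_one_comm.mp hGiG
  have hnorm : ∀ i, ∀ A : Matrix (Fin m) (Fin m) F, ∃ A' : Matrix (Fin m) (Fin m) F,
      Gi' * slot m r i A * G' = slot m r i A' := by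
    intro i A
    have hT := adjM_mem_Env hd (hNI i) (h1 i Aᵀ)
    obtain ⟨A', hA'⟩ := h2 i _ hT
    refine ⟨A', ?_⟩
    rw [adjM_conjR13 hd e P, ← hGi', ← hG', slot_transpose13, Matrix.transpose_transpose] at hA'
    exact conjR_injective e P hA'
  obtain ⟨c, gs, hc, hu, hGi⟩ := wr_pure_of_normalizes m hm r Gi' G' hGiG hGGi hnorm
  refine ⟨c⁻¹, fun i => (gs i)⁻¹, inv_ne_zero hc, ?_⟩
  rw [← hG']
  have hX : Gi' * (c⁻¹ • ptens m r fun i => (gs i)⁻¹) = 1 := by
    rw [hGi, Matrix.smul_mul, Matrix.mul_smul, smul_smul, mul_inv_cancel₀ hc, one_smul, ptens_mul]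
    have : (fun i => gs i * (gs i)⁻¹) = fun _ => (1 : Matrix (Fin m) (Fin m) F) := by
      funext i
      exact Matrix.mul_nonsing_inv _ (hu i)
    rw [this, ptens_one]
  calc G' = G' * (Gi' * (c⁻¹ • ptens m r fun i => (gs i)⁻¹)) := by rw [hX, mul_one]
    _ = (G' * Gi') * (c⁻¹ • ptens m r fun i => (gs i)⁻¹) := by rw [mul_assoc]
    _ = _ := by rw [hGGi, one_mul]

end Cfsg.Agent.Lib.Helper13.OAschLeaf
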