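import Mathlib
import Cfsg.Prelude.Def_GeometricClasses
import Cfsg.Agent.Lib.Helper20.AschDefs
import Cfsg.Agent.Lib.Helper29.SpAschDefs
import Cfsg.Agent.Lib.Helper29.SpAschTools
import Cfsg.Agent.Lib.Helper18.OAschDefs
import Cfsg.Agent.Lib.Helper18.OAschG
import Cfsg.Agent.Lib.Helper18.AschA89Defs
import Cfsg.Agent.Lib.Helper20.AschA89F2J
import Cfsg.Agent.Lib.Helper25.OAschTNSa

/-!
S5673 (planner helper18), packet O-PRF, leaf PRF3 `ptens_equalise` in CORE form: the change of basis inside the tensor factors (WC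
`wreath_change_basis`, packet O-WC) is a hypothesis `hwc`; the exact leaf is `OAschPRF3` (one line once O-WC is on main).
-/

set_option autoImplicit false
set_option linter.unusedSectionVars false
set_option linter.unusedVariables false

namespace Cfsg.Agent.Lib.Helper13.OAschLeaf
open Matrix Cfsg Cfsg.Geo Cfsg.Agent.Lib.Helper20.Asch Cfsg.Agent.Lib.Helper29.SpAsch Cfsg.Agent.Lib.Helper18.OAsch
  Cfsg.Agent.Lib.Helper18.AschA89 Cfsg.Agent.Lib.Helper20.AschLeaf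
open scoped Kronecker

variable {F : Type*} [Field F] [Fintype F] {n : ℕ} {G : Matrix (Fin n) (Fin n) F} {H N : Subgroup (GL (Fin n) F)}

/-- PRF3, core: all factors can be made equal; `hwc` = WC `wreath_change_basis e P` -/
theorem ptens_equalise_core (h2 : (2 : F) ≠ 0) {m r : ℕ} (hr : 0 < r) (hm : Odd m) (e : Fin n ≃ (Fin r → Fin m))
    (P : GL (Fin n) F)
    (hwc : ∀ bs : Fin r → GL (Fin m) F,
      ∃ P' : GL (Fin n) F, tensorWreathSubgroup m r e P' = tensorWreathSubgroup m r e P ∧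
        ∀ M : Matrix (Fin n) (Fin n) F,
          Matrix.reindex e e ((P' : Matrix (Fin n) (Fin n) F)ᵀ * M * (P' : Matrix (Fin n) (Fin n) F)) =
            (ptens m r fun i => ((bs i : GL (Fin m) F) : Matrix (Fin m) (Fin m) F))ᵀ *
              Matrix.reindex e e ((P : Matrix (Fin n) (Fin n) F)ᵀ * M * (P : Matrix (Fin n) (Fin n) F)) *
              ptens m r fun i => ((bs i : GL (Fin m) F) : Matrix (Fin m) (Fin m) F))
    (c : F) (hc : c ≠ 0) (gs : Fin r → Matrix (Fin m) (Fin m) F)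
    (hgs : ∀ i, (gs i)ᵀ = gs i ∧ (gs i).det ≠ 0)
    (h : Matrix.reindex e e ((P : Matrix (Fin n) (Fin n) F)ᵀ * G * (P : Matrix (Fin n) (Fin n) F)) = c • ptens m r gs) :
    ∃ (P' : GL (Fin n) F) (c' : F) (G₁ : Matrix (Fin m) (Fin m) F), c' ≠ 0 ∧ G₁ᵀ = G₁ ∧ G₁.det ≠ 0 ∧
      tensorWreathSubgroup m r e P' = tensorWreathSubgroup m r e P ∧
      Matrix.reindex e e ((P' : Matrix (Fin n) (Fin n) F)ᵀ * G * (P' : Matrix (Fin n) (Fin n) F)) =
        c' • ptens m r fun _ => G₁ := by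
  classical
  obtain ⟨i₀, hi₀⟩ : ∃ i₀ : Fin r, i₀ = ⟨0, hr⟩ := ⟨_, rfl⟩
  have hsim : ∀ i, ∃ (ci : F) (b : GL (Fin m) F), ci ≠ 0 ∧
      gs i = ci • ((b : Matrix (Fin m) (Fin m) F)ᵀ * gs i₀ * (b : Matrix (Fin m) (Fin m) F)) := fun i =>
    Cfsg.Agent.Lib.Helper25.OAschLeaf.exists_similar_odd h2 hm (gs i₀) (gs i) (hgs i₀).1 (hgs i).1 (hgs i₀).2 (hgs i).2
  choose cs b hcs hb using hsim
  obtain ⟨P', hP', hM⟩ := hwc (fun i => (b i)⁻¹)
  refine ⟨P', c * ∏ i, cs i, gs i₀, mul_ne_zero hc (Finset.prod_ne_zero_iff.2 fun i _ => hcs i), (hgs i₀).1,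
    (hgs i₀).2, hP', ?_⟩
  rw [hM G, h, ptens_transpose, Matrix.mul_smul, Matrix.smul_mul, ptens_mul, ptens_mul, mul_smul, ← ptens_smul]
  congr 2
  funext i
  have h1 : (((b i)⁻¹ : GL (Fin m) F) : Matrix (Fin m) (Fin m) F) * ((b i : GL (Fin m) F) : Matrix (Fin m) (Fin m) F) = 1 := by
    rw [← Units.val_mul, inv_mul_cancel, Units.val_one]
  have h1' : ((b i : GL (Fin m) F) : Matrix (Fin m) (Fin m) F) * (((b i)⁻¹ : GL (Fin m) F) : Matrix (Fin m) (Fin m) F) = 1 := by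
    rw [← Units.val_mul, mul_inv_cancel, Units.val_one]
  have h1t : (((b i)⁻¹ : GL (Fin m) F) : Matrix (Fin m) (Fin m) F)ᵀ * ((b i : GL (Fin m) F) : Matrix (Fin m) (Fin m) F)ᵀ = 1 := by
    rw [← Matrix.transpose_mul, h1', Matrix.transpose_one]
  show (((b i)⁻¹ : GL (Fin m) F) : Matrix (Fin m) (Fin m) F)ᵀ * gs i * (((b i)⁻¹ : GL (Fin m) F) : Matrix (Fin m) (Fin m) F) =
    cs i • gs i₀
  rw [hb i, Matrix.mul_smul, Matrix.smul_mul]
  congr 1
  calc (((b i)⁻¹ : GL (Fin m) F) : Matrix (Fin m) (Fin m) F)ᵀ *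
        (((b i : GL (Fin m) F) : Matrix (Fin m) (Fin m) F)ᵀ * gs i₀ * ((b i : GL (Fin m) F) : Matrix (Fin m) (Fin m) F)) *
        (((b i)⁻¹ : GL (Fin m) F) : Matrix (Fin m) (Fin m) F)
      = ((((b i)⁻¹ : GL (Fin m) F) : Matrix (Fin m) (Fin m) F)ᵀ * ((b i : GL (Fin m) F) : Matrix (Fin m) (Fin m) F)ᵀ) * gs i₀ *
        (((b i : GL (Fin m) F) : Matrix (Fin m) (Fin m) F) * (((b i)⁻¹ : GL (Fin m) F) : Matrix (Fin m) (Fin m) F)) := by
        simp only [mul_assoc]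
    _ = gs i₀ := by rw [h1t, h1', one_mul, mul_one]

end Cfsg.Agent.Lib.Helper13.OAschLeaf
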