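import Mathlib
import Cfsg.Prelude.Def_GeometricClasses
import Cfsg.Agent.Lib.Helper20.AschDefs
import Cfsg.Agent.Lib.Helper18.AschA89Defs
import Cfsg.Agent.Lib.Helper20.AschA89F2J
import Cfsg.Agent.Lib.Helper23.SpPrfB5
import Cfsg.Agent.Lib.Helper13.OAschPRF2

/-!
S5673 (planner helper18), packet O-PRF, leaf PRF3 `ptens_equalise` (exact signature of `notes/S5673_leaves.lean`), on the core
`ptens_equalise_core` and a local proof `wreath_change_basis13` of the change of basis inside the tensor factors (same statement as the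
leaf WC `wreath_change_basis`; on helper23's `tensorWreathSubgroup_mul_right`).
-/

set_option autoImplicit false
set_option linter.unusedSectionVars false
set_option linter.unusedVariables false

namespace Cfsg.Agent.Lib.Helper13.OAschLeaf
open Matrix Cfsg Cfsg.Geo Cfsg.Agent.Lib.Helper20.Asch Cfsg.Agent.Lib.Helper29.SpAsch Cfsg.Agent.Lib.Helper18.OAsch
  Cfsg.Agent.Lib.Helper18.AschA89 Cfsg.Agent.Lib.Helper20.AschLeaf
open scoped Kronecker

variable {F : Type*} [Field F] [Fintype F] {n : ℕ} {G : Matrix (Fin n) (Fin n) F} {H N : Subgroup (GL (Fin n) F)}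

/-- the pure tensor of invertible matrices, as an element of `GL` -/
def ptensGL13 {k t : ℕ} (bs : Fin t → GL (Fin k) F) : GL (Fin t → Fin k) F :=
  ⟨ptens k t fun i => ((bs i : GL (Fin k) F) : Matrix (Fin k) (Fin k) F),
   ptens k t fun i => (((bs i)⁻¹ : GL (Fin k) F) : Matrix (Fin k) (Fin k) F), by
    rw [ptens_mul]
    have : (fun i => ((bs i : GL (Fin k) F) : Matrix (Fin k) (Fin k) F) *
        (((bs i)⁻¹ : GL (Fin k) F) : Matrix (Fin k) (Fin k) F)) = fun _ => 1 := by
      funext i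
      rw [← Units.val_mul, mul_inv_cancel, Units.val_one]
    rw [this, ptens_one], by
    rw [ptens_mul]
    have : (fun i => (((bs i)⁻¹ : GL (Fin k) F) : Matrix (Fin k) (Fin k) F) *
        ((bs i : GL (Fin k) F) : Matrix (Fin k) (Fin k) F)) = fun _ => 1 := by
      funext i
      rw [← Units.val_mul, inv_mul_cancel, Units.val_one]
    rw [this, ptens_one]⟩

lemma ptensGL13_mem {k t : ℕ} (bs : Fin t → GL (Fin k) F) : ptensGL13 bs ∈ tensorWreathStandard k t F :=
  Subgroup.subset_closure (Or.inl ⟨bs, fun x y => rfl⟩)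

/-- WC (local proof): change of basis inside the tensor factors -/
theorem wreath_change_basis13 {k t : ℕ} (e : Fin n ≃ (Fin t → Fin k)) (P : GL (Fin n) F) (bs : Fin t → GL (Fin k) F) :
    ∃ P' : GL (Fin n) F, tensorWreathSubgroup k t e P' = tensorWreathSubgroup k t e P ∧
      ∀ M : Matrix (Fin n) (Fin n) F,
        Matrix.reindex e e ((P' : Matrix (Fin n) (Fin n) F)ᵀ * M * (P' : Matrix (Fin n) (Fin n) F)) =
          (ptens k t fun i => ((bs i : GL (Fin k) F) : Matrix (Fin k) (Fin k) F))ᵀ *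
            Matrix.reindex e e ((P : Matrix (Fin n) (Fin n) F)ᵀ * M * (P : Matrix (Fin n) (Fin n) F)) *
            ptens k t fun i => ((bs i : GL (Fin k) F) : Matrix (Fin k) (Fin k) F) := by
  refine ⟨P * glReindex e.symm (ptensGL13 bs),
    Cfsg.Agent.Lib.Helper23.SpPrfLeaf.tensorWreathSubgroup_mul_right e P _ (ptensGL13_mem bs), ?_⟩
  intro M
  obtain ⟨W, hW⟩ : ∃ W, W = ptens k t fun i => ((bs i : GL (Fin k) F) : Matrix (Fin k) (Fin k) F) := ⟨_, rfl⟩
  have hval : ((P * glReindex e.symm (ptensGL13 bs) : GL (Fin n) F) : Matrix (Fin n) (Fin n) F) =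
      (P : Matrix (Fin n) (Fin n) F) * Matrix.reindex e.symm e.symm W := by
    rw [Units.val_mul, hW]
    rfl
  rw [hval, ← hW]
  have hmulR : ∀ X Y : Matrix (Fin n) (Fin n) F, Matrix.reindex e e (X * Y) =
      Matrix.reindex e e X * Matrix.reindex e e Y := by
    intro X Y
    simp only [Matrix.reindex_apply]
    rw [Matrix.submatrix_mul_equiv]
  have hback : Matrix.reindex e e (Matrix.reindex e.symm e.symm W) = W := by
    ext a b
    simp [Matrix.reindex_apply, Matrix.submatrix_apply]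
  have hbackT : Matrix.reindex e e (Matrix.reindex e.symm e.symm W)ᵀ = Wᵀ := by
    ext a b
    simp [Matrix.reindex_apply, Matrix.submatrix_apply]
  rw [Matrix.transpose_mul]
  calc Matrix.reindex e e ((Matrix.reindex e.symm e.symm W)ᵀ * (P : Matrix (Fin n) (Fin n) F)ᵀ * M *
        ((P : Matrix (Fin n) (Fin n) F) * Matrix.reindex e.symm e.symm W))
      = Matrix.reindex e e ((Matrix.reindex e.symm e.symm W)ᵀ *
          ((P : Matrix (Fin n) (Fin n) F)ᵀ * M * (P : Matrix (Fin n) (Fin n) F)) * Matrix.reindex e.symm e.symm W) := by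
        simp only [mul_assoc]
    _ = _ := by rw [hmulR, hmulR, hback, hbackT]

/-- PRF3 -/
theorem ptens_equalise (h2 : (2 : F) ≠ 0) {m r : ℕ} (hr : 0 < r) (hm : Odd m) (e : Fin n ≃ (Fin r → Fin m))
    (P : GL (Fin n) F) (c : F) (hc : c ≠ 0) (gs : Fin r → Matrix (Fin m) (Fin m) F)
    (hgs : ∀ i, (gs i)ᵀ = gs i ∧ (gs i).det ≠ 0)
    (h : Matrix.reindex e e ((P : Matrix (Fin n) (Fin n) F)ᵀ * G * (P : Matrix (Fin n) (Fin n) F)) = c • ptens m r gs) :
    ∃ (P' : GL (Fin n) F) (c' : F) (G₁ : Matrix (Fin m) (Fin m) F), c' ≠ 0 ∧ G₁ᵀ = G₁ ∧ G₁.det ≠ 0 ∧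
      tensorWreathSubgroup m r e P' = tensorWreathSubgroup m r e P ∧
      Matrix.reindex e e ((P' : Matrix (Fin n) (Fin n) F)ᵀ * G * (P' : Matrix (Fin n) (Fin n) F)) =
        c' • ptens m r fun _ => G₁ :=
  ptens_equalise_core h2 hr hm e P (wreath_change_basis13 e P) c hc gs hgs h

end Cfsg.Agent.Lib.Helper13.OAschLeaf
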