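import Mathlib
import Cfsg.Agent.Lib.Lead.OEDefs
import Cfsg.Agent.Lib.Helper29.SpAschDefs
import Cfsg.Agent.Lib.Helper29.SpAschTools
import Cfsg.Agent.Lib.Helper7.AschForms
import Cfsg.Agent.Lib.Helper17.SpAschQ0

/-!
OMEGA-EVEN (planner lead), common BRIDGE (helper13): a non-degenerate quadratic form `Q` on `F^n` (any characteristic) and the Gram matrix
`gramQ Q := gramMatrix (polar Q)` of its polar form: `polar Q = bfm (gramQ Q)`, `(gramQ Q)ᵀ = gramQ Q`, `det (gramQ Q) ≠ 0`,
`isometryGroup F Q ≤ isoG (gramQ Q)`, basic identities for `Q`, and the common lemma [E-Q0] `d_eq_zero` (all characteristics; char 2 =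
helper17's `additive_invariant_zero`).
-/

set_option autoImplicit false
set_option linter.unusedSectionVars false
set_option linter.unusedVariables false

namespace Cfsg.Agent.Lib.Helper13.OE
open Matrix Cfsg Cfsg.Geo Cfsg.Agent.Lib.Helper20.Asch Cfsg.Agent.Lib.Lead.OE Cfsg.Agent.Lib.Helper29.SpAsch
open scoped Kronecker

variable {F : Type*} [Field F] [Fintype F] {n : ℕ} {Q : (Fin n → F) → F}
  {H N : Subgroup (GL (Fin n) F)}

/-- the Gram matrix of the polar form of `Q` -/
def gramQ (Q : (Fin n → F) → F) : Matrix (Fin n) (Fin n) F := gramMatrix (QuadraticMap.polar Q)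

/-- `polar Q = bfm (gramQ Q)` -/
theorem polar_eq_bfm (hQ : IsNondegenerateQuadraticForm Q) : QuadraticMap.polar Q = bfm (gramQ Q) := by
  funext u v
  have hb := hQ.polar_bilinear
  have := Cfsg.Agent.Lib.Helper7.AschLeaf.rep_of (RingHom.id F) (QuadraticMap.polar Q) hb.add_left hb.smul_left
    hb.add_right (by intro c v x; simpa using hb.smul_right c v x) u v
  rw [this]
  rfl

theorem polar_apply (hQ : IsNondegenerateQuadraticForm Q) (u v : Fin n → F) :
    QuadraticMap.polar Q u v = bfm (gramQ Q) u v := by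
  rw [polar_eq_bfm hQ]

/-- the Gram matrix is invertible -/
theorem gramQ_det (hQ : IsNondegenerateQuadraticForm Q) : (gramQ Q).det ≠ 0 := by
  have := Cfsg.Agent.Lib.Helper7.AschLeaf.gram_det_ne_zero' (RingHom.id F) (QuadraticMap.polar Q)
    (fun u v => by rw [polar_apply hQ u v]; rfl) hQ.nondegenerate
  exact this

/-- the Gram matrix is symmetric -/
theorem gramQ_symm (Q : (Fin n → F) → F) : (gramQ Q)ᵀ = gramQ Q := by
  ext a b
  rw [Matrix.transpose_apply]
  unfold gramQ gramMatrix
  exact QuadraticMap.polar_comm Q _ _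

/-- `Q 0 = 0` -/
theorem Q_zero (hQ : IsNondegenerateQuadraticForm Q) : Q 0 = 0 := by
  have := hQ.smul 0 0
  rw [zero_smul] at this
  rw [this]
  ring

/-- `Q (u + v) = Q u + Q v + polar Q u v` -/
theorem Q_add (Q : (Fin n → F) → F) (u v : Fin n → F) : Q (u + v) = Q u + Q v + QuadraticMap.polar Q u v := by
  unfold QuadraticMap.polar
  ring

/-- `polar Q v v = 2 * Q v` -/
theorem polar_self (hQ : IsNondegenerateQuadraticForm Q) (v : Fin n → F) :
    QuadraticMap.polar Q v v = 2 * Q v := by
  unfold QuadraticMap.polar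
  have h1 : v + v = (2 : F) • v := by rw [two_smul]
  rw [h1, hQ.smul]
  ring

/-- in characteristic 2 the Gram matrix has zero diagonal -/
theorem gramQ_diag (hQ : IsNondegenerateQuadraticForm Q) (h2 : (2 : F) = 0) (i : Fin n) : gramQ Q i i = 0 := by
  unfold gramQ gramMatrix
  rw [polar_self hQ, h2, zero_mul]

/-- in characteristic 2 the Gram matrix is alternating -/
theorem isAltGram_gramQ (hQ : IsNondegenerateQuadraticForm Q) (h2 : (2 : F) = 0) : IsAltGram (gramQ Q) := by
  refine ⟨?_, gramQ_diag hQ h2, gramQ_det hQ⟩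
  rw [gramQ_symm]
  have hneg : ∀ x : F, -x = x := by
    intro x
    linear_combination (-x) * h2
  ext a b
  rw [Matrix.neg_apply, hneg]

/-- isometries of `Q` are isometries of the polar form -/
theorem isometryGroup_le_isoG (hQ : IsNondegenerateQuadraticForm Q) : isometryGroup F Q ≤ isoG (gramQ Q) := by
  intro g hg u v
  have hq : ∀ w : Fin n → F, Q ((g : Matrix (Fin n) (Fin n) F) *ᵥ w) = Q w := fun w => hg w w
  show bfm (gramQ Q) ((g : Matrix (Fin n) (Fin n) F) *ᵥ u) ((g : Matrix (Fin n) (Fin n) F) *ᵥ v) = bfm (gramQ Q) u v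
  rw [← polar_eq_bfm hQ]
  unfold QuadraticMap.polar
  rw [← Matrix.mulVec_add, hq, hq, hq]

theorem ECtx.le_isoG (h : ECtx Q H) : H ≤ isoG (gramQ Q) := h.le.trans (isometryGroup_le_isoG h.nd)

/-- membership in the isometry group, vector form -/
theorem isom_apply {g : GL (Fin n) F} (hg : g ∈ isometryGroup F Q) (v : Fin n → F) :
    Q ((g : Matrix (Fin n) (Fin n) F) *ᵥ v) = Q v := hg v v

/-- odd characteristic: `Q v = 2⁻¹ * polar Q v v` -/
theorem Q_eq_half (hQ : IsNondegenerateQuadraticForm Q) (h2 : (2 : F) ≠ 0) (v : Fin n → F) :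
    Q v = 2⁻¹ * QuadraticMap.polar Q v v := by
  rw [polar_self hQ]
  field_simp

/-- `|F|` odd iff `2 ≠ 0` -/
theorem two_ne_zero_iff_odd : (2 : F) ≠ 0 ↔ Odd (Fintype.card F) := by
  constructor
  · intro h2
    by_contra hodd
    rw [Nat.not_odd_iff_even] at hodd
    have hchar : ringChar F = 2 := FiniteField.even_card_iff_char_two.mpr (Nat.even_iff.mp hodd)
    apply h2
    have : ((2 : ℕ) : F) = 0 := by
      rw [← hchar]
      exact ringChar.Nat.cast_ringChar
    exact_mod_cast this
  · intro hodd h2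
    have h1 : addOrderOf (1 : F) ∣ 2 := by
      apply addOrderOf_dvd_of_nsmul_eq_zero
      rw [nsmul_eq_mul, mul_one]
      exact_mod_cast h2
    have h3 : addOrderOf (1 : F) ∣ Fintype.card F := addOrderOf_dvd_card
    rcases (Nat.dvd_prime Nat.prime_two).1 h1 with h4 | h4
    · rw [AddMonoid.addOrderOf_eq_one_iff] at h4
      exact one_ne_zero h4
    · rw [h4] at h3
      exact (Nat.not_even_iff_odd.2 hodd) (even_iff_two_dvd.2 h3)

/-- **[E-Q0]** an additive, `λ²`-homogeneous function invariant under an irreducible group vanishes (`n ≥ 2`; all characteristics) -/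
theorem d_eq_zero {X : Subgroup (GL (Fin n) F)} (hn : 2 ≤ n) (hirr : Irr X) (D : (Fin n → F) → F)
    (hadd : ∀ u v, D (u + v) = D u + D v) (hsm : ∀ (a : F) (v : Fin n → F), D (a • v) = a ^ 2 * D v)
    (hinv : ∀ x ∈ X, ∀ v, D ((x : Matrix (Fin n) (Fin n) F) *ᵥ v) = D v) : ∀ v, D v = 0 := by
  by_cases h2 : (2 : F) = 0
  · exact Cfsg.Agent.Lib.Helper17.SpAschLeaf.additive_invariant_zero hn h2 hirr D hadd hsm hinv
  · intro v
    have h1 : D ((2 : F) • v) = 2 ^ 2 * D v := hsm 2 v
    rw [two_smul, hadd] at h1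
    have h3 : (2 : F) * D v = 0 := by linear_combination -h1
    rcases mul_eq_zero.1 h3 with h | h
    · exact absurd h h2
    · exact h

/-- odd characteristic version without irreducibility -/
theorem d_eq_zero_odd (h2 : (2 : F) ≠ 0) (D : (Fin n → F) → F)
    (hadd : ∀ u v, D (u + v) = D u + D v) (hsm : ∀ (a : F) (v : Fin n → F), D (a • v) = a ^ 2 * D v) :
    ∀ v, D v = 0 := by
  intro v
  have h1 : D ((2 : F) • v) = 2 ^ 2 * D v := hsm 2 v
  rw [two_smul, hadd] at h1
  have h3 : (2 : F) * D v = 0 := by linear_combination -h1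
  rcases mul_eq_zero.1 h3 with h | h
  · exact absurd h h2
  · exact h

end Cfsg.Agent.Lib.Helper13.OE
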