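import Mathlib
import Cfsg.Agent.Lib.Lead.OEDefs
import Cfsg.Agent.Lib.Helper29.SpAschDefs
import Cfsg.Agent.Lib.Helper29.SpAschTools
import Cfsg.Agent.Lib.Helper27.SLMP5
import Cfsg.Agent.Lib.Helper13.OEBridge

/-!
OMEGA-EVEN (planner lead), block [E-DSC] (helper13), the QUADRATIC REFINEMENT of the subfield descent, characteristic-free:
if `ζ · polar Q` is rational on the `F₁`-structure `P F₁^n` and an irreducible group `N` of isometries of `Q` lies in the subfield group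
`subfieldSubgroup F₁ P`, then `ζ · Q` itself is rational on `P F₁^n` (`n ≥ 2`).
Proof: for `φ ∈ Gal(F/F₁)` the function `D u = φ (Q' (φ⁻¹ ∘ u)) - Q' u` (`Q' u = ζ Q (P u)`) is additive (its polar form vanishes because
the Gram matrix of `Q'` is `F₁`-rational), `λ²`-homogeneous and invariant under `P⁻¹ N P`, hence `0` by [E-Q0]; so `Q' u` is fixed by
every `φ` for rational `u`.
-/

set_option autoImplicit false
set_option linter.unusedSectionVars false
set_option linter.unusedVariables false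

namespace Cfsg.Agent.Lib.Helper13.OE
open Matrix Cfsg Cfsg.Geo Cfsg.Agent.Lib.Helper20.Asch Cfsg.Agent.Lib.Lead.OE Cfsg.Agent.Lib.Helper29.SpAsch
open scoped Kronecker

section twist
variable {F : Type*} [Field F] {n : ℕ}

/-- entrywise twist of a vector by a field automorphism -/
def tw (φ : F ≃+* F) (u : Fin n → F) : Fin n → F := fun i => φ (u i)

lemma tw_apply (φ : F ≃+* F) (u : Fin n → F) (i : Fin n) : tw φ u i = φ (u i) := rfl

lemma tw_add (φ : F ≃+* F) (u v : Fin n → F) : tw φ (u + v) = tw φ u + tw φ v := by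
  funext i
  simp [tw]

lemma tw_smul (φ : F ≃+* F) (c : F) (u : Fin n → F) : tw φ (c • u) = φ c • tw φ u := by
  funext i
  simp [tw]

lemma tw_mulVec (φ : F ≃+* F) (A : Matrix (Fin n) (Fin n) F) (u : Fin n → F) :
    tw φ (A *ᵥ u) = (A.map φ) *ᵥ tw φ u := by
  funext i
  simp only [tw, Matrix.mulVec, dotProduct, map_sum, map_mul, Matrix.map_apply]

lemma map_bfm (φ : F ≃+* F) (M : Matrix (Fin n) (Fin n) F) (u v : Fin n → F) :
    φ (bfm M u v) = bfm (M.map φ) (tw φ u) (tw φ v) := by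
  unfold bfm
  rw [← tw_mulVec]
  simp only [dotProduct, map_sum, map_mul, tw]

lemma map_eq_of_fixed {F₁ : Subfield F} (φ : F ≃+* F) (hfix : ∀ c ∈ F₁, φ c = c) (A : Matrix (Fin n) (Fin n) F)
    (hA : ∀ a b, A a b ∈ F₁) : A.map φ = A := by
  ext a b
  rw [Matrix.map_apply, hfix _ (hA a b)]

lemma tw_eq_of_fixed {F₁ : Subfield F} (φ : F ≃+* F) (hfix : ∀ c ∈ F₁, φ c = c) (u : Fin n → F)
    (hu : ∀ i, u i ∈ F₁) : tw φ u = u := by
  funext i
  rw [tw_apply, hfix _ (hu i)]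

lemma symm_fixed {F₁ : Subfield F} (φ : F ≃+* F) (hfix : ∀ c ∈ F₁, φ c = c) : ∀ c ∈ F₁, φ.symm c = c := by
  intro c hc
  have := hfix c hc
  conv_lhs => rw [← this]
  exact φ.symm_apply_apply c

/-- the defect of a twisted quadratic function with rational Gram matrix is additive, `λ²`-homogeneous, and invariant under
`c • A` (`A` rational, `c² ∈ F₁`, `c ≠ 0`) whenever `Q'` is. -/
theorem twist_defect {F₁ : Subfield F} (φ : F ≃+* F) (hfix : ∀ c ∈ F₁, φ c = c)
    (Q' : (Fin n → F) → F) (M : Matrix (Fin n) (Fin n) F)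
    (hsm : ∀ (t : F) (u : Fin n → F), Q' (t • u) = t ^ 2 * Q' u)
    (hpol : ∀ u v, Q' (u + v) = Q' u + Q' v + bfm M u v)
    (hM : ∀ a b, M a b ∈ F₁) :
    (∀ u v, (φ (Q' (tw φ.symm (u + v))) - Q' (u + v)) =
      (φ (Q' (tw φ.symm u)) - Q' u) + (φ (Q' (tw φ.symm v)) - Q' v)) ∧
    (∀ (t : F) (u : Fin n → F), (φ (Q' (tw φ.symm (t • u))) - Q' (t • u)) = t ^ 2 * (φ (Q' (tw φ.symm u)) - Q' u)) ∧
    (∀ (A : Matrix (Fin n) (Fin n) F) (c : F), (∀ a b, A a b ∈ F₁) → c ≠ 0 → c ^ 2 ∈ F₁ →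
      (∀ u, Q' ((c • A) *ᵥ u) = Q' u) →
      ∀ u, (φ (Q' (tw φ.symm ((c • A) *ᵥ u))) - Q' ((c • A) *ᵥ u)) = (φ (Q' (tw φ.symm u)) - Q' u)) := by
  have hsfix := symm_fixed φ hfix
  refine ⟨?_, ?_, ?_⟩
  · intro u v
    rw [tw_add, hpol, hpol, map_add, map_add, map_bfm, map_eq_of_fixed φ hfix M hM]
    have h1 : tw φ (tw φ.symm u) = u := by funext i; simp [tw]
    have h2 : tw φ (tw φ.symm v) = v := by funext i; simp [tw]
    rw [h1, h2]
    ring
  · intro t u
    rw [tw_smul, hsm, hsm, map_mul, map_pow, RingEquiv.apply_symm_apply]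
    ring
  · intro A c hA hc hc2 hinv u
    rw [hinv u]
    congr 1
    have hmap : (c • A).map φ.symm = φ.symm c • A := by
      ext a b
      rw [Matrix.map_apply, Matrix.smul_apply, Matrix.smul_apply, smul_eq_mul, smul_eq_mul, map_mul,
        hsfix _ (hA a b)]
    rw [tw_mulVec, hmap]
    have h1 : (φ.symm c • A) *ᵥ tw φ.symm u = (φ.symm c / c) • ((c • A) *ᵥ tw φ.symm u) := by
      rw [Matrix.smul_mulVec, Matrix.smul_mulVec, smul_smul, div_mul_cancel₀ _ hc]
    rw [h1, hsm, hinv, map_mul, map_pow, map_div₀, RingEquiv.apply_symm_apply]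
    have h2 : φ (c ^ 2) = c ^ 2 := hfix _ hc2
    rw [map_pow] at h2
    have hφc : φ c ≠ 0 := by
      intro h0
      apply hc
      have := congrArg φ.symm h0
      rwa [RingEquiv.symm_apply_apply, map_zero] at this
    have h3 : (c / φ c) ^ 2 = 1 := by
      rw [div_pow, h2, div_self (pow_ne_zero 2 hc)]
    rw [h3, one_mul]

end twist

section main
variable {F : Type*} [Field F] [Fintype F] {n : ℕ} {Q : (Fin n → F) → F} {H N : Subgroup (GL (Fin n) F)}

/-- **quadratic refinement of the subfield descent** (all characteristics) -/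
theorem quad_rational (hQ : IsNondegenerateQuadraticForm Q) (hn : 2 ≤ n) (hirr : Irr N)
    (hNQ : N ≤ isometryGroup F Q) (F₁ : Subfield F) (P : GL (Fin n) F) (ζ : F) (hζ : ζ ≠ 0)
    (hrat : IsFormRationalStructure (QuadraticMap.polar Q) F₁ ζ P) (hNP : N ≤ subfieldSubgroup F₁ P) :
    IsQuadFormRationalStructure (fun v : Fin n → F => ζ * Q v) F₁ P := by
  classical
  have hPP : ((P⁻¹ : GL (Fin n) F) : Matrix (Fin n) (Fin n) F) * (P : Matrix (Fin n) (Fin n) F) = 1 := by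
    rw [← Units.val_mul, inv_mul_cancel, Units.val_one]
  have hPP' : (P : Matrix (Fin n) (Fin n) F) * ((P⁻¹ : GL (Fin n) F) : Matrix (Fin n) (Fin n) F) = 1 := by
    rw [← Units.val_mul, mul_inv_cancel, Units.val_one]
  obtain ⟨Q', hQ'⟩ : ∃ Q' : (Fin n → F) → F, Q' = fun u => ζ * Q ((P : Matrix (Fin n) (Fin n) F) *ᵥ u) := ⟨_, rfl⟩
  obtain ⟨M, hMdef⟩ : ∃ M : Matrix (Fin n) (Fin n) F,
      M = ζ • ((P : Matrix (Fin n) (Fin n) F)ᵀ * gramQ Q * (P : Matrix (Fin n) (Fin n) F)) := ⟨_, rfl⟩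
  have hbM : ∀ u v, bfm M u v = ζ * QuadraticMap.polar Q ((P : Matrix (Fin n) (Fin n) F) *ᵥ u)
      ((P : Matrix (Fin n) (Fin n) F) *ᵥ v) := by
    intro u v
    rw [polar_apply hQ, bfm_mulVec, hMdef]
    unfold bfm
    rw [Matrix.smul_mulVec, dotProduct_smul, smul_eq_mul]
  have hsm : ∀ (t : F) (u : Fin n → F), Q' (t • u) = t ^ 2 * Q' u := by
    intro t u
    rw [hQ']
    simp only
    rw [Matrix.mulVec_smul, hQ.smul]
    ring
  have hpol : ∀ u v, Q' (u + v) = Q' u + Q' v + bfm M u v := by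
    intro u v
    rw [hbM, hQ']
    simp only
    rw [Matrix.mulVec_add, Q_add Q]
    ring
  have hsingle : ∀ a : Fin n, ∀ i, (Pi.single a (1 : F) : Fin n → F) i ∈ F₁ := by
    intro a i
    by_cases h : i = a
    · subst h; rw [Pi.single_eq_same]; exact F₁.one_mem
    · rw [Pi.single_eq_of_ne h]; exact F₁.zero_mem
  have hM : ∀ a b, M a b ∈ F₁ := by
    intro a b
    rw [← bfm_entry (J := M) a b, hbM]
    exact hrat _ _ (hsingle a) (hsingle b)
  -- `M ≠ 0`
  have hM0 : ∃ a b, M a b ≠ 0 := by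
    by_contra hcon
    push Not at hcon
    have hMz : M = 0 := by ext a b; exact hcon a b
    have hdet : M.det ≠ 0 := by
      rw [hMdef, Matrix.det_smul, Matrix.det_mul, Matrix.det_mul, Matrix.det_transpose]
      have hP : (P : Matrix (Fin n) (Fin n) F).det ≠ 0 := by
        intro h0
        have := congrArg Matrix.det hPP'
        rw [Matrix.det_mul, h0, zero_mul, Matrix.det_one] at this
        exact zero_ne_one this
      exact mul_ne_zero (pow_ne_zero _ hζ) (mul_ne_zero (mul_ne_zero hP (gramQ_det hQ)) hP)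
    have : Nonempty (Fin n) := ⟨⟨0, by omega⟩⟩
    rw [hMz, Matrix.det_zero] at hdet
    exact hdet rfl
  obtain ⟨a₀, b₀, hab⟩ := hM0
  -- the elements of `N` in the coordinates `P`
  have hNmat : ∀ x ∈ N, ∃ (A : Matrix (Fin n) (Fin n) F) (c : F), (∀ a b, A a b ∈ F₁) ∧ c ≠ 0 ∧ c ^ 2 ∈ F₁ ∧
      (∀ u, Q' ((c • A) *ᵥ u) = Q' u) ∧
      ∀ w, ((P⁻¹ : GL (Fin n) F) : Matrix (Fin n) (Fin n) F) *ᵥ ((x : Matrix (Fin n) (Fin n) F) *ᵥ w) =
        (c • A) *ᵥ (((P⁻¹ : GL (Fin n) F) : Matrix (Fin n) (Fin n) F) *ᵥ w) := by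
    intro x hx
    obtain ⟨a, c, hxa⟩ := Cfsg.Agent.Lib.Helper27.SLMLeaf.exists_of_mem_subfieldSubgroup F₁ P x (hNP hx)
    obtain ⟨A, hA⟩ : ∃ A : Matrix (Fin n) (Fin n) F,
        A = (a : Matrix (Fin n) (Fin n) F₁).map (F₁.subtype : F₁ →+* F) := ⟨_, rfl⟩
    rw [← hA] at hxa
    have hAent : ∀ i j, A i j ∈ F₁ := by
      intro i j
      rw [hA, Matrix.map_apply]
      exact ((a : Matrix (Fin n) (Fin n) F₁) i j).2
    have hxP : (x : Matrix (Fin n) (Fin n) F) * (P : Matrix (Fin n) (Fin n) F) =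
        (P : Matrix (Fin n) (Fin n) F) * ((c : F) • A) := by
      rw [hxa, mul_assoc, hPP, mul_one]
    have hPx : ((P⁻¹ : GL (Fin n) F) : Matrix (Fin n) (Fin n) F) * (x : Matrix (Fin n) (Fin n) F) =
        ((c : F) • A) * ((P⁻¹ : GL (Fin n) F) : Matrix (Fin n) (Fin n) F) := by
      rw [hxa, ← mul_assoc, ← mul_assoc, hPP, one_mul]
    have hinv : ∀ u, Q' (((c : F) • A) *ᵥ u) = Q' u := by
      intro u
      rw [hQ']
      simp only
      rw [Matrix.mulVec_mulVec, ← hxP, ← Matrix.mulVec_mulVec, isom_apply (hNQ hx)]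
    refine ⟨A, (c : F), hAent, c.ne_zero, ?_, hinv, ?_⟩
    · -- `c² ∈ F₁`
      have hB : ∀ u v, bfm M (((c : F) • A) *ᵥ u) (((c : F) • A) *ᵥ v) = bfm M u v := by
        intro u v
        have e1 := hpol (((c : F) • A) *ᵥ u) (((c : F) • A) *ᵥ v)
        rw [← Matrix.mulVec_add, hinv, hinv, hinv, hpol] at e1
        linear_combination -e1
      have h1 := hB (Pi.single a₀ 1) (Pi.single b₀ 1)
      rw [bfm_entry, Matrix.smul_mulVec, Matrix.smul_mulVec, bfm_smul_left, bfm_smul_right, bfm_mulVec,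
        bfm_entry] at h1
      have hm' : (Aᵀ * M * A) a₀ b₀ ∈ F₁ := by
        rw [Matrix.mul_apply]
        refine Subfield.sum_mem _ fun k _ => Subfield.mul_mem _ ?_ (hAent k b₀)
        rw [Matrix.mul_apply]
        refine Subfield.sum_mem _ fun l _ => Subfield.mul_mem _ ?_ (hM l k)
        rw [Matrix.transpose_apply]
        exact hAent l a₀
      have hm'0 : (Aᵀ * M * A) a₀ b₀ ≠ 0 := by
        intro h0
        rw [h0, mul_zero, mul_zero] at h1
        exact hab h1.symm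
      have : (c : F) ^ 2 = M a₀ b₀ / (Aᵀ * M * A) a₀ b₀ := by
        rw [eq_div_iff hm'0]
        linear_combination h1
      rw [this]
      exact Subfield.div_mem _ (hM a₀ b₀) hm'
    · intro w
      rw [Matrix.mulVec_mulVec, hPx, ← Matrix.mulVec_mulVec]
  -- the main loop over the Galois group
  intro u hu
  show ζ * Q ((P : Matrix (Fin n) (Fin n) F) *ᵥ u) ∈ F₁
  have hgal := (IsGalois.mem_range_algebraMap_iff_fixed (F := F₁) (E := F)
    (ζ * Q ((P : Matrix (Fin n) (Fin n) F) *ᵥ u))).2 ?_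
  · obtain ⟨y, hy⟩ := hgal
    rw [← hy]
    exact y.2
  intro f
  obtain ⟨φ, hφ⟩ : ∃ φ : F ≃+* F, φ = f.toRingEquiv := ⟨_, rfl⟩
  have hfix : ∀ c ∈ F₁, φ c = c := by
    intro c hc
    rw [hφ]
    exact f.commutes ⟨c, hc⟩
  obtain ⟨hDadd, hDsm, hDinv⟩ := twist_defect φ hfix Q' M hsm hpol hM
  have hD0 := d_eq_zero (X := N) hn hirr
    (fun w => φ (Q' (tw φ.symm (((P⁻¹ : GL (Fin n) F) : Matrix (Fin n) (Fin n) F) *ᵥ w))) -
      Q' (((P⁻¹ : GL (Fin n) F) : Matrix (Fin n) (Fin n) F) *ᵥ w))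
    (by
      intro w w'
      rw [Matrix.mulVec_add]
      exact hDadd _ _)
    (by
      intro t w
      rw [Matrix.mulVec_smul]
      exact hDsm _ _)
    (by
      intro x hx w
      obtain ⟨A, c, hA, hc, hc2, hinv, hw⟩ := hNmat x hx
      rw [hw w]
      exact hDinv A c hA hc hc2 hinv _)
  have h1 := hD0 ((P : Matrix (Fin n) (Fin n) F) *ᵥ u)
  rw [Matrix.mulVec_mulVec, hPP, Matrix.one_mulVec, tw_eq_of_fixed φ.symm (symm_fixed φ hfix) u hu] at h1
  have h2 : φ (Q' u) = Q' u := sub_eq_zero.1 h1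
  rw [hQ'] at h2
  simp only at h2
  rw [hφ] at h2
  exact h2

end main

end Cfsg.Agent.Lib.Helper13.OE
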