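import Mathlib
import Cfsg.Agent.Lib.Lead.OEDefs
import Cfsg.Agent.Lib.Helper4.AschA1
import Cfsg.Agent.Lib.Helper20.AschTS
import Cfsg.Agent.Lib.Helper29.AschKF2
import Cfsg.Agent.Lib.Helper29.AschS1K1
import Cfsg.Agent.Lib.Helper13.DSCCore
import Cfsg.Agent.Lib.Helper13.OEBridge
import Cfsg.Agent.Lib.Helper13.OEDscCore

/-!
OMEGA-EVEN (planner lead), block [E-DSC] (helper13): `egeo_of_realisable`, exact signature of `notes/OmEven_leaves.lean`.
`Helper13.DSC.dsc_core` for `J = gramMatrix (polar Q)` + the characteristic-free quadratic refinement `Helper13.OE.quad_rational`.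
-/

set_option autoImplicit false
set_option linter.unusedSectionVars false
set_option linter.unusedVariables false

namespace Cfsg.Agent.Lib.Helper13.OELeaf
open Matrix Cfsg Cfsg.Geo Cfsg.Agent.Lib.Helper20.Asch Cfsg.Agent.Lib.Lead.OE
open scoped Kronecker

variable {F : Type*} [Field F] [Fintype F] {n : ℕ} {Q : (Fin n → F) → F}
  {H N : Subgroup (GL (Fin n) F)}

/-- [E-DSC] -/
theorem egeo_of_realisable (h : ECtx Q H) (hn : 3 ≤ n) (hN : N ≤ H) (hnorm : NormBy H N)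
    (habs : AbsIrr N) (F₀ : Subfield F) (hF₀ : F₀ ≠ ⊤) (hreal : RealisableOver F₀ (matrixSet N)) :
    EGeo Q H := by
  obtain ⟨F₁, r, P, ζ, hr, hcard, hζ, hrat, hH⟩ :=
    Cfsg.Agent.Lib.Helper13.DSC.dsc_core (Cfsg.Agent.Lib.Helper13.OE.gramQ_det h.nd) hN hnorm habs
      (hN.trans (Cfsg.Agent.Lib.Helper13.OE.ECtx.le_isoG h)) F₀ hF₀ hreal
  rw [← Cfsg.Agent.Lib.Helper13.OE.polar_eq_bfm h.nd] at hrat
  exact .sub F₁ r P ζ hr hcard hζ
    (Cfsg.Agent.Lib.Helper13.OE.quad_rational h.nd (by omega) habs.1 (hN.trans h.le) F₁ P ζ hζ hrat (hN.trans hH)) hH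

end Cfsg.Agent.Lib.Helper13.OELeaf
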