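import Mathlib
import Cfsg.Prelude.Def_GeometricClasses

/-!
OMEGA-EVEN, heavy leaf (H1): a SELF-ADJOINT field subalgebra `K` of degree `r` with `2 r = n`.
INTERFACE between PART I (transfer to the `E`-valued forms, `E ≅ K`) and PART II (analysis of the binary
`E`-quadratic space `(V, Q_E)`).  Everything is a `Prop`.  `Q` is a plain FUNCTION `(ι → F) → F` (use `⇑Q` for a `QuadraticForm`), so that both
the `IsNondegenerateQuadraticForm Q` style of PART 1 and the `QuadraticForm` style of the rows are covered.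
-/

set_option autoImplicit false

namespace Cfsg.Agent.Lib.Helper13.OEFsa

open Cfsg Cfsg.Geo Matrix Module

universe u

/-- the TRANSFER data: `ρ : E → M_ι(F)` a model of the field subalgebra `K`, `BE` a symmetric `E`-bilinear form and
`QE` an `E`-quadratic form on `V = F^ι` (an `E`-space through `ρ`) with polar form `BE` and `Tr_{E/F} ∘ QE = Q`; the
elements of `N(K) ∩ O(Q)` are semilinear isometries of `QE`.  (That `V` has `E`-dimension 2 is NOT part of the data:
PART II gets the `E`-coordinates from `card ι = 2 r` by a dimension count.) -/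
structure FsaT {ι : Type} [Fintype ι] [DecidableEq ι] {F : Type u} [Field F] [Fintype F]
    (Q : (ι → F) → F) (K : Subalgebra F (Matrix ι ι F)) (r : ℕ)
    (E : Type u) [Field E] [Algebra F E] (ρ : E →ₐ[F] Matrix ι ι F)
    (BE : (ι → F) → (ι → F) → E) (QE : (ι → F) → E) : Prop where
  inj : Function.Injective ρ
  range : ρ.range = K
  finrank_eq : finrank F E = r
  BE_add_left : ∀ u v w, BE (u + v) w = BE u w + BE v w
  BE_smul_left : ∀ (a : E) v w, BE (ρ a *ᵥ v) w = a * BE v w
  BE_symm : ∀ v w, BE v w = BE w v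
  BE_nondeg : ∀ v, (∀ w, BE v w = 0) → v = 0
  QE_smul : ∀ (a : E) v, QE (ρ a *ᵥ v) = a ^ 2 * QE v
  QE_add : ∀ v w, QE (v + w) = QE v + QE w + BE v w
  trace_QE : ∀ v, Algebra.trace F E (QE v) = Q v
  semilin : ∀ g : GL ι F, g ∈ subalgebraNormalizer K ⊓ isometryGroup F Q →
    ∃ σ : E ≃ₐ[F] E, (∀ a, g.val * ρ a = ρ (σ a) * g.val) ∧ ∀ v, QE (g.val *ᵥ v) = σ (QE v)

/-- the conclusion of (H1): the data of `EGeo.funi` or of `EGeo.pair` for every `H ≤ N(K) ∩ O(Q)`. -/
def FsaGoal {ι : Type} [Fintype ι] [DecidableEq ι] {F : Type u} [Field F] [Fintype F]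
    (Q : (ι → F) → F) (K : Subalgebra F (Matrix ι ι F)) (r : ℕ) : Prop :=
  (∃ L : Subalgebra F (Matrix ι ι F), IsFieldSubalgebra 2 L ∧
      IsAdjointClosedFor (QuadraticMap.polar Q) L ∧ ¬ IsSelfAdjointFor (QuadraticMap.polar Q) L ∧
      (∀ k ∈ L, ∃ c : F, ∀ v, Q (k *ᵥ v) = c * Q v) ∧
      subalgebraNormalizer K ⊓ isometryGroup F Q ≤ subalgebraNormalizer L) ∨
  (∃ D : Fin 2 → Submodule F (ι → F), IsMDecomposition r D ∧ (∀ i, IsTotallySingularQuad Q (D i)) ∧
      subalgebraNormalizer K ⊓ isometryGroup F Q ≤ decompositionStabilizer D)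

end Cfsg.Agent.Lib.Helper13.OEFsa
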