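import Mathlib
import Cfsg.Prelude.Def_GeometricClasses
import Cfsg.Agent.Lib.Helper13.OEFsaDefs

/-!
OMEGA-EVEN heavy leaf (H1), PART II, basics: consequences of the transfer data `FsaT`, the `E`-lines `line ρ v`,
`E`-coordinates `V = E v ⊕ E w` from `card ι = 2 r`.
-/

set_option autoImplicit false
set_option linter.unusedSectionVars false
set_option linter.unusedVariables false
set_option linter.style.haveILetI false

namespace Cfsg.Agent.Lib.Helper13.OEFsa

open Cfsg Cfsg.Geo Matrix Module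

universe u

variable {ι : Type} [Fintype ι] [DecidableEq ι] {F : Type u} [Field F] [Fintype F]
  {Q : (ι → F) → F} {K : Subalgebra F (Matrix ι ι F)} {r : ℕ}
  {E : Type u} [Field E] [Algebra F E] {ρ : E →ₐ[F] Matrix ι ι F}
  {BE : (ι → F) → (ι → F) → E} {QE : (ι → F) → E}

section rho
variable (ρ)

theorem rho_mul_mulVec (a b : E) (v : ι → F) : ρ (a * b) *ᵥ v = ρ a *ᵥ (ρ b *ᵥ v) := by
  rw [map_mul, Matrix.mulVec_mulVec]

theorem rho_one_mulVec (v : ι → F) : ρ 1 *ᵥ v = v := by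
  rw [map_one, Matrix.one_mulVec]

theorem rho_zero_mulVec (v : ι → F) : ρ 0 *ᵥ v = 0 := by
  rw [map_zero, Matrix.zero_mulVec]

theorem rho_add_mulVec (a b : E) (v : ι → F) : ρ (a + b) *ᵥ v = ρ a *ᵥ v + ρ b *ᵥ v := by
  rw [map_add, Matrix.add_mulVec]

theorem rho_neg_mulVec (a : E) (v : ι → F) : ρ (-a) *ᵥ v = -(ρ a *ᵥ v) := by
  rw [map_neg, Matrix.neg_mulVec]

theorem rho_sub_mulVec (a b : E) (v : ι → F) : ρ (a - b) *ᵥ v = ρ a *ᵥ v - ρ b *ᵥ v := by
  rw [map_sub, Matrix.sub_mulVec]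

theorem rho_algebraMap_mulVec (c : F) (v : ι → F) : ρ (algebraMap F E c) *ᵥ v = c • v := by
  rw [AlgHom.commutes, Matrix.algebraMap_eq_diagonal]
  ext i
  simp [Matrix.mulVec_diagonal]

theorem rho_comm (a b : E) : ρ a * ρ b = ρ b * ρ a := by
  rw [← map_mul, ← map_mul, mul_comm]

theorem rho_mulVec_eq_zero {a : E} {v : ι → F} (h : ρ a *ᵥ v = 0) : a = 0 ∨ v = 0 := by
  by_cases ha : a = 0
  · exact Or.inl ha
  · right
    have h1 : ρ a⁻¹ *ᵥ (ρ a *ᵥ v) = v := by
      rw [← rho_mul_mulVec, inv_mul_cancel₀ ha, rho_one_mulVec]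
    rw [← h1, h, Matrix.mulVec_zero]

theorem rho_mulVec_inj {a b : E} {v : ι → F} (hv : v ≠ 0) (h : ρ a *ᵥ v = ρ b *ᵥ v) : a = b := by
  have h1 : ρ (a - b) *ᵥ v = 0 := by rw [rho_sub_mulVec, h, sub_self]
  rcases rho_mulVec_eq_zero ρ h1 with h2 | h2
  · exact sub_eq_zero.mp h2
  · exact absurd h2 hv

/-- `a ↦ ρ a v` as an `F`-linear map -/
def lineMap (v : ι → F) : E →ₗ[F] (ι → F) where
  toFun a := ρ a *ᵥ v
  map_add' a b := rho_add_mulVec ρ a b v
  map_smul' c a := by rw [map_smul, Matrix.smul_mulVec, RingHom.id_apply]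

@[simp] theorem lineMap_apply (v : ι → F) (a : E) : lineMap ρ v a = ρ a *ᵥ v := rfl

theorem lineMap_injective {v : ι → F} (hv : v ≠ 0) : Function.Injective (lineMap ρ v) := by
  intro a b h
  exact rho_mulVec_inj ρ hv h

/-- the `E`-line through `v` -/
def line (v : ι → F) : Submodule F (ι → F) := LinearMap.range (lineMap ρ v)

theorem mem_line {v w : ι → F} : w ∈ line ρ v ↔ ∃ a : E, ρ a *ᵥ v = w := by
  rw [line, LinearMap.mem_range]
  rfl

theorem self_mem_line (v : ι → F) : v ∈ line ρ v := (mem_line ρ).mpr ⟨1, rho_one_mulVec ρ v⟩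

theorem smul_mem_line (a : E) (v : ι → F) : ρ a *ᵥ v ∈ line ρ v := (mem_line ρ).mpr ⟨a, rfl⟩

theorem line_eq_of_mem {v w : ι → F} (hw : w ≠ 0) (h : w ∈ line ρ v) : line ρ w = line ρ v := by
  obtain ⟨c, rfl⟩ := (mem_line ρ).mp h
  have hc : c ≠ 0 := by
    rintro rfl
    exact hw (rho_zero_mulVec ρ v)
  ext u
  rw [mem_line, mem_line]
  constructor
  · rintro ⟨a, rfl⟩
    exact ⟨a * c, rho_mul_mulVec ρ a c v⟩
  · rintro ⟨a, rfl⟩
    refine ⟨a * c⁻¹, ?_⟩
    rw [← rho_mul_mulVec, mul_assoc, inv_mul_cancel₀ hc, mul_one]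

theorem finrank_line [Module.Finite F E] {v : ι → F} (hv : v ≠ 0) : finrank F (line ρ v) = finrank F E :=
  LinearMap.finrank_range_of_inj (lineMap_injective ρ hv)

/-- `(a, b) ↦ ρ a v + ρ b w` -/
def pairMap (v w : ι → F) : E × E →ₗ[F] (ι → F) := (lineMap ρ v).coprod (lineMap ρ w)

@[simp] theorem pairMap_apply (v w : ι → F) (p : E × E) :
    pairMap ρ v w p = ρ p.1 *ᵥ v + ρ p.2 *ᵥ w := by
  rw [pairMap, LinearMap.coprod_apply, lineMap_apply, lineMap_apply]

theorem pairMap_injective {v w : ι → F} (hv : v ≠ 0) (hw : w ∉ line ρ v) :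
    Function.Injective (pairMap ρ v w) := by
  rw [← LinearMap.ker_eq_bot, LinearMap.ker_eq_bot']
  rintro ⟨a, b⟩ h
  rw [pairMap_apply] at h
  have hb : b = 0 := by
    by_contra hb
    apply hw
    rw [mem_line]
    refine ⟨-(b⁻¹ * a), ?_⟩
    have h1 : ρ b *ᵥ w = -(ρ a *ᵥ v) := eq_neg_of_add_eq_zero_right h
    have h2 : ρ b⁻¹ *ᵥ (ρ b *ᵥ w) = w := by
      rw [← rho_mul_mulVec, inv_mul_cancel₀ hb, rho_one_mulVec]
    rw [← h2, h1, Matrix.mulVec_neg, rho_neg_mulVec, rho_mul_mulVec]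
  subst hb
  simp only [] at h
  rw [rho_zero_mulVec, add_zero] at h
  rcases rho_mulVec_eq_zero ρ h with h1 | h1
  · rw [h1]; rfl
  · exact absurd h1 hv

theorem pairMap_bijective (hfr : finrank F E = r) (hr : 0 < r) (hn : Fintype.card ι = 2 * r)
    {v w : ι → F} (hv : v ≠ 0) (hw : w ∉ line ρ v) : Function.Bijective (pairMap ρ v w) := by
  haveI : Module.Finite F E := Module.finite_of_finrank_pos (by rw [hfr]; exact hr)
  have hinj := pairMap_injective ρ hv hw
  refine ⟨hinj, ?_⟩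
  have hfin : finrank F (E × E) = finrank F (ι → F) := by
    rw [Module.finrank_prod, hfr, Module.finrank_fintype_fun_eq_card, hn]
    ring
  exact (LinearMap.injective_iff_surjective_of_finrank_eq_finrank hfin).mp hinj

theorem exists_coords (hfr : finrank F E = r) (hr : 0 < r) (hn : Fintype.card ι = 2 * r)
    {v w : ι → F} (hv : v ≠ 0) (hw : w ∉ line ρ v) (u : ι → F) :
    ∃ x y : E, u = ρ x *ᵥ v + ρ y *ᵥ w := by
  obtain ⟨p, hp⟩ := (pairMap_bijective ρ hfr hr hn hv hw).2 u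
  exact ⟨p.1, p.2, by rw [← hp, pairMap_apply]⟩

theorem coords_unique {v w : ι → F} (hv : v ≠ 0) (hw : w ∉ line ρ v) {x y x' y' : E}
    (h : ρ x *ᵥ v + ρ y *ᵥ w = ρ x' *ᵥ v + ρ y' *ᵥ w) : x = x' ∧ y = y' := by
  have h1 := pairMap_injective ρ hv hw (a₁ := (x, y)) (a₂ := (x', y')) (by
    rw [pairMap_apply, pairMap_apply]; exact h)
  exact ⟨congrArg Prod.fst h1, congrArg Prod.snd h1⟩

/-- there is a vector outside any `E`-line -/
theorem exists_not_mem_line (hfr : finrank F E = r) (hr : 0 < r) (hn : Fintype.card ι = 2 * r)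
    {v : ι → F} (hv : v ≠ 0) : ∃ w : ι → F, w ∉ line ρ v := by
  haveI : Module.Finite F E := Module.finite_of_finrank_pos (by rw [hfr]; exact hr)
  by_contra h
  push Not at h
  have h1 : line ρ v = ⊤ := by
    rw [eq_top_iff]
    intro w _
    exact h w
  have h2 := finrank_line ρ hv
  rw [h1, finrank_top, Module.finrank_fintype_fun_eq_card, hn, hfr] at h2
  omega

end rho

section transfer

variable (T : FsaT Q K r E ρ BE QE)
include T

theorem BE_add_right (u v w : ι → F) : BE u (v + w) = BE u v + BE u w := by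
  rw [T.BE_symm u (v + w), T.BE_add_left, T.BE_symm v u, T.BE_symm w u]

theorem BE_smul_right (a : E) (v w : ι → F) : BE v (ρ a *ᵥ w) = a * BE v w := by
  rw [T.BE_symm v, T.BE_smul_left, T.BE_symm w v]

theorem BE_zero_left (w : ι → F) : BE 0 w = 0 := by
  have h := T.BE_smul_left 0 0 w
  rw [rho_zero_mulVec, zero_mul] at h
  exact h

theorem BE_zero_right (w : ι → F) : BE w 0 = 0 := by
  rw [T.BE_symm, BE_zero_left T]

theorem BE_neg_left (v w : ι → F) : BE (-v) w = -BE v w := by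
  have h := T.BE_add_left v (-v) w
  rw [add_neg_cancel, BE_zero_left T] at h
  exact eq_neg_of_add_eq_zero_right h.symm

theorem BE_neg_right (v w : ι → F) : BE v (-w) = -BE v w := by
  rw [T.BE_symm, BE_neg_left T, T.BE_symm]

theorem BE_sub_left (u v w : ι → F) : BE (u - v) w = BE u w - BE v w := by
  rw [sub_eq_add_neg, T.BE_add_left, BE_neg_left T, ← sub_eq_add_neg]

theorem BE_sub_right (u v w : ι → F) : BE u (v - w) = BE u v - BE u w := by
  rw [sub_eq_add_neg, BE_add_right T, BE_neg_right T, ← sub_eq_add_neg]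

theorem QE_zero : QE 0 = 0 := by
  have h := T.QE_smul 0 0
  rw [rho_zero_mulVec] at h
  rw [h]
  ring

theorem BE_self (v : ι → F) : BE v v = 2 * QE v := by
  have h1 := T.QE_add v v
  have h2 := T.QE_smul 2 v
  have h3 : ρ (2 : E) *ᵥ v = v + v := by
    rw [show (2 : E) = 1 + 1 by norm_num, rho_add_mulVec, rho_one_mulVec]
  rw [h3] at h2
  rw [h2] at h1
  linear_combination -h1

theorem QE_lin (a b : E) (v w : ι → F) :
    QE (ρ a *ᵥ v + ρ b *ᵥ w) = a ^ 2 * QE v + b ^ 2 * QE w + a * b * BE v w := by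
  rw [T.QE_add, T.QE_smul, T.QE_smul, T.BE_smul_left, BE_smul_right T]
  ring

theorem BE_lin (a b c d : E) (v w : ι → F) :
    BE (ρ a *ᵥ v + ρ b *ᵥ w) (ρ c *ᵥ v + ρ d *ᵥ w) =
      2 * a * c * QE v + 2 * b * d * QE w + (a * d + b * c) * BE v w := by
  rw [T.BE_add_left, BE_add_right T, BE_add_right T, T.BE_smul_left, T.BE_smul_left, T.BE_smul_left,
    T.BE_smul_left, BE_smul_right T, BE_smul_right T, BE_smul_right T, BE_smul_right T, BE_self T,
    BE_self T, T.BE_symm w v]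
  ring

theorem QE_neg (v : ι → F) : QE (-v) = QE v := by
  have h := T.QE_smul (-1) v
  rw [rho_neg_mulVec, rho_one_mulVec] at h
  rw [h]
  ring

theorem QE_sub (v w : ι → F) : QE (v - w) = QE v + QE w - BE v w := by
  rw [sub_eq_add_neg, T.QE_add, QE_neg T, BE_neg_right T]
  ring

theorem polar_eq (v w : ι → F) : QuadraticMap.polar Q v w = Algebra.trace F E (BE v w) := by
  rw [QuadraticMap.polar, ← T.trace_QE, ← T.trace_QE, ← T.trace_QE, T.QE_add]
  simp only [map_add]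
  ring

theorem Q_rho (a : E) (v : ι → F) : Q (ρ a *ᵥ v) = Algebra.trace F E (a ^ 2 * QE v) := by
  rw [← T.trace_QE, T.QE_smul]

theorem isTotallySingular_line {v : ι → F} (hv : QE v = 0) : IsTotallySingularQuad Q (line ρ v) := by
  intro w hw
  obtain ⟨a, rfl⟩ := (mem_line ρ).mp hw
  rw [Q_rho T, hv, mul_zero, map_zero]

/-- semilinear isometries preserve `BE` up to `σ` -/
theorem BE_semilin {g : Matrix ι ι F} {σ : E ≃ₐ[F] E} (hg : ∀ v, QE (g *ᵥ v) = σ (QE v))
    (v w : ι → F) : BE (g *ᵥ v) (g *ᵥ w) = σ (BE v w) := by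
  have h1 := T.QE_add (g *ᵥ v) (g *ᵥ w)
  rw [← Matrix.mulVec_add, hg, hg, hg, T.QE_add] at h1
  simp only [map_add] at h1
  linear_combination -h1

end transfer

end Cfsg.Agent.Lib.Helper13.OEFsa
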