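import Mathlib
import Cfsg.Prelude.Def_GeometricClasses
import Cfsg.Agent.Lib.Helper13.OEFsaDefs
import Cfsg.Agent.Lib.Helper13.OEFsaBasic

/-!
OMEGA-EVEN heavy leaf (H1), PART II: `E`-coordinates `vec x y = ρ x e₁ + ρ y e₂`, `E`-linear operators given by a
`2 × 2` matrix over `E`.
-/

set_option autoImplicit false
set_option linter.unusedSectionVars false
set_option linter.unusedVariables false
set_option linter.style.haveILetI false

namespace Cfsg.Agent.Lib.Helper13.OEFsa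

open Cfsg Cfsg.Geo Matrix Module

universe u

variable {ι : Type} [Fintype ι] [DecidableEq ι] {F : Type u} [Field F] [Fintype F]
  {Q : (ι → F) → F} {K : Subalgebra F (Matrix ι ι F)} {r : ℕ}
  {E : Type u} [Field E] [Algebra F E] {ρ : E →ₐ[F] Matrix ι ι F}
  {BE : (ι → F) → (ι → F) → E} {QE : (ι → F) → E}

theorem mat_ext {A B : Matrix ι ι F} (h : ∀ v, A *ᵥ v = B *ᵥ v) : A = B :=
  Matrix.toLin'.injective (LinearMap.ext fun v => by rw [Matrix.toLin'_apply, Matrix.toLin'_apply, h])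

section vec
variable (ρ) (e₁ e₂ : ι → F)

/-- the vector with `E`-coordinates `(x, y)` -/
def vec (x y : E) : ι → F := ρ x *ᵥ e₁ + ρ y *ᵥ e₂

theorem vec_def (x y : E) : vec ρ e₁ e₂ x y = ρ x *ᵥ e₁ + ρ y *ᵥ e₂ := rfl

theorem vec_eq_pairMap (x y : E) : vec ρ e₁ e₂ x y = pairMap ρ e₁ e₂ (x, y) := by
  rw [pairMap_apply]; rfl

theorem vec_add (x y x' y' : E) :
    vec ρ e₁ e₂ x y + vec ρ e₁ e₂ x' y' = vec ρ e₁ e₂ (x + x') (y + y') := by
  rw [vec_def, vec_def, vec_def, rho_add_mulVec, rho_add_mulVec]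
  abel

theorem vec_sub (x y x' y' : E) :
    vec ρ e₁ e₂ x y - vec ρ e₁ e₂ x' y' = vec ρ e₁ e₂ (x - x') (y - y') := by
  rw [vec_def, vec_def, vec_def, rho_sub_mulVec, rho_sub_mulVec]
  abel

theorem rho_vec (a x y : E) : ρ a *ᵥ vec ρ e₁ e₂ x y = vec ρ e₁ e₂ (a * x) (a * y) := by
  rw [vec_def, vec_def, Matrix.mulVec_add, ← rho_mul_mulVec, ← rho_mul_mulVec]

theorem vec_one_zero : vec ρ e₁ e₂ 1 0 = e₁ := by
  rw [vec_def, rho_one_mulVec, rho_zero_mulVec, add_zero]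

theorem vec_zero_one : vec ρ e₁ e₂ 0 1 = e₂ := by
  rw [vec_def, rho_one_mulVec, rho_zero_mulVec, zero_add]

theorem vec_zero_zero : vec ρ e₁ e₂ 0 0 = 0 := by
  rw [vec_def, rho_zero_mulVec, rho_zero_mulVec, add_zero]

variable {e₁ e₂}

theorem vec_inj (he₁ : e₁ ≠ 0) (he₂ : e₂ ∉ line ρ e₁) {x y x' y' : E}
    (h : vec ρ e₁ e₂ x y = vec ρ e₁ e₂ x' y') : x = x' ∧ y = y' :=
  coords_unique ρ he₁ he₂ h

theorem vec_eq_zero (he₁ : e₁ ≠ 0) (he₂ : e₂ ∉ line ρ e₁) {x y : E}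
    (h : vec ρ e₁ e₂ x y = 0) : x = 0 ∧ y = 0 := by
  rw [← vec_zero_zero ρ e₁ e₂] at h
  exact vec_inj ρ he₁ he₂ h

/-- the `E`-linear operator with matrix `!![a, b; c, d]` in the coordinates `vec` -/
theorem exists_op (hbij : Function.Bijective (pairMap ρ e₁ e₂)) (a b c d : E) :
    ∃ S : Matrix ι ι F, ∀ x y : E,
      S *ᵥ vec ρ e₁ e₂ x y = vec ρ e₁ e₂ (a * x + b * y) (c * x + d * y) := by
  let Φ : (E × E) ≃ₗ[F] (ι → F) := LinearEquiv.ofBijective (pairMap ρ e₁ e₂) hbij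
  let M : E × E →ₗ[F] E × E :=
    { toFun := fun p => (a * p.1 + b * p.2, c * p.1 + d * p.2)
      map_add' := by
        intro p q
        ext
        · simp only [Prod.fst_add, Prod.snd_add]; ring
        · simp only [Prod.fst_add, Prod.snd_add]; ring
      map_smul' := by
        intro k p
        ext
        · simp only [Prod.smul_fst, Prod.smul_snd, RingHom.id_apply, mul_smul_comm, smul_add]
        · simp only [Prod.smul_fst, Prod.smul_snd, RingHom.id_apply, mul_smul_comm, smul_add] }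
  refine ⟨LinearMap.toMatrix' (Φ.toLinearMap ∘ₗ M ∘ₗ Φ.symm.toLinearMap), fun x y => ?_⟩
  rw [← Matrix.toLin'_apply, Matrix.toLin'_toMatrix']
  have h1 : Φ.symm (vec ρ e₁ e₂ x y) = (x, y) := by
    rw [LinearEquiv.symm_apply_eq, vec_eq_pairMap]
    rfl
  rw [LinearMap.comp_apply, LinearMap.comp_apply, LinearEquiv.coe_coe, LinearEquiv.coe_coe, h1,
    vec_eq_pairMap]
  rfl

end vec

section forms
variable (T : FsaT Q K r E ρ BE QE) (e₁ e₂ : ι → F)
include T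

theorem QE_vec (x y : E) :
    QE (vec ρ e₁ e₂ x y) = x ^ 2 * QE e₁ + y ^ 2 * QE e₂ + x * y * BE e₁ e₂ := by
  rw [vec_def, QE_lin T]

theorem BE_vec (x y x' y' : E) :
    BE (vec ρ e₁ e₂ x y) (vec ρ e₁ e₂ x' y') =
      2 * x * x' * QE e₁ + 2 * y * y' * QE e₂ + (x * y' + y * x') * BE e₁ e₂ := by
  rw [vec_def, vec_def, BE_lin T]

end forms

end Cfsg.Agent.Lib.Helper13.OEFsa
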