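import Mathlib
import Cfsg.Prelude.Def_GeometricClasses
import Cfsg.Agent.Lib.Helper13.OEFsaDefs
import Cfsg.Agent.Lib.Helper13.OEFsaBasic
import Cfsg.Agent.Lib.Helper13.OEFsaVec

/-!
OMEGA-EVEN heavy leaf (H1), PART II, the ANISOTROPIC case, first half: the operator `S` (`= e₁ e₂` of the even Clifford
algebra), the algebra `A = ρ(E) + ρ(E) S`; `A` is a field subalgebra of degree `2 r`.
-/

set_option autoImplicit false
set_option linter.unusedSectionVars false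
set_option linter.unusedVariables false
set_option linter.style.haveILetI false

namespace Cfsg.Agent.Lib.Helper13.OEFsa

open Cfsg Cfsg.Geo Matrix Module

universe u

variable {ι : Type} [Fintype ι] [DecidableEq ι] {F : Type u} [Field F] [Fintype F]
  {Q : (ι → F) → F} {K : Subalgebra F (Matrix ι ι F)} {r : ℕ}
  {E : Type u} [Field E] [Algebra F E] {ρ : E →ₐ[F] Matrix ι ι F}
  {BE : (ι → F) → (ι → F) → E} {QE : (ι → F) → E}

/-- the standing data of the anisotropic case: an `E`-basis `e₁, e₂` and the operator `S` -/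
structure ACtx (T : FsaT Q K r E ρ BE QE) (e₁ e₂ : ι → F) (S : Matrix ι ι F) : Prop where
  he₁ : e₁ ≠ 0
  he₂ : e₂ ∉ line ρ e₁
  span : ∀ u : ι → F, ∃ x y : E, u = vec ρ e₁ e₂ x y
  aniso : ∀ v : ι → F, v ≠ 0 → QE v ≠ 0
  hS : ∀ x y : E, S *ᵥ vec ρ e₁ e₂ x y =
    vec ρ e₁ e₂ (BE e₁ e₂ * x + QE e₂ * y) (-QE e₁ * x + 0 * y)

variable {T : FsaT Q K r E ρ BE QE} {e₁ e₂ : ι → F} {S : Matrix ι ι F}

namespace ACtx

variable (C : ACtx T e₁ e₂ S)
include C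

theorem alpha_ne : QE e₁ ≠ 0 := C.aniso e₁ C.he₁

theorem S_rho (a : E) : S * ρ a = ρ a * S := by
  apply mat_ext
  intro u
  obtain ⟨x, y, rfl⟩ := C.span u
  rw [← Matrix.mulVec_mulVec, ← Matrix.mulVec_mulVec, rho_vec, C.hS, C.hS, rho_vec]
  congr 1 <;> ring

/-- the action of `ρ a + ρ b S` in coordinates -/
theorem act (a b x y : E) :
    (ρ a + ρ b * S) *ᵥ vec ρ e₁ e₂ x y =
      vec ρ e₁ e₂ ((a + b * BE e₁ e₂) * x + b * QE e₂ * y) (-(b * QE e₁) * x + a * y) := by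
  rw [Matrix.add_mulVec, ← Matrix.mulVec_mulVec, C.hS, rho_vec, rho_vec, vec_add]
  congr 1 <;> ring

theorem S_eq : S = ρ 0 + ρ 1 * S := by
  rw [map_zero, map_one, zero_add, one_mul]

theorem rho_eq (a : E) : ρ a = ρ a + ρ 0 * S := by
  rw [map_zero, zero_mul, add_zero]

/-- the product formula in `A` -/
theorem mul_formula (a b c d : E) :
    (ρ a + ρ b * S) * (ρ c + ρ d * S) =
      ρ (a * c - b * d * (QE e₁ * QE e₂)) + ρ (a * d + b * c + b * d * BE e₁ e₂) * S := by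
  apply mat_ext
  intro u
  obtain ⟨x, y, rfl⟩ := C.span u
  rw [← Matrix.mulVec_mulVec, C.act, C.act, C.act]
  congr 1 <;> ring

theorem S_sq : S * S = ρ (BE e₁ e₂) * S - ρ (QE e₁ * QE e₂) := by
  have h := C.mul_formula 0 1 0 1
  rw [← C.S_eq] at h
  have e1 : (0 : E) * 0 - 1 * 1 * (QE e₁ * QE e₂) = -(QE e₁ * QE e₂) := by ring
  have e2 : (0 : E) * 1 + 1 * 0 + 1 * 1 * BE e₁ e₂ = BE e₁ e₂ := by ring
  rw [e1, e2, map_neg] at h
  rw [h]
  abel

theorem comm_formula (a b c d : E) :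
    (ρ a + ρ b * S) * (ρ c + ρ d * S) = (ρ c + ρ d * S) * (ρ a + ρ b * S) := by
  rw [C.mul_formula, C.mul_formula]
  congr 1
  · congr 1; ring
  · congr 2; ring

/-- the representation `(a, b) ↦ ρ a + ρ b S` is injective -/
theorem repr_inj {a b c d : E} (h : ρ a + ρ b * S = ρ c + ρ d * S) : a = c ∧ b = d := by
  have h1 : (ρ a + ρ b * S) *ᵥ vec ρ e₁ e₂ 1 0 = (ρ c + ρ d * S) *ᵥ vec ρ e₁ e₂ 1 0 := by rw [h]
  rw [C.act, C.act] at h1
  obtain ⟨h2, h3⟩ := vec_inj ρ C.he₁ C.he₂ h1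
  have hα := C.alpha_ne
  have hb : b = d := by
    have : (b - d) * QE e₁ = 0 := by linear_combination -h3
    rcases mul_eq_zero.mp this with h4 | h4
    · exact sub_eq_zero.mp h4
    · exact absurd h4 hα
  subst hb
  refine ⟨?_, rfl⟩
  linear_combination h2

theorem QE_act (a b : E) (v : ι → F) :
    QE ((ρ a + ρ b * S) *ᵥ v) = (a ^ 2 + a * b * BE e₁ e₂ + b ^ 2 * (QE e₁ * QE e₂)) * QE v := by
  obtain ⟨x, y, rfl⟩ := C.span v
  rw [C.act, QE_vec T, QE_vec T]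
  ring

theorem BE_act (a b : E) (v : ι → F) :
    BE v ((ρ a + ρ b * S) *ᵥ v) = (2 * a + b * BE e₁ e₂) * QE v := by
  obtain ⟨x, y, rfl⟩ := C.span v
  rw [C.act, BE_vec T, QE_vec T]
  ring

/-- the adjoint of `ρ a + ρ b S` is `ρ (a + b β) - ρ b S` -/
theorem adj_act (a b : E) (v w : ι → F) :
    BE ((ρ a + ρ b * S) *ᵥ v) w = BE v ((ρ (a + b * BE e₁ e₂) + ρ (-b) * S) *ᵥ w) := by
  obtain ⟨x, y, rfl⟩ := C.span v
  obtain ⟨x', y', rfl⟩ := C.span w
  rw [C.act, C.act, BE_vec T, BE_vec T]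
  ring

theorem norm_formula (a b : E) :
    (ρ a + ρ b * S) * (ρ (a + b * BE e₁ e₂) + ρ (-b) * S) =
      ρ (a ^ 2 + a * b * BE e₁ e₂ + b ^ 2 * (QE e₁ * QE e₂)) := by
  rw [C.mul_formula, C.rho_eq (a ^ 2 + a * b * BE e₁ e₂ + b ^ 2 * (QE e₁ * QE e₂))]
  congr 1
  · congr 1; ring
  · congr 2; ring

theorem norm_ne {a b : E} (h : ρ a + ρ b * S ≠ 0) :
    a ^ 2 + a * b * BE e₁ e₂ + b ^ 2 * (QE e₁ * QE e₂) ≠ 0 := by
  intro hN
  have h1 := C.QE_act a b e₁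
  rw [hN, zero_mul] at h1
  have h2 : (ρ a + ρ b * S) *ᵥ e₁ = 0 := by
    by_contra h3
    exact C.aniso _ h3 h1
  have h2' : (ρ a + ρ b * S) *ᵥ vec ρ e₁ e₂ 1 0 = 0 := by rw [vec_one_zero]; exact h2
  rw [C.act] at h2'
  obtain ⟨h3, h4⟩ := vec_eq_zero ρ C.he₁ C.he₂ h2'
  have hα := C.alpha_ne
  have hb : b = 0 := by
    have : b * QE e₁ = 0 := by linear_combination -h4
    rcases mul_eq_zero.mp this with h5 | h5
    · exact h5
    · exact absurd h5 hα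
  have ha : a = 0 := by
    rw [hb] at h3
    linear_combination h3
  apply h
  rw [ha, hb, map_zero, zero_mul, add_zero]

/-- the discriminant is non-zero -/
theorem disc_ne : BE e₁ e₂ ^ 2 - 4 * (QE e₁ * QE e₂) ≠ 0 := by
  intro h
  -- `u = β e₁ - 2 α e₂` is orthogonal to everything
  have hu : ∀ w, BE (vec ρ e₁ e₂ (BE e₁ e₂) (-(2 * QE e₁))) w = 0 := by
    intro w
    obtain ⟨x, y, rfl⟩ := C.span w
    rw [BE_vec T]
    linear_combination y * h
  have h1 := T.BE_nondeg _ hu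
  obtain ⟨h2, h3⟩ := vec_eq_zero ρ C.he₁ C.he₂ h1
  -- then `β = 0` and `2 α = 0`, so `e₁` is orthogonal to everything
  have he : ∀ w, BE e₁ w = 0 := by
    intro w
    obtain ⟨x, y, rfl⟩ := C.span w
    have h4 : BE e₁ (vec ρ e₁ e₂ x y) = BE (vec ρ e₁ e₂ 1 0) (vec ρ e₁ e₂ x y) := by
      rw [vec_one_zero]
    rw [h4, BE_vec T, h2]
    linear_combination -x * h3
  exact C.he₁ (T.BE_nondeg _ he)

end ACtx


/-- the algebra `A = ρ(E) + ρ(E) S` -/
def algA (C : ACtx T e₁ e₂ S) : Subalgebra F (Matrix ι ι F) where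
  carrier := {m | ∃ a b : E, m = ρ a + ρ b * S}
  mul_mem' := by
    rintro _ _ ⟨a, b, rfl⟩ ⟨c, d, rfl⟩
    exact ⟨_, _, C.mul_formula a b c d⟩
  add_mem' := by
    rintro _ _ ⟨a, b, rfl⟩ ⟨c, d, rfl⟩
    refine ⟨a + c, b + d, ?_⟩
    rw [map_add, map_add, add_mul]
    abel
  algebraMap_mem' := by
    intro c
    refine ⟨algebraMap F E c, 0, ?_⟩
    rw [AlgHom.commutes, map_zero, zero_mul, add_zero]

theorem mem_algA (C : ACtx T e₁ e₂ S) {m : Matrix ι ι F} :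
    m ∈ algA C ↔ ∃ a b : E, m = ρ a + ρ b * S := Iff.rfl

theorem repr_mem_algA (C : ACtx T e₁ e₂ S) (a b : E) : ρ a + ρ b * S ∈ algA C := ⟨a, b, rfl⟩

theorem rho_mem_algA (C : ACtx T e₁ e₂ S) (a : E) : ρ a ∈ algA C := ⟨a, 0, C.rho_eq a⟩

/-- `(a, b) ↦ ρ a + ρ b S` -/
def reprMap (ρ : E →ₐ[F] Matrix ι ι F) (S : Matrix ι ι F) : E × E →ₗ[F] Matrix ι ι F where
  toFun p := ρ p.1 + ρ p.2 * S
  map_add' p q := by
    simp only [Prod.fst_add, Prod.snd_add, map_add, add_mul]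
    abel
  map_smul' c p := by
    simp only [Prod.smul_fst, Prod.smul_snd, map_smul, smul_mul_assoc, RingHom.id_apply, smul_add]

theorem isField_algA (C : ACtx T e₁ e₂ S) (hr : 0 < r) : IsFieldSubalgebra (2 * r) (algA C) := by
  haveI : Module.Finite F E := Module.finite_of_finrank_pos (by rw [T.finrank_eq]; exact hr)
  refine ⟨?_, ?_, ?_⟩
  · rintro _ ⟨a, b, rfl⟩ _ ⟨c, d, rfl⟩
    exact C.comm_formula a b c d
  · rintro _ ⟨a, b, rfl⟩ hx
    have hN := C.norm_ne hx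
    set N := a ^ 2 + a * b * BE e₁ e₂ + b ^ 2 * (QE e₁ * QE e₂) with hNdef
    refine ⟨ρ (N⁻¹ * (a + b * BE e₁ e₂)) + ρ (N⁻¹ * (-b)) * S, repr_mem_algA C _ _, ?_⟩
    rw [C.mul_formula]
    have e1 : a * (N⁻¹ * (a + b * BE e₁ e₂)) - b * (N⁻¹ * (-b)) * (QE e₁ * QE e₂) = 1 := by
      have : a * (N⁻¹ * (a + b * BE e₁ e₂)) - b * (N⁻¹ * (-b)) * (QE e₁ * QE e₂) = N⁻¹ * N := by
        rw [hNdef]; ring
      rw [this, inv_mul_cancel₀ hN]
    have e2 : a * (N⁻¹ * (-b)) + b * (N⁻¹ * (a + b * BE e₁ e₂)) + b * (N⁻¹ * (-b)) * BE e₁ e₂ = 0 := by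
      ring
    rw [e1, e2, map_one, map_zero, zero_mul, add_zero]
  · have hrange : Subalgebra.toSubmodule (algA C) = LinearMap.range (reprMap ρ S) := by
      ext m
      rw [Subalgebra.mem_toSubmodule, LinearMap.mem_range, mem_algA]
      constructor
      · rintro ⟨a, b, rfl⟩
        exact ⟨(a, b), rfl⟩
      · rintro ⟨p, rfl⟩
        exact ⟨p.1, p.2, rfl⟩
    have hinj : Function.Injective (reprMap ρ S) := by
      rintro ⟨a, b⟩ ⟨c, d⟩ h
      obtain ⟨h1, h2⟩ := C.repr_inj (a := a) (b := b) (c := c) (d := d) h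
      rw [h1, h2]
    have h1 : finrank F (algA C) = finrank F (Subalgebra.toSubmodule (algA C)) := rfl
    rw [h1, hrange, LinearMap.finrank_range_of_inj hinj, Module.finrank_prod, T.finrank_eq]
    ring

end Cfsg.Agent.Lib.Helper13.OEFsa
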