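import Mathlib
import Cfsg.Prelude.Def_GeometricClasses
import Cfsg.Agent.Lib.Helper13.OEFsaDefs
import Cfsg.Agent.Lib.Helper13.OEFsaBasic

/-!
OMEGA-EVEN heavy leaf (H1), PART II, the ISOTROPIC case: a non-zero singular vector of `QE` gives exactly two singular
`E`-lines; they form a totally singular pair permuted by `N(K) ∩ O(Q)`.
-/

set_option autoImplicit false
set_option linter.unusedSectionVars false
set_option linter.unusedVariables false
set_option linter.style.haveILetI false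

namespace Cfsg.Agent.Lib.Helper13.OEFsa

open Cfsg Cfsg.Geo Matrix Module

universe u

variable {ι : Type} [Fintype ι] [DecidableEq ι] {F : Type u} [Field F] [Fintype F]
  {Q : (ι → F) → F} {K : Subalgebra F (Matrix ι ι F)} {r : ℕ}
  {E : Type u} [Field E] [Algebra F E] {ρ : E →ₐ[F] Matrix ι ι F}
  {BE : (ι → F) → (ι → F) → E} {QE : (ι → F) → E}

variable (T : FsaT Q K r E ρ BE QE)
include T

/-- a singular vector lies in a hyperbolic pair -/
theorem exists_hyperbolic {v₀ : ι → F} (hv₀ : v₀ ≠ 0) (hs : QE v₀ = 0) :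
    ∃ v₁ : ι → F, QE v₁ = 0 ∧ BE v₀ v₁ = 1 := by
  obtain ⟨w, hw⟩ : ∃ w, BE v₀ w ≠ 0 := by
    by_contra h
    push Not at h
    exact hv₀ (T.BE_nondeg v₀ h)
  obtain ⟨w', h1⟩ : ∃ w', BE v₀ w' = 1 := by
    refine ⟨ρ (BE v₀ w)⁻¹ *ᵥ w, ?_⟩
    rw [BE_smul_right T, inv_mul_cancel₀ hw]
  obtain ⟨c, hc⟩ : ∃ c, c = QE w' := ⟨_, rfl⟩
  refine ⟨ρ 1 *ᵥ w' + ρ (-c) *ᵥ v₀, ?_, ?_⟩
  · rw [QE_lin T, hs, ← hc, T.BE_symm w' v₀, h1]
    ring
  · rw [BE_add_right T, BE_smul_right T, BE_smul_right T, h1, BE_self T, hs]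
    ring

theorem map_line {g : GL ι F} {σ : E ≃ₐ[F] E} (hσ : ∀ a, g.val * ρ a = ρ (σ a) * g.val) (u : ι → F) :
    (line ρ u).map (Matrix.toLin' (g : Matrix ι ι F)) = line ρ (g.val *ᵥ u) := by
  ext w
  rw [Submodule.mem_map, mem_line]
  constructor
  · rintro ⟨z, hz, rfl⟩
    obtain ⟨a, rfl⟩ := (mem_line ρ).mp hz
    refine ⟨σ a, ?_⟩
    rw [Matrix.toLin'_apply, Matrix.mulVec_mulVec, Matrix.mulVec_mulVec, hσ]
  · rintro ⟨b, rfl⟩
    refine ⟨ρ (σ.symm b) *ᵥ u, smul_mem_line ρ _ u, ?_⟩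
    rw [Matrix.toLin'_apply, Matrix.mulVec_mulVec, Matrix.mulVec_mulVec, hσ, AlgEquiv.apply_symm_apply]

theorem gl_mulVec_ne_zero (g : GL ι F) {u : ι → F} (hu : u ≠ 0) : g.val *ᵥ u ≠ 0 := by
  intro h
  apply hu
  have h1 : (g⁻¹ : GL ι F).val *ᵥ (g.val *ᵥ u) = u := by
    rw [Matrix.mulVec_mulVec, ← Units.val_mul, inv_mul_cancel, Units.val_one, Matrix.one_mulVec]
  rw [← h1, h, Matrix.mulVec_zero]

theorem pair_of_isotropic (hr : 0 < r) (hn : Fintype.card ι = 2 * r) {v₀ : ι → F} (hv₀ : v₀ ≠ 0)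
    (hs : QE v₀ = 0) :
    ∃ D : Fin 2 → Submodule F (ι → F), IsMDecomposition r D ∧ (∀ i, IsTotallySingularQuad Q (D i)) ∧
      subalgebraNormalizer K ⊓ isometryGroup F Q ≤ decompositionStabilizer D := by
  haveI : Module.Finite F E := Module.finite_of_finrank_pos (by rw [T.finrank_eq]; exact hr)
  haveI : Nontrivial E := inferInstance
  obtain ⟨v₁, hs₁, hB⟩ := exists_hyperbolic T hv₀ hs
  have hv₁ : v₁ ≠ 0 := by
    rintro rfl
    rw [BE_zero_right T] at hB
    exact zero_ne_one hB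
  have hnl : v₁ ∉ line ρ v₀ := by
    intro h
    obtain ⟨a, rfl⟩ := (mem_line ρ).mp h
    rw [BE_smul_right T, BE_self T, hs] at hB
    simp at hB
  have hnl' : v₀ ∉ line ρ v₁ := by
    intro h
    obtain ⟨a, rfl⟩ := (mem_line ρ).mp h
    rw [T.BE_smul_left, BE_self T, hs₁] at hB
    simp at hB
  have hcoord := exists_coords ρ T.finrank_eq hr hn hv₀ hnl
  -- singular vectors
  have hsing : ∀ u : ι → F, QE u = 0 → u ∈ line ρ v₀ ∨ u ∈ line ρ v₁ := by
    intro u hu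
    obtain ⟨x, y, rfl⟩ := hcoord u
    rw [QE_lin T, hs, hs₁, hB] at hu
    have hxy : x * y = 0 := by linear_combination hu
    rcases mul_eq_zero.mp hxy with h | h
    · right
      rw [h, rho_zero_mulVec, zero_add]
      exact smul_mem_line ρ y v₁
    · left
      rw [h, rho_zero_mulVec, add_zero]
      exact smul_mem_line ρ x v₀
  set D : Fin 2 → Submodule F (ι → F) := ![line ρ v₀, line ρ v₁] with hD
  have hD0 : D 0 = line ρ v₀ := rfl
  have hD1 : D 1 = line ρ v₁ := rfl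
  have hDne : D 0 ≠ D 1 := by
    rw [hD0, hD1]
    intro h
    apply hnl'
    rw [← h]
    exact self_mem_line ρ v₀
  have hvi : ∀ i : Fin 2, ∃ u : ι → F, u ≠ 0 ∧ QE u = 0 ∧ D i = line ρ u := by
    intro i
    fin_cases i
    · exact ⟨v₀, hv₀, hs, rfl⟩
    · exact ⟨v₁, hv₁, hs₁, rfl⟩
  refine ⟨D, ⟨le_refl 2, hr, ?_, ?_, ?_⟩, ?_, ?_⟩
  · intro i
    obtain ⟨u, hu, -, hDi⟩ := hvi i
    rw [hDi, finrank_line ρ hu, T.finrank_eq]
  · rw [iSupIndep_pair (i := (0 : Fin 2)) (j := 1) (by decide) (by decide), hD0, hD1,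
      Submodule.disjoint_def]
    intro x hx0 hx1
    obtain ⟨a, rfl⟩ := (mem_line ρ).mp hx0
    obtain ⟨b, hb⟩ := (mem_line ρ).mp hx1
    have h1 : ρ a *ᵥ v₀ + ρ 0 *ᵥ v₁ = ρ 0 *ᵥ v₀ + ρ b *ᵥ v₁ := by
      rw [rho_zero_mulVec, rho_zero_mulVec, add_zero, zero_add, hb]
    have h2 := (coords_unique ρ hv₀ hnl h1).1
    rw [h2, rho_zero_mulVec]
  · rw [eq_top_iff]
    intro u _
    obtain ⟨x, y, rfl⟩ := hcoord u
    have h01 : D 0 ⊔ D 1 ≤ iSup D := sup_le (le_iSup D 0) (le_iSup D 1)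
    apply h01
    exact Submodule.add_mem_sup (smul_mem_line ρ x v₀) (smul_mem_line ρ y v₁)
  · intro i
    obtain ⟨u, -, hsu, hDi⟩ := hvi i
    rw [hDi]
    exact isTotallySingular_line T hsu
  · intro g hg
    obtain ⟨σ, hσ, hgQ⟩ := T.semilin g hg
    have hstep : ∀ i : Fin 2, ∃ j : Fin 2, (D i).map (Matrix.toLin' (g : Matrix ι ι F)) = D j := by
      intro i
      obtain ⟨u, hu, hsu, hDi⟩ := hvi i
      have hgu : QE (g.val *ᵥ u) = 0 := by rw [hgQ, hsu, map_zero]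
      have hgu0 := gl_mulVec_ne_zero T g hu
      rw [hDi, map_line T hσ]
      rcases hsing _ hgu with h | h
      · exact ⟨0, line_eq_of_mem ρ hgu0 h⟩
      · exact ⟨1, line_eq_of_mem ρ hgu0 h⟩
    choose f hf using hstep
    have hinj : Function.Injective (Matrix.toLin' (g : Matrix ι ι F)) := by
      intro a b hab
      rw [Matrix.toLin'_apply, Matrix.toLin'_apply] at hab
      have h1 : g.val *ᵥ (a - b) = 0 := by rw [Matrix.mulVec_sub, hab, sub_self]
      by_contra hne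
      exact gl_mulVec_ne_zero T g (sub_ne_zero.mpr hne) h1
    have hfinj : Function.Injective f := by
      intro i j hij
      have h1 : (D i).map (Matrix.toLin' (g : Matrix ι ι F)) =
          (D j).map (Matrix.toLin' (g : Matrix ι ι F)) := by rw [hf i, hf j, hij]
      have h2 : D i = D j := Submodule.map_injective_of_injective hinj h1
      by_contra hne
      have : (i = 0 ∧ j = 1) ∨ (i = 1 ∧ j = 0) := by
        fin_cases i <;> fin_cases j <;> simp_all
      rcases this with ⟨rfl, rfl⟩ | ⟨rfl, rfl⟩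
      · exact hDne h2
      · exact hDne h2.symm
    refine ⟨Equiv.ofBijective f (Finite.injective_iff_bijective.mp hfinj), fun i => ?_⟩
    rw [hf i]
    rfl

end Cfsg.Agent.Lib.Helper13.OEFsa
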