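import Mathlib
import Cfsg.Prelude.Def_GeometricClasses
import Cfsg.Agent.Lib.Helper13.OEFsaDefs
import Cfsg.Agent.Lib.Helper13.OEFsaBasic
import Cfsg.Agent.Lib.Helper13.OEFsaVec
import Cfsg.Agent.Lib.Helper13.OEFsaAlg

/-!
OMEGA-EVEN heavy leaf (H1), PART II, the ANISOTROPIC case, second half: the algebra `A` is CANONICAL
(`A = {k ∈ C(ρ E) | ∃ t, ∀ v, BE v (k v) = t QE v}`), hence normalised by `N(K) ∩ O(Q)`.
-/

set_option autoImplicit false
set_option linter.unusedSectionVars false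
set_option linter.unusedVariables false
set_option linter.style.haveILetI false

namespace Cfsg.Agent.Lib.Helper13.OEFsa

open Cfsg Cfsg.Geo Matrix Module

universe u

variable {ι : Type} [Fintype ι] [DecidableEq ι] {F : Type u} [Field F] [Fintype F]
  {Q : (ι → F) → F} {K : Subalgebra F (Matrix ι ι F)} {r : ℕ}
  {E : Type u} [Field E] [Algebra F E] {ρ : E →ₐ[F] Matrix ι ι F}
  {BE : (ι → F) → (ι → F) → E} {QE : (ι → F) → E}
  {T : FsaT Q K r E ρ BE QE} {e₁ e₂ : ι → F} {S : Matrix ι ι F}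

/-- the canonical characterisation of `A`, the hard direction -/
theorem mem_algA_of_canonical (C : ACtx T e₁ e₂ S) {k : Matrix ι ι F}
    (hk : ∀ a, k * ρ a = ρ a * k) {t : E} (ht : ∀ v, BE v (k *ᵥ v) = t * QE v) : k ∈ algA C := by
  obtain ⟨c11, c21, h1⟩ := C.span (k *ᵥ e₁)
  obtain ⟨c12, c22, h2⟩ := C.span (k *ᵥ e₂)
  have hkv : ∀ x y : E, k *ᵥ vec ρ e₁ e₂ x y =
      vec ρ e₁ e₂ (x * c11 + y * c12) (x * c21 + y * c22) := by
    intro x y
    rw [vec_def ρ e₁ e₂ x y, Matrix.mulVec_add, Matrix.mulVec_mulVec, Matrix.mulVec_mulVec, hk, hk,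
      ← Matrix.mulVec_mulVec, ← Matrix.mulVec_mulVec, h1, h2, rho_vec, rho_vec, vec_add]
  obtain ⟨α, hα⟩ : ∃ α, α = QE e₁ := ⟨_, rfl⟩
  obtain ⟨β, hβ⟩ : ∃ β, β = BE e₁ e₂ := ⟨_, rfl⟩
  obtain ⟨γ, hγ⟩ : ∃ γ, γ = QE e₂ := ⟨_, rfl⟩
  have E1 : 2 * α * c11 + β * c21 = t * α := by
    have h := ht (vec ρ e₁ e₂ 1 0)
    rw [hkv, BE_vec T, QE_vec T, ← hα, ← hβ, ← hγ] at h
    linear_combination h
  have E2 : β * c12 + 2 * γ * c22 = t * γ := by
    have h := ht (vec ρ e₁ e₂ 0 1)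
    rw [hkv, BE_vec T, QE_vec T, ← hα, ← hβ, ← hγ] at h
    linear_combination h
  have E3 : 2 * α * c12 + 2 * γ * c21 + β * (c11 + c22) = t * β := by
    have h := ht (vec ρ e₁ e₂ 1 1)
    rw [hkv, BE_vec T, QE_vec T, ← hα, ← hβ, ← hγ] at h
    linear_combination h - E1 - E2
  have hdisc : β ^ 2 - 4 * (α * γ) ≠ 0 := by rw [hα, hβ, hγ]; exact C.disc_ne
  have hα0 : α ≠ 0 := by rw [hα]; exact C.alpha_ne
  have hX : α * c12 + γ * c21 = 0 := by
    have : (β ^ 2 - 4 * (α * γ)) * (α * c12 + γ * c21) = 0 := by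
      linear_combination β * (α * E2 - γ * E1) - 2 * γ * (α * E3 - β * E1)
    rcases mul_eq_zero.mp this with h | h
    · exact absurd h hdisc
    · exact h
  have hY : α * (c11 - c22) + β * c21 = 0 := by
    have : (β ^ 2 - 4 * (α * γ)) * (α * (c11 - c22) + β * c21) = 0 := by
      linear_combination 2 * α * (α * E2 - γ * E1) - β * (α * E3 - β * E1)
    rcases mul_eq_zero.mp this with h | h
    · exact absurd h hdisc
    · exact h
  obtain ⟨b, hb⟩ : ∃ b : E, b * α = -c21 := ⟨-c21 * α⁻¹, by field_simp⟩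
  refine ⟨c22, b, ?_⟩
  apply mat_ext
  intro u
  obtain ⟨x, y, rfl⟩ := C.span u
  rw [hkv, C.act, ← hα, ← hβ, ← hγ]
  have e11 : c11 = c22 + b * β := by
    apply mul_left_cancel₀ hα0
    linear_combination hY - β * hb
  have e12 : c12 = b * γ := by
    apply mul_left_cancel₀ hα0
    linear_combination hX - γ * hb
  have e21 : c21 = -(b * α) := by linear_combination hb
  congr 1
  · rw [e11, e12]; ring
  · rw [e21]; ring

theorem conj_rho {g : GL ι F} {σ : E ≃ₐ[F] E} (hσ : ∀ a, g.val * ρ a = ρ (σ a) * g.val) (a : E) :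
    g.val * ρ a * (g⁻¹ : GL ι F).val = ρ (σ a) := by
  rw [hσ, mul_assoc, ← Units.val_mul, mul_inv_cancel, Units.val_one, mul_one]

theorem conj_mem_algA (C : ACtx T e₁ e₂ S) {g : GL ι F}
    (hg : g ∈ subalgebraNormalizer K ⊓ isometryGroup F Q) {k : Matrix ι ι F} (hk : k ∈ algA C) :
    g.val * k * (g⁻¹ : GL ι F).val ∈ algA C := by
  obtain ⟨σ, hσ, hgQ⟩ := T.semilin g hg
  have hgi : (g⁻¹ : GL ι F).val * g.val = 1 := by
    rw [← Units.val_mul, inv_mul_cancel, Units.val_one]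
  have hgi' : g.val * (g⁻¹ : GL ι F).val = 1 := by
    rw [← Units.val_mul, mul_inv_cancel, Units.val_one]
  -- `g S g⁻¹ ∈ A`
  have hS : g.val * S * (g⁻¹ : GL ι F).val ∈ algA C := by
    refine mem_algA_of_canonical C (t := σ (BE e₁ e₂)) ?_ ?_
    · intro a
      have h1 : ρ a = g.val * ρ (σ.symm a) * (g⁻¹ : GL ι F).val := by
        rw [conj_rho hσ, AlgEquiv.apply_symm_apply]
      rw [h1]
      calc g.val * S * (g⁻¹ : GL ι F).val * (g.val * ρ (σ.symm a) * (g⁻¹ : GL ι F).val)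
          = g.val * S * ((g⁻¹ : GL ι F).val * g.val) * ρ (σ.symm a) * (g⁻¹ : GL ι F).val := by
            simp only [mul_assoc]
        _ = g.val * (S * ρ (σ.symm a)) * (g⁻¹ : GL ι F).val := by
            rw [hgi, mul_one]; simp only [mul_assoc]
        _ = g.val * (ρ (σ.symm a) * S) * (g⁻¹ : GL ι F).val := by rw [C.S_rho]
        _ = g.val * ρ (σ.symm a) * ((g⁻¹ : GL ι F).val * g.val) * S * (g⁻¹ : GL ι F).val := by
            rw [hgi, mul_one]; simp only [mul_assoc]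
        _ = g.val * ρ (σ.symm a) * (g⁻¹ : GL ι F).val * (g.val * S * (g⁻¹ : GL ι F).val) := by
            simp only [mul_assoc]
    · intro v
      obtain ⟨w, rfl⟩ : ∃ w, v = g.val *ᵥ w :=
        ⟨(g⁻¹ : GL ι F).val *ᵥ v, by rw [Matrix.mulVec_mulVec, hgi', Matrix.one_mulVec]⟩
      have h1 : (g.val * S * (g⁻¹ : GL ι F).val) *ᵥ (g.val *ᵥ w) = g.val *ᵥ (S *ᵥ w) := by
        rw [Matrix.mulVec_mulVec, mul_assoc, mul_assoc, hgi, mul_one, Matrix.mulVec_mulVec]
      rw [h1, BE_semilin T hgQ, hgQ]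
      have h2 := C.BE_act 0 1 w
      rw [← C.S_eq] at h2
      rw [h2, map_mul]
      congr 2
      ring
  obtain ⟨a, b, rfl⟩ := hk
  have h2 : g.val * (ρ a + ρ b * S) * (g⁻¹ : GL ι F).val =
      ρ (σ a) + ρ (σ b) * (g.val * S * (g⁻¹ : GL ι F).val) := by
    rw [← conj_rho hσ a, ← conj_rho hσ b]
    calc g.val * (ρ a + ρ b * S) * (g⁻¹ : GL ι F).val
        = g.val * ρ a * (g⁻¹ : GL ι F).val + g.val * ρ b * S * (g⁻¹ : GL ι F).val := by
          rw [mul_add, add_mul]; simp only [mul_assoc]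
      _ = g.val * ρ a * (g⁻¹ : GL ι F).val +
          g.val * ρ b * ((g⁻¹ : GL ι F).val * g.val) * S * (g⁻¹ : GL ι F).val := by
          rw [hgi, mul_one]
      _ = _ := by simp only [mul_assoc]
  rw [h2]
  exact (algA C).add_mem (rho_mem_algA C _) ((algA C).mul_mem (rho_mem_algA C _) hS)

theorem algA_normalized (C : ACtx T e₁ e₂ S) :
    subalgebraNormalizer K ⊓ isometryGroup F Q ≤ subalgebraNormalizer (algA C) := by
  intro g hg k
  constructor
  · intro hk
    exact conj_mem_algA C hg hk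
  · intro hk
    have h1 := conj_mem_algA C ((subalgebraNormalizer K ⊓ isometryGroup F Q).inv_mem hg) hk
    have hgi : (g⁻¹ : GL ι F).val * g.val = 1 := by
      rw [← Units.val_mul, inv_mul_cancel, Units.val_one]
    have h2 : (g⁻¹ : GL ι F).val * (g.val * k * (g⁻¹ : GL ι F).val) * ((g⁻¹)⁻¹ : GL ι F).val = k := by
      rw [inv_inv]
      calc (g⁻¹ : GL ι F).val * (g.val * k * (g⁻¹ : GL ι F).val) * g.val
          = ((g⁻¹ : GL ι F).val * g.val) * k * ((g⁻¹ : GL ι F).val * g.val) := by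
            simp only [mul_assoc]
        _ = k := by rw [hgi, one_mul, mul_one]
    rw [h2] at h1
    exact h1

end Cfsg.Agent.Lib.Helper13.OEFsa
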