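import Mathlib
import Cfsg.Prelude.Def_GeometricClasses
import Cfsg.Agent.Lib.Helper27.AschKF3

/-!
Generic-index copies of helper27's `AschKF3.exists_model` / `exists_sub` (same proofs, `ι` instead of `Fin n`), and the
fixed points of the `q`-Frobenius in a finite extension.
-/

set_option autoImplicit false
set_option linter.unusedSectionVars false
set_option linter.unusedVariables false
set_option linter.style.haveILetI false

namespace Cfsg.Agent.Lib.Helper13.OEFsa

open Cfsg Cfsg.Geo Matrix Module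

universe u

variable {ι : Type} [Fintype ι] [DecidableEq ι] {F : Type u} [Field F] [Fintype F]

/-- a field subalgebra is the image of an abstract extension field -/
theorem exists_model_gen (d : ℕ) (hd : 0 < d) (K : Subalgebra F (Matrix ι ι F))
    (hK : IsFieldSubalgebra d K) :
    ∃ (E : Type u) (_ : Field E) (_ : Algebra F E) (ρ : E →ₐ[F] Matrix ι ι F),
      Function.Injective ρ ∧ ρ.range = K ∧ finrank F E = d := by
  have hF : IsField ↥K := by
    refine ⟨⟨0, 1, ?_⟩, ?_, ?_⟩
    · intro h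
      have h1 : Subsingleton ↥K := by
        refine ⟨fun a b => ?_⟩
        rw [← mul_one a, ← mul_one b, ← h, mul_zero, mul_zero]
      have h2 : finrank F ↥K = 0 := Module.finrank_zero_of_subsingleton
      rw [hK.finrank_eq] at h2
      omega
    · intro a b
      exact Subtype.ext (hK.comm a.1 a.2 b.1 b.2)
    · intro a ha
      obtain ⟨y, hy, hxy⟩ := hK.inv a.1 a.2 (fun h => ha (Subtype.ext h))
      exact ⟨⟨y, hy⟩, Subtype.ext hxy⟩
  let fE : Field ↥K := hF.toField
  refine ⟨↥K, fE, (Subalgebra.algebra K : @Algebra F ↥K _ fE.toSemiring), K.val, ?_, ?_, ?_⟩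
  · exact Subtype.val_injective
  · exact K.range_val
  · exact hK.finrank_eq

/-- the subfield of degree `r` of a field subalgebra of degree divisible by `r` -/
theorem exists_sub_gen (K : Subalgebra F (Matrix ι ι F)) (d : ℕ) (hK : IsFieldSubalgebra d K)
    (r : ℕ) (hr0 : r ≠ 0) (hd0 : 0 < d) (hr : r ∣ d) :
    ∃ K' : Subalgebra F (Matrix ι ι F), IsFieldSubalgebra r K' ∧
      ∀ k : Matrix ι ι F, k ∈ K' ↔ k ∈ K ∧ k ^ (Fintype.card F ^ r) = k := by
  classical
  obtain ⟨E, iE, iA, ρ, hinj, hrange, hfr⟩ := exists_model_gen d hd0 K hK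
  have hfin : Finite E := Finite.of_injective ρ hinj
  obtain ⟨L, hL, hmem⟩ := Cfsg.Agent.Lib.Helper27.AschKF3.exists_intermediate F E r hr0
    (by rw [hfr]; exact hr)
  have hmemK : ∀ k : Matrix ι ι F, k ∈ L.toSubalgebra.map ρ ↔
      k ∈ K ∧ k ^ (Fintype.card F ^ r) = k := by
    intro k
    rw [Subalgebra.mem_map, ← hrange]
    constructor
    · rintro ⟨x, hx, rfl⟩
      refine ⟨⟨x, rfl⟩, ?_⟩
      have := (hmem x).mp hx
      rw [← map_pow, this]
    · rintro ⟨⟨x, rfl⟩, hx⟩
      refine ⟨x, (hmem x).mpr ?_, rfl⟩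
      apply hinj
      rw [map_pow]
      exact hx
  refine ⟨L.toSubalgebra.map ρ, ⟨?_, ?_, ?_⟩, hmemK⟩
  · intro x hx y hy
    exact hK.comm x ((hmemK x).mp hx).1 y ((hmemK y).mp hy).1
  · intro x hx hx0
    obtain ⟨a, ha, rfl⟩ := Subalgebra.mem_map.mp hx
    have ha0 : a ≠ 0 := by
      rintro rfl
      exact hx0 (map_zero ρ)
    refine ⟨ρ a⁻¹, Subalgebra.mem_map.mpr ⟨a⁻¹, L.inv_mem ha, rfl⟩, ?_⟩
    rw [← map_mul, mul_inv_cancel₀ ha0, map_one]
  · rw [← hL]
    exact (LinearEquiv.finrank_eq (Subalgebra.equivMapOfInjective L.toSubalgebra ρ hinj).toLinearEquiv).symm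

/-- the fixed points of `x ↦ x ^ q` in a finite extension `E` of `F` are the elements of `F` -/
theorem mem_range_of_pow_card {E : Type*} [Field E] [Algebra F E] [Finite E] {x : E}
    (hx : x ^ Fintype.card F = x) : ∃ c : F, algebraMap F E c = x := by
  haveI : FiniteDimensional F E := Module.Finite.of_finite
  obtain ⟨L, hL, hmem⟩ := Cfsg.Agent.Lib.Helper27.AschKF3.exists_intermediate F E 1 one_ne_zero
    (one_dvd _)
  have h1 : L = ⊥ := IntermediateField.finrank_eq_one_iff.mp hL
  have h2 : x ∈ L := (hmem x).mpr (by rw [pow_one]; exact hx)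
  rw [h1, IntermediateField.mem_bot] at h2
  exact h2

end Cfsg.Agent.Lib.Helper13.OEFsa
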