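import Mathlib
import Cfsg.Prelude.Def_GeometricClasses
import Cfsg.Agent.Lib.Helper13.OEFsaDefs
import Cfsg.Agent.Lib.Helper13.OEFsaBasic
import Cfsg.Agent.Lib.Helper13.OEFsaVec
import Cfsg.Agent.Lib.Helper13.OEFsaSub
import Cfsg.Agent.Lib.Helper13.OEFsaIso
import Cfsg.Agent.Lib.Helper13.OEFsaAlg
import Cfsg.Agent.Lib.Helper13.OEFsaNorm

/-!
OMEGA-EVEN heavy leaf (H1), PART II, conclusion: from the transfer data `FsaT` to the data of `EGeo.funi` / `EGeo.pair`.
-/

set_option autoImplicit false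
set_option linter.unusedSectionVars false
set_option linter.unusedVariables false
set_option linter.style.haveILetI false

namespace Cfsg.Agent.Lib.Helper13.OEFsa

open Cfsg Cfsg.Geo Matrix Module

universe u

variable {ι : Type} [Fintype ι] [DecidableEq ι] {F : Type u} [Field F] [Fintype F]
  {Q : (ι → F) → F} {K : Subalgebra F (Matrix ι ι F)} {r : ℕ}
  {E : Type u} [Field E] [Algebra F E] {ρ : E →ₐ[F] Matrix ι ι F}
  {BE : (ι → F) → (ι → F) → E} {QE : (ι → F) → E}

/-- Frobenius descent: a fixed point of `x ↦ x ^ q²` in a field with `q ^ r` elements, `r` odd, lies in `F` -/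
theorem mem_range_of_pow_sq [Finite E] (hfr : finrank F E = r) (hr : Odd r) {x : E}
    (hx : x ^ (Fintype.card F ^ 2) = x) : ∃ c : F, algebraMap F E c = x := by
  classical
  haveI : Fintype E := Fintype.ofFinite E
  haveI : FiniteDimensional F E := Module.Finite.of_finite
  apply mem_range_of_pow_card
  obtain ⟨m, rfl⟩ := hr
  have h1 : ∀ j : ℕ, x ^ (Fintype.card F ^ (2 * j)) = x := by
    intro j
    induction j with
    | zero => simp
    | succ j ih =>
      rw [show 2 * (j + 1) = 2 * j + 2 by ring, pow_add, pow_mul, ih, hx]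
  have h2 : x ^ Fintype.card E = x := FiniteField.pow_card x
  rw [Module.card_eq_pow_finrank (K := F) (V := E), hfr, pow_succ, pow_mul, h1 m] at h2
  exact h2

/-- `k'` is an adjoint of `k` for `BE` -/
def IsAdjE (BE : (ι → F) → (ι → F) → E) (k k' : Matrix ι ι F) : Prop :=
  ∀ v w, BE (k *ᵥ v) w = BE v (k' *ᵥ w)

theorem IsAdjE.pow {k k' : Matrix ι ι F} (h : IsAdjE BE k k') (m : ℕ) : IsAdjE BE (k ^ m) (k' ^ m) := by
  induction m with
  | zero =>
    intro v w
    rw [pow_zero, pow_zero, Matrix.one_mulVec, Matrix.one_mulVec]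
  | succ m ih =>
    intro v w
    rw [pow_succ', pow_succ, ← Matrix.mulVec_mulVec, ← Matrix.mulVec_mulVec, h, ih]

theorem IsAdjE.unique (T : FsaT Q K r E ρ BE QE) {k k' k'' : Matrix ι ι F} (h : IsAdjE BE k k')
    (h' : IsAdjE BE k k'') : k' = k'' := by
  apply mat_ext
  intro w
  have h1 : ∀ v, BE (k' *ᵥ w - k'' *ᵥ w) v = 0 := by
    intro v
    rw [T.BE_symm, BE_sub_right T, ← h, ← h', sub_self]
  exact sub_eq_zero.mp (T.BE_nondeg _ h1)

theorem funi_of_anisotropic (T : FsaT Q K r E ρ BE QE) (hr : Odd r) (hn : Fintype.card ι = 2 * r)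
    (hnd : ∀ w : ι → F, (∀ u, QuadraticMap.polar Q u w = 0) → w = 0)
    (haniso : ∀ v : ι → F, v ≠ 0 → QE v ≠ 0) :
    ∃ L : Subalgebra F (Matrix ι ι F), IsFieldSubalgebra 2 L ∧
      IsAdjointClosedFor (QuadraticMap.polar Q) L ∧ ¬ IsSelfAdjointFor (QuadraticMap.polar Q) L ∧
      (∀ k ∈ L, ∃ c : F, ∀ v, Q (k *ᵥ v) = c * Q v) ∧
      subalgebraNormalizer K ⊓ isometryGroup F Q ≤ subalgebraNormalizer L := by
  classical
  have hr0 : 0 < r := hr.pos
  haveI : Finite E := Finite.of_injective ρ T.inj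
  -- the frame
  have hι : Nonempty ι := by
    rw [← Fintype.card_pos_iff, hn]
    omega
  obtain ⟨i₀⟩ := hι
  obtain ⟨e₁, he₁⟩ : ∃ e₁ : ι → F, e₁ ≠ 0 := by
    refine ⟨Pi.single i₀ 1, fun h => ?_⟩
    have := congrFun h i₀
    simp at this
  obtain ⟨e₂, he₂⟩ := exists_not_mem_line ρ T.finrank_eq hr0 hn he₁
  have hbij := pairMap_bijective ρ T.finrank_eq hr0 hn he₁ he₂
  obtain ⟨S, hS⟩ := exists_op ρ hbij (BE e₁ e₂) (QE e₂) (-QE e₁) 0
  have C : ACtx T e₁ e₂ S :=
    ⟨he₁, he₂, fun u => by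
      obtain ⟨x, y, h⟩ := exists_coords ρ T.finrank_eq hr0 hn he₁ he₂ u
      exact ⟨x, y, h⟩, haniso, hS⟩
  have hA := isField_algA C hr0
  obtain ⟨L, hL, hmem⟩ := exists_sub_gen (algA C) (2 * r) hA 2 two_ne_zero (by omega)
    (dvd_mul_right 2 r)
  -- the adjoint of an element of `L` lies in `L`
  have hadj : ∀ a b : E, IsAdjE BE (ρ a + ρ b * S) (ρ (a + b * BE e₁ e₂) + ρ (-b) * S) :=
    fun a b v w => C.adj_act a b v w
  have hbar : ∀ a b : E, ρ a + ρ b * S ∈ L → ρ (a + b * BE e₁ e₂) + ρ (-b) * S ∈ L := by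
    intro a b hk
    rw [hmem] at hk ⊢
    refine ⟨repr_mem_algA C _ _, ?_⟩
    have h1 := (hadj a b).pow (Fintype.card F ^ 2)
    rw [hk.2] at h1
    exact IsAdjE.unique T h1 (hadj a b)
  -- elements of `ρ E` in `L` are scalars
  have hscal : ∀ a : E, ρ a ∈ L → ∃ c : F, algebraMap F E c = a := by
    intro a ha
    have h1 := ((hmem _).mp ha).2
    rw [← map_pow] at h1
    exact mem_range_of_pow_sq T.finrank_eq hr (T.inj h1)
  refine ⟨L, hL, ?_, ?_, ?_, ?_⟩
  · -- adjoint-closed
    intro k hk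
    obtain ⟨a, b, rfl⟩ := ((hmem k).mp hk).1
    refine ⟨_, hbar a b hk, fun u v => ?_⟩
    rw [polar_eq T, polar_eq T, hadj a b u v]
  · -- not self-adjoint
    intro hsa
    have hsub : ∀ k ∈ L, ∃ c : F, k = algebraMap F (Matrix ι ι F) c := by
      intro k hk
      obtain ⟨a, b, rfl⟩ := ((hmem k).mp hk).1
      have h1 : ρ a + ρ b * S = ρ (a + b * BE e₁ e₂) + ρ (-b) * S := by
        apply mat_ext
        intro v
        apply sub_eq_zero.mp
        apply hnd
        intro u
        have h2 := hsa _ hk u v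
        rw [polar_eq T (_ *ᵥ u) v, hadj a b u v, ← polar_eq T] at h2
        rw [polar_eq T, BE_sub_right T, map_sub, ← polar_eq T, ← polar_eq T, h2, sub_self]
      obtain ⟨h3, h4⟩ := C.repr_inj h1
      have hb : b = 0 := by
        by_contra hb
        have h5 : BE e₁ e₂ = 0 := by
          have : b * BE e₁ e₂ = 0 := by linear_combination -h3
          rcases mul_eq_zero.mp this with h | h
          · exact absurd h hb
          · exact h
        have h6 : (2 : E) = 0 := by
          have : b * 2 = 0 := by linear_combination h4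
          rcases mul_eq_zero.mp this with h | h
          · exact absurd h hb
          · exact h
        apply C.disc_ne
        rw [h5, show (4 : E) = 2 * 2 by norm_num, h6]
        ring
      rw [hb, map_zero, zero_mul, add_zero] at hk ⊢
      obtain ⟨c, rfl⟩ := hscal a hk
      exact ⟨c, AlgHom.commutes ρ c⟩
    have hle : L ≤ ⊥ := by
      intro k hk
      obtain ⟨c, rfl⟩ := hsub k hk
      exact Subalgebra.algebraMap_mem ⊥ c
    have hLbot : L = ⊥ := le_bot_iff.mp hle
    haveI : Nontrivial (Matrix ι ι F) := ⟨⟨ρ 0, ρ 1, fun h => zero_ne_one (T.inj h)⟩⟩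
    have h1 := hL.finrank_eq
    rw [hLbot, Subalgebra.finrank_bot] at h1
    omega
  · -- similitudes
    intro k hk
    obtain ⟨a, b, rfl⟩ := ((hmem k).mp hk).1
    have h1 : ρ (a ^ 2 + a * b * BE e₁ e₂ + b ^ 2 * (QE e₁ * QE e₂)) ∈ L := by
      rw [← C.norm_formula]
      exact L.mul_mem hk (hbar a b hk)
    obtain ⟨c, hc⟩ := hscal _ h1
    refine ⟨c, fun v => ?_⟩
    rw [← T.trace_QE, C.QE_act, ← hc, ← T.trace_QE, ← Algebra.smul_def, map_smul, smul_eq_mul]
  · -- normalised
    intro g hg k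
    have hgA := algA_normalized C hg
    rw [hmem, hmem, Units.conj_pow g k]
    constructor
    · rintro ⟨h1, h2⟩
      exact ⟨(hgA k).mp h1, by rw [h2]⟩
    · rintro ⟨h1, h2⟩
      refine ⟨(hgA k).mpr h1, ?_⟩
      have hgi : (g⁻¹ : GL ι F).val * g.val = 1 := by
        rw [← Units.val_mul, inv_mul_cancel, Units.val_one]
      have h3 : (g⁻¹ : GL ι F).val * (g.val * k ^ (Fintype.card F ^ 2) * (g⁻¹ : GL ι F).val) * g.val =
          (g⁻¹ : GL ι F).val * (g.val * k * (g⁻¹ : GL ι F).val) * g.val := by rw [h2]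
      have h4 : ∀ m : Matrix ι ι F,
          (g⁻¹ : GL ι F).val * (g.val * m * (g⁻¹ : GL ι F).val) * g.val = m := by
        intro m
        calc (g⁻¹ : GL ι F).val * (g.val * m * (g⁻¹ : GL ι F).val) * g.val
            = ((g⁻¹ : GL ι F).val * g.val) * m * ((g⁻¹ : GL ι F).val * g.val) := by
              simp only [mul_assoc]
          _ = m := by rw [hgi, one_mul, mul_one]
      rw [h4, h4] at h3
      exact h3

/-- **PART II of (H1)**: the transfer data give the data of `EGeo.funi` or of `EGeo.pair`. -/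
theorem fsa_half_of_transfer (T : FsaT Q K r E ρ BE QE) (hr : Odd r) (hn : Fintype.card ι = 2 * r)
    (hnd : ∀ w : ι → F, (∀ u, QuadraticMap.polar Q u w = 0) → w = 0) : FsaGoal Q K r := by
  by_cases h : ∃ v : ι → F, v ≠ 0 ∧ QE v = 0
  · obtain ⟨v, hv, hs⟩ := h
    exact Or.inr (pair_of_isotropic T hr.pos hn hv hs)
  · push Not at h
    exact Or.inl (funi_of_anisotropic T hr hn hnd h)

end Cfsg.Agent.Lib.Helper13.OEFsa
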