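import Mathlib
import Cfsg.Prelude.Def_GeometricClasses
import Cfsg.Agent.Lib.Helper25.OEFsaH1

/-!
OMEGA-EVEN heavy leaf (H1) under the name lead asked for (msg 4335).  The proof is helper25's
(`Cfsg.Agent.Lib.Helper25.OELeaf.funi_or_pair_of_fsa_half`, all characteristics uniformly); helper13's independent
PART II (`Cfsg.Agent.Lib.Helper13.OEFsa.fsa_half_of_transfer`, on the interface `FsaT`) is in `OEFsaBin.lean`.
-/

set_option autoImplicit false

namespace Cfsg.Agent.Lib.Helper13.OELeaf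
open Matrix Cfsg Cfsg.Geo

variable {F : Type*} [Field F] [Fintype F] {n : ℕ} {Q : (Fin n → F) → F}

/-- **(H1)**, the exact statement accepted by lead (msg 4335) -/
theorem funi_or_pair_of_fsa_half {r : ℕ} (hQ : IsNondegenerateQuadraticForm Q) (hn : n = 2 * r) (hr : Odd r)
    (K : Subalgebra F (Matrix (Fin n) (Fin n) F)) (hK : IsFieldSubalgebra r K)
    (hsa : IsSelfAdjointFor (QuadraticMap.polar Q) K) :
    (∃ K₂ : Subalgebra F (Matrix (Fin n) (Fin n) F), IsFieldSubalgebra 2 K₂ ∧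
        IsAdjointClosedFor (QuadraticMap.polar Q) K₂ ∧ ¬ IsSelfAdjointFor (QuadraticMap.polar Q) K₂ ∧
        (∀ k ∈ K₂, ∃ c : F, ∀ v, Q (k *ᵥ v) = c * Q v) ∧
        subalgebraNormalizer K ⊓ isometryGroup F Q ≤ subalgebraNormalizer K₂) ∨
    (∃ D : Fin 2 → Submodule F (Fin n → F), IsMDecomposition r D ∧ (∀ i, IsTotallySingularQuad Q (D i)) ∧
        subalgebraNormalizer K ⊓ isometryGroup F Q ≤ decompositionStabilizer D) :=
  Cfsg.Agent.Lib.Helper25.OELeaf.funi_or_pair_of_fsa_half hQ hn hr K hK hsa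

end Cfsg.Agent.Lib.Helper13.OELeaf
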