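import Mathlib
import Cfsg.Agent.Lib.Lead.OEDefs
import Cfsg.Agent.Lib.Helper4.AschA1
import Cfsg.Agent.Lib.Helper20.AschTS
import Cfsg.Agent.Lib.Helper29.AschKF2
import Cfsg.Agent.Lib.Helper29.AschS1K1
import Cfsg.Agent.Lib.Helper29.SpPrfDefs
import Cfsg.Agent.Lib.Helper29.SpPrfD
import Cfsg.Agent.Lib.Helper29.SpPrfC
import Cfsg.Agent.Lib.Helper29.SpPrfMain
import Cfsg.Agent.Lib.Helper6.SpPrfE12
import Cfsg.Agent.Lib.Helper19.SpPrfA
import Cfsg.Agent.Lib.Helper23.SpPrfB5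
import Cfsg.Agent.Lib.Helper25.OAschTNSa
import Cfsg.Agent.Lib.Helper13.OAschOB
import Cfsg.Agent.Lib.Helper13.OAschPRF
import Cfsg.Agent.Lib.Helper13.OEBridge

/-!
OMEGA-EVEN (planner lead), block [E-PRF] (helper13): `egeo_or_simple`, exact signature of `notes/OmEven_leaves.lean`.
Assembly = helper29's S5662-PRF assembly with `J := gramMatrix (polar Q)` (symmetric): `gramT e P J = c • ptens G` (`Helper13.OAschLeaf.gram_ptens`,
generic Gram), all factors congruent (`Helper6.SpPrfLeaf.all_congruent`, `normalise`), `G₀ᵀ = ε G₀`, `ε² = 1`.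
`q` odd: `ε = 1` -> symmetric factor form; `ε = -1` -> alternating factor form, `Q = polar/2` vanishes on pure tensors.
`q` even: `G₀` symmetric with zero diagonal; `Q'` := the quadratic form of helper29's (C1) with polar `bfm J`, vanishing on the pure tensors,
is `H`-invariant (vanishes on an invariant spanning set); `Q - Q'` is additive, `λ²`-homogeneous, `H`-invariant: zero by [E-Q0].  -> `.c7`.
-/

set_option autoImplicit false
set_option linter.unusedSectionVars false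
set_option linter.unusedVariables false

namespace Cfsg.Agent.Lib.Helper13.OELeaf
open Matrix Cfsg Cfsg.Geo Cfsg.Agent.Lib.Helper20.Asch Cfsg.Agent.Lib.Lead.OE Cfsg.Agent.Lib.Helper29.SpAsch
  Cfsg.Agent.Lib.Helper18.AschA89 Cfsg.Agent.Lib.Helper13.OE
open scoped Kronecker

variable {F : Type*} [Field F] [Fintype F] {n : ℕ} {Q : (Fin n → F) → F}
  {H N : Subgroup (GL (Fin n) F)}

/-- the symmetry type of the factor of a SYMMETRIC pure tensor power (twin of `Helper26.SpPrfLeaf.symm_type`) -/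
theorem symm_type_symm {s t : ℕ} (ht : 0 < t) (c : F) (hc : c ≠ 0) (G₀ : Matrix (Fin s) (Fin s) F) (hG₀ : G₀ ≠ 0)
    (M : Matrix (Fin t → Fin s) (Fin t → Fin s) F) (hM : Mᵀ = M) (hgram : M = c • ptens s t (fun _ => G₀)) :
    ∃ ε : F, G₀ᵀ = ε • G₀ ∧ ε * ε = 1 ∧ ε ^ t = 1 := by
  have h1 : ptens s t (fun _ : Fin t => G₀ᵀ) = (1 : F) • ptens s t (fun _ => G₀) := by
    rw [hgram, Matrix.transpose_smul, Cfsg.Agent.Lib.Helper20.AschLeaf.ptens_transpose] at hM
    rw [one_smul]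
    exact smul_right_injective _ hc hM
  obtain ⟨d, hd0, hd, hprod⟩ := Cfsg.Agent.Lib.Helper19.SpPrfLeaf.ptens_eq_smul_ptens
    (fun _ : Fin t => G₀ᵀ) (fun _ => G₀) 1 one_ne_zero (fun _ => hG₀) h1
  obtain ⟨u, v, huv⟩ : ∃ u v, G₀ u v ≠ 0 := by
    by_contra hne
    apply hG₀
    ext u v
    by_contra huv
    exact hne ⟨u, v, huv⟩
  have hcancel : ∀ x y : F, x • G₀ = y • G₀ → x = y := by
    intro x y hxy
    have := congrFun (congrFun hxy u) v
    simp only [Matrix.smul_apply, smul_eq_mul] at this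
    exact mul_right_cancel₀ huv this
  obtain ⟨i₀, hi₀⟩ : ∃ i₀ : Fin t, i₀ = ⟨0, ht⟩ := ⟨_, rfl⟩
  have hall : ∀ i, d i = d i₀ := by
    intro i
    apply hcancel
    rw [← hd i, ← hd i₀]
  refine ⟨d i₀, hd i₀, ?_, ?_⟩
  · have h2 : G₀ = (d i₀ * d i₀) • G₀ := by
      have := congrArg Matrix.transpose (hd i₀)
      simp only [Matrix.transpose_transpose, Matrix.transpose_smul] at this
      rw [hd i₀, smul_smul] at this
      exact this
    have := hcancel 1 (d i₀ * d i₀) (by rw [one_smul]; exact h2)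
    exact this.symm
  · rw [← hprod]
    rw [Finset.prod_congr rfl (fun i _ => hall i), Finset.prod_const, Finset.card_univ, Fintype.card_fin]

/-- the quadratic form of helper29's (C1): polar form `bfm J`, vanishing on the pure tensors (characteristic 2) -/
theorem exists_quad_pure {J : Matrix (Fin n) (Fin n) F} (h2 : (2 : F) = 0) {s t : ℕ} (ht : 2 ≤ t)
    (e : Fin n ≃ (Fin t → Fin s)) (P : GL (Fin n) F) (c : F)
    (G₀ : Matrix (Fin s) (Fin s) F) (hsym : G₀ᵀ = G₀) (hdiag : ∀ j, G₀ j j = 0)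
    (hgram : gramT e P J = c • ptens s t (fun _ => G₀)) :
    ∃ Q' : (Fin n → F) → F, (∀ (a : F) (v : Fin n → F), Q' (a • v) = a ^ 2 * Q' v) ∧
      (∀ u v, QuadraticMap.polar Q' u v = bfm J u v) ∧
      ∀ v : Fin t → Fin s → F, Q' (tvec e P (pvec v)) = 0 := by
  classical
  have hneg : ∀ a : F, -a = a := fun a => by
    have : a + a = 0 := by rw [← two_mul, h2, zero_mul]
    exact neg_eq_of_add_eq_zero_left this
  let i₀ : Fin t := ⟨0, by omega⟩
  let i₁ : Fin t := ⟨1, by omega⟩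
  have hi : i₁ ≠ i₀ := by
    intro hh; have := congrArg Fin.val hh; simp [i₀, i₁] at this
  let T₀ : Matrix (Fin s) (Fin s) F := Matrix.of fun i j => if i < j then G₀ i j else 0
  have hT : T₀ + T₀ᵀ = G₀ := by
    ext i j
    simp only [Matrix.add_apply, Matrix.transpose_apply, T₀, Matrix.of_apply]
    rcases lt_trichotomy i j with hij | hij | hij
    · rw [if_pos hij, if_neg (not_lt.2 hij.le), add_zero]
    · subst hij; rw [if_neg (lt_irrefl _), add_zero, hdiag]
    · rw [if_neg (not_lt.2 hij.le), if_pos hij, zero_add]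
      have := congrFun (congrFun hsym i) j
      rw [Matrix.transpose_apply] at this
      exact this
  let A : Fin t → Matrix (Fin s) (Fin s) F := Function.update (fun _ => G₀) i₀ T₀
  let M : Matrix (Fin t → Fin s) (Fin t → Fin s) F := c • ptens s t A
  have hMM : M + Mᵀ = gramT e P J := by
    rw [hgram]
    show c • ptens s t A + (c • ptens s t A)ᵀ = _
    rw [Matrix.transpose_smul, ← smul_add, Cfsg.Agent.Lib.Helper20.AschLeaf.ptens_transpose]
    congr 1
    have hA' : (fun i => (A i)ᵀ) = Function.update (fun _ => G₀) i₀ T₀ᵀ := by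
      funext i
      by_cases hii : i = i₀
      · subst hii; simp [A]
      · simp [A, Function.update_of_ne hii, hsym]
    rw [hA', ← Cfsg.Agent.Lib.Helper19.SpPrfLeaf.ptens_update_add, hT, Function.update_eq_self]
  refine ⟨fun u => bfm M (Cfsg.Agent.Lib.Helper29.SpPrfLeaf.coordC e P u) (Cfsg.Agent.Lib.Helper29.SpPrfLeaf.coordC e P u),
    ?_, ?_, ?_⟩
  · intro a v
    show bfm M (Cfsg.Agent.Lib.Helper29.SpPrfLeaf.coordC e P (a • v)) (Cfsg.Agent.Lib.Helper29.SpPrfLeaf.coordC e P (a • v)) =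
      a ^ 2 * bfm M (Cfsg.Agent.Lib.Helper29.SpPrfLeaf.coordC e P v) (Cfsg.Agent.Lib.Helper29.SpPrfLeaf.coordC e P v)
    rw [Cfsg.Agent.Lib.Helper29.SpPrfLeaf.coordC_smul, bfm_smul_left, bfm_smul_right]; ring
  · intro u v
    unfold QuadraticMap.polar
    show bfm M (Cfsg.Agent.Lib.Helper29.SpPrfLeaf.coordC e P (u + v)) (Cfsg.Agent.Lib.Helper29.SpPrfLeaf.coordC e P (u + v)) -
      bfm M (Cfsg.Agent.Lib.Helper29.SpPrfLeaf.coordC e P u) (Cfsg.Agent.Lib.Helper29.SpPrfLeaf.coordC e P u)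
      - bfm M (Cfsg.Agent.Lib.Helper29.SpPrfLeaf.coordC e P v) (Cfsg.Agent.Lib.Helper29.SpPrfLeaf.coordC e P v) = _
    rw [Cfsg.Agent.Lib.Helper29.SpPrfLeaf.coordC_add, bfm_add_left, bfm_add_right, bfm_add_right]
    have h1 : bfm J u v = bfm M (Cfsg.Agent.Lib.Helper29.SpPrfLeaf.coordC e P u) (Cfsg.Agent.Lib.Helper29.SpPrfLeaf.coordC e P v) +
        bfm M (Cfsg.Agent.Lib.Helper29.SpPrfLeaf.coordC e P v) (Cfsg.Agent.Lib.Helper29.SpPrfLeaf.coordC e P u) := by
      conv_lhs => rw [← Cfsg.Agent.Lib.Helper29.SpPrfLeaf.tvec_coordC e P u, ← Cfsg.Agent.Lib.Helper29.SpPrfLeaf.tvec_coordC e P v]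
      rw [Cfsg.Agent.Lib.Helper29.SpPrfLeaf.bfm_gramT, ← hMM, Cfsg.Agent.Lib.Helper29.SpPrfLeaf.bfm_add_mat_c,
        Cfsg.Agent.Lib.Helper29.SpPrfLeaf.bfm_transpose_c]
    rw [h1]; ring
  · intro v
    show bfm M (Cfsg.Agent.Lib.Helper29.SpPrfLeaf.coordC e P (tvec e P (pvec v)))
      (Cfsg.Agent.Lib.Helper29.SpPrfLeaf.coordC e P (tvec e P (pvec v))) = 0
    rw [Cfsg.Agent.Lib.Helper29.SpPrfLeaf.coordC_tvec]
    show bfm (c • ptens s t A) (pvec v) (pvec v) = 0
    rw [Cfsg.Agent.Lib.Helper29.SpPrfLeaf.bfm_smul_mat_c, Cfsg.Agent.Lib.Helper19.SpPrfLeaf.bfm_ptens_pvec]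
    have hz : bfm (A i₁) (v i₁) (v i₁) = 0 := by
      have : A i₁ = G₀ := by simp [A, Function.update_of_ne hi]
      rw [this, bfm_eq_bf]
      refine Cfsg.Agent.Lib.Helper27.AschO4.bf_alt G₀ ?_ hdiag _
      rw [hsym]
      ext i j
      rw [Matrix.neg_apply, hneg]
    rw [Finset.prod_eq_zero (Finset.mem_univ i₁) hz, mul_zero]

/-- a quadratic function with polar form `bfm J` vanishing on an `H`-invariant spanning set is `H`-invariant -/
theorem invariant_of_vanishing {J : Matrix (Fin n) (Fin n) F} (hHJ : H ≤ isoG J) (Q' : (Fin n → F) → F)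
    (hsmul : ∀ (a : F) (v : Fin n → F), Q' (a • v) = a ^ 2 * Q' v)
    (hpolar : ∀ u v, QuadraticMap.polar Q' u v = bfm J u v) (S : Set (Fin n → F))
    (hS : Submodule.span F S = ⊤) (hQS : ∀ s ∈ S, Q' s = 0)
    (hHS : ∀ g ∈ H, ∀ s ∈ S, (g : Matrix (Fin n) (Fin n) F) *ᵥ s ∈ S) :
    ∀ g ∈ H, ∀ v, Q' ((g : Matrix (Fin n) (Fin n) F) *ᵥ v) = Q' v := by
  intro g hg v
  obtain ⟨hadd, hsm⟩ := Cfsg.Agent.Lib.Helper17.SpAschLeaf.defect_props Q' hsmul hpolar g (hHJ hg)
  have hv : v ∈ Submodule.span F S := by rw [hS]; exact Submodule.mem_top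
  have key : Q' ((g : Matrix (Fin n) (Fin n) F) *ᵥ v) - Q' v = 0 := by
    induction hv using Submodule.span_induction with
    | mem s hs => rw [hQS s hs, hQS _ (hHS g hg s hs), sub_zero]
    | zero => rw [Matrix.mulVec_zero, sub_self]
    | add u w _ _ hu hw => rw [hadd, hu, hw, add_zero]
    | smul a u _ hu => rw [hsm, hu, mul_zero]
  exact sub_eq_zero.mp key

/-- `pureP` is `tvec` of `pvec` -/
lemma pureP_eq {k t : ℕ} (e : Fin n ≃ (Fin t → Fin k)) (P : GL (Fin n) F) (x : Fin t → Fin k → F) :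
    pureP e P x = tvec e P (pvec x) := rfl

/-- the core: from the wreath data to `.c7` -/
theorem egeo_of_wreath_data (h : ECtx Q H) (hn : 3 ≤ n) (hirr : Irr H) {t s : ℕ} {Nf : Fin t → Subgroup (GL (Fin n) F)}
    (hfam : CFam H N t Nf) (hN : N ≤ H) (hperf : ∀ i, ⁅Nf i, Nf i⁆ = Nf i) (hs : 2 ≤ s)
    (e : Fin n ≃ (Fin t → Fin s)) (P : GL (Fin n) F)
    (hmem : ∀ i, ∀ A : Matrix (Fin s) (Fin s) F, conjR e P (slot s t i A) ∈ Env (Nf i))
    (hof : ∀ i, ∀ T ∈ Env (Nf i), ∃ A : Matrix (Fin s) (Fin s) F, T = conjR e P (slot s t i A))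
    (hHW : H ≤ tensorWreathSubgroup s t e P) : EGeo Q H := by
  classical
  have ht2 := hfam.two_le
  have hs0 : 0 < s := by omega
  have hQ := h.nd
  have hd := gramQ_det hQ
  have hHJ : H ≤ isoG (gramQ Q) := ECtx.le_isoG h
  have hNfJ : ∀ i, Nf i ≤ isoG (gramQ Q) := fun i => ((hfam.le i).trans hN).trans hHJ
  obtain ⟨c, G, hc, hgram0⟩ := Cfsg.Agent.Lib.Helper13.OAschLeaf.gram_ptens hd hs0 Nf hNfJ e P hmem hof
  have hgram : gramT e P (gramQ Q) = c • ptens s t G := hgram0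
  have hsd := Cfsg.Agent.Lib.Helper25.OAschLeaf.gram_reindex_symm_det (gramQ_symm Q) hd e P
  have hG : ∀ i, IsUnit (G i).det := by
    intro i
    have h1 : (c • ptens s t G).det ≠ 0 := by
      rw [← hgram]
      exact hsd.2
    rw [Matrix.det_smul] at h1
    exact isUnit_iff_ne_zero.2
      (Cfsg.Agent.Lib.Helper13.OAschLeaf.det_factor_ne_zero G (right_ne_zero_of_mul h1) i)
  have hinj := Cfsg.Agent.Lib.Helper29.SpPrfLeaf.cfam_injective hfam hperf
  have hact : ∀ i j : Fin t, ∃ g ∈ H, ∃ σ : Equiv.Perm (Fin t), σ i = j ∧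
      ∀ k, ∀ A : Matrix (Fin s) (Fin s) F, ∃ A' : Matrix (Fin s) (Fin s) F,
        (g : Matrix (Fin n) (Fin n) F) * conjR e P (slot s t k A) *
          ((g⁻¹ : GL (Fin n) F) : Matrix (Fin n) (Fin n) F) = conjR e P (slot s t (σ k) A') := by
    intro i j
    obtain ⟨g, hg, hgij⟩ := hfam.trans i j
    obtain ⟨σ, hσ⟩ := hfam.perm g hg
    refine ⟨g, hg, σ, hinj ((hσ i).symm.trans hgij), ?_⟩
    intro k A
    have h4 := Cfsg.Agent.Lib.Helper28.AschLeaf.env_cj g (Nf k) _ (hmem k A)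
    rw [hσ k] at h4
    exact hof (σ k) _ h4
  obtain ⟨i₀, hi₀⟩ : ∃ i₀ : Fin t, i₀ = ⟨0, by omega⟩ := ⟨_, rfl⟩
  have hcong := Cfsg.Agent.Lib.Helper6.SpPrfLeaf.all_congruent hHJ hs0 e P c hc G hG hgram hact i₀
  obtain ⟨P', c', hc', hgram', hW'⟩ := Cfsg.Agent.Lib.Helper6.SpPrfLeaf.normalise e P c hc G hgram (G i₀) hcong
  have hHW' : H ≤ tensorWreathSubgroup s t e P' := by rw [hW']; exact hHW
  have hG₀det : (G i₀).det ≠ 0 := (hG i₀).ne_zero
  have hG₀ne : G i₀ ≠ 0 := by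
    intro h0
    rw [h0] at hG₀det
    have : Nonempty (Fin s) := ⟨⟨0, hs0⟩⟩
    exact hG₀det Matrix.det_zero
  have hsd' := Cfsg.Agent.Lib.Helper25.OAschLeaf.gram_reindex_symm_det (gramQ_symm Q) hd e P'
  have hsymT : (gramT e P' (gramQ Q))ᵀ = gramT e P' (gramQ Q) := hsd'.1
  obtain ⟨ε, hε, hε2, hεt⟩ := symm_type_symm (by omega) c' hc' (G i₀) hG₀ne (gramT e P' (gramQ Q)) hsymT hgram'
  have hten : IsTensorPowerFormStructure id (QuadraticMap.polar Q) (bfm (G i₀)) e P' := by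
    rw [polar_eq_bfm hQ]
    exact Cfsg.Agent.Lib.Helper13.OAschLeaf.tensorPower_of_gram e P' c' hc' (G i₀) hgram'
  -- value of the polar form on a pure tensor
  have hpolpure : ∀ x : Fin t → Fin s → F, QuadraticMap.polar Q (pureP e P' x) (pureP e P' x) =
      c' * ∏ i, bfm (G i₀) (x i) (x i) := by
    intro x
    rw [polar_apply hQ, pureP_eq, Cfsg.Agent.Lib.Helper29.SpPrfLeaf.bfm_gramT, hgram',
      Cfsg.Agent.Lib.Helper29.SpPrfLeaf.bfm_smul_mat_c, Cfsg.Agent.Lib.Helper19.SpPrfLeaf.bfm_ptens_pvec]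
  by_cases h2 : (2 : F) = 0
  · -- even characteristic
    have hε1 : ε = 1 := by
      have h3 : (ε - 1) * (ε - 1) = 0 := by linear_combination hε2 - (ε - 1) * h2
      have h4 := mul_self_eq_zero.mp h3
      linear_combination h4
    have hsym : (G i₀)ᵀ = G i₀ := by rw [hε, hε1, one_smul]
    have halt' := Cfsg.Agent.Lib.Helper29.SpPrfLeaf.isAltGram_gramT (isAltGram_gramQ hQ h2) e P'
    have hdiag : ∀ j, G i₀ j j = 0 := by
      intro j
      have h5 := halt'.diag (fun _ => j)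
      rw [hgram', Matrix.smul_apply, ptens_apply, Finset.prod_const, smul_eq_mul] at h5
      exact pow_eq_zero_iff (by simp; omega) |>.mp ((mul_eq_zero.mp h5).resolve_left hc')
    have hneg : ∀ a : F, -a = a := fun a => by
      have : a + a = 0 := by rw [← two_mul, h2, zero_mul]
      exact neg_eq_of_add_eq_zero_left this
    have hG₀alt : IsAltGram (G i₀) := by
      refine ⟨?_, hdiag, hG₀det⟩
      rw [hsym]
      ext a b
      rw [Matrix.neg_apply, hneg]
    obtain ⟨Q', hsm', hpol', hvan'⟩ := exists_quad_pure h2 ht2 e P' c' (G i₀) hsym hdiag hgram'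
    have hinv' := invariant_of_vanishing hHJ Q' hsm' hpol'
      {u : Fin n → F | ∃ v : Fin t → Fin s → F, u = tvec e P' (pvec v)}
      (Cfsg.Agent.Lib.Helper23.SpPrfLeaf.span_tvec_pvec e P')
      (by rintro _ ⟨v, rfl⟩; exact hvan' v)
      (by
        rintro g hg _ ⟨v, rfl⟩
        obtain ⟨v', hv'⟩ := Cfsg.Agent.Lib.Helper23.SpPrfLeaf.wreath_mapsTo_dec e P' g (hHW' hg) v
        exact ⟨v', hv'⟩)
    have hD := d_eq_zero (X := H) (by omega) hirr (fun u => Q u - Q' u)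
      (by
        intro u v
        have e1 := Q_add Q u v
        have e2 := Q_add Q' u v
        rw [polar_apply hQ] at e1
        rw [hpol'] at e2
        rw [e1, e2]
        ring)
      (by
        intro a v
        rw [hQ.smul, hsm']
        ring)
      (by
        intro x hx v
        rw [isom_apply (h.le hx), hinv' x hx])
    refine .c7 s t e P' (bfm (G i₀)) hs ht2 hten (Or.inr ⟨isSymplectic_bfm hG₀alt, ?_⟩) hHW'
    intro x
    have := hD (pureP e P' x)
    rw [pureP_eq, hvan', sub_zero] at this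
    rw [pureP_eq]
    exact this
  · -- odd characteristic
    have hodd : Odd (Fintype.card F) := two_ne_zero_iff_odd.1 h2
    have hε1 : ε = 1 ∨ ε = -1 := by
      have h3 : (ε - 1) * (ε + 1) = 0 := by linear_combination hε2
      rcases mul_eq_zero.mp h3 with h1 | h1
      · exact Or.inl (by linear_combination h1)
      · exact Or.inr (by linear_combination h1)
    rcases hε1 with h1 | h1
    · have hsym : (G i₀)ᵀ = G i₀ := by rw [hε, h1, one_smul]
      exact .c7 s t e P' (bfm (G i₀)) hs ht2 hten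
        (Or.inl ⟨hodd, Cfsg.Agent.Lib.Helper13.OAschLeaf.isSymmetricForm_bfm hsym hG₀det⟩) hHW'
    · have hskew : (G i₀)ᵀ = -G i₀ := by rw [hε, h1, neg_one_smul]
      have hG₀alt : IsAltGram (G i₀) := by
        refine ⟨hskew, ?_, hG₀det⟩
        intro j
        have h5 := congrFun (congrFun hskew j) j
        rw [Matrix.transpose_apply, Matrix.neg_apply] at h5
        have h6 : (2 : F) * G i₀ j j = 0 := by linear_combination h5
        exact (mul_eq_zero.mp h6).resolve_left h2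
      refine .c7 s t e P' (bfm (G i₀)) hs ht2 hten (Or.inr ⟨isSymplectic_bfm hG₀alt, ?_⟩) hHW'
      intro x
      rw [Q_eq_half hQ h2, hpolpure]
      have hz : bfm (G i₀) (x i₀) (x i₀) = 0 := bfm_self hG₀alt _
      rw [Finset.prod_eq_zero (Finset.mem_univ i₀) hz, mul_zero, mul_zero]

/-- a proper non-scalar `N`-normal subgroup of `N` forces a class -/
theorem coreE (h : ECtx Q H) (hn : 3 ≤ n) (hirr : Irr H) (hqp : QP H) (hN : N ≤ H) (hnorm : NormBy H N)
    (hns : ¬ N ≤ scalars (Fin n) F)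
    (hmin : ∀ M : Subgroup (GL (Fin n) F), M ≤ N → NormBy H M → M = N ∨ M ≤ scalars (Fin n) F)
    (hperf : ⁅N, N⁆ = N) (K : Subgroup (GL (Fin n) F)) (hK : K ≤ N) (hKn : NormBy N K)
    (hKs : ¬ K ≤ scalars (Fin n) F) (hKN : K ≠ N) : EGeo Q H := by
  obtain ⟨M, hMK, hM⟩ := Cfsg.Agent.Lib.Helper14.AschLeaf.exists_minNS_le K hK hKn hKs
  have hMN : M ≠ N := by
    rintro rfl
    exact hKN (le_antisymm hK hMK)
  obtain ⟨t, Nf, hfam, hperfNf⟩ := Cfsg.Agent.Lib.Helper29.SpPrfLeaf.cfam_exists' hnorm hns hmin hperf hM hMN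
  have habs : AbsIrr N := (hqp N hN hnorm).resolve_left hns
  obtain ⟨s, e, P, hs, hmem, hof, hHW⟩ := Cfsg.Agent.Lib.Helper29.SpPrfLeaf.wreath_data_of_cfam hn hfam habs
  exact egeo_of_wreath_data h hn hirr hfam hN hperfNf hs e P hmem hof hHW

/-- [E-PRF] -/
theorem egeo_or_simple (h : ECtx Q H) (hn : 3 ≤ n) (hirr : Irr H) (hqp : QP H) (hN : N ≤ H)
    (hnorm : NormBy H N) (hns : ¬ N ≤ scalars (Fin n) F)
    (hmin : ∀ M : Subgroup (GL (Fin n) F), M ≤ N → NormBy H M → M = N ∨ M ≤ scalars (Fin n) F)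
    (hperf : ⁅N, N⁆ = N) :
    EGeo Q H ∨ IsSimpleGroup (N ⧸ (scalars (Fin n) F).subgroupOf N) :=
  Cfsg.Agent.Lib.Helper13.OAschLeaf.simple_of_core' hns fun K hK hKn hKs hKN =>
    coreE h hn hirr hqp hN hnorm hns hmin hperf K hK hKn hKs hKN

end Cfsg.Agent.Lib.Helper13.OELeaf
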