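import Mathlib
import Cfsg.Agent.Lib.Lead.OEDefs
import Cfsg.Agent.Lib.Helper4.AschA1
import Cfsg.Agent.Lib.Helper20.AschTS
import Cfsg.Agent.Lib.Helper29.AschKF2
import Cfsg.Agent.Lib.Helper29.AschS1K1
import Cfsg.Agent.Lib.Helper29.SpAschQU
import Cfsg.Agent.Lib.Helper13.ThRGD
import Cfsg.Agent.Lib.Helper13.OAschOB
import Cfsg.Agent.Lib.Helper13.OEBridge

/-!
OMEGA-EVEN (planner lead), block [E-UNI] (helper13): `realisable_of_fixes_unitary`, exact signature of `notes/OmEven_leaves.lean`.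
`J = gramMatrix (polar Q)` is invertible in every characteristic; `C := J⁻¹ U` conjugates `N` to its `σ`-twist; Galois descent.
-/

set_option autoImplicit false
set_option linter.unusedSectionVars false
set_option linter.unusedVariables false

namespace Cfsg.Agent.Lib.Helper13.OELeaf
open Matrix Cfsg Cfsg.Geo Cfsg.Agent.Lib.Helper20.Asch Cfsg.Agent.Lib.Lead.OE
open scoped Kronecker

variable {F : Type*} [Field F] [Fintype F] {n : ℕ} {Q : (Fin n → F) → F}
  {H N : Subgroup (GL (Fin n) F)}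

/-- [E-UNI] -/
theorem realisable_of_fixes_unitary (h : ECtx Q H) (hN : N ≤ H) (habs : AbsIrr N)
    (σ : F ≃+* F) (g : (Fin n → F) → (Fin n → F) → F) (hg : IsUnitaryForm σ g)
    (hfix : FixesForm (matrixSet N) g) :
    ∃ F₀ : Subfield F, F₀ ≠ ⊤ ∧ RealisableOver F₀ (matrixSet N) := by
  obtain ⟨U, hU, hrep⟩ := Cfsg.Agent.Lib.Helper29.SpAschLeaf.unitary_rep σ g hg
  obtain ⟨C, hC⟩ := Cfsg.Agent.Lib.Helper13.OAschLeaf.unitary_conj' (Cfsg.Agent.Lib.Helper13.OE.gramQ_det h.nd)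
    (hN.trans (Cfsg.Agent.Lib.Helper13.OE.ECtx.le_isoG h)) σ U hU g hrep hfix
  obtain ⟨F₀, hF₀, hmem⟩ := Cfsg.Agent.Lib.Helper29.SpAschLeaf.exists_fixed_subfield σ hg.ne_refl
  exact ⟨F₀, hF₀, Cfsg.Agent.Lib.Helper13.ThR.galois_descent N habs.2 σ C hC F₀ hmem⟩

end Cfsg.Agent.Lib.Helper13.OELeaf
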