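import Mathlib
import Cfsg.Agent.Lib.Helper18.PSLnOutB
import Cfsg.Agent.Lib.Helper2.SLGen
import Cfsg.Agent.Lib.Helper13.SL2

/-!
# Tools for recognising `PSL_3(7) : 2` inside the automorphism group of `PSL_3(7)` (helper13)

* `tauM M = conjAHom M⁻¹ * itA`, the graph automorphism `x ↦ M⁻¹ x^{-T} M`;
* products of two of them are induced by matrices; they are never induced by matrices themselves;
* an abstract counting lemma producing a normal subgroup of index two;
* the order of `PSL_3(7)`.
-/

set_option autoImplicit false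

namespace Cfsg.Agent.Lib.Helper13.ONL

open Matrix Cfsg.Agent.Lib.Helper18.PSLnAut

section tau

variable {n : ℕ} {F : Type*} [Field F]

/-- The graph automorphism `x ↦ M⁻¹ x^{-T} M` of `PSL_n(F)`. -/
noncomputable def tauM (M : GL (Fin n) F) : MulAut (ProjectiveSpecialLinearGroup (Fin n) F) :=
  conjAHom M⁻¹ * itA

theorem itA_mul_conjAHom (g : GL (Fin n) F) :
    (itA : MulAut (ProjectiveSpecialLinearGroup (Fin n) F)) * conjAHom g =
      conjAHom (gti g) * itA := by
  ext x
  exact itA_conjA g x

theorem tauM_mul (M N : GL (Fin n) F) : tauM M * tauM N = conjAHom (M⁻¹ * gti N⁻¹) := by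
  unfold tauM
  calc conjAHom M⁻¹ * itA * (conjAHom N⁻¹ * itA)
      = conjAHom M⁻¹ * (itA * conjAHom N⁻¹) * itA := by group
    _ = conjAHom M⁻¹ * (conjAHom (gti N⁻¹) * itA) * itA := by rw [itA_mul_conjAHom]
    _ = conjAHom M⁻¹ * conjAHom (gti N⁻¹) * (itA * itA) := by group
    _ = conjAHom (M⁻¹ * gti N⁻¹) := by rw [itA_mul_itA, mul_one, map_mul]

/-- the matrix of `M⁻¹ * gti N⁻¹` -/
theorem coe_inv_mul_gti_inv (M N : GL (Fin n) F) :
    ((M⁻¹ * gti N⁻¹ : GL (Fin n) F) : Matrix (Fin n) (Fin n) F) =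
      ((M⁻¹ : GL (Fin n) F) : Matrix (Fin n) (Fin n) F) * (N : Matrix (Fin n) (Fin n) F)ᵀ := by
  rw [Units.val_mul, gti_coe, inv_inv]

/-- matrices that are scalar induce the identity -/
theorem conjAHom_eq_one_of_scalar (hn : 2 ≤ n) (g : GL (Fin n) F) (c : F)
    (h : (g : Matrix (Fin n) (Fin n) F) = Matrix.scalar (Fin n) c) : conjAHom g = 1 := by
  have h1 : g ∈ (conjAHom (n := n) (F := F)).ker := by
    rw [ker_conjAHom hn]
    exact Matrix.GeneralLinearGroup.mem_center_iff_val_mem_range_scalar.2 ⟨c, h.symm⟩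
  exact h1

/-- a graph automorphism is not induced by a matrix -/
theorem tauM_ne_conjAHom (hn : 3 ≤ n) (M g : GL (Fin n) F) : tauM M ≠ conjAHom g := by
  intro h
  unfold tauM at h
  have h1 : (itA : MulAut (ProjectiveSpecialLinearGroup (Fin n) F)) = conjAHom (M * g) := by
    rw [map_mul, ← h, ← mul_assoc, ← map_mul, mul_inv_cancel, map_one, one_mul]
  have h2 : fgHom (n := n) (F := F) ((1 : RingAut F), Multiplicative.ofAdd (1 : ZMod 2)) =
      itA := by
    rw [fgHom_apply, map_one, one_mul]
    rcases itHom_one_or (n := n) (F := F) (Multiplicative.ofAdd (1 : ZMod 2)) with ⟨h3, -⟩ | ⟨-, h3⟩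
    · exact absurd h3 (by decide)
    · exact h3
  have h3 := eq_one_of_fgHom_mem hn ((1 : RingAut F), Multiplicative.ofAdd (1 : ZMod 2))
    ⟨M * g, by rw [h2, h1]⟩
  have h4 : (Multiplicative.ofAdd (1 : ZMod 2)) = 1 := congrArg Prod.snd h3
  exact absurd h4 (by decide)

/-- a graph automorphism is not inner -/
theorem tauM_not_mem_range_conj (hn : 3 ≤ n) (M : GL (Fin n) F) :
    tauM M ∉ (MulAut.conj : ProjectiveSpecialLinearGroup (Fin n) F →* _).range := by
  rintro ⟨x, hx⟩
  obtain ⟨s, rfl⟩ := pi_surjective x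
  rw [conj_pi_eq_conjA] at hx
  exact tauM_ne_conjAHom hn M _ hx.symm

end tau

section counting

variable {H A : Type*} [Group H] [Group A]

/-- The counting lemma: a homomorphism whose image contains a normal subgroup `I` properly, from a
group of order at most `2 |I|`, is injective, and the preimage of `I` has index two and is
isomorphic to `I`. -/
theorem index_two_of_card_le [Finite H] (ρ : H →* A) (I : Subgroup A) [Finite I]
    (hI : I ≤ ρ.range) (h : H) (hh : ρ h ∉ I) (hcard : Nat.card H ≤ 2 * Nat.card I) :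
    Function.Injective ρ ∧ (I.comap ρ).index = 2 ∧ Nonempty (I.comap ρ ≃* I) ∧
      Nat.card H = 2 * Nat.card I := by
  classical
  have hfinR : Finite ρ.range := Finite.of_surjective ρ.rangeRestrict ρ.rangeRestrict_surjective
  -- the subgroup `I` inside the range
  have hlt : I < ρ.range := lt_of_le_of_ne hI (by
    intro e
    apply hh
    rw [e]
    exact ⟨h, rfl⟩)
  have h1 : Nat.card I * (I.subgroupOf ρ.range).index = Nat.card ρ.range := by
    have := (I.subgroupOf ρ.range).card_mul_index
    rw [← this]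
    congr 1
    exact (Nat.card_congr (Subgroup.subgroupOfEquivOfLe hI).toEquiv).symm
  have hidx1 : (I.subgroupOf ρ.range).index ≠ 1 := by
    intro e
    rw [Subgroup.index_eq_one, Subgroup.subgroupOf_eq_top] at e
    exact absurd (le_antisymm hI e) (ne_of_lt hlt)
  have hidx0 : (I.subgroupOf ρ.range).index ≠ 0 := by
    intro e
    rw [e, mul_zero] at h1
    exact absurd h1.symm Nat.card_pos.ne'
  have h2 : 2 * Nat.card I ≤ Nat.card ρ.range := by
    rw [← h1, mul_comm]
    exact Nat.mul_le_mul_left _ (by omega)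
  have h3 : Nat.card ρ.range ≤ Nat.card H :=
    Nat.card_le_card_of_surjective ρ.rangeRestrict ρ.rangeRestrict_surjective
  have hcH : Nat.card H = 2 * Nat.card I := le_antisymm hcard (le_trans h2 h3)
  have hcR : Nat.card ρ.range = Nat.card H := le_antisymm h3 (by rw [hcH]; exact h2)
  have hinj : Function.Injective ρ := by
    have hb : Function.Bijective ρ.rangeRestrict :=
      (Nat.bijective_iff_surjective_and_card ρ.rangeRestrict).2
        ⟨ρ.rangeRestrict_surjective, hcR.symm⟩
    intro x y hxy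
    apply hb.1
    exact Subtype.ext hxy
  -- the preimage of `I`
  have e1 : I.comap ρ ≃* I := by
    refine MulEquiv.ofBijective ((ρ.comp (I.comap ρ).subtype).codRestrict I (fun x => x.2)) ⟨?_, ?_⟩
    · intro x y hxy
      apply Subtype.ext
      apply hinj
      exact congrArg Subtype.val hxy
    · rintro ⟨a, ha⟩
      obtain ⟨x, rfl⟩ := hI ha
      exact ⟨⟨x, ha⟩, rfl⟩
  refine ⟨hinj, ?_, ⟨e1⟩, hcH⟩
  have h4 := (I.comap ρ).card_mul_index
  rw [Nat.card_congr e1.toEquiv, hcH] at h4
  have hpos : 0 < Nat.card I := Nat.card_pos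
  have : Nat.card I * (I.comap ρ).index = Nat.card I * 2 := by rw [h4, mul_comm]
  exact Nat.eq_of_mul_eq_mul_left hpos this

end counting

section card

local instance fact_prime_seven : Fact (Nat.Prime 7) := ⟨by norm_num⟩

/-- the order of `SL_3(7)` -/
theorem card_SL3_7 : Nat.card (SpecialLinearGroup (Fin 3) (ZMod 7)) = 5630688 := by
  have h1 := Cfsg.Agent.Lib.Helper13.card_SL_mul (F := ZMod 7) 3 (by norm_num)
  have h2 : Nat.card (GL (Fin 3) (ZMod 7)) = 33784128 := by
    rw [Matrix.card_GL_field]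
    simp [Fin.prod_univ_three, ZMod.card]
  rw [h2, ZMod.card] at h1
  omega

/-- the centre of `SL_3(7)` has at most three elements -/
theorem card_center_SL3_7_le :
    Nat.card (Subgroup.center (SpecialLinearGroup (Fin 3) (ZMod 7))) ≤ 3 := by
  have e := Matrix.SpecialLinearGroup.center_equiv_rootsOfUnity (n := Fin 3) (R := ZMod 7)
  rw [Nat.card_congr e.toEquiv]
  have h : max (Fintype.card (Fin 3)) 1 = 3 := by simp
  rw [h]
  exact card_rootsOfUnity (ZMod 7) 3

/-- the order of `PSL_3(7)` is at least `1876896` -/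
theorem card_PSL3_7_ge :
    1876896 ≤ Nat.card (ProjectiveSpecialLinearGroup (Fin 3) (ZMod 7)) := by
  have h1 := Subgroup.card_eq_card_quotient_mul_card_subgroup
    (Subgroup.center (SpecialLinearGroup (Fin 3) (ZMod 7)))
  rw [card_SL3_7] at h1
  have h2 := card_center_SL3_7_le
  have h3 : Nat.card (ProjectiveSpecialLinearGroup (Fin 3) (ZMod 7)) =
      Nat.card (SpecialLinearGroup (Fin 3) (ZMod 7) ⧸
        Subgroup.center (SpecialLinearGroup (Fin 3) (ZMod 7))) := rfl
  rw [h3]
  nlinarith

end card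

end Cfsg.Agent.Lib.Helper13.ONL
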