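import Mathlib
import Cfsg.Agent.Lib.Helper13.ONL37A
import Cfsg.Agent.Lib.Helper28.TCONW1Def

/-!
# `PSL_3(7) : 2` inside `Aut(PSL_3(7))`: six polarities satisfying the relations of the subgroup
`⟨a, …, f⟩` of the presented O'Nan group (helper13)
-/

set_option autoImplicit false
set_option maxRecDepth 100000

namespace Cfsg.Agent.Lib.Helper13.ONL

open Matrix Cfsg.Agent.Lib.Helper18.PSLnAut
open Cfsg.Agent.Lib.Helper28.TCONW1Def (Gen edges extra)

local instance fact_prime_seven' : Fact (Nat.Prime 7) := ⟨by norm_num⟩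

/-- `3 × 3` matrices over the field with seven elements -/
abbrev Mat7 := Matrix (Fin 3) (Fin 3) (ZMod 7)

/-- the symmetric matrices of the six polarities -/
def mat : Gen → Mat7
  | .a => !![1, 1, 4; 1, 3, 6; 4, 6, 1]
  | .b => !![1, 1, 4; 1, 2, 5; 4, 5, 4]
  | .c => !![1, 0, 0; 0, 1, 0; 0, 0, 1]
  | .d => !![0, 0, 1; 0, 1, 2; 1, 2, 2]
  | .e => !![0, 1, 1; 1, 2, 5; 1, 5, 2]
  | .f => !![0, 0, 1; 0, 6, 0; 1, 0, 0]

/-- their inverses -/
def mati : Gen → Mat7
  | .a => !![2, 2, 1; 2, 6, 5; 1, 5, 2]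
  | .b => !![4, 2, 4; 2, 2, 6; 4, 6, 1]
  | .c => !![1, 0, 0; 0, 1, 0; 0, 0, 1]
  | .d => !![2, 5, 1; 5, 1, 0; 1, 0, 0]
  | .e => !![0, 4, 4; 4, 1, 6; 4, 6, 1]
  | .f => !![0, 0, 1; 0, 6, 0; 1, 0, 0]

theorem mat_mul_mati : ∀ x, mat x * mati x = 1 := by
  intro x; cases x <;> decide

theorem mati_mul_mat : ∀ x, mati x * mat x = 1 := by
  intro x; cases x <;> decide

theorem mat_transpose : ∀ x, (mat x)ᵀ = mat x := by
  intro x; cases x <;> decide

/-- the matrices as elements of `GL_3(7)` -/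
def MG (x : Gen) : GL (Fin 3) (ZMod 7) := ⟨mat x, mati x, mat_mul_mati x, mati_mul_mat x⟩

theorem MG_val (x : Gen) : ((MG x : GL (Fin 3) (ZMod 7)) : Mat7) = mat x := rfl

theorem MG_inv_val (x : Gen) : (((MG x)⁻¹ : GL (Fin 3) (ZMod 7)) : Mat7) = mati x := rfl

theorem gti_MG_inv (x : Gen) : gti (MG x)⁻¹ = MG x := by
  apply Units.ext
  rw [gti_coe, inv_inv]
  exact mat_transpose x

/-- the six polarities -/
noncomputable def fG (x : Gen) : MulAut (ProjectiveSpecialLinearGroup (Fin 3) (ZMod 7)) :=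
  tauM (MG x)

theorem fG_mul (x y : Gen) : fG x * fG y = conjAHom ((MG x)⁻¹ * MG y) := by
  unfold fG
  rw [tauM_mul, gti_MG_inv]

theorem pair_ok : ∀ x y : Gen, ∃ c : ZMod 7,
    (mati x * mat y) ^ (Cfsg.Spor.coxLabel edges x y) = Matrix.diagonal (fun _ => c) := by
  intro x y
  cases x <;> cases y <;> decide

theorem fG_pow (x y : Gen) : (fG x * fG y) ^ (Cfsg.Spor.coxLabel edges x y) = 1 := by
  rw [fG_mul, ← map_pow]
  obtain ⟨c, hc⟩ := pair_ok x y
  apply conjAHom_eq_one_of_scalar (by norm_num) _ c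
  rw [Units.val_pow_eq_pow_val, Units.val_mul, MG_inv_val, MG_val, hc]
  rfl

theorem fG_mul_self (x : Gen) : fG x * fG x = 1 := by
  have h := fG_pow x x
  have h1 : Cfsg.Spor.coxLabel edges x x = 1 := by simp [Cfsg.Spor.coxLabel]
  rwa [h1, pow_one] at h

theorem fG_inv (x : Gen) : (fG x)⁻¹ = fG x := inv_eq_of_mul_eq_one_right (fG_mul_self x)

theorem extra_ok : ∃ c : ZMod 7,
    mati .a * mat .f * (mati .d * mat .c * (mati .d * mat .c * (mati .d * mat .c *
      (mati .d * mat .c)))) = Matrix.diagonal (fun _ => c) := by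
  decide

/-- the relators of the sub-presentation on `a, …, f` -/
abbrev relsW1 : Set (FreeGroup Gen) := Cfsg.Spor.coxRelators edges ∪ {r | r ∈ extra}

theorem lift_rel : ∀ r ∈ relsW1, FreeGroup.lift fG r = 1 := by
  intro r hr
  rcases hr with ⟨x, -, y, -, rfl⟩ | hr
  · rw [map_pow, map_mul, FreeGroup.lift_apply_of, FreeGroup.lift_apply_of]
    exact fG_pow x y
  · have hr' : r = FreeGroup.mk [(.a, true), (.f, true), (.d, false), (.c, false), (.d, false),
        (.c, false), (.d, false), (.c, false), (.d, false), (.c, false)] := by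
      simpa [extra] using hr
    subst hr'
    rw [FreeGroup.lift_mk]
    simp only [List.map_cons, List.map_nil, List.prod_cons, List.prod_nil, cond_true, cond_false,
      mul_one, fG_inv]
    rw [← mul_assoc (fG .a) (fG .f), ← mul_assoc (fG .d) (fG .c), ← mul_assoc (fG .d) (fG .c),
      ← mul_assoc (fG .d) (fG .c)]
    rw [fG_mul .a .f, fG_mul .d .c, ← map_mul, ← map_mul, ← map_mul, ← map_mul]
    obtain ⟨c, hc⟩ := extra_ok
    apply conjAHom_eq_one_of_scalar (by norm_num) _ c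
    simp only [Units.val_mul, MG_inv_val, MG_val]
    rw [hc]
    rfl

/-- the homomorphism from the presented group on `a, …, f` to `Aut(PSL_3(7))` -/
noncomputable def rhoHat : PresentedGroup relsW1 →*
    MulAut (ProjectiveSpecialLinearGroup (Fin 3) (ZMod 7)) :=
  PresentedGroup.toGroup lift_rel

theorem rhoHat_of (x : Gen) : rhoHat (PresentedGroup.of x) = fG x :=
  PresentedGroup.toGroup.of lift_rel

end Cfsg.Agent.Lib.Helper13.ONL
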