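import Mathlib
import Cfsg.Agent.Lib.Helper13.ONL37B

/-!
# The image of the presented group on `a, …, f` in `Aut(PSL_3(7))` contains all inner automorphisms
(helper13): explicit words for the elementary transvections
-/

set_option autoImplicit false
set_option maxRecDepth 100000

namespace Cfsg.Agent.Lib.Helper13.ONL

open Matrix Cfsg.Agent.Lib.Helper18.PSLnAut
open Cfsg.Agent.Lib.Helper28.TCONW1Def (Gen edges extra)

local instance fact_prime_seven'' : Fact (Nat.Prime 7) := ⟨by norm_num⟩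

/-- the letters: `(x, true)` stands for `a x`, `(x, false)` for `x a` -/
def letM : Gen × Bool → Mat7 := fun l => if l.2 then mati .a * mat l.1 else mati l.1 * mat .a

/-- the letters in `GL_3(7)` -/
def letG : Gen × Bool → GL (Fin 3) (ZMod 7) :=
  fun l => if l.2 then (MG .a)⁻¹ * MG l.1 else (MG l.1)⁻¹ * MG .a

/-- the letters in the presented group -/
def letH : Gen × Bool → PresentedGroup relsW1 :=
  fun l => if l.2 then PresentedGroup.of .a * PresentedGroup.of l.1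
    else PresentedGroup.of l.1 * PresentedGroup.of .a

theorem letG_val (l : Gen × Bool) : ((letG l : GL (Fin 3) (ZMod 7)) : Mat7) = letM l := by
  obtain ⟨x, b⟩ := l
  cases b
  · show (((MG x)⁻¹ * MG .a : GL (Fin 3) (ZMod 7)) : Mat7) = mati x * mat .a
    rfl
  · show (((MG .a)⁻¹ * MG x : GL (Fin 3) (ZMod 7)) : Mat7) = mati .a * mat x
    rfl

theorem rhoHat_letH (l : Gen × Bool) : rhoHat (letH l) = conjAHom (letG l) := by
  obtain ⟨x, b⟩ := l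
  cases b
  · show rhoHat (PresentedGroup.of x * PresentedGroup.of .a) = conjAHom ((MG x)⁻¹ * MG .a)
    rw [map_mul, rhoHat_of, rhoHat_of, fG_mul]
  · show rhoHat (PresentedGroup.of .a * PresentedGroup.of x) = conjAHom ((MG .a)⁻¹ * MG x)
    rw [map_mul, rhoHat_of, rhoHat_of, fG_mul]

theorem rhoHat_word (w : List (Gen × Bool)) :
    rhoHat ((w.map letH).prod) = conjAHom ((w.map letG).prod) := by
  induction w with
  | nil => simp
  | cons l w ih => rw [List.map_cons, List.prod_cons, map_mul, ih, rhoHat_letH, List.map_cons,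
      List.prod_cons, map_mul]

theorem val_word (w : List (Gen × Bool)) :
    (((w.map letG).prod : GL (Fin 3) (ZMod 7)) : Mat7) = (w.map letM).prod := by
  induction w with
  | nil => simp
  | cons l w ih => rw [List.map_cons, List.prod_cons, Units.val_mul, ih, letG_val, List.map_cons,
      List.prod_cons]

/-- a word for the transvection `1 + 3 E_{01}` (up to the scalar 1) -/
def word01 : List (Gen × Bool) := [(Gen.e, true), (Gen.d, true), (Gen.c, true), (Gen.b, true), (Gen.d, true), (Gen.c, true), (Gen.d, true), (Gen.e, true), (Gen.d, true), (Gen.c, true), (Gen.b, true), (Gen.d, true), (Gen.c, true), (Gen.f, true), (Gen.e, true)]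

theorem word01_prod : (word01.map letM).prod = !![1, 3, 0; 0, 1, 0; 0, 0, 1] := by
  have h14 : letM (Gen.e, true) * 1 = !![3, 4, 0; 4, 4, 0; 0, 0, 2] := by decide
  have h13 : letM (Gen.f, true) * !![3, 4, 0; 4, 4, 0; 0, 0, 2] = !![2, 3, 4; 5, 3, 4; 0, 2, 2] := by decide
  have h12 : letM (Gen.c, true) * !![2, 3, 4; 5, 3, 4; 0, 2, 2] = !![0, 0, 4; 6, 6, 0; 6, 1, 0] := by decide
  have h11 : letM (Gen.d, true) * !![0, 0, 4; 6, 6, 0; 6, 1, 0] = !![2, 4, 4; 2, 1, 6; 4, 6, 1] := by decide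
  have h10 : letM (Gen.b, true) * !![2, 4, 4; 2, 1, 6; 4, 6, 1] = !![0, 0, 1; 2, 2, 5; 1, 5, 2] := by decide
  have h9 : letM (Gen.c, true) * !![0, 0, 1; 2, 2, 5; 1, 5, 2] = !![5, 2, 0; 3, 2, 0; 5, 6, 2] := by decide
  have h8 : letM (Gen.d, true) * !![5, 2, 0; 3, 2, 0; 5, 6, 2] = !![1, 2, 2; 4, 4, 6; 0, 0, 2] := by decide
  have h7 : letM (Gen.e, true) * !![1, 2, 2; 4, 4, 6; 0, 0, 2] = !![5, 1, 2; 6, 3, 4; 0, 0, 4] := by decide
  have h6 : letM (Gen.d, true) * !![5, 1, 2; 6, 3, 4; 0, 0, 4] = !![1, 6, 1; 2, 4, 2; 1, 1, 2] := by decide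
  have h5 : letM (Gen.c, true) * !![1, 6, 1; 2, 4, 2; 1, 1, 2] = !![0, 0, 1; 5, 6, 3; 6, 0, 1] := by decide
  have h4 : letM (Gen.d, true) * !![0, 0, 1; 5, 6, 3; 6, 0, 1] = !![5, 3, 0; 0, 5, 0; 2, 5, 2] := by decide
  have h3 : letM (Gen.b, true) * !![5, 3, 0; 0, 5, 0; 2, 5, 2] = !![0, 0, 2; 4, 2, 4; 4, 3, 4] := by decide
  have h2 : letM (Gen.c, true) * !![0, 0, 2; 4, 2, 4; 4, 3, 4] = !![5, 0, 2; 2, 6, 6; 0, 2, 2] := by decide
  have h1 : letM (Gen.d, true) * !![5, 0, 2; 2, 6, 6; 0, 2, 2] = !![6, 5, 0; 1, 4, 0; 0, 0, 4] := by decide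
  have h0 : letM (Gen.e, true) * !![6, 5, 0; 1, 4, 0; 0, 0, 4] = !![1, 3, 0; 0, 1, 0; 0, 0, 1] := by decide
  simp only [word01, List.map_cons, List.map_nil, List.prod_cons, List.prod_nil]
  rw [h14, h13, h12, h11, h10, h9, h8, h7, h6, h5, h4, h3, h2, h1, h0]

/-- a word for the transvection `1 + 1 E_{02}` (up to the scalar 2) -/
def word02 : List (Gen × Bool) := [(Gen.c, true), (Gen.e, true), (Gen.d, true), (Gen.c, true), (Gen.b, false), (Gen.f, true), (Gen.e, true), (Gen.d, true), (Gen.c, true), (Gen.b, true), (Gen.d, true), (Gen.c, true), (Gen.b, false), (Gen.e, true), (Gen.d, true), (Gen.c, true), (Gen.b, false), (Gen.d, true), (Gen.c, true), (Gen.e, true), (Gen.d, true), (Gen.c, true), (Gen.d, true), (Gen.e, true)]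

theorem word02_prod : (word02.map letM).prod = !![2, 0, 2; 0, 2, 0; 0, 0, 2] := by
  have h23 : letM (Gen.e, true) * 1 = !![3, 4, 0; 4, 4, 0; 0, 0, 2] := by decide
  have h22 : letM (Gen.d, true) * !![3, 4, 0; 4, 4, 0; 0, 0, 2] = !![5, 6, 2; 2, 0, 6; 0, 2, 2] := by decide
  have h21 : letM (Gen.c, true) * !![5, 6, 2; 2, 0, 6; 0, 2, 2] = !![0, 0, 4; 1, 1, 1; 1, 3, 1] := by decide
  have h20 : letM (Gen.d, true) * !![0, 0, 4; 1, 1, 1; 1, 3, 1] = !![5, 0, 2; 5, 4, 4; 3, 5, 4] := by decide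
  have h19 : letM (Gen.e, true) * !![5, 0, 2; 5, 4, 4; 3, 5, 4] = !![0, 2, 1; 5, 2, 3; 6, 3, 1] := by decide
  have h18 : letM (Gen.c, true) * !![0, 2, 1; 5, 2, 3; 6, 3, 1] = !![2, 4, 2; 4, 3, 4; 2, 4, 4] := by decide
  have h17 : letM (Gen.d, true) * !![2, 4, 2; 4, 3, 4; 2, 4, 4] = !![6, 6, 1; 3, 3, 2; 0, 4, 2] := by decide
  have h16 : letM (Gen.b, false) * !![6, 6, 1; 3, 3, 2; 0, 4, 2] = !![3, 5, 0; 6, 5, 0; 0, 2, 1] := by decide
  have h15 : letM (Gen.c, true) * !![3, 5, 0; 6, 5, 0; 0, 2, 1] = !![4, 1, 1; 0, 1, 5; 5, 6, 2] := by decide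
  have h14 : letM (Gen.d, true) * !![4, 1, 1; 0, 1, 5; 5, 6, 2] = !![2, 4, 2; 0, 4, 0; 6, 3, 0] := by decide
  have h13 : letM (Gen.e, true) * !![2, 4, 2; 0, 4, 0; 6, 3, 0] = !![6, 0, 6; 1, 4, 1; 5, 6, 0] := by decide
  have h12 : letM (Gen.b, false) * !![6, 0, 6; 1, 4, 1; 5, 6, 0] = !![4, 6, 5; 6, 3, 2; 6, 3, 0] := by decide
  have h11 : letM (Gen.c, true) * !![4, 6, 5; 6, 3, 2; 6, 3, 0] = !![5, 0, 0; 4, 3, 1; 4, 6, 1] := by decide
  have h10 : letM (Gen.d, true) * !![5, 0, 0; 4, 3, 1; 4, 6, 1] = !![4, 4, 5; 3, 3, 5; 1, 5, 3] := by decide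
  have h9 : letM (Gen.b, true) * !![4, 4, 5; 3, 3, 5; 1, 5, 3] = !![3, 0, 0; 0, 1, 5; 2, 3, 6] := by decide
  have h8 : letM (Gen.c, true) * !![3, 0, 0; 0, 1, 5; 2, 3, 6] = !![1, 5, 2; 2, 0, 4; 0, 4, 2] := by decide
  have h7 : letM (Gen.d, true) * !![1, 5, 2; 2, 0, 4; 0, 4, 2] = !![2, 2, 6; 2, 2, 3; 6, 0, 0] := by decide
  have h6 : letM (Gen.e, true) * !![2, 2, 6; 2, 2, 3; 6, 0, 0] = !![0, 0, 2; 2, 2, 1; 5, 0, 0] := by decide
  have h5 : letM (Gen.f, true) * !![0, 0, 2; 2, 2, 1; 5, 0, 0] = !![6, 3, 0; 5, 2, 4; 2, 4, 6] := by decide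
  have h4 : letM (Gen.b, false) * !![6, 3, 0; 5, 2, 4; 2, 4, 6] = !![2, 3, 6; 6, 3, 3; 1, 2, 3] := by decide
  have h3 : letM (Gen.c, true) * !![2, 3, 6; 6, 3, 3; 1, 2, 3] = !![3, 0, 0; 3, 6, 3; 6, 1, 6] := by decide
  have h2 : letM (Gen.d, true) * !![3, 0, 0; 3, 6, 3; 6, 1, 6] = !![0, 4, 4; 4, 1, 3; 4, 6, 5] := by decide
  have h1 : letM (Gen.e, true) * !![0, 4, 4; 4, 1, 3; 4, 6, 5] = !![2, 2, 3; 2, 6, 0; 1, 5, 3] := by decide
  have h0 : letM (Gen.c, true) * !![2, 2, 3; 2, 6, 0; 1, 5, 3] = !![2, 0, 2; 0, 2, 0; 0, 0, 2] := by decide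
  simp only [word02, List.map_cons, List.map_nil, List.prod_cons, List.prod_nil]
  rw [h23, h22, h21, h20, h19, h18, h17, h16, h15, h14, h13, h12, h11, h10, h9, h8, h7, h6, h5, h4, h3, h2, h1, h0]

/-- a word for the transvection `1 + 3 E_{10}` (up to the scalar 1) -/
def word10 : List (Gen × Bool) := [(Gen.b, false), (Gen.e, true), (Gen.d, true), (Gen.c, true), (Gen.d, true), (Gen.f, true), (Gen.e, true), (Gen.d, true), (Gen.c, true), (Gen.b, false), (Gen.d, true), (Gen.c, true), (Gen.d, true), (Gen.c, true), (Gen.e, true)]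

theorem word10_prod : (word10.map letM).prod = !![1, 0, 0; 3, 1, 0; 0, 0, 1] := by
  have h14 : letM (Gen.e, true) * 1 = !![3, 4, 0; 4, 4, 0; 0, 0, 2] := by decide
  have h13 : letM (Gen.c, true) * !![3, 4, 0; 4, 4, 0; 0, 0, 2] = !![0, 2, 2; 2, 4, 3; 2, 3, 4] := by decide
  have h12 : letM (Gen.d, true) * !![0, 2, 2; 2, 4, 3; 2, 3, 4] = !![3, 0, 4; 3, 6, 0; 6, 1, 0] := by decide
  have h11 : letM (Gen.c, true) * !![3, 0, 4; 3, 6, 0; 6, 1, 0] = !![4, 6, 1; 5, 6, 1; 2, 4, 4] := by decide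
  have h10 : letM (Gen.d, true) * !![4, 6, 1; 5, 6, 1; 2, 4, 4] = !![5, 6, 2; 1, 5, 5; 6, 0, 1] := by decide
  have h9 : letM (Gen.b, false) * !![5, 6, 2; 1, 5, 5; 6, 0, 1] = !![0, 1, 1; 4, 3, 1; 3, 0, 4] := by decide
  have h8 : letM (Gen.c, true) * !![0, 1, 1; 4, 3, 1; 3, 0, 4] = !![4, 1, 1; 4, 6, 0; 5, 2, 0] := by decide
  have h7 : letM (Gen.d, true) * !![4, 1, 1; 4, 6, 0; 5, 2, 0] = !![4, 6, 1; 1, 2, 5; 0, 2, 2] := by decide
  have h6 : letM (Gen.e, true) * !![4, 6, 1; 1, 2, 5; 0, 2, 2] = !![2, 5, 2; 6, 4, 3; 0, 4, 4] := by decide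
  have h5 : letM (Gen.f, true) * !![2, 5, 2; 6, 4, 3; 0, 4, 4] = !![4, 5, 4; 2, 2, 0; 2, 1, 0] := by decide
  have h4 : letM (Gen.d, true) * !![4, 5, 4; 2, 2, 0; 2, 1, 0] = !![0, 0, 4; 2, 4, 6; 0, 1, 1] := by decide
  have h3 : letM (Gen.c, true) * !![0, 0, 4; 2, 4, 6; 0, 1, 1] = !![4, 2, 0; 5, 1, 0; 3, 1, 1] := by decide
  have h2 : letM (Gen.d, true) * !![4, 2, 0; 5, 1, 0; 3, 1, 1] = !![6, 0, 1; 4, 1, 3; 0, 0, 1] := by decide
  have h1 : letM (Gen.e, true) * !![6, 0, 1; 4, 1, 3; 0, 0, 1] = !![6, 4, 1; 5, 4, 2; 0, 0, 2] := by decide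
  have h0 : letM (Gen.b, false) * !![6, 4, 1; 5, 4, 2; 0, 0, 2] = !![1, 0, 0; 3, 1, 0; 0, 0, 1] := by decide
  simp only [word10, List.map_cons, List.map_nil, List.prod_cons, List.prod_nil]
  rw [h14, h13, h12, h11, h10, h9, h8, h7, h6, h5, h4, h3, h2, h1, h0]

/-- a word for the transvection `1 + 3 E_{12}` (up to the scalar 5) -/
def word12 : List (Gen × Bool) := [(Gen.f, true), (Gen.e, true), (Gen.d, true), (Gen.c, true), (Gen.b, false), (Gen.d, true), (Gen.c, true), (Gen.d, true), (Gen.e, true), (Gen.d, true), (Gen.c, true), (Gen.b, false), (Gen.d, true), (Gen.c, true), (Gen.e, true), (Gen.f, true), (Gen.e, true)]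

theorem word12_prod : (word12.map letM).prod = !![5, 0, 0; 0, 5, 1; 0, 0, 5] := by
  have h16 : letM (Gen.e, true) * 1 = !![3, 4, 0; 4, 4, 0; 0, 0, 2] := by decide
  have h15 : letM (Gen.f, true) * !![3, 4, 0; 4, 4, 0; 0, 0, 2] = !![2, 3, 4; 5, 3, 4; 0, 2, 2] := by decide
  have h14 : letM (Gen.e, true) * !![2, 3, 4; 5, 3, 4; 0, 2, 2] = !![5, 0, 0; 0, 3, 4; 0, 4, 4] := by decide
  have h13 : letM (Gen.c, true) * !![5, 0, 0; 0, 3, 4; 0, 4, 4] = !![3, 3, 5; 3, 3, 2; 5, 2, 0] := by decide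
  have h12 : letM (Gen.d, true) * !![3, 3, 5; 3, 3, 2; 5, 2, 0] = !![6, 3, 6; 1, 6, 1; 3, 0, 0] := by decide
  have h11 : letM (Gen.b, false) * !![6, 3, 6; 1, 6, 1; 3, 0, 0] = !![3, 4, 5; 3, 5, 2; 5, 0, 0] := by decide
  have h10 : letM (Gen.c, true) * !![3, 4, 5; 3, 5, 2; 5, 0, 0] = !![3, 4, 0; 0, 3, 1; 0, 1, 1] := by decide
  have h9 : letM (Gen.d, true) * !![3, 4, 0; 0, 3, 1; 0, 1, 1] = !![3, 3, 5; 1, 1, 5; 6, 1, 3] := by decide
  have h8 : letM (Gen.e, true) * !![3, 3, 5; 1, 1, 5; 6, 1, 3] = !![6, 6, 0; 2, 2, 5; 5, 2, 6] := by decide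
  have h7 : letM (Gen.d, true) * !![6, 6, 0; 2, 2, 5; 5, 2, 6] = !![5, 2, 5; 0, 5, 0; 0, 4, 2] := by decide
  have h6 : letM (Gen.c, true) * !![5, 2, 5; 0, 5, 0; 0, 4, 2] = !![3, 4, 5; 3, 5, 6; 5, 0, 2] := by decide
  have h5 : letM (Gen.d, true) * !![3, 4, 5; 3, 5, 6; 5, 0, 2] = !![6, 3, 3; 1, 2, 1; 3, 4, 3] := by decide
  have h4 : letM (Gen.b, false) * !![6, 3, 3; 1, 2, 1; 3, 4, 3] = !![3, 3, 0; 3, 3, 3; 5, 2, 5] := by decide
  have h3 : letM (Gen.c, true) * !![3, 3, 0; 3, 3, 3; 5, 2, 5] = !![3, 0, 4; 0, 6, 1; 0, 1, 4] := by decide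
  have h2 : letM (Gen.d, true) * !![3, 0, 4; 0, 6, 1; 0, 1, 4] = !![3, 4, 5; 1, 1, 6; 6, 6, 0] := by decide
  have h1 : letM (Gen.e, true) * !![3, 4, 5; 1, 1, 6; 6, 6, 0] = !![6, 2, 4; 2, 6, 2; 5, 5, 0] := by decide
  have h0 : letM (Gen.f, true) * !![6, 2, 4; 2, 6, 2; 5, 5, 0] = !![5, 0, 0; 0, 5, 1; 0, 0, 5] := by decide
  simp only [word12, List.map_cons, List.map_nil, List.prod_cons, List.prod_nil]
  rw [h16, h15, h14, h13, h12, h11, h10, h9, h8, h7, h6, h5, h4, h3, h2, h1, h0]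

/-- a word for the transvection `1 + 1 E_{20}` (up to the scalar 1) -/
def word20 : List (Gen × Bool) := [(Gen.e, true), (Gen.d, true), (Gen.c, true), (Gen.b, false), (Gen.d, true), (Gen.f, true), (Gen.e, true), (Gen.d, true), (Gen.c, true), (Gen.b, false), (Gen.d, true), (Gen.c, true), (Gen.b, true), (Gen.e, true), (Gen.d, true), (Gen.c, true), (Gen.b, true), (Gen.d, true), (Gen.c, true), (Gen.e, true), (Gen.d, true), (Gen.f, true), (Gen.e, true)]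

theorem word20_prod : (word20.map letM).prod = !![1, 0, 0; 0, 1, 0; 1, 0, 1] := by
  have h22 : letM (Gen.e, true) * 1 = !![3, 4, 0; 4, 4, 0; 0, 0, 2] := by decide
  have h21 : letM (Gen.f, true) * !![3, 4, 0; 4, 4, 0; 0, 0, 2] = !![2, 3, 4; 5, 3, 4; 0, 2, 2] := by decide
  have h20 : letM (Gen.d, true) * !![2, 3, 4; 5, 3, 4; 0, 2, 2] = !![1, 3, 1; 6, 6, 6; 0, 0, 4] := by decide
  have h19 : letM (Gen.e, true) * !![1, 3, 1; 6, 6, 6; 0, 0, 4] = !![6, 5, 6; 0, 1, 0; 0, 0, 1] := by decide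
  have h18 : letM (Gen.c, true) * !![6, 5, 6; 0, 1, 0; 0, 0, 1] = !![5, 5, 6; 5, 2, 3; 6, 3, 1] := by decide
  have h17 : letM (Gen.d, true) * !![5, 5, 6; 5, 2, 3; 6, 3, 1] = !![3, 2, 5; 4, 3, 4; 5, 3, 5] := by decide
  have h16 : letM (Gen.b, true) * !![3, 2, 5; 4, 3, 4; 5, 3, 5] = !![3, 3, 5; 5, 4, 5; 3, 6, 3] := by decide
  have h15 : letM (Gen.c, true) * !![3, 3, 5; 5, 4, 5; 3, 6, 3] = !![5, 6, 2; 2, 4, 6; 6, 0, 1] := by decide
  have h14 : letM (Gen.d, true) * !![5, 6, 2; 2, 4, 6; 6, 0, 1] = !![5, 1, 6; 5, 3, 4; 6, 6, 3] := by decide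
  have h13 : letM (Gen.e, true) * !![5, 1, 6; 5, 3, 4; 6, 6, 3] = !![0, 1, 6; 5, 2, 5; 5, 5, 6] := by decide
  have h12 : letM (Gen.b, true) * !![0, 1, 6; 5, 2, 5; 5, 5, 6] = !![4, 0, 4; 2, 4, 4; 3, 3, 5] := by decide
  have h11 : letM (Gen.c, true) * !![4, 0, 4; 2, 4, 4; 3, 3, 5] = !![1, 4, 0; 0, 4, 1; 6, 5, 6] := by decide
  have h10 : letM (Gen.d, true) * !![1, 4, 0; 0, 4, 1; 6, 5, 6] = !![0, 4, 3; 2, 1, 6; 1, 0, 1] := by decide
  have h9 : letM (Gen.b, false) * !![0, 4, 3; 2, 1, 6; 1, 0, 1] = !![2, 3, 1; 2, 2, 3; 4, 0, 4] := by decide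
  have h8 : letM (Gen.c, true) * !![2, 3, 1; 2, 2, 3; 4, 0, 4] = !![5, 3, 5; 1, 4, 5; 6, 6, 3] := by decide
  have h7 : letM (Gen.d, true) * !![5, 3, 5; 1, 4, 5; 6, 6, 3] = !![1, 4, 0; 3, 6, 2; 4, 6, 2] := by decide
  have h6 : letM (Gen.e, true) * !![1, 4, 0; 3, 6, 2; 4, 6, 2] = !![1, 1, 1; 2, 5, 1; 1, 5, 4] := by decide
  have h5 : letM (Gen.f, true) * !![1, 1, 1; 2, 5, 1; 1, 5, 4] = !![6, 1, 0; 2, 6, 0; 0, 3, 1] := by decide
  have h4 : letM (Gen.d, true) * !![6, 1, 0; 2, 6, 0; 0, 3, 1] = !![0, 0, 1; 6, 5, 3; 2, 3, 1] := by decide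
  have h3 : letM (Gen.b, false) * !![0, 0, 1; 6, 5, 3; 2, 3, 1] = !![2, 0, 2; 1, 4, 4; 1, 5, 4] := by decide
  have h2 : letM (Gen.c, true) * !![2, 0, 2; 1, 4, 4; 1, 5, 4] = !![0, 6, 2; 1, 0, 6; 2, 2, 2] := by decide
  have h1 : letM (Gen.d, true) * !![0, 6, 2; 1, 0, 6; 2, 2, 2] = !![6, 1, 0; 1, 1, 0; 4, 0, 4] := by decide
  have h0 : letM (Gen.e, true) * !![6, 1, 0; 1, 1, 0; 4, 0, 4] = !![1, 0, 0; 0, 1, 0; 1, 0, 1] := by decide
  simp only [word20, List.map_cons, List.map_nil, List.prod_cons, List.prod_nil]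
  rw [h22, h21, h20, h19, h18, h17, h16, h15, h14, h13, h12, h11, h10, h9, h8, h7, h6, h5, h4, h3, h2, h1, h0]

/-- a word for the transvection `1 + 3 E_{21}` (up to the scalar 5) -/
def word21 : List (Gen × Bool) := [(Gen.b, false), (Gen.e, true), (Gen.d, true), (Gen.f, true), (Gen.e, true), (Gen.d, true), (Gen.c, true), (Gen.d, true), (Gen.c, true), (Gen.b, false), (Gen.e, true), (Gen.d, true), (Gen.c, true), (Gen.d, true), (Gen.c, true), (Gen.e, true), (Gen.f, true)]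

theorem word21_prod : (word21.map letM).prod = !![5, 0, 0; 0, 5, 0; 0, 1, 5] := by
  have h16 : letM (Gen.f, true) * 1 = !![1, 5, 2; 5, 1, 2; 2, 2, 1] := by decide
  have h15 : letM (Gen.e, true) * !![1, 5, 2; 5, 1, 2; 2, 2, 1] = !![2, 5, 0; 3, 3, 2; 4, 4, 2] := by decide
  have h14 : letM (Gen.c, true) * !![2, 5, 0; 3, 3, 2; 4, 4, 2] = !![0, 6, 6; 0, 6, 1; 4, 0, 0] := by decide
  have h13 : letM (Gen.d, true) * !![0, 6, 6; 0, 6, 1; 4, 0, 0] = !![4, 2, 3; 5, 0, 4; 4, 3, 0] := by decide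
  have h12 : letM (Gen.c, true) * !![4, 2, 3; 5, 0, 4; 4, 3, 0] = !![1, 0, 0; 2, 5, 2; 2, 1, 2] := by decide
  have h11 : letM (Gen.d, true) * !![1, 0, 0; 2, 5, 2; 2, 1, 2] = !![4, 0, 3; 1, 6, 3; 1, 4, 6] := by decide
  have h10 : letM (Gen.e, true) * !![4, 0, 3; 1, 6, 3; 1, 4, 6] = !![2, 3, 0; 6, 3, 3; 2, 1, 5] := by decide
  have h9 : letM (Gen.b, false) * !![2, 3, 0; 6, 3, 3; 2, 1, 5] = !![4, 4, 3; 1, 4, 3; 1, 4, 6] := by decide
  have h8 : letM (Gen.c, true) * !![4, 4, 3; 1, 4, 3; 1, 4, 6] = !![4, 6, 4; 5, 3, 5; 4, 4, 2] := by decide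
  have h7 : letM (Gen.d, true) * !![4, 6, 4; 5, 3, 5; 4, 4, 2] = !![0, 1, 5; 0, 6, 1; 1, 1, 6] := by decide
  have h6 : letM (Gen.c, true) * !![0, 1, 5; 0, 6, 1; 1, 1, 6] = !![1, 1, 4; 5, 1, 4; 2, 5, 1] := by decide
  have h5 : letM (Gen.d, true) * !![1, 1, 4; 5, 1, 4; 2, 5, 1] = !![2, 3, 0; 0, 1, 3; 0, 2, 3] := by decide
  have h4 : letM (Gen.e, true) * !![2, 3, 0; 0, 1, 3; 0, 2, 3] = !![6, 6, 5; 1, 2, 5; 0, 4, 6] := by decide
  have h3 : letM (Gen.f, true) * !![6, 6, 5; 1, 2, 5; 0, 4, 6] = !![4, 3, 0; 3, 5, 0; 0, 6, 5] := by decide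
  have h2 : letM (Gen.d, true) * !![4, 3, 0; 3, 5, 0; 0, 6, 5] = !![2, 1, 5; 5, 1, 1; 0, 1, 5] := by decide
  have h1 : letM (Gen.e, true) * !![2, 1, 5; 5, 1, 1; 0, 1, 5] = !![5, 0, 5; 0, 1, 3; 0, 2, 3] := by decide
  have h0 : letM (Gen.b, false) * !![5, 0, 5; 0, 1, 3; 0, 2, 3] = !![5, 0, 0; 0, 5, 0; 0, 1, 5] := by decide
  simp only [word21, List.map_cons, List.map_nil, List.prod_cons, List.prod_nil]
  rw [h16, h15, h14, h13, h12, h11, h10, h9, h8, h7, h6, h5, h4, h3, h2, h1, h0]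

end Cfsg.Agent.Lib.Helper13.ONL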