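import Mathlib
import Cfsg.Agent.Lib.Helper13.ONL37C

/-!
# The presented group on `a, …, f` has a normal subgroup of index two isomorphic to `PSL_3(7)`,
provided it has at most `3753792` elements (helper13)
-/

set_option autoImplicit false
set_option maxRecDepth 100000

namespace Cfsg.Agent.Lib.Helper13.ONL

open Matrix Cfsg.Agent.Lib.Helper18.PSLnAut
open Cfsg.Agent.Lib.Helper28.TCONW1Def (Gen edges extra)

local instance fact_prime_seven3 : Fact (Nat.Prime 7) := ⟨by norm_num⟩

/-- `PSL_3(7)` -/
abbrev P37 := ProjectiveSpecialLinearGroup (Fin 3) (ZMod 7)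

/-- the inner automorphisms of `PSL_3(7)` -/
abbrev Inn37 : Subgroup (MulAut P37) := (MulAut.conj : P37 →* MulAut P37).range

theorem inn37_normal : Inn37.Normal := by
  constructor
  rintro _ ⟨g, rfl⟩ α
  refine ⟨α g, ?_⟩
  ext x
  simp [MulAut.conj_apply, map_mul, map_inv]

theorem conj37_injective : Function.Injective (MulAut.conj : P37 →* MulAut P37) := by
  rw [injective_iff_map_eq_one]
  intro x hx
  obtain ⟨s, rfl⟩ := pi_surjective x
  rw [conj_pi_eq_conjA] at hx
  have h1 : Matrix.SpecialLinearGroup.toGL s ∈ (conjAHom (n := 3) (F := ZMod 7)).ker := hx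
  rw [ker_conjAHom (by norm_num)] at h1
  obtain ⟨c, hc⟩ := Matrix.GeneralLinearGroup.mem_center_iff_val_mem_range_scalar.1 h1
  rw [pi_eq_one_iff, Matrix.SpecialLinearGroup.mem_center_iff]
  have hc' : Matrix.scalar (Fin 3) c = (s : Matrix (Fin 3) (Fin 3) (ZMod 7)) := hc
  refine ⟨c, ?_, hc'⟩
  have hd := s.2
  rw [← hc'] at hd
  simpa using hd

theorem card_Inn37 : Nat.card Inn37 = Nat.card P37 :=
  (Nat.card_congr (MonoidHom.ofInjective conj37_injective).toEquiv).symm

instance : Finite P37 := inferInstance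

theorem pow_transvection {i j : Fin 3} (hij : i ≠ j) (b : ZMod 7) (k : ℕ) :
    (SpecialLinearGroup.transvection hij b) ^ k = SpecialLinearGroup.transvection hij (k • b) := by
  induction k with
  | zero => rw [pow_zero, zero_smul, SpecialLinearGroup.transvection_coeff_zero]
  | succ k ih => rw [pow_succ, ih, succ_nsmul, SpecialLinearGroup.transvection_add]

/-- matrices inducing elements of the range of `rhoHat` -/
noncomputable def K37 : Subgroup (SpecialLinearGroup (Fin 3) (ZMod 7)) :=
  rhoHat.range.comap ((conjAHom (n := 3) (F := ZMod 7)).comp Matrix.SpecialLinearGroup.toGL)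

theorem mem_K37_iff (s : SpecialLinearGroup (Fin 3) (ZMod 7)) :
    s ∈ K37 ↔ conjAHom (Matrix.SpecialLinearGroup.toGL s) ∈ rhoHat.range := Iff.rfl

theorem mem_range_of_word (w : List (Gen × Bool)) (g : GL (Fin 3) (ZMod 7)) (c : ZMod 7)
    (h : (w.map letM).prod = c • (g : Mat7)) : conjAHom g ∈ rhoHat.range := by
  have h1 : conjAHom (g⁻¹ * (w.map letG).prod) = 1 := by
    apply conjAHom_eq_one_of_scalar (by norm_num) _ c
    rw [Units.val_mul, val_word, h, Matrix.mul_smul]
    have : ((g⁻¹ : GL (Fin 3) (ZMod 7)) : Mat7) * (g : Mat7) = 1 := by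
      rw [← Units.val_mul, inv_mul_cancel, Units.val_one]
    rw [this]
    ext i j
    simp [Matrix.scalar_apply, Matrix.diagonal_apply, Matrix.one_apply]
  rw [map_mul, map_inv, inv_mul_eq_one] at h1
  rw [h1, ← rhoHat_word]
  exact ⟨_, rfl⟩

theorem transvection_mem_of {i j : Fin 3} (hij : i ≠ j) (t₀ : ZMod 7) (h0 : t₀ ≠ 0)
    (h : SpecialLinearGroup.transvection hij t₀ ∈ K37) (t : ZMod 7) :
    SpecialLinearGroup.transvection hij t ∈ K37 := by
  have h1 : SpecialLinearGroup.transvection hij t =
      (SpecialLinearGroup.transvection hij t₀) ^ (t * t₀⁻¹).val := by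
    rw [pow_transvection, nsmul_eq_mul, ZMod.natCast_zmod_val, mul_assoc, inv_mul_cancel₀ h0,
      mul_one]
  rw [h1]
  exact pow_mem h _

theorem word_mem {i j : Fin 3} (hij : i ≠ j) (t₀ : ZMod 7) (w : List (Gen × Bool)) (S : Mat7)
    (hw : (w.map letM).prod = S) (c : ZMod 7)
    (hS : S = c • ((1 : Mat7) + Matrix.single i j t₀)) :
    SpecialLinearGroup.transvection hij t₀ ∈ K37 := by
  rw [mem_K37_iff]
  apply mem_range_of_word w _ c
  rw [hw, hS]
  rfl

theorem transvection_mem_K37 (i j : Fin 3) (hij : i ≠ j) (t : ZMod 7) :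
    SpecialLinearGroup.transvection hij t ∈ K37 := by
  fin_cases i <;> fin_cases j
  · exact absurd rfl hij
  · exact transvection_mem_of _ 3 (by decide) (word_mem _ 3 word01 _ word01_prod 1 (by decide)) t
  · exact transvection_mem_of _ 1 (by decide) (word_mem _ 1 word02 _ word02_prod 2 (by decide)) t
  · exact transvection_mem_of _ 3 (by decide) (word_mem _ 3 word10 _ word10_prod 1 (by decide)) t
  · exact absurd rfl hij
  · exact transvection_mem_of _ 3 (by decide) (word_mem _ 3 word12 _ word12_prod 5 (by decide)) t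
  · exact transvection_mem_of _ 1 (by decide) (word_mem _ 1 word20 _ word20_prod 1 (by decide)) t
  · exact transvection_mem_of _ 3 (by decide) (word_mem _ 3 word21 _ word21_prod 5 (by decide)) t
  · exact absurd rfl hij

theorem K37_eq_top : K37 = ⊤ := by
  rw [eq_top_iff]
  intro s _
  exact Cfsg.Agent.Lib.Helper2.sl_transvection_induction (fun s => s ∈ K37)
    (fun i j hij c => transvection_mem_K37 i j hij c) (fun A B hA hB => mul_mem hA hB) s

theorem inn37_le_range : Inn37 ≤ rhoHat.range := by
  rintro _ ⟨x, rfl⟩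
  obtain ⟨s, rfl⟩ := pi_surjective x
  rw [conj_pi_eq_conjA, ← mem_K37_iff, K37_eq_top]
  trivial

theorem rhoHat_a_not_mem : rhoHat (PresentedGroup.of .a) ∉ Inn37 := by
  rw [rhoHat_of]
  exact tauM_not_mem_range_conj (by norm_num) _

/-- The presented group on `a, …, f`, if it has at most `3753792` elements, has exactly that many
and has a normal subgroup of index two isomorphic to `PSL_3(7)`. -/
theorem main_hat [Finite (PresentedGroup relsW1)]
    (hcard : Nat.card (PresentedGroup relsW1) ≤ 3753792) :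
    ∃ N : Subgroup (PresentedGroup relsW1), N.Normal ∧ N.index = 2 ∧ Nonempty (N ≃* P37) ∧
      Nat.card (PresentedGroup relsW1) = 3753792 := by
  have hI : Nat.card Inn37 = Nat.card P37 := card_Inn37
  have hge : 1876896 ≤ Nat.card P37 := card_PSL3_7_ge
  have hfin : Finite Inn37 := Finite.of_injective _ Subtype.val_injective
  obtain ⟨-, hidx, ⟨e⟩, hc⟩ := index_two_of_card_le rhoHat Inn37 inn37_le_range
    (PresentedGroup.of .a) rhoHat_a_not_mem (by rw [hI]; omega)
  have hn : (Inn37.comap rhoHat).Normal := by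
    have := inn37_normal
    exact Subgroup.Normal.comap inferInstance rhoHat
  refine ⟨Inn37.comap rhoHat, hn, hidx, ⟨e.trans (MonoidHom.ofInjective conj37_injective).symm⟩, ?_⟩
  rw [hI] at hc
  omega

end Cfsg.Agent.Lib.Helper13.ONL
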