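import Mathlib

/-!
# Transfer of a normal subgroup of index two from a sub-presentation to the subgroup it generates
(helper13)
-/

set_option autoImplicit false

namespace Cfsg.Agent.Lib.Helper13.ONL

section transfer

variable {K G P : Type*} [Group K] [Group G] [Group P]

/-- If `ψ : K → G` has image containing `H` and `|K| ≤ |H|`, then `ψ` is an isomorphism of `K`
onto `H`, and normal subgroups of index two are carried over. -/
theorem transfer_index_two [Finite K] (ψ : K →* G) (H : Subgroup G) [Finite H] (hH : H ≤ ψ.range)
    (hcard : Nat.card K ≤ Nat.card H) (N : Subgroup K) (hN : N.Normal) (hidx : N.index = 2)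
    (e : N ≃* P) :
    ∃ N' : Subgroup H, N'.Normal ∧ N'.index = 2 ∧ Nonempty (N' ≃* P) := by
  classical
  have hfinR : Finite ψ.range := Finite.of_surjective ψ.rangeRestrict ψ.rangeRestrict_surjective
  have h1 : Nat.card H ≤ Nat.card ψ.range :=
    Nat.card_le_card_of_injective _ (Subgroup.inclusion_injective hH)
  have h2 : Nat.card ψ.range ≤ Nat.card K :=
    Nat.card_le_card_of_surjective ψ.rangeRestrict ψ.rangeRestrict_surjective
  have hcR : Nat.card ψ.range = Nat.card K := le_antisymm h2 (le_trans hcard h1)
  have hcH : Nat.card H = Nat.card ψ.range := le_antisymm h1 (by rw [hcR]; exact hcard)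
  have heq : H = ψ.range := by
    apply Subgroup.eq_of_le_of_card_ge hH
    rw [hcH]
  have hinj : Function.Injective ψ := by
    have hb : Function.Bijective ψ.rangeRestrict :=
      (Nat.bijective_iff_surjective_and_card ψ.rangeRestrict).2
        ⟨ψ.rangeRestrict_surjective, hcR.symm⟩
    intro x y hxy
    apply hb.1
    exact Subtype.ext hxy
  let e' : K ≃* H := (MonoidHom.ofInjective hinj).trans (MulEquiv.subgroupCongr heq.symm)
  refine ⟨N.map e'.toMonoidHom, ?_, ?_, ?_⟩
  · exact Subgroup.Normal.map hN _ e'.surjective
  · rw [Subgroup.index_map_of_bijective e'.bijective]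
    exact hidx
  · exact ⟨(N.equivMapOfInjective e'.toMonoidHom e'.injective).symm.trans e⟩

end transfer

section subpres

variable {α β : Type}

/-- the homomorphism from a sub-presentation -/
theorem exists_hom_subpres (rels : Set (FreeGroup α)) (rels' : Set (FreeGroup β)) (ι : β → α)
    (hrel : ∀ r ∈ rels', FreeGroup.map ι r ∈ rels)
    (S : Set (FreeGroup α)) (hS : ∀ s ∈ S, ∃ b, s = FreeGroup.of (ι b)) :
    ∃ ψ : PresentedGroup rels' →* PresentedGroup rels,
      (Subgroup.closure S).map (PresentedGroup.mk rels) ≤ ψ.range := by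
  have key : FreeGroup.lift (fun b => (PresentedGroup.of (ι b) : PresentedGroup rels)) =
      (PresentedGroup.mk rels).comp (FreeGroup.map ι) := by
    ext b
    simp [PresentedGroup.of]
  have h1 : ∀ r ∈ rels',
      FreeGroup.lift (fun b => (PresentedGroup.of (ι b) : PresentedGroup rels)) r = 1 := by
    intro r hr
    rw [key]
    exact PresentedGroup.one_of_mem (hrel r hr)
  refine ⟨PresentedGroup.toGroup h1, ?_⟩
  rw [Subgroup.map_le_iff_le_comap, Subgroup.closure_le]
  intro s hs
  obtain ⟨b, rfl⟩ := hS s hs
  show PresentedGroup.mk rels (FreeGroup.of (ι b)) ∈ (PresentedGroup.toGroup h1).range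
  exact ⟨PresentedGroup.of b, PresentedGroup.toGroup.of h1⟩

end subpres

end Cfsg.Agent.Lib.Helper13.ONL
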