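/-
helper13 (S2345, leaf AR1 of helper27's plan): arithmetic of the target degree
`b = (q^n-1)(q^(n-1)+q)/(q^2-1)` of `Ω⁺_{2n}(q)`:
`b = R2 + N_n`, `b ≤ 2 R2`, `b ≤ 2 q^(n-2) (q^(n-1)-1)`, and `b - 1` does not divide
`q^(2n-3) · |L|`, `|L| = (q^n-1)(q^(n-1)+1)(q^(n-1)-1)(q^(n-2)+1)/(q^2-1)`.
-/
import Mathlib

set_option autoImplicit false

namespace Cfsg.Agent.Lib.Helper13.OPMinArith

/-- the target degree `(q^n-1)(q^(n-1)+q)/(q^2-1)` -/
def bO (q n : ℕ) : ℕ := (q ^ n - 1) * (q ^ (n - 1) + q) / (q ^ 2 - 1)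

/-- the number of rank-2 alternating matrices `(q^n-1)(q^(n-1)-1)/(q^2-1)` -/
def R2 (q n : ℕ) : ℕ := (q ^ n - 1) * (q ^ (n - 1) - 1) / (q ^ 2 - 1)

/-- the number of long root elements -/
def Lc (q n : ℕ) : ℕ :=
  (q ^ n - 1) * (q ^ (n - 1) + 1) * (q ^ (n - 1) - 1) * (q ^ (n - 2) + 1) / (q ^ 2 - 1)

/-- `N_n = (q^n-1)/(q-1)` -/
def Nn (q n : ℕ) : ℕ := (q ^ n - 1) / (q - 1)

theorem sub_one_dvd (q m : ℕ) : q - 1 ∣ q ^ m - 1 := by
  have h := Nat.sub_dvd_pow_sub_pow q 1 m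
  rwa [one_pow] at h

theorem sq_sub_one_dvd_even (q k : ℕ) : q ^ 2 - 1 ∣ q ^ (2 * k) - 1 := by
  have h := Nat.sub_dvd_pow_sub_pow (q ^ 2) 1 k
  rwa [one_pow, ← pow_mul] at h

theorem sq_sub_one_dvd (q n : ℕ) (hn : 1 ≤ n) : q ^ 2 - 1 ∣ (q ^ n - 1) * (q ^ (n - 1) - 1) := by
  rcases Nat.even_or_odd' n with ⟨k, hk | hk⟩
  · rw [hk]
    exact Dvd.dvd.mul_right (sq_sub_one_dvd_even q k) _
  · have h1 : n - 1 = 2 * k := by omega
    rw [h1]
    exact Dvd.dvd.mul_left (sq_sub_one_dvd_even q k) _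

theorem sq_sub_one_eq (q : ℕ) (hq : 1 ≤ q) : q ^ 2 - 1 = (q - 1) * (q + 1) := by
  obtain ⟨f, rfl⟩ : ∃ f, q = f + 1 := ⟨q - 1, by omega⟩
  simp only [Nat.add_sub_cancel]
  have : (f + 1) ^ 2 = f * (f + 1 + 1) + 1 := by ring
  rw [this, Nat.add_sub_cancel]

/-! ### the numbers in additive form -/

/-- the data `s = q^(n-2)`, `t = q^(n-1) = q s`, `q^n = q t`, and the "minus one" numbers -/
structure Data (q n : ℕ) where
  s : ℕ
  t : ℕ
  x : ℕ
  u : ℕ
  e : ℕ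
  f : ℕ
  hs : q ^ (n - 2) = s
  ht : q ^ (n - 1) = t
  hts : t = q * s
  hx : q ^ n - 1 = x
  hx' : x + 1 = q * t
  hu : q ^ (n - 1) - 1 = u
  hu' : u + 1 = t
  he : q ^ 2 - 1 = e
  he' : e + 1 = q * q
  hf : q - 1 = f
  hf' : f + 1 = q

theorem exists_data (q n : ℕ) (hq : 2 ≤ q) (hn : 2 ≤ n) : Nonempty (Data q n) := by
  have h1 : 1 ≤ q ^ n := Nat.one_le_pow _ _ (by omega)
  have h2 : 1 ≤ q ^ (n - 1) := Nat.one_le_pow _ _ (by omega)
  have h3 : 1 ≤ q ^ 2 := Nat.one_le_pow _ _ (by omega)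
  have h4 : q ^ (n - 1) = q * q ^ (n - 2) := by
    have : n - 1 = (n - 2) + 1 := by omega
    rw [this, pow_succ, mul_comm]
  have h5 : q ^ n = q * q ^ (n - 1) := by
    have : n = (n - 1) + 1 := by omega
    conv_lhs => rw [this, pow_succ, mul_comm]
  exact ⟨{ s := q ^ (n - 2), t := q ^ (n - 1), x := q ^ n - 1, u := q ^ (n - 1) - 1,
           e := q ^ 2 - 1, f := q - 1, hs := rfl, ht := rfl, hts := h4, hx := rfl,
           hx' := by rw [← h5]; omega, hu := rfl, hu' := by omega, he := rfl,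
           he' := by rw [← sq]; omega, hf := rfl, hf' := by omega }⟩

theorem Data.e_eq {q n : ℕ} (D : Data q n) : D.e = D.f * (q + 1) := by
  have h1 := D.he'
  have h2 := D.hf'
  zify at h1 h2 ⊢
  have hf : (D.f : ℤ) = q - 1 := by linarith
  have he : (D.e : ℤ) = q * q - 1 := by linarith
  rw [hf, he]
  ring

theorem Data.e_pos {q n : ℕ} (D : Data q n) (hq : 2 ≤ q) : 0 < D.e := by
  have h1 := D.he'
  nlinarith

theorem bO_mul (q n : ℕ) (hq : 2 ≤ q) (hn : 2 ≤ n) :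
    (q ^ 2 - 1) * bO q n = (q ^ n - 1) * (q ^ (n - 1) + q) := by
  unfold bO
  apply Nat.mul_div_cancel'
  have h1 : 1 ≤ q ^ (n - 1) := Nat.one_le_pow _ _ (by omega)
  have h2 : q ^ (n - 1) + q = (q ^ (n - 1) - 1) + (q + 1) := by omega
  rw [h2, mul_add]
  apply dvd_add (sq_sub_one_dvd q n (by omega))
  rw [sq_sub_one_eq q (by omega)]
  exact Nat.mul_dvd_mul_right (sub_one_dvd q n) _

theorem R2_mul (q n : ℕ) (hn : 1 ≤ n) :
    (q ^ 2 - 1) * R2 q n = (q ^ n - 1) * (q ^ (n - 1) - 1) := by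
  unfold R2
  exact Nat.mul_div_cancel' (sq_sub_one_dvd q n hn)

theorem Lc_mul (q n : ℕ) (hn : 1 ≤ n) :
    (q ^ 2 - 1) * Lc q n =
      (q ^ n - 1) * (q ^ (n - 1) + 1) * (q ^ (n - 1) - 1) * (q ^ (n - 2) + 1) := by
  unfold Lc
  apply Nat.mul_div_cancel'
  have h : (q ^ n - 1) * (q ^ (n - 1) + 1) * (q ^ (n - 1) - 1) * (q ^ (n - 2) + 1) =
      ((q ^ n - 1) * (q ^ (n - 1) - 1)) * ((q ^ (n - 1) + 1) * (q ^ (n - 2) + 1)) := by ring
  rw [h]
  exact Dvd.dvd.mul_right (sq_sub_one_dvd q n hn) _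

theorem Nn_mul (q n : ℕ) : (q - 1) * Nn q n = q ^ n - 1 := by
  unfold Nn
  exact Nat.mul_div_cancel' (sub_one_dvd q n)

/-- `b = R2 + N_n` -/
theorem bO_eq (q n : ℕ) (hq : 2 ≤ q) (hn : 2 ≤ n) : bO q n = R2 q n + Nn q n := by
  obtain ⟨D⟩ := exists_data q n hq hn
  have hb := bO_mul q n hq hn
  have hr := R2_mul q n (by omega)
  have hN := Nn_mul q n
  rw [D.he, D.hx, D.ht] at hb
  rw [D.he, D.hx, D.hu] at hr
  rw [D.hf, D.hx] at hN
  have he := D.e_eq
  have hu := D.hu'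
  have h : D.e * bO q n = D.e * (R2 q n + Nn q n) := by
    rw [mul_add, hb, hr]
    have h3 : D.e * Nn q n = D.x * (q + 1) := by
      rw [he, ← hN]
      ring
    rw [h3, ← hu]
    ring
  exact Nat.eq_of_mul_eq_mul_left (D.e_pos hq) h

theorem Nn_pos (q n : ℕ) (hq : 2 ≤ q) (hn : 1 ≤ n) : 1 ≤ Nn q n := by
  have hN := Nn_mul q n
  have h1 : 2 ≤ q ^ n := by
    calc 2 ≤ q := hq
      _ = q ^ 1 := (pow_one q).symm
      _ ≤ q ^ n := Nat.pow_le_pow_right (by omega) hn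
  rcases Nat.eq_zero_or_pos (Nn q n) with h | h
  · rw [h, mul_zero] at hN
    omega
  · exact h

/-- `(q^n - q)/(q - 1) = N_n - 1` -/
theorem tgt_eq (q n : ℕ) (hq : 2 ≤ q) (hn : 1 ≤ n) : (q ^ n - q) / (q - 1) = Nn q n - 1 := by
  have hN := Nn_mul q n
  have h1 : q ^ n - q = (q - 1) * (Nn q n - 1) := by
    rw [Nat.mul_sub, hN, mul_one]
    have : q ≤ q ^ n := by
      calc q = q ^ 1 := (pow_one q).symm
        _ ≤ q ^ n := Nat.pow_le_pow_right (by omega) hn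
    omega
  rw [h1, Nat.mul_div_cancel_left _ (by omega)]

/-- `R2 + (q^n - q)/(q - 1) = b - 1` -/
theorem R2_add (q n : ℕ) (hq : 2 ≤ q) (hn : 2 ≤ n) :
    R2 q n + (q ^ n - q) / (q - 1) = bO q n - 1 := by
  rw [tgt_eq q n hq (by omega), bO_eq q n hq hn]
  have := Nn_pos q n hq (by omega)
  omega

/-- `b ≤ 2 R2` -/
theorem bO_le_two_R2 (q n : ℕ) (hq : 2 ≤ q) (hn : 3 ≤ n) : bO q n ≤ 2 * R2 q n := by
  obtain ⟨D⟩ := exists_data q n hq (by omega)
  have hb := bO_mul q n hq (by omega)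
  have hr := R2_mul q n (by omega)
  rw [D.he, D.hx, D.ht] at hb
  rw [D.he, D.hx, D.hu] at hr
  have hu := D.hu'
  have hts := D.hts
  have hs : q ≤ D.s := by
    rw [← D.hs]
    calc q = q ^ 1 := (pow_one q).symm
      _ ≤ q ^ (n - 2) := Nat.pow_le_pow_right (by omega) (by omega)
  have ht : q + 2 ≤ D.t := by
    rw [hts]
    nlinarith
  have h : D.e * bO q n ≤ D.e * (2 * R2 q n) := by
    rw [hb]
    have : D.e * (2 * R2 q n) = 2 * (D.x * D.u) := by rw [← hr]; ring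
    rw [this]
    have h2 : D.t + q ≤ 2 * D.u := by omega
    calc D.x * (D.t + q) ≤ D.x * (2 * D.u) := Nat.mul_le_mul_left _ h2
      _ = 2 * (D.x * D.u) := by ring
  exact Nat.le_of_mul_le_mul_left h (D.e_pos hq)

/-- `b ≤ 2 q^(n-2) (q^(n-1) - 1)` -/
theorem bO_le_caseA (q n : ℕ) (hq : 2 ≤ q) (hn : 4 ≤ n) :
    bO q n ≤ 2 * q ^ (n - 2) * (q ^ (n - 1) - 1) := by
  obtain ⟨D⟩ := exists_data q n hq (by omega)
  have hb := bO_mul q n hq (by omega)
  rw [D.he, D.hx, D.ht] at hb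
  rw [D.hs, D.hu]
  have hu := D.hu'
  have hts := D.hts
  have hx := D.hx'
  have he := D.he'
  have hs : q * q ≤ D.s := by
    rw [← D.hs, ← sq]
    exact Nat.pow_le_pow_right (by omega) (by omega)
  have h : D.e * bO q n ≤ D.e * (2 * D.s * D.u) := by
    rw [hb]
    zify at hu hts hx he hs ⊢
    have hq' : (2 : ℤ) ≤ q := by exact_mod_cast hq
    have hxv : (D.x : ℤ) = q * D.t - 1 := by linarith
    have huv : (D.u : ℤ) = D.t - 1 := by linarith
    have hev : (D.e : ℤ) = q * q - 1 := by linarith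
    rw [hxv, huv, hev, hts]
    have hs0 : (0 : ℤ) ≤ D.s := by positivity
    nlinarith [mul_nonneg hs0 hs0, mul_le_mul_of_nonneg_left hs hs0,
      mul_le_mul_of_nonneg_left hq' hs0, mul_nonneg (mul_nonneg hs0 hs0) (by linarith : (0:ℤ) ≤ q)]
  exact Nat.le_of_mul_le_mul_left h (D.e_pos hq)

/-! ### the non-divisibility -/

/-- the core: `A = q² s + q² + q - 1` does not divide `q^k (q² s - 1)(q s + 1)(s + 1)`
as soon as `s ≥ q²` -/
theorem core (q s A x y z e f k : ℕ) (hq : 2 ≤ q) (hs : q * q ≤ s)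
    (hA : A + 1 = q * q * s + q * q + q) (hx : x + 1 = q * q * s) (hy : y = q * s + 1)
    (hz : z = s + 1) (he : e + 1 = q * q) (hf : f + 1 = q) :
    ¬ (A ∣ q ^ k * (x * y * z)) := by
  intro hdvd
  -- `A` is prime to `q`
  have hcop : Nat.Coprime A q := by
    have h1 : Nat.Coprime A (A + 1) := by simp
    have h2 : q ∣ A + 1 := ⟨q * s + q + 1, by rw [hA]; ring⟩
    exact Nat.Coprime.coprime_dvd_right h2 h1
  have hdvd2 : A ∣ x * y * z :=
    (Nat.Coprime.pow_right k hcop).dvd_of_dvd_mul_left hdvd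
  -- the three gcd's
  have hAx : A = x + q * (q + 1) := by
    have : A + 1 = x + 1 + q * (q + 1) := by rw [hA, hx]; ring
    omega
  have hAy : A = q * y + e := by
    have : A + 1 = q * y + e + 1 := by rw [hA, hy, add_assoc (q * (q * s + 1)), he]; ring
    omega
  have hAz : A = q * q * z + f := by
    have : A + 1 = q * q * z + f + 1 := by rw [hA, hz, add_assoc (q * q * (s + 1)), hf]; ring
    omega
  have g1 : Nat.gcd A x ∣ q + 1 := by
    have h1 : Nat.gcd A x ∣ q * (q + 1) := by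
      have ha : Nat.gcd A x ∣ x + q * (q + 1) := by
        have := Nat.gcd_dvd_left A x
        exact hAx ▸ this
      exact (Nat.dvd_add_right (Nat.gcd_dvd_right A x)).mp ha
    have h2 : Nat.Coprime (Nat.gcd A x) q :=
      Nat.Coprime.coprime_dvd_left (Nat.gcd_dvd_left A x) hcop
    exact h2.dvd_of_dvd_mul_left h1
  have g2 : Nat.gcd A y ∣ e := by
    have ha : Nat.gcd A y ∣ q * y + e := by
      have := Nat.gcd_dvd_left A y
      exact hAy ▸ this
    exact (Nat.dvd_add_right (Dvd.dvd.mul_left (Nat.gcd_dvd_right A y) q)).mp ha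
  have g3 : Nat.gcd A z ∣ f := by
    have ha : Nat.gcd A z ∣ q * q * z + f := by
      have := Nat.gcd_dvd_left A z
      exact hAz ▸ this
    exact (Nat.dvd_add_right (Dvd.dvd.mul_left (Nat.gcd_dvd_right A z) (q * q))).mp ha
  have h3 : A ∣ (q + 1) * e * f := by
    have h4 : A = Nat.gcd A (x * y * z) := (Nat.gcd_eq_left hdvd2).symm
    have h5 : Nat.gcd A (x * y * z) ∣ Nat.gcd A (x * y) * Nat.gcd A z :=
      Nat.gcd_mul_right_dvd_mul_gcd A (x * y) z
    have h6 : Nat.gcd A (x * y) ∣ Nat.gcd A x * Nat.gcd A y := Nat.gcd_mul_right_dvd_mul_gcd A x y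
    rw [h4]
    exact h5.trans (Nat.mul_dvd_mul (h6.trans (Nat.mul_dvd_mul g1 g2)) g3)
  have hpos : 0 < (q + 1) * e * f := by
    have : 0 < e := by nlinarith
    have : 0 < f := by omega
    positivity
  have hle : A ≤ (q + 1) * e * f := Nat.le_of_dvd hpos h3
  -- `(q+1) e f = e²  < q⁴ ≤ q² s ≤ A`
  have hee : (q + 1) * e * f = e * e := by
    have : (q + 1) * f = e := by
      zify at he hf ⊢
      linear_combination (q + 1 : ℤ) * hf - he
    calc (q + 1) * e * f = ((q + 1) * f) * e := by ring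
      _ = e * e := by rw [this]
  rw [hee] at hle
  have h7 : e * e < q * q * s := by
    have h8 : e < q * q := by omega
    calc e * e < (q * q) * (q * q) := Nat.mul_lt_mul'' h8 h8
      _ ≤ q * q * s := Nat.mul_le_mul_left _ hs
  omega

/-- **AR1**: `b - 1` does not divide `q^(2n-3) · |L|`. -/
theorem not_dvd (q n : ℕ) (hq : 2 ≤ q) (hn : 4 ≤ n) :
    ¬ (bO q n - 1 ∣ q ^ (2 * n - 3) * Lc q n) := by
  intro h
  obtain ⟨D⟩ := exists_data q n hq (by omega)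
  have hb := bO_mul q n hq (by omega)
  have hL := Lc_mul q n (by omega)
  rw [D.he, D.hx, D.ht] at hb
  rw [D.he, D.hx, D.hu, D.ht, D.hs] at hL
  have hu := D.hu'
  have hts := D.hts
  have hx := D.hx'
  have he := D.he'
  have hs : q * q ≤ D.s := by
    rw [← D.hs, ← sq]
    exact Nat.pow_le_pow_right (by omega) (by omega)
  -- `A`
  obtain ⟨A, hA⟩ : ∃ A, A + 1 = q * q * D.s + q * q + q := ⟨q * q * D.s + q * q + q - 1, by
    have : 1 ≤ q := by omega
    omega⟩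
  -- `e (b - 1) = u A`
  have h1 : D.e * (bO q n - 1) = D.u * A := by
    have h2 : D.e * bO q n = D.u * A + D.e := by
      rw [hb]
      zify at hu hts hx he hA ⊢
      have hxv : (D.x : ℤ) = q * D.t - 1 := by linarith
      have huv : (D.u : ℤ) = D.t - 1 := by linarith
      have hev : (D.e : ℤ) = q * q - 1 := by linarith
      have hAv : (A : ℤ) = q * q * D.s + q * q + q - 1 := by linarith
      rw [hxv, huv, hev, hAv, hts]
      ring
    rw [Nat.mul_sub, mul_one, h2, Nat.add_sub_cancel]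
  have h3 : D.e * (bO q n - 1) ∣ D.e * (q ^ (2 * n - 3) * Lc q n) := Nat.mul_dvd_mul_left _ h
  have h4 : D.e * (q ^ (2 * n - 3) * Lc q n) =
      D.u * (q ^ (2 * n - 3) * (D.x * (D.t + 1) * (D.s + 1))) := by
    calc D.e * (q ^ (2 * n - 3) * Lc q n) = q ^ (2 * n - 3) * (D.e * Lc q n) := by ring
      _ = q ^ (2 * n - 3) * (D.x * (D.t + 1) * D.u * (D.s + 1)) := by rw [hL]
      _ = D.u * (q ^ (2 * n - 3) * (D.x * (D.t + 1) * (D.s + 1))) := by ring
  rw [h1, h4] at h3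
  have hupos : 0 < D.u := by
    have : 2 ≤ D.t := by rw [hts]; nlinarith
    omega
  have h5 : A ∣ q ^ (2 * n - 3) * (D.x * (D.t + 1) * (D.s + 1)) :=
    Nat.dvd_of_mul_dvd_mul_left hupos h3
  exact core q D.s A D.x (D.t + 1) (D.s + 1) D.e D.f (2 * n - 3) hq hs hA
    (by rw [hx, hts]; ring) (by rw [hts]) rfl he D.hf' h5

/-- the statement with everything unfolded (helper27's shape) -/
theorem not_dvd' (q n : ℕ) (hq : 2 ≤ q) (hn : 4 ≤ n) :
    ¬ ((q ^ n - 1) * (q ^ (n - 1) + q) / (q ^ 2 - 1) - 1 ∣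
      q ^ (2 * n - 3) *
        ((q ^ n - 1) * (q ^ (n - 1) + 1) * (q ^ (n - 1) - 1) * (q ^ (n - 2) + 1) / (q ^ 2 - 1))) :=
  not_dvd q n hq hn

/-- consumer form: a divisor `d ≥ b - 1` of `q^(2n-3) |L|` is at least `b` -/
theorem bO_le_of_dvd (q n d : ℕ) (hq : 2 ≤ q) (hn : 4 ≤ n)
    (hd : d ∣ q ^ (2 * n - 3) * Lc q n) (hle : bO q n - 1 ≤ d) : bO q n ≤ d := by
  rcases Nat.lt_or_ge d (bO q n) with h | h
  · exfalso
    have : d = bO q n - 1 := by omega
    rw [this] at hd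
    exact not_dvd q n hq hn hd
  · exact h

end Cfsg.Agent.Lib.Helper13.OPMinArith
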