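/-
helper13 (S2345, leaves AR1-AR4 of helper27's plan `notes/S2345_leaves.lean`, same names and
binders): arithmetic of `bnd`, `R2`, `Lcount`, `tgt`.  Bridge from `Helper13.OPMinArith`.
-/
import Mathlib
import Cfsg.Agent.Lib.Helper27.OPMinDefs
import Cfsg.Agent.Lib.Helper13.OPMinArith

set_option autoImplicit false

namespace Cfsg.Agent.Lib.Helper13.OPMin

open Cfsg.Agent.Lib.Helper27.OPMin Cfsg.Agent.Lib.Helper16.SLMin

theorem bnd_eq (q n : ℕ) : bnd q n = OPMinArith.bO q n := rfl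

theorem R2_eq (q n : ℕ) : R2 q n = OPMinArith.R2 q n := rfl

theorem Lcount_eq (q n : ℕ) : Lcount q n = OPMinArith.Lc q n := rfl

/-- AR1 -/
theorem bnd_le_caseA (q n : ℕ) (hq : 2 ≤ q) (hn : 4 ≤ n) :
    bnd q n ≤ 2 * q ^ (n - 2) * (q ^ (n - 1) - 1) :=
  OPMinArith.bO_le_caseA q n hq hn

/-- AR2 -/
theorem bnd_le_two_R2 (q n : ℕ) (hq : 2 ≤ q) (hn : 4 ≤ n) : bnd q n ≤ 2 * R2 q n :=
  OPMinArith.bO_le_two_R2 q n hq (by omega)

/-- AR3 -/
theorem R2_add_tgt (q n : ℕ) (hq : 2 ≤ q) (hn : 4 ≤ n) : R2 q n + tgt q n + 1 = bnd q n := by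
  have h1 := OPMinArith.R2_add q n hq (by omega)
  have h2 := OPMinArith.bO_eq q n hq (by omega)
  have h3 := OPMinArith.Nn_pos q n hq (by omega)
  rw [bnd_eq, R2_eq]
  unfold tgt
  omega

/-- AR4: `bnd - 1` does not divide `Lcount * q^(2n-3)`. -/
theorem arith_final (q n d c : ℕ) (hq : 2 ≤ q) (hn : 4 ≤ n) (hd : d = c + R2 q n) (hc : tgt q n ≤ c)
    (hdvd : d ∣ Lcount q n * q ^ (2 * n - 3)) : bnd q n ≤ d := by
  have h1 := R2_add_tgt q n hq hn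
  rw [bnd_eq]
  apply OPMinArith.bO_le_of_dvd q n d hq hn
  · rw [mul_comm]
    exact hdvd
  · rw [← bnd_eq]
    omega

end Cfsg.Agent.Lib.Helper13.OPMin
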