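/-
helper13 (S2345, sub-leaf CHS of O6 in helper27's plan): the character sum of an entry over the
rank-2 alternating matrices, `∑_{Y ∈ rk2} ψ (Y i j) = |rk2| - q^(2n-3)` for `i ≠ j`, `ψ ≠ 1`.
On helper10's `OPMinCnt` (`wedge`, `rk2`).
-/
import Mathlib
import Cfsg.Agent.Lib.Helper10.OPMinCnt

set_option autoImplicit false
set_option linter.unusedSectionVars false
set_option linter.unusedVariables false

namespace Cfsg.Agent.Lib.Helper13.OPMinChs

open Matrix Cfsg.Agent.Lib.Helper10.OPMinCnt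

section plucker

variable {F : Type*} [Field F] {ι : Type*}

/-- Plücker: a rank-2 form is determined by two rows. -/
theorem wedge_rows (u v : ι → F) (i j : ι) :
    wedge (wedge u v i) (wedge u v j) = wedge u v i j • wedge u v := by
  ext k l
  simp only [wedge_apply, Matrix.smul_apply, smul_eq_mul]
  ring

theorem eq_smul_wedge_rows {Y : Matrix ι ι F} (hY : Y ∈ rk2 F ι) (i j : ι) :
    wedge (Y i) (Y j) = Y i j • Y := by
  obtain ⟨u, v, _, rfl⟩ := hY
  exact wedge_rows u v i j

theorem rk2_diag {Y : Matrix ι ι F} (hY : Y ∈ rk2 F ι) (i : ι) : Y i i = 0 := by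
  obtain ⟨u, v, _, rfl⟩ := hY
  simp only [wedge_apply]
  ring

theorem rk2_antisymm {Y : Matrix ι ι F} (hY : Y ∈ rk2 F ι) (i j : ι) : Y j i = - Y i j := by
  obtain ⟨u, v, _, rfl⟩ := hY
  simp only [wedge_apply]
  ring

/-- two rows with a non-zero 2 × 2 minor are linearly independent -/
theorem indep_of_minor (r s : ι → F) (i j : ι) (h : r i * s j - s i * r j ≠ 0) :
    LinearIndependent F ![r, s] := by
  rw [LinearIndependent.pair_iff]
  intro x y hxy
  have hi := congrFun hxy i
  have hj := congrFun hxy j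
  simp only [Pi.add_apply, Pi.smul_apply, smul_eq_mul, Pi.zero_apply] at hi hj
  constructor
  · have : x * (r i * s j - s i * r j) = 0 := by linear_combination s j * hi - s i * hj
    rcases mul_eq_zero.mp this with h1 | h1
    · exact h1
    · exact absurd h1 h
  · have : y * (r i * s j - s i * r j) = 0 := by linear_combination r i * hj - r j * hi
    rcases mul_eq_zero.mp this with h1 | h1
    · exact h1
    · exact absurd h1 h

end plucker

section count

variable {F : Type*} [Field F] [Fintype F] [DecidableEq F] {ι : Type*} [Fintype ι] [DecidableEq ι]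

/-- functions with two prescribed values -/
def restrictEquiv (i j : ι) (hij : i ≠ j) (c₁ c₂ : F) :
    {r : ι → F // r i = c₁ ∧ r j = c₂} ≃ ({k : ι // k ≠ i ∧ k ≠ j} → F) where
  toFun r := fun k => r.1 k.1
  invFun g := ⟨fun k => if h : k = i then c₁ else if h' : k = j then c₂ else g ⟨k, h, h'⟩, by
    constructor
    · simp
    · simp [hij.symm]⟩
  left_inv r := by
    apply Subtype.ext
    funext k
    by_cases h : k = i
    · subst h
      simp [r.2.1]
    · by_cases h' : k = j
      · subst h'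
        simp [h, r.2.2]
      · simp [h, h']
  right_inv g := by
    funext k
    simp [k.2.1, k.2.2]

theorem card_compl_pair (i j : ι) (hij : i ≠ j) :
    Fintype.card {k : ι // k ≠ i ∧ k ≠ j} = Fintype.card ι - 2 := by
  rw [Fintype.card_subtype]
  have h : (Finset.univ.filter (fun k : ι => k ≠ i ∧ k ≠ j)) = (Finset.univ.erase i).erase j := by
    ext k
    simp [and_comm]
  rw [h, Finset.card_erase_of_mem, Finset.card_erase_of_mem (Finset.mem_univ _), Finset.card_univ]
  · omega
  · simp [hij.symm]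

theorem card_prescribed (i j : ι) (hij : i ≠ j) (c₁ c₂ : F) :
    Fintype.card {r : ι → F // r i = c₁ ∧ r j = c₂} = Fintype.card F ^ (Fintype.card ι - 2) := by
  rw [Fintype.card_congr (restrictEquiv i j hij c₁ c₂), Fintype.card_fun, card_compl_pair i j hij]

open Classical in
/-- the fibre of `Y ↦ Y i j` over `a ≠ 0` in `rk2` is parametrised by the rows `i`, `j` -/
noncomputable def fiberEquiv (i j : ι) (hij : i ≠ j) (a : F) (ha : a ≠ 0) :
    {Y : Matrix ι ι F // Y ∈ rk2 F ι ∧ Y i j = a} ≃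
      {r : ι → F // r i = 0 ∧ r j = a} × {s : ι → F // s i = -a ∧ s j = 0} where
  toFun Y := (⟨Y.1 i, rk2_diag Y.2.1 i, Y.2.2⟩,
    ⟨Y.1 j, by rw [rk2_antisymm Y.2.1 i j, Y.2.2], rk2_diag Y.2.1 j⟩)
  invFun p := ⟨a⁻¹ • wedge p.1.1 p.2.1, by
    have hmin : p.1.1 i * p.2.1 j - p.2.1 i * p.1.1 j = a * a := by
      rw [p.1.2.1, p.1.2.2, p.2.2.1, p.2.2.2]
      ring
    constructor
    · refine ⟨a⁻¹ • p.1.1, p.2.1, ?_, ?_⟩
      · apply indep_of_minor _ _ i j
        simp only [Pi.smul_apply, smul_eq_mul]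
        have : a⁻¹ * p.1.1 i * p.2.1 j - p.2.1 i * (a⁻¹ * p.1.1 j) =
            a⁻¹ * (p.1.1 i * p.2.1 j - p.2.1 i * p.1.1 j) := by ring
        rw [this, hmin]
        field_simp
        exact ha
      · ext k l
        simp only [Matrix.smul_apply, wedge_apply, Pi.smul_apply, smul_eq_mul]
        ring
    · simp only [Matrix.smul_apply, wedge_apply, smul_eq_mul]
      rw [hmin]
      field_simp⟩
  left_inv Y := by
    apply Subtype.ext
    show a⁻¹ • wedge (Y.1 i) (Y.1 j) = Y.1
    rw [eq_smul_wedge_rows Y.2.1 i j, Y.2.2, smul_smul, inv_mul_cancel₀ ha, one_smul]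
  right_inv p := by
    obtain ⟨⟨r, hr1, hr2⟩, ⟨s, hs1, hs2⟩⟩ := p
    apply Prod.ext
    · apply Subtype.ext
      funext k
      show (a⁻¹ • wedge r s) i k = r k
      simp only [Matrix.smul_apply, wedge_apply, smul_eq_mul]
      rw [hr1, hs1]
      field_simp
      ring
    · apply Subtype.ext
      funext k
      show (a⁻¹ • wedge r s) j k = s k
      simp only [Matrix.smul_apply, wedge_apply, smul_eq_mul]
      rw [hr2, hs2]
      field_simp
      ring

open Classical in
theorem card_fiber (i j : ι) (hij : i ≠ j) (a : F) (ha : a ≠ 0) :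
    Fintype.card {Y : Matrix ι ι F // Y ∈ rk2 F ι ∧ Y i j = a} =
      Fintype.card F ^ (Fintype.card ι - 2) * Fintype.card F ^ (Fintype.card ι - 2) := by
  rw [Fintype.card_congr (fiberEquiv i j hij a ha), Fintype.card_prod, card_prescribed i j hij,
    card_prescribed i j hij]

open Classical in
/-- the rank-2 forms as a finset -/
noncomputable def rk2Finset (F : Type*) [Field F] [Fintype F] (ι : Type*) [Fintype ι]
    [DecidableEq ι] : Finset (Matrix ι ι F) :=
  Finset.univ.filter (fun Y => Y ∈ rk2 F ι)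

theorem mem_rk2Finset (Y : Matrix ι ι F) : Y ∈ rk2Finset F ι ↔ Y ∈ rk2 F ι := by
  classical
  simp [rk2Finset]

theorem card_rk2Finset : (rk2Finset F ι).card = Nat.card ↑(rk2 F ι) := by
  classical
  rw [Nat.card_eq_fintype_card, rk2Finset, ← Fintype.card_subtype]

open Classical in
theorem card_filter_fiber (i j : ι) (hij : i ≠ j) (a : F) (ha : a ≠ 0) :
    ((rk2Finset F ι).filter (fun Y => Y i j = a)).card =
      Fintype.card F ^ (Fintype.card ι - 2) * Fintype.card F ^ (Fintype.card ι - 2) := by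
  rw [← card_fiber i j hij a ha, Fintype.card_subtype]
  congr 1
  ext Y
  simp [rk2Finset]

open Classical in
/-- **CHS**: the character sum of an off-diagonal entry over the rank-2 forms. -/
theorem sum_rk2 (ψ : AddChar F ℂ) (hψ : ψ ≠ 1) (i j : ι) (hij : i ≠ j) :
    ∑ Y ∈ rk2Finset F ι, ψ (Y i j) =
      ((rk2Finset F ι).card : ℂ) -
        (Fintype.card F : ℂ) * ((Fintype.card F : ℂ) ^ (Fintype.card ι - 2) *
          (Fintype.card F : ℂ) ^ (Fintype.card ι - 2)) := by
  obtain ⟨K, hK⟩ : ∃ K : ℕ, K = Fintype.card F ^ (Fintype.card ι - 2) *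
      Fintype.card F ^ (Fintype.card ι - 2) := ⟨_, rfl⟩
  have hKc : ((Fintype.card F : ℂ) ^ (Fintype.card ι - 2) *
      (Fintype.card F : ℂ) ^ (Fintype.card ι - 2)) = (K : ℂ) := by
    rw [hK]
    push_cast
    ring
  rw [hKc]
  -- fibre decomposition
  have h1 : ∑ Y ∈ rk2Finset F ι, ψ (Y i j) =
      ∑ a : F, (((rk2Finset F ι).filter (fun Y => Y i j = a)).card : ℂ) * ψ a := by
    rw [← Finset.sum_fiberwise (rk2Finset F ι) (fun Y => Y i j) (fun Y => ψ (Y i j))]
    apply Finset.sum_congr rfl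
    intro a _
    rw [Finset.sum_congr rfl (fun Y hY => by rw [(Finset.mem_filter.mp hY).2] :
      ∀ Y ∈ (rk2Finset F ι).filter (fun Y => Y i j = a), ψ (Y i j) = ψ a),
      Finset.sum_const, nsmul_eq_mul]
  have h2 : ((rk2Finset F ι).card : ℂ) =
      ∑ a : F, (((rk2Finset F ι).filter (fun Y => Y i j = a)).card : ℂ) := by
    rw [← Nat.cast_sum]
    congr 1
    exact Finset.card_eq_sum_card_fiberwise (f := fun Y : Matrix ι ι F => Y i j)
      (fun _ _ => Finset.mem_univ _)
  have hN : ∀ a : F, a ≠ 0 →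
      (((rk2Finset F ι).filter (fun Y => Y i j = a)).card : ℂ) = (K : ℂ) := by
    intro a ha
    rw [card_filter_fiber i j hij a ha, hK]
  have hsum0 : ∑ a : F, ψ a = 0 := AddChar.sum_eq_zero_of_ne_one hψ
  obtain ⟨N0, hN0⟩ : ∃ N0 : ℂ,
      N0 = (((rk2Finset F ι).filter (fun Y => Y i j = 0)).card : ℂ) := ⟨_, rfl⟩
  -- `∑_a N_a ψ a = N_0 - K`
  have h3 : ∑ a : F, (((rk2Finset F ι).filter (fun Y => Y i j = a)).card : ℂ) * ψ a =
      N0 - K := by
    have : ∑ a : F, (((rk2Finset F ι).filter (fun Y => Y i j = a)).card : ℂ) * ψ a =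
        ∑ a : F, ((((rk2Finset F ι).filter (fun Y => Y i j = a)).card : ℂ) - K) * ψ a +
          (K : ℂ) * ∑ a : F, ψ a := by
      rw [Finset.mul_sum, ← Finset.sum_add_distrib]
      apply Finset.sum_congr rfl
      intro a _
      ring
    rw [this, hsum0, mul_zero, add_zero, Finset.sum_eq_single (0 : F)]
    · rw [AddChar.map_zero_eq_one, mul_one, hN0]
    · intro a _ ha
      rw [hN a ha, sub_self, zero_mul]
    · intro h
      exact absurd (Finset.mem_univ _) h
  -- `|S| = N_0 + (q - 1) K`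
  have h4 : ((rk2Finset F ι).card : ℂ) = N0 + ((Fintype.card F : ℂ) - 1) * K := by
    rw [h2, ← Finset.add_sum_erase Finset.univ _ (Finset.mem_univ (0 : F)), ← hN0]
    congr 1
    rw [Finset.sum_congr rfl (fun a ha => hN a (Finset.ne_of_mem_erase ha)), Finset.sum_const,
      Finset.card_erase_of_mem (Finset.mem_univ _), Finset.card_univ, nsmul_eq_mul,
      Nat.cast_sub Fintype.card_pos, Nat.cast_one]
  rw [h1, h3, h4]
  ring

/-- the same with `q^(2n-3)` -/
theorem sum_rk2' (ψ : AddChar F ℂ) (hψ : ψ ≠ 1) (i j : ι) (hij : i ≠ j)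
    (hn : 2 ≤ Fintype.card ι) :
    ∑ Y ∈ rk2Finset F ι, ψ (Y i j) =
      (Nat.card ↑(rk2 F ι) : ℂ) - (Fintype.card F : ℂ) ^ (2 * Fintype.card ι - 3) := by
  rw [sum_rk2 ψ hψ i j hij, card_rk2Finset, ← pow_add, ← pow_succ']
  congr 2
  omega

end count

end Cfsg.Agent.Lib.Helper13.OPMinChs
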