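/-
helper13 (S2345, leaf I1 of helper27's plan `notes/S2345_leaves.lean`, same name and binders):
the character at a long root element `rad (a bᵀ)` in Case B with `m₂ = 1` is `d - q^(2n-3)`.
W5 + W1 + the character sum over rank-2 forms (`OPMinChs.sum_rk2'`) + `SL_n`-transitivity on
independent pairs (helper1 `exists_sl_std_pair`, helper8 `rk2_conj`).
-/
import Mathlib
import Cfsg.Agent.Lib.Helper27.OPMinDefs
import Cfsg.Agent.Lib.Helper13.SLMinW
import Cfsg.Agent.Lib.Helper13.OPMinChs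
import Cfsg.Agent.Lib.Helper8.OPMinOrb

set_option autoImplicit false
set_option linter.unusedSectionVars false
set_option linter.unusedVariables false

namespace Cfsg.Agent.Lib.Helper13.OPMin

open Matrix Module Cfsg.Agent.Lib.Helper27.OPMin Cfsg.Agent.Lib.Helper16.SLMin
  Cfsg.Agent.Lib.Helper13.SLMin

section bridge

variable {F : Type*} [Field F] {n : ℕ}

/-- helper27's `wedge` is helper10's -/
theorem wedge_eq_cnt (a b : Fin n → F) :
    wedge a b = Cfsg.Agent.Lib.Helper10.OPMinCnt.wedge a b :=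
  (Cfsg.Agent.Lib.Helper10.OPMinCnt.wedge_eq a b).symm

/-- a dependent pair has zero wedge -/
theorem wedge_eq_zero_of_not_indep (a b : Fin n → F) (h : ¬ LinearIndependent F ![a, b]) :
    wedge a b = 0 := by
  rw [LinearIndependent.pair_iff] at h
  push Not at h
  obtain ⟨s, t, hst, hne⟩ := h
  ext i j
  rw [wedge_apply, Matrix.zero_apply]
  have hi := congrFun hst i
  have hj := congrFun hst j
  simp only [Pi.add_apply, Pi.smul_apply, smul_eq_mul, Pi.zero_apply] at hi hj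
  have h1 : s * (a i * b j - b i * a j) = 0 := by linear_combination b j * hi - b i * hj
  have h2 : t * (a i * b j - b i * a j) = 0 := by linear_combination a i * hj - a j * hi
  by_cases hs : s = 0
  · have ht : t ≠ 0 := hne hs
    rcases mul_eq_zero.mp h2 with h3 | h3
    · exact absurd h3 ht
    · exact h3
  · rcases mul_eq_zero.mp h1 with h3 | h3
    · exact absurd h3 hs
    · exact h3

/-- the pairing with a rank-1 matrix -/
theorem dot_ofM_vecMulVec (v : Fin n × Fin n → F) (a b : Fin n → F) :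
    v ⬝ᵥ ofM (vecMulVec a b) = a ⬝ᵥ (toM v *ᵥ b) := by
  simp only [dotProduct, ofM_apply, vecMulVec_apply, Matrix.mulVec, toM_apply]
  rw [Fintype.sum_prod_type]
  apply Finset.sum_congr rfl
  intro i _
  rw [Finset.mul_sum]
  apply Finset.sum_congr rfl
  intro j _
  ring

/-- `(g e₀)ᵀ V (g e₁) = (gᵀ V g)₀₁` -/
theorem dot_mulVec_std {k : ℕ} (g V : Matrix (Fin (k + 3)) (Fin (k + 3)) F) :
    (g *ᵥ Pi.single 0 1) ⬝ᵥ (V *ᵥ (g *ᵥ Pi.single 1 1)) = (gᵀ * V * g) 0 1 := by
  have h1 : (g *ᵥ Pi.single 0 1) ⬝ᵥ (V *ᵥ (g *ᵥ Pi.single 1 1)) =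
      Pi.single 0 1 ⬝ᵥ (gᵀ *ᵥ (V *ᵥ (g *ᵥ Pi.single 1 1))) := by
    rw [Matrix.dotProduct_mulVec (Pi.single 0 1) gᵀ, Matrix.vecMul_transpose]
  rw [h1, Matrix.mulVec_mulVec, Matrix.mulVec_mulVec, single_dotProduct, one_mul,
    Matrix.mulVec_single_one]
  rfl

end bridge

section REP

variable {F : Type*} [Field F] [Fintype F] [DecidableEq F] {n : ℕ} {H : Type*} [Group H]
  {M : Type*} [AddCommGroup M] [Module ℂ M] [FiniteDimensional ℂ M]
  (D : Siegel F n H) (ρ : Representation ℂ H M)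

theorem eps_ne_one : eps F ≠ 1 := by
  have h1 := eps_prim F (one_ne_zero : (1 : F) ≠ 0)
  intro h2
  apply h1
  ext x
  rw [AddChar.mulShift_apply, one_mul, h2]

/-- the transformed character sum: a general long root element -/
theorem sum_rk2_pair {k : ℕ} (a b : Fin (k + 3) → F) (h : LinearIndependent F ![a, b]) :
    ∑ V ∈ OPMinChs.rk2Finset F (Fin (k + 3)), eps F (a ⬝ᵥ (V *ᵥ b)) =
      ((OPMinChs.rk2Finset F (Fin (k + 3))).card : ℂ) -
        (Fintype.card F : ℂ) ^ (2 * (k + 3) - 3) := by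
  obtain ⟨g, hg0, hg1⟩ := Cfsg.Agent.Lib.Helper1.SLMLeaf.exists_sl_std_pair h
  have hmain := OPMinChs.sum_rk2' (F := F) (ι := Fin (k + 3)) (eps F) eps_ne_one 0 1
    Fin.zero_ne_one (by simp)
  simp only [Fintype.card_fin] at hmain
  rw [OPMinChs.card_rk2Finset, ← hmain]
  -- reindex by `V ↦ gᵀ V g`
  have hgg : g.1 * (g⁻¹).1 = 1 := congrArg Subtype.val (mul_inv_cancel g)
  have hgg' : (g⁻¹).1 * g.1 = 1 := congrArg Subtype.val (inv_mul_cancel g)
  have hggT : (g⁻¹).1ᵀ * g.1ᵀ = 1 := by rw [← Matrix.transpose_mul, hgg, Matrix.transpose_one]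
  have hggT' : g.1ᵀ * (g⁻¹).1ᵀ = 1 := by rw [← Matrix.transpose_mul, hgg', Matrix.transpose_one]
  apply Finset.sum_bij (fun V _ => g.1ᵀ * V * g.1)
  · intro V hV
    rw [OPMinChs.mem_rk2Finset] at hV ⊢
    have := Cfsg.Agent.Lib.Helper8.OPMinOrb.rk2_conj (SpecialLinearGroup.transpose g) hV
    simpa [SpecialLinearGroup.coe_transpose] using this
  · intro V _ V' _ hVV
    have h1 : (g⁻¹).1ᵀ * (g.1ᵀ * V * g.1) * (g⁻¹).1 = (g⁻¹).1ᵀ * (g.1ᵀ * V' * g.1) * (g⁻¹).1 := by
      rw [hVV]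
    have h2 : ∀ W : Matrix (Fin (k + 3)) (Fin (k + 3)) F,
        (g⁻¹).1ᵀ * (g.1ᵀ * W * g.1) * (g⁻¹).1 = W := by
      intro W
      calc (g⁻¹).1ᵀ * (g.1ᵀ * W * g.1) * (g⁻¹).1
          = ((g⁻¹).1ᵀ * g.1ᵀ) * W * (g.1 * (g⁻¹).1) := by simp only [Matrix.mul_assoc]
        _ = W := by rw [hggT, hgg, Matrix.one_mul, Matrix.mul_one]
    rwa [h2, h2] at h1
  · intro W hW
    refine ⟨(g⁻¹).1ᵀ * W * (g⁻¹).1, ?_, ?_⟩
    · rw [OPMinChs.mem_rk2Finset] at hW ⊢
      have := Cfsg.Agent.Lib.Helper8.OPMinOrb.rk2_conj (SpecialLinearGroup.transpose g⁻¹) hW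
      simpa [SpecialLinearGroup.coe_transpose] using this
    · calc g.1ᵀ * ((g⁻¹).1ᵀ * W * (g⁻¹).1) * g.1
          = (g.1ᵀ * (g⁻¹).1ᵀ) * W * ((g⁻¹).1 * g.1) := by simp only [Matrix.mul_assoc]
        _ = W := by rw [hggT', hgg', Matrix.one_mul, Matrix.mul_one]
  · intro V _
    rw [← hg0, ← hg1, dot_mulVec_std]

/-- I1: the character at a long root element. -/
theorem trace_rad_wedge (hn : 3 ≤ n)
    (hB : ∀ v : Fin n × Fin n → F, v ≠ 0 → wt ρ D.radv v ≠ ⊥ → ∃ a b : Fin n → F, toM v = wedge a b)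
    (hm2 : ∀ a b : Fin n → F, LinearIndependent F ![a, b] →
      finrank ℂ ↥(wt ρ D.radv (ofM (wedge a b))) = 1)
    (a b : Fin n → F) (h : LinearIndependent F ![a, b]) :
    LinearMap.trace ℂ M (ρ (D.rad (vecMulVec a b))) =
      (finrank ℂ M : ℂ) - ((Fintype.card F ^ (2 * n - 3) : ℕ) : ℂ) := by
  classical
  obtain ⟨k, rfl⟩ : ∃ k, n = k + 3 := ⟨n - 3, by omega⟩
  have h0 : toM (0 : Fin (k + 3) × Fin (k + 3) → F) ∉ OPMinChs.rk2Finset F (Fin (k + 3)) := by
    rw [OPMinChs.mem_rk2Finset]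
    rintro ⟨u, w, huw, he⟩
    exact Cfsg.Agent.Lib.Helper10.OPMinCnt.wedge_ne_zero u w huw he.symm
  -- multiplicities
  have hmult : ∀ v : Fin (k + 3) × Fin (k + 3) → F,
      finrank ℂ ↥(wt ρ D.radv v) = (if v = 0 then finrank ℂ ↥(wt ρ D.radv 0) else 0) +
        (if toM v ∈ OPMinChs.rk2Finset F (Fin (k + 3)) then 1 else 0) := by
    intro v
    by_cases hv : v = 0
    · subst hv
      rw [if_pos rfl, if_neg h0, add_zero]
    · rw [if_neg hv, zero_add]
      by_cases hr : toM v ∈ OPMinChs.rk2Finset F (Fin (k + 3))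
      · rw [if_pos hr]
        rw [OPMinChs.mem_rk2Finset] at hr
        obtain ⟨u, w, huw, he⟩ := hr
        have hv' : v = ofM (wedge u w) := by
          rw [wedge_eq_cnt, ← he]
          rfl
        rw [hv']
        exact hm2 u w huw
      · rw [if_neg hr]
        by_contra hne
        have hbot : wt ρ D.radv v ≠ ⊥ := by
          intro hb
          apply hne
          rw [hb, finrank_bot]
        obtain ⟨a', b', he⟩ := hB v hv hbot
        apply hr
        rw [OPMinChs.mem_rk2Finset]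
        refine ⟨a', b', ?_, by rw [he, wedge_eq_cnt]⟩
        by_contra hdep
        have h0 := wedge_eq_zero_of_not_indep a' b' hdep
        rw [h0] at he
        apply hv
        have : ofM (toM v) = ofM (0 : Matrix (Fin (k + 3)) (Fin (k + 3)) F) := by rw [he]
        rw [ofM_toM, ofM_zero] at this
        exact this
  -- reindexing `v ↔ toM v`
  let e : (Fin (k + 3) × Fin (k + 3) → F) ≃ Matrix (Fin (k + 3)) (Fin (k + 3)) F :=
    ⟨toM, ofM, fun _ => rfl, fun _ => rfl⟩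
  -- W1
  have hd : (finrank ℂ M : ℂ) = (finrank ℂ ↥(wt ρ D.radv 0) : ℂ) +
      ((OPMinChs.rk2Finset F (Fin (k + 3))).card : ℂ) := by
    have h1 := finrank_eq_sum_inf_wt ρ D.radv D.radv_add ⊤ (fun _ _ _ => Submodule.mem_top)
    rw [finrank_top] at h1
    have h1' : finrank ℂ M = ∑ v : Fin (k + 3) × Fin (k + 3) → F, finrank ℂ ↥(wt ρ D.radv v) := by
      rw [h1]
      apply Finset.sum_congr rfl
      intro v _
      rw [top_inf_eq]
    rw [h1']
    rw [Finset.sum_congr rfl (fun v _ => hmult v), Finset.sum_add_distrib, Finset.sum_ite_eq'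
      Finset.univ (0 : Fin (k + 3) × Fin (k + 3) → F), if_pos (Finset.mem_univ _)]
    push_cast
    congr 1
    rw [Finset.sum_boole]
    congr 1
    rw [← Finset.card_map e.toEmbedding]
    congr 1
    ext V
    simp only [Finset.mem_map, Finset.mem_filter, Finset.mem_univ, true_and,
      Equiv.coe_toEmbedding]
    constructor
    · rintro ⟨v, hv, rfl⟩
      exact hv
    · intro hV
      exact ⟨ofM V, hV, rfl⟩
  -- W5
  have h5 := trace_eq_sum_wt ρ D.radv D.radv_add (ofM (vecMulVec a b))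
  have hx : D.rad (vecMulVec a b) = D.radv (ofM (vecMulVec a b)) := rfl
  rw [hx, h5, hd]
  have hterm : ∀ v : Fin (k + 3) × Fin (k + 3) → F,
      (eps F (v ⬝ᵥ ofM (vecMulVec a b)) : ℂ) * (finrank ℂ ↥(wt ρ D.radv v) : ℂ) =
      (if v = 0 then (finrank ℂ ↥(wt ρ D.radv 0) : ℂ) else 0) +
        (if toM v ∈ OPMinChs.rk2Finset F (Fin (k + 3)) then
          (eps F (a ⬝ᵥ (toM v *ᵥ b)) : ℂ) else 0) := by
    intro v
    rw [hmult v, dot_ofM_vecMulVec]
    by_cases hv : v = 0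
    · subst hv
      rw [if_pos rfl, if_neg h0, if_pos rfl, if_neg h0, toM_zero, Matrix.zero_mulVec,
        dotProduct_zero, AddChar.map_zero_eq_one]
      push_cast
      ring
    · by_cases hr : toM v ∈ OPMinChs.rk2Finset F (Fin (k + 3))
      · rw [if_neg hv, if_pos hr, if_neg hv, if_pos hr]
        push_cast
        ring
      · rw [if_neg hv, if_neg hr, if_neg hv, if_neg hr]
        push_cast
        ring
  rw [Finset.sum_congr rfl (fun v _ => hterm v), Finset.sum_add_distrib, Finset.sum_ite_eq'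
    Finset.univ (0 : Fin (k + 3) × Fin (k + 3) → F), if_pos (Finset.mem_univ _)]
  have hsum : ∑ v : Fin (k + 3) × Fin (k + 3) → F,
      (if toM v ∈ OPMinChs.rk2Finset F (Fin (k + 3)) then
        (eps F (a ⬝ᵥ (toM v *ᵥ b)) : ℂ) else 0) =
      ∑ V ∈ OPMinChs.rk2Finset F (Fin (k + 3)), (eps F (a ⬝ᵥ (V *ᵥ b)) : ℂ) := by
    rw [← Finset.sum_filter]
    apply Finset.sum_bij (fun v _ => toM v)
    · intro v hv
      exact (Finset.mem_filter.mp hv).2
    · intro v _ v' _ hvv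
      have : ofM (toM v) = ofM (toM v') := by rw [hvv]
      simpa using this
    · intro V hV
      exact ⟨ofM V, Finset.mem_filter.mpr ⟨Finset.mem_univ _, hV⟩, rfl⟩
    · intro v _
      rfl
  rw [hsum, sum_rk2_pair a b h]
  push_cast
  ring

end REP

end Cfsg.Agent.Lib.Helper13.OPMin
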