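/-
helper13 (S2345, Defs-free sub-leaf of O6): integrality of the central character on a NORMAL SUBSET
`L` (a union of classes on which the character is constant): if `χ = k ∈ ℤ` on `L` then
`χ(1) ∣ |L| · k`; consumer form: `χ = χ(1) - N` on `L` gives `χ(1) ∣ |L| · N`.
On helper24's `CentralChar.isIntegral_omega`.
-/
import Mathlib
import Cfsg.Agent.Lib.Helper24.CentralChar

set_option autoImplicit false

namespace Cfsg.Agent.Lib.Helper13.OPMinInt

open Representation Module

universe u v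

variable {G : Type u} [Group G] {V : Type v} [AddCommGroup V] [Module ℂ V]

/-- If `χ = m ∈ ℤ` on a conjugation-invariant finite set `L`, then `d ∣ |L| * m` (in `ℤ`). -/
theorem finrank_dvd_card_mul_of_char_eq_int [Finite G] [FiniteDimensional ℂ V]
    (ρ : Representation ℂ G V) [ρ.IsIrreducible] (L : Set G)
    (hL : ∀ g x : G, x ∈ L → g * x * g⁻¹ ∈ L) (m : ℤ)
    (hm : ∀ x ∈ L, ρ.character x = (m : ℂ)) :
    (finrank ℂ V : ℤ) ∣ (Nat.card L : ℤ) * m := by
  classical
  have : Fintype G := Fintype.ofFinite G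
  obtain ⟨a, ha⟩ : ∃ a : G → ℂ, a = fun g => if g ∈ L then 1 else 0 := ⟨_, rfl⟩
  have hconj : ∀ g h : G, a (h * g * h⁻¹) = a g := by
    intro g h
    rw [ha]
    by_cases hg : g ∈ L
    · simp only [hg, hL h g hg, if_true]
    · have : h * g * h⁻¹ ∉ L := by
        intro hc
        apply hg
        have := hL h⁻¹ _ hc
        simpa [mul_assoc] using this
      simp only [hg, this, if_false]
  have hint : ∀ g, IsIntegral ℤ (a g) := by
    intro g
    rw [ha]
    by_cases hg : g ∈ L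
    · simp only [hg, if_true]
      exact isIntegral_one
    · simp only [hg, if_false]
      exact isIntegral_zero
  have h := Cfsg.Agent.Lib.Helper24.isIntegral_omega ρ a hconj hint
  have hpos := Cfsg.Agent.Lib.Helper24.finrank_pos_of_isIrreducible ρ
  have hsum : ∑ g : G, a g * ρ.character g = (Nat.card L : ℂ) * (m : ℂ) := by
    rw [ha]
    have h1 : ∀ g ∈ (Finset.univ : Finset G),
        (if g ∈ L then (1 : ℂ) else 0) * ρ.character g = if g ∈ L then (m : ℂ) else 0 := by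
      intro g _
      by_cases hg : g ∈ L
      · simp only [hg, if_true, one_mul]
        exact hm g hg
      · simp only [hg, if_false, zero_mul]
    rw [Finset.sum_congr rfl h1, ← Finset.sum_filter, Finset.sum_const, nsmul_eq_mul]
    congr 2
    rw [Nat.card_eq_fintype_card, Fintype.card_subtype]
  unfold Cfsg.Agent.Lib.Helper24.omega at h
  rw [hsum] at h
  obtain ⟨k, hk⟩ : ∃ k : ℕ, k = Nat.card L := ⟨_, rfl⟩
  obtain ⟨d, hd⟩ : ∃ d : ℕ, d = finrank ℂ V := ⟨_, rfl⟩
  rw [← hk, ← hd] at h ⊢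
  rw [← hd] at hpos
  have hq : ((k : ℂ) * (m : ℂ) / (d : ℂ)) = ((((k : ℚ) * (m : ℚ) / (d : ℚ)) : ℚ) : ℂ) := by
    push_cast; rfl
  rw [hq] at h
  have h2 : IsIntegral ℤ ((k : ℚ) * (m : ℚ) / (d : ℚ)) :=
    (isIntegral_algebraMap_iff (algebraMap ℚ ℂ).injective (R := ℤ)
      (x := ((k : ℚ) * (m : ℚ) / (d : ℚ)))).mp h
  obtain ⟨c, hc⟩ := IsIntegrallyClosed.isIntegral_iff.mp h2
  have h3 : (k : ℚ) * (m : ℚ) = (c : ℚ) * (d : ℚ) := by
    have hne : (d : ℚ) ≠ 0 := by exact_mod_cast hpos.ne'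
    rw [eq_div_iff hne] at hc
    simpa using hc.symm
  have h4 : (k : ℤ) * m = c * (d : ℤ) := by exact_mod_cast h3
  exact ⟨c, by rw [h4]; ring⟩

/-- Consumer form: if `χ = d - N` on the normal subset `L`, then `d ∣ |L| * N`. -/
theorem finrank_dvd_card_mul_of_char_eq_sub [Finite G] [FiniteDimensional ℂ V]
    (ρ : Representation ℂ G V) [ρ.IsIrreducible] (L : Set G)
    (hL : ∀ g x : G, x ∈ L → g * x * g⁻¹ ∈ L) (N : ℕ)
    (hm : ∀ x ∈ L, ρ.character x = (finrank ℂ V : ℂ) - (N : ℂ)) :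
    finrank ℂ V ∣ Nat.card L * N := by
  have h := finrank_dvd_card_mul_of_char_eq_int ρ L hL ((finrank ℂ V : ℤ) - (N : ℤ))
    (by intro x hx; rw [hm x hx]; push_cast; ring)
  have h2 : (finrank ℂ V : ℤ) ∣ (Nat.card L : ℤ) * (N : ℤ) := by
    have h3 : (Nat.card L : ℤ) * (N : ℤ)
        = (Nat.card L : ℤ) * (finrank ℂ V : ℤ)
          - (Nat.card L : ℤ) * ((finrank ℂ V : ℤ) - (N : ℤ)) := by ring
    rw [h3]
    exact dvd_sub (Dvd.intro_left _ rfl) h
  exact_mod_cast h2

end Cfsg.Agent.Lib.Helper13.OPMinInt
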