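/-
helper13 (S2345, leaf I2 of helper27's plan `notes/S2345_leaves.lean`, same name and binders):
integrality of the central character on a conjugation-stable finite set.
Bridge from `Helper13.OPMinInt`.
-/
import Mathlib
import Cfsg.Agent.Lib.Helper13.OPMinInt

set_option autoImplicit false

namespace Cfsg.Agent.Lib.Helper13.OPMin

open Module

/-- I2: integrality for a normal subset on which the character is `χ(1) - N`. -/
theorem finrank_dvd_card_mul {G : Type*} [Group G] [Finite G] {V : Type*} [AddCommGroup V] [Module ℂ V]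
    [FiniteDimensional ℂ V] (ρ : Representation ℂ G V) (hρ : ρ.IsIrreducible) (L : Finset G)
    (hL : ∀ g y, y ∈ L → g * y * g⁻¹ ∈ L) (N : ℕ)
    (hN : ∀ y ∈ L, LinearMap.trace ℂ V (ρ y) = (finrank ℂ V : ℂ) - (N : ℂ)) :
    finrank ℂ V ∣ L.card * N := by
  have hρ' := hρ
  have h := OPMinInt.finrank_dvd_card_mul_of_char_eq_sub ρ (↑L : Set G)
    (fun g x hx => by
      have := hL g x (Finset.mem_coe.mp hx)
      exact Finset.mem_coe.mpr this) N
    (fun x hx => hN x (Finset.mem_coe.mp hx))
  have hc : Nat.card (↑L : Set G) = L.card := by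
    simp
  rw [hc] at h
  exact h

end Cfsg.Agent.Lib.Helper13.OPMin
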