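/-
helper13 (S2345, leaves W7, W8 of helper27's plan `notes/S2345_leaves.lean`, same names and
binders): an invariant subspace is the SUM of its weight parts; the weight spaces are independent.
-/
import Mathlib
import Cfsg.Agent.Lib.Helper16.SLMinDefs
import Cfsg.Agent.Lib.Helper13.SLMinW

set_option autoImplicit false
set_option linter.unusedSectionVars false
set_option linter.unusedVariables false

namespace Cfsg.Agent.Lib.Helper13.OPMin

open Matrix Module Cfsg.Agent.Lib.Helper16.SLMin Cfsg.Agent.Lib.Helper15.OrbitBound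
  Cfsg.Agent.Lib.Helper13.SLMinWt Cfsg.Agent.Lib.Helper13.SLMin

section W

variable {F : Type*} [Field F] [Fintype F] {H : Type*} [Group H] {M : Type*} [AddCommGroup M]
  [Module ℂ M] [FiniteDimensional ℂ M] (ρ : Representation ℂ H M)

/-- the isotypic projection preserves invariant subspaces -/
theorem Pr_mem {I : Type*} [Fintype I] [DecidableEq I]
    (ι : (I → F) → H) (N : Submodule ℂ M)
    (hN : ∀ r, ∀ m ∈ N, ρ (ι r) m ∈ N) (u : I → F) (m : M) (hm : m ∈ N) :
    Pr (eps F) (fun r => ρ (ι r)) u m ∈ N := by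
  show (((Fintype.card (I → F) : ℂ)⁻¹) • ∑ w : I → F, (eps F) (-(u ⬝ᵥ w)) • ρ (ι w)) m ∈ N
  rw [LinearMap.smul_apply, LinearMap.sum_apply]
  apply Submodule.smul_mem
  apply Submodule.sum_mem
  intro w _
  rw [LinearMap.smul_apply]
  exact Submodule.smul_mem _ _ (hN w m hm)

/-- W7: an invariant subspace is the SUM of its weight parts. -/
theorem eq_iSup_inf_wt {I : Type*} [Fintype I] [DecidableEq I] [DecidableEq F]
    (ι : (I → F) → H) (hι : ∀ r s, ι (r + s) = ι r * ι s) (N : Submodule ℂ M)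
    (hN : ∀ r, ∀ m ∈ N, ρ (ι r) m ∈ N) :
    N = ⨆ v : I → F, N ⊓ wt ρ ι v := by
  apply le_antisymm
  · intro m hm
    have hxa : ∀ a b : I → F, (fun r => ρ (ι r)) (a + b) =
        (fun r => ρ (ι r)) a * (fun r => ρ (ι r)) b := by
      intro a b
      show ρ (ι (a + b)) = ρ (ι a) * ρ (ι b)
      rw [hι, map_mul]
    have hx0 : (fun r => ρ (ι r)) (0 : I → F) = 1 := by
      show ρ (ι 0) = 1
      rw [root_zero ι hι, map_one]
    have hsum := sum_Pr (eps F) (fun r => ρ (ι r)) (eps_prim F) hx0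
    have hm' : m = ∑ u : I → F, Pr (eps F) (fun r => ρ (ι r)) u m := by
      conv_lhs => rw [show m = (1 : Module.End ℂ M) m from rfl, ← hsum]
      rw [LinearMap.sum_apply]
    rw [hm']
    apply Submodule.sum_mem
    intro u _
    apply Submodule.mem_iSup_of_mem u
    refine ⟨Pr_mem ρ ι N hN u m hm, ?_⟩
    rw [wt_eq_range ρ ι hι u]
    exact ⟨m, rfl⟩
  · exact iSup_le fun v => inf_le_left

/-- W8: the weight spaces are independent. -/
theorem iSupIndep_wt {I : Type*} [Fintype I] [DecidableEq I] [DecidableEq F]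
    (ι : (I → F) → H) (hι : ∀ r s, ι (r + s) = ι r * ι s) :
    iSupIndep fun v : I → F => wt ρ ι v := by
  have hxa : ∀ a b : I → F, (fun r => ρ (ι r)) (a + b) =
      (fun r => ρ (ι r)) a * (fun r => ρ (ι r)) b := by
    intro a b
    show ρ (ι (a + b)) = ρ (ι a) * ρ (ι b)
    rw [hι, map_mul]
  intro v
  rw [Submodule.disjoint_def]
  intro m hm1 hm2
  -- `Pr v` kills the other weight spaces
  have hker : (⨆ (v' : I → F) (_ : v' ≠ v), wt ρ ι v') ≤
      LinearMap.ker (Pr (eps F) (fun r => ρ (ι r)) v) := by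
    apply iSup_le
    intro v'
    apply iSup_le
    intro hv'
    intro m' hm'
    rw [wt_eq_range ρ ι hι v'] at hm'
    rw [LinearMap.mem_ker]
    have h1 := (mem_range_idem (Pr_idem (eps F) (fun r => ρ (ι r)) (eps_prim F) hxa v')).mp hm'
    rw [← h1]
    show (Pr (eps F) (fun r => ρ (ι r)) v * Pr (eps F) (fun r => ρ (ι r)) v') m' = 0
    rw [Pr_orth (eps F) (fun r => ρ (ι r)) (eps_prim F) hxa (Ne.symm hv')]
    rfl
  have h0 : Pr (eps F) (fun r => ρ (ι r)) v m = 0 := LinearMap.mem_ker.mp (hker hm2)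
  have hm1' : m ∈ wt ρ ι v := hm1
  rw [wt_eq_range ρ ι hι v] at hm1'
  have h1 := (mem_range_idem (Pr_idem (eps F) (fun r => ρ (ι r)) (eps_prim F) hxa v)).mp hm1'
  rw [← h1, h0]

end W

end Cfsg.Agent.Lib.Helper13.OPMin
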