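import Mathlib
import Cfsg.Prelude.Def_ClassicalGeometry
import Cfsg.Prelude.Def_GeometricClasses
import Cfsg.Agent.Lib.Helper5.LSubC
import Cfsg.Agent.Lib.Helper19.OSubDefs
import Cfsg.Agent.Lib.Helper19.OSubBasic

/-!
helper13: S5683 / S5702 leaf market (helper19): CORE forms of the leaves D (`round`) and EG (`endgame`):
the leaves they use (X4, X6, S, RA, G1, G2, P1, EM1, EM2) are taken as hypotheses, stated exactly as in
`notes/S5683_leaves.lean`, so that the exact-signature versions are one-liners once those leaves are landed.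
-/

set_option autoImplicit false
set_option linter.unusedSectionVars false
set_option linter.unusedVariables false

namespace Cfsg.Agent.Lib.Helper13.OSubLeaf
open Cfsg Matrix QuadraticMap Module Cfsg.Agent.Lib.Helper25.Siegel Cfsg.Agent.Lib.Helper19.OSub
open scoped commutatorElement

variable {ι : Type} [Fintype ι] [DecidableEq ι] {F : Type*} [Field F] [Fintype F]
  {F₀ : Subfield F} {Q : QuadraticForm F (ι → F)} {M : Subgroup (GL ι F)}

/-- core of D: all needed leaves as hypotheses -/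
theorem round_core
    (X4 : ∀ {y : GL ι F}, RatInv F₀ Q y → finrank F (Eig y (-1)) ≤ 2 →
      ∃ t, GInv F₀ Q t ∧ t * y = y * t ∧ (∀ v, mv y v = -v → mv t v = v) ∧
        finrank F (Eig t (-1)) = 4)
    (X6 : ∀ {y : GL ι F}, RatInv F₀ Q y → finrank F (Eig y (-1)) ≤ 2 →
      ∃ t, GInv F₀ Q t ∧ t * y = y * t ∧ (∀ v, mv y v = -v → mv t v = v) ∧
        finrank F (Eig t (-1)) = 6)
    (S : ∀ {t : GL ι F}, GInv F₀ Q t → ∀ {z : GL ι F}, z ∈ M → z * t = t * z →
      z ∈ Cfsg.Geo.subfieldSubgroup F₀ (1 : GL ι F))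
    (RA : ∀ {z : GL ι F}, z ∈ Cfsg.Geo.subfieldSubgroup F₀ (1 : GL ι F) → z * z = 1 →
      ∀ x, RatV F₀ x → RatV F₀ (mv z x))
    (EM1 : ∀ {z : GL ι F}, z * z = 1 →
      finrank F (Eig z 1) + finrank F (Eig z (-1)) = Fintype.card ι)
    (EM2 : ∀ (g z : GL ι F) (ε : F), finrank F (Eig (g * z * g⁻¹) ε) = finrank F (Eig z ε))
    (h : Ctx F₀ Q M) {g : GL ι F}
    (hg : g ∈ M) {y : GL ι F} (hy : RatInv F₀ Q y) (hy' : RatInv F₀ Q (g⁻¹ * y * g))
    (hk : finrank F (Eig y (-1)) ≤ 2) :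
    ∃ z, z ∈ M ∧ RatInv F₀ Q z ∧ RatInv F₀ Q (g⁻¹ * z * g) ∧ z ≠ 1 ∧ z * y = y * z ∧
      (∀ v, mv y v = -v → mv z v = v) ∧ Fintype.card ι ≤ finrank F (Eig z 1) + 10 := by
  classical
  have mem_Eig : ∀ (z : GL ι F) (ε : F) (x : ι → F), x ∈ Eig z ε ↔ mv z x = ε • x := by
    intro z ε x
    unfold Eig
    rw [Module.End.mem_eigenspace_iff, Matrix.toLin'_apply]
  -- the involution t
  obtain ⟨t, htG, hty, htfix, ht4⟩ := X4 hy hk
  -- the involution t' for y'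
  have hk' : finrank F (Eig (g⁻¹ * y * g) (-1)) ≤ 2 := by
    have e := EM2 g⁻¹ y (-1)
    rw [inv_inv] at e
    rw [e]; exact hk
  obtain ⟨t', ht'G, ht'y, ht'fix, ht'6⟩ := X6 hy' hk'
  have htM : t ∈ M := h.le htG.mem
  have ht'M : t' ∈ M := h.le ht'G.mem
  obtain ⟨j, hj⟩ : ∃ j : GL ι F, j = g * t' * g⁻¹ := ⟨_, rfl⟩
  have hjM : j ∈ M := by
    rw [hj]; exact M.mul_mem (M.mul_mem hg ht'M) (M.inv_mem hg)
  have htt : t * t = 1 := htG.sq
  have hjj : j * j = 1 := by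
    rw [hj]
    calc g * t' * g⁻¹ * (g * t' * g⁻¹) = g * (t' * t') * g⁻¹ := by group
      _ = 1 := by rw [ht'G.sq, mul_one, mul_inv_cancel]
  have hj6 : finrank F (Eig j (-1)) = 6 := by
    rw [hj, EM2]; exact ht'6
  -- j commutes with y
  have hjy : j * y = y * j := by
    rw [hj]
    calc g * t' * g⁻¹ * y = g * (t' * (g⁻¹ * y * g)) * g⁻¹ := by group
      _ = g * ((g⁻¹ * y * g) * t') * g⁻¹ := by rw [ht'y]
      _ = y * (g * t' * g⁻¹) := by group
  -- j is trivial on Eig y (-1)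
  have hjfix : ∀ v, mv y v = -v → mv j v = v := by
    intro v hv
    have h1 : mv (g⁻¹ * y * g) (mv g⁻¹ v) = -(mv g⁻¹ v) := by
      rw [mv_mul, mv_mul, mv_mv_inv, hv, mv_neg]
    have h2 := ht'fix _ h1
    rw [hj, mv_mul, mv_mul, h2, mv_mv_inv]
  rcases Cfsg.Agent.Lib.Helper5.LSub.dihedral t j htt hjj with ⟨w, hw⟩ | ⟨m, hz1, hzz, hzt, hzj⟩
  · exfalso
    have e := EM2 w t (-1)
    rw [hw, hj6, ht4] at e
    omega
  · obtain ⟨z, hz⟩ : ∃ z : GL ι F, z = (t * j) ^ m := ⟨_, rfl⟩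
    rw [← hz] at hz1 hzz hzt hzj
    have hzM : z ∈ M := by
      rw [hz]; exact M.pow_mem (M.mul_mem htM hjM) m
    -- z commutes with y
    have htjy : Commute (t * j) y := by
      have c1 : Commute t y := hty
      have c2 : Commute j y := hjy
      exact c1.mul_left c2
    have hzy : z * y = y * z := by
      rw [hz]; exact (htjy.pow_left m)
    -- z trivial on Eig y (-1)
    have hpowfix : ∀ (k : ℕ) v, mv y v = -v → mv ((t * j) ^ k) v = v := by
      intro k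
      induction k with
      | zero => intro v _; rw [pow_zero, mv_one]
      | succ k ih =>
        intro v hv
        rw [pow_succ, mv_mul, mv_mul, hjfix v hv, htfix v hv, ih v hv]
    have hzfix : ∀ v, mv y v = -v → mv z v = v := by
      intro v hv; rw [hz]; exact hpowfix m v hv
    -- z is in the subfield group and acts rationally
    have hzS : z ∈ Cfsg.Geo.subfieldSubgroup F₀ (1 : GL ι F) := S htG hzM hzt
    have hziso : z ∈ Cfsg.isometryGroup F ⇑Q := omegaGL_le_iso (h.le_om hzM)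
    have hzR : RatInv F₀ Q z := ⟨hzz, hziso, RA hzS hzz⟩
    -- the conjugate
    obtain ⟨z', hz'⟩ : ∃ z' : GL ι F, z' = g⁻¹ * z * g := ⟨_, rfl⟩
    have hz'M : z' ∈ M := by
      rw [hz']; exact M.mul_mem (M.mul_mem (M.inv_mem hg) hzM) hg
    have hz'z' : z' * z' = 1 := by
      rw [hz']
      calc g⁻¹ * z * g * (g⁻¹ * z * g) = g⁻¹ * (z * z) * g := by group
        _ = 1 := by rw [hzz, mul_one, inv_mul_cancel]
    have hz't' : z' * t' = t' * z' := by
      rw [hz']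
      have e1 : z * (g * t' * g⁻¹) = (g * t' * g⁻¹) * z := by rw [← hj]; exact hzj
      calc g⁻¹ * z * g * t' = g⁻¹ * (z * (g * t' * g⁻¹)) * g := by group
        _ = g⁻¹ * ((g * t' * g⁻¹) * z) * g := by rw [e1]
        _ = t' * (g⁻¹ * z * g) := by group
    have hz'S : z' ∈ Cfsg.Geo.subfieldSubgroup F₀ (1 : GL ι F) := S ht'G hz'M hz't'
    have hz'iso : z' ∈ Cfsg.isometryGroup F ⇑Q := omegaGL_le_iso (h.le_om hz'M)
    have hz'R : RatInv F₀ Q z' := ⟨hz'z', hz'iso, RA hz'S hz'z'⟩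
    -- dimension count
    have hdim : Fintype.card ι ≤ finrank F (Eig z 1) + 10 := by
      have hle : Eig t 1 ⊓ Eig j 1 ≤ Eig z 1 := by
        intro v hv
        rw [Submodule.mem_inf, mem_Eig, mem_Eig, one_smul] at hv
        rw [mem_Eig, one_smul]
        have hp : ∀ k : ℕ, mv ((t * j) ^ k) v = v := by
          intro k
          induction k with
          | zero => rw [pow_zero, mv_one]
          | succ k ih => rw [pow_succ, mv_mul, mv_mul, hv.2, hv.1, ih]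
        rw [hz]; exact hp m
      have h1 := EM1 htt
      have h2 := EM1 hjj
      have h3 := Submodule.finrank_sup_add_finrank_inf_eq (Eig t 1) (Eig j 1)
      have h4 : finrank F ↥(Eig t 1 ⊔ Eig j 1) ≤ Fintype.card ι := by
        have := Submodule.finrank_le (Eig t 1 ⊔ Eig j 1)
        rwa [Module.finrank_fintype_fun_eq_card] at this
      have h5 := Submodule.finrank_mono hle
      omega
    refine ⟨z, hzM, hzR, ?_, hz1, hzy, hzfix, hdim⟩
    rw [← hz']; exact hz'R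

/-- core of EG: all needed leaves as hypotheses -/
theorem endgame_core
    (G1 : ∀ {z : GL ι F}, RatInv F₀ Q z → ∀ {ε : F}, (ε = 1 ∨ ε = -1) →
      3 ≤ finrank F (Eig z ε) → ∃ a, RatV F₀ a ∧ a ≠ 0 ∧ Q a = 0 ∧ mv z a = ε • a)
    (G2 : ∀ {z : GL ι F}, RatInv F₀ Q z → ∀ {ε : F}, (ε = 1 ∨ ε = -1) →
      5 ≤ finrank F (Eig z ε) →
      ∃ d₁ d₁' d₂ d₂' : ι → F, HypPair F₀ Q d₁ d₁' ∧ HypPair F₀ Q d₂ d₂' ∧
        polar Q d₁ d₂ = 0 ∧ polar Q d₁ d₂' = 0 ∧ polar Q d₁' d₂ = 0 ∧ polar Q d₁' d₂' = 0 ∧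
        mv z d₁ = ε • d₁ ∧ mv z d₁' = ε • d₁' ∧ mv z d₂ = ε • d₂ ∧ mv z d₂' = ε • d₂')
    (P1 : ∀ {g : GL ι F}, g ∈ M → ∀ {a : ι → F}, RatV F₀ a → a ≠ 0 → Q a = 0 →
      ∀ {d₁ d₁' d₂ d₂' : ι → F}, HypPair F₀ Q d₁ d₁' → HypPair F₀ Q d₂ d₂' →
      polar Q d₁ d₂ = 0 → polar Q d₁ d₂' = 0 → polar Q d₁' d₂ = 0 → polar Q d₁' d₂' = 0 →
      polar Q (mv g a) d₁ = 0 → polar Q (mv g a) d₁' = 0 →
      polar Q (mv g a) d₂ = 0 → polar Q (mv g a) d₂' = 0 →
      g ∈ Cfsg.Geo.subfieldSubgroup F₀ (1 : GL ι F))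
    (EM1 : ∀ {z : GL ι F}, z * z = 1 →
      finrank F (Eig z 1) + finrank F (Eig z (-1)) = Fintype.card ι)
    (EM2 : ∀ (g z : GL ι F) (ε : F), finrank F (Eig (g * z * g⁻¹) ε) = finrank F (Eig z ε))
    (h : Ctx F₀ Q M) (h2 : (2 : F) ≠ 0) {g : GL ι F} (hg : g ∈ M) {z : GL ι F}
    (hz : RatInv F₀ Q z) (hz' : RatInv F₀ Q (g⁻¹ * z * g)) (h3 : 3 ≤ finrank F (Eig z (-1)))
    (h3' : finrank F (Eig z (-1)) + 3 ≤ Fintype.card ι) :
    g ∈ Cfsg.Geo.subfieldSubgroup F₀ (1 : GL ι F) := by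
  classical
  have hn := h.card
  have hadd := EM1 hz.sq
  have hconj : ∀ ε : F, finrank F (Eig (g⁻¹ * z * g) ε) = finrank F (Eig z ε) := by
    intro ε
    have e := EM2 g⁻¹ z ε
    rwa [inv_inv] at e
  -- orthogonality of eigenvectors for opposite eigenvalues
  have horth : ∀ (ε : F) (x d : ι → F), (ε = 1 ∨ ε = -1) → mv z x = (-ε) • x → mv z d = ε • d →
      polar Q x d = 0 := by
    intro ε x d hε hx hd
    have e := iso_polar hz.iso x d
    rw [hx, hd, polar_smul_left, polar_smul_right, smul_eq_mul, smul_eq_mul] at e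
    have hεε : -ε * (ε * polar Q x d) = -(polar Q x d) := by
      rcases hε with rfl | rfl <;> ring
    rw [hεε] at e
    have h2p : (2 : F) * polar Q x d = 0 := by linear_combination -e
    rcases mul_eq_zero.mp h2p with h0 | h0
    · exact absurd h0 h2
    · exact h0
  -- the general step
  have key : ∀ ε : F, (ε = 1 ∨ ε = -1) → 3 ≤ finrank F (Eig z (-ε)) → 5 ≤ finrank F (Eig z ε) →
      g ∈ Cfsg.Geo.subfieldSubgroup F₀ (1 : GL ι F) := by
    intro ε hε h3e h5e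
    have hε' : (-ε = 1 ∨ -ε = -1) := by
      rcases hε with rfl | rfl
      · right; rfl
      · left; ring
    obtain ⟨a', ha'r, ha'0, hQa', hza'⟩ := G1 hz' hε' (by rw [hconj]; exact h3e)
    obtain ⟨d₁, d₁', d₂, d₂', hp₁, hp₂, h12, h12', h1'2, h1'2', hd₁, hd₁', hd₂, hd₂'⟩ :=
      G2 hz hε h5e
    have hx : mv z (mv g a') = (-ε) • mv g a' := by
      have e1 : mv g (mv (g⁻¹ * z * g) a') = mv z (mv g a') := by
        rw [mv_mul, mv_mul, mv_mv_inv]
      rw [← e1, hza', mv_smul]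
    exact P1 hg ha'r ha'0 hQa' hp₁ hp₂ h12 h12' h1'2 h1'2'
      (horth ε _ _ hε hx hd₁) (horth ε _ _ hε hx hd₁') (horth ε _ _ hε hx hd₂)
      (horth ε _ _ hε hx hd₂')
  by_cases hc : finrank F (Eig z (-1)) + 5 ≤ Fintype.card ι
  · exact key 1 (Or.inl rfl) h3 (by omega)
  · refine key (-1) (Or.inr rfl) ?_ (by omega)
    rw [neg_neg]; omega

end Cfsg.Agent.Lib.Helper13.OSubLeaf
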