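import Mathlib
import Cfsg.Prelude.Def_ClassicalGeometry
import Cfsg.Prelude.Def_GeometricClasses
import Cfsg.Agent.Lib.Helper19.OSubDefs
import Cfsg.Agent.Lib.Helper19.OSubBasic
import Cfsg.Agent.Lib.Helper19.OSubDescent
import Cfsg.Agent.Lib.Helper15.QuadClass
import Cfsg.Agent.Lib.Helper18.OSubGF

/-!
helper13: S5683 / S5702 leaf market (helper19): leaves G1, G2, G3 in CORE form (the leaf G0 `exists_nd_eig`
is a hypothesis stated verbatim as in `notes/S5683_leaves.lean`), on helper18's real GF `exists_frame_in`.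
-/

set_option autoImplicit false
set_option linter.unusedSectionVars false
set_option linter.unusedVariables false

namespace Cfsg.Agent.Lib.Helper13.OSubLeaf
open Cfsg Matrix QuadraticMap Module Cfsg.Agent.Lib.Helper25.Siegel Cfsg.Agent.Lib.Helper19.OSub

variable {ι : Type} [Fintype ι] [DecidableEq ι] {F : Type*} [Field F] [Fintype F]
  {F₀ : Subfield F} {Q : QuadraticForm F (ι → F)} {M : Subgroup (GL ι F)}

/-- common part: a rational frame of `k` hyperbolic pairs of `ε`-eigenvectors -/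
theorem exists_frame_eig_core (h : QCtx F₀ Q) {z : GL ι F} {ε : F}
    (G0 : ∃ W : Submodule F₀ (ι → F₀), Cfsg.Agent.Lib.Helper15.NdOn (Q0 h) W ∧
      (∀ u ∈ W, mv z (up F₀ u) = ε • up F₀ u) ∧ finrank F (Eig z ε) ≤ finrank F₀ W)
    (k : ℕ) (hk : 2 * k + 1 ≤ finrank F (Eig z ε)) :
    ∃ fr : Frame F₀ Q k, ∀ i, mv z (fr.e i) = ε • fr.e i ∧ mv z (fr.f i) = ε • fr.f i := by
  classical
  obtain ⟨W, hW, hWz, hfr⟩ := G0
  obtain ⟨e, f, heW, hfW, he, hf, hee, hff, hef⟩ :=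
    Cfsg.Agent.Lib.Helper18.OSubLeaf.exists_frame_in (Q0 h) k W hW (by omega)
  refine ⟨{ e := fun i => up F₀ (e i), f := fun i => up F₀ (f i),
            rat_e := fun i => ratV_up _, rat_f := fun i => ratV_up _,
            Qe := fun i => (Q0_eq_zero h _).mp (he i),
            Qf := fun i => (Q0_eq_zero h _).mp (hf i),
            ee := fun i j => (polar_Q0_eq_zero h _ _).mp (hee i j),
            ff := fun i j => (polar_Q0_eq_zero h _ _).mp (hff i j),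
            ef := ?_ }, fun i => ⟨hWz _ (heW i), hWz _ (hfW i)⟩⟩
  intro i j
  by_cases hij : i = j
  · rw [if_pos hij]
    apply (polar_Q0_eq_one h _ _).mp
    rw [hef i j, if_pos hij]
  · rw [if_neg hij]
    apply (polar_Q0_eq_zero h _ _).mp
    rw [hef i j, if_neg hij]

/-- G1 core -/
theorem exists_sing_eig_core (h : QCtx F₀ Q) {z : GL ι F} {ε : F}
    (G0 : ∃ W : Submodule F₀ (ι → F₀), Cfsg.Agent.Lib.Helper15.NdOn (Q0 h) W ∧
      (∀ u ∈ W, mv z (up F₀ u) = ε • up F₀ u) ∧ finrank F (Eig z ε) ≤ finrank F₀ W)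
    (h3 : 3 ≤ finrank F (Eig z ε)) :
    ∃ a, RatV F₀ a ∧ a ≠ 0 ∧ Q a = 0 ∧ mv z a = ε • a := by
  obtain ⟨fr, hfr⟩ := exists_frame_eig_core h G0 1 (by omega)
  refine ⟨fr.e 0, fr.rat_e 0, ?_, fr.Qe 0, (hfr 0).1⟩
  intro h0
  have := fr.ef 0 0
  rw [h0, if_pos rfl, polar_zero_left] at this
  exact zero_ne_one this

/-- G2 core -/
theorem exists_pairs_eig_core (h : QCtx F₀ Q) {z : GL ι F} {ε : F}
    (G0 : ∃ W : Submodule F₀ (ι → F₀), Cfsg.Agent.Lib.Helper15.NdOn (Q0 h) W ∧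
      (∀ u ∈ W, mv z (up F₀ u) = ε • up F₀ u) ∧ finrank F (Eig z ε) ≤ finrank F₀ W)
    (h5 : 5 ≤ finrank F (Eig z ε)) :
    ∃ d₁ d₁' d₂ d₂' : ι → F, HypPair F₀ Q d₁ d₁' ∧ HypPair F₀ Q d₂ d₂' ∧
      polar Q d₁ d₂ = 0 ∧ polar Q d₁ d₂' = 0 ∧ polar Q d₁' d₂ = 0 ∧ polar Q d₁' d₂' = 0 ∧
      mv z d₁ = ε • d₁ ∧ mv z d₁' = ε • d₁' ∧ mv z d₂ = ε • d₂ ∧ mv z d₂' = ε • d₂' := by
  obtain ⟨fr, hfr⟩ := exists_frame_eig_core h G0 2 (by omega)
  have h01 : (0 : Fin 2) ≠ 1 := by decide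
  have h10 : (1 : Fin 2) ≠ 0 := by decide
  refine ⟨fr.e 0, fr.f 0, fr.e 1, fr.f 1,
    ⟨fr.rat_e 0, fr.rat_f 0, fr.Qe 0, fr.Qf 0, by rw [fr.ef 0 0, if_pos rfl]⟩,
    ⟨fr.rat_e 1, fr.rat_f 1, fr.Qe 1, fr.Qf 1, by rw [fr.ef 1 1, if_pos rfl]⟩,
    fr.ee 0 1, by rw [fr.ef 0 1, if_neg h01], ?_, fr.ff 0 1,
    (hfr 0).1, (hfr 0).2, (hfr 1).1, (hfr 1).2⟩
  rw [polar_comm, fr.ef 1 0, if_neg h10]

/-- G3 core -/
theorem exists_frame_eig_one_core (h : QCtx F₀ Q) {y : GL ι F}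
    (G0 : ∃ W : Submodule F₀ (ι → F₀), Cfsg.Agent.Lib.Helper15.NdOn (Q0 h) W ∧
      (∀ u ∈ W, mv y (up F₀ u) = (1 : F) • up F₀ u) ∧ finrank F (Eig y 1) ≤ finrank F₀ W)
    (h9 : 9 ≤ finrank F (Eig y 1)) :
    ∃ fr : Frame F₀ Q 4, ∀ i, mv y (fr.e i) = fr.e i ∧ mv y (fr.f i) = fr.f i := by
  obtain ⟨fr, hfr⟩ := exists_frame_eig_core h G0 4 (by omega)
  refine ⟨fr, fun i => ?_⟩
  have := hfr i
  rw [one_smul, one_smul] at this
  exact this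

end Cfsg.Agent.Lib.Helper13.OSubLeaf
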