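import Mathlib
import Cfsg.Prelude.Def_ClassicalGeometry
import Cfsg.Prelude.Def_GeometricClasses
import Cfsg.Agent.Lib.Helper19.OSubDefs
import Cfsg.Agent.Lib.Helper19.OSubBasic
import Cfsg.Agent.Lib.Helper19.OSubDescent
import Cfsg.Agent.Lib.Helper19.OSubEM
import Cfsg.Agent.Lib.Helper24.OSubG0
import Cfsg.Agent.Lib.Helper13.OSubG123core

/-!
helper13: S5683 / S5702 leaf market (helper19): leaves G1, G2, G3 with the EXACT signatures of
`notes/S5683_leaves.lean` (on helper24's G0 `exists_nd_eig` and helper18's GF `exists_frame_in`).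
-/

set_option autoImplicit false
set_option linter.unusedSectionVars false
set_option linter.unusedVariables false

namespace Cfsg.Agent.Lib.Helper13.OSubLeaf
open Cfsg Matrix QuadraticMap Module Cfsg.Agent.Lib.Helper25.Siegel Cfsg.Agent.Lib.Helper19.OSub
open scoped commutatorElement

variable {ι : Type} [Fintype ι] [DecidableEq ι] {F : Type*} [Field F] [Fintype F]
  {F₀ : Subfield F} {Q : QuadraticForm F (ι → F)} {M : Subgroup (GL ι F)}

/-- G1: a rational singular eigenvector -/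
theorem exists_sing_eig (h : QCtx F₀ Q) (h2 : (2 : F) ≠ 0) {z : GL ι F} (hz : RatInv F₀ Q z) {ε : F}
    (hε : ε = 1 ∨ ε = -1) (h3 : 3 ≤ finrank F (Eig z ε)) :
    ∃ a, RatV F₀ a ∧ a ≠ 0 ∧ Q a = 0 ∧ mv z a = ε • a :=
  exists_sing_eig_core h (Cfsg.Agent.Lib.Helper24.OSubLeaf19.exists_nd_eig h h2 hz hε) h3

/-- G2: two orthogonal rational hyperbolic pairs of eigenvectors -/
theorem exists_pairs_eig (h : QCtx F₀ Q) (h2 : (2 : F) ≠ 0) {z : GL ι F} (hz : RatInv F₀ Q z) {ε : F}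
    (hε : ε = 1 ∨ ε = -1) (h5 : 5 ≤ finrank F (Eig z ε)) :
    ∃ d₁ d₁' d₂ d₂' : ι → F, HypPair F₀ Q d₁ d₁' ∧ HypPair F₀ Q d₂ d₂' ∧
      polar Q d₁ d₂ = 0 ∧ polar Q d₁ d₂' = 0 ∧ polar Q d₁' d₂ = 0 ∧ polar Q d₁' d₂' = 0 ∧
      mv z d₁ = ε • d₁ ∧ mv z d₁' = ε • d₁' ∧ mv z d₂ = ε • d₂ ∧ mv z d₂' = ε • d₂' :=
  exists_pairs_eig_core h (Cfsg.Agent.Lib.Helper24.OSubLeaf19.exists_nd_eig h h2 hz hε) h5

/-- G3: a rational frame of four hyperbolic pairs fixed by `y` -/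
theorem exists_frame_eig (h : QCtx F₀ Q) (h2 : (2 : F) ≠ 0) {y : GL ι F} (hy : RatInv F₀ Q y)
    (h9 : 9 ≤ finrank F (Eig y 1)) :
    ∃ fr : Frame F₀ Q 4, ∀ i, mv y (fr.e i) = fr.e i ∧ mv y (fr.f i) = fr.f i :=
  exists_frame_eig_one_core h
    (Cfsg.Agent.Lib.Helper24.OSubLeaf19.exists_nd_eig h h2 hy (Or.inl rfl)) h9

end Cfsg.Agent.Lib.Helper13.OSubLeaf
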