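import Mathlib
import Cfsg.Prelude.Def_ClassicalGeometry
import Cfsg.Prelude.Def_GeometricClasses
import Cfsg.Agent.Lib.Helper19.OSubDefs
import Cfsg.Agent.Lib.Helper19.OSubBasic
import Cfsg.Agent.Lib.Helper19.OSubEM
import Cfsg.Agent.Lib.Helper27.OSubP1
import Cfsg.Agent.Lib.Helper13.OSubG123
import Cfsg.Agent.Lib.Helper13.OSubDEGcore

/-!
helper13: S5683 leaf EG (`endgame`) with the EXACT signature of `notes/S5683_leaves.lean`
(on the real leaves G1, G2 (helper13), P1 (helper27), EM1, EM2 (helper19)).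
-/

set_option autoImplicit false
set_option linter.unusedSectionVars false
set_option linter.unusedVariables false

namespace Cfsg.Agent.Lib.Helper13.OSubLeaf
open Cfsg Matrix QuadraticMap Module Cfsg.Agent.Lib.Helper25.Siegel Cfsg.Agent.Lib.Helper19.OSub
open scoped commutatorElement

variable {ι : Type} [Fintype ι] [DecidableEq ι] {F : Type*} [Field F] [Fintype F]
  {F₀ : Subfield F} {Q : QuadraticForm F (ι → F)} {M : Subgroup (GL ι F)}

/-- E: the end game -/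
theorem endgame (h : Ctx F₀ Q M) (h2 : (2 : F) ≠ 0) {g : GL ι F} (hg : g ∈ M) {z : GL ι F}
    (hz : RatInv F₀ Q z) (hz' : RatInv F₀ Q (g⁻¹ * z * g)) (h3 : 3 ≤ finrank F (Eig z (-1)))
    (h3' : finrank F (Eig z (-1)) + 3 ≤ Fintype.card ι) :
    g ∈ Cfsg.Geo.subfieldSubgroup F₀ (1 : GL ι F) :=
  endgame_core
    (fun hz => @fun ε hε h3 => exists_sing_eig h.toQCtx h2 hz hε h3)
    (fun hz => @fun ε hε h5 => exists_pairs_eig h.toQCtx h2 hz hε h5)
    (fun hg => @fun a ha ha0 hQa => @fun d₁ d₁' d₂ d₂' h₁ h₂ h12 h12' h1'2 h1'2' hx₁ hx₁' hx₂ hx₂' =>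
      Cfsg.Agent.Lib.Helper27.OSubLeaf.mem_of_perp_pairs h hg ha ha0 hQa h₁ h₂ h12 h12' h1'2 h1'2'
        hx₁ hx₁' hx₂ hx₂')
    (fun hz => finrank_eig_add h2 hz)
    (fun g z ε => finrank_eig_conj g z ε)
    h h2 hg hz hz' h3 h3'

end Cfsg.Agent.Lib.Helper13.OSubLeaf
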