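import Mathlib
import Cfsg.Prelude.Def_ClassicalGeometry
import Cfsg.Prelude.Def_GeometricClasses
import Cfsg.Agent.Lib.Helper5.LSubC
import Cfsg.Agent.Lib.Helper19.OSubDefs
import Cfsg.Agent.Lib.Helper19.OSubBasic
import Cfsg.Agent.Lib.Helper19.OSubEM

/-!
helper13: S5702 round 2 leaf market (helper19): CORE forms of the leaves K2 (`round2`) and K3c (`endgame2`):
the leaves they use (K1, S, RA, K3a, K3b, P1) are hypotheses stated as in `notes/S5702_leaves.lean`.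
-/

set_option autoImplicit false
set_option linter.unusedSectionVars false
set_option linter.unusedVariables false

namespace Cfsg.Agent.Lib.Helper13.OSubLeaf
open Cfsg Matrix QuadraticMap Module Cfsg.Agent.Lib.Helper25.Siegel Cfsg.Agent.Lib.Helper19.OSub

variable {ι : Type} [Fintype ι] [DecidableEq ι] {F : Type*} [Field F] [Fintype F]
  {F₀ : Subfield F} {Q : QuadraticForm F (ι → F)} {M : Subgroup (GL ι F)}

/-- core of K2 -/
theorem round2_core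
    (K1 : ∃ t t' : GL ι F, GInv F₀ Q t ∧ GInv F₀ Q t' ∧ (∀ v, Q (mv t v - v) = 0) ∧
      (∃ v, Q (mv t' v - v) ≠ 0) ∧ Fintype.card ι ≤ finrank F (Eig t 1) + 2 ∧
      Fintype.card ι ≤ finrank F (Eig t' 1) + 2)
    (S : ∀ {t : GL ι F}, GInv F₀ Q t → ∀ {z : GL ι F}, z ∈ M → z * t = t * z →
      z ∈ Cfsg.Geo.subfieldSubgroup F₀ (1 : GL ι F))
    (RA : ∀ {z : GL ι F}, z ∈ Cfsg.Geo.subfieldSubgroup F₀ (1 : GL ι F) → z * z = 1 →
      ∀ x, RatV F₀ x → RatV F₀ (mv z x))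
    (h : Ctx F₀ Q M) {g : GL ι F} (hg : g ∈ M) :
    ∃ z, z ∈ M ∧ RatInv F₀ Q z ∧ RatInv F₀ Q (g⁻¹ * z * g) ∧ z ≠ 1 ∧
      Fintype.card ι ≤ finrank F (Eig z 1) + 4 := by
  classical
  obtain ⟨t, t', htG, ht'G, htQ, ⟨v₀, hv₀⟩, htfix, ht'fix⟩ := K1
  have hMiso : ∀ {x : GL ι F}, x ∈ M → x ∈ Cfsg.isometryGroup F ⇑Q :=
    fun hx => omegaGL_le_iso (h.le_om hx)
  have htM : t ∈ M := h.le htG.mem
  have ht'M : t' ∈ M := h.le ht'G.mem
  obtain ⟨j, hj⟩ : ∃ j : GL ι F, j = g * t' * g⁻¹ := ⟨_, rfl⟩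
  have hjM : j ∈ M := by
    rw [hj]; exact M.mul_mem (M.mul_mem hg ht'M) (M.inv_mem hg)
  have htt : t * t = 1 := htG.sq
  have hjj : j * j = 1 := by
    rw [hj]
    calc g * t' * g⁻¹ * (g * t' * g⁻¹) = g * (t' * t') * g⁻¹ := by group
      _ = 1 := by rw [ht'G.sq, mul_one, mul_inv_cancel]
  have hjfix : Fintype.card ι ≤ finrank F (Eig j 1) + 2 := by
    rw [hj, finrank_eig_conj]; exact ht'fix
  -- dihedral trick inside the finite group M
  have hi2 : (⟨t, htM⟩ : ↥M) * ⟨t, htM⟩ = 1 := Subtype.ext htt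
  have hj2 : (⟨j, hjM⟩ : ↥M) * ⟨j, hjM⟩ = 1 := Subtype.ext hjj
  rcases Cfsg.Agent.Lib.Helper5.LSub.dihedral (⟨t, htM⟩ : ↥M) ⟨j, hjM⟩ hi2 hj2 with
    ⟨w, hw⟩ | ⟨m, hz1, hzz, hzt, hzj⟩
  · exfalso
    -- j = w t w⁻¹ with w an isometry: Q (j x - x) = 0 for all x
    have hw' : (w : GL ι F) * t * (w : GL ι F)⁻¹ = j := by
      have := congrArg (Subtype.val) hw
      simpa using this
    have hwiso : (w : GL ι F) ∈ Cfsg.isometryGroup F ⇑Q := hMiso w.2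
    have hgiso : g ∈ Cfsg.isometryGroup F ⇑Q := hMiso hg
    have h0 : Q (mv j (mv g v₀) - mv g v₀) = 0 := by
      rw [← hw', mv_mul, mv_mul]
      have e : mv (w : GL ι F) (mv t (mv (w : GL ι F)⁻¹ (mv g v₀))) - mv g v₀ =
          mv (w : GL ι F) (mv t (mv (w : GL ι F)⁻¹ (mv g v₀)) - mv (w : GL ι F)⁻¹ (mv g v₀)) := by
        rw [mv_sub, mv_mv_inv]
      rw [e, iso_Q hwiso]
      exact htQ _
    have h1 : mv j (mv g v₀) - mv g v₀ = mv g (mv t' v₀ - v₀) := by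
      rw [hj, mv_mul, mv_mul, mv_inv_mv, mv_sub]
    rw [h1, iso_Q hgiso] at h0
    exact hv₀ h0
  · obtain ⟨z, hz⟩ : ∃ z : GL ι F, z = (t * j) ^ m := ⟨_, rfl⟩
    have hcoe : (((⟨t, htM⟩ : ↥M) * ⟨j, hjM⟩) ^ m : ↥M).1 = z := by
      rw [hz]; simp
    have hzM : z ∈ M := by
      rw [hz]; exact M.pow_mem (M.mul_mem htM hjM) m
    have hz1' : z ≠ 1 := by
      intro e
      apply hz1
      apply Subtype.ext
      rw [hcoe, e]; rfl
    have hzz' : z * z = 1 := by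
      have := congrArg Subtype.val hzz
      rw [Subgroup.coe_mul, hcoe] at this
      exact this
    have hzt' : z * t = t * z := by
      have := congrArg Subtype.val hzt
      rw [Subgroup.coe_mul, Subgroup.coe_mul, hcoe] at this
      exact this
    have hzj' : z * j = j * z := by
      have := congrArg Subtype.val hzj
      rw [Subgroup.coe_mul, Subgroup.coe_mul, hcoe] at this
      exact this
    have hzS : z ∈ Cfsg.Geo.subfieldSubgroup F₀ (1 : GL ι F) := S htG hzM hzt'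
    have hzR : RatInv F₀ Q z := ⟨hzz', hMiso hzM, RA hzS hzz'⟩
    obtain ⟨z', hz'⟩ : ∃ z' : GL ι F, z' = g⁻¹ * z * g := ⟨_, rfl⟩
    have hz'M : z' ∈ M := by
      rw [hz']; exact M.mul_mem (M.mul_mem (M.inv_mem hg) hzM) hg
    have hz'z' : z' * z' = 1 := by
      rw [hz']
      calc g⁻¹ * z * g * (g⁻¹ * z * g) = g⁻¹ * (z * z) * g := by group
        _ = 1 := by rw [hzz', mul_one, inv_mul_cancel]
    have hz't' : z' * t' = t' * z' := by
      rw [hz']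
      have e1 : z * (g * t' * g⁻¹) = (g * t' * g⁻¹) * z := by rw [← hj]; exact hzj'
      calc g⁻¹ * z * g * t' = g⁻¹ * (z * (g * t' * g⁻¹)) * g := by group
        _ = g⁻¹ * ((g * t' * g⁻¹) * z) * g := by rw [e1]
        _ = t' * (g⁻¹ * z * g) := by group
    have hz'S : z' ∈ Cfsg.Geo.subfieldSubgroup F₀ (1 : GL ι F) := S ht'G hz'M hz't'
    have hz'R : RatInv F₀ Q z' := ⟨hz'z', hMiso hz'M, RA hz'S hz'z'⟩
    have hdim : Fintype.card ι ≤ finrank F (Eig z 1) + 4 := by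
      have hle : Eig t 1 ⊓ Eig j 1 ≤ Eig z 1 := by
        intro v hv
        rw [Submodule.mem_inf, mem_Eig, mem_Eig, one_smul] at hv
        rw [mem_Eig, one_smul]
        have hp : ∀ k : ℕ, mv ((t * j) ^ k) v = v := by
          intro k
          induction k with
          | zero => rw [pow_zero, mv_one]
          | succ k ih => rw [pow_succ, mv_mul, mv_mul, hv.2, hv.1, ih]
        rw [hz]; exact hp m
      have h3 := Submodule.finrank_sup_add_finrank_inf_eq (Eig t 1) (Eig j 1)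
      have h4 : finrank F ↥(Eig t 1 ⊔ Eig j 1) ≤ Fintype.card ι := by
        have := Submodule.finrank_le (Eig t 1 ⊔ Eig j 1)
        rwa [Module.finrank_fintype_fun_eq_card] at this
      have h5 := Submodule.finrank_mono hle
      omega
    refine ⟨z, hzM, hzR, ?_, hz1', hdim⟩
    rw [← hz']; exact hz'R

/-- core of K3c -/
theorem endgame2_core
    (K3a : ∀ {z : GL ι F}, RatInv F₀ Q z → z ≠ 1 → z ∈ Cfsg.Geo.omegaGL ⇑Q →
      ∃ a c : ι → F, RatV F₀ a ∧ a ≠ 0 ∧ Q a = 0 ∧ mv z c - c = a)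
    (K3b : ∀ {z : GL ι F}, RatInv F₀ Q z → Fintype.card ι ≤ finrank F (Eig z 1) + 4 →
      ∃ d₁ d₁' d₂ d₂' : ι → F, HypPair F₀ Q d₁ d₁' ∧ HypPair F₀ Q d₂ d₂' ∧
        polar Q d₁ d₂ = 0 ∧ polar Q d₁ d₂' = 0 ∧ polar Q d₁' d₂ = 0 ∧ polar Q d₁' d₂' = 0 ∧
        mv z d₁ = d₁ ∧ mv z d₁' = d₁' ∧ mv z d₂ = d₂ ∧ mv z d₂' = d₂')
    (P1 : ∀ {g : GL ι F}, g ∈ M → ∀ {a : ι → F}, RatV F₀ a → a ≠ 0 → Q a = 0 →
      ∀ {d₁ d₁' d₂ d₂' : ι → F}, HypPair F₀ Q d₁ d₁' → HypPair F₀ Q d₂ d₂' →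
      polar Q d₁ d₂ = 0 → polar Q d₁ d₂' = 0 → polar Q d₁' d₂ = 0 → polar Q d₁' d₂' = 0 →
      polar Q (mv g a) d₁ = 0 → polar Q (mv g a) d₁' = 0 →
      polar Q (mv g a) d₂ = 0 → polar Q (mv g a) d₂' = 0 →
      g ∈ Cfsg.Geo.subfieldSubgroup F₀ (1 : GL ι F))
    (h : Ctx F₀ Q M) {g : GL ι F} (hg : g ∈ M) {z : GL ι F}
    (hzM : z ∈ M) (hz : RatInv F₀ Q z) (hz' : RatInv F₀ Q (g⁻¹ * z * g)) (hz1 : z ≠ 1)
    (hfix : Fintype.card ι ≤ finrank F (Eig z 1) + 4) :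
    g ∈ Cfsg.Geo.subfieldSubgroup F₀ (1 : GL ι F) := by
  classical
  have hz'M : g⁻¹ * z * g ∈ M := M.mul_mem (M.mul_mem (M.inv_mem hg) hzM) hg
  have hz'1 : g⁻¹ * z * g ≠ 1 := by
    intro e
    apply hz1
    calc z = g * (g⁻¹ * z * g) * g⁻¹ := by group
      _ = 1 := by rw [e, mul_one, mul_inv_cancel]
  obtain ⟨a', c, ha'r, ha'0, hQa', hca'⟩ := K3a hz' hz'1 (h.le_om hz'M)
  obtain ⟨d₁, d₁', d₂, d₂', hp₁, hp₂, h12, h12', h1'2, h1'2', hd₁, hd₁', hd₂, hd₂'⟩ := K3b hz hfix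
  have hx : mv g a' = mv z (mv g c) - mv g c := by
    rw [← hca', mv_sub, mv_mul, mv_mul, mv_mv_inv]
  have horth : ∀ d : ι → F, mv z d = d → polar Q (mv g a') d = 0 := by
    intro d hd
    rw [hx, polar_sub_left]
    have e := iso_polar hz.iso (mv g c) d
    rw [hd] at e
    rw [e, sub_self]
  exact P1 hg ha'r ha'0 hQa' hp₁ hp₂ h12 h12' h1'2 h1'2'
    (horth _ hd₁) (horth _ hd₁') (horth _ hd₂) (horth _ hd₂')

end Cfsg.Agent.Lib.Helper13.OSubLeaf
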