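import Mathlib
import Cfsg.Prelude.Def_ClassicalGeometry
import Cfsg.Prelude.Def_GeometricClasses
import Cfsg.Agent.Lib.Helper19.OSubDefs
import Cfsg.Agent.Lib.Helper19.OSubBasic
import Cfsg.Agent.Lib.Helper19.OSubEM
import Cfsg.Agent.Lib.Helper27.OSubP1
import Cfsg.Agent.Lib.Helper12.OSubK3a
import Cfsg.Agent.Lib.Helper8.OSubK3bX
import Cfsg.Agent.Lib.Helper13.OSubK2K3ccore

/-!
helper13: S5702 round-2 leaf K3c (`endgame2`) with the EXACT signature of `notes/S5702_leaves.lean`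
(on the real leaves K3a (helper12), K3b (helper8), P1 (helper27)).
-/

set_option autoImplicit false
set_option linter.unusedSectionVars false
set_option linter.unusedVariables false

namespace Cfsg.Agent.Lib.Helper13.OSubLeaf
open Cfsg Matrix QuadraticMap Module Cfsg.Agent.Lib.Helper25.Siegel Cfsg.Agent.Lib.Helper19.OSub
open scoped commutatorElement

variable {ι : Type} [Fintype ι] [DecidableEq ι] {F : Type*} [Field F] [Fintype F]
  {F₀ : Subfield F} {Q : QuadraticForm F (ι → F)} {M : Subgroup (GL ι F)}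

/-- K3c: the end game -/
theorem endgame2 (h : Ctx F₀ Q M) (hc2 : (2 : F) = 0) {g : GL ι F} (hg : g ∈ M) {z : GL ι F}
    (hzM : z ∈ M) (hz : RatInv F₀ Q z) (hz' : RatInv F₀ Q (g⁻¹ * z * g)) (hz1 : z ≠ 1)
    (hfix : Fintype.card ι ≤ finrank F (Eig z 1) + 4) :
    g ∈ Cfsg.Geo.subfieldSubgroup F₀ (1 : GL ι F) :=
  endgame2_core
    (fun hz hz1 hom => Cfsg.Agent.Lib.Helper12.OSubLeaf.exists_sing_im h.toQCtx hc2 hz hz1 hom)
    (fun hz hfix => Cfsg.Agent.Lib.Helper8.OSubLeaf19.exists_pairs_fix h.toQCtx hz hfix)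
    (fun hg => @fun a ha ha0 hQa => @fun d₁ d₁' d₂ d₂' h₁ h₂ h12 h12' h1'2 h1'2' hx₁ hx₁' hx₂ hx₂' =>
      Cfsg.Agent.Lib.Helper27.OSubLeaf.mem_of_perp_pairs h hg ha ha0 hQa h₁ h₂ h12 h12' h1'2 h1'2'
        hx₁ hx₁' hx₂ hx₂')
    h hg hzM hz hz' hz1 hfix

end Cfsg.Agent.Lib.Helper13.OSubLeaf
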