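import Mathlib
import Cfsg.Agent.Lib.Helper2.SOTDefs
import Cfsg.Agent.Lib.Helper27.SOTLADefs
import Cfsg.Agent.Lib.Helper13.OTUCalc
import Cfsg.Agent.Lib.Helper13.OTLADefs
import Cfsg.Agent.Lib.Helper29.OTLAC0

/-!
S5681 + S5709 part (LA'), leaves (R2-3b) `BUT_conj_UL`, (R2-3c) `BUT_conj_theta`, (R2-3d) `BUT_conj_corner` of
`notes/S5681_LA_leaves.lean` (exact signatures): conjugation by a block upper triangular `g`.
-/

set_option autoImplicit false
set_option linter.unusedSectionVars false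
set_option linter.unusedVariables false

namespace Cfsg.Agent.Lib.Helper13.OTLALeaf
open Matrix
open Cfsg.Agent.Lib.Helper25.Tens Cfsg.Agent.Lib.Helper19.OSub
open Cfsg.Agent.Lib.Helper2.SOT Cfsg.Agent.Lib.Helper27.SOTLA Cfsg.Agent.Lib.Helper13.OTU
open Cfsg.Agent.Lib.Helper13.OTLA Cfsg.Agent.Lib.Helper29.OTLALeaf
open scoped Kronecker

variable {F : Type*} [Field F] [Fintype F] {a b : ℕ} {G₁ : Matrix (Fin a) (Fin a) F}
  {G₂ : Matrix (Fin b) (Fin b) F} {o o' p p' : Fin b} {Om M : Subgroup (GL (Idx a b) F)}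

/-- blocks of a conjugate: `g X g⁻¹ = 1 + g (X - 1) g⁻¹` -/
lemma blk_conj (g : GL (Idx a b) F) (X : Matrix (Idx a b) (Idx a b) F) (k l : Fin b) :
    blk (g.1 * X * g⁻¹.1) k l = (if k = l then 1 else 0) +
      ∑ j, ∑ j', blk g.1 k j * blk (X - 1) j j' * blk g⁻¹.1 j' l := by
  have e : g.1 * X * g⁻¹.1 = 1 + g.1 * (X - 1) * g⁻¹.1 := by
    rw [mul_sub, sub_mul, mul_one, Units.mul_inv]
    abel
  rw [e, blk_add, blk_one, blk_mul]
  congr 1
  rw [Finset.sum_comm]
  apply Finset.sum_congr rfl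
  intro j' _
  rw [blk_mul, Finset.sum_mul]

/-- `U`-form in terms of `cls` -/
lemma UL_iff_cls (hA : Adp G₂ o o' p p') (X : Matrix (Idx a b) (Idx a b) F) :
    UL o o' p p' X ↔ ∀ k l : Fin b, ¬ (cls o o' p p' k < cls o o' p p' l) →
      blk X k l = if k = l then 1 else 0 := by
  unfold UL UFS
  constructor
  · intro h k l hkl
    exact h k l (fun hf => hkl ((free_iff_cls hA k l).1 hf))
  · intro h k l hkl
    exact h k l (fun hf => hkl ((free_iff_cls hA k l).2 hf))

/-- the nilpotent part of a `U`-form matrix in terms of `cls` -/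
lemma blk_sub_one_of_UL (hA : Adp G₂ o o' p p') {X : Matrix (Idx a b) (Idx a b) F}
    (hU : UL o o' p p' X) (j j' : Fin b) (h : ¬ (cls o o' p p' j < cls o o' p p' j')) :
    blk (X - 1) j j' = 0 := by
  rw [blk_sub, blk_one, (UL_iff_cls hA X).1 hU j j' h, sub_self]

lemma blk_sub_one_of_lt {X : Matrix (Idx a b) (Idx a b) F} (j j' : Fin b)
    (h : cls o o' p p' j < cls o o' p p' j') : blk (X - 1) j j' = blk X j j' := by
  have hne : j ≠ j' := by
    rintro rfl
    exact lt_irrefl _ h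
  rw [blk_sub, blk_one, if_neg hne, sub_zero]

/-- (R2-3b) conjugation by a block triangular `g` preserves the `U`-form. -/
theorem BUT_conj_UL (hA : Adp G₂ o o' p p') {g : GL (Idx a b) F} (hg : BUT o o' p p' g.1)
    (hg' : BUT o o' p p' g⁻¹.1) {X : Matrix (Idx a b) (Idx a b) F} (hU : UL o o' p p' X) :
    UL o o' p p' (g.1 * X * g⁻¹.1) := by
  rw [UL_iff_cls hA]
  intro k l hkl
  rw [blk_conj]
  have hz : ∑ j, ∑ j', blk g.1 k j * blk (X - 1) j j' * blk g⁻¹.1 j' l = 0 := by
    apply Finset.sum_eq_zero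
    intro j _
    apply Finset.sum_eq_zero
    intro j' _
    by_cases h1 : cls o o' p p' j < cls o o' p p' k
    · rw [hg k j h1, zero_mul, zero_mul]
    by_cases h2 : cls o o' p p' l < cls o o' p p' j'
    · rw [hg' j' l h2, mul_zero]
    have h3 : ¬ (cls o o' p p' j < cls o o' p p' j') := by
      intro h3
      apply hkl
      omega
    rw [blk_sub_one_of_UL hA hU j j' h3, mul_zero, zero_mul]
  rw [hz, add_zero]

/-- (R2-3c) `θ`-part of the conjugate: `θ(g u g⁻¹) = δ θ(u) γ*⁻¹` (only the `θ`-part of `X` enters). -/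
theorem BUT_conj_theta (hA : Adp G₂ o o' p p') {g : GL (Idx a b) F} (hg : BUT o o' p p' g.1)
    (hg' : BUT o o' p p' g⁻¹.1) {X : Matrix (Idx a b) (Idx a b) F} (hU : UL o o' p p' X)
    (k l : Fin b) (hk : cls o o' p p' k = 1) (hl : cls o o' p p' l = 2) :
    blk (g.1 * X * g⁻¹.1) k l = ∑ m, ∑ c, (if cls o o' p p' m = 1 ∧ cls o o' p p' c = 2 then
      blk g.1 k m * blk X m c * blk g⁻¹.1 c l else 0) := by
  rw [blk_conj]
  have hkl : k ≠ l := by
    rintro rfl
    omega
  rw [if_neg hkl, zero_add]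
  apply Finset.sum_congr rfl
  intro j _
  apply Finset.sum_congr rfl
  intro j' _
  by_cases hc : cls o o' p p' j = 1 ∧ cls o o' p p' j' = 2
  · have hlt : cls o o' p p' j < cls o o' p p' j' := by omega
    rw [if_pos hc, blk_sub_one_of_lt j j' hlt]
  · rw [if_neg hc]
    by_cases h1 : cls o o' p p' j < cls o o' p p' k
    · rw [hg k j h1, zero_mul, zero_mul]
    by_cases h3 : cls o o' p p' j < cls o o' p p' j'
    · have := cls_le_two (o := o) (o' := o') (p := p) (p' := p') j'
      exfalso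
      apply hc
      omega
    · rw [blk_sub_one_of_UL hA hU j j' h3, mul_zero, zero_mul]

/-- (R2-3d) corner part of the conjugate of a corner element: `Ξ(g Z g⁻¹) = γ Ξ γ*⁻¹`. -/
theorem BUT_conj_corner (hA : Adp G₂ o o' p p') {g : GL (Idx a b) F} (hg : BUT o o' p p' g.1)
    (hg' : BUT o o' p p' g⁻¹.1) {X : Matrix (Idx a b) (Idx a b) F}
    (hC : SuppC (TL o o') (TL p p') (X - 1)) :
    SuppC (TL o o') (TL p p') (g.1 * X * g⁻¹.1 - 1) ∧
    ∀ k l : Fin b, cls o o' p p' k = 0 → cls o o' p p' l = 2 →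
      blk (g.1 * X * g⁻¹.1) k l = ∑ l', ∑ c, (if cls o o' p p' l' = 0 ∧ cls o o' p p' c = 2 then
        blk g.1 k l' * blk X l' c * blk g⁻¹.1 c l else 0) := by
  have hN : ∀ j j' : Fin b, ¬ (cls o o' p p' j = 0 ∧ cls o o' p p' j' = 2) →
      blk (X - 1) j j' = 0 := by
    intro j j' h
    exact hC j j' (fun hc => h ((corner_iff_cls hA j j').1 hc))
  constructor
  · intro k l hkl
    rw [blk_sub, blk_one, blk_conj, add_sub_cancel_left]
    apply Finset.sum_eq_zero
    intro j _
    apply Finset.sum_eq_zero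
    intro j' _
    by_cases h1 : cls o o' p p' j < cls o o' p p' k
    · rw [hg k j h1, zero_mul, zero_mul]
    by_cases h2 : cls o o' p p' l < cls o o' p p' j'
    · rw [hg' j' l h2, mul_zero]
    have h3 : ¬ (cls o o' p p' j = 0 ∧ cls o o' p p' j' = 2) := by
      rintro ⟨h3, h4⟩
      apply hkl
      rw [corner_iff_cls hA]
      have := cls_le_two (o := o) (o' := o') (p := p) (p' := p') l
      omega
    rw [hN j j' h3, mul_zero, zero_mul]
  · intro k l hk hl
    rw [blk_conj]
    have hkl : k ≠ l := by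
      rintro rfl
      omega
    rw [if_neg hkl, zero_add]
    apply Finset.sum_congr rfl
    intro j _
    apply Finset.sum_congr rfl
    intro j' _
    by_cases hc : cls o o' p p' j = 0 ∧ cls o o' p p' j' = 2
    · have hlt : cls o o' p p' j < cls o o' p p' j' := by omega
      rw [if_pos hc, blk_sub_one_of_lt j j' hlt]
    · rw [if_neg hc, hN j j' hc, mul_zero, zero_mul]

end Cfsg.Agent.Lib.Helper13.OTLALeaf
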