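import Mathlib
import Cfsg.Agent.Lib.Helper2.SOTDefs
import Cfsg.Agent.Lib.Helper27.SOTLADefs
import Cfsg.Agent.Lib.Helper13.OTUCalc
import Cfsg.Agent.Lib.Helper13.OTLADefs
import Cfsg.Agent.Lib.Helper29.OTLAC0

/-!
S5681 + S5709 part (LA'), leaves (R2-6) `T_blocks_dual`, (R2-4c) `levi_iso` (exact signatures of
`notes/S5681_LA_leaves.lean`) and the core of (R2-2) `BUT_of_iso` (with `StabR g⁻¹` as a hypothesis; the exact leaf is in
`OTLABUTIso.lean`, on helper29's `stabR_inv`).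
-/

set_option autoImplicit false
set_option linter.unusedSectionVars false
set_option linter.unusedVariables false

namespace Cfsg.Agent.Lib.Helper13.OTLALeaf
open Matrix
open Cfsg.Agent.Lib.Helper25.Tens Cfsg.Agent.Lib.Helper19.OSub
open Cfsg.Agent.Lib.Helper2.SOT Cfsg.Agent.Lib.Helper27.SOTLA Cfsg.Agent.Lib.Helper13.OTU
open Cfsg.Agent.Lib.Helper13.OTLA Cfsg.Agent.Lib.Helper29.OTLALeaf
open scoped Kronecker

variable {F : Type*} [Field F] [Fintype F] {a b : ℕ} {G₁ : Matrix (Fin a) (Fin a) F}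
  {G₂ : Matrix (Fin b) (Fin b) F} {o o' p p' : Fin b} {Om M : Subgroup (GL (Idx a b) F)}

lemma blk_transpose (X : Matrix (Idx a b) (Idx a b) F) (k l : Fin b) :
    blk Xᵀ k l = (blk X l k)ᵀ := rfl

lemma blk_KM (G₁ : Matrix (Fin a) (Fin a) F) (G₂ : Matrix (Fin b) (Fin b) F) (k l : Fin b) :
    blk (KM G₁ G₂) k l = G₂ k l • G₁ := by
  unfold KM
  exact blk_kron G₁ G₂ k l

lemma blk_KM_mul (G₁ : Matrix (Fin a) (Fin a) F) (G₂ : Matrix (Fin b) (Fin b) F)
    (X : Matrix (Idx a b) (Idx a b) F) (k l : Fin b) :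
    blk (KM G₁ G₂ * X) k l = ∑ j, G₂ k j • (G₁ * blk X j l) := by
  rw [blk_mul]
  apply Finset.sum_congr rfl
  intro j _
  rw [blk_KM, Matrix.smul_mul]

lemma blk_transpose_mul_KM (G₁ : Matrix (Fin a) (Fin a) F) (G₂ : Matrix (Fin b) (Fin b) F)
    (X : Matrix (Idx a b) (Idx a b) F) (k l : Fin b) :
    blk (Xᵀ * KM G₁ G₂) k l = ∑ j, G₂ j l • ((blk X j k)ᵀ * G₁) := by
  rw [blk_mul]
  apply Finset.sum_congr rfl
  intro j _
  rw [blk_KM, blk_transpose, Matrix.mul_smul]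

/-- the two forms of the isometry condition -/
lemma iso_forms {g : GL (Idx a b) F} (hiso : IsIso G₁ G₂ g.1) :
    g.1ᵀ * KM G₁ G₂ = KM G₁ G₂ * g⁻¹.1 ∧ g⁻¹.1ᵀ * KM G₁ G₂ = KM G₁ G₂ * g.1 := by
  unfold IsIso at hiso
  have e1 : g.1ᵀ * KM G₁ G₂ = KM G₁ G₂ * g⁻¹.1 := by
    calc g.1ᵀ * KM G₁ G₂ = g.1ᵀ * KM G₁ G₂ * (g.1 * g⁻¹.1) := by
          rw [Units.mul_inv, mul_one]
      _ = (g.1ᵀ * KM G₁ G₂ * g.1) * g⁻¹.1 := by simp only [mul_assoc]
      _ = KM G₁ G₂ * g⁻¹.1 := by rw [hiso]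
  refine ⟨e1, ?_⟩
  have ht : g⁻¹.1ᵀ * g.1ᵀ = 1 := by
    rw [← Matrix.transpose_mul, Units.mul_inv, Matrix.transpose_one]
  calc g⁻¹.1ᵀ * KM G₁ G₂ = g⁻¹.1ᵀ * (g.1ᵀ * KM G₁ G₂ * g.1) := by rw [hiso]
    _ = (g⁻¹.1ᵀ * g.1ᵀ) * KM G₁ G₂ * g.1 := by simp only [mul_assoc]
    _ = KM G₁ G₂ * g.1 := by rw [ht, one_mul]

/-- rows `o`, `o'` of an adapted Gram matrix -/
lemma adp_row_dl (hA : Adp G₂ o o' p p') (k : Fin b) (hk : cls o o' p p' k = 0) (j : Fin b) :
    G₂ k j = if j = dl o o' p p' k then 1 else 0 := by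
  rcases (cls_eq_zero_iff k).1 hk with rfl | rfl
  · have : dl k o' p p' k = p := by unfold dl; rw [if_pos rfl]
    rw [this]
    exact hA.row_o j
  · have : dl o k p p' k = p' := by
      unfold dl
      rw [if_neg (fun h => hA.hoo' h.symm), if_pos rfl]
    rw [this]
    exact hA.row_o' j

/-- columns `p`, `p'` of an adapted Gram matrix -/
lemma adp_col_dl (hs2 : G₂ᵀ = G₂) (hA : Adp G₂ o o' p p') (k : Fin b)
    (hk : cls o o' p p' k = 0) (j : Fin b) :
    G₂ j (dl o o' p p' k) = if j = k then 1 else 0 := by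
  obtain ⟨_, _, _, h3, h4⟩ := adp_entries hs2 hA
  rcases (cls_eq_zero_iff k).1 hk with rfl | rfl
  · have : dl k o' p p' k = p := by unfold dl; rw [if_pos rfl]
    rw [this]
    exact h3 j
  · have : dl o k p p' k = p' := by
      unfold dl
      rw [if_neg (fun h => hA.hoo' h.symm), if_pos rfl]
    rw [this]
    exact h4 j

lemma cls_dl (hA : Adp G₂ o o' p p') (k : Fin b) (hk : cls o o' p p' k = 0) :
    cls o o' p p' (dl o o' p p' k) = 2 := by
  rw [cls_eq_two_iff hA]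
  rcases (cls_eq_zero_iff k).1 hk with rfl | rfl
  · left
    unfold dl
    rw [if_pos rfl]
  · right
    unfold dl
    rw [if_neg (fun h => hA.hoo' h.symm), if_pos rfl]

lemma exists_dl (hA : Adp G₂ o o' p p') (c : Fin b) (hc : cls o o' p p' c = 2) :
    ∃ k : Fin b, cls o o' p p' k = 0 ∧ dl o o' p p' k = c := by
  rcases (cls_eq_two_iff hA c).1 hc with rfl | rfl
  · refine ⟨o, (cls_eq_zero_iff o).2 (Or.inl rfl), ?_⟩
    unfold dl
    rw [if_pos rfl]
  · refine ⟨o', (cls_eq_zero_iff o').2 (Or.inr rfl), ?_⟩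
    unfold dl
    rw [if_neg (fun h => hA.hoo' h.symm), if_pos rfl]

lemma mul_left_cancel_of_det {n : ℕ} {G A B : Matrix (Fin n) (Fin n) F} (hG : G.det ≠ 0)
    (h : G * A = G * B) : A = B := by
  have hu : IsUnit G.det := isUnit_iff_ne_zero.2 hG
  calc A = G⁻¹ * (G * A) := by rw [← mul_assoc, Matrix.nonsing_inv_mul G hu, one_mul]
    _ = G⁻¹ * (G * B) := by rw [h]
    _ = B := by rw [← mul_assoc, Matrix.nonsing_inv_mul G hu, one_mul]

/-- (R2-6) duality: the `L × L` blocks of an isometry are the adjoints of the `L* × L*` blocks of its inverse. -/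
theorem T_blocks_dual (hs1 : G₁ᵀ = G₁) (hs2 : G₂ᵀ = G₂) (hn1 : G₁.det ≠ 0) (hA : Adp G₂ o o' p p')
    {g : GL (Idx a b) F} (hiso : IsIso G₁ G₂ g.1) (l l' : Fin b) (hl : cls o o' p p' l = 0)
    (hl' : cls o o' p p' l' = 0) :
    blk g.1 l l' = adjB G₁ (blk g⁻¹.1 (dl o o' p p' l') (dl o o' p p' l)) := by
  have e1 := (iso_forms hiso).1
  have e2 : blk (g.1ᵀ * KM G₁ G₂) l' (dl o o' p p' l) =
      blk (KM G₁ G₂ * g⁻¹.1) l' (dl o o' p p' l) := by rw [e1]
  rw [blk_transpose_mul_KM, blk_KM_mul] at e2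
  have e3 : ∑ j, G₂ j (dl o o' p p' l) • ((blk g.1 j l')ᵀ * G₁) = (blk g.1 l l')ᵀ * G₁ := by
    rw [Finset.sum_eq_single l]
    · rw [adp_col_dl hs2 hA l hl, if_pos rfl, one_smul]
    · intro j _ hj
      rw [adp_col_dl hs2 hA l hl, if_neg hj, zero_smul]
    · intro h
      exact absurd (Finset.mem_univ l) h
  have e4 : ∑ j, G₂ l' j • (G₁ * blk g⁻¹.1 j (dl o o' p p' l)) =
      G₁ * blk g⁻¹.1 (dl o o' p p' l') (dl o o' p p' l) := by
    rw [Finset.sum_eq_single (dl o o' p p' l')]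
    · rw [adp_row_dl hA l' hl', if_pos rfl, one_smul]
    · intro j _ hj
      rw [adp_row_dl hA l' hl', if_neg hj, zero_smul]
    · intro h
      exact absurd (Finset.mem_univ _) h
  rw [e3, e4] at e2
  -- `(g_{l,l'})ᵀ G₁ = G₁ B`
  set B := blk g⁻¹.1 (dl o o' p p' l') (dl o o' p p' l) with hB
  have hu : IsUnit G₁.det := isUnit_iff_ne_zero.2 hn1
  have e5 : G₁ * blk g.1 l l' = Bᵀ * G₁ := by
    have := congrArg Matrix.transpose e2
    rw [Matrix.transpose_mul, Matrix.transpose_mul, Matrix.transpose_transpose, hs1] at this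
    exact this
  unfold adjB
  rw [mul_assoc, ← e5, ← mul_assoc, Matrix.nonsing_inv_mul G₁ hu, one_mul]

/-- core of (R2-2): from `Xᵀ K = K Y` and `StabR X`, the rows of class `2` of `Y` vanish outside the columns of class `2` -/
lemma rows_two_of_iso (hs2 : G₂ᵀ = G₂) (hn1 : G₁.det ≠ 0) (hA : Adp G₂ o o' p p')
    {X Y : Matrix (Idx a b) (Idx a b) F} (hXY : Xᵀ * KM G₁ G₂ = KM G₁ G₂ * Y)
    (hst : StabR o o' X) (k l : Fin b) (hk : cls o o' p p' k = 2) (hl : cls o o' p p' l ≠ 2) :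
    blk Y k l = 0 := by
  obtain ⟨k₀, hk₀, rfl⟩ := exists_dl hA k hk
  have e2 : blk (Xᵀ * KM G₁ G₂) k₀ l = blk (KM G₁ G₂ * Y) k₀ l := by rw [hXY]
  rw [blk_transpose_mul_KM, blk_KM_mul] at e2
  have e3 : ∑ j, G₂ j l • ((blk X j k₀)ᵀ * G₁) = 0 := by
    apply Finset.sum_eq_zero
    intro j _
    by_cases hj : cls o o' p p' j = 0
    · have : G₂ j l = 0 := (adp_entries hs2 hA).1 j l (by omega)
      rw [this, zero_smul]
    · have hz : blk X j k₀ = 0 := by
        apply hst j k₀ ((cls_eq_zero_iff k₀).1 hk₀)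
        · intro h
          exact hj ((cls_eq_zero_iff j).2 (Or.inl h))
        · intro h
          exact hj ((cls_eq_zero_iff j).2 (Or.inr h))
      rw [hz, Matrix.transpose_zero, Matrix.zero_mul, smul_zero]
  have e4 : ∑ j, G₂ k₀ j • (G₁ * blk Y j l) = G₁ * blk Y (dl o o' p p' k₀) l := by
    rw [Finset.sum_eq_single (dl o o' p p' k₀)]
    · rw [adp_row_dl hA k₀ hk₀, if_pos rfl, one_smul]
    · intro j _ hj
      rw [adp_row_dl hA k₀ hk₀, if_neg hj, zero_smul]
    · intro h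
      exact absurd (Finset.mem_univ _) h
  rw [e3, e4] at e2
  apply mul_left_cancel_of_det hn1
  rw [← e2, mul_zero]

/-- (R2-2), core form: with `StabR g⁻¹` as a hypothesis -/
theorem BUT_of_iso_core (hs2 : G₂ᵀ = G₂) (hn1 : G₁.det ≠ 0)
    (hA : Adp G₂ o o' p p') {g : GL (Idx a b) F} (hiso : IsIso G₁ G₂ g.1)
    (hst : StabR o o' g.1) (hst' : StabR o o' g⁻¹.1) :
    BUT o o' p p' g.1 ∧ BUT o o' p p' g⁻¹.1 := by
  obtain ⟨e1, e2⟩ := iso_forms hiso
  have key : ∀ {X Y : Matrix (Idx a b) (Idx a b) F}, Xᵀ * KM G₁ G₂ = KM G₁ G₂ * Y →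
      StabR o o' X → StabR o o' Y → BUT o o' p p' Y := by
    intro X Y hXY hX hY k l hlk
    by_cases hk : cls o o' p p' k = 2
    · exact rows_two_of_iso hs2 hn1 hA hXY hX k l hk (by omega)
    · have hk2 := cls_le_two (o := o) (o' := o') (p := p) (p' := p') k
      have hl0 : cls o o' p p' l = 0 := by omega
      have hk0 : cls o o' p p' k ≠ 0 := by omega
      apply hY k l ((cls_eq_zero_iff l).1 hl0)
      · intro h
        exact hk0 ((cls_eq_zero_iff k).2 (Or.inl h))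
      · intro h
        exact hk0 ((cls_eq_zero_iff k).2 (Or.inr h))
  exact ⟨key e2 hst' hst, key e1 hst hst'⟩

lemma blk_levi' (X : Matrix (Idx a b) (Idx a b) F) (k l : Fin b) :
    blk (levi o o' p p' X) k l = if cls o o' p p' k = cls o o' p p' l then blk X k l else 0 := by
  by_cases h : cls o o' p p' k = cls o o' p p' l
  · rw [if_pos h]
    ext i i'
    unfold levi blk
    simp only [Matrix.of_apply]
    rw [if_pos h]
  · rw [if_neg h]
    ext i i'
    unfold levi blk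
    simp only [Matrix.of_apply]
    rw [if_neg h]
    rfl

/-- (R2-4c) the Levi part of a flag-preserving isometry is an isometry. -/
theorem levi_iso (hs2 : G₂ᵀ = G₂) (hA : Adp G₂ o o' p p') {X : Matrix (Idx a b) (Idx a b) F}
    (hiso : IsIso G₁ G₂ X) (hX : BUT o o' p p' X) : IsIso G₁ G₂ (levi o o' p p' X) := by
  unfold IsIso at hiso ⊢
  apply ext_blk
  intro k l
  have hfull : blk (Xᵀ * KM G₁ G₂ * X) k l = blk (KM G₁ G₂) k l := by rw [hiso]
  rw [blk_mul] at hfull ⊢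
  have hterm : ∀ j' : Fin b, blk ((levi o o' p p' X)ᵀ * KM G₁ G₂) k j' * blk (levi o o' p p' X) j' l =
      if cls o o' p p' k + cls o o' p p' l = 2 then blk (Xᵀ * KM G₁ G₂) k j' * blk X j' l else 0 := by
    intro j'
    rw [blk_transpose_mul_KM, blk_transpose_mul_KM, blk_levi', Finset.sum_mul, Finset.sum_mul]
    by_cases hkl : cls o o' p p' k + cls o o' p p' l = 2
    · rw [if_pos hkl]
      apply Finset.sum_congr rfl
      intro j _
      rw [blk_levi']
      by_cases h1 : cls o o' p p' j + cls o o' p p' j' = 2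
      · by_cases h2 : cls o o' p p' k < cls o o' p p' j
        · rw [hX j k h2]
          simp
        by_cases h3 : cls o o' p p' l < cls o o' p p' j'
        · rw [hX j' l h3]
          simp
        have h4 : cls o o' p p' j = cls o o' p p' k := by omega
        have h5 : cls o o' p p' j' = cls o o' p p' l := by omega
        rw [if_pos h4, if_pos h5]
      · rw [(adp_entries hs2 hA).1 j j' h1, zero_smul, zero_smul, Matrix.zero_mul, Matrix.zero_mul]
    · rw [if_neg hkl]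
      apply Finset.sum_eq_zero
      intro j _
      rw [blk_levi']
      by_cases h4 : cls o o' p p' j = cls o o' p p' k
      · by_cases h5 : cls o o' p p' j' = cls o o' p p' l
        · rw [(adp_entries hs2 hA).1 j j' (by omega), zero_smul, Matrix.zero_mul]
        · rw [if_neg h5, mul_zero]
      · rw [if_neg h4, Matrix.transpose_zero, Matrix.zero_mul, smul_zero, Matrix.zero_mul]
  rw [Finset.sum_congr rfl (fun j' _ => hterm j')]
  by_cases hkl : cls o o' p p' k + cls o o' p p' l = 2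
  · simp only [if_pos hkl]
    exact hfull
  · simp only [if_neg hkl, Finset.sum_const_zero]
    rw [blk_KM, (adp_entries hs2 hA).1 k l hkl, zero_smul]

end Cfsg.Agent.Lib.Helper13.OTLALeaf
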