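import Mathlib
import Cfsg.Agent.Lib.Helper2.SOTDefs
import Cfsg.Agent.Lib.Helper27.SOTLADefs
import Cfsg.Agent.Lib.Helper13.OTUCalc
import Cfsg.Agent.Lib.Helper13.OTLADefs
import Cfsg.Agent.Lib.Helper13.OTLAIsoB
import Cfsg.Agent.Lib.Helper29.OTLAR2a

/-!
S5681 + S5709 part (LA'), leaf (R2-2) `BUT_of_iso` of `notes/S5681_LA_leaves.lean` (exact signature):
`BUT_of_iso_core` + helper29's `stabR_inv`.
-/

set_option autoImplicit false
set_option linter.unusedSectionVars false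
set_option linter.unusedVariables false

namespace Cfsg.Agent.Lib.Helper13.OTLALeaf
open Matrix
open Cfsg.Agent.Lib.Helper25.Tens Cfsg.Agent.Lib.Helper19.OSub
open Cfsg.Agent.Lib.Helper2.SOT Cfsg.Agent.Lib.Helper27.SOTLA Cfsg.Agent.Lib.Helper13.OTU
open Cfsg.Agent.Lib.Helper13.OTLA
open scoped Kronecker

variable {F : Type*} [Field F] [Fintype F] {a b : ℕ} {G₁ : Matrix (Fin a) (Fin a) F}
  {G₂ : Matrix (Fin b) (Fin b) F} {o o' p p' : Fin b} {Om M : Subgroup (GL (Idx a b) F)}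

/-- (R2-2) an isometry stabilising `R` stabilises `R^⊥`: `g` and `g⁻¹` are block upper triangular for `L | B₀ | L*`. -/
theorem BUT_of_iso (hs1 : G₁ᵀ = G₁) (hs2 : G₂ᵀ = G₂) (hn1 : G₁.det ≠ 0) (hn2 : G₂.det ≠ 0)
    (hA : Adp G₂ o o' p p') {g : GL (Idx a b) F} (hiso : IsIso G₁ G₂ g.1)
    (hst : StabR o o' g.1) : BUT o o' p p' g.1 ∧ BUT o o' p p' g⁻¹.1 :=
  BUT_of_iso_core hs2 hn1 hA hiso hst (Cfsg.Agent.Lib.Helper29.OTLALeaf.stabR_inv g hst)

end Cfsg.Agent.Lib.Helper13.OTLALeaf
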