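import Mathlib
import Cfsg.Agent.Lib.Helper2.SOTDefs
import Cfsg.Agent.Lib.Helper27.SOTLADefs
import Cfsg.Agent.Lib.Helper13.OTUCalc
import Cfsg.Agent.Lib.Helper13.OTLADefs
import Cfsg.Agent.Lib.Helper7.OTLAZm
import Cfsg.Agent.Lib.Helper7.OTLAIso
import Cfsg.Agent.Lib.Helper15.OTLAR11
import Cfsg.Agent.Lib.Helper26.OTLAR12x
import Cfsg.Agent.Lib.Helper22.OTLAR14

/-!
S5681 + S5709 part (LA'), leaves (R1) `R1` and (R1') `R1_corner` of `notes/S5681_LA_leaves.lean` (exact signatures):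
assembly of block R1 (`M ∩ Z_R = X_L`) from the landed leaves of helper7, helper15, helper22, helper26.
-/

set_option autoImplicit false
set_option linter.unusedSectionVars false
set_option linter.unusedVariables false

namespace Cfsg.Agent.Lib.Helper13.OTLALeaf
open Matrix
open Cfsg.Agent.Lib.Helper25.Tens Cfsg.Agent.Lib.Helper19.OSub
open Cfsg.Agent.Lib.Helper2.SOT Cfsg.Agent.Lib.Helper27.SOTLA Cfsg.Agent.Lib.Helper13.OTU
open Cfsg.Agent.Lib.Helper13.OTLA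
open scoped Kronecker

variable {F : Type*} [Field F] [Fintype F] {a b : ℕ} {G₁ : Matrix (Fin a) (Fin a) F}
  {G₂ : Matrix (Fin b) (Fin b) F} {o o' p p' : Fin b} {Om M : Subgroup (GL (Idx a b) F)}

/-- (R1) assembly. -/
theorem R1 (h : LCtx G₁ G₂ o o' p p' Om M) (hS : ¬ ExitS G₁ o o' p p' M)
    (hL : ¬ ExitL G₁ o o' p p' M) : R1P G₁ o o' p p' M := by
  have hS1 : ∀ κ : Matrix (Fin a) (Fin a) F, InM M (Zc G₁ o o' p p' κ 0 0) → κ = 0 := by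
    intro κ hκ
    by_contra hne
    exact hL (Cfsg.Agent.Lib.Helper22.OTLALeaf.exitL_of_Sigma1 h hκ hne)
  have hb := h.toLBase
  intro κ₁ κ₂ σ hZ
  have h2 : κ₂ = 0 := hS1 κ₂ (Cfsg.Agent.Lib.Helper26.OTLALeaf.InM_Zc_kappa2 hb hZ)
  have h1 : κ₁ = 0 := hS1 κ₁ (Cfsg.Agent.Lib.Helper26.OTLALeaf.InM_Zc_kappa2 hb
    (Cfsg.Agent.Lib.Helper26.OTLALeaf.InM_Zc_kappa1 hb hZ))
  refine ⟨h1, h2, ?_⟩
  by_contra hns
  rw [h1, h2] at hZ
  exact hS (Cfsg.Agent.Lib.Helper22.OTLALeaf.exitS_of_SigmaS h hS1 hZ hns)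

/-- (R1') corner form: an element of `M` which is `1` modulo the corner is in `X_L`. -/
theorem R1_corner (h : LBase G₁ G₂ o o' p p' Om M) (hR1 : R1P G₁ o o' p p' M)
    {g : GL (Idx a b) F} (hg : g ∈ M) (hC : SuppC (TL o o') (TL p p') (g.1 - 1)) :
    ∃ c : F, g.1 = Zc G₁ o o' p p' 0 0 (c • (1 : Matrix (Fin a) (Fin a) F)) := by
  have hiso : IsIso G₁ G₂ g.1 := Cfsg.Agent.Lib.Helper15.OTLALeaf.InM_iso h ⟨g, hg, rfl⟩
  have e := Cfsg.Agent.Lib.Helper7.OTLALeaf.eq_Zm_of_suppC h.adp hC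
  generalize blk g.1 o p = κ₁ at e
  generalize blk g.1 o' p' = κ₂ at e
  generalize blk g.1 o p' = σ at e
  generalize blk g.1 o' p = τ at e
  rw [e] at hiso
  obtain ⟨hk1, hk2, hτ⟩ :=
    (Cfsg.Agent.Lib.Helper7.OTLALeaf.Zm_iso h.symm1 h.symm2 h.nd1 h.adp _ _ _ _).1 hiso
  have e' : g.1 = Zc G₁ o o' p p' κ₁ κ₂ σ := by
    rw [e, hτ]
    rfl
  obtain ⟨h1, h2, c, hc⟩ := hR1 κ₁ κ₂ σ ⟨g, hg, e'⟩
  exact ⟨c, by rw [e', h1, h2, hc]⟩

end Cfsg.Agent.Lib.Helper13.OTLALeaf
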