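import Mathlib
import Cfsg.Agent.Lib.Helper2.SOTDefs
import Cfsg.Agent.Lib.Helper27.SOTLADefs
import Cfsg.Agent.Lib.Helper13.OTUCalc
import Cfsg.Agent.Lib.Helper13.OTLADefs
import Cfsg.Agent.Lib.Helper13.OTLABUT
import Cfsg.Agent.Lib.Helper13.OTLABUTIso
import Cfsg.Agent.Lib.Helper13.OTLAR1
import Cfsg.Agent.Lib.Helper15.OTLAR10
import Cfsg.Agent.Lib.Helper1.SOTLAA7core

/-!
S5681 + S5709 part (LA'), leaf (R2-7) `alpha_simil` of `notes/S5681_LA_leaves.lean` (exact signature): `g ∈ M` stabilising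
`R` normalises `X_L = M ∩ Z_R`, hence the common factor `s⁻¹` of the `L* × L*` blocks of `g⁻¹` is a similitude.
-/

set_option autoImplicit false
set_option linter.unusedSectionVars false
set_option linter.unusedVariables false
set_option linter.unusedSimpArgs false

namespace Cfsg.Agent.Lib.Helper13.OTLALeaf
open Matrix
open Cfsg.Agent.Lib.Helper25.Tens Cfsg.Agent.Lib.Helper19.OSub
open Cfsg.Agent.Lib.Helper2.SOT Cfsg.Agent.Lib.Helper27.SOTLA Cfsg.Agent.Lib.Helper13.OTU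
open Cfsg.Agent.Lib.Helper13.OTLA Cfsg.Agent.Lib.Helper29.OTLALeaf
open scoped Kronecker

variable {F : Type*} [Field F] [Fintype F] {a b : ℕ} {G₁ : Matrix (Fin a) (Fin a) F}
  {G₂ : Matrix (Fin b) (Fin b) F} {o o' p p' : Fin b} {Om M : Subgroup (GL (Idx a b) F)}

/-- a sum over the corner positions -/
lemma sum_corner (hA : Adp G₂ o o' p p') (f : Fin b → Fin b → Matrix (Fin a) (Fin a) F) :
    ∑ l', ∑ c, (if cls o o' p p' l' = 0 ∧ cls o o' p p' c = 2 then f l' c else 0) =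
      f o p + f o p' + f o' p + f o' p' := by
  have hin : ∀ l' : Fin b, ∑ c, (if cls o o' p p' l' = 0 ∧ cls o o' p p' c = 2 then f l' c else 0) =
      if cls o o' p p' l' = 0 then f l' p + f l' p' else 0 := by
    intro l'
    by_cases hl : cls o o' p p' l' = 0
    · rw [if_pos hl]
      have hp : cls o o' p p' p = 2 := (cls_eq_two_iff hA p).2 (Or.inl rfl)
      have hp' : cls o o' p p' p' = 2 := (cls_eq_two_iff hA p').2 (Or.inr rfl)
      rw [Finset.sum_eq_add p p' hA.hpp']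
      · rw [if_pos ⟨hl, hp⟩, if_pos ⟨hl, hp'⟩]
      · intro c _ hc
        have : ¬ (cls o o' p p' l' = 0 ∧ cls o o' p p' c = 2) := by
          rintro ⟨_, h2⟩
          rcases (cls_eq_two_iff hA c).1 h2 with h3 | h3
          · exact hc.1 h3
          · exact hc.2 h3
        rw [if_neg this]
      · intro h
        exact absurd (Finset.mem_univ _) h
      · intro h
        exact absurd (Finset.mem_univ _) h
    · rw [if_neg hl]
      apply Finset.sum_eq_zero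
      intro c _
      rw [if_neg (fun h => hl h.1)]
  rw [Finset.sum_congr rfl (fun l' _ => hin l')]
  have ho : cls o o' p p' o = 0 := (cls_eq_zero_iff o).2 (Or.inl rfl)
  have ho' : cls o o' p p' o' = 0 := (cls_eq_zero_iff o').2 (Or.inr rfl)
  rw [Finset.sum_eq_add o o' hA.hoo']
  · rw [if_pos ho, if_pos ho']
    abel
  · intro c _ hc
    have : ¬ cls o o' p p' c = 0 := by
      intro h0
      rcases (cls_eq_zero_iff c).1 h0 with h3 | h3
      · exact hc.1 h3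
      · exact hc.2 h3
    rw [if_neg this]
  · intro h
    exact absurd (Finset.mem_univ _) h
  · intro h
    exact absurd (Finset.mem_univ _) h

/-- the corner blocks of `Zc` -/
lemma blk_Zc_corner (hA : Adp G₂ o o' p p') (κ₁ κ₂ σ : Matrix (Fin a) (Fin a) F) :
    blk (Zc G₁ o o' p p' κ₁ κ₂ σ) o p = κ₁ ∧ blk (Zc G₁ o o' p p' κ₁ κ₂ σ) o p' = σ ∧
    blk (Zc G₁ o o' p p' κ₁ κ₂ σ) o' p = -adjB G₁ σ ∧ blk (Zc G₁ o o' p p' κ₁ κ₂ σ) o' p' = κ₂ := by
  unfold Zc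
  have h1 := hA.hoo'
  have h2 := hA.hop
  have h3 := hA.hop'
  have h4 := hA.ho'p
  have h5 := hA.ho'p'
  have h6 := hA.hpp'
  refine ⟨?_, ?_, ?_, ?_⟩
  · rw [Cfsg.Agent.Lib.Helper7.OTLALeaf.blk_Zm]
    simp [h1, h2, h3, h4, h5, h6, h1.symm, h6.symm]
  · rw [Cfsg.Agent.Lib.Helper7.OTLALeaf.blk_Zm]
    simp [h1, h2, h3, h4, h5, h6, h1.symm, h6.symm]
  · rw [Cfsg.Agent.Lib.Helper7.OTLALeaf.blk_Zm]
    simp [h1, h2, h3, h4, h5, h6, h1.symm, h6.symm]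
  · rw [Cfsg.Agent.Lib.Helper7.OTLALeaf.blk_Zm]
    simp [h1, h2, h3, h4, h5, h6, h1.symm, h6.symm]

lemma dl_o (o o' p p' : Fin b) : dl o o' p p' o = p := by
  unfold dl
  rw [if_pos rfl]

lemma dl_o' (hA : Adp G₂ o o' p p') : dl o o' p p' o' = p' := by
  unfold dl
  rw [if_neg (fun h => hA.hoo' h.symm), if_pos rfl]

/-- (R2-7) `g` normalises `X_L = M ∩ Z_R`, hence `s⁻¹` is a similitude. -/
theorem alpha_simil (h : LBase G₁ G₂ o o' p p' Om M) (hR1 : R1P G₁ o o' p p' M)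
    {g : GL (Idx a b) F} (hg : g ∈ M) (hst : StabR o o' g.1) (s : GL (Fin a) F)
    (hs : ∀ k l : Fin b, cls o o' p p' k = 2 → cls o o' p p' l = 2 →
      ∃ c : F, blk g⁻¹.1 k l = c • s⁻¹.1) :
    ∃ μ : F, μ ≠ 0 ∧ adjB G₁ s⁻¹.1 * s⁻¹.1 = μ • (1 : Matrix (Fin a) (Fin a) F) := by
  have hA := h.adp
  have ha : 0 < a := by have := h.ha; omega
  have hiso : IsIso G₁ G₂ g.1 := Cfsg.Agent.Lib.Helper15.OTLALeaf.InM_iso h ⟨g, hg, rfl⟩
  obtain ⟨hB, hB'⟩ := BUT_of_iso h.symm1 h.symm2 h.nd1 h.nd2 hA hiso hst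
  obtain ⟨t, htM, ht⟩ := Cfsg.Agent.Lib.Helper15.OTLALeaf.InM_Zc_scalar h (1 : F)
  have huM : g * t * g⁻¹ ∈ M := M.mul_mem (M.mul_mem hg htM) (M.inv_mem hg)
  have hu_val : (g * t * g⁻¹).1 = g.1 * t.1 * g⁻¹.1 := rfl
  have htC : SuppC (TL o o') (TL p p') (t.1 - 1) := by
    rw [ht]
    exact (Cfsg.Agent.Lib.Helper7.OTLALeaf.Zm_UL hA _ _ _ _).2
  obtain ⟨huC, hublk⟩ := BUT_conj_corner hA hB hB' htC
  obtain ⟨c, hc⟩ := R1_corner h hR1 huM (by rw [hu_val]; exact huC)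
  have ho : cls o o' p p' o = 0 := (cls_eq_zero_iff o).2 (Or.inl rfl)
  have ho' : cls o o' p p' o' = 0 := (cls_eq_zero_iff o').2 (Or.inr rfl)
  have hp : cls o o' p p' p = 2 := (cls_eq_two_iff hA p).2 (Or.inl rfl)
  have hp' : cls o o' p p' p' = 2 := (cls_eq_two_iff hA p').2 (Or.inr rfl)
  -- `c ≠ 0`
  have i₀ : Fin a := ⟨0, ha⟩
  have hone : (1 : Matrix (Fin a) (Fin a) F) ≠ 0 := by
    intro h0
    have := congrFun (congrFun h0 i₀) i₀
    rw [Matrix.one_apply_eq, Matrix.zero_apply] at this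
    exact one_ne_zero this
  have hc0 : c ≠ 0 := by
    rintro rfl
    rw [zero_smul, Cfsg.Agent.Lib.Helper15.OTLALeaf.Zc_zero] at hc
    have hu1 : g * t * g⁻¹ = 1 := Units.ext hc
    have ht1 : t = 1 := by
      have : t = g⁻¹ * (g * t * g⁻¹) * g := by group
      rw [this, hu1]
      group
    have e := (blk_Zc_corner (G₁ := G₁) hA 0 0 ((1 : F) • (1 : Matrix (Fin a) (Fin a) F))).2.1
    rw [← ht, ht1, Units.val_one, blk_one, if_neg hA.hop', one_smul] at e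
    exact hone e.symm
  -- the block `(o, p')`
  have e1 := hublk o p' ho hp'
  rw [← hu_val, hc, (blk_Zc_corner hA _ _ _).2.1, sum_corner hA
    (fun l' c' => blk g.1 o l' * blk t.1 l' c' * blk g⁻¹.1 c' p')] at e1
  obtain ⟨z1, z2, z3, z4⟩ := blk_Zc_corner (G₁ := G₁) hA 0 0 ((1 : F) • (1 : Matrix (Fin a) (Fin a) F))
  rw [ht, z1, z2, z3, z4] at e1
  have d1 := T_blocks_dual h.symm1 h.symm2 h.nd1 hA hiso o o ho ho
  have d2 := T_blocks_dual h.symm1 h.symm2 h.nd1 hA hiso o o' ho ho'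
  rw [dl_o] at d1
  rw [dl_o, dl_o' hA] at d2
  obtain ⟨c₁, hc₁⟩ := hs p p hp hp
  obtain ⟨c₂, hc₂⟩ := hs p' p hp' hp
  obtain ⟨c₃, hc₃⟩ := hs p' p' hp' hp'
  obtain ⟨c₄, hc₄⟩ := hs p p' hp hp'
  rw [d1, d2, hc₁, hc₂, hc₃, hc₄, Cfsg.Agent.Lib.Helper1.SOTLALeaf.adjB_smul,
    Cfsg.Agent.Lib.Helper1.SOTLALeaf.adjB_smul, Cfsg.Agent.Lib.Helper1.SOTLALeaf.adjB_smul,
    Cfsg.Agent.Lib.Helper1.SOTLALeaf.adjB_one h.nd1] at e1
  set A := adjB G₁ s⁻¹.1 with hAdef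
  set S := s⁻¹.1 with hSdef
  have e2 : c • (1 : Matrix (Fin a) (Fin a) F) = (c₁ * c₃ - c₂ * c₄) • (A * S) := by
    rw [e1]
    simp only [one_smul, mul_zero, zero_mul, add_zero, zero_add, Matrix.mul_one, Matrix.smul_mul,
      Matrix.mul_smul, Matrix.mul_neg, Matrix.neg_mul, smul_smul, sub_smul, smul_neg]
    rw [mul_comm c₃ c₁, mul_comm c₄ c₂]
    abel
  have hδ : c₁ * c₃ - c₂ * c₄ ≠ 0 := by
    intro h0
    rw [h0, zero_smul] at e2
    have := congrFun (congrFun e2 i₀) i₀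
    rw [Matrix.smul_apply, Matrix.one_apply_eq, Matrix.zero_apply, smul_eq_mul, mul_one] at this
    exact hc0 this
  refine ⟨(c₁ * c₃ - c₂ * c₄)⁻¹ * c, mul_ne_zero (inv_ne_zero hδ) hc0, ?_⟩
  rw [← smul_smul, e2, smul_smul, inv_mul_cancel₀ hδ, one_smul]

end Cfsg.Agent.Lib.Helper13.OTLALeaf
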