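import Mathlib
import Cfsg.Agent.Lib.Helper2.SOTDefs
import Cfsg.Agent.Lib.Helper27.SOTLADefs
import Cfsg.Agent.Lib.Helper13.OTUCalc
import Cfsg.Agent.Lib.Helper13.OTLADefs
import Cfsg.Agent.Lib.Helper13.OTLABUT
import Cfsg.Agent.Lib.Helper13.OTLABUTIso
import Cfsg.Agent.Lib.Helper13.OTLAR1
import Cfsg.Agent.Lib.Helper13.OTLASimil
import Cfsg.Agent.Lib.Helper22.OTLAR1pCore
import Cfsg.Agent.Lib.Helper23.OTLAYel
import Cfsg.Agent.Lib.Helper23.OTLATheta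
import Cfsg.Agent.Lib.Helper26.OTLAR25
import Cfsg.Agent.Lib.Helper29.OTLAR1p
import Cfsg.Agent.Lib.Helper29.OTLAR2a

/-!
S5681 + S5709 part (LA'): leaves (P2c) `theta_scalar`, (R1+) `R1plus`, (R2-5a) `prod_scalar`, (R2-5c) `mid_Bt_shape`,
(R2-5d) `diag_shape`, (R2-8) `levi_blocks` of `notes/S5681_LA_leaves.lean` (exact signatures), assembled from the landed cores of
helper22, helper23, helper26, helper29 (insurance copies of the one-line finals; `diag_shape` and `levi_blocks` are proved here).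
-/

set_option autoImplicit false
set_option linter.unusedSectionVars false
set_option linter.unusedVariables false

namespace Cfsg.Agent.Lib.Helper13.OTLALeaf
open Matrix
open Cfsg.Agent.Lib.Helper25.Tens Cfsg.Agent.Lib.Helper19.OSub
open Cfsg.Agent.Lib.Helper2.SOT Cfsg.Agent.Lib.Helper27.SOTLA Cfsg.Agent.Lib.Helper13.OTU
open Cfsg.Agent.Lib.Helper13.OTLA Cfsg.Agent.Lib.Helper29.OTLALeaf
open scoped Kronecker

variable {F : Type*} [Field F] [Fintype F] {a b : ℕ} {G₁ : Matrix (Fin a) (Fin a) F}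
  {G₂ : Matrix (Fin b) (Fin b) F} {o o' p p' : Fin b} {Om M : Subgroup (GL (Idx a b) F)}

/-- (P2c) all `θ`-blocks of `g ∈ M` of `U`-form are scalar. -/
theorem theta_scalar (h : LBase G₁ G₂ o o' p p' Om M) (hR1 : R1P G₁ o o' p p' M)
    {g : GL (Idx a b) F} (hg : g ∈ M) (hU : UL o o' p p' g.1) (m : Fin b)
    (hm : cls o o' p p' m = 1) : IsScal (blk g.1 m p) ∧ IsScal (blk g.1 m p') :=
  theta_scalar_core h.symm2 h.nd2 h.adp
    (fun m₀ hm₀ => Cfsg.Agent.Lib.Helper23.OTLALeaf.theta_gram_scalar h hR1 hg hU m₀ hm₀) m hm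

/-- (R1+) elements of `M` of `U`-form are in `KG`. -/
theorem R1plus (h : LBase G₁ G₂ o o' p p' Om M) (hR1 : R1P G₁ o o' p p' M)
    {g : GL (Idx a b) F} (hg : g ∈ M) (hU : UL o o' p p' g.1) : g ∈ KG a b F :=
  Cfsg.Agent.Lib.Helper22.OTLALeaf.R1plus_core h hR1 hg hU
    (fun m hm => theta_scalar h hR1 hg hU m hm)

/-- (R2-5a) the products `δ-block × (γ*⁻¹)-block` are scalar. -/
theorem prod_scalar (h : LBase G₁ G₂ o o' p p' Om M) (hR1 : R1P G₁ o o' p p' M)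
    {g : GL (Idx a b) F} (hg : g ∈ M) (hst : StabR o o' g.1) (m m₀ c₀ c : Fin b)
    (hm : cls o o' p p' m = 1) (hm₀ : cls o o' p p' m₀ = 1) (hc₀ : cls o o' p p' c₀ = 2)
    (hc : cls o o' p p' c = 2) : IsScal (blk g.1 m m₀ * blk g⁻¹.1 c₀ c) :=
  Cfsg.Agent.Lib.Helper26.OTLALeaf.prod_scalar_core h
    (fun v hv => Cfsg.Agent.Lib.Helper23.OTLALeaf.exists_yel h v hv)
    (fun v hv => Cfsg.Agent.Lib.Helper23.OTLALeaf.exists_yel' h v hv)
    (fun x hx hU => R1plus h hR1 hx hU) hg hst m m₀ c₀ c hm hm₀ hc₀ hc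

/-- (R2-5c) fibre lemma. -/
theorem mid_Bt_shape (h : LBase G₁ G₂ o o' p p' Om M) (hR1 : R1P G₁ o o' p p' M)
    {g : GL (Idx a b) F} (hg : g ∈ M) (hst : StabR o o' g.1) :
    ∃ s : GL (Fin a) F,
      (∀ m m₀ : Fin b, cls o o' p p' m = 1 → cls o o' p p' m₀ = 1 →
        ∃ c : F, blk g.1 m m₀ = c • s⁻¹.1) ∧
      (∀ c₀ c : Fin b, cls o o' p p' c₀ = 2 → cls o o' p p' c = 2 →
        ∃ t : F, blk g⁻¹.1 c₀ c = t • s.1) :=
  Cfsg.Agent.Lib.Helper26.OTLALeaf.mid_Bt_shape_core h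
    (fun v hv => Cfsg.Agent.Lib.Helper23.OTLALeaf.exists_yel h v hv)
    (fun v hv => Cfsg.Agent.Lib.Helper23.OTLALeaf.exists_yel' h v hv)
    (fun x hx hU => R1plus h hR1 hx hU) hg hst

/-- a middle index exists -/
lemma exists_mid (hA : Adp G₂ o o' p p') (hb : 5 ≤ b) : ∃ m : Fin b, cls o o' p p' m = 1 := by
  by_contra hne
  push Not at hne
  have hsub : (Finset.univ : Finset (Fin b)) ⊆ {o, o', p, p'} := by
    intro k _
    have h1 := hne k
    have h2 := cls_le_two (o := o) (o' := o') (p := p) (p' := p') k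
    have h3 : cls o o' p p' k = 0 ∨ cls o o' p p' k = 2 := by omega
    simp only [Finset.mem_insert, Finset.mem_singleton]
    rcases h3 with h3 | h3
    · rcases (cls_eq_zero_iff k).1 h3 with h4 | h4
      · exact Or.inl h4
      · exact Or.inr (Or.inl h4)
    · rcases (cls_eq_two_iff hA k).1 h3 with h4 | h4
      · exact Or.inr (Or.inr (Or.inl h4))
      · exact Or.inr (Or.inr (Or.inr h4))
  have hcard := Finset.card_le_card hsub
  rw [Finset.card_univ, Fintype.card_fin] at hcard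
  have h4 : ({o, o', p, p'} : Finset (Fin b)).card ≤ 4 := Finset.card_le_four
  omega

/-- (R2-5d) the middle and `L*` diagonal blocks of `g`, and the `L*` blocks of `g⁻¹`. -/
theorem diag_shape (h : LBase G₁ G₂ o o' p p' Om M) (hR1 : R1P G₁ o o' p p' M)
    {g : GL (Idx a b) F} (hg : g ∈ M) (hst : StabR o o' g.1) :
    ∃ s : GL (Fin a) F,
      (∀ k l : Fin b, cls o o' p p' k = 1 → cls o o' p p' l = 1 → ∃ c : F, blk g.1 k l = c • s.1) ∧
      (∀ k l : Fin b, cls o o' p p' k = 2 → cls o o' p p' l = 2 → ∃ c : F, blk g.1 k l = c • s.1) ∧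
      (∀ k l : Fin b, cls o o' p p' k = 2 → cls o o' p p' l = 2 →
        ∃ c : F, blk g⁻¹.1 k l = c • s⁻¹.1) := by
  classical
  have hA := h.adp
  have hiso : IsIso G₁ G₂ g.1 := h.om_iso g (h.le_om hg)
  obtain ⟨hB, hB'⟩ := BUT_of_iso h.symm1 h.symm2 h.nd1 h.nd2 hA hiso hst
  have hst' : StabR o o' g⁻¹.1 := stabR_inv g hst
  obtain ⟨s₁, h11, h12⟩ := mid_Bt_shape h hR1 hg hst
  obtain ⟨s₂, h21, h22⟩ := mid_Bt_shape h hR1 (M.inv_mem hg) hst'
  rw [inv_inv] at h22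
  obtain ⟨m₀, hm₀⟩ := exists_mid hA h.hb
  -- the `(m₀, m₀)` block of `g g⁻¹ = 1`
  have e1 : blk (g.1 * g⁻¹.1) m₀ m₀ = 1 := by
    rw [Units.mul_inv, blk_one, if_pos rfl]
  rw [blk_mul] at e1
  choose! c₁ hc₁ using fun j => h11 m₀ j hm₀
  choose! c₂ hc₂ using fun j => h21 j m₀
  have e2 : ∀ j : Fin b, blk g.1 m₀ j * blk g⁻¹.1 j m₀ =
      (if cls o o' p p' j = 1 then c₁ j * c₂ j else 0) • (s₁⁻¹.1 * s₂⁻¹.1) := by
    intro j
    by_cases hj : cls o o' p p' j = 1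
    · rw [if_pos hj, hc₁ j hj, hc₂ j hj hm₀, Matrix.smul_mul, Matrix.mul_smul, smul_smul]
    · rw [if_neg hj, zero_smul]
      have hj2 := cls_le_two (o := o) (o' := o') (p := p) (p' := p') j
      by_cases hj0 : cls o o' p p' j = 0
      · rw [hB m₀ j (by omega), zero_mul]
      · rw [hB' j m₀ (by omega), mul_zero]
  rw [Finset.sum_congr rfl (fun j _ => e2 j), ← Finset.sum_smul] at e1
  set μ := ∑ j, (if cls o o' p p' j = 1 then c₁ j * c₂ j else 0) with hμ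
  have ha : 0 < a := by have := h.ha; omega
  have hμ0 : μ ≠ 0 := by
    intro h0
    rw [h0, zero_smul] at e1
    have := congrFun (congrFun e1 ⟨0, ha⟩) ⟨0, ha⟩
    rw [Matrix.zero_apply, Matrix.one_apply_eq] at this
    exact zero_ne_one this
  -- `s₂ = μ • s₁⁻¹`
  have e3 : s₂.1 = μ • s₁⁻¹.1 := by
    have e4 : μ • (s₁⁻¹.1 * s₂⁻¹.1) * s₂.1 = s₂.1 := by rw [e1, one_mul]
    rw [Matrix.smul_mul, mul_assoc, Units.inv_mul, mul_one] at e4
    exact e4.symm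
  refine ⟨s₁⁻¹, ?_, ?_, ?_⟩
  · intro k l hk hl
    exact h11 k l hk hl
  · intro k l hk hl
    obtain ⟨t, ht⟩ := h22 k l hk hl
    exact ⟨t * μ, by rw [ht, e3, smul_smul]⟩
  · intro k l hk hl
    obtain ⟨t, ht⟩ := h12 k l hk hl
    exact ⟨t, by rw [ht, inv_inv]⟩

/-- (R2-8) all diagonal-class blocks of `g` are multiples of one `α`. -/
theorem levi_blocks (h : LBase G₁ G₂ o o' p p' Om M) (hR1 : R1P G₁ o o' p p' M)
    {g : GL (Idx a b) F} (hg : g ∈ M) (hst : StabR o o' g.1) :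
    ∃ α : GL (Fin a) F, ∀ k l : Fin b, cls o o' p p' k = cls o o' p p' l →
      ∃ c : F, blk g.1 k l = c • α.1 := by
  have hA := h.adp
  have hiso : IsIso G₁ G₂ g.1 := h.om_iso g (h.le_om hg)
  obtain ⟨s, hs1, hs2, hs3⟩ := diag_shape h hR1 hg hst
  obtain ⟨μ, hμ0, hμ⟩ := alpha_simil h hR1 hg hst s hs3
  -- `(s⁻¹)† = μ • s`
  have e1 : adjB G₁ s⁻¹.1 = μ • s.1 := by
    have e2 : adjB G₁ s⁻¹.1 * s⁻¹.1 * s.1 = μ • s.1 := by rw [hμ, Matrix.smul_mul, one_mul]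
    rw [mul_assoc, Units.inv_mul, mul_one] at e2
    exact e2
  refine ⟨s, ?_⟩
  intro k l hkl
  have hk2 := cls_le_two (o := o) (o' := o') (p := p) (p' := p') k
  by_cases hk0 : cls o o' p p' k = 0
  · have hl0 : cls o o' p p' l = 0 := by omega
    rw [T_blocks_dual h.symm1 h.symm2 h.nd1 hA hiso k l hk0 hl0]
    obtain ⟨c, hc⟩ := hs3 (dl o o' p p' l) (dl o o' p p' k) (cls_dl hA l hl0) (cls_dl hA k hk0)
    exact ⟨c * μ, by rw [hc, Cfsg.Agent.Lib.Helper1.SOTLALeaf.adjB_smul, e1, smul_smul]⟩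
  by_cases hk1 : cls o o' p p' k = 1
  · exact hs1 k l hk1 (by omega)
  · exact hs2 k l (by omega) (by omega)

end Cfsg.Agent.Lib.Helper13.OTLALeaf
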