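import Mathlib
import Cfsg.Agent.Lib.Helper13.OTLADefs
import Cfsg.Agent.Lib.Helper25.OTDefs
import Cfsg.Agent.Lib.Helper25.OTLInst
import Cfsg.Agent.Lib.Helper7.OTLAZm
import Cfsg.Agent.Lib.Helper11.SOTLAU3
import Cfsg.Agent.Lib.Helper2.OTGN

/-!
S5681 + S5709 part (LA'): glue between helper25's coordinate-free interface (`OTDefs`: `WL`, `kB`) and the adapted block
vocabulary of `OTLADefs`, at the adapted line `L = ⟨e_o, e_o'⟩`:
* `stabR_of_WL`: stabilising `WL e_o e_o' = A ⊗ L` means `StabR o o'`;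
* `kB_eq_Zc`: `kB G₂ e_o e_o' c = Z(0, 0, -c • 1)`.
-/

set_option autoImplicit false
set_option linter.unusedSectionVars false
set_option linter.unusedVariables false

namespace Cfsg.Agent.Lib.Helper13.OTLAGlue
open Matrix
open Cfsg.Agent.Lib.Helper25.Tens Cfsg.Agent.Lib.Helper19.OSub
open Cfsg.Agent.Lib.Helper2.SOT Cfsg.Agent.Lib.Helper27.SOTLA Cfsg.Agent.Lib.Helper13.OTU
open Cfsg.Agent.Lib.Helper13.OTLA Cfsg.Agent.Lib.Helper25.OT
open scoped Kronecker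

variable {F : Type*} [Field F] [Fintype F] {a b : ℕ} {G₁ : Matrix (Fin a) (Fin a) F}
  {G₂ : Matrix (Fin b) (Fin b) F} {o o' p p' : Fin b}

/-- stabilising `A ⊗ ⟨e_o, e_o'⟩` means `StabR o o'` -/
theorem stabR_of_WL (g : GL (Idx a b) F)
    (h : ∀ v ∈ (WL (Pi.single o (1 : F)) (Pi.single o' (1 : F)) : Submodule F (Idx a b → F)),
      mv g v ∈ (WL (Pi.single o (1 : F)) (Pi.single o' (1 : F)) : Submodule F (Idx a b → F))) :
    StabR o o' g.1 := by
  intro k l hl hk hk'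
  ext i i'
  have hv : pt (Pi.single i' (1 : F)) (Pi.single l (1 : F)) ∈
      (WL (Pi.single o (1 : F)) (Pi.single o' (1 : F)) : Submodule F (Idx a b → F)) := by
    rcases hl with rfl | rfl
    · exact pt_left_mem_WL _ _ _
    · exact pt_right_mem_WL _ _ _
  obtain ⟨x₁, x₂, hx⟩ := (mem_WL_iff _ _ _).1 (h _ hv)
  have e1 : mv g (pt (Pi.single i' (1 : F)) (Pi.single l (1 : F))) (i, k) = g.1 (i, k) (i', l) := by
    unfold mv
    rw [mulVec_pt_single]
  have e2 := congrFun hx (i, k)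
  rw [e1] at e2
  show g.1 (i, k) (i', l) = 0
  rw [e2]
  simp only [Pi.add_apply, pt, Pi.single_apply, if_neg hk, if_neg hk', mul_zero, add_zero]

/-- `kB G₂ e_o e_o' c = Z(0, 0, -c • 1)` in adapted coordinates -/
theorem kB_eq_Zc (hs2 : G₂ᵀ = G₂) (h2 : (2 : F) ≠ 0) (hn1 : G₁.det ≠ 0) (hA : Adp G₂ o o' p p') (c : F) :
    (kB G₂ (Pi.single o (1 : F)) (Pi.single o' (1 : F)) c : GL (Idx a b) F).1 =
      Zc G₁ o o' p p' 0 0 ((-c) • (1 : Matrix (Fin a) (Fin a) F)) := by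
  rw [Cfsg.Agent.Lib.Helper7.OTLALeaf.Zc_scalar_eq hn1]
  apply Cfsg.Agent.Lib.Helper2.OTGLeaf.mat_ext_pt
  intro x v
  have e1 := mv_kB_pt (a := a) hs2 h2 (adp_TSL hA) c x v
  unfold mv at e1
  rw [e1, kron_mulVec_pt, Matrix.one_mulVec, adp_fB_o hA, adp_fB_o' hA]
  congr 1
  unfold nL
  rw [Matrix.add_mulVec, Matrix.one_mulVec, Matrix.smul_mulVec, Matrix.sub_mulVec,
    Cfsg.Agent.Lib.Helper11.SOTLALeaf.single_one_mulVec,
    Cfsg.Agent.Lib.Helper11.SOTLALeaf.single_one_mulVec]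
  rw [neg_smul, smul_sub, smul_sub]
  abel

end Cfsg.Agent.Lib.Helper13.OTLAGlue
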