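import Mathlib
import Cfsg.Agent.Lib.Helper2.SOTDefs
import Cfsg.Agent.Lib.Helper27.SOTLADefs
import Cfsg.Agent.Lib.Helper13.OTUCalc
import Cfsg.Agent.Lib.Helper13.OTLADefs
import Cfsg.Agent.Lib.Helper13.OTLABUTIso
import Cfsg.Agent.Lib.Helper13.OTLAIsoB
import Cfsg.Agent.Lib.Helper13.OTLADiag
import Cfsg.Agent.Lib.Helper15.OTLAR11
import Cfsg.Agent.Lib.Helper15.OTLAR10
import Cfsg.Agent.Lib.Helper29.OTLAR2a
import Cfsg.Agent.Lib.Helper29.OTLAC4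
import Cfsg.Agent.Lib.Helper29.OTLAP0
import Cfsg.Agent.Lib.Helper26.OTLAFC
import Cfsg.Agent.Lib.Helper26.OTLAFCA
import Cfsg.Agent.Lib.Helper22.OTLAFCB
import Cfsg.Agent.Lib.Helper4.SOTLAA8

/-!
S5681 + S5709 part (LA'): the two ASSEMBLIES of the local analysis at a totally singular line `L` of the root side `B`:

* `L1_at` (= (R2)): an element of `M` stabilising `A ⊗ L` lies in `KG a b F`;
* `L2_at` (= (FC)): `m ∈ M` with `m⁻¹ t m ∈ KG` for the scalar central root elements `t = Zc 0 0 (c • 1)` lies in `KG a b F`.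

Both hold in the abstract context `LBase` + the conclusion `R1P` of (R1) (`R1` itself: `Helper13.OTLAR1.R1` in `LCtx`,
`Helper9.OTLA4R1x.R1_swapped` in `LCtx4`).  All leaves are landed (see `notes/S5681_LA_leaves.lean`).
-/

set_option autoImplicit false
set_option linter.unusedSectionVars false
set_option linter.unusedVariables false

namespace Cfsg.Agent.Lib.Helper13.OTLAMain
open Matrix
open Cfsg.Agent.Lib.Helper25.Tens Cfsg.Agent.Lib.Helper19.OSub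
open Cfsg.Agent.Lib.Helper2.SOT Cfsg.Agent.Lib.Helper27.SOTLA Cfsg.Agent.Lib.Helper13.OTU
open Cfsg.Agent.Lib.Helper13.OTLA
open scoped Kronecker

variable {F : Type*} [Field F] [Fintype F] {a b : ℕ} {G₁ : Matrix (Fin a) (Fin a) F}
  {G₂ : Matrix (Fin b) (Fin b) F} {o o' p p' : Fin b} {Om M : Subgroup (GL (Idx a b) F)}

/-- (R2) = `L1` at `L` (assembly). -/
theorem L1_at (h : LBase G₁ G₂ o o' p p' Om M) (hR1 : R1P G₁ o o' p p' M)
    {g : GL (Idx a b) F} (hg : g ∈ M) (hst : StabR o o' g.1) : g ∈ KG a b F := by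
  have hiso : IsIso G₁ G₂ g.1 := Cfsg.Agent.Lib.Helper15.OTLALeaf.InM_iso h ⟨g, hg, rfl⟩
  obtain ⟨hB, hB'⟩ :=
    Cfsg.Agent.Lib.Helper13.OTLALeaf.BUT_of_iso h.symm1 h.symm2 h.nd1 h.nd2 h.adp hiso hst
  have h1 : levi o o' p p' g.1 * levi o o' p p' g⁻¹.1 = 1 :=
    Cfsg.Agent.Lib.Helper29.OTLALeaf.levi_mul_levi hB hB'
  have h2 : levi o o' p p' g⁻¹.1 * levi o o' p p' g.1 = 1 := mul_eq_one_comm.1 h1
  let k : GL (Idx a b) F := ⟨levi o o' p p' g.1, levi o o' p p' g⁻¹.1, h1, h2⟩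
  obtain ⟨α, hα⟩ := Cfsg.Agent.Lib.Helper13.OTLALeaf.levi_blocks h hR1 hg hst
  obtain ⟨β, hβ⟩ := Cfsg.Agent.Lib.Helper29.OTLALeaf.levi_eq_kron
    (o := o) (o' := o') (p := p) (p' := p') (X := g.1) α.1 hα
  have hkK : k ∈ KG a b F :=
    Cfsg.Agent.Lib.Helper29.OTLALeaf.mem_KG_of_kron (by have := h.ha; omega) (by have := h.hb; omega)
      k α.1 β hβ
  have hkiso : IsIso G₁ G₂ k.1 := Cfsg.Agent.Lib.Helper13.OTLALeaf.levi_iso h.symm2 h.adp hiso hB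
  have hu_val : (g * k⁻¹).1 = g.1 * levi o o' p p' g⁻¹.1 := rfl
  have huU : UL o o' p p' (g * k⁻¹).1 := by
    rw [hu_val]
    exact Cfsg.Agent.Lib.Helper29.OTLALeaf.UL_mul_levi h.adp hB hB'
  have huiso : IsIso G₁ G₂ (g * k⁻¹).1 := by
    rw [Units.val_mul]
    exact Cfsg.Agent.Lib.Helper29.OTLALeaf.IsIso_mul hiso
      (Cfsg.Agent.Lib.Helper29.OTLALeaf.IsIso_inv k hkiso)
  have huOm : g * k⁻¹ ∈ Om := h.om_uform _ huiso huU
  have hkOm : k ∈ Om := by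
    have e : k = (g * k⁻¹)⁻¹ * g := by group
    rw [e]
    exact Om.mul_mem (Om.inv_mem huOm) (h.le_om hg)
  have hkM : k ∈ M := h.le ⟨hkK, hkOm⟩
  have huM : g * k⁻¹ ∈ M := M.mul_mem hg (M.inv_mem hkM)
  have huK : g * k⁻¹ ∈ KG a b F := Cfsg.Agent.Lib.Helper13.OTLALeaf.R1plus h hR1 huM huU
  have e : g = (g * k⁻¹) * k := by group
  rw [e]
  exact (KG a b F).mul_mem huK hkK

/-- (FC) = `L2` at `L` (assembly).
[`k' := m⁻¹ t m = α₁ ⊗ β₁`, `(k' - 1)² = 0` (FC-1); `Helper4.SOTLAA8.lemmaQU`: `α₁ = c • 1` (then `k' = 1 ⊗ (c • β₁)`, (FC-B)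
with `hL1 = L1_at`) or `β₁ = c • 1` (then `k' = (c • α₁) ⊗ 1`, (FC-A)).] -/
theorem L2_at (h : LBase G₁ G₂ o o' p p' Om M) (hR1 : R1P G₁ o o' p p' M)
    {m : GL (Idx a b) F} (hm : m ∈ M)
    (hk : ∀ c : F, ∀ t : GL (Idx a b) F,
      t.1 = Zc G₁ o o' p p' 0 0 (c • (1 : Matrix (Fin a) (Fin a) F)) → m⁻¹ * t * m ∈ KG a b F) :
    m ∈ KG a b F := by
  obtain ⟨t, htM, ht⟩ := Cfsg.Agent.Lib.Helper15.OTLALeaf.InM_Zc_scalar h (1 : F)
  have hk' := hk 1 t ht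
  obtain ⟨α₁, β₁, hαβ⟩ := (mem_KG_iff _).1 hk'
  have hsq := Cfsg.Agent.Lib.Helper26.OTLALeaf.conj_sub_one_sq (m := m) h.adp ht
  rw [hαβ] at hsq
  rcases Cfsg.Agent.Lib.Helper4.SOTLALeaf.lemmaQU h.two α₁.1 β₁.1 hsq with ⟨c, hc⟩ | ⟨c, hc⟩
  · refine Cfsg.Agent.Lib.Helper22.OTLALeaf.fc_caseB h (fun g hg hst => L1_at h hR1 hg hst) hm ht
      (c • β₁.1) ?_
    rw [hαβ, hc, Matrix.smul_kronecker, Matrix.kronecker_smul]
  · exact (Cfsg.Agent.Lib.Helper26.OTLALeaf.fc_caseA h hm ht (c • α₁.1) (by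
      rw [hαβ, hc, Matrix.smul_kronecker, Matrix.kronecker_smul])).elim

end Cfsg.Agent.Lib.Helper13.OTLAMain
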