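import Mathlib
import Cfsg.Agent.Lib.Helper13.BLTop
import Cfsg.Agent.Lib.Helper1.OrdTools

/-!
helper13: a simple group of order `5760 = 2^7 * 3^2 * 5` has `576` Sylow `5`-subgroups
(S0980 / S0983). All other Sylow counts (`16`, `36`, `96`) die in the principal `5`-block:
`C_G(P) = P × K` with `K ≠ 1` of order divisible by `2` or `3`, hence every nontrivial character
of `B₀(5)` which is constant on the `5`-sections has degree `≥ 10`.
* `|N : C| = 4`: all admissible degrees (divisors of `1152`, `≥ 10`) are even, so the degree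
  equation `1 + ∑ a χ(1) = 0` is odd.
* `|N : C| = 2`: `core_two` leaves only the degree pairs `(4,3)`, `(9,8)`.
-/

set_option autoImplicit false
set_option linter.style.haveILetI false
set_option linter.unusedSectionVars false

namespace Cfsg.Agent.Lib.Helper13.Ord5760

open Cfsg Cfsg.Agent.CharLib Cfsg.Agent.Lib.Helper24 Cfsg.Agent.Lib.Helper6
open Cfsg.Agent.Lib.Helper5.BLFull Cfsg.Agent.Lib.Helper12.BSF Cfsg.Agent.Lib.Helper13.BLTwoP
open Cfsg.Agent.Lib.Helper1.OrdTools Cfsg.Agent.Lib.Helper8.OrdSieve

theorem np_5 : npList 5 1 1152 = [16, 36, 96, 576] := by decide +kernel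

/-- divisors of `5760` which are `≥ 10` and prime to `5` are even -/
theorem check_even : (divs 5760).all (fun f => decide (f < 10) || decide (f % 2 = 0) ||
    decide (f % 5 = 0)) = true := by decide +kernel

/-- no degree pair for `core_two` with `χ(1) ≥ 10` -/
theorem check_two : (divs 5760).all (fun f => decide (f < 10) ||
    ((decide (f % 5 ≠ 1) || decide (5760 % (f + 1) ≠ 0)) &&
      (decide (f % 5 ≠ 4) || decide (5760 % (f - 1) ≠ 0)))) = true := by decide +kernel

universe u

variable {G : Type u} [Group G] [Finite G] [IsSimpleGroup G]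

/-- the case `|N : C| = 4` -/
theorem kill_four (hnc : ¬ IsMulCommutative G) (h : Nat.card G = 5760) [Fact (Nat.Prime 5)]
    (P : Sylow 5 G) (hP : Nat.card (P : Subgroup G) = 5)
    (hC : 2 ∣ Nat.card ↥(Subgroup.centralizer ((P : Subgroup G) : Set G)) ∨
      3 ∣ Nat.card ↥(Subgroup.centralizer ((P : Subgroup G) : Set G)))
    (hrel : (Subgroup.centralizer ((P : Subgroup G) : Set G)).relIndex
      (Subgroup.normalizer ((P : Subgroup G) : Set G)) = 4) : False := by
  classical
  obtain ⟨B, a, hB1, ha0, hsq, hcong, hdeg, hval⟩ := core_top 5 P hP hrel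
  have heven : ∀ χ ∈ B, Even (a χ * (charDegree (χ : G → ℂ) : ℤ)) := by
    intro χ hχ
    have h10 := two_mul_le_of_centralizer hnc 5 (by norm_num) P hP hC χ (hB1 χ hχ) (a χ : ℂ)
      (hval χ hχ)
    have hd := irr_charDegree_dvd_card χ
    rw [h] at hd
    have hle : a χ ^ 2 ≤ 4 := by
      have := Finset.single_le_sum (f := fun χ => a χ ^ 2) (fun i _ => sq_nonneg _) hχ
      push_cast at hsq
      linarith
    have hlo : -2 ≤ a χ := by nlinarith
    have hhi : a χ ≤ 2 := by nlinarith
    have h5 : ¬ (5 : ℤ) ∣ a χ := by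
      intro hdiv
      have := ha0 χ hχ
      omega
    have h5d : ¬ 5 ∣ charDegree (χ : G → ℂ) := by
      intro hdiv
      apply h5
      have h1 : (5 : ℤ) ∣ (charDegree (χ : G → ℂ) : ℤ) := by exact_mod_cast hdiv
      have h2 := hcong χ hχ
      push_cast at h2
      have h3 := dvd_sub h1 h2
      simpa using h3
    have hmem := mem_divs (by norm_num : 0 < 5760) hd
    have hc := check_even
    rw [List.all_eq_true] at hc
    have hcf := hc _ hmem
    simp only [Bool.or_eq_true, decide_eq_true_eq] at hcf
    have hev : charDegree (χ : G → ℂ) % 2 = 0 := by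
      rcases hcf with (h1 | h1) | h1
      · omega
      · exact h1
      · exact absurd (Nat.dvd_of_mod_eq_zero h1) h5d
    have : Even (charDegree (χ : G → ℂ)) := Nat.even_iff.mpr hev
    exact Even.mul_left (by exact_mod_cast this) _
  obtain ⟨k, hk⟩ := Finset.even_sum _ heven
  omega

/-- the case `|N : C| = 2`, `C ≠ P` -/
theorem kill_two_even (hnc : ¬ IsMulCommutative G) (h : Nat.card G = 5760) [Fact (Nat.Prime 5)]
    (P : Sylow 5 G) (hP : Nat.card (P : Subgroup G) = 5)
    (hC : 2 ∣ Nat.card ↥(Subgroup.centralizer ((P : Subgroup G) : Set G)) ∨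
      3 ∣ Nat.card ↥(Subgroup.centralizer ((P : Subgroup G) : Set G)))
    (hrel : (Subgroup.centralizer ((P : Subgroup G) : Set G)).relIndex
      (Subgroup.normalizer ((P : Subgroup G) : Set G)) = 2) : False := by
  classical
  obtain ⟨χ, η, a, ha, hχ1, hcong, hdeg, hval⟩ := core_two 5 (by norm_num) P hP hrel
  have h10 := two_mul_le_of_centralizer hnc 5 (by norm_num) P hP hC χ hχ1 (a : ℂ) hval
  have hd := irr_charDegree_dvd_card χ
  have he := irr_charDegree_dvd_card η
  rw [h] at hd he
  have hmem := mem_divs (by norm_num : 0 < 5760) hd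
  have hc := check_two
  rw [List.all_eq_true] at hc
  have hcf := hc _ hmem
  simp only [Bool.or_eq_true, Bool.and_eq_true, decide_eq_true_eq] at hcf
  push_cast at hcong
  rcases hcf with h1 | ⟨h1, h2⟩
  · omega
  · rcases ha with rfl | rfl
    · -- `a = 1`
      have hmod : charDegree (χ : G → ℂ) % 5 = 1 := by omega
      have hg : charDegree (η : G → ℂ) = charDegree (χ : G → ℂ) + 1 := by
        rcases hdeg with h | h
        · omega
        · omega
      rcases h1 with h1 | h1
      · exact h1 hmod
      · apply h1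
        rw [← hg]
        exact Nat.mod_eq_zero_of_dvd he
    · -- `a = -1`
      have hmod : charDegree (χ : G → ℂ) % 5 = 4 := by omega
      have hg : charDegree (η : G → ℂ) = charDegree (χ : G → ℂ) - 1 := by
        rcases hdeg with h | h
        · omega
        · omega
      rcases h2 with h2 | h2
      · exact h2 hmod
      · apply h2
        rw [← hg]
        exact Nat.mod_eq_zero_of_dvd he

/-- a simple group of order `5760` has `576` Sylow `5`-subgroups -/
theorem count_eq_576 (h : Nat.card G = 5760) : Nat.card (Sylow 5 G) = 576 := by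
  classical
  have hnc : ¬ IsMulCommutative G :=
    Cfsg.Agent.Lib.Helper7.not_comm_of_card_not_prime (by rw [h]; norm_num)
  haveI : Fact (Nat.Prime 5) := ⟨by norm_num⟩
  obtain ⟨n5, k5, hn5, hnk5, d5⟩ := pdata (p := 5) (m := 1152) hnc (by rw [h]) (by norm_num)
  have m5 : n5 ∈ npList 5 1 1152 := by
    rw [← hn5]
    exact sylow_count_mem hnc (by norm_num) le_rfl (by norm_num) (h.trans (by norm_num))
      (by norm_num)
  rw [np_5] at m5
  simp only [List.mem_cons, List.not_mem_nil, or_false] at m5
  rw [hn5]
  obtain ⟨P⟩ : Nonempty (Sylow 5 G) := inferInstance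
  obtain ⟨hP, hN, c, r, hc, hcr, hrd, hr1, hrel⟩ := d5 P
  have hr4 : r ≤ 4 := Nat.le_of_dvd (by norm_num) hrd
  have hr0 : 0 < r := Nat.pos_of_dvd_of_pos hrd (by norm_num)
  by_contra hne
  have hk5 : k5 = 72 ∨ k5 = 32 ∨ k5 = 12 := by
    rcases m5 with rfl | rfl | rfl | rfl
    · left; omega
    · right; left; omega
    · right; right; omega
    · exact absurd rfl hne
  have hr24 : r = 2 ∨ r = 4 := by
    interval_cases r
    · exact absurd rfl hr1
    · left; rfl
    · norm_num at hrd
    · right; rfl
  have hC23 : 2 ∣ Nat.card ↥(Subgroup.centralizer ((P : Subgroup G) : Set G)) ∨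
      3 ∣ Nat.card ↥(Subgroup.centralizer ((P : Subgroup G) : Set G)) := by
    rw [hc]
    rcases hr24 with rfl | rfl
    · left
      rcases hk5 with rfl | rfl | rfl <;> omega
    · rcases hk5 with rfl | rfl | rfl
      · left; omega
      · left; omega
      · right; omega
  rcases hr24 with rfl | rfl
  · exact kill_two_even hnc h P hP hC23 hrel
  · exact kill_four hnc h P hP hC23 hrel

end Cfsg.Agent.Lib.Helper13.Ord5760
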