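import Mathlib
import Cfsg.Agent.Lib.Helper13.Ord5760
import Cfsg.Agent.Lib.Helper27.Ord5760A

/-!
helper13 (with helper27): there is no simple group of order `5760 = 2^7 * 3^2 * 5`
(S0980, and one of the residual orders of S0983).
-/

set_option autoImplicit false

namespace Cfsg.Agent.Lib.Helper13.Ord5760F

theorem not_simple_5760 {G : Type*} [Group G] [Finite G] [IsSimpleGroup G] :
    Nat.card G ≠ 5760 := fun h =>
  Cfsg.Agent.Lib.Helper27.Ord5760.not_count_576 h (Cfsg.Agent.Lib.Helper13.Ord5760.count_eq_576 h)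

end Cfsg.Agent.Lib.Helper13.Ord5760F
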