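/-
helper13: for a subfield `K₀` of index two, `subfieldSL K₀` is strictly larger than `SL₂(K₀)`.
-/
import Mathlib
import Cfsg.Agent.Lib.Helper13.DkMaxSL
import Cfsg.Agent.Lib.Helper13.DkMax

set_option autoImplicit false

namespace Cfsg.Agent.Lib.Helper13.PairNF

open Matrix Subgroup Cfsg.Agent.Lib.Helper13 Cfsg.Agent.Lib.Helper13.Dk

variable {F : Type*} [Field F] [Fintype F]

/-- The inclusion `SL₂(K₀) → SL₂(F)`. -/
def inclSL (K₀ : Subfield F) : SpecialLinearGroup (Fin 2) K₀ →* SpecialLinearGroup (Fin 2) F :=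
  Matrix.SpecialLinearGroup.map K₀.subtype

theorem inclSL_apply (K₀ : Subfield F) (y : SpecialLinearGroup (Fin 2) K₀) (i j : Fin 2) :
    ((inclSL K₀ y : SpecialLinearGroup (Fin 2) F) : Matrix (Fin 2) (Fin 2) F) i j =
      ((y : Matrix (Fin 2) (Fin 2) K₀) i j : F) := rfl

theorem inclSL_injective (K₀ : Subfield F) : Function.Injective (inclSL K₀) := by
  intro y z h
  apply Subtype.ext
  ext i j
  have := congrArg (fun A : SpecialLinearGroup (Fin 2) F => (A : Matrix (Fin 2) (Fin 2) F) i j) h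
  simp only [inclSL_apply] at this
  exact this

theorem range_inclSL_le (K₀ : Subfield F) : (inclSL K₀).range ≤ subfieldSL K₀ := by
  rintro _ ⟨y, rfl⟩
  refine ⟨1, one_ne_zero, fun i j => ?_⟩
  rw [one_mul, inclSL_apply]
  exact SetLike.coe_mem _

theorem card_subfieldSL_gt (h2 : (2 : F) ≠ 0) (K₀ : Subfield F)
    (hdeg : Nat.card K₀ ^ 2 = Fintype.card F) :
    Nat.card K₀ * (Nat.card K₀ ^ 2 - 1) < Nat.card (subfieldSL K₀) := by
  classical
  letI : Fintype K₀ := Fintype.ofFinite K₀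
  have hq₀ : Nat.card K₀ = Fintype.card K₀ := Nat.card_eq_fintype_card
  have hcardY : Nat.card (inclSL K₀).range = Nat.card K₀ * (Nat.card K₀ ^ 2 - 1) := by
    rw [← Nat.card_congr (MonoidHom.ofInjective (inclSL_injective K₀)).toEquiv, card_SL2, hq₀]
  rw [← hcardY]
  apply card_lt_of_lt
  refine lt_of_le_of_ne (range_inclSL_le K₀) ?_
  -- a non-square of `K₀`
  have hchar : ringChar K₀ ≠ 2 := by
    intro h
    haveI : CharP K₀ 2 := ringChar.eq_iff.mp h
    have h0 : ((2 : ℕ) : K₀) = 0 := CharP.cast_eq_zero K₀ 2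
    apply h2
    have h1 : (1 : K₀) + 1 = 0 := by rw [one_add_one_eq_two]; exact_mod_cast h0
    have h' : (((1 : K₀) + 1 : K₀) : F) = ((0 : K₀) : F) := congrArg Subtype.val h1
    rw [← one_add_one_eq_two]
    simpa using h'
  have hcharF : ringChar F ≠ 2 := by
    intro h
    haveI : CharP F 2 := ringChar.eq_iff.mp h
    have h0 : ((2 : ℕ) : F) = 0 := CharP.cast_eq_zero F 2
    apply h2
    exact_mod_cast h0
  obtain ⟨ν, hν⟩ := FiniteField.exists_nonsquare hchar
  have hν0 : ν ≠ 0 := by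
    rintro rfl
    exact hν ⟨0, by simp⟩
  have hνF0 : (ν : F) ≠ 0 := fun h => hν0 (Subtype.ext h)
  -- `ν` is a square in `F`
  have hsq : IsSquare (ν : F) := by
    rw [FiniteField.isSquare_iff hcharF hνF0]
    have h1 : ν ^ (Fintype.card K₀ - 1) = 1 := FiniteField.pow_card_sub_one_eq_one ν hν0
    have h1' : (ν : F) ^ (Fintype.card K₀ - 1) = 1 := by
      have := congrArg (K₀.subtype) h1
      simpa using this
    have hodd : Fintype.card K₀ % 2 = 1 := FiniteField.odd_card_of_char_ne_two hchar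
    have hexp : Fintype.card F / 2 = (Fintype.card K₀ - 1) * ((Fintype.card K₀ + 1) / 2) := by
      rw [← hdeg, hq₀]
      obtain ⟨j, hj⟩ : ∃ j, Fintype.card K₀ = 2 * j + 1 := ⟨Fintype.card K₀ / 2, by omega⟩
      rw [hj]
      have e1 : (2 * j + 1) ^ 2 / 2 = 2 * j * (j + 1) := by
        have : (2 * j + 1) ^ 2 = 2 * (2 * j * (j + 1)) + 1 := by ring
        rw [this]; omega
      have e2 : (2 * j + 1 + 1) / 2 = j + 1 := by omega
      rw [e1, e2, Nat.add_sub_cancel]
    rw [hexp, pow_mul, h1', one_pow]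
  obtain ⟨lam, hlam⟩ := hsq
  have hlam0 : lam ≠ 0 := by
    rintro rfl
    rw [mul_zero] at hlam
    exact hνF0 hlam
  have hlamK : lam ∉ K₀ := by
    intro h
    apply hν
    refine ⟨⟨lam, h⟩, ?_⟩
    apply Subtype.ext
    exact hlam
  intro heq
  have hd : dSL lam hlam0 ∈ subfieldSL K₀ := by
    refine ⟨lam, hlam0, fun i j => ?_⟩
    change lam * (!![lam, 0; 0, lam⁻¹] : Matrix (Fin 2) (Fin 2) F) i j ∈ K₀
    fin_cases i <;> fin_cases j
    · simp only [Fin.zero_eta, Fin.isValue, Matrix.of_apply, Matrix.cons_val', Matrix.cons_val_zero,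
        Matrix.cons_val_fin_one]
      rw [← hlam]; exact SetLike.coe_mem _
    · simp
    · simp
    · simp [hlam0]
  rw [← heq] at hd
  obtain ⟨y, hy⟩ := hd
  have := congrArg (fun A : SpecialLinearGroup (Fin 2) F => (A : Matrix (Fin 2) (Fin 2) F) 0 0) hy
  simp only [inclSL_apply] at this
  apply hlamK
  have h00 : ((dSL lam hlam0 : SpecialLinearGroup (Fin 2) F) : Matrix (Fin 2) (Fin 2) F) 0 0 = lam :=
    rfl
  rw [h00] at this
  rw [← this]
  exact SetLike.coe_mem _

end Cfsg.Agent.Lib.Helper13.PairNF
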