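/-
helper13: a maximal subgroup normalising a Sylow subgroup is not maximal when a larger proper
subgroup has a Sylow normaliser that is at least as large.
-/
import Mathlib

set_option autoImplicit false

namespace Cfsg.Agent.Lib.Helper13.SylowOver

open Subgroup

variable {G : Type*} [Group G] [Finite G]

theorem factorization_eq_of_pow {r a n : ℕ} (hr : r.Prime) (hn : n ≠ 0) (h1 : r ^ a ∣ n)
    (h2 : ¬ r ^ (a + 1) ∣ n) : n.factorization r = a := by
  have h3 := (hr.pow_dvd_iff_le_factorization hn).mp h1
  have h4 : ¬ a + 1 ≤ n.factorization r := fun h => h2 ((hr.pow_dvd_iff_le_factorization hn).mpr h)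
  omega

/-- The order of the normaliser of a Sylow subgroup. -/
theorem card_normalizer_sylow {r : ℕ} [Fact r.Prime] (S : Type*) [Group S] [Finite S]
    (Q : Sylow r S) :
    Nat.card (normalizer (Q : Set S)) * Nat.card (Sylow r S) = Nat.card S := by
  rw [Sylow.card_eq_index_normalizer Q]
  exact Subgroup.card_mul_index _

theorem main [IsSimpleGroup G] (M : Subgroup G) (hM : IsCoatom M) (r a m : ℕ) [Fact r.Prime]
    (hMcard : Nat.card M = r ^ a * m) (ha : 0 < a) (hG : ¬ r ^ (a + 1) ∣ Nat.card G)
    (hm : ∀ d, d ∣ m → d ≡ 1 [MOD r] → d = 1)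
    (S : Subgroup G) (hS : r ^ a ∣ Nat.card S) (hlt : Nat.card M < Nat.card S)
    (hStop : Nat.card S < Nat.card G)
    (hn : ∀ d, d ∣ Nat.card S / r ^ a → d ≡ 1 [MOD r] → Nat.card M * d ≤ Nat.card S) : False := by
  have hr : r.Prime := Fact.out
  have hGne : Nat.card G ≠ 0 := Nat.card_pos.ne'
  have hMne : Nat.card M ≠ 0 := Nat.card_pos.ne'
  have hSne : Nat.card S ≠ 0 := Nat.card_pos.ne'
  have hMG : Nat.card M ∣ Nat.card G := Subgroup.card_subgroup_dvd_card M
  have hSG : Nat.card S ∣ Nat.card G := Subgroup.card_subgroup_dvd_card S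
  have hraM : r ^ a ∣ Nat.card M := ⟨m, hMcard⟩
  have hvG : (Nat.card G).factorization r = a :=
    factorization_eq_of_pow hr hGne (dvd_trans hraM hMG) hG
  have hvM : (Nat.card M).factorization r = a :=
    factorization_eq_of_pow hr hMne hraM (fun h => hG (dvd_trans h hMG))
  have hvS : (Nat.card S).factorization r = a :=
    factorization_eq_of_pow hr hSne hS (fun h => hG (dvd_trans h hSG))
  have hrpos : 0 < r ^ a := pow_pos hr.pos a
  -- the Sylow subgroup of `M`
  obtain ⟨PM⟩ : Nonempty (Sylow r M) := inferInstance
  have hPMcard : Nat.card (PM : Subgroup M) = r ^ a := by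
    rw [Sylow.card_eq_multiplicity, hvM]
  have hPMnorm : normalizer ((PM : Subgroup M) : Set M) = ⊤ := by
    rw [← Subgroup.index_eq_one]
    have hidx := Sylow.card_eq_index_normalizer PM
    change _ = (normalizer ((PM : Subgroup M) : Set M)).index at hidx
    rw [← hidx]
    apply hm
    · have h1 := Sylow.card_dvd_index PM
      have h2 : (PM : Subgroup M).index = m := by
        have := Subgroup.card_mul_index (PM : Subgroup M)
        rw [hPMcard, hMcard] at this
        exact Nat.eq_of_mul_eq_mul_left hrpos this
      rwa [h2] at h1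
    · exact card_sylow_modEq_one r M
  set P : Subgroup G := (PM : Subgroup M).map M.subtype with hP
  have hPcard : Nat.card P = r ^ a := by
    rw [hP, Subgroup.card_map_of_injective M.subtype_injective, hPMcard]
  have hMleN : M ≤ normalizer (P : Set G) := by
    have := Subgroup.le_normalizer_map (H := (PM : Subgroup M)) M.subtype
    rw [hPMnorm, ← MonoidHom.range_eq_map, Subgroup.range_subtype] at this
    exact this
  have hNtop : normalizer (P : Set G) ≠ ⊤ := by
    intro htop
    have hnormal : P.Normal := Subgroup.normalizer_eq_top_iff.mp htop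
    rcases hnormal.eq_bot_or_eq_top with hb | ht
    · rw [hb, Subgroup.card_bot] at hPcard
      have : 1 < r ^ a := Nat.one_lt_pow ha.ne' hr.one_lt
      omega
    · have hle : Nat.card P ≤ Nat.card M := by
        rw [hPcard, hMcard]
        exact Nat.le_mul_of_pos_right _ (Nat.pos_of_ne_zero (by
          intro h0; rw [h0, mul_zero] at hMcard; exact hMne hMcard))
      rw [ht, Subgroup.card_top] at hle
      omega
  have hNM : normalizer (P : Set G) = M := (hM.le_iff.mp hMleN).resolve_left hNtop
  -- the Sylow subgroup of `S`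
  obtain ⟨QS⟩ : Nonempty (Sylow r S) := inferInstance
  have hQScard : Nat.card (QS : Subgroup S) = r ^ a := by
    rw [Sylow.card_eq_multiplicity, hvS]
  set Q : Subgroup G := (QS : Subgroup S).map S.subtype with hQ
  have hQcard : Nat.card Q = r ^ a := by
    rw [hQ, Subgroup.card_map_of_injective S.subtype_injective, hQScard]
  -- both are Sylow subgroups of `G`
  let P' : Sylow r G := Sylow.ofCard P (by rw [hPcard, hvG])
  let Q' : Sylow r G := Sylow.ofCard Q (by rw [hQcard, hvG])
  obtain ⟨g, hg⟩ := MulAction.exists_smul_eq G P' Q'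
  have hgPQ : P.map (MulAut.conj g).toMonoidHom = Q := by
    have h1 : ((g • P' : Sylow r G) : Subgroup G) = (Q' : Subgroup G) := by rw [hg]
    rw [Sylow.smul_def, Sylow.pointwise_smul_def, Subgroup.pointwise_smul_def] at h1
    exact h1
  -- the normaliser of `Q` is a conjugate of `M`
  set M' : Subgroup G := M.map (MulAut.conj g).toMonoidHom with hM'
  have hNQ : normalizer (Q : Set G) = M' := by
    rw [← hgPQ, ← Subgroup.map_normalizer_eq_of_bijective P (MulAut.conj g).bijective, hNM]
  have hM'card : Nat.card M' = Nat.card M :=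
    Subgroup.card_map_of_injective (MulAut.conj g).injective
  have hM'co : IsCoatom M' := by
    have := (OrderIso.isCoatom_iff (MulEquiv.mapSubgroup (MulAut.conj g)) M).mpr hM
    exact this
  -- the normaliser of `QS` in `S`
  set K : Subgroup S := normalizer ((QS : Subgroup S) : Set S) with hK
  have hKcard : Nat.card M ≤ Nat.card K := by
    have h1 := card_normalizer_sylow S QS
    have h2 := hn (Nat.card (Sylow r S)) ?_ (card_sylow_modEq_one r S)
    · rw [← h1, mul_comm (Nat.card M)] at h2
      have hpos : 0 < Nat.card (Sylow r S) := Nat.card_pos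
      exact Nat.le_of_mul_le_mul_left (by rw [mul_comm _ (Nat.card ↥K)]; exact h2) hpos
    · have h3 := Sylow.card_dvd_index QS
      have h4 : (QS : Subgroup S).index = Nat.card S / r ^ a := by
        have := Subgroup.card_mul_index (QS : Subgroup S)
        rw [hQScard] at this
        rw [← this, Nat.mul_div_cancel_left _ hrpos]
      rwa [h4] at h3
  set K' : Subgroup G := K.map S.subtype with hK'
  have hK'card : Nat.card K' = Nat.card K := Subgroup.card_map_of_injective S.subtype_injective
  have hK'S : K' ≤ S := by
    rintro _ ⟨x, -, rfl⟩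
    exact x.2
  have hK'M' : K' ≤ M' := by
    rw [← hNQ]
    exact Subgroup.le_normalizer_map S.subtype
  have hK'eq : K' = M' := by
    apply Subgroup.eq_of_le_of_card_ge hK'M'
    rw [hK'card, hM'card]
    exact hKcard
  have hM'S : M' ≤ S := hK'eq ▸ hK'S
  rcases hM'co.le_iff.mp hM'S with h | h
  · rw [h, Subgroup.card_top] at hStop
    omega
  · rw [h, hM'card] at hlt
    omega

end Cfsg.Agent.Lib.Helper13.SylowOver
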