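/-
helper13: a group containing a copy of `S₄` has a non-abelian `2`-subgroup.
-/
import Mathlib
import Cfsg.Agent.Lib.Helper13.SL2OrderFour

set_option autoImplicit false

namespace Cfsg.Agent.Lib.Helper13

theorem perm_four_facts :
    (finRotate 4) ^ 4 = (1 : Equiv.Perm (Fin 4)) ∧
    (Equiv.swap (0 : Fin 4) 2) ^ 2 = (1 : Equiv.Perm (Fin 4)) ∧
    Equiv.swap (0 : Fin 4) 2 * finRotate 4 * (Equiv.swap (0 : Fin 4) 2)⁻¹ = (finRotate 4)⁻¹ ∧
    finRotate 4 * Equiv.swap (0 : Fin 4) 2 ≠ Equiv.swap (0 : Fin 4) 2 * finRotate 4 := by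
  refine ⟨by decide, by decide, by decide, by decide⟩

/-- Two elements `x`, `y` with `x⁴ = 1`, `y² = 1`, `y x y⁻¹ = x⁻¹` generate a `2`-group. -/
theorem isPGroup_two_sup_zpowers {G : Type*} [Group G] (x y : G) (hx : x ^ 4 = 1) (hy : y ^ 2 = 1)
    (hyx : y * x * y⁻¹ = x⁻¹) : IsPGroup 2 (Subgroup.zpowers y ⊔ Subgroup.zpowers x : Subgroup G) := by
  have hX : IsPGroup 2 (Subgroup.zpowers x) := by
    obtain ⟨j, -, hj⟩ := (Nat.dvd_prime_pow Nat.prime_two).mp
      (orderOf_dvd_of_pow_eq_one (show x ^ (2 ^ 2) = 1 from hx))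
    exact IsPGroup.of_card (n := j) (by rw [Nat.card_zpowers]; exact hj)
  have hY : IsPGroup 2 (Subgroup.zpowers y) := by
    obtain ⟨j, -, hj⟩ := (Nat.dvd_prime_pow Nat.prime_two).mp
      (orderOf_dvd_of_pow_eq_one (show y ^ (2 ^ 1) = 1 from hy))
    exact IsPGroup.of_card (n := j) (by rw [Nat.card_zpowers]; exact hj)
  have hN : Subgroup.zpowers y ≤ Subgroup.normalizer ((Subgroup.zpowers x : Subgroup G) : Set G) := by
    rw [Subgroup.zpowers_le, Subgroup.mem_normalizer_iff_map_conj_eq]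
    change (Subgroup.zpowers x).map (MulAut.conj y).toMonoidHom = Subgroup.zpowers x
    rw [map_conj_zpowers, hyx, Subgroup.zpowers_inv]
  exact hY.to_sup_of_normal_right' hX hN

theorem exists_noncomm_two_group_of_equiv_perm_four {G : Type*} [Group G] (H : Subgroup G)
    (e : ↥H ≃* Equiv.Perm (Fin 4)) :
    ∃ D : Subgroup G, IsPGroup 2 D ∧ ∃ a ∈ D, ∃ b ∈ D, a * b ≠ b * a := by
  obtain ⟨h1, h2, h3, h4⟩ := perm_four_facts
  set x : G := (e.symm (finRotate 4) : G) with hx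
  set y : G := (e.symm (Equiv.swap (0 : Fin 4) 2) : G) with hy
  have hx4 : x ^ 4 = 1 := by
    rw [hx, ← Subgroup.coe_pow, ← map_pow, h1, map_one, Subgroup.coe_one]
  have hy2 : y ^ 2 = 1 := by
    rw [hy, ← Subgroup.coe_pow, ← map_pow, h2, map_one, Subgroup.coe_one]
  have hyx : y * x * y⁻¹ = x⁻¹ := by
    rw [hx, hy, ← Subgroup.coe_inv, ← Subgroup.coe_inv, ← Subgroup.coe_mul, ← Subgroup.coe_mul,
      ← map_inv, ← map_inv, ← map_mul, ← map_mul, h3]
  refine ⟨_, isPGroup_two_sup_zpowers x y hx4 hy2 hyx, x,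
    Subgroup.mem_sup_right (Subgroup.mem_zpowers x), y,
    Subgroup.mem_sup_left (Subgroup.mem_zpowers y), ?_⟩
  intro h
  apply h4
  apply e.symm.injective
  apply Subtype.ext
  rw [map_mul, map_mul, Subgroup.coe_mul, Subgroup.coe_mul]
  exact h

end Cfsg.Agent.Lib.Helper13
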