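/-
helper13: `A₄` inside `PSL₂(F)`: non-existence for `q = 2^n`, `n` odd.
-/
import Mathlib
import Cfsg.Agent.Lib.Helper13.SL2Redundant
import Cfsg.Agent.Lib.Helper13.PermFourTwoGroup
import Cfsg.Agent.Lib.Helper13.KleinSelfCentralizing
import Cfsg.Agent.S0228
import Cfsg.Agent.S1012

set_option autoImplicit false

namespace Cfsg.Agent.Lib.Helper13

open Matrix

section chartwo

variable {F : Type*} [Field F] [Fintype F]

theorem two_pow_odd_mod_three (n : ℕ) (hn : Odd n) : 2 ^ n % 3 = 2 := by
  obtain ⟨m, rfl⟩ := hn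
  rw [pow_succ, pow_mul, Nat.mul_mod, Nat.pow_mod]
  norm_num

/-- In `SL₂(2^n)`, `n` odd, an element of order dividing `3` that conjugates an involution `v` to
an involution commuting with `v` is trivial. -/
theorem eq_one_of_cube_of_conj_comm_char_two [CharP F 2] (n : ℕ) (hn : Odd n)
    (hF : Fintype.card F = 2 ^ n) (v c : SpecialLinearGroup (Fin 2) F) (hv : v * v = 1)
    (hv1 : v ≠ 1) (hc3 : c * c * c = 1) (hcomm : (c * v * c⁻¹) * v = v * (c * v * c⁻¹)) :
    c = 1 := by
  have : Fact (Nat.Prime 2) := ⟨Nat.prime_two⟩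
  set w := c * v * c⁻¹ with hw
  have hw2 : w ^ 2 = 1 := by
    rw [hw, conj_pow, pow_two, hv]; group
  have hv4 : v ^ 4 = 1 := by
    calc v ^ 4 = (v * v) * (v * v) := by
          rw [pow_succ, pow_succ, pow_succ, pow_one, mul_assoc, mul_assoc]
      _ = 1 := by rw [hv, mul_one]
  have hvinv : v⁻¹ = v := inv_eq_of_mul_eq_one_left hv
  have hwv : w * v * w⁻¹ = v⁻¹ := by
    rw [hcomm, mul_inv_cancel_right, hvinv]
  have hD := isPGroup_two_sup_zpowers v w hv4 hw2 hwv
  obtain ⟨P, hP⟩ := hD.exists_le_sylow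
  obtain ⟨U, hU⟩ := exists_sylow_eq_range_tSLHom (K := F) 2
  obtain ⟨g, hg⟩ := sylow_conj_exists U P
  have hvP : v ∈ (P : Subgroup (SpecialLinearGroup (Fin 2) F)) :=
    hP (Subgroup.mem_sup_right (Subgroup.mem_zpowers v))
  have hwP : w ∈ (P : Subgroup (SpecialLinearGroup (Fin 2) F)) :=
    hP (Subgroup.mem_sup_left (Subgroup.mem_zpowers w))
  rw [hg, hU] at hvP hwP
  obtain ⟨u, ⟨t, rfl⟩, hu⟩ := hvP
  obtain ⟨u', hu'U, hu'⟩ := hwP
  have hu1 : g * tSLHom t * g⁻¹ = v := hu
  have hu'1 : g * u' * g⁻¹ = w := hu'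
  have hb : Multiplicative.toAdd t ≠ 0 := by
    intro h0
    apply hv1
    rw [← hu1]
    have : tSLHom t = (1 : SpecialLinearGroup (Fin 2) F) := by
      change tSL (Multiplicative.toAdd t) = 1
      rw [h0]; exact tSL_zero
    rw [this]; group
  set k := g⁻¹ * c * g with hk
  have hkconj : k * tSL (Multiplicative.toAdd t) * k⁻¹ ∈ (tSLHom (K := F)).range := by
    have : k * tSL (Multiplicative.toAdd t) * k⁻¹ = u' := by
      have e1 : tSL (Multiplicative.toAdd t) = g⁻¹ * v * g := by
        rw [← hu1]; change tSLHom t = _; group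
      have e2 : u' = g⁻¹ * w * g := by rw [← hu'1]; group
      rw [e1, e2, hk, hw]; group
    rw [this]; exact hu'U
  have hupper := upper_of_conj_tSL_mem k _ hb hkconj
  have hk3 : k * k * k = 1 := by
    calc k * k * k = g⁻¹ * (c * c * c) * g := by rw [hk]; group
      _ = 1 := by rw [hc3]; group
  -- diagonal entry
  set α := (k : Matrix (Fin 2) (Fin 2) F) 0 0 with hα
  have hdet := k.2
  rw [Matrix.det_fin_two, hupper, mul_zero, sub_zero] at hdet
  have hα3 : α ^ 3 = 1 := by
    have h1 := congrArg (fun x : SpecialLinearGroup (Fin 2) F =>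
      (x : Matrix (Fin 2) (Fin 2) F) 0 0) hk3
    simp only [coe_mul_SL, Matrix.mul_apply, Fin.sum_univ_two, hupper, mul_zero, add_zero] at h1
    rw [← hα] at h1
    have : ((1 : SpecialLinearGroup (Fin 2) F) : Matrix (Fin 2) (Fin 2) F) 0 0 = 1 := by simp
    rw [this] at h1
    rw [← h1]; ring
  have hα0 : α ≠ 0 := by
    intro h0
    rw [h0] at hα3
    simp at hα3
  have hαq : α ^ (Fintype.card F - 1) = 1 := FiniteField.pow_card_sub_one_eq_one α hα0
  have hgcd : Nat.gcd 3 (Fintype.card F - 1) = 1 := by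
    have h2 := two_pow_odd_mod_three n hn
    rw [hF]
    have hpos : 1 ≤ 2 ^ n := Nat.one_le_two_pow
    rw [← Nat.coprime_iff_gcd_eq_one, Nat.Prime.coprime_iff_not_dvd Nat.prime_three]
    omega
  have hα1 : α = 1 := by
    have := pow_gcd_eq_one.mpr ⟨hα3, hαq⟩
    rwa [hgcd, pow_one] at this
  have hδ1 : (k : Matrix (Fin 2) (Fin 2) F) 1 1 = 1 := by
    rw [← hα, hα1, one_mul] at hdet
    exact hdet
  have hkt : k = tSL ((k : Matrix (Fin 2) (Fin 2) F) 0 1) := by
    apply Subtype.ext
    rw [tSL_coe]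
    ext i j
    fin_cases i <;> fin_cases j
    · exact hα1
    · rfl
    · exact hupper
    · exact hδ1
  have hkk : k * k = 1 := by
    rw [hkt, tSL_mul, CharTwo.add_self_eq_zero, tSL_zero]
  have hk1 : k = 1 := by
    rw [hkk, one_mul] at hk3
    exact hk3
  have : c = g * k * g⁻¹ := by rw [hk]; group
  rw [this, hk1]; group


theorem alt_four_facts :
    ∃ v c : alternatingGroup (Fin 4), v * v = 1 ∧ v ≠ 1 ∧ c * c * c = 1 ∧ c ≠ 1 ∧
      (c * v * c⁻¹) * v = v * (c * v * c⁻¹) := by
  refine ⟨⟨Equiv.swap (0 : Fin 4) 1 * Equiv.swap (2 : Fin 4) 3,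
      by rw [Equiv.Perm.mem_alternatingGroup]; decide⟩,
    ⟨Equiv.swap (0 : Fin 4) 1 * Equiv.swap (1 : Fin 4) 2,
      by rw [Equiv.Perm.mem_alternatingGroup]; decide⟩, ?_, ?_, ?_, ?_, ?_⟩ <;> decide

omit [Fintype F] in
theorem zSL_eq_one_of_char_two [CharP F 2] : zSL F = 1 := by
  apply Subtype.ext
  rw [zSL_coe]
  ext i j
  fin_cases i <;> fin_cases j <;> simp [CharTwo.neg_eq]

omit [Fintype F] in
theorem mk_injective_of_char_two [CharP F 2] :
    Function.Injective (QuotientGroup.mk' (Subgroup.center (SpecialLinearGroup (Fin 2) F))) := by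
  intro x y h
  have h1 : x⁻¹ * y ∈ Subgroup.center (SpecialLinearGroup (Fin 2) F) := QuotientGroup.eq.mp h
  rcases center_cases _ h1 with h2 | h2
  · exact inv_mul_eq_one.mp h2
  · rw [zSL_eq_one_of_char_two] at h2
    exact inv_mul_eq_one.mp h2

/-- `PSL₂(2^n)`, `n` odd, has no subgroup isomorphic to `A₄`. -/
theorem no_alt_four_PSL2_char_two [CharP F 2] (n : ℕ) (hn : Odd n)
    (hF : Fintype.card F = 2 ^ n) (H : Subgroup (ProjectiveSpecialLinearGroup (Fin 2) F))
    (e : ↥H ≃* alternatingGroup (Fin 4)) : False := by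
  obtain ⟨v₀, c₀, hvv, hv1, hc3, hc1, hcomm⟩ := alt_four_facts
  let f : alternatingGroup (Fin 4) →* ProjectiveSpecialLinearGroup (Fin 2) F :=
    H.subtype.comp e.symm.toMonoidHom
  have hf : Function.Injective f :=
    (Subgroup.subtype_injective H).comp e.symm.injective
  have hπ := mk_injective_of_char_two (F := F)
  obtain ⟨v, hv⟩ := QuotientGroup.mk'_surjective
    (Subgroup.center (SpecialLinearGroup (Fin 2) F)) (f v₀)
  obtain ⟨c, hc⟩ := QuotientGroup.mk'_surjective
    (Subgroup.center (SpecialLinearGroup (Fin 2) F)) (f c₀)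
  have h1 : v * v = 1 := by
    apply hπ
    rw [map_mul, hv, ← map_mul, hvv, map_one, map_one]
  have h2 : v ≠ 1 := by
    intro h
    apply hv1
    apply hf
    rw [← hv, h, map_one, map_one]
  have h3 : c * c * c = 1 := by
    apply hπ
    rw [map_mul, map_mul, hc, ← map_mul, ← map_mul, hc3, map_one, map_one]
  have h4 : (c * v * c⁻¹) * v = v * (c * v * c⁻¹) := by
    apply hπ
    simp only [map_mul, map_inv, hv, hc]
    have := congrArg f hcomm
    simpa only [map_mul, map_inv] using this
  have h5 := eq_one_of_cube_of_conj_comm_char_two n hn hF v c h1 h2 h3 h4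
  apply hc1
  apply hf
  rw [← hc, h5, map_one, map_one]

end chartwo

section oddcase

/-- The normalizer (of order divisible by `3`) of a self-centralizing Klein four-group has no
central involution. -/
theorem no_central_involution_normalizer_klein {G : Type*} [Group G] (V : Subgroup G)
    (hV : IsKleinFour V) (hC : Subgroup.centralizer (V : Set G) = V)
    [Finite (Subgroup.normalizer (V : Set G))]
    (h3 : 3 ∣ Nat.card (Subgroup.normalizer (V : Set G)))
    (z : Subgroup.normalizer (V : Set G)) (hz : orderOf z = 2) :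
    z ∉ Subgroup.center (Subgroup.normalizer (V : Set G)) := by
  intro hzc
  have hF3 : Fact (Nat.Prime 3) := ⟨Nat.prime_three⟩
  rw [Subgroup.mem_center_iff] at hzc
  have hzV : (z : G) ∈ V := by
    have hzC : (z : G) ∈ Subgroup.centralizer (V : Set G) := by
      rw [Subgroup.mem_centralizer_iff]
      intro v hv
      have := hzc ⟨v, Subgroup.le_normalizer hv⟩
      exact congrArg Subtype.val this
    rw [hC] at hzC
    exact hzC
  have hzV' : (z : G) ∈ V := by
    have hzC : (z : G) ∈ Subgroup.centralizer (V : Set G) := by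
     rw [Subgroup.mem_centralizer_iff]
     intro v hv
     have := hzc ⟨v, Subgroup.le_normalizer hv⟩
     exact congrArg Subtype.val this
    rw [hC] at hzC
    exact hzC
  have hz1 : (z : G) ≠ 1 := by
    intro h
    have : z = 1 := Subtype.ext h
    rw [this, orderOf_one] at hz
    omega
  obtain ⟨c, hc⟩ := exists_prime_orderOf_dvd_card' 3 h3
  have hc3 : (c : G) * c * c = 1 := by
    have : c ^ 3 = 1 := by rw [← hc]; exact pow_orderOf_eq_one c
    have h := congrArg Subtype.val this
    rw [Subgroup.coe_pow, Subgroup.coe_one, pow_succ, pow_succ, pow_one] at h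
    exact h
  have hc2 : (c : G) * c ≠ 1 := by
    intro h
    have : c ^ 2 = 1 := by
      apply Subtype.ext
      rw [Subgroup.coe_pow, Subgroup.coe_one, pow_two]
      exact h
    have := orderOf_dvd_of_pow_eq_one this
    rw [hc] at this
    omega
  apply klein_no_fixed_point V hV hC (c : G) c.2 hc3 hc2 (z : G) hzV hz1
  have := congrArg Subtype.val (hzc c)
  rw [Subgroup.coe_mul, Subgroup.coe_mul] at this
  rw [this, mul_inv_cancel_right]

end oddcase

end Cfsg.Agent.Lib.Helper13
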