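/-
helper13: `A₄` inside `PSL₂(F)` for `q = 2^n`, `n` even: the Borel subgroup of `SL₂(𝔽₄)`.
-/
import Mathlib
import Cfsg.Agent.Lib.Helper13.PSL2AltFour

set_option autoImplicit false

namespace Cfsg.Agent.Lib.Helper13

open Matrix

section chartwo

variable {F : Type*} [Field F]

/-- The subgroup `{[[a, b], [0, a⁻¹]] : a³ = 1, b⁴ = b}` of `SL₂(F)`, `char F = 2`. -/
def borelFour (F : Type*) [Field F] [CharP F 2] : Subgroup (SpecialLinearGroup (Fin 2) F) where
  carrier := {g | (g : Matrix (Fin 2) (Fin 2) F) 1 0 = 0 ∧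
    (g : Matrix (Fin 2) (Fin 2) F) 0 0 ^ 3 = 1 ∧
    (g : Matrix (Fin 2) (Fin 2) F) 0 1 ^ 4 = (g : Matrix (Fin 2) (Fin 2) F) 0 1}
  one_mem' := by
    refine ⟨?_, ?_, ?_⟩ <;> simp
  mul_mem' := by
    rintro g h ⟨hg10, hg00, hg01⟩ ⟨hh10, hh00, hh01⟩
    have hdh := h.2
    rw [Matrix.det_fin_two, hh10, mul_zero, sub_zero] at hdh
    have hh11 : (h : Matrix (Fin 2) (Fin 2) F) 1 1 ^ 3 = 1 := by
      have : ((h : Matrix (Fin 2) (Fin 2) F) 0 0 * (h : Matrix (Fin 2) (Fin 2) F) 1 1) ^ 3 = 1 := by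
        rw [hdh, one_pow]
      rw [mul_pow, hh00, one_mul] at this
      exact this
    refine ⟨?_, ?_, ?_⟩
    · simp [Matrix.mul_apply, Fin.sum_univ_two, hg10, hh10]
    · simp only [coe_mul_SL, Matrix.mul_apply, Fin.sum_univ_two, hh10, mul_zero, add_zero]
      rw [mul_pow, hg00, hh00, one_mul]
    · simp only [coe_mul_SL, Matrix.mul_apply, Fin.sum_univ_two]
      have h4 : ∀ x y : F, (x + y) ^ 4 = x ^ 4 + y ^ 4 := by
        intro x y
        have := add_pow_char_pow (R := F) (p := 2) (n := 2) x y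
        simpa using this
      have e1 : (g : Matrix (Fin 2) (Fin 2) F) 0 0 ^ 4 = (g : Matrix (Fin 2) (Fin 2) F) 0 0 := by
        rw [pow_succ, hg00, one_mul]
      have e2 : (h : Matrix (Fin 2) (Fin 2) F) 1 1 ^ 4 = (h : Matrix (Fin 2) (Fin 2) F) 1 1 := by
        rw [pow_succ, hh11, one_mul]
      rw [h4, mul_pow, mul_pow, e1, e2, hg01, hh01]
  inv_mem' := by
    rintro g ⟨hg10, hg00, hg01⟩
    have hdg := g.2
    rw [Matrix.det_fin_two, hg10, mul_zero, sub_zero] at hdg
    have hg11 : (g : Matrix (Fin 2) (Fin 2) F) 1 1 ^ 3 = 1 := by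
      have : ((g : Matrix (Fin 2) (Fin 2) F) 0 0 * (g : Matrix (Fin 2) (Fin 2) F) 1 1) ^ 3 = 1 := by
        rw [hdg, one_pow]
      rw [mul_pow, hg00, one_mul] at this
      exact this
    have hinv : ((g⁻¹ : SpecialLinearGroup (Fin 2) F) : Matrix (Fin 2) (Fin 2) F) =
        Matrix.adjugate (g : Matrix (Fin 2) (Fin 2) F) := Matrix.SpecialLinearGroup.coe_inv g
    refine ⟨?_, ?_, ?_⟩
    · rw [hinv, Matrix.adjugate_fin_two]; simp [hg10]
    · rw [hinv, Matrix.adjugate_fin_two]; simpa using hg11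
    · rw [hinv, Matrix.adjugate_fin_two]
      simp only [of_apply, cons_val', cons_val_zero, cons_val_one, cons_val_fin_one]
      rw [neg_pow, hg01]
      norm_num
      exact (CharTwo.neg_eq _).symm

end chartwo

section count

variable {F : Type*} [Field F] [CharP F 2]

/-- `borelFour F` is in bijection with pairs `(a, b)`, `a³ = 1`, `b⁴ = b`. -/
noncomputable def borelFourEquiv : ↥(borelFour F) ≃ {a : F // a ^ 3 = 1} × {b : F // b ^ 4 = b} where
  toFun g := (⟨((g : SpecialLinearGroup (Fin 2) F) : Matrix (Fin 2) (Fin 2) F) 0 0, g.2.2.1⟩,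
    ⟨((g : SpecialLinearGroup (Fin 2) F) : Matrix (Fin 2) (Fin 2) F) 0 1, g.2.2.2⟩)
  invFun p := ⟨⟨!![(p.1 : F), (p.2 : F); 0, (p.1 : F) ^ 2], by
      rw [Matrix.det_fin_two]
      simp only [of_apply, cons_val', cons_val_zero, cons_val_one, cons_val_fin_one]
      have := p.1.2
      linear_combination this⟩, by
      refine ⟨?_, ?_, ?_⟩
      · simp
      · simpa using p.1.2
      · simpa using p.2.2⟩
  left_inv g := by
    apply Subtype.ext
    apply Subtype.ext
    have h10 : ((g : SpecialLinearGroup (Fin 2) F) : Matrix (Fin 2) (Fin 2) F) 1 0 = 0 := g.2.1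
    have h00 : ((g : SpecialLinearGroup (Fin 2) F) : Matrix (Fin 2) (Fin 2) F) 0 0 ^ 3 = 1 := g.2.2.1
    have hd := (g : SpecialLinearGroup (Fin 2) F).2
    rw [Matrix.det_fin_two, h10, mul_zero, sub_zero] at hd
    have h11 : ((g : SpecialLinearGroup (Fin 2) F) : Matrix (Fin 2) (Fin 2) F) 0 0 ^ 2 =
        ((g : SpecialLinearGroup (Fin 2) F) : Matrix (Fin 2) (Fin 2) F) 1 1 := by
      linear_combination
        (((g : SpecialLinearGroup (Fin 2) F) : Matrix (Fin 2) (Fin 2) F) 1 1) * h00 -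
        (((g : SpecialLinearGroup (Fin 2) F) : Matrix (Fin 2) (Fin 2) F) 0 0 ^ 2) * hd
    ext i j
    fin_cases i <;> fin_cases j <;> simp [h10, h11]
  right_inv p := by
    obtain ⟨⟨a, ha⟩, ⟨b, hb⟩⟩ := p
    simp

variable [Fintype F]

omit [CharP F 2] in
theorem card_cube_roots_of_primitive (ω : F) (hω : IsPrimitiveRoot ω 3) :
    Nat.card {a : F // a ^ 3 = 1} = 3 := by
  classical
  rw [Nat.card_eq_fintype_card, Fintype.card_subtype]
  have : (Finset.univ.filter (fun a : F => a ^ 3 = 1)) = Polynomial.nthRootsFinset 3 (1 : F) := by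
    ext a
    rw [Finset.mem_filter, Polynomial.mem_nthRootsFinset (by norm_num)]
    simp
  rw [this, hω.card_nthRootsFinset]

omit [CharP F 2] in
theorem card_fourth_roots_of_primitive (ω : F) (hω : IsPrimitiveRoot ω 3) :
    Nat.card {b : F // b ^ 4 = b} = 4 := by
  classical
  rw [Nat.card_eq_fintype_card, Fintype.card_subtype]
  have : (Finset.univ.filter (fun b : F => b ^ 4 = b)) =
      insert 0 (Polynomial.nthRootsFinset 3 (1 : F)) := by
    ext b
    rw [Finset.mem_filter, Finset.mem_insert, Polynomial.mem_nthRootsFinset (by norm_num)]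
    simp only [Finset.mem_univ, true_and]
    constructor
    · intro h
      by_cases hb : b = 0
      · exact Or.inl hb
      · right
        have h1 : b * (b ^ 3 - 1) = 0 := by linear_combination h
        rcases mul_eq_zero.mp h1 with h2 | h2
        · exact absurd h2 hb
        · linear_combination h2
    · rintro (h | h)
      · rw [h]; norm_num
      · rw [pow_succ, h, one_mul]
  rw [this, Finset.card_insert_of_notMem, hω.card_nthRootsFinset]
  rw [Polynomial.mem_nthRootsFinset (by norm_num)]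
  norm_num

theorem card_borelFour (ω : F) (hω : IsPrimitiveRoot ω 3) : Nat.card ↥(borelFour F) = 12 := by
  rw [Nat.card_congr borelFourEquiv, Nat.card_prod, card_cube_roots_of_primitive ω hω,
    card_fourth_roots_of_primitive ω hω]

theorem no_central_involution_borelFour (ω : F) (hω : IsPrimitiveRoot ω 3)
    (z : ↥(borelFour F)) (hz : orderOf z = 2) : z ∉ Subgroup.center ↥(borelFour F) := by
  intro hzc
  rw [Subgroup.mem_center_iff] at hzc
  have hω3 : ω ^ 3 = 1 := hω.pow_eq_one
  have hω1 : ω ≠ 1 := hω.ne_one (by norm_num)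
  have hω0 : ω ≠ 0 := by
    intro h
    rw [h] at hω3
    norm_num at hω3
  set d : ↥(borelFour F) := borelFourEquiv.symm (⟨ω, hω3⟩, ⟨0, by norm_num⟩) with hd
  have hzd := hzc d
  have hzz : z * z = 1 := by
    have := pow_orderOf_eq_one z
    rw [hz, pow_two] at this
    exact this
  have hz1 : z ≠ 1 := by
    intro h
    rw [h, orderOf_one] at hz
    omega
  set a := ((z : SpecialLinearGroup (Fin 2) F) : Matrix (Fin 2) (Fin 2) F) 0 0 with ha
  set b := ((z : SpecialLinearGroup (Fin 2) F) : Matrix (Fin 2) (Fin 2) F) 0 1 with hb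
  have h10 : ((z : SpecialLinearGroup (Fin 2) F) : Matrix (Fin 2) (Fin 2) F) 1 0 = 0 := z.2.1
  have ha3 : a ^ 3 = 1 := z.2.2.1
  have hdet := (z : SpecialLinearGroup (Fin 2) F).2
  rw [Matrix.det_fin_two, h10, mul_zero, sub_zero, ← ha] at hdet
  -- `a² = 1`
  have ha2 : a * a = 1 := by
    have h1 := congrArg (fun g : ↥(borelFour F) =>
      ((g : SpecialLinearGroup (Fin 2) F) : Matrix (Fin 2) (Fin 2) F) 0 0) hzz
    simp only [Subgroup.coe_mul, coe_mul_SL, Matrix.mul_apply, Fin.sum_univ_two, h10, mul_zero,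
      add_zero, Subgroup.coe_one] at h1
    simpa using h1
  have ha1 : a = 1 := by
    have : a ^ 3 = a * (a * a) := by ring
    rw [this, ha2, mul_one] at ha3
    exact ha3
  have h11 : ((z : SpecialLinearGroup (Fin 2) F) : Matrix (Fin 2) (Fin 2) F) 1 1 = 1 := by
    rw [ha1, one_mul] at hdet
    exact hdet
  have hb0 : b ≠ 0 := by
    intro hb0
    apply hz1
    apply Subtype.ext
    apply Subtype.ext
    ext i j
    fin_cases i <;> fin_cases j
    · simpa [ha] using ha1
    · simpa [hb] using hb0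
    · simpa using h10
    · simpa using h11
  -- compare the `(0, 1)` entries of `d z` and `z d`
  have h2 := congrArg (fun g : ↥(borelFour F) =>
    ((g : SpecialLinearGroup (Fin 2) F) : Matrix (Fin 2) (Fin 2) F) 0 1) hzd
  have hdcoe : ((d : SpecialLinearGroup (Fin 2) F) : Matrix (Fin 2) (Fin 2) F) =
      !![ω, 0; 0, ω ^ 2] := rfl
  simp only [Subgroup.coe_mul, coe_mul_SL, Matrix.mul_apply, Fin.sum_univ_two, hdcoe] at h2
  simp only [of_apply, cons_val', cons_val_zero, cons_val_one, cons_val_fin_one, mul_zero,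
    zero_mul, add_zero, zero_add, h11, mul_one] at h2
  rw [← hb] at h2
  -- `ω b = b ω²`
  have h3 : b * ω * (ω - 1) = 0 := by linear_combination -h2
  rcases mul_eq_zero.mp h3 with h4 | h4
  · rcases mul_eq_zero.mp h4 with h5 | h5
    · exact hb0 h5
    · exact hω0 h5
  · exact hω1 (by linear_combination h4)

end count

section existence

variable {F : Type*} [Field F] [Fintype F]

theorem four_pow_mod_three (m : ℕ) : 4 ^ m % 3 = 1 := by
  rw [Nat.pow_mod]
  norm_num

/-- `PSL₂(2^n)`, `n` even, contains `A₄`. -/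
theorem exists_alt_four_PSL2_char_two_even [CharP F 2] (n : ℕ) (hn : Even n)
    (hF : Fintype.card F = 2 ^ n) :
    ∃ H : Subgroup (ProjectiveSpecialLinearGroup (Fin 2) F),
      Nonempty (↥H ≃* alternatingGroup (Fin 4)) := by
  classical
  obtain ⟨m, rfl⟩ := hn
  have h3 : 3 ∣ Nat.card Fˣ := by
    rw [Nat.card_units, Nat.card_eq_fintype_card, hF, ← two_mul, pow_mul]
    have h1 := four_pow_mod_three m
    have h2 : 1 ≤ (2 ^ 2) ^ m := Nat.one_le_pow _ _ (by norm_num)
    norm_num at h1 h2 ⊢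
    omega
  obtain ⟨ω, hω⟩ := exists_orderOf_eq_of_dvd_card (G := Fˣ) 3 h3
  have hprim : IsPrimitiveRoot (ω : F) 3 := by
    rw [IsPrimitiveRoot.coe_units_iff, ← hω]
    exact IsPrimitiveRoot.orderOf ω
  obtain ⟨e₀⟩ := Cfsg.Agent.S0228.result (card_borelFour (ω : F) hprim)
    (no_central_involution_borelFour (ω : F) hprim)
  have hπ := mk_injective_of_char_two (F := F)
  exact ⟨(borelFour F).map (QuotientGroup.mk' (Subgroup.center (SpecialLinearGroup (Fin 2) F))),
    ⟨((borelFour F).equivMapOfInjective _ hπ).symm.trans e₀⟩⟩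

/-- `PSL₂(q)`, `q` odd, contains `A₄`. -/
theorem exists_alt_four_PSL2_odd (hodd : Odd (Fintype.card F)) :
    ∃ H : Subgroup (ProjectiveSpecialLinearGroup (Fin 2) F),
      Nonempty (↥H ≃* alternatingGroup (Fin 4)) := by
  classical
  have h2 : (2 : F) ≠ 0 := two_ne_zero_of_odd_card hodd
  have h12 := twelve_mul_card_kleinFour_PSL2 (F := F) h2
  have hGpos : 0 < Nat.card (ProjectiveSpecialLinearGroup (Fin 2) F) := Nat.card_pos
  have hne : Nat.card {V : Subgroup (ProjectiveSpecialLinearGroup (Fin 2) F) //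
      IsKleinFour V} ≠ 0 := by
    intro h
    rw [h, mul_zero] at h12
    omega
  obtain ⟨⟨V, hV⟩⟩ := (Nat.card_ne_zero.mp hne).1
  have hC := centralizer_kleinFour_PSL2 h2 V hV
  have hq8 : (Fintype.card F % 8 = 1 ∨ Fintype.card F % 8 = 7) ∨
      (Fintype.card F % 8 = 3 ∨ Fintype.card F % 8 = 5) := by
    obtain ⟨r, hr⟩ := hodd
    omega
  rcases hq8 with hq | hq
  · have hN24 := card_normalizer_kleinFour_of_one_seven h2 hq V hV
    obtain ⟨e⟩ := Cfsg.Agent.S1012.result hN24 (by
      intro g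
      rw [← Subgroup.orderOf_coe]
      exact orderOf_ne_six_of_mem_normalizer_klein V hV hC g g.2)
    let f : alternatingGroup (Fin 4) →* ProjectiveSpecialLinearGroup (Fin 2) F :=
      (Subgroup.normalizer (V : Set (ProjectiveSpecialLinearGroup (Fin 2) F))).subtype.comp
        (e.symm.toMonoidHom.comp (alternatingGroup (Fin 4)).subtype)
    have hf : Function.Injective f :=
      (Subgroup.subtype_injective _).comp (e.symm.injective.comp (Subgroup.subtype_injective _))
    exact ⟨f.range, ⟨(MonoidHom.ofInjective hf).symm⟩⟩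
  · have hN12 := card_normalizer_kleinFour_of_three_five hodd hq V hV
    have : Finite (Subgroup.normalizer (V : Set (ProjectiveSpecialLinearGroup (Fin 2) F))) :=
      inferInstance
    exact ⟨_, Cfsg.Agent.S0228.result hN12
      (no_central_involution_normalizer_klein V hV hC (by rw [hN12]; norm_num))⟩

end existence

end Cfsg.Agent.Lib.Helper13
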