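/-
helper13: the maximal subgroups of `PSL₂(F)`, `|F|` odd.
-/
import Mathlib
import Cfsg.Agent.Lib.Helper13.CoatomTypes
import Cfsg.Agent.Lib.Helper13.SylowOver
import Cfsg.Agent.Lib.Helper13.SubfieldTwo
import Cfsg.Agent.Lib.Helper13.DkMaxSL
import Cfsg.Agent.Lib.Helper13.DkWrap
import Cfsg.Agent.Lib.Helper13.DkMax
import Cfsg.Agent.Lib.Helper13.DkSolv
import Cfsg.Agent.Lib.Helper13.DkDih
import Cfsg.Agent.Lib.Helper13.DkPGL
import Cfsg.Agent.S0556
import Cfsg.Agent.S0802
import Cfsg.Agent.S0803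
import Cfsg.Agent.S0804
import Cfsg.Agent.S0805

set_option autoImplicit false

namespace Cfsg.Agent.Lib.Helper13.PSL2MaxOdd

open Matrix Subgroup Cfsg.Agent.Lib.Helper13 Cfsg.Agent.Lib.Helper13.Dk
  Cfsg.Agent.Lib.Helper13.PairNF Cfsg.Agent.Lib.Helper13.PermGens

variable {F : Type*} [Field F] [Fintype F]

/-- The quotient map `SL₂(F) → PSL₂(F)`. -/
abbrev qmap (F : Type*) [Field F] :
    SpecialLinearGroup (Fin 2) F →* Matrix.ProjectiveSpecialLinearGroup (Fin 2) F :=
  QuotientGroup.mk' (center (SpecialLinearGroup (Fin 2) F))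

theorem qmap_surjective : Function.Surjective (qmap F) := QuotientGroup.mk'_surjective _

theorem gcd_two_of_odd (hodd : Odd (Fintype.card F)) : Nat.gcd 2 (Fintype.card F - 1) = 2 := by
  obtain ⟨m, hm⟩ := hodd
  have : Fintype.card F - 1 = 2 * m := by omega
  rw [this]
  exact Nat.gcd_mul_right_right m 2

/-- Data attached to the preimage of a subgroup of `PSL₂(F)`. -/
theorem exists_predata (p : ℕ) [Fact p.Prime] [CharP F p] (hodd : Odd (Fintype.card F))
    (S : Subgroup (Matrix.ProjectiveSpecialLinearGroup (Fin 2) F)) {Y : Type*} [Group Y]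
    (e : S ≃* Y) :
    ∃ f : S.comap (qmap F) →* Y, Function.Surjective f ∧
      (∀ g, f g = 1 ↔ Emb.sc (mt (S.comap (qmap F)) g)) ∧
      Nat.card (S.comap (qmap F)) = 2 * Nat.card Y := by
  classical
  set Hh := S.comap (qmap F) with hHh
  let π : Hh →* S := (qmap F).subgroupComap S
  have hπ : Function.Surjective π := (qmap F).subgroupComap_surjective_of_surjective S qmap_surjective
  have hker : ∀ g, π g = 1 ↔ Emb.sc (mt Hh g) := by
    intro g
    have h1 := (subEmb Hh).sc_iff_mem_center g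
    change Emb.sc (mt Hh g) ↔ (g : SpecialLinearGroup (Fin 2) F) ∈
      center (SpecialLinearGroup (Fin 2) F) at h1
    rw [h1, ← QuotientGroup.eq_one_iff (N := center (SpecialLinearGroup (Fin 2) F))]
    constructor
    · intro h
      exact congrArg Subtype.val h
    · intro h
      apply Subtype.ext
      exact h
  have hle : center (SpecialLinearGroup (Fin 2) F) ≤ Hh := by
    intro z hz
    change (qmap F) z ∈ S
    have : (qmap F) z = 1 := (QuotientGroup.eq_one_iff z).mpr hz
    rw [this]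
    exact S.one_mem
  have hd : Nat.card π.ker = 2 := by
    have hk : π.ker = (center (SpecialLinearGroup (Fin 2) F)).subgroupOf Hh := by
      ext g
      rw [MonoidHom.mem_ker, hker]
      have h1 := (subEmb Hh).sc_iff_mem_center g
      change Emb.sc (mt Hh g) ↔ _ at h1
      rw [h1, Subgroup.mem_subgroupOf]
      rfl
    rw [hk, Nat.card_congr (Subgroup.subgroupOfEquivOfLe hle).toEquiv, card_center_SL2_eq_gcd p,
      gcd_two_of_odd hodd]
  refine ⟨e.toMonoidHom.comp π, e.surjective.comp hπ, ?_, ?_⟩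
  · intro g
    rw [← hker]
    change e (π g) = 1 ↔ _
    rw [MulEquiv.map_eq_one_iff]
  · rw [card_eq_ker_mul π hπ, hd, Nat.card_congr e.toEquiv]


/-- Numeric wrapper around `SylowOver.main`. -/
theorem sylow_excl {G : Type*} [Group G] [Finite G] [IsSimpleGroup G] (M : Subgroup G)
    (hM : IsCoatom M) (S : Subgroup G) (g s c r a m : ℕ) [Fact r.Prime] (hG : Nat.card G = g)
    (hS : Nat.card S = s) (hMc : Nat.card M = c) (hc : c = r ^ a * m) (ha : 0 < a)
    (h1 : ¬ r ^ (a + 1) ∣ g) (hm : ∀ d, d ∣ m → d % r = 1 % r → d = 1) (h2 : r ^ a ∣ s)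
    (h3 : c < s) (h4 : s < g) (hn : ∀ d, d ∣ s / r ^ a → d % r = 1 % r → c * d ≤ s) : False := by
  apply SylowOver.main M hM r a m (by rw [hMc, hc]) ha (by rw [hG]; exact h1) hm S
    (by rw [hS]; exact h2) (by rw [hMc, hS]; exact h3) (by rw [hS, hG]; exact h4)
  rw [hS, hMc]
  exact hn

theorem card_PSL2_odd (hodd : Odd (Fintype.card F)) :
    Nat.card (Matrix.ProjectiveSpecialLinearGroup (Fin 2) F) * 2 =
      Fintype.card F * (Fintype.card F ^ 2 - 1) := by
  have := card_PSL2_mul_gcd (K := F)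
  rwa [gcd_two_of_odd hodd] at this

theorem card_perm4 : Nat.card (Equiv.Perm (Fin 4)) = 24 := by
  rw [Nat.card_eq_fintype_card, Fintype.card_perm, Fintype.card_fin]; rfl

theorem card_alt4 : Nat.card (alternatingGroup (Fin 4)) = 12 := by
  rw [Nat.card_eq_fintype_card]; rfl

theorem card_alt5 : Nat.card (alternatingGroup (Fin 5)) = 60 := by
  rw [Nat.card_eq_fintype_card]; rfl

/-- The small dihedral exclusions. -/
theorem dih_excl_sub (p : ℕ) [Fact p.Prime] [CharP F p] (hodd : Odd (Fintype.card F))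
    (h5 : 5 ≤ Fintype.card F) (M : Subgroup (Matrix.ProjectiveSpecialLinearGroup (Fin 2) F))
    (hM : IsCoatom M) (hcard : Nat.card M = Fintype.card F - 1) : 13 ≤ Fintype.card F := by
  by_contra hlt
  haveI : IsSimpleGroup (Matrix.ProjectiveSpecialLinearGroup (Fin 2) F) :=
    Matrix.ProjectiveSpecialLinearGroup.rank_two_simple
      (by rw [Nat.card_eq_fintype_card]; omega)
  have hG := card_PSL2_odd hodd
  obtain ⟨j, hj⟩ := hodd
  have hcases : Fintype.card F = 5 ∨ Fintype.card F = 7 ∨ Fintype.card F = 9 ∨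
      Fintype.card F = 11 := by omega
  rcases hcases with hq | hq | hq | hq
  · -- `q = 5`, `|M| = 4 < A₄`
    rw [hq] at hG hcard
    have hG' : Nat.card (Matrix.ProjectiveSpecialLinearGroup (Fin 2) F) = 60 := by omega
    have hp : p = 5 := by
      obtain ⟨n, hpp, hn⟩ := FiniteField.card F p
      rw [hq] at hn
      have : p ∣ 5 := by rw [hn]; exact dvd_pow_self p n.ne_zero
      exact (Nat.prime_dvd_prime_iff_eq hpp (by norm_num)).mp this
    subst hp
    obtain ⟨S, ⟨e⟩⟩ := (Cfsg.Agent.S0802.result (F := F) 5 1 (by rw [hq, pow_one])).mpr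
      (by rintro ⟨h, -⟩; omega)
    have hS : Nat.card S = 12 := by rw [Nat.card_congr e.toEquiv, card_alt4]
    haveI : Fact (Nat.Prime 2) := ⟨Nat.prime_two⟩
    refine sylow_excl M hM S 60 12 4 2 2 1 hG' hS hcard (by norm_num) (by norm_num) (by norm_num)
      ?_ (by norm_num) (by norm_num) (by norm_num) ?_
    · intro d hd _
      exact Nat.dvd_one.mp hd
    · intro d hd hmod
      have hle : d ≤ 12 / 2 ^ 2 := Nat.le_of_dvd (by norm_num) hd
      norm_num at hle hd
      interval_cases d <;> omega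
  · -- `q = 7`, `|M| = 6 < S₄`
    rw [hq] at hG hcard
    have hG' : Nat.card (Matrix.ProjectiveSpecialLinearGroup (Fin 2) F) = 168 := by omega
    obtain ⟨S, ⟨e⟩⟩ := (Cfsg.Agent.S0803.result (F := F) hq).mpr (by norm_num)
    have hS : Nat.card S = 24 := by rw [Nat.card_congr e.toEquiv, card_perm4]
    haveI : Fact (Nat.Prime 3) := ⟨Nat.prime_three⟩
    refine sylow_excl M hM S 168 24 6 3 1 2 hG' hS hcard (by norm_num) (by norm_num) (by norm_num)
      ?_ (by norm_num) (by norm_num) (by norm_num) ?_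
    · intro d hd hmod
      have hle : d ≤ 2 := Nat.le_of_dvd (by norm_num) hd
      interval_cases d <;> omega
    · intro d hd hmod
      have hle : d ≤ 24 / 3 ^ 1 := Nat.le_of_dvd (by norm_num) hd
      norm_num at hle hd
      interval_cases d <;> omega
  · -- `q = 9`, `|M| = 8 < S₄`
    rw [hq] at hG hcard
    have hG' : Nat.card (Matrix.ProjectiveSpecialLinearGroup (Fin 2) F) = 360 := by omega
    obtain ⟨S, ⟨e⟩⟩ := (Cfsg.Agent.S0803.result (F := F) hq).mpr (by norm_num)
    have hS : Nat.card S = 24 := by rw [Nat.card_congr e.toEquiv, card_perm4]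
    haveI : Fact (Nat.Prime 2) := ⟨Nat.prime_two⟩
    refine sylow_excl M hM S 360 24 8 2 3 1 hG' hS hcard (by norm_num) (by norm_num) (by norm_num)
      ?_ (by norm_num) (by norm_num) (by norm_num) ?_
    · intro d hd _
      exact Nat.dvd_one.mp hd
    · intro d hd hmod
      have hle : d ≤ 24 / 2 ^ 3 := Nat.le_of_dvd (by norm_num) hd
      norm_num at hle hd
      interval_cases d <;> omega
  · -- `q = 11`, `|M| = 10 < A₅`
    rw [hq] at hG hcard
    have hG' : Nat.card (Matrix.ProjectiveSpecialLinearGroup (Fin 2) F) = 660 := by omega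
    obtain ⟨S, ⟨e⟩⟩ := (Cfsg.Agent.S0804.result (F := F) hq).mpr (by norm_num)
    have hS : Nat.card S = 60 := by rw [Nat.card_congr e.toEquiv, card_alt5]
    haveI : Fact (Nat.Prime 5) := ⟨by norm_num⟩
    refine sylow_excl M hM S 660 60 10 5 1 2 hG' hS hcard (by norm_num) (by norm_num) (by norm_num)
      ?_ (by norm_num) (by norm_num) (by norm_num) ?_
    · intro d hd hmod
      have hle : d ≤ 2 := Nat.le_of_dvd (by norm_num) hd
      interval_cases d <;> omega
    · intro d hd hmod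
      have hle : d ≤ 60 / 5 ^ 1 := Nat.le_of_dvd (by norm_num) hd
      norm_num at hle hd
      interval_cases d <;> omega

theorem dih_excl_add (hodd : Odd (Fintype.card F))
    (h5 : 5 ≤ Fintype.card F) (M : Subgroup (Matrix.ProjectiveSpecialLinearGroup (Fin 2) F))
    (hM : IsCoatom M) (hcard : Nat.card M = Fintype.card F + 1) :
    Fintype.card F ≠ 7 ∧ Fintype.card F ≠ 9 := by
  haveI : IsSimpleGroup (Matrix.ProjectiveSpecialLinearGroup (Fin 2) F) :=
    Matrix.ProjectiveSpecialLinearGroup.rank_two_simple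
      (by rw [Nat.card_eq_fintype_card]; omega)
  have hG := card_PSL2_odd hodd
  constructor
  · intro hq
    rw [hq] at hG hcard
    have hG' : Nat.card (Matrix.ProjectiveSpecialLinearGroup (Fin 2) F) = 168 := by omega
    obtain ⟨S, ⟨e⟩⟩ := (Cfsg.Agent.S0803.result (F := F) hq).mpr (by norm_num)
    have hS : Nat.card S = 24 := by rw [Nat.card_congr e.toEquiv, card_perm4]
    haveI : Fact (Nat.Prime 2) := ⟨Nat.prime_two⟩
    refine sylow_excl M hM S 168 24 8 2 3 1 hG' hS hcard (by norm_num) (by norm_num) (by norm_num)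
      ?_ (by norm_num) (by norm_num) (by norm_num) ?_
    · intro d hd _
      exact Nat.dvd_one.mp hd
    · intro d hd hmod
      have hle : d ≤ 24 / 2 ^ 3 := Nat.le_of_dvd (by norm_num) hd
      norm_num at hle hd
      interval_cases d <;> omega
  · intro hq
    rw [hq] at hG hcard
    have hG' : Nat.card (Matrix.ProjectiveSpecialLinearGroup (Fin 2) F) = 360 := by omega
    obtain ⟨S, ⟨e⟩⟩ := (Cfsg.Agent.S0804.result (F := F) hq).mpr (by norm_num)
    have hS : Nat.card S = 60 := by rw [Nat.card_congr e.toEquiv, card_alt5]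
    haveI : Fact (Nat.Prime 5) := ⟨by norm_num⟩
    refine sylow_excl M hM S 360 60 10 5 1 2 hG' hS hcard (by norm_num) (by norm_num) (by norm_num)
      ?_ (by norm_num) (by norm_num) (by norm_num) ?_
    · intro d hd hmod
      have hle : d ≤ 2 := Nat.le_of_dvd (by norm_num) hd
      interval_cases d <;> omega
    · intro d hd hmod
      have hle : d ≤ 60 / 5 ^ 1 := Nat.le_of_dvd (by norm_num) hd
      norm_num at hle hd
      interval_cases d <;> omega


/-! ### Arithmetic helpers -/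

theorem sq_mod_sixteen (n : ℕ) : n ^ 2 % 16 = 1 ↔ (n % 8 = 1 ∨ n % 8 = 7) := by
  have h1 : n ^ 2 % 16 = (n % 16) ^ 2 % 16 := Nat.pow_mod n 2 16
  have h2 : n % 8 = n % 16 % 8 := (Nat.mod_mod_of_dvd n (by norm_num : 8 ∣ 16)).symm
  have h3 : n % 16 < 16 := Nat.mod_lt _ (by norm_num)
  rw [h1, h2]
  generalize n % 16 = r at h3
  interval_cases r <;> simp

theorem five_dvd_of_mod_ten (n : ℕ) (h : n % 10 = 1 ∨ n % 10 = 9) : 5 ∣ n * (n ^ 2 - 1) := by
  have h1 : n ^ 2 % 5 = (n % 5) ^ 2 % 5 := Nat.pow_mod n 2 5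
  have h2 : n % 5 = 1 ∨ n % 5 = 4 := by omega
  have h3 : n ^ 2 % 5 = 1 := by
    rcases h2 with h | h <;> rw [h1, h] <;> norm_num
  have hpos : 1 ≤ n ^ 2 := by
    have : 1 ≤ n := by omega
    exact Nat.one_le_pow _ _ this
  apply Dvd.dvd.mul_left
  omega

theorem mod_ten_of_five_dvd (n : ℕ) (hodd : n % 2 = 1) (h5 : ¬ 5 ∣ n) (h : 5 ∣ n * (n ^ 2 - 1)) :
    n % 10 = 1 ∨ n % 10 = 9 := by
  have hd : 5 ∣ n ^ 2 - 1 := ((Nat.Prime.dvd_mul (by norm_num)).mp h).resolve_left h5
  have h1 : n ^ 2 % 5 = (n % 5) ^ 2 % 5 := Nat.pow_mod n 2 5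
  have hpos : 1 ≤ n ^ 2 := by
    have : 1 ≤ n := by omega
    exact Nat.one_le_pow _ _ this
  have h3 : n ^ 2 % 5 = 1 := by omega
  have h4 : n % 5 < 5 := Nat.mod_lt _ (by norm_num)
  rw [h1] at h3
  have h6 : n % 5 = 1 ∨ n % 5 = 4 := by
    generalize n % 5 = r at h3 h4
    interval_cases r <;> simp_all
  omega

theorem card_SL2_ge (h5 : 5 ≤ Fintype.card F) :
    120 ≤ Nat.card (SpecialLinearGroup (Fin 2) F) := by
  rw [card_SL2]
  have h1 : 5 ^ 2 ≤ Fintype.card F ^ 2 := Nat.pow_le_pow_left h5 2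
  have h2 : 24 ≤ Fintype.card F ^ 2 - 1 := by omega
  calc 120 = 5 * 24 := by norm_num
    _ ≤ Fintype.card F * (Fintype.card F ^ 2 - 1) := Nat.mul_le_mul h5 h2

theorem not_isSolvable_SL2 (h4 : 4 ≤ Fintype.card F) :
    ¬ Group.IsSolvable (SpecialLinearGroup (Fin 2) F) := by
  intro hs
  apply not_isSolvable_PSL2 (K := F) h4
  exact Group.isSolvable_of_surjective
    (QuotientGroup.mk'_surjective (center (SpecialLinearGroup (Fin 2) F)))

/-- A maximal subgroup inside the preimage of a proper subfield subgroup is that preimage. -/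
theorem card_eq_card_subfieldSL (H : Subgroup (SpecialLinearGroup (Fin 2) F)) (hH : IsCoatom H)
    (Θ : Tw F) (k₀ : Subfield F) (hk : k₀ ≠ ⊤) (hle : H ≤ (subfieldSL k₀).comap Θ.hom) :
    Nat.card H = Nat.card (subfieldSL k₀) := by
  set X := (subfieldSL k₀).comap Θ.hom with hX
  have hXtop : X ≠ ⊤ := by
    intro htop
    obtain ⟨x, -, hx⟩ := SetLike.exists_of_lt (lt_top_iff_ne_top.mpr hk)
    obtain ⟨A, hA⟩ := Θ.bijective.2 (tSL x)
    have h2 : A ∈ X := htop ▸ mem_top A
    have h3 : Θ.hom A ∈ subfieldSL k₀ := h2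
    rw [hA, tSL_mem_subfieldSL_iff] at h3
    exact hx h3
  have hHeq : X = H := (hH.le_iff.mp hle).resolve_left hXtop
  let e : SpecialLinearGroup (Fin 2) F ≃* SpecialLinearGroup (Fin 2) F :=
    MulEquiv.ofBijective Θ.hom Θ.bijective
  rw [← hHeq]
  have : X = (subfieldSL k₀).comap
      (e : SpecialLinearGroup (Fin 2) F →* SpecialLinearGroup (Fin 2) F) := rfl
  rw [this, Subgroup.comap_equiv_eq_map_symm]
  exact Subgroup.card_map_of_injective e.symm.injective

end Cfsg.Agent.Lib.Helper13.PSL2MaxOdd
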