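/-
helper13: the maximal subgroups of `PSL₂(F)`, `|F|` odd: main theorem.
-/
import Mathlib
import Cfsg.Agent.Lib.Helper13.PSL2MaxOdd

set_option autoImplicit false

namespace Cfsg.Agent.Lib.Helper13.PSL2MaxOdd

open Matrix Subgroup Cfsg.Agent.Lib.Helper13 Cfsg.Agent.Lib.Helper13.Dk
  Cfsg.Agent.Lib.Helper13.PairNF Cfsg.Agent.Lib.Helper13.PermGens

variable {F : Type*} [Field F] [Fintype F]

/-- The conclusion of the main theorem. -/
def MaxConcl (F : Type*) [Field F] [Fintype F] (p : ℕ)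
    (M : Subgroup (Matrix.ProjectiveSpecialLinearGroup (Fin 2) F)) : Prop :=
  2 * Nat.card M = Fintype.card F * (Fintype.card F - 1) ∨
    (13 ≤ Fintype.card F ∧ (∃ k : ℕ, 2 * k = Fintype.card F - 1 ∧ Nonempty (M ≃* DihedralGroup k))) ∨
    (Fintype.card F ≠ 7 ∧ Fintype.card F ≠ 9 ∧ (∃ k : ℕ, 2 * k = Fintype.card F + 1 ∧ Nonempty (M ≃* DihedralGroup k))) ∨
    (∃ (F₀ : Type) (_ : Field F₀) (_ : Fintype F₀), Fintype.card F = Fintype.card F₀ ^ 2 ∧
        Nonempty (M ≃* Matrix.ProjGenLinGroup (Fin 2) F₀)) ∨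
    (∃ (F₀ : Type) (_ : Field F₀) (_ : Fintype F₀) (r : ℕ), r.Prime ∧ Odd r ∧ Fintype.card F = Fintype.card F₀ ^ r ∧
        Nonempty (M ≃* Matrix.ProjectiveSpecialLinearGroup (Fin 2) F₀)) ∨
    ((Fintype.card F % 10 = 1 ∨ Fintype.card F % 10 = 9) ∧
        (Fintype.card F = p ∨ (Fintype.card F = p ^ 2 ∧ (p % 10 = 3 ∨ p % 10 = 7))) ∧
        Nonempty (M ≃* alternatingGroup (Fin 5))) ∨
    (Fintype.card F = p ∧ (p % 8 = 3 ∨ p % 8 = 5) ∧ ¬ (p % 10 = 1 ∨ p % 10 = 9) ∧
        Nonempty (M ≃* alternatingGroup (Fin 4))) ∨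
    (Fintype.card F = p ∧ (p % 8 = 1 ∨ p % 8 = 7) ∧ Nonempty (M ≃* Equiv.Perm (Fin 4)))

section cases

variable (p : ℕ) [Fact p.Prime] [CharP F p] (hodd : Odd (Fintype.card F))
  (h5 : 5 ≤ Fintype.card F) (M : Subgroup (Matrix.ProjectiveSpecialLinearGroup (Fin 2) F))
  (hM : IsCoatom M)

include hodd in
theorem p_ne_two : p ≠ 2 := by
  intro h
  subst h
  have := FiniteField.even_card_of_char_two (ringChar.eq F 2)
  obtain ⟨j, hj⟩ := hodd
  omega

variable (H : Subgroup (SpecialLinearGroup (Fin 2) F)) (hH : IsCoatom H) (f : H →* M)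
  (hf : Function.Surjective f) (hker : ∀ g, f g = 1 ↔ Emb.sc (mt H g))
  (hc : Nat.card H = 2 * Nat.card M)

include hker in
theorem ker_eq_center (hna : ∃ x y : H, x * y ≠ y * x) : f.ker = center H := by
  ext g
  rw [MonoidHom.mem_ker, hker, (subEmb H).mem_center_iff_sc hna]
  rfl

include hodd h5 hM hH hf hker hc in
/-- The dihedral case. -/
theorem case_dih (hD : (subEmb H).DihType) : MaxConcl F p M := by
  classical
  have h4 : 4 ≤ Fintype.card F := by omega
  obtain ⟨g₀, hg₀, hcard⟩ := coatom_dih H hH h4 hD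
  have hna : ∃ x y : H, x * y ≠ y * x := by
    obtain ⟨g, hg, hc'⟩ := hD
    by_contra hcon
    push Not at hcon
    have : centralizer ({g} : Set H) = ⊤ := by
      rw [eq_top_iff]
      intro x _
      rw [mem_centralizer_singleton_iff]
      exact hcon x g
    rw [this, Subgroup.card_top] at hc'
    have hpos : 0 < Nat.card H := Nat.card_pos
    omega
  have hZ := ker_eq_center M H f hker hna
  obtain ⟨k, -, ⟨e⟩⟩ := (subEmb H).dih_of_dihType f hf hZ hD
  have hk : Nat.card M = 2 * k := by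
    rw [Nat.card_congr e.toEquiv, DihedralGroup.nat_card]
  rcases card_centralizer_cases g₀ hg₀ with h | h
  · have hMc : Nat.card M = Fintype.card F - 1 := by omega
    right; left
    exact ⟨dih_excl_sub p hodd h5 M hM hMc, k, by omega, ⟨e⟩⟩
  · have hMc : Nat.card M = Fintype.card F + 1 := by omega
    obtain ⟨h7, h9⟩ := dih_excl_add hodd h5 M hM hMc
    right; right; left
    exact ⟨h7, h9, k, by omega, ⟨e⟩⟩

include hodd h5 hH hf hker hc in
/-- The `A₄` case. -/
theorem case_alt4 (e : M ≃* alternatingGroup (Fin 4)) (hpn : ¬ p ∣ Nat.card H) :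
    MaxConcl F p M := by
  classical
  have hp2 := p_ne_two (F := F) p hodd
  obtain ⟨hqp, A, B, hgen, hA, hB, hAB⟩ := coatom_alt4 hp2 hH hf hker e hpn
  have hHc : Nat.card H = 24 := by rw [hc, Nat.card_congr e.toEquiv, card_alt4]
  have hSLge := card_SL2_ge (F := F) h5
  have hpodd : p % 2 = 1 := Nat.odd_iff.mp ((Fact.out : p.Prime).odd_of_ne_two hp2)
  refine Or.inr (Or.inr (Or.inr (Or.inr (Or.inr (Or.inr (Or.inl ⟨hqp, ?_, ?_, ⟨e⟩⟩))))))
  · by_contra hcon
    have h17 : p % 8 = 1 ∨ p % 8 = 7 := by omega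
    have h16 : Fintype.card F ^ 2 % 16 = 1 := by rw [hqp]; exact (sq_mod_sixteen p).mpr h17
    obtain ⟨S, ⟨eS⟩⟩ := (Cfsg.Agent.S0803.result (F := F) rfl).mpr h16
    obtain ⟨f', hf', hker', hc'⟩ := exists_predata p hodd S eS
    have hS'top : S.comap (qmap F) ≠ ⊤ := by
      intro htop
      rw [htop, Subgroup.card_top, card_perm4] at hc'
      omega
    have := card_eq_of_pair_333 hp2 hH A B hgen hA hB hAB _ hS'top f' hf' hker' s4a' s4b'
      s4a'_sq s4a'_ne s4b'_cube s4b'_ne s4ab'_cube s4ab'_ne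
    rw [hc', card_perm4, hHc] at this
    omega
  · intro hcon
    have h5d : 5 ∣ Fintype.card F * (Fintype.card F ^ 2 - 1) := by
      rw [hqp]; exact five_dvd_of_mod_ten p hcon
    obtain ⟨S, ⟨eS⟩⟩ := (Cfsg.Agent.S0804.result (F := F) rfl).mpr h5d
    obtain ⟨f', hf', hker', hc'⟩ := exists_predata p hodd S eS
    have hp11 : 11 ≤ p := by
      have : p ≠ 1 := (Fact.out : p.Prime).one_lt.ne'
      have : p ≠ 9 := by
        intro h9
        have hp := (Fact.out : p.Prime)
        rw [h9] at hp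
        norm_num at hp
      omega
    have hS'top : S.comap (qmap F) ≠ ⊤ := by
      intro htop
      rw [htop, Subgroup.card_top, card_alt5, card_SL2, hqp] at hc'
      have h1 : 11 ^ 2 ≤ p ^ 2 := Nat.pow_le_pow_left hp11 2
      have h2 : 120 ≤ p ^ 2 - 1 := by omega
      have : 11 * 120 ≤ p * (p ^ 2 - 1) := Nat.mul_le_mul hp11 h2
      omega
    have := card_eq_of_pair_333 hp2 hH A B hgen hA hB hAB _ hS'top f' hf' hker' a5a' a5b'
      a5a'_sq a5a'_ne a5b'_cube a5b'_ne a5ab'_cube a5ab'_ne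
    rw [hc', card_alt5, hHc] at this
    omega

include hodd hH hf hker in
/-- The `S₄` case. -/
theorem case_sym4 (e : M ≃* Equiv.Perm (Fin 4)) (hpn : ¬ p ∣ Nat.card H) :
    MaxConcl F p M := by
  have hp2 := p_ne_two (F := F) p hodd
  have hqp := coatom_sym4 hp2 hH hf hker e hpn
  have h16 : Fintype.card F ^ 2 % 16 = 1 := (Cfsg.Agent.S0803.result (F := F) rfl).mp ⟨M, ⟨e⟩⟩
  rw [hqp] at h16
  exact Or.inr (Or.inr (Or.inr (Or.inr (Or.inr (Or.inr (Or.inr
    ⟨hqp, (sq_mod_sixteen p).mp h16, ⟨e⟩⟩))))))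

include hodd hH hf hker hc in
/-- The `A₅` case. -/
theorem case_alt5 (e : M ≃* alternatingGroup (Fin 5))
    (hp : ¬ p ∣ Nat.card H ∨ p = 3) : MaxConcl F p M := by
  have hp2 := p_ne_two (F := F) p hodd
  have hHc : Nat.card H = 120 := by rw [hc, Nat.card_congr e.toEquiv, card_alt5]
  have hp5 : p ≠ 5 := by
    rcases hp with h | h
    · intro h5'
      apply h
      rw [hHc, h5']
      norm_num
    · omega
  have hp' : ¬ p ∣ Nat.card H ∨ (p = 3 ∧ ¬ 9 ∣ Nat.card H) := by
    rcases hp with h | h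
    · exact Or.inl h
    · exact Or.inr ⟨h, by rw [hHc]; norm_num⟩
  have hres := coatom_alt5 hp2 hp5 hH hf hker e hp'
  have h5d : 5 ∣ Fintype.card F * (Fintype.card F ^ 2 - 1) :=
    (Cfsg.Agent.S0804.result (F := F) rfl).mp ⟨M, ⟨e⟩⟩
  have hpp : p.Prime := Fact.out
  have h5p : ¬ 5 ∣ p := fun h => hp5 ((Nat.prime_dvd_prime_iff_eq (by norm_num) hpp).mp h).symm
  have h5q : ¬ 5 ∣ Fintype.card F := by
    rcases hres with h | ⟨h, -⟩
    · rw [h]; exact h5p
    · rw [h]
      intro hd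
      exact h5p (Nat.Prime.dvd_of_dvd_pow (by norm_num) hd)
  have hqodd : Fintype.card F % 2 = 1 := Nat.odd_iff.mp hodd
  exact Or.inr (Or.inr (Or.inr (Or.inr (Or.inr (Or.inl
    ⟨mod_ten_of_five_dvd _ hqodd h5q h5d, hres, ⟨e⟩⟩)))))

include hodd h5 hH hf hker hc in
/-- The subfield case. -/
theorem case_subfield (hsub : (subEmb H).SubfieldCase) : MaxConcl F p M := by
  classical
  have hp2 := p_ne_two (F := F) p hodd
  have h2F := two_ne_zero_of_char (F := F) p hp2
  obtain ⟨Θ, K₀, k, hsc, hcard, hna, K, fK, ftK, m, hm, hcK, hiso⟩ := hsub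
  have hZ := ker_eq_center M H f hker hna
  have hMpos : 0 < Nat.card M := Nat.card_pos
  have hZ2 : Nat.card (center H) = 2 := by
    have h1 := card_eq_ker_mul f hf
    rw [hZ, hc] at h1
    have : 2 * Nat.card M = Nat.card (center H) * Nat.card M := h1
    exact (Nat.eq_of_mul_eq_mul_right hMpos this).symm
  rw [hZ2] at hcard
  have hm' : Nat.card K₀ ^ m = Fintype.card F := by rw [← hcK, hm]
  have hle : H ≤ (subfieldSL K₀).comap Θ.hom := fun g hg => hsc ⟨g, hg⟩
  set q₀ := Nat.card K₀ with hq₀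
  have hq₀2 : 2 ≤ q₀ := by rw [← hcK]; exact Fintype.one_lt_card
  have hm0 : m ≠ 0 := by
    intro h0
    rw [h0, pow_zero] at hm
    omega
  have hSL := card_SL2 (F := F)
  rcases hiso with ⟨hk, ⟨e1⟩⟩ | ⟨hk, ⟨e1⟩⟩
  · -- `PSL₂(K)`
    have hHc : Nat.card H = q₀ * (q₀ ^ 2 - 1) := by
      rw [hcard]
      have : q₀ ^ 2 - 1 = 2 * k * (q₀ + 1) := by
        rw [← hk]
        apply Nat.sub_eq_of_eq_add
        ring
      rw [this]; ring
    have hm1 : m ≠ 1 := by
      intro h1
      rw [h1, pow_one] at hm'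
      apply hH.1
      apply (Subgroup.card_eq_iff_eq_top H).mp
      rw [hHc, hSL, hm']
    have hmp : m.Prime := coatom_subfield H hH Θ K₀ hsc m hm' (by omega)
    have hm2 : m ≠ 2 := by
      intro h2
      rw [h2] at hm'
      have hKtop : K₀ ≠ ⊤ := by
        intro htop
        have : Nat.card K₀ = Fintype.card F := by
          rw [htop, ← Nat.card_eq_fintype_card]
          exact Nat.card_congr (Subfield.topEquiv (K := F)).toEquiv
        rw [← hq₀] at this
        rw [← this] at hm'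
        have : q₀ * q₀ = q₀ * 1 := by rw [← pow_two, hm', mul_one]
        have := Nat.eq_of_mul_eq_mul_left (by omega) this
        omega
      have h1 := card_eq_card_subfieldSL H hH Θ K₀ hKtop hle
      have h3 := card_subfieldSL_gt h2F K₀ hm'
      rw [← h1, hHc] at h3
      exact lt_irrefl _ h3
    refine Or.inr (Or.inr (Or.inr (Or.inr (Or.inl
      ⟨K, fK, ftK, m, hmp, hmp.odd_of_ne_two hm2, hm.symm, ⟨(equivQuot f hf hZ).trans e1⟩⟩))))
  · -- `PGL₂(K)`
    have hiso : Nonempty (M ≃* Matrix.ProjGenLinGroup (Fin 2) K) := ⟨(equivQuot f hf hZ).trans e1⟩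
    have hev : Even m :=
      ((Cfsg.Agent.S0805.result (F := F) (K := K) rfl hodd m (by omega) hm).2).mp ⟨M, hiso⟩
    have hm2' : 2 ≤ m := by
      obtain ⟨j, hj⟩ := hev
      omega
    have hmp : m.Prime := coatom_subfield H hH Θ K₀ hsc m hm' hm2'
    have hm2 : m = 2 := (Nat.Prime.even_iff hmp).mp hev
    rw [hm2] at hm
    exact Or.inr (Or.inr (Or.inr (Or.inl ⟨K, fK, ftK, hm.symm, hiso⟩)))

end cases

/-- **The maximal subgroups of `PSL₂(F)`, `|F|` odd.** -/
theorem coatom_PSL2_odd (p : ℕ) [Fact p.Prime] [CharP F p] (hodd : Odd (Fintype.card F))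
    (h5 : 5 ≤ Fintype.card F) (M : Subgroup (Matrix.ProjectiveSpecialLinearGroup (Fin 2) F))
    (hM : IsCoatom M) : MaxConcl F p M := by
  classical
  have hp2 := p_ne_two (F := F) p hodd
  have h4 : 4 ≤ Fintype.card F := by omega
  set H := M.comap (qmap F) with hHdef
  have hH : IsCoatom H := Subgroup.isCoatom_comap_of_surjective qmap_surjective hM
  obtain ⟨f, hf, hker, hc⟩ := exists_predata p hodd M (MulEquiv.refl M)
  rcases (subEmb H).dickson_refined p with hss | ⟨Θ, hB⟩ | hD | ⟨hsm, h5', h3⟩ | hsub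
  · by_cases hna : ∃ x y : H, x * y ≠ y * x
    · have hZ := ker_eq_center M H f hker hna
      have hpn : ¬ p ∣ Nat.card H := not_dvd_of_hss p hp2 H hss
      rcases (subEmb H).caseI hna hss with h | h | h | ⟨h, h5''⟩
      · exact case_dih p hodd h5 M hM H hH f hf hker hc h
      · obtain ⟨e⟩ := alt4_of_small f hf hZ h
        exact case_alt4 p hodd h5 M H hH f hf hker hc e hpn
      · obtain ⟨e⟩ := sym4_of_small f hf hZ h
        exact case_sym4 p hodd M H hH f hf hker e hpn
      · obtain ⟨e⟩ := alt5_of_small f hf hZ h h5''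
        exact case_alt5 p hodd M H hH f hf hker hc e (Or.inl hpn)
    · exfalso
      push Not at hna
      haveI : IsMulCommutative H := ⟨⟨hna⟩⟩
      have hsolv := Cfsg.Agent.S0556.result H hH
      exact not_isSolvable_SL2 h4 ((Group.isSolvable_def _).mpr ⟨3, hsolv⟩)
  · left
    have := coatom_borel H hH Θ hB
    rw [hc] at this
    exact this
  · exact case_dih p hodd h5 M hM H hH f hf hker hc hD
  · have hna : ∃ x y : H, x * y ≠ y * x := by
      by_contra hcon
      push Not at hcon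
      have hcen : center H = ⊤ := by
        rw [eq_top_iff]
        intro x _
        rw [Subgroup.mem_center_iff]
        intro y
        exact hcon y x
      have h1 := hsm.1
      rw [hcen, Subgroup.card_top] at h1
      have hpos : 0 < Nat.card H := Nat.card_pos
      have : Nat.card H * 1 = Nat.card H * 60 := by rw [mul_one]; exact h1
      have := Nat.eq_of_mul_eq_mul_left hpos this
      omega
    have hZ := ker_eq_center M H f hker hna
    obtain ⟨e⟩ := alt5_of_small f hf hZ hsm h5'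
    exact case_alt5 p hodd M H hH f hf hker hc e (Or.inr h3)
  · exact case_subfield p hodd h5 M H hH f hf hker hc hsub

end Cfsg.Agent.Lib.Helper13.PSL2MaxOdd
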