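/-
helper13: every trace-preserving injective endomorphism of `SL₂(F)` (a `Tw F`) is conjugation by
an invertible matrix.
-/
import Mathlib
import Cfsg.Agent.Lib.Helper13.PairNF
import Cfsg.Agent.Lib.Helper13.SL2Gen

set_option autoImplicit false

namespace Cfsg.Agent.Lib.Helper13.TwGeom

open Matrix Cfsg.Agent.Lib.Helper13 Cfsg.Agent.Lib.Helper13.Dk Cfsg.Agent.Lib.Helper13.PairNF

variable {F : Type*} [Field F]

/-- The Weyl element `[[0, 1], [-1, 0]]`. -/
def wSL : SpecialLinearGroup (Fin 2) F :=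
  ⟨!![0, 1; -1, 0], by simp [Matrix.det_fin_two]⟩

theorem wSL_coe :
    ((wSL : SpecialLinearGroup (Fin 2) F) : Matrix (Fin 2) (Fin 2) F) = !![0, 1; -1, 0] := rfl

theorem lSL_eq (s : F) : lSL s = (wSL)⁻¹ * tSL (-s) * wSL := by
  apply Subtype.ext
  rw [Matrix.SpecialLinearGroup.coe_mul, Matrix.SpecialLinearGroup.coe_mul,
    Matrix.SpecialLinearGroup.coe_inv, lSL_coe, tSL_coe, wSL_coe, Matrix.adjugate_fin_two]
  ext i j
  fin_cases i <;> fin_cases j <;> simp [Matrix.mul_apply, Fin.sum_univ_two]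

/-- The elements on which `Θ` is conjugation by `P`. -/
def agree (Θ : Tw F) (P : Matrix (Fin 2) (Fin 2) F) : Subgroup (SpecialLinearGroup (Fin 2) F) where
  carrier := {A | P * (A : Matrix (Fin 2) (Fin 2) F) =
    ((Θ.hom A : SpecialLinearGroup (Fin 2) F) : Matrix (Fin 2) (Fin 2) F) * P}
  one_mem' := by
    change P * ((1 : SpecialLinearGroup (Fin 2) F) : Matrix (Fin 2) (Fin 2) F) = _
    rw [map_one, Matrix.SpecialLinearGroup.coe_one, Matrix.mul_one, Matrix.one_mul]
  mul_mem' := by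
    intro A B hA hB
    change P * ((A * B : SpecialLinearGroup (Fin 2) F) : Matrix (Fin 2) (Fin 2) F) = _
    rw [map_mul, Matrix.SpecialLinearGroup.coe_mul, Matrix.SpecialLinearGroup.coe_mul,
      ← Matrix.mul_assoc, hA, Matrix.mul_assoc, hB, Matrix.mul_assoc]
  inv_mem' := by
    intro A hA
    change P * ((A⁻¹ : SpecialLinearGroup (Fin 2) F) : Matrix (Fin 2) (Fin 2) F) = _
    have hA' : P * (A : Matrix (Fin 2) (Fin 2) F) =
      ((Θ.hom A : SpecialLinearGroup (Fin 2) F) : Matrix (Fin 2) (Fin 2) F) * P := hA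
    have h1 : ((Θ.hom A⁻¹ : SpecialLinearGroup (Fin 2) F) : Matrix (Fin 2) (Fin 2) F) *
        ((Θ.hom A : SpecialLinearGroup (Fin 2) F) : Matrix (Fin 2) (Fin 2) F) = 1 := by
      rw [← Matrix.SpecialLinearGroup.coe_mul, ← map_mul, inv_mul_cancel, map_one,
        Matrix.SpecialLinearGroup.coe_one]
    have h2 : (A : Matrix (Fin 2) (Fin 2) F) *
        ((A⁻¹ : SpecialLinearGroup (Fin 2) F) : Matrix (Fin 2) (Fin 2) F) = 1 := by
      rw [← Matrix.SpecialLinearGroup.coe_mul, mul_inv_cancel, Matrix.SpecialLinearGroup.coe_one]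
    calc P * ((A⁻¹ : SpecialLinearGroup (Fin 2) F) : Matrix (Fin 2) (Fin 2) F)
        = (((Θ.hom A⁻¹ : SpecialLinearGroup (Fin 2) F) : Matrix (Fin 2) (Fin 2) F) *
          ((Θ.hom A : SpecialLinearGroup (Fin 2) F) : Matrix (Fin 2) (Fin 2) F)) * P *
          ((A⁻¹ : SpecialLinearGroup (Fin 2) F) : Matrix (Fin 2) (Fin 2) F) := by
          rw [h1, Matrix.one_mul]
      _ = ((Θ.hom A⁻¹ : SpecialLinearGroup (Fin 2) F) : Matrix (Fin 2) (Fin 2) F) *
          (P * (A : Matrix (Fin 2) (Fin 2) F)) *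
          ((A⁻¹ : SpecialLinearGroup (Fin 2) F) : Matrix (Fin 2) (Fin 2) F) := by
          rw [hA']; simp only [Matrix.mul_assoc]
      _ = ((Θ.hom A⁻¹ : SpecialLinearGroup (Fin 2) F) : Matrix (Fin 2) (Fin 2) F) * P := by
          rw [Matrix.mul_assoc, Matrix.mul_assoc, h2, Matrix.mul_one]

theorem mem_agree (Θ : Tw F) (P : Matrix (Fin 2) (Fin 2) F) (A : SpecialLinearGroup (Fin 2) F) :
    A ∈ agree Θ P ↔ P * (A : Matrix (Fin 2) (Fin 2) F) =
      ((Θ.hom A : SpecialLinearGroup (Fin 2) F) : Matrix (Fin 2) (Fin 2) F) * P := Iff.rfl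

/-- **Every `Tw` is geometric**: it is conjugation by an invertible matrix. -/
theorem tw_geom (h2 : (2 : F) ≠ 0) (Θ : Tw F) :
    ∃ P : Matrix (Fin 2) (Fin 2) F, P.det ≠ 0 ∧ ∀ A : SpecialLinearGroup (Fin 2) F,
      P * (A : Matrix (Fin 2) (Fin 2) F) =
        ((Θ.hom A : SpecialLinearGroup (Fin 2) F) : Matrix (Fin 2) (Fin 2) F) * P := by
  set A₀ : Matrix (Fin 2) (Fin 2) F := ((wSL : SpecialLinearGroup (Fin 2) F) :
    Matrix (Fin 2) (Fin 2) F) with hA₀
  set B₀ : Matrix (Fin 2) (Fin 2) F := ((tSL 1 : SpecialLinearGroup (Fin 2) F) :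
    Matrix (Fin 2) (Fin 2) F) with hB₀
  set A' : Matrix (Fin 2) (Fin 2) F := ((Θ.hom wSL : SpecialLinearGroup (Fin 2) F) :
    Matrix (Fin 2) (Fin 2) F) with hA'
  set B' : Matrix (Fin 2) (Fin 2) F := ((Θ.hom (tSL 1) : SpecialLinearGroup (Fin 2) F) :
    Matrix (Fin 2) (Fin 2) F) with hB'
  have trA₀ : A₀.trace = 0 := by rw [hA₀, wSL_coe, Matrix.trace_fin_two]; simp
  have trB₀ : B₀.trace = 2 := by rw [hB₀, tSL_coe, Matrix.trace_fin_two]; simp; norm_num
  have hAB₀ : A₀ * B₀ = !![0, 1; -1, -1] := by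
    rw [hA₀, hB₀, wSL_coe, tSL_coe]
    ext i j
    fin_cases i <;> fin_cases j <;> simp [Matrix.mul_apply, Fin.sum_univ_two]
  have trAB₀ : (A₀ * B₀).trace = -1 := by rw [hAB₀, Matrix.trace_fin_two]; simp
  have hAB' : A' * B' = ((Θ.hom (wSL * tSL 1) : SpecialLinearGroup (Fin 2) F) :
      Matrix (Fin 2) (Fin 2) F) := by
    rw [map_mul, Matrix.SpecialLinearGroup.coe_mul]
  obtain ⟨P, hP, hPA, hPB⟩ := exists_conj_pair h2 A₀ A' B₀ B' trA₀
    (by rw [hA', Θ.tr_eq]; exact trA₀)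
    (by rw [hA₀, hA', Matrix.SpecialLinearGroup.det_coe, Matrix.SpecialLinearGroup.det_coe])
    (by rw [hA₀, Matrix.SpecialLinearGroup.det_coe]; exact one_ne_zero)
    (by rw [hB', Θ.tr_eq])
    (by rw [hAB', Θ.tr_eq, Matrix.SpecialLinearGroup.coe_mul])
    (by rw [hB₀, hB', Matrix.SpecialLinearGroup.det_coe, Matrix.SpecialLinearGroup.det_coe])
    (by
      rw [trAB₀, trB₀, hA₀, hB₀, Matrix.SpecialLinearGroup.det_coe,
        Matrix.SpecialLinearGroup.det_coe]
      intro h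
      have : (1 : F) = 0 := by linear_combination h
      exact one_ne_zero this)
  refine ⟨P, hP, ?_⟩
  have hPi := inv_mul_of_det_ne_zero P hP
  have hPi' := mul_inv_of_det_ne_zero P hP
  -- unipotent elements
  have hU : ∀ x : F, tSL x ∈ agree Θ P := by
    intro x
    rw [mem_agree]
    set C : Matrix (Fin 2) (Fin 2) F := ((Θ.hom (tSL x) : SpecialLinearGroup (Fin 2) F) :
      Matrix (Fin 2) (Fin 2) F) with hC
    set D : Matrix (Fin 2) (Fin 2) F := P⁻¹ * C * P with hD
    have hCB : C * B' = B' * C := by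
      rw [hC, hB', ← Matrix.SpecialLinearGroup.coe_mul, ← Matrix.SpecialLinearGroup.coe_mul,
        ← map_mul, ← map_mul, tSL_mul, tSL_mul, add_comm]
    have hB₀' : B₀ = P⁻¹ * B' * P := by
      rw [Matrix.mul_assoc, ← hPB, ← Matrix.mul_assoc, hPi, Matrix.one_mul]
    have hDB : D * B₀ = B₀ * D := by
      rw [hB₀', hD]
      calc P⁻¹ * C * P * (P⁻¹ * B' * P) = P⁻¹ * C * (P * P⁻¹) * B' * P := by
            simp only [Matrix.mul_assoc]
        _ = P⁻¹ * (C * B') * P := by rw [hPi', Matrix.mul_one]; simp only [Matrix.mul_assoc]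
        _ = P⁻¹ * (B' * C) * P := by rw [hCB]
        _ = P⁻¹ * B' * (P * P⁻¹) * C * P := by
            rw [hPi', Matrix.mul_one]; simp only [Matrix.mul_assoc]
        _ = P⁻¹ * B' * P * (P⁻¹ * C * P) := by simp only [Matrix.mul_assoc]
    have hdetD : D.det = 1 := by
      rw [hD, Matrix.det_mul, Matrix.det_mul, mul_comm (P⁻¹).det, mul_assoc, ← Matrix.det_mul,
        hPi, Matrix.det_one, mul_one, hC, Matrix.SpecialLinearGroup.det_coe]
    have htrD : D.trace = 2 := by
      rw [hD, Matrix.trace_mul_comm, ← Matrix.mul_assoc, hPi', Matrix.one_mul, hC, Θ.tr_eq,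
        tSL_coe, Matrix.trace_fin_two]
      simp; norm_num
    have htrAD : (A₀ * D).trace = -x := by
      have h1 : A₀ = P⁻¹ * A' * P := by
        rw [Matrix.mul_assoc, ← hPA, ← Matrix.mul_assoc, hPi, Matrix.one_mul]
      have h3 : A₀ * D = P⁻¹ * (A' * C) * P := by
        rw [h1, hD]
        calc P⁻¹ * A' * P * (P⁻¹ * C * P) = P⁻¹ * A' * (P * P⁻¹) * C * P := by
              simp only [Matrix.mul_assoc]
          _ = P⁻¹ * (A' * C) * P := by rw [hPi', Matrix.mul_one]; simp only [Matrix.mul_assoc]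
      have h4 : A' * C = ((Θ.hom (wSL * tSL x) : SpecialLinearGroup (Fin 2) F) :
          Matrix (Fin 2) (Fin 2) F) := by
        rw [map_mul, Matrix.SpecialLinearGroup.coe_mul]
      rw [h3, Matrix.trace_mul_comm, ← Matrix.mul_assoc, hPi', Matrix.one_mul, h4, Θ.tr_eq,
        Matrix.SpecialLinearGroup.coe_mul, wSL_coe, tSL_coe, Matrix.trace_fin_two]
      simp [Matrix.mul_apply, Fin.sum_univ_two]
    -- entries of `D`
    have e00 := congr_fun (congr_fun hDB 0) 0
    have e01 := congr_fun (congr_fun hDB 0) 1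
    rw [hB₀, tSL_coe] at e00 e01
    simp [Matrix.mul_apply, Fin.sum_univ_two] at e00 e01
    have d10 : D 1 0 = 0 := e00
    have d11 : D 1 1 = D 0 0 := by linear_combination -e01
    rw [Matrix.trace_fin_two, d11] at htrD
    have d00 : D 0 0 = 1 := by
      have : (2 : F) * (D 0 0 - 1) = 0 := by linear_combination htrD
      rcases mul_eq_zero.mp this with h | h
      · exact absurd h h2
      · exact sub_eq_zero.mp h
    have d01 : D 0 1 = x := by
      rw [hA₀, wSL_coe, Matrix.trace_fin_two] at htrAD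
      simp [Matrix.mul_apply, Fin.sum_univ_two] at htrAD
      rw [d10] at htrAD
      linear_combination -htrAD
    have hDx : D = !![1, x; 0, 1] := by
      ext i j
      fin_cases i <;> fin_cases j
      · exact d00
      · exact d01
      · exact d10
      · change D 1 1 = 1
        rw [d11, d00]
    rw [tSL_coe, ← hDx, hD]
    calc P * (P⁻¹ * C * P) = (P * P⁻¹) * C * P := by simp only [Matrix.mul_assoc]
      _ = C * P := by rw [hPi', Matrix.one_mul]
  have hW : (wSL : SpecialLinearGroup (Fin 2) F) ∈ agree Θ P := hPA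
  have hL : ∀ s : F, lSL s ∈ agree Θ P := by
    intro s
    rw [lSL_eq]
    exact (agree Θ P).mul_mem ((agree Θ P).mul_mem ((agree Θ P).inv_mem hW) (hU _)) hW
  intro A
  exact mem_of_tSL_lSL_mem (agree Θ P) hU hL A

end Cfsg.Agent.Lib.Helper13.TwGeom
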