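/-
helper13: maximal subgroups of `PGL₂(F)` not containing the image of `SL₂(F)`: the set-up.
-/
import Mathlib
import Cfsg.Agent.Lib.Helper13.PSL2MaxOddMain
import Cfsg.Agent.Lib.Helper13.TwGeom
import Cfsg.Agent.Lib.Helper13.SLBridge4

set_option autoImplicit false

namespace Cfsg.Agent.Lib.Helper13.PGL2Max

open Matrix Subgroup Cfsg.Agent.Lib.Helper13 Cfsg.Agent.Lib.Helper13.Dk
  Cfsg.Agent.Lib.Helper13.PSL2MaxOdd

variable {F : Type*} [Field F]

/-- The natural map `SL₂(F) → PGL₂(F)`. -/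
abbrev piP (F : Type*) [Field F] :
    SpecialLinearGroup (Fin 2) F →* Matrix.ProjGenLinGroup (Fin 2) F :=
  Matrix.ProjGenLinGroup.mk.comp SpecialLinearGroup.toGL

theorem conjSL_mul_self (x : GL (Fin 2) F) (s : SpecialLinearGroup (Fin 2) F) :
    ((conjSL x s : SpecialLinearGroup (Fin 2) F) : Matrix (Fin 2) (Fin 2) F) *
      (x : Matrix (Fin 2) (Fin 2) F) =
      (x : Matrix (Fin 2) (Fin 2) F) * (s : Matrix (Fin 2) (Fin 2) F) := by
  change (x : Matrix (Fin 2) (Fin 2) F) * (s : Matrix (Fin 2) (Fin 2) F) *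
    ((x⁻¹ : GL (Fin 2) F) : Matrix (Fin 2) (Fin 2) F) * (x : Matrix (Fin 2) (Fin 2) F) = _
  rw [Matrix.mul_assoc, ← Units.val_mul, inv_mul_cancel, Units.val_one, Matrix.mul_one]

theorem trace_conjSL (x : GL (Fin 2) F) (s : SpecialLinearGroup (Fin 2) F) :
    ((conjSL x s : SpecialLinearGroup (Fin 2) F) : Matrix (Fin 2) (Fin 2) F).trace =
      (s : Matrix (Fin 2) (Fin 2) F).trace := by
  change ((x : Matrix (Fin 2) (Fin 2) F) * (s : Matrix (Fin 2) (Fin 2) F) *
    ((x⁻¹ : GL (Fin 2) F) : Matrix (Fin 2) (Fin 2) F)).trace = _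
  rw [Matrix.trace_mul_comm, ← Matrix.mul_assoc, ← Units.val_mul, inv_mul_cancel, Units.val_one,
    Matrix.one_mul]

/-- The hypotheses at the level of `GL₂(F)`. -/
structure GLMax (𝔐 : Subgroup (GL (Fin 2) F)) : Prop where
  center_le : center (GL (Fin 2) F) ≤ 𝔐
  coatom : IsCoatom 𝔐
  not_le : ∃ A : SpecialLinearGroup (Fin 2) F, SpecialLinearGroup.toGL A ∉ 𝔐

namespace GLMax

variable {𝔐 : Subgroup (GL (Fin 2) F)} (h : GLMax 𝔐)

include h in
/-- A proper overgroup equals `𝔐`. -/
theorem eq_of_le {X : Subgroup (GL (Fin 2) F)} (hle : 𝔐 ≤ X)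
    (hX : ∃ g : GL (Fin 2) F, g ∉ X) : X = 𝔐 := by
  have hne : X ≠ ⊤ := by
    obtain ⟨g, hg⟩ := hX
    intro htop
    exact hg (htop ▸ mem_top g)
  exact (h.coatom.le_iff.mp hle).resolve_left hne

include h in
theorem conj_mem {m : GL (Fin 2) F} (hm : m ∈ 𝔐) {s : SpecialLinearGroup (Fin 2) F}
    (hs : s ∈ 𝔐.comap SpecialLinearGroup.toGL) :
    conjSL m s ∈ 𝔐.comap SpecialLinearGroup.toGL := by
  change SpecialLinearGroup.toGL (conjSL m s) ∈ 𝔐
  rw [toGL_conjSL]
  exact 𝔐.mul_mem (𝔐.mul_mem hm hs) (𝔐.inv_mem hm)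

end GLMax

theorem two_ne_zero_of_odd [Fintype F] (hodd : Odd (Fintype.card F)) : (2 : F) ≠ 0 := by
  obtain ⟨p, hp⟩ := CharP.exists F
  haveI : Fact p.Prime := ⟨CharP.char_is_prime F p⟩
  exact Cfsg.Agent.Lib.Helper13.PairNF.two_ne_zero_of_char (F := F) p (p_ne_two (F := F) p hodd)

theorem finite_PGL2 [Finite F] : Finite (Matrix.ProjGenLinGroup (Fin 2) F) :=
  Finite.of_surjective _ Matrix.ProjGenLinGroup.mk_surjective

section setup

variable [Fintype F] (M : Subgroup (Matrix.ProjGenLinGroup (Fin 2) F)) (hM : IsCoatom M)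
  (hML : ¬ (piP F).range ≤ M)

include hM hML in
theorem glMax_comap : GLMax (M.comap Matrix.ProjGenLinGroup.mk) := by
  refine ⟨?_, Subgroup.isCoatom_comap_of_surjective Matrix.ProjGenLinGroup.mk_surjective hM, ?_⟩
  · intro z hz
    change Matrix.ProjGenLinGroup.mk z ∈ M
    rw [Matrix.ProjGenLinGroup.mk_eq_one.mpr hz]
    exact M.one_mem
  · by_contra hcon
    push Not at hcon
    apply hML
    rintro _ ⟨A, rfl⟩
    exact hcon A

theorem comap_piP_eq :
    M.comap (piP F) = (M.comap Matrix.ProjGenLinGroup.mk).comap SpecialLinearGroup.toGL := rfl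

variable (hodd : Odd (Fintype.card F))

include hodd in
theorem card_ker_piP : Nat.card (piP F).ker = 2 := by
  obtain ⟨p, hp⟩ := CharP.exists F
  haveI : Fact p.Prime := ⟨CharP.char_is_prime F p⟩
  rw [Matrix.SpecialLinearGroup.toPGL_ker, card_center_SL2_eq_gcd p, gcd_two_of_odd hodd]

include hodd in
theorem card_range_piP :
    2 * Nat.card (piP F).range = Fintype.card F * (Fintype.card F ^ 2 - 1) := by
  have h1 := card_eq_ker_mul (piP F).rangeRestrict (piP F).rangeRestrict_surjective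
  rw [MonoidHom.ker_rangeRestrict, card_ker_piP hodd, card_SL2] at h1
  exact h1.symm

include hodd in
theorem index_range_piP : (piP F).range.index = 2 := by
  haveI := finite_PGL2 (F := F)
  have h1 := Subgroup.card_mul_index (piP F).range
  rw [card_PGL2] at h1
  have h2 := card_range_piP (F := F) hodd
  have hpos : 0 < Nat.card (piP F).range := Nat.card_pos
  have : Nat.card (piP F).range * (piP F).range.index = Nat.card (piP F).range * 2 := by
    rw [h1, ← h2]; ring
  exact Nat.eq_of_mul_eq_mul_left hpos this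

include hodd in
theorem normal_range_piP : (piP F).range.Normal :=
  Subgroup.normal_of_index_eq_two (index_range_piP hodd)

include hM hML hodd in
/-- `|M| = 2 |M ∩ L|`. -/
theorem card_eq_two_mul_inf : Nat.card M = 2 * Nat.card ((piP F).range ⊓ M : Subgroup _) := by
  haveI := finite_PGL2 (F := F)
  haveI := normal_range_piP (F := F) hodd
  have htop : M ⊔ (piP F).range = ⊤ := by
    by_contra hne
    have hle : M ≤ M ⊔ (piP F).range := le_sup_left
    have := (hM.le_iff.mp hle).resolve_left hne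
    apply hML
    rw [← this]
    exact le_sup_right
  have h1 : (piP F).range.relIndex M = 2 := by
    rw [← Subgroup.relIndex_sup_right, htop, Subgroup.relIndex_top_right, index_range_piP hodd]
  have h2 := Subgroup.card_mul_index ((piP F).range.subgroupOf M)
  rw [Subgroup.relIndex] at h1
  rw [h1] at h2
  rw [← h2, ← Subgroup.inf_subgroupOf_right,
    Nat.card_congr (Subgroup.subgroupOfEquivOfLe (inf_le_right : (piP F).range ⊓ M ≤ M)).toEquiv]
  ring

include hodd in
/-- `|M.comap π| = 2 |M ∩ L|`. -/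
theorem card_comap_eq_two_mul_inf :
    Nat.card (M.comap (piP F)) = 2 * Nat.card ((piP F).range ⊓ M : Subgroup _) := by
  set H := M.comap (piP F) with hH
  have hle : (piP F).ker ≤ H := by
    intro z hz
    change (piP F) z ∈ M
    rw [MonoidHom.mem_ker.mp hz]
    exact M.one_mem
  have h1 := card_eq_ker_mul ((piP F).subgroupMap H) ((piP F).subgroupMap_surjective H)
  have hk : ((piP F).subgroupMap H).ker = (piP F).ker.subgroupOf H := by
    ext g
    rw [MonoidHom.mem_ker, Subgroup.mem_subgroupOf, MonoidHom.mem_ker]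
    constructor
    · intro hg
      exact congrArg Subtype.val hg
    · intro hg
      exact Subtype.ext hg
  rw [hk, Nat.card_congr (Subgroup.subgroupOfEquivOfLe hle).toEquiv, card_ker_piP hodd,
    hH, Subgroup.map_comap_eq] at h1
  exact h1

include hM hML hodd in
/-- `|M| = |M.comap π|`. -/
theorem card_eq_card_comap : Nat.card M = Nat.card (M.comap (piP F)) := by
  rw [card_eq_two_mul_inf M hM hML hodd, card_comap_eq_two_mul_inf M hodd]

end setup

end Cfsg.Agent.Lib.Helper13.PGL2Max
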