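/-
helper13: maximal subgroups of `PGL₂(F)` not containing the image of `SL₂(F)`: the Borel case and
the invariant-overgroup principle.
-/
import Mathlib
import Cfsg.Agent.Lib.Helper13.PGL2MaxA

set_option autoImplicit false

namespace Cfsg.Agent.Lib.Helper13.PGL2Max

open Matrix Subgroup Cfsg.Agent.Lib.Helper13 Cfsg.Agent.Lib.Helper13.Dk
  Cfsg.Agent.Lib.Helper13.PSL2MaxOdd

variable {F : Type*} [Field F]

/-- The element of `GL₂(F)` with matrix `P`. -/
noncomputable abbrev glOf (P : Matrix (Fin 2) (Fin 2) F) (hP : P.det ≠ 0) : GL (Fin 2) F :=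
  Matrix.GeneralLinearGroup.mkOfDetNeZero P hP

theorem glOf_coe (P : Matrix (Fin 2) (Fin 2) F) (hP : P.det ≠ 0) :
    ((glOf P hP : GL (Fin 2) F) : Matrix (Fin 2) (Fin 2) F) = P := rfl

/-- `P m P⁻¹`. -/
noncomputable abbrev cj (P : Matrix (Fin 2) (Fin 2) F) (hP : P.det ≠ 0) (m : GL (Fin 2) F) :
    GL (Fin 2) F := glOf P hP * m * (glOf P hP)⁻¹

theorem cj_mul (P : Matrix (Fin 2) (Fin 2) F) (hP : P.det ≠ 0) (m : GL (Fin 2) F) :
    ((cj P hP m : GL (Fin 2) F) : Matrix (Fin 2) (Fin 2) F) * P =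
      P * (m : Matrix (Fin 2) (Fin 2) F) := by
  have h1 : cj P hP m * glOf P hP = glOf P hP * m := by
    rw [cj]; group
  have h2 : ((cj P hP m * glOf P hP : GL (Fin 2) F) : Matrix (Fin 2) (Fin 2) F) =
      ((glOf P hP * m : GL (Fin 2) F) : Matrix (Fin 2) (Fin 2) F) := by rw [h1]
  rw [Units.val_mul, Units.val_mul] at h2
  exact h2

theorem cancel_right (P : Matrix (Fin 2) (Fin 2) F) (hP : P.det ≠ 0)
    {A B : Matrix (Fin 2) (Fin 2) F} (hAB : A * P = B * P) : A = B := by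
  have hPi' := Cfsg.Agent.Lib.Helper13.PairNF.mul_inv_of_det_ne_zero P hP
  calc A = A * (P * P⁻¹) := by rw [hPi', Matrix.mul_one]
    _ = B * (P * P⁻¹) := by rw [← Matrix.mul_assoc, hAB, Matrix.mul_assoc]
    _ = B := by rw [hPi', Matrix.mul_one]

theorem cancel_left (P : Matrix (Fin 2) (Fin 2) F) (hP : P.det ≠ 0)
    {A B : Matrix (Fin 2) (Fin 2) F} (hAB : P * A = P * B) : A = B := by
  have hPi := Cfsg.Agent.Lib.Helper13.PairNF.inv_mul_of_det_ne_zero P hP
  calc A = (P⁻¹ * P) * A := by rw [hPi, Matrix.one_mul]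
    _ = (P⁻¹ * P) * B := by rw [Matrix.mul_assoc, hAB, ← Matrix.mul_assoc]
    _ = B := by rw [hPi, Matrix.one_mul]

/-- If `Θ` is conjugation by `P`, then `toGL (Θ A) = P (toGL A) P⁻¹`. -/
theorem cj_toGL (P : Matrix (Fin 2) (Fin 2) F) (hP : P.det ≠ 0) (Θ : Tw F)
    (hΘ : ∀ A : SpecialLinearGroup (Fin 2) F, P * (A : Matrix (Fin 2) (Fin 2) F) =
      ((Θ.hom A : SpecialLinearGroup (Fin 2) F) : Matrix (Fin 2) (Fin 2) F) * P)
    (A : SpecialLinearGroup (Fin 2) F) :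
    cj P hP (SpecialLinearGroup.toGL A) = SpecialLinearGroup.toGL (Θ.hom A) := by
  apply Units.ext
  apply cancel_right P hP
  rw [cj_mul]
  exact hΘ A

/-- The key relation between the conjugates. -/
theorem cj_conjSL (P : Matrix (Fin 2) (Fin 2) F) (hP : P.det ≠ 0) (Θ : Tw F)
    (hΘ : ∀ A : SpecialLinearGroup (Fin 2) F, P * (A : Matrix (Fin 2) (Fin 2) F) =
      ((Θ.hom A : SpecialLinearGroup (Fin 2) F) : Matrix (Fin 2) (Fin 2) F) * P)
    (m : GL (Fin 2) F) (s : SpecialLinearGroup (Fin 2) F) :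
    ((Θ.hom (conjSL m s) : SpecialLinearGroup (Fin 2) F) : Matrix (Fin 2) (Fin 2) F) *
      ((cj P hP m : GL (Fin 2) F) : Matrix (Fin 2) (Fin 2) F) =
      ((cj P hP m : GL (Fin 2) F) : Matrix (Fin 2) (Fin 2) F) *
        ((Θ.hom s : SpecialLinearGroup (Fin 2) F) : Matrix (Fin 2) (Fin 2) F) := by
  apply cancel_right P hP
  rw [Matrix.mul_assoc, cj_mul, ← Matrix.mul_assoc, ← hΘ, Matrix.mul_assoc, conjSL_mul_self,
    ← Matrix.mul_assoc, ← cj_mul P hP, Matrix.mul_assoc, hΘ, Matrix.mul_assoc]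

section borel

variable [Fintype F] {𝔐 : Subgroup (GL (Fin 2) F)} (h : GLMax 𝔐)

include h in
/-- The Borel case: `|H| = q (q - 1)`. -/
theorem card_of_borel (P : Matrix (Fin 2) (Fin 2) F) (hP : P.det ≠ 0) (Θ : Tw F)
    (hΘ : ∀ A : SpecialLinearGroup (Fin 2) F, P * (A : Matrix (Fin 2) (Fin 2) F) =
      ((Θ.hom A : SpecialLinearGroup (Fin 2) F) : Matrix (Fin 2) (Fin 2) F) * P)
    (hB : ∀ g : 𝔐.comap SpecialLinearGroup.toGL,
      ((subEmb (𝔐.comap SpecialLinearGroup.toGL)).app Θ).m g 1 0 = 0)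
    (y : 𝔐.comap SpecialLinearGroup.toGL)
    (hy : ¬ Emb.sc ((subEmb (𝔐.comap SpecialLinearGroup.toGL)).m y))
    (htr : (subEmb (𝔐.comap SpecialLinearGroup.toGL)).tr y ^ 2 = 4) :
    Nat.card (𝔐.comap SpecialLinearGroup.toGL) = Fintype.card F * (Fintype.card F - 1) := by
  classical
  set Y : Matrix (Fin 2) (Fin 2) F := ((y : SpecialLinearGroup (Fin 2) F) :
    Matrix (Fin 2) (Fin 2) F) with hY
  set Y' : Matrix (Fin 2) (Fin 2) F :=
    ((Θ.hom (y : SpecialLinearGroup (Fin 2) F) : SpecialLinearGroup (Fin 2) F) :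
      Matrix (Fin 2) (Fin 2) F) with hY'
  have hPY : P * Y = Y' * P := hΘ y
  have y10 : Y' 1 0 = 0 := hB y
  have ydet : Y' 0 0 * Y' 1 1 = 1 := by
    have := (Θ.hom (y : SpecialLinearGroup (Fin 2) F)).2
    rw [Matrix.det_fin_two] at this
    rw [← this]
    change Y' 0 0 * Y' 1 1 = Y' 0 0 * Y' 1 1 - Y' 0 1 * Y' 1 0
    rw [y10]; ring
  have ytr : (Y' 0 0 + Y' 1 1) ^ 2 = 4 := by
    have h1 : Y'.trace = Y.trace := Θ.tr_eq _
    rw [Matrix.trace_fin_two] at h1
    rw [h1]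
    exact htr
  have y00 : Y' 0 0 = Y' 1 1 := by
    have : (Y' 0 0 - Y' 1 1) ^ 2 = 0 := by linear_combination ytr - 4 * ydet
    exact sub_eq_zero.mp (pow_eq_zero_iff (two_ne_zero) |>.mp this)
  have y01 : Y' 0 1 ≠ 0 := by
    intro h01
    apply hy
    -- `Y' = c • 1`, hence `Y = c • 1`
    have hY'sc : Y' = (Y' 0 0) • (1 : Matrix (Fin 2) (Fin 2) F) := by
      ext i j
      fin_cases i <;> fin_cases j <;> simp [h01, y10, y00]
    have hYsc : Y = (Y' 0 0) • (1 : Matrix (Fin 2) (Fin 2) F) := by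
      apply cancel_left P hP
      rw [hPY, hY'sc]
      simp
    change Emb.sc Y
    rw [hYsc]
    refine ⟨by simp, by simp, by simp⟩
  -- `𝔐` is contained in the conjugated Borel subgroup
  have hsub : ∀ m ∈ 𝔐, ((cj P hP m : GL (Fin 2) F) : Matrix (Fin 2) (Fin 2) F) 1 0 = 0 := by
    intro m hm
    set m' : Matrix (Fin 2) (Fin 2) F := ((cj P hP m : GL (Fin 2) F) : Matrix (Fin 2) (Fin 2) F)
      with hm'
    have hz : conjSL m (y : SpecialLinearGroup (Fin 2) F) ∈ 𝔐.comap SpecialLinearGroup.toGL :=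
      h.conj_mem hm y.2
    set Z' : Matrix (Fin 2) (Fin 2) F :=
      ((Θ.hom (conjSL m (y : SpecialLinearGroup (Fin 2) F)) : SpecialLinearGroup (Fin 2) F) :
        Matrix (Fin 2) (Fin 2) F) with hZ'
    have z10 : Z' 1 0 = 0 := hB ⟨_, hz⟩
    have hrel : Z' * m' = m' * Y' := cj_conjSL P hP Θ hΘ m y
    have e10 := congr_fun (congr_fun hrel 1) 0
    have e11 := congr_fun (congr_fun hrel 1) 1
    simp only [Matrix.mul_apply, Fin.sum_univ_two, z10, y10, zero_mul, mul_zero, zero_add,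
      add_zero] at e10 e11
    by_contra hc
    have h1 : Z' 1 1 = Y' 0 0 := by
      have : (Z' 1 1 - Y' 0 0) * m' 1 0 = 0 := by linear_combination e10
      rcases mul_eq_zero.mp this with h | h
      · exact sub_eq_zero.mp h
      · exact absurd h hc
    rw [h1, ← y00] at e11
    have : m' 1 0 * Y' 0 1 = 0 := by linear_combination -e11
    rcases mul_eq_zero.mp this with h | h
    · exact hc h
    · exact y01 h
  set 𝔅 := (Cfsg.upperTriangularGL 2 F).comap (MulAut.conj (glOf P hP)).toMonoidHom with h𝔅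
  have hle : 𝔐 ≤ 𝔅 := by
    intro m hm
    change cj P hP m ∈ Cfsg.upperTriangularGL 2 F
    rw [mem_upperTriangularGL_two]
    exact hsub m hm
  have hne : ∃ g : GL (Fin 2) F, g ∉ 𝔅 := by
    refine ⟨(glOf P hP)⁻¹ * SpecialLinearGroup.toGL (lSL 1) * glOf P hP, ?_⟩
    intro hmem
    change glOf P hP * ((glOf P hP)⁻¹ * SpecialLinearGroup.toGL (lSL 1) * glOf P hP) *
      (glOf P hP)⁻¹ ∈ Cfsg.upperTriangularGL 2 F at hmem
    have e : glOf P hP * ((glOf P hP)⁻¹ * SpecialLinearGroup.toGL (lSL 1) * glOf P hP) *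
      (glOf P hP)⁻¹ = SpecialLinearGroup.toGL (lSL 1) := by group
    rw [e, mem_upperTriangularGL_two] at hmem
    change ((lSL (1 : F) : SpecialLinearGroup (Fin 2) F) : Matrix (Fin 2) (Fin 2) F) 1 0 = 0 at hmem
    rw [lSL_coe] at hmem
    simp at hmem
  have heq : 𝔅 = 𝔐 := h.eq_of_le hle hne
  -- `H` is the preimage of the Borel subgroup of `SL₂`
  have hHX : 𝔐.comap SpecialLinearGroup.toGL = (borelSL F).comap Θ.hom := by
    ext A
    constructor
    · intro hA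
      exact mem_borelSL.mpr (hB ⟨A, hA⟩)
    · intro hA
      have hA' : ((Θ.hom A : SpecialLinearGroup (Fin 2) F) : Matrix (Fin 2) (Fin 2) F) 1 0 = 0 :=
        mem_borelSL.mp hA
      change SpecialLinearGroup.toGL A ∈ 𝔐
      rw [← heq]
      change cj P hP (SpecialLinearGroup.toGL A) ∈ Cfsg.upperTriangularGL 2 F
      rw [cj_toGL P hP Θ hΘ, mem_upperTriangularGL_two]
      exact hA'
  let e : SpecialLinearGroup (Fin 2) F ≃* SpecialLinearGroup (Fin 2) F :=
    MulEquiv.ofBijective Θ.hom Θ.bijective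
  rw [hHX, ← Emb.card_borelSL_eq (F := F)]
  have : (borelSL F).comap Θ.hom =
      (borelSL F).comap (e : SpecialLinearGroup (Fin 2) F →* SpecialLinearGroup (Fin 2) F) := rfl
  rw [this, Subgroup.comap_equiv_eq_map_symm]
  exact Subgroup.card_map_of_injective e.symm.injective

end borel

end Cfsg.Agent.Lib.Helper13.PGL2Max
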