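/-
helper13: maximal subgroups of `PGL₂(F)` not containing the image of `SL₂(F)`: torus normalisers.
-/
import Mathlib
import Cfsg.Agent.Lib.Helper13.PGL2MaxB

set_option autoImplicit false

namespace Cfsg.Agent.Lib.Helper13.PGL2Max

open Matrix Subgroup Cfsg.Agent.Lib.Helper13 Cfsg.Agent.Lib.Helper13.Dk
  Cfsg.Agent.Lib.Helper13.PSL2MaxOdd

variable {F : Type*} [Field F]

theorem conjSL_inv (m : GL (Fin 2) F) (g : SpecialLinearGroup (Fin 2) F) :
    conjSL m g⁻¹ = (conjSL m g)⁻¹ := by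
  apply SpecialLinearGroup.toGL_injective
  rw [toGL_conjSL, map_inv, map_inv, toGL_conjSL]
  group

theorem conjSL_mul_right' (m : GL (Fin 2) F) (g k : SpecialLinearGroup (Fin 2) F) :
    conjSL m (g * k) = conjSL m g * conjSL m k := by
  apply SpecialLinearGroup.toGL_injective
  rw [toGL_conjSL, map_mul, map_mul, toGL_conjSL, toGL_conjSL]
  group

theorem conjSL_inv_apply (m : GL (Fin 2) F) (g : SpecialLinearGroup (Fin 2) F) :
    conjSL m⁻¹ (conjSL m g) = g := by
  rw [← conjSL_mul, inv_mul_cancel, conjSL_one]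

/-- The elements of `GL₂(F)` conjugating `g` to `g` or `g⁻¹`. -/
def normGL (g : SpecialLinearGroup (Fin 2) F) : Subgroup (GL (Fin 2) F) where
  carrier := {m | conjSL m g = g ∨ conjSL m g = g⁻¹}
  one_mem' := Or.inl (conjSL_one g)
  mul_mem' := by
    intro a b ha hb
    change conjSL (a * b) g = g ∨ conjSL (a * b) g = g⁻¹
    rw [conjSL_mul]
    rcases hb with hb | hb
    · rw [hb]; exact ha
    · rw [hb, conjSL_inv]
      rcases ha with ha | ha
      · right; rw [ha]
      · left; rw [ha, inv_inv]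
  inv_mem' := by
    intro a ha
    change conjSL a⁻¹ g = g ∨ conjSL a⁻¹ g = g⁻¹
    rcases ha with ha | ha
    · left
      nth_rewrite 1 [← ha]
      exact conjSL_inv_apply a g
    · right
      have : conjSL a⁻¹ g⁻¹ = g := by
        nth_rewrite 1 [← ha]
        exact conjSL_inv_apply a g
      rw [conjSL_inv] at this
      exact inv_eq_iff_eq_inv.mp this

theorem mem_normGL (g : SpecialLinearGroup (Fin 2) F) (m : GL (Fin 2) F) :
    m ∈ normGL g ↔ conjSL m g = g ∨ conjSL m g = g⁻¹ := Iff.rfl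

theorem toGL_mem_normGL [Fintype F] (g : SpecialLinearGroup (Fin 2) F)
    (hg : (g : Matrix (Fin 2) (Fin 2) F).trace ^ 2 ≠ 4) (A : SpecialLinearGroup (Fin 2) F) :
    SpecialLinearGroup.toGL A ∈ normGL g ↔
      A ∈ normalizer ((centralizer ({g} : Set (SpecialLinearGroup (Fin 2) F)) :
        Subgroup (SpecialLinearGroup (Fin 2) F)) : Set (SpecialLinearGroup (Fin 2) F)) := by
  rw [mem_normGL, conjSL_toGL, mem_normalizer_centralizer_iff g hg]

section torus

variable [Fintype F] {𝔐 : Subgroup (GL (Fin 2) F)} (h : GLMax 𝔐)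

omit [Fintype F] in
theorem ne_inv_of_trace_sq (g : SpecialLinearGroup (Fin 2) F)
    (hg : (g : Matrix (Fin 2) (Fin 2) F).trace ^ 2 ≠ 4) : g ≠ g⁻¹ := by
  have := (subEmb (⊤ : Subgroup (SpecialLinearGroup (Fin 2) F))).ne_inv_of_tr_sq
    (g := ⟨g, mem_top g⟩) hg
  intro hgg
  apply this
  exact Subtype.ext hgg

/-- The normaliser of a maximal torus is a proper subgroup. -/
theorem exists_not_mem_normalizer (h4 : 4 ≤ Fintype.card F) (g : SpecialLinearGroup (Fin 2) F)
    (hg : (g : Matrix (Fin 2) (Fin 2) F).trace ^ 2 ≠ 4) :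
    ∃ A : SpecialLinearGroup (Fin 2) F,
      A ∉ normalizer ((centralizer ({g} : Set (SpecialLinearGroup (Fin 2) F)) :
        Subgroup (SpecialLinearGroup (Fin 2) F)) : Set (SpecialLinearGroup (Fin 2) F)) := by
  classical
  by_contra hcon
  push Not at hcon
  set T := centralizer ({g} : Set (SpecialLinearGroup (Fin 2) F)) with hT
  set N := normalizer (T : Set (SpecialLinearGroup (Fin 2) F)) with hN
  have htop : N = ⊤ := by
    rw [eq_top_iff]
    intro A _
    exact hcon A
  have hcardN : Nat.card N = 2 * Nat.card T :=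
    card_normalizer_centralizer g hg (ne_inv_of_trace_sq g hg)
  have h1 : Nat.card N = Nat.card (SpecialLinearGroup (Fin 2) F) := by
    rw [htop, Subgroup.card_top]
  rw [hcardN, card_SL2] at h1
  have h2 : Nat.card T ≤ Fintype.card F + 1 := by
    rcases card_centralizer_cases g hg with h | h <;> rw [hT, h] <;> omega
  have h3 : 4 ^ 2 ≤ Fintype.card F ^ 2 := Nat.pow_le_pow_left h4 2
  have h5 : Fintype.card F * (Fintype.card F ^ 2 - 1) =
      Fintype.card F * (Fintype.card F - 1) * (Fintype.card F + 1) := by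
    obtain ⟨u, hu⟩ : ∃ u, Fintype.card F = u + 1 := ⟨Fintype.card F - 1, by omega⟩
    rw [hu]
    have : (u + 1) ^ 2 - 1 = u * (u + 2) := by
      apply Nat.sub_eq_of_eq_add
      ring
    rw [this, Nat.add_sub_cancel]
    ring
  have h6' : 3 ≤ Fintype.card F - 1 := by omega
  have h6 : 4 * 3 ≤ Fintype.card F * (Fintype.card F - 1) := Nat.mul_le_mul h4 h6'
  have h7 : 4 * 3 * (Fintype.card F + 1) ≤
      Fintype.card F * (Fintype.card F - 1) * (Fintype.card F + 1) :=
    Nat.mul_le_mul_right _ h6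
  omega

include h in
/-- If `𝔐` normalises the torus of `g`, it is the full normaliser. -/
theorem eq_normGL (h4 : 4 ≤ Fintype.card F) (g : SpecialLinearGroup (Fin 2) F)
    (hg : (g : Matrix (Fin 2) (Fin 2) F).trace ^ 2 ≠ 4)
    (hinv : ∀ m ∈ 𝔐, conjSL m g = g ∨ conjSL m g = g⁻¹) : normGL g = 𝔐 := by
  apply h.eq_of_le (fun m hm => hinv m hm)
  obtain ⟨A, hA⟩ := exists_not_mem_normalizer h4 g hg
  exact ⟨SpecialLinearGroup.toGL A, fun hmem => hA ((toGL_mem_normGL g hg A).mp hmem)⟩

include h in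
theorem comap_eq_normalizer (h4 : 4 ≤ Fintype.card F) (g : SpecialLinearGroup (Fin 2) F)
    (hg : (g : Matrix (Fin 2) (Fin 2) F).trace ^ 2 ≠ 4)
    (hinv : ∀ m ∈ 𝔐, conjSL m g = g ∨ conjSL m g = g⁻¹) :
    𝔐.comap SpecialLinearGroup.toGL =
      normalizer ((centralizer ({g} : Set (SpecialLinearGroup (Fin 2) F)) :
        Subgroup (SpecialLinearGroup (Fin 2) F)) : Set (SpecialLinearGroup (Fin 2) F)) := by
  ext A
  rw [Subgroup.mem_comap, ← eq_normGL h h4 g hg hinv, toGL_mem_normGL g hg]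

include h in
theorem card_comap_of_torus (h4 : 4 ≤ Fintype.card F) (g : SpecialLinearGroup (Fin 2) F)
    (hg : (g : Matrix (Fin 2) (Fin 2) F).trace ^ 2 ≠ 4)
    (hinv : ∀ m ∈ 𝔐, conjSL m g = g ∨ conjSL m g = g⁻¹) :
    Nat.card (𝔐.comap SpecialLinearGroup.toGL) =
      2 * Nat.card (centralizer ({g} : Set (SpecialLinearGroup (Fin 2) F))) := by
  rw [comap_eq_normalizer h h4 g hg hinv]
  exact card_normalizer_centralizer g hg (ne_inv_of_trace_sq g hg)

end torus

end Cfsg.Agent.Lib.Helper13.PGL2Max
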