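/-
helper13: maximal subgroups of `PGL₂(F)` not containing the image of `SL₂(F)`: the torus
normaliser is dihedral.
-/
import Mathlib
import Cfsg.Agent.Lib.Helper13.PGL2MaxC
import Cfsg.Agent.Lib.Helper14.DihedralCrit

set_option autoImplicit false

namespace Cfsg.Agent.Lib.Helper13.PGL2Max

open Matrix Subgroup Cfsg.Agent.Lib.Helper13 Cfsg.Agent.Lib.Helper13.Dk
  Cfsg.Agent.Lib.Helper13.PSL2MaxOdd

variable {F : Type*} [Field F]

theorem mem_center_GL_iff (g : GL (Fin 2) F) :
    g ∈ center (GL (Fin 2) F) ↔ ∃ c : F, (g : Matrix (Fin 2) (Fin 2) F) = c • 1 := by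
  rw [Matrix.GeneralLinearGroup.center_eq_range_scalar, MonoidHom.mem_range]
  constructor
  · rintro ⟨u, rfl⟩
    refine ⟨(u : F), ?_⟩
    rw [Matrix.GeneralLinearGroup.coe_scalar]
    ext i j
    simp [Matrix.scalar_apply, Matrix.diagonal_apply, Matrix.one_apply]
  · rintro ⟨c, hc⟩
    have hc0 : c ≠ 0 := by
      intro h0
      have hd : (g : Matrix (Fin 2) (Fin 2) F).det = 0 := by
        rw [hc, h0, zero_smul, Matrix.det_zero]
      have hu : IsUnit (g : Matrix (Fin 2) (Fin 2) F).det :=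
        (Matrix.isUnit_iff_isUnit_det _).mp g.isUnit
      rw [hd] at hu
      exact not_isUnit_zero hu
    refine ⟨Units.mk0 c hc0, ?_⟩
    apply Units.ext
    rw [Matrix.GeneralLinearGroup.coe_scalar, hc]
    ext i j
    simp [Matrix.scalar_apply, Matrix.diagonal_apply, Matrix.one_apply]

/-- Cayley–Hamilton for `2 × 2` matrices. -/
theorem cayley_hamilton_gen2 (d : Matrix (Fin 2) (Fin 2) F) :
    d * d = d.trace • d - d.det • 1 := by
  rw [Matrix.trace_fin_two, Matrix.det_fin_two]
  ext i j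
  fin_cases i <;> fin_cases j <;> simp [Matrix.mul_apply, Fin.sum_univ_two] <;> ring

/-- A matrix whose square is `det • 1` is scalar. -/
theorem scalar_of_sq_eq_det (h2 : (2 : F) ≠ 0) (d : Matrix (Fin 2) (Fin 2) F) (hd : d.det ≠ 0)
    (hsq : d * d = d.det • 1) : ∃ c : F, d = c • 1 := by
  have hch := cayley_hamilton_gen2 d
  rw [hsq] at hch
  have h1 : d.trace • d = (2 * d.det) • (1 : Matrix (Fin 2) (Fin 2) F) := by
    have : d.trace • d = d.det • (1 : Matrix (Fin 2) (Fin 2) F) + d.det • 1 := by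
      rw [eq_sub_iff_add_eq] at hch
      exact hch.symm
    rw [this, ← add_smul]; congr 1; ring
  by_cases ht : d.trace = 0
  · exfalso
    rw [ht, zero_smul] at h1
    have := congr_fun (congr_fun h1 0) 0
    simp at this
    rcases this with h | h
    · exact h2 h
    · exact hd h
  · refine ⟨2 * d.det / d.trace, ?_⟩
    calc d = (d.trace)⁻¹ • (d.trace • d) := by
          rw [smul_smul, inv_mul_cancel₀ ht, one_smul]
      _ = (2 * d.det / d.trace) • 1 := by
          rw [h1, smul_smul]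
          congr 1
          field_simp

theorem det_one_add (t : Matrix (Fin 2) (Fin 2) F) :
    (1 + t).det = 1 + t.trace + t.det := by
  rw [Matrix.det_fin_two, Matrix.det_fin_two, Matrix.trace_fin_two]
  simp only [Matrix.add_apply, Matrix.one_apply_eq,
    Matrix.one_apply_ne (show (0 : Fin 2) ≠ 1 by decide),
    Matrix.one_apply_ne (show (1 : Fin 2) ≠ 0 by decide)]
  ring

theorem coe_add_coe_inv (t : SpecialLinearGroup (Fin 2) F) :
    (t : Matrix (Fin 2) (Fin 2) F) + ((t⁻¹ : SpecialLinearGroup (Fin 2) F) :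
      Matrix (Fin 2) (Fin 2) F) = (t : Matrix (Fin 2) (Fin 2) F).trace • 1 := by
  rw [Matrix.SpecialLinearGroup.coe_inv, Matrix.adjugate_fin_two, Matrix.trace_fin_two]
  ext i j
  fin_cases i <;> fin_cases j <;> simp
  ring

/-- Nonscalar elements of a maximal torus are semisimple. -/
theorem trace_sq_ne_four_of_mem_centralizer (g t : SpecialLinearGroup (Fin 2) F)
    (hg : (g : Matrix (Fin 2) (Fin 2) F).trace ^ 2 ≠ 4)
    (ht : t ∈ centralizer ({g} : Set (SpecialLinearGroup (Fin 2) F)))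
    (hns : ¬ Emb.sc (t : Matrix (Fin 2) (Fin 2) F)) :
    (t : Matrix (Fin 2) (Fin 2) F).trace ^ 2 ≠ 4 := by
  obtain ⟨x, y, hxy⟩ := exists_coords_of_mem_centralizer g t hg ht
  have hy : y ≠ 0 := by
    intro h0
    apply hns
    rw [hxy, h0, zero_smul, add_zero]
    refine ⟨by simp, by simp, by simp⟩
  have hdet : x ^ 2 + x * y * (g : Matrix (Fin 2) (Fin 2) F).trace + y ^ 2 = 1 := by
    have h1 := det_coords (g : Matrix (Fin 2) (Fin 2) F) x y
    rw [← hxy, t.det_coe, g.det_coe, mul_one] at h1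
    exact h1.symm
  have htr : (t : Matrix (Fin 2) (Fin 2) F).trace =
      2 * x + y * (g : Matrix (Fin 2) (Fin 2) F).trace := by
    rw [hxy, trace_coords]
  intro h4
  apply hg
  have : y ^ 2 * ((g : Matrix (Fin 2) (Fin 2) F).trace ^ 2 - 4) = 0 := by
    rw [htr] at h4
    linear_combination h4 - 4 * hdet
  rcases mul_eq_zero.mp this with h | h
  · exact absurd (pow_eq_zero_iff (two_ne_zero) |>.mp h) hy
  · exact sub_eq_zero.mp h

end Cfsg.Agent.Lib.Helper13.PGL2Max
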