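/-
helper13: maximal subgroups of `PGL₂(F)` not containing the image of `SL₂(F)`: the dihedral case.
-/
import Mathlib
import Cfsg.Agent.Lib.Helper13.PGL2MaxD

set_option autoImplicit false

namespace Cfsg.Agent.Lib.Helper13.PGL2Max

open Matrix Subgroup Cfsg.Agent.Lib.Helper13 Cfsg.Agent.Lib.Helper13.Dk
  Cfsg.Agent.Lib.Helper13.PSL2MaxOdd

variable {F : Type*} [Field F] [Fintype F]

/-- The dihedral case. -/
theorem dihedral_of_torus (hodd : Odd (Fintype.card F)) (h3 : 3 < Fintype.card F)
    (M : Subgroup (Matrix.ProjGenLinGroup (Fin 2) F)) (hM : IsCoatom M)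
    (hML : ¬ (piP F).range ≤ M) (g : SpecialLinearGroup (Fin 2) F)
    (hg : (g : Matrix (Fin 2) (Fin 2) F).trace ^ 2 ≠ 4)
    (hg0 : (g : Matrix (Fin 2) (Fin 2) F).trace ≠ 0)
    (hinv : ∀ m ∈ M.comap Matrix.ProjGenLinGroup.mk, conjSL m g = g ∨ conjSL m g = g⁻¹) :
    (Fintype.card F ≠ 5 ∧ Nonempty (M ≃* DihedralGroup (Fintype.card F - 1))) ∨
      Nonempty (M ≃* DihedralGroup (Fintype.card F + 1)) := by
  classical
  haveI := finite_PGL2 (F := F)
  have h4 : 4 ≤ Fintype.card F := h3
  have h2 : (2 : F) ≠ 0 := two_ne_zero_of_odd hodd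
  have h := glMax_comap M hM hML
  set 𝔐 := M.comap Matrix.ProjGenLinGroup.mk with h𝔐
  have hnorm : normGL g = 𝔐 := eq_normGL h h4 g hg hinv
  set T := centralizer ({g} : Set (SpecialLinearGroup (Fin 2) F)) with hT
  have hcardM : Nat.card M = 2 * Nat.card T := by
    rw [card_eq_card_comap M hM hML hodd, comap_piP_eq]
    exact card_comap_of_torus h h4 g hg hinv
  -- a generator of the torus
  haveI : IsCyclic T := isCyclic_centralizer g hg
  obtain ⟨t₁, ht₁⟩ := IsCyclic.exists_generator (α := T)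
  set t : SpecialLinearGroup (Fin 2) F := (t₁ : SpecialLinearGroup (Fin 2) F) with ht
  have htT : t ∈ T := t₁.2
  have hordt : orderOf t = Nat.card T := by
    rw [ht, Subgroup.orderOf_coe]
    exact orderOf_eq_card_of_forall_mem_zpowers ht₁
  -- `t` is not scalar
  have htns : ¬ Emb.sc (t : Matrix (Fin 2) (Fin 2) F) := by
    intro hsc
    have hgT : (⟨g, self_mem_centralizer g⟩ : T) ∈ zpowers t₁ := ht₁ _
    obtain ⟨k, hk⟩ := hgT
    have hk' : t ^ k = g := by
      have := congrArg (fun x : T => (x : SpecialLinearGroup (Fin 2) F)) hk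
      simpa using this
    have ht1 : t = 1 ∨ t = -1 := by
      rcases scalar_cases t hsc with h1 | h1
      · left; exact Subtype.ext h1
      · right; apply Subtype.ext; rw [h1]; simp
    apply hg
    rcases ht1 with h1 | h1
    · rw [h1, _root_.one_zpow] at hk'
      rw [← hk', Matrix.SpecialLinearGroup.coe_one, Matrix.trace_one]
      simp; norm_num
    · rcases Int.even_or_odd k with hk2 | hk2
      · rw [h1, Even.neg_zpow hk2, _root_.one_zpow] at hk'
        rw [← hk', Matrix.SpecialLinearGroup.coe_one, Matrix.trace_one]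
        simp; norm_num
      · rw [h1, Odd.neg_zpow hk2, _root_.one_zpow] at hk'
        rw [← hk', Matrix.SpecialLinearGroup.coe_neg, Matrix.SpecialLinearGroup.coe_one,
          Matrix.trace_neg, Matrix.trace_one]
        simp; norm_num
  have httr : (t : Matrix (Fin 2) (Fin 2) F).trace ^ 2 ≠ 4 :=
    trace_sq_ne_four_of_mem_centralizer g t hg htT htns
  set τ := (t : Matrix (Fin 2) (Fin 2) F).trace with hτ
  set tm : Matrix (Fin 2) (Fin 2) F := (t : Matrix (Fin 2) (Fin 2) F) with htm
  set δ : F := 2 + τ with hδ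
  have hδ0 : δ ≠ 0 := by
    intro h0
    apply httr
    have : τ = -2 := by linear_combination h0
    rw [this]; norm_num
  set c₀ : Matrix (Fin 2) (Fin 2) F := 1 + tm with hc₀
  have hdetc : c₀.det = δ := by
    rw [hc₀, det_one_add, htm, t.det_coe, hδ, hτ]; ring
  have hdetc0 : c₀.det ≠ 0 := by rw [hdetc]; exact hδ0
  set c : GL (Fin 2) F := glOf c₀ hdetc0 with hc
  -- `c₀² = δ t`
  have hK1 : c₀ * c₀ = δ • tm := by
    have hch := cayley_hamilton_two tm t.det_coe
    rw [← Matrix.trace_fin_two] at hch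
    rw [hc₀]
    simp only [add_mul, mul_add, Matrix.one_mul, Matrix.mul_one]
    rw [hch, hδ, add_smul, two_smul, ← hτ]
    abel
  have hK2 : ∀ k : ℕ, (c₀ ^ k) * (c₀ ^ k) = δ ^ k • tm ^ k := by
    intro k
    rw [← (Commute.refl c₀).mul_pow, hK1, smul_pow]
  have hdetk : ∀ k : ℕ, (c₀ ^ k).det = δ ^ k := by
    intro k
    rw [Matrix.det_pow, hdetc]
  -- `t` commutes with `g`
  have htg : tm * (g : Matrix (Fin 2) (Fin 2) F) = (g : Matrix (Fin 2) (Fin 2) F) * tm := by
    have := (mem_centralizer_singleton_comm g t).mp htT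
    have := congrArg (fun x : SpecialLinearGroup (Fin 2) F => (x : Matrix (Fin 2) (Fin 2) F)) this
    simpa using this
  have hcg : c * SpecialLinearGroup.toGL g = SpecialLinearGroup.toGL g * c := by
    apply Units.ext
    change c₀ * (g : Matrix (Fin 2) (Fin 2) F) = (g : Matrix (Fin 2) (Fin 2) F) * c₀
    rw [hc₀, add_mul, mul_add, Matrix.one_mul, Matrix.mul_one, htg]
  have hcN : c ∈ 𝔐 := by
    rw [← hnorm, mem_normGL]
    left
    apply SpecialLinearGroup.toGL_injective
    rw [toGL_conjSL, hcg, mul_assoc, mul_inv_cancel, mul_one]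
  -- the inverting element
  obtain ⟨x, hx⟩ := exists_inverting g hg
  have hgne : g ≠ g⁻¹ := ne_inv_of_trace_sq g hg
  have hxN : SpecialLinearGroup.toGL x ∈ 𝔐 := by
    rw [← hnorm, mem_normGL, conjSL_toGL]
    exact Or.inr hx
  have hxx : x * x = zSL F := mul_self_eq_zSL_of_inverting h2 g hg hgne x hx
  have hxt : x * t * x⁻¹ = t⁻¹ := conj_eq_inv_of_mem_centralizer g hg x hx t htT
  set r : M := ⟨Matrix.ProjGenLinGroup.mk c, hcN⟩ with hr
  set s : M := ⟨Matrix.ProjGenLinGroup.mk (SpecialLinearGroup.toGL x), hxN⟩ with hs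
  -- powers of `r`
  have hpow : ∀ k : ℕ, r ^ k = 1 ↔ t ^ k = 1 := by
    intro k
    have e1 : r ^ k = 1 ↔ c ^ k ∈ center (GL (Fin 2) F) := by
      rw [← Matrix.ProjGenLinGroup.mk_eq_one, map_pow, Subtype.ext_iff]
      rfl
    rw [e1, mem_center_GL_iff]
    have hck : ((c ^ k : GL (Fin 2) F) : Matrix (Fin 2) (Fin 2) F) = c₀ ^ k := by
      rw [Units.val_pow_eq_pow_val]
      rfl
    rw [hck]
    constructor
    · rintro ⟨lam, hlam⟩
      have h1 := hK2 k
      have h2' := hdetk k
      rw [hlam] at h1 h2'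
      have hl2 : lam ^ 2 = δ ^ k := by
        rw [← h2', Matrix.det_smul, Matrix.det_one, mul_one, Fintype.card_fin]
      have h3' : (lam ^ 2) • (1 : Matrix (Fin 2) (Fin 2) F) = δ ^ k • tm ^ k := by
        rw [← h1, smul_mul_smul_comm, Matrix.mul_one, pow_two]
      rw [hl2] at h3'
      have hdk : δ ^ k ≠ 0 := pow_ne_zero k hδ0
      have h4' : tm ^ k = 1 := by
        have := congrArg (fun X : Matrix (Fin 2) (Fin 2) F => (δ ^ k)⁻¹ • X) h3'
        simp only [smul_smul, inv_mul_cancel₀ hdk, one_smul] at this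
        exact this.symm
      apply Subtype.ext
      rw [Matrix.SpecialLinearGroup.coe_pow, Matrix.SpecialLinearGroup.coe_one]
      exact h4'
    · intro htk
      have htk' : tm ^ k = 1 := by
        rw [htm, ← Matrix.SpecialLinearGroup.coe_pow, htk, Matrix.SpecialLinearGroup.coe_one]
      apply scalar_of_sq_eq_det h2 (c₀ ^ k) (by rw [hdetk]; exact pow_ne_zero k hδ0)
      rw [hK2, htk', hdetk]
  have hord : orderOf r = Nat.card T := by
    rw [← hordt]
    exact orderOf_eq_orderOf_iff.mpr hpow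
  have hr1 : r ^ Nat.card T = 1 := by rw [← hord]; exact pow_orderOf_eq_one r
  have hs1 : s * s = 1 := by
    apply Subtype.ext
    change Matrix.ProjGenLinGroup.mk (SpecialLinearGroup.toGL x) *
      Matrix.ProjGenLinGroup.mk (SpecialLinearGroup.toGL x) = 1
    rw [← map_mul, ← map_mul, hxx, Matrix.ProjGenLinGroup.mk_eq_one, mem_center_GL_iff]
    refine ⟨-1, ?_⟩
    change ((zSL F : SpecialLinearGroup (Fin 2) F) : Matrix (Fin 2) (Fin 2) F) = _
    rw [zSL_coe]
    ext i j
    fin_cases i <;> fin_cases j <;> simp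
  have hsr : s * r * s = r⁻¹ := by
    apply eq_inv_of_mul_eq_one_right
    apply Subtype.ext
    change Matrix.ProjGenLinGroup.mk c * (Matrix.ProjGenLinGroup.mk (SpecialLinearGroup.toGL x) *
      Matrix.ProjGenLinGroup.mk c * Matrix.ProjGenLinGroup.mk (SpecialLinearGroup.toGL x)) = 1
    rw [← map_mul, ← map_mul, ← map_mul, Matrix.ProjGenLinGroup.mk_eq_one, mem_center_GL_iff]
    refine ⟨-δ, ?_⟩
    change c₀ * ((x : Matrix (Fin 2) (Fin 2) F) * c₀ * (x : Matrix (Fin 2) (Fin 2) F)) = _
    have hX2 : (x : Matrix (Fin 2) (Fin 2) F) * (x : Matrix (Fin 2) (Fin 2) F) = -1 := by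
      rw [← Matrix.SpecialLinearGroup.coe_mul, hxx, zSL_coe]
      ext i j
      fin_cases i <;> fin_cases j <;> simp
    have hXt : (x : Matrix (Fin 2) (Fin 2) F) * tm =
        ((t⁻¹ : SpecialLinearGroup (Fin 2) F) : Matrix (Fin 2) (Fin 2) F) *
          (x : Matrix (Fin 2) (Fin 2) F) := by
      have h1 : x * t = t⁻¹ * x := by
        rw [← hxt]; group
      have := congrArg (fun y : SpecialLinearGroup (Fin 2) F => (y : Matrix (Fin 2) (Fin 2) F)) h1
      simpa using this
    have hsum := coe_add_coe_inv t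
    set ti : Matrix (Fin 2) (Fin 2) F :=
      ((t⁻¹ : SpecialLinearGroup (Fin 2) F) : Matrix (Fin 2) (Fin 2) F) with hti
    have htti : tm * ti = 1 := coe_mul_inv_self t
    have e1 : (x : Matrix (Fin 2) (Fin 2) F) * c₀ * (x : Matrix (Fin 2) (Fin 2) F) = -(1 + ti) := by
      rw [hc₀, mul_add, Matrix.mul_one, add_mul, hX2, hXt, Matrix.mul_assoc, hX2]
      simp
      abel
    rw [e1, hc₀, mul_neg, add_mul, Matrix.one_mul, mul_add, Matrix.mul_one, htti]
    have : (1 : Matrix (Fin 2) (Fin 2) F) + ti + (tm + 1) = δ • 1 := by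
      rw [hδ, add_smul, ← hsum, two_smul]
      abel
    rw [this, neg_smul]
  have hs' : s ∉ zpowers r := by
    rintro ⟨k, hk⟩
    have hk' : Matrix.ProjGenLinGroup.mk (c ^ k) =
        Matrix.ProjGenLinGroup.mk (SpecialLinearGroup.toGL x) := by
      have := congrArg (fun y : M => (y : Matrix.ProjGenLinGroup (Fin 2) F)) hk
      simpa [hr, hs] using this
    rw [Matrix.ProjGenLinGroup.mk_eq_mk_iff'] at hk'
    obtain ⟨z, hz, hzk⟩ := hk'
    have hcomm : Commute (c ^ k * z) (SpecialLinearGroup.toGL g) := by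
      apply Commute.mul_left
      · exact (Commute.zpow_left hcg k)
      · exact (Subgroup.mem_center_iff.mp hz (SpecialLinearGroup.toGL g)).symm
    rw [hzk] at hcomm
    have hxg : x * g = g * x := by
      apply SpecialLinearGroup.toGL_injective
      rw [map_mul, map_mul]
      exact hcomm.eq
    apply hgne
    rw [← hx, hxg]
    group
  have hiso := Cfsg.Agent.Lib.Helper14.nonempty_mulEquiv_dihedral (Nat.card T) hcardM r s hr1 hs1
    hsr hord hs'
  rcases card_centralizer_cases g hg with hq | hq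
  · left
    refine ⟨?_, by rw [← hq]; exact hiso⟩
    intro h5
    -- `|T| = 4` forces `tr g = 0`
    have hT4 : Nat.card T = 4 := by rw [hq, h5]
    have hg4 : g ^ 4 = 1 := by
      have : (⟨g, self_mem_centralizer g⟩ : T) ^ Nat.card T = 1 := pow_card_eq_one'
      rw [hT4] at this
      have := congrArg (fun y : T => (y : SpecialLinearGroup (Fin 2) F)) this
      simpa using this
    have hsq : Emb.sc ((g ^ 2 : SpecialLinearGroup (Fin 2) F) : Matrix (Fin 2) (Fin 2) F) := by
      have h1 : (g ^ 2) ^ 2 = 1 := by rw [← pow_mul]; exact hg4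
      apply Cfsg.Agent.Lib.Helper13.PairNF.sc_of_sq_eq_one h2 _ (g ^ 2).det_coe
      rw [← Matrix.SpecialLinearGroup.coe_pow, h1, Matrix.SpecialLinearGroup.coe_one]
    rcases scalar_cases (g ^ 2) hsq with h1 | h1
    · apply hg
      have hg2 : g ^ 2 = 1 := Subtype.ext h1
      have hsc : Emb.sc (g : Matrix (Fin 2) (Fin 2) F) := by
        apply Cfsg.Agent.Lib.Helper13.PairNF.sc_of_sq_eq_one h2 _ g.det_coe
        rw [← Matrix.SpecialLinearGroup.coe_pow, hg2, Matrix.SpecialLinearGroup.coe_one]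
      rcases scalar_cases g hsc with h1' | h1'
      · rw [h1', Matrix.trace_one]; simp; norm_num
      · rw [h1', Matrix.trace_neg, Matrix.trace_one]; simp; norm_num
    · apply hg0
      have hch := cayley_hamilton_two (g : Matrix (Fin 2) (Fin 2) F) g.det_coe
      rw [← Matrix.trace_fin_two] at hch
      have hgg : (g : Matrix (Fin 2) (Fin 2) F) * (g : Matrix (Fin 2) (Fin 2) F) = -1 := by
        rw [← h1, pow_two, Matrix.SpecialLinearGroup.coe_mul]
      rw [hgg] at hch
      have h0 : (g : Matrix (Fin 2) (Fin 2) F).trace • (g : Matrix (Fin 2) (Fin 2) F) = 0 := by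
        have : (g : Matrix (Fin 2) (Fin 2) F).trace • (g : Matrix (Fin 2) (Fin 2) F) = -1 + 1 := by
          rw [hch]; abel
        rw [this]; simp
      by_contra hne
      have : (g : Matrix (Fin 2) (Fin 2) F) = 0 := by
        have := congrArg (fun X : Matrix (Fin 2) (Fin 2) F =>
          ((g : Matrix (Fin 2) (Fin 2) F).trace)⁻¹ • X) h0
        simpa [smul_smul, inv_mul_cancel₀ hne] using this
      have hd := g.det_coe
      rw [this, Matrix.det_zero] at hd
      exact zero_ne_one hd
  · right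
    rw [← hq]
    exact hiso

end Cfsg.Agent.Lib.Helper13.PGL2Max
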