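/-
helper13: maximal subgroups of `PGL₂(F)` not containing the image of `SL₂(F)`: exclusions
(small orders, abelian intersections), the invariant-overgroup principle, quaternion matrix algebra.
-/
import Mathlib
import Cfsg.Agent.Lib.Helper13.PGL2MaxE

set_option autoImplicit false

namespace Cfsg.Agent.Lib.Helper13.PGL2Max

open Matrix Subgroup Cfsg.Agent.Lib.Helper13 Cfsg.Agent.Lib.Helper13.Dk
  Cfsg.Agent.Lib.Helper13.PSL2MaxOdd

variable {F : Type*} [Field F]

/-! ### Quaternion matrix algebra -/

/-- `1 + A + X + A X`. -/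
def w8 (A X : Matrix (Fin 2) (Fin 2) F) : Matrix (Fin 2) (Fin 2) F := 1 + A + X + A * X

section q8

variable (A X : Matrix (Fin 2) (Fin 2) F) (hA : A * A = -1) (hX : X * X = -1)
  (hXA : X * A = -(A * X))
include hA hX hXA

theorem q8_e1 : A * X * A = X := by
  rw [Matrix.mul_assoc, hXA, Matrix.mul_neg, ← Matrix.mul_assoc, hA]; simp

theorem q8_e2 : X * A * X = A := by
  rw [hXA, Matrix.neg_mul, Matrix.mul_assoc, hX]; simp

theorem q8_e5 : A * X * (A * X) = -1 := by
  rw [← Matrix.mul_assoc, q8_e1 A X hA hX hXA, hX]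

theorem q8_e3 : A * (A * X) = -X := by rw [← Matrix.mul_assoc, hA]; simp

theorem q8_e4 : X * (A * X) = A := by rw [← Matrix.mul_assoc, q8_e2 A X hA hX hXA]

theorem q8_e6 : A * X * X = -A := by rw [Matrix.mul_assoc, hX]; simp

theorem w8_mul_A : w8 A X * A = X * w8 A X := by
  simp only [w8, add_mul, mul_add, Matrix.one_mul, Matrix.mul_one]
  rw [q8_e1 A X hA hX hXA, hA, hXA, hX, ← Matrix.mul_assoc, hXA, Matrix.neg_mul, Matrix.mul_assoc,
    hX]
  simp
  abel

theorem w8_mul_X : w8 A X * X = (A * X) * w8 A X := by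
  simp only [w8, add_mul, mul_add, Matrix.one_mul, Matrix.mul_one]
  rw [q8_e5 A X hA hX hXA, q8_e1 A X hA hX hXA, hX, Matrix.mul_assoc A X X, hX]
  simp
  abel

theorem w8_sq : w8 A X * w8 A X = w8 A X + w8 A X - (1 + 1 + 1 + 1) := by
  simp only [w8, add_mul, mul_add, Matrix.one_mul, Matrix.mul_one]
  rw [q8_e5 A X hA hX hXA, q8_e1 A X hA hX hXA, q8_e3 A X hA hX hXA, q8_e4 A X hA hX hXA,
    q8_e6 A X hA hX hXA, hA, hX, hXA]
  abel

theorem w8_det (tA : A.trace = 0) (tX : X.trace = 0) (tAX : (A * X).trace = 0) :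
    (w8 A X).det = 4 := by
  have hsq := w8_sq A X hA hX hXA
  have htr : (w8 A X).trace = 2 := by
    rw [w8, Matrix.trace_add, Matrix.trace_add, Matrix.trace_add, tA, tX, tAX, Matrix.trace_one]
    simp
  have hch := cayley_hamilton_gen2 (w8 A X)
  rw [hsq, htr, two_smul] at hch
  have h1 : (w8 A X).det • (1 : Matrix (Fin 2) (Fin 2) F) = 1 + 1 + 1 + 1 := by
    have := sub_right_injective hch
    exact this.symm
  have := congr_fun (congr_fun h1 0) 0
  simp at this
  rw [this]; norm_num

end q8

/-! ### Normal subgroups of `SL₂` -/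

section normal

variable [Fintype F]

/-- A normal subgroup of `SL₂(F)` containing the centre is the centre or everything. -/
theorem normal_SL2_cases (h4 : 4 ≤ Fintype.card F) (N : Subgroup (SpecialLinearGroup (Fin 2) F))
    (hN : N.Normal) (hc : center (SpecialLinearGroup (Fin 2) F) ≤ N) :
    N = center (SpecialLinearGroup (Fin 2) F) ∨ N = ⊤ := by
  haveI : IsSimpleGroup (Matrix.ProjectiveSpecialLinearGroup (Fin 2) F) :=
    Matrix.ProjectiveSpecialLinearGroup.rank_two_simple
      (by rw [Nat.card_eq_fintype_card]; exact h4)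
  have hN' : (N.map (qmap F)).Normal := Subgroup.Normal.map hN _ qmap_surjective
  have hker : (qmap F).ker = center (SpecialLinearGroup (Fin 2) F) := QuotientGroup.ker_mk' _
  rcases hN'.eq_bot_or_eq_top with hb | ht
  · left
    apply le_antisymm _ hc
    rw [← hker]
    exact (Subgroup.map_eq_bot_iff _).mp hb
  · right
    have h1 : (N.map (qmap F)).comap (qmap F) = N :=
      Subgroup.comap_map_eq_self (by rw [hker]; exact hc)
    rw [← h1, ht, Subgroup.comap_top]

variable {𝔐 : Subgroup (GL (Fin 2) F)} (h : GLMax 𝔐)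

include h in
theorem center_le_comap :
    center (SpecialLinearGroup (Fin 2) F) ≤ 𝔐.comap SpecialLinearGroup.toGL := by
  intro z hz
  exact h.center_le ((SpecialLinearGroup.toGL_mem_center_iff z).mpr hz)

include h in
/-- **The invariant-overgroup principle.** -/
theorem maxInv (h4 : 4 ≤ Fintype.card F) (X : Subgroup (SpecialLinearGroup (Fin 2) F))
    (hHX : 𝔐.comap SpecialLinearGroup.toGL ≤ X) (hX : X ≠ ⊤)
    (hinv : ∀ m ∈ 𝔐, ∀ y ∈ X, conjSL m y ∈ X) : X = 𝔐.comap SpecialLinearGroup.toGL := by
  classical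
  set Y : Subgroup (GL (Fin 2) F) := X.map SpecialLinearGroup.toGL with hY
  set 𝔑 := normalizer (Y : Set (GL (Fin 2) F)) with h𝔑
  have hle : 𝔐 ≤ 𝔑 := by
    intro m hm
    apply Subgroup.mem_normalizer_fintype
    rintro n ⟨y, hy, rfl⟩
    exact ⟨conjSL m y, hinv m hm y hy, toGL_conjSL m y⟩
  rcases h.coatom.le_iff.mp hle with htop | heq
  · have hYn : Y.Normal := Subgroup.normalizer_eq_top_iff.mp htop
    have hXe : Y.comap SpecialLinearGroup.toGL = X :=
      Subgroup.comap_map_eq_self_of_injective SpecialLinearGroup.toGL_injective X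
    have hXn : X.Normal := by
      rw [← hXe]
      exact Subgroup.Normal.comap hYn _
    rcases normal_SL2_cases h4 X hXn ((center_le_comap h).trans hHX) with hc | ht
    · apply le_antisymm _ hHX
      rw [hc]
      exact center_le_comap h
    · exact absurd ht hX
  · apply le_antisymm _ hHX
    rw [← Subgroup.map_le_iff_le_comap, ← heq]
    exact Subgroup.le_normalizer

end normal

/-! ### Exclusion of very small maximal subgroups -/

section small

variable [Fintype F]

theorem eight_dvd_card (hodd : Odd (Fintype.card F)) :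
    2 ^ 3 ∣ Fintype.card F * (Fintype.card F ^ 2 - 1) := by
  have h1 : Fintype.card F % 2 = 1 := Nat.odd_iff.mp hodd
  have h2 : Fintype.card F ^ 2 % 8 = 1 := by
    have : Fintype.card F % 8 = 1 ∨ Fintype.card F % 8 = 3 ∨ Fintype.card F % 8 = 5 ∨
        Fintype.card F % 8 = 7 := by omega
    rcases this with h | h | h | h <;> simp [pow_two, Nat.mul_mod, h]
  have hpos : 1 ≤ Fintype.card F ^ 2 := Nat.one_le_pow _ _ Fintype.card_pos
  apply Dvd.dvd.mul_left
  omega

theorem not_card_le_two (hodd : Odd (Fintype.card F)) (h3 : 3 < Fintype.card F)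
    (M : Subgroup (Matrix.ProjGenLinGroup (Fin 2) F)) (hM : IsCoatom M)
    (hc : Nat.card M ≤ 2) : False := by
  classical
  haveI := finite_PGL2 (F := F)
  haveI : Fact (Nat.Prime 2) := ⟨Nat.prime_two⟩
  have hP : Nat.card (Matrix.ProjGenLinGroup (Fin 2) F) =
      Fintype.card F * (Fintype.card F ^ 2 - 1) := card_PGL2
  have hdvd : 2 ^ 3 ∣ Nat.card (Matrix.ProjGenLinGroup (Fin 2) F) := by
    rw [hP]; exact eight_dvd_card hodd
  have hpos : 0 < Nat.card M := Nat.card_pos
  have hcases : Nat.card M = 2 ^ 0 ∨ Nat.card M = 2 ^ 1 := by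
    have : Nat.card M = 1 ∨ Nat.card M = 2 := by omega
    rcases this with h | h
    · left; rw [h]; rfl
    · right; rw [h]; rfl
  have key : ∀ n : ℕ, n ≤ 3 → Nat.card M = 2 ^ n → n < 3 → False := by
    intro n hn hcard hlt
    obtain ⟨K, hK, hMK⟩ := Sylow.exists_subgroup_card_pow_prime_le 2 hdvd M hcard hn
    have hne : M ≠ K := by
      intro heq
      rw [← heq, hcard] at hK
      have := Nat.pow_right_injective (le_refl 2) hK
      omega
    have hKtop : K ≠ ⊤ := by
      intro htop
      rw [htop, Subgroup.card_top, hP] at hK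
      have h16 : 4 ^ 2 ≤ Fintype.card F ^ 2 := Nat.pow_le_pow_left h3 2
      have : 4 * 15 ≤ Fintype.card F * (Fintype.card F ^ 2 - 1) :=
        Nat.mul_le_mul h3 (by omega)
      norm_num at hK
      omega
    rcases hM.le_iff.mp hMK with h | h
    · exact hKtop h
    · exact hne h.symm
  rcases hcases with h | h
  · exact key 0 (by norm_num) h (by norm_num)
  · exact key 1 (by norm_num) h (by norm_num)

end small

end Cfsg.Agent.Lib.Helper13.PGL2Max
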