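/-
helper13: maximal subgroups of `PGL₂(F)` not containing the image of `SL₂(F)`: the abelian and
dihedral-type cases of Dickson's analysis.
-/
import Mathlib
import Cfsg.Agent.Lib.Helper13.PGL2MaxF

set_option autoImplicit false

namespace Cfsg.Agent.Lib.Helper13.PGL2Max

open Matrix Subgroup Cfsg.Agent.Lib.Helper13 Cfsg.Agent.Lib.Helper13.Dk
  Cfsg.Agent.Lib.Helper13.PSL2MaxOdd

variable {F : Type*} [Field F] [Fintype F]

/-- The abelian case is impossible. -/
theorem abelian_false (hodd : Odd (Fintype.card F)) (h3 : 3 < Fintype.card F)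
    (M : Subgroup (Matrix.ProjGenLinGroup (Fin 2) F)) (hM : IsCoatom M)
    (hML : ¬ (piP F).range ≤ M)
    (hss : ∀ y : M.comap (piP F), ¬ Emb.sc ((subEmb (M.comap (piP F))).m y) →
      (subEmb (M.comap (piP F))).tr y ^ 2 ≠ 4)
    (hab : ∀ x y : M.comap (piP F), x * y = y * x) : False := by
  classical
  have h4 : 4 ≤ Fintype.card F := h3
  have h2 : (2 : F) ≠ 0 := two_ne_zero_of_odd hodd
  have h := glMax_comap M hM hML
  by_cases hall : ∀ y : M.comap (piP F), Emb.sc ((subEmb (M.comap (piP F))).m y)
  · -- `H` is central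
    have hle : M.comap (piP F) ≤ center (SpecialLinearGroup (Fin 2) F) := by
      intro y hy
      exact ((subEmb (M.comap (piP F))).sc_iff_mem_center ⟨y, hy⟩).mp (hall ⟨y, hy⟩)
    have hc : Nat.card (M.comap (piP F)) ≤ 2 :=
      (Subgroup.card_le_of_le hle).trans (card_center_SL2 (F := F) h2).le
    rw [← card_eq_card_comap M hM hML hodd] at hc
    exact not_card_le_two hodd h3 M hM hc
  · push Not at hall
    obtain ⟨y, hy⟩ := hall
    set g : SpecialLinearGroup (Fin 2) F := (y : SpecialLinearGroup (Fin 2) F) with hgdef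
    have hg : (g : Matrix (Fin 2) (Fin 2) F).trace ^ 2 ≠ 4 := hss y hy
    have hinv : ∀ m ∈ M.comap Matrix.ProjGenLinGroup.mk, conjSL m g = g ∨ conjSL m g = g⁻¹ := by
      intro m hm
      have hz : conjSL m g ∈ M.comap (piP F) := h.conj_mem hm y.2
      have hcomm := hab ⟨conjSL m g, hz⟩ y
      have hcomm' : conjSL m g * g = g * conjSL m g := congrArg Subtype.val hcomm
      apply eq_or_eq_inv_of_trace_eq g hg
      · exact (mem_centralizer_singleton_comm g _).mpr hcomm'
      · exact trace_conjSL m g
    have hH := comap_eq_normalizer h h4 g hg hinv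
    obtain ⟨x, hx⟩ := exists_inverting g hg
    have hxH : x ∈ M.comap (piP F) := by
      rw [comap_piP_eq, hH, mem_normalizer_centralizer_iff g hg]
      exact Or.inr hx
    have hcomm := hab ⟨x, hxH⟩ y
    have hcomm' : x * g = g * x := congrArg Subtype.val hcomm
    apply ne_inv_of_trace_sq g hg
    rw [← hx, hcomm']
    group

/-- The dihedral-type case. -/
theorem dih_case (hodd : Odd (Fintype.card F)) (h3 : 3 < Fintype.card F)
    (M : Subgroup (Matrix.ProjGenLinGroup (Fin 2) F)) (hM : IsCoatom M)
    (hML : ¬ (piP F).range ≤ M) (hD : (subEmb (M.comap (piP F))).DihType) :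
    (Fintype.card F ≠ 5 ∧ Nonempty (M ≃* DihedralGroup (Fintype.card F - 1))) ∨
      Nonempty (M ≃* DihedralGroup (Fintype.card F + 1)) := by
  classical
  have h4 : 4 ≤ Fintype.card F := h3
  have h2 : (2 : F) ≠ 0 := two_ne_zero_of_odd hodd
  have h := glMax_comap M hM hML
  obtain ⟨g, hg, hcard⟩ := hD
  set S := subEmb (M.comap (piP F)) with hS
  set C := centralizer ({g} : Set (M.comap (piP F))) with hC
  have hidx : C.index = 2 := by
    have h1 := Subgroup.card_mul_index C
    rw [← hcard] at h1
    have hpos : 0 < Nat.card C := Nat.card_pos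
    exact Nat.eq_of_mul_eq_mul_left hpos h1
  have hnormal : C.Normal := Subgroup.normal_of_index_eq_two hidx
  set g₀ : SpecialLinearGroup (Fin 2) F := (g : SpecialLinearGroup (Fin 2) F) with hg₀def
  have hg₀ : (g₀ : Matrix (Fin 2) (Fin 2) F).trace ^ 2 ≠ 4 := hg
  have hgns : ¬ Emb.sc (S.m g) := S.sc_of_tr_sq hg
  -- elements outside `C` invert `g`
  have hinvert : ∀ x : M.comap (piP F), x ∉ C → x * g * x⁻¹ = g⁻¹ := by
    intro x hx
    have hc : x * g * x⁻¹ ∈ C := hnormal.conj_mem g (mem_centralizer_singleton_iff.mpr rfl) x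
    rw [hC, mem_centralizer_singleton_iff] at hc
    have hc' : (x : SpecialLinearGroup (Fin 2) F) * g₀ * (x : SpecialLinearGroup (Fin 2) F)⁻¹ ∈
        centralizer ({g₀} : Set (SpecialLinearGroup (Fin 2) F)) := by
      rw [mem_centralizer_singleton_iff]
      exact congrArg Subtype.val hc
    rcases eq_or_eq_inv_of_trace_eq g₀ hg₀ _ hc' (trace_conj_SL _ g₀) with h1 | h1
    · exfalso
      apply hx
      rw [hC, mem_centralizer_singleton_iff]
      have : x * g * x⁻¹ = g := Subtype.ext h1
      calc x * g = x * g * x⁻¹ * x := by group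
        _ = g * x := by rw [this]
    · exact Subtype.ext h1
  have htr0 : ∀ x : M.comap (piP F), x ∉ C → S.tr x = 0 := fun x hx =>
    S.tr_eq_zero_of_inverting hgns (hinvert x hx)
  by_cases hex : ∃ g' : M.comap (piP F), g' ∈ C ∧ S.tr g' ^ 2 ≠ 4 ∧ S.tr g' ≠ 0
  · -- the generic case
    obtain ⟨g', hg'C, hg'4, hg'0⟩ := hex
    set g₁ : SpecialLinearGroup (Fin 2) F := (g' : SpecialLinearGroup (Fin 2) F) with hg₁def
    have hg₁ : (g₁ : Matrix (Fin 2) (Fin 2) F).trace ^ 2 ≠ 4 := hg'4
    have hg₁0 : (g₁ : Matrix (Fin 2) (Fin 2) F).trace ≠ 0 := hg'0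
    have hg₁C : g₁ ∈ centralizer ({g₀} : Set (SpecialLinearGroup (Fin 2) F)) := by
      rw [hC, mem_centralizer_singleton_iff] at hg'C
      rw [mem_centralizer_singleton_iff]
      exact congrArg Subtype.val hg'C
    have hceq : centralizer ({g₁} : Set (SpecialLinearGroup (Fin 2) F)) =
        centralizer ({g₀} : Set (SpecialLinearGroup (Fin 2) F)) :=
      centralizer_eq_of_mem g₀ hg₀ g₁ hg₁C (nonscalar_of_trace_sq g₁ hg₁)
    apply dihedral_of_torus hodd h3 M hM hML g₁ hg₁ hg₁0
    intro m hm
    have hz : conjSL m g₁ ∈ M.comap (piP F) := h.conj_mem hm g'.2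
    have hztr : ((conjSL m g₁ : SpecialLinearGroup (Fin 2) F) : Matrix (Fin 2) (Fin 2) F).trace =
        (g₁ : Matrix (Fin 2) (Fin 2) F).trace := trace_conjSL m g₁
    have hzC : (⟨conjSL m g₁, hz⟩ : M.comap (piP F)) ∈ C := by
      by_contra hnot
      have := htr0 _ hnot
      apply hg₁0
      rw [← hztr]
      exact this
    apply eq_or_eq_inv_of_trace_eq g₁ hg₁ _ _ hztr
    rw [hceq, mem_centralizer_singleton_iff]
    rw [hC, mem_centralizer_singleton_iff] at hzC
    exact congrArg Subtype.val hzC
  · -- the quaternion case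
    exfalso
    push Not at hex
    have hgC : g ∈ C := mem_centralizer_singleton_iff.mpr rfl
    have hgtr : S.tr g = 0 := hex g hgC hg
    -- an element outside `C`
    obtain ⟨x, hxC⟩ : ∃ x : M.comap (piP F), x ∉ C := by
      by_contra hcon
      push Not at hcon
      have : C = ⊤ := by
        rw [eq_top_iff]
        intro x _
        exact hcon x
      rw [this, Subgroup.index_top] at hidx
      omega
    have hxg := hinvert x hxC
    have hxtr : S.tr x = 0 := htr0 x hxC
    set A : Matrix (Fin 2) (Fin 2) F := S.m g with hAdef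
    set X : Matrix (Fin 2) (Fin 2) F := S.m x with hXdef
    have hAdet : A.det = 1 := S.m_det g
    have hXdet : X.det = 1 := S.m_det x
    have hAA : A * A = -1 := by
      have := cayley_hamilton_two A hAdet
      rw [← Matrix.trace_fin_two] at this
      have ht : A.trace = 0 := hgtr
      rw [this, ht, zero_smul, zero_sub]
    have hXX : X * X = -1 := by
      have := cayley_hamilton_two X hXdet
      rw [← Matrix.trace_fin_two] at this
      have ht : X.trace = 0 := hxtr
      rw [this, ht, zero_smul, zero_sub]
    have hAinv : S.m g⁻¹ = -A := by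
      have h1 : S.m g⁻¹ * A = 1 := by rw [hAdef, ← S.m_mul, inv_mul_cancel, S.m_one]
      calc S.m g⁻¹ = S.m g⁻¹ * (A * (-A)) := by
            rw [Matrix.mul_neg, hAA, neg_neg, Matrix.mul_one]
        _ = (S.m g⁻¹ * A) * (-A) := by rw [Matrix.mul_assoc]
        _ = -A := by rw [h1, Matrix.one_mul]
    have hXA : X * A = -(A * X) := by
      have h1 : x * g = g⁻¹ * x := by rw [← hxg]; group
      have h2' : X * A = S.m g⁻¹ * X := by rw [hXdef, hAdef, ← S.m_mul, ← S.m_mul, h1]
      rw [h2', hAinv, Matrix.neg_mul]
    -- the elements of `C` are `±1`, `±g`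
    have hCel : ∀ c : M.comap (piP F), c ∈ C → S.m c = 1 ∨ S.m c = -1 ∨ S.m c = A ∨ S.m c = -A := by
      intro c hc
      have hcc : (c : SpecialLinearGroup (Fin 2) F) ∈
          centralizer ({g₀} : Set (SpecialLinearGroup (Fin 2) F)) := by
        rw [hC, mem_centralizer_singleton_iff] at hc
        rw [mem_centralizer_singleton_iff]
        exact congrArg Subtype.val hc
      obtain ⟨α, β, hαβ⟩ := exists_coords_of_mem_centralizer g₀ _ hg₀ hcc
      have hαβ' : S.m c = α • 1 + β • A := hαβ
      have hdet : α ^ 2 + β ^ 2 = 1 := by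
        have h1 := det_coords A α β
        rw [← hαβ', S.m_det c, hAdet] at h1
        have ht : A.trace = 0 := hgtr
        rw [ht] at h1
        linear_combination -h1
      have htrc : S.tr c = 2 * α := by
        have : (S.m c).trace = 2 * α + β * A.trace := by rw [hαβ', trace_coords]
        have ht : A.trace = 0 := hgtr
        rw [ht, mul_zero, add_zero] at this
        exact this
      by_cases h4' : S.tr c ^ 2 = 4
      · have hα : α ^ 2 = 1 := by
          rw [htrc] at h4'
          have : (4 : F) * (α ^ 2 - 1) = 0 := by linear_combination h4'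
          have h40 : (4 : F) ≠ 0 := by
            have : (4 : F) = 2 * 2 := by norm_num
            rw [this]; exact mul_ne_zero h2 h2
          rcases mul_eq_zero.mp this with h | h
          · exact absurd h h40
          · linear_combination h
        have hβ : β = 0 := by
          have : β ^ 2 = 0 := by linear_combination hdet - hα
          exact pow_eq_zero_iff (two_ne_zero) |>.mp this
        have hα' : (α - 1) * (α + 1) = 0 := by linear_combination hα
        rcases mul_eq_zero.mp hα' with h | h
        · left
          rw [hαβ', hβ, zero_smul, add_zero, sub_eq_zero.mp h, one_smul]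
        · right; left
          rw [hαβ', hβ, zero_smul, add_zero, eq_neg_of_add_eq_zero_left h, neg_smul, one_smul]
      · have h0 := hex c hc h4'
        have hα : α = 0 := by
          rw [htrc] at h0
          rcases mul_eq_zero.mp h0 with h | h
          · exact absurd h h2
          · exact h
        have hβ : (β - 1) * (β + 1) = 0 := by
          rw [hα] at hdet
          linear_combination hdet
        rcases mul_eq_zero.mp hβ with h | h
        · right; right; left
          rw [hαβ', hα, zero_smul, zero_add, sub_eq_zero.mp h, one_smul]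
        · right; right; right
          rw [hαβ', hα, zero_smul, zero_add, eq_neg_of_add_eq_zero_left h, neg_smul, one_smul]
    -- every element of `H` is `± 1, ± A, ± X, ± X A`
    have hHel : ∀ k : M.comap (piP F), S.m k = 1 ∨ S.m k = -1 ∨ S.m k = A ∨ S.m k = -A ∨
        S.m k = X ∨ S.m k = -X ∨ S.m k = X * A ∨ S.m k = -(X * A) := by
      intro k
      by_cases hk : k ∈ C
      · rcases hCel k hk with h1 | h1 | h1 | h1
        · exact Or.inl h1
        · exact Or.inr (Or.inl h1)
        · exact Or.inr (Or.inr (Or.inl h1))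
        · exact Or.inr (Or.inr (Or.inr (Or.inl h1)))
      · have hxk : x⁻¹ * k ∈ C := by
          rw [Subgroup.mul_mem_iff_of_index_two hidx]
          constructor
          · intro hxi
            exact absurd (inv_mem_iff.mp hxi) hxC
          · intro hk'
            exact absurd hk' hk
        have hk' : S.m k = X * S.m (x⁻¹ * k) := by
          rw [hXdef, ← S.m_mul]
          congr 1
          group
        rcases hCel _ hxk with h1 | h1 | h1 | h1
        · right; right; right; right; left
          rw [hk', h1, Matrix.mul_one]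
        · right; right; right; right; right; left
          rw [hk', h1, Matrix.mul_neg, Matrix.mul_one]
        · right; right; right; right; right; right; left
          rw [hk', h1]
        · right; right; right; right; right; right; right
          rw [hk', h1, Matrix.mul_neg]
    -- the element `ω`
    have htAX : (A * X).trace = 0 := by
      have h1 : (A * X) ^ 2 = -1 := by
        rw [pow_two]
        exact q8_e5 A X hAA hXX hXA
      apply Cfsg.Agent.Lib.Helper13.PairNF.trace_eq_zero_of_sq (A * X) _ h1
      rw [Matrix.det_mul, hAdet, hXdet, mul_one]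
    have hWdet : (w8 A X).det = 4 := w8_det A X hAA hXX hXA hgtr hxtr htAX
    set W : Matrix (Fin 2) (Fin 2) F := (2 : F)⁻¹ • w8 A X with hWdef
    have hWdet1 : W.det = 1 := by
      rw [hWdef, Matrix.det_smul, hWdet, Fintype.card_fin]
      field_simp
      norm_num
    set ω : SpecialLinearGroup (Fin 2) F := ⟨W, hWdet1⟩ with hωdef
    have hWA : W * A = X * W := by
      rw [hWdef, Matrix.smul_mul, w8_mul_A A X hAA hXX hXA, Matrix.mul_smul]
    have hWX : W * X = (A * X) * W := by
      rw [hWdef, Matrix.smul_mul, w8_mul_X A X hAA hXX hXA, Matrix.mul_smul]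
    -- `ω` normalises `H`
    have hωN : ω ∈ normalizer ((M.comap (piP F) : Subgroup (SpecialLinearGroup (Fin 2) F)) :
        Set (SpecialLinearGroup (Fin 2) F)) := by
      apply Subgroup.mem_normalizer_fintype
      intro k hk
      -- it suffices to find `k' ∈ H` with `W k = k' W`
      have key : ∀ k' : SpecialLinearGroup (Fin 2) F, k' ∈ M.comap (piP F) →
          W * (k : Matrix (Fin 2) (Fin 2) F) = (k' : Matrix (Fin 2) (Fin 2) F) * W →
          ω * k * ω⁻¹ ∈ M.comap (piP F) := by
        intro k' hk' hrel
        have : ω * k * ω⁻¹ = k' := by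
          have h1 : ω * k = k' * ω := by
            apply Subtype.ext
            rw [Matrix.SpecialLinearGroup.coe_mul, Matrix.SpecialLinearGroup.coe_mul]
            exact hrel
          rw [h1]; group
        rw [this]
        exact hk'
      have hgH : g₀ ∈ M.comap (piP F) := g.2
      have hxH : (x : SpecialLinearGroup (Fin 2) F) ∈ M.comap (piP F) := x.2
      have hzH : (zSL F) ∈ M.comap (piP F) := by
        have : zSL F = g₀ * g₀ := by
          apply Subtype.ext
          rw [Matrix.SpecialLinearGroup.coe_mul, zSL_coe]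
          change _ = A * A
          rw [hAA]
          ext i j
          fin_cases i <;> fin_cases j <;> simp
        rw [this]
        exact Subgroup.mul_mem _ hgH hgH
      have hzc : ((zSL F : SpecialLinearGroup (Fin 2) F) : Matrix (Fin 2) (Fin 2) F) = -1 := by
        rw [zSL_coe]
        ext i j
        fin_cases i <;> fin_cases j <;> simp
      have hkm : (k : Matrix (Fin 2) (Fin 2) F) = S.m ⟨k, hk⟩ := rfl
      rcases hHel ⟨k, hk⟩ with h1 | h1 | h1 | h1 | h1 | h1 | h1 | h1
      · apply key 1 (Subgroup.one_mem _)
        rw [hkm, h1, Matrix.SpecialLinearGroup.coe_one, Matrix.mul_one, Matrix.one_mul]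
      · apply key (zSL F) hzH
        rw [hkm, h1, hzc, Matrix.mul_neg, Matrix.mul_one, Matrix.neg_mul, Matrix.one_mul]
      · apply key x x.2
        rw [hkm, h1]
        exact hWA
      · apply key (zSL F * x) (Subgroup.mul_mem _ hzH x.2)
        rw [hkm, h1, Matrix.SpecialLinearGroup.coe_mul, hzc, Matrix.mul_neg, hWA]
        change -(X * W) = -1 * X * W
        rw [Matrix.neg_mul, Matrix.one_mul, Matrix.neg_mul]
      · apply key (g₀ * x) (Subgroup.mul_mem _ hgH x.2)
        rw [hkm, h1, Matrix.SpecialLinearGroup.coe_mul]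
        exact hWX
      · apply key (zSL F * (g₀ * x)) (Subgroup.mul_mem _ hzH (Subgroup.mul_mem _ hgH x.2))
        rw [hkm, h1, Matrix.SpecialLinearGroup.coe_mul, Matrix.SpecialLinearGroup.coe_mul, hzc,
          Matrix.mul_neg, hWX]
        change -(A * X * W) = -1 * (A * X) * W
        rw [Matrix.neg_mul, Matrix.one_mul, Matrix.neg_mul]
      · -- `W (X A) = (A X) W A = (A X) X W = - A W`
        apply key (zSL F * g₀) (Subgroup.mul_mem _ hzH hgH)
        rw [hkm, h1, Matrix.SpecialLinearGroup.coe_mul, hzc, ← Matrix.mul_assoc, hWX,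
          Matrix.mul_assoc, hWA, ← Matrix.mul_assoc, q8_e6 A X hAA hXX hXA]
        change -A * W = -1 * A * W
        simp only [Matrix.neg_mul, Matrix.one_mul]
      · apply key g₀ hgH
        rw [hkm, h1, Matrix.mul_neg, ← Matrix.mul_assoc, hWX, Matrix.mul_assoc, hWA,
          ← Matrix.mul_assoc, q8_e6 A X hAA hXX hXA, Matrix.neg_mul, neg_neg]
        rfl
    -- apply the invariant-overgroup principle to `N(H)`
    set N := normalizer ((M.comap (piP F) : Subgroup (SpecialLinearGroup (Fin 2) F)) :
        Set (SpecialLinearGroup (Fin 2) F)) with hNdef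
    have htXA : (X * A).trace = 0 := by rw [Matrix.trace_mul_comm]; exact htAX
    have hNtop : N ≠ ⊤ := by
      intro htop
      have hnorm : (M.comap (piP F)).Normal := Subgroup.normalizer_eq_top_iff.mp htop
      rcases normal_SL2_cases h4 _ hnorm (center_le_comap h) with hc | ht
      · apply hgns
        rw [S.sc_iff_mem_center]
        change g₀ ∈ center (SpecialLinearGroup (Fin 2) F)
        rw [← hc]
        exact g.2
      · have hu : tSL (1 : F) ∈ M.comap (piP F) := by rw [ht]; exact mem_top _
        have hum : S.m ⟨tSL 1, hu⟩ = !![1, 1; 0, 1] := rfl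
        have h01 : ∀ B : Matrix (Fin 2) (Fin 2) F, B.trace = 0 → S.m ⟨tSL 1, hu⟩ ≠ B := by
          intro B hB heq
          rw [hum] at heq
          rw [← heq, Matrix.trace_fin_two] at hB
          simp at hB
          exact h2 (by linear_combination hB)
        have h02 : ∀ B : Matrix (Fin 2) (Fin 2) F, B.trace = 0 → S.m ⟨tSL 1, hu⟩ ≠ -B := by
          intro B hB
          apply h01
          rw [Matrix.trace_neg, hB, neg_zero]
        rcases hHel ⟨tSL 1, hu⟩ with h1 | h1 | h1 | h1 | h1 | h1 | h1 | h1
        · rw [hum] at h1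
          have := congr_fun (congr_fun h1 0) 1
          simp at this
        · rw [hum] at h1
          have := congr_fun (congr_fun h1 0) 1
          simp at this
        · exact h01 A hgtr h1
        · exact h02 A hgtr h1
        · exact h01 X hxtr h1
        · exact h02 X hxtr h1
        · exact h01 _ htXA h1
        · exact h02 _ htXA h1
    have hNinv : ∀ m ∈ M.comap Matrix.ProjGenLinGroup.mk, ∀ y ∈ N, conjSL m y ∈ N := by
      intro m hm y hy
      apply Subgroup.mem_normalizer_fintype
      intro k hk
      have hm' : m⁻¹ ∈ M.comap Matrix.ProjGenLinGroup.mk := Subgroup.inv_mem _ hm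
      have hk' : conjSL m⁻¹ k ∈ M.comap (piP F) := h.conj_mem hm' hk
      have hyk : y * conjSL m⁻¹ k * y⁻¹ ∈ M.comap (piP F) :=
        (Subgroup.mem_normalizer_iff.mp hy _).mp hk'
      have h5 : conjSL m (y * conjSL m⁻¹ k * y⁻¹) ∈ M.comap (piP F) := h.conj_mem hm hyk
      have h6 : conjSL m (conjSL m⁻¹ k) = k := by
        rw [← conjSL_mul, mul_inv_cancel, conjSL_one]
      rw [conjSL_mul_right', conjSL_mul_right', conjSL_inv, h6] at h5
      exact h5
    have hNH : N = M.comap (piP F) :=
      maxInv h h4 N Subgroup.le_normalizer hNtop hNinv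
    have hωH : ω ∈ M.comap (piP F) := by rw [← hNH]; exact hωN
    have hωm : S.m ⟨ω, hωH⟩ = W := rfl
    have tA : A.trace = 0 := hgtr
    have tX : X.trace = 0 := hxtr
    have hWtr : W.trace = 1 := by
      rw [hWdef, Matrix.trace_smul, w8, Matrix.trace_add, Matrix.trace_add, Matrix.trace_add, tA,
        tX, htAX, Matrix.trace_one]
      simp
      field_simp
    have h01 : ∀ B : Matrix (Fin 2) (Fin 2) F, B.trace = 0 → W ≠ B := by
      intro B hB heq
      rw [heq, hB] at hWtr
      exact zero_ne_one hWtr
    have h02 : ∀ B : Matrix (Fin 2) (Fin 2) F, B.trace = 0 → W ≠ -B := by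
      intro B hB
      apply h01
      rw [Matrix.trace_neg, hB, neg_zero]
    -- `A ≠ X`
    have hAX : A ≠ X := by
      intro heq
      rw [← heq] at hXA
      have h7 : (2 : F) • (A * A) = 0 := by
        rw [two_smul]
        nth_rewrite 1 [hXA]
        simp
      rw [hAA] at h7
      have := congr_fun (congr_fun h7 0) 0
      simp at this
      exact h2 this
    rcases hHel ⟨ω, hωH⟩ with h1 | h1 | h1 | h1 | h1 | h1 | h1 | h1
    · rw [hωm] at h1
      rw [h1, Matrix.one_mul, Matrix.mul_one] at hWA
      exact hAX hWA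
    · rw [hωm] at h1
      rw [h1, Matrix.neg_mul, Matrix.one_mul, Matrix.mul_neg, Matrix.mul_one, neg_inj] at hWA
      exact hAX hWA
    · rw [hωm] at h1; exact h01 A hgtr h1
    · rw [hωm] at h1; exact h02 A hgtr h1
    · rw [hωm] at h1; exact h01 X hxtr h1
    · rw [hωm] at h1; exact h02 X hxtr h1
    · rw [hωm] at h1; exact h01 _ htXA h1
    · rw [hωm] at h1; exact h02 _ htXA h1

end Cfsg.Agent.Lib.Helper13.PGL2Max
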