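/-
helper13: the subgroup of `GL₂(F)` of scalar multiples of matrices over a subfield, and a
rationality criterion.
-/
import Mathlib
import Cfsg.Agent.Lib.Helper13.PGL2MaxB
import Cfsg.Agent.Lib.Helper13.DkMaxSL

set_option autoImplicit false

namespace Cfsg.Agent.Lib.Helper13.PGL2Max

open Matrix Subgroup Cfsg.Agent.Lib.Helper13 Cfsg.Agent.Lib.Helper13.Dk
  Cfsg.Agent.Lib.Helper13.PSL2MaxOdd

variable {F : Type*} [Field F]

/-- Elements of `GL₂(F)` that are scalar multiples of matrices over the subfield `K₀`. -/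
def subfieldGL (K₀ : Subfield F) : Subgroup (GL (Fin 2) F) where
  carrier := {g | ∃ μ : F, μ ≠ 0 ∧ ∀ i j, μ * (g : Matrix (Fin 2) (Fin 2) F) i j ∈ K₀}
  one_mem' := by
    refine ⟨1, one_ne_zero, fun i j => ?_⟩
    rw [one_mul, Units.val_one, Matrix.one_apply]
    split_ifs
    · exact K₀.one_mem
    · exact K₀.zero_mem
  mul_mem' := by
    rintro A B ⟨μ, hμ, hA⟩ ⟨ν, hν, hB⟩
    refine ⟨μ * ν, mul_ne_zero hμ hν, fun i j => ?_⟩
    rw [Units.val_mul, Matrix.mul_apply, Fin.sum_univ_two]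
    have : μ * ν * ((A : Matrix (Fin 2) (Fin 2) F) i 0 * (B : Matrix (Fin 2) (Fin 2) F) 0 j +
        (A : Matrix (Fin 2) (Fin 2) F) i 1 * (B : Matrix (Fin 2) (Fin 2) F) 1 j) =
        (μ * (A : Matrix (Fin 2) (Fin 2) F) i 0) * (ν * (B : Matrix (Fin 2) (Fin 2) F) 0 j) +
        (μ * (A : Matrix (Fin 2) (Fin 2) F) i 1) * (ν * (B : Matrix (Fin 2) (Fin 2) F) 1 j) := by
      ring
    rw [this]
    exact K₀.add_mem (K₀.mul_mem (hA _ _) (hB _ _)) (K₀.mul_mem (hA _ _) (hB _ _))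
  inv_mem' := by
    rintro A ⟨μ, hμ, hA⟩
    have hdet : (A : Matrix (Fin 2) (Fin 2) F).det ≠ 0 := by
      have := A.isUnit
      rw [Matrix.isUnit_iff_isUnit_det] at this
      exact this.ne_zero
    refine ⟨μ * (A : Matrix (Fin 2) (Fin 2) F).det, mul_ne_zero hμ hdet, fun i j => ?_⟩
    rw [Matrix.coe_units_inv, Matrix.inv_def, Matrix.smul_apply, Matrix.adjugate_fin_two,
      Ring.inverse_eq_inv', smul_eq_mul]
    have e : ∀ x : F, μ * (A : Matrix (Fin 2) (Fin 2) F).det *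
        ((A : Matrix (Fin 2) (Fin 2) F).det⁻¹ * x) = μ * x := by
      intro x; field_simp
    rw [e]
    fin_cases i <;> fin_cases j
    · simpa using hA 1 1
    · have := K₀.neg_mem (hA 0 1)
      simpa using this
    · have := K₀.neg_mem (hA 1 0)
      simpa using this
    · simpa using hA 0 0

theorem mem_subfieldGL (K₀ : Subfield F) (g : GL (Fin 2) F) :
    g ∈ subfieldGL K₀ ↔ ∃ μ : F, μ ≠ 0 ∧ ∀ i j, μ * (g : Matrix (Fin 2) (Fin 2) F) i j ∈ K₀ :=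
  Iff.rfl

theorem subfieldGL_mono {K₀ K₁ : Subfield F} (h : K₀ ≤ K₁) : subfieldGL K₀ ≤ subfieldGL K₁ := by
  rintro A ⟨μ, hμ, hA⟩
  exact ⟨μ, hμ, fun i j => h (hA i j)⟩

theorem toGL_mem_subfieldGL_iff (K₀ : Subfield F) (A : SpecialLinearGroup (Fin 2) F) :
    SpecialLinearGroup.toGL A ∈ subfieldGL K₀ ↔ A ∈ subfieldSL K₀ := Iff.rfl

/-- **Rationality criterion.** If conjugation by `m` carries the two elementary unipotent matrices
to matrices over `K₀`, then `m` is a scalar multiple of a matrix over `K₀`. -/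
theorem scalar_rational_of_conj (K₀ : Subfield F) (m Y₁ Y₂ : Matrix (Fin 2) (Fin 2) F)
    (hm : m.det ≠ 0) (lam : F) (hlam : lam ∈ K₀) (hlam0 : lam ≠ 0)
    (hY₁ : ∀ i j, Y₁ i j ∈ K₀) (hY₂ : ∀ i j, Y₂ i j ∈ K₀)
    (h1 : Y₁ * m = m * !![1, 1; 0, 1]) (h2 : Y₂ * m = m * !![1, 0; lam, 1]) :
    ∃ μ : F, μ ≠ 0 ∧ ∀ i j, μ * m i j ∈ K₀ := by
  obtain ⟨x, y, z, w, rfl⟩ : ∃ x y z w : F, m = !![x, y; z, w] :=
    ⟨m 0 0, m 0 1, m 1 0, m 1 1, Matrix.eta_fin_two m⟩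
  rw [Matrix.det_fin_two_of] at hm
  set Δ := x * w - y * z with hΔ
  -- the entries of the two relations
  have a00 := congrFun (congrFun h1 0) 0
  have a01 := congrFun (congrFun h1 0) 1
  have a10 := congrFun (congrFun h1 1) 0
  have a11 := congrFun (congrFun h1 1) 1
  have b00 := congrFun (congrFun h2 0) 0
  have b01 := congrFun (congrFun h2 0) 1
  have b10 := congrFun (congrFun h2 1) 0
  have b11 := congrFun (congrFun h2 1) 1
  simp only [Matrix.mul_apply, Fin.sum_univ_two, Matrix.of_apply, Matrix.cons_val',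
    Matrix.cons_val_zero, Matrix.cons_val_one, Matrix.cons_val_fin_one, mul_one, mul_zero,
    add_zero, zero_add] at a00 a01 a10 a11 b00 b01 b10 b11
  -- `A = Y₁ - 1`, `B = Y₂ - 1`
  have hA00 : (Y₁ 0 0 - 1) * Δ = -(x * z) := by
    rw [hΔ]; linear_combination w * a00 - z * a01
  have hA01 : Y₁ 0 1 * Δ = x ^ 2 := by
    rw [hΔ]; linear_combination x * a01 - y * a00
  have hA10 : Y₁ 1 0 * Δ = -(z ^ 2) := by
    rw [hΔ]; linear_combination w * a10 - z * a11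
  have hA11 : (Y₁ 1 1 - 1) * Δ = x * z := by
    rw [hΔ]; linear_combination x * a11 - y * a10
  have hB00 : (Y₂ 0 0 - 1) * Δ = lam * (y * w) := by
    rw [hΔ]; linear_combination w * b00 - z * b01
  have hB01 : Y₂ 0 1 * Δ = -(lam * y ^ 2) := by
    rw [hΔ]; linear_combination x * b01 - y * b00
  have hB10 : Y₂ 1 0 * Δ = lam * w ^ 2 := by
    rw [hΔ]; linear_combination w * b10 - z * b11
  have hB11 : (Y₂ 1 1 - 1) * Δ = -(lam * (y * w)) := by
    rw [hΔ]; linear_combination x * b11 - y * b10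
  have one_mem := K₀.one_mem
  -- products of two entries over `Δ`
  have kxx : x * x * Δ⁻¹ ∈ K₀ := by
    have : x * x * Δ⁻¹ = Y₁ 0 1 := by
      field_simp; linear_combination -hA01
    rw [this]; exact hY₁ 0 1
  have kxz : x * z * Δ⁻¹ ∈ K₀ := by
    have : x * z * Δ⁻¹ = Y₁ 1 1 - 1 := by
      field_simp; linear_combination -hA11
    rw [this]; exact K₀.sub_mem (hY₁ 1 1) one_mem
  have kyy : y * y * Δ⁻¹ ∈ K₀ := by
    have : y * y * Δ⁻¹ = -(Y₂ 0 1) * lam⁻¹ := by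
      field_simp; linear_combination hB01
    rw [this]; exact K₀.mul_mem (K₀.neg_mem (hY₂ 0 1)) (K₀.inv_mem hlam)
  have kyw : y * w * Δ⁻¹ ∈ K₀ := by
    have : y * w * Δ⁻¹ = (Y₂ 0 0 - 1) * lam⁻¹ := by
      field_simp; linear_combination -hB00
    rw [this]; exact K₀.mul_mem (K₀.sub_mem (hY₂ 0 0) one_mem) (K₀.inv_mem hlam)
  have kxw : x * w * Δ⁻¹ ∈ K₀ := by
    have : x * w * Δ⁻¹ = ((Y₁ 0 0 - 1) * (Y₂ 0 0 - 1) + Y₁ 0 1 * Y₂ 1 0) * lam⁻¹ := by
      have e : ((Y₁ 0 0 - 1) * (Y₂ 0 0 - 1) + Y₁ 0 1 * Y₂ 1 0) * Δ = lam * (x * w) := by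
        have : (((Y₁ 0 0 - 1) * (Y₂ 0 0 - 1) + Y₁ 0 1 * Y₂ 1 0) * Δ - lam * (x * w)) * Δ = 0 := by
          rw [hΔ] at hA00 hA01 hB00 hB10 ⊢
          linear_combination ((Y₂ 0 0 - 1) * (x * w - y * z)) * hA00 + (-(x * z)) * hB00 +
            (Y₂ 1 0 * (x * w - y * z)) * hA01 + (x ^ 2) * hB10
        exact sub_eq_zero.mp ((mul_eq_zero.mp this).resolve_right hm)
      field_simp; linear_combination -e
    rw [this]
    exact K₀.mul_mem (K₀.add_mem (K₀.mul_mem (K₀.sub_mem (hY₁ 0 0) one_mem)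
      (K₀.sub_mem (hY₂ 0 0) one_mem)) (K₀.mul_mem (hY₁ 0 1) (hY₂ 1 0))) (K₀.inv_mem hlam)
  have kxy : x * y * Δ⁻¹ ∈ K₀ := by
    have : x * y * Δ⁻¹ = -((Y₁ 0 0 - 1) * Y₂ 0 1 + Y₁ 0 1 * (Y₂ 1 1 - 1)) * lam⁻¹ := by
      have e : ((Y₁ 0 0 - 1) * Y₂ 0 1 + Y₁ 0 1 * (Y₂ 1 1 - 1)) * Δ = -(lam * (x * y)) := by
        have : (((Y₁ 0 0 - 1) * Y₂ 0 1 + Y₁ 0 1 * (Y₂ 1 1 - 1)) * Δ + lam * (x * y)) * Δ = 0 := by
          rw [hΔ] at hA00 hA01 hB01 hB11 ⊢
          linear_combination (Y₂ 0 1 * (x * w - y * z)) * hA00 + (-(x * z)) * hB01 +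
            ((Y₂ 1 1 - 1) * (x * w - y * z)) * hA01 + (x ^ 2) * hB11
        have := (mul_eq_zero.mp this).resolve_right hm
        linear_combination this
      field_simp; linear_combination e
    rw [this]
    exact K₀.mul_mem (K₀.neg_mem (K₀.add_mem (K₀.mul_mem (K₀.sub_mem (hY₁ 0 0) one_mem)
      (hY₂ 0 1)) (K₀.mul_mem (hY₁ 0 1) (K₀.sub_mem (hY₂ 1 1) one_mem)))) (K₀.inv_mem hlam)
  have kyz : y * z * Δ⁻¹ ∈ K₀ := by
    have : y * z * Δ⁻¹ = x * w * Δ⁻¹ - 1 := by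
      field_simp; rw [hΔ]; ring
    rw [this]; exact K₀.sub_mem kxw one_mem
  by_cases hx : x = 0
  · have hy : y ≠ 0 := by
      intro hy; apply hm; rw [hΔ, hx, hy]; ring
    refine ⟨y * Δ⁻¹, mul_ne_zero hy (inv_ne_zero hm), fun i j => ?_⟩
    fin_cases i <;> fin_cases j
    · simp only [hx, Fin.zero_eta, Fin.isValue, of_apply, cons_val', cons_val_zero, cons_val_fin_one,
        mul_zero]
      exact K₀.zero_mem
    · have : y * Δ⁻¹ * y = y * y * Δ⁻¹ := by ring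
      simpa [this] using kyy
    · have : y * Δ⁻¹ * z = y * z * Δ⁻¹ := by ring
      simpa [this] using kyz
    · have : y * Δ⁻¹ * w = y * w * Δ⁻¹ := by ring
      simpa [this] using kyw
  · refine ⟨x * Δ⁻¹, mul_ne_zero hx (inv_ne_zero hm), fun i j => ?_⟩
    fin_cases i <;> fin_cases j
    · have : x * Δ⁻¹ * x = x * x * Δ⁻¹ := by ring
      simpa [this] using kxx
    · have : x * Δ⁻¹ * y = x * y * Δ⁻¹ := by ring
      simpa [this] using kxy
    · have : x * Δ⁻¹ * z = x * z * Δ⁻¹ := by ring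
      simpa [this] using kxz
    · have : x * Δ⁻¹ * w = x * w * Δ⁻¹ := by ring
      simpa [this] using kxw

end Cfsg.Agent.Lib.Helper13.PGL2Max
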