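/-
helper13: maximal subgroups of `PGL₂(F)` not containing the image of `SL₂(F)`: overgroups defined
over a subfield.
-/
import Mathlib
import Cfsg.Agent.Lib.Helper13.PGL2MaxH
import Cfsg.Agent.Lib.Helper13.PGL2MaxF

set_option autoImplicit false

namespace Cfsg.Agent.Lib.Helper13.PGL2Max

open Matrix Subgroup Cfsg.Agent.Lib.Helper13 Cfsg.Agent.Lib.Helper13.Dk
  Cfsg.Agent.Lib.Helper13.PSL2MaxOdd

variable {F : Type*} [Field F]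

/-- The conjugate by `P⁻¹` of `subfieldGL K₀`. -/
noncomputable def ovGL (P : Matrix (Fin 2) (Fin 2) F) (hP : P.det ≠ 0) (K₀ : Subfield F) :
    Subgroup (GL (Fin 2) F) :=
  (subfieldGL K₀).comap (MulAut.conj (glOf P hP)).toMonoidHom

theorem mem_ovGL (P : Matrix (Fin 2) (Fin 2) F) (hP : P.det ≠ 0) (K₀ : Subfield F)
    (m : GL (Fin 2) F) : m ∈ ovGL P hP K₀ ↔ cj P hP m ∈ subfieldGL K₀ := Iff.rfl

theorem ovGL_mono (P : Matrix (Fin 2) (Fin 2) F) (hP : P.det ≠ 0) {K₀ K₁ : Subfield F}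
    (h01 : K₀ ≤ K₁) : ovGL P hP K₀ ≤ ovGL P hP K₁ :=
  Subgroup.comap_mono (subfieldGL_mono h01)

section

variable (P : Matrix (Fin 2) (Fin 2) F) (hP : P.det ≠ 0) (Θ : Tw F)
  (hΘ : ∀ A : SpecialLinearGroup (Fin 2) F, P * (A : Matrix (Fin 2) (Fin 2) F) =
    ((Θ.hom A : SpecialLinearGroup (Fin 2) F) : Matrix (Fin 2) (Fin 2) F) * P)
  (K₀ : Subfield F)

include hΘ in
theorem toGL_mem_ovGL_iff (A : SpecialLinearGroup (Fin 2) F) :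
    SpecialLinearGroup.toGL A ∈ ovGL P hP K₀ ↔ Θ.hom A ∈ subfieldSL K₀ := by
  rw [mem_ovGL, cj_toGL P hP Θ hΘ, toGL_mem_subfieldGL_iff]

include hΘ in
theorem exists_not_mem_ovGL [Finite F] (hK : K₀ ≠ ⊤) : ∃ g : GL (Fin 2) F, g ∉ ovGL P hP K₀ := by
  have hlt : K₀ < ⊤ := lt_top_iff_ne_top.mpr hK
  obtain ⟨x, -, hx⟩ := SetLike.exists_of_lt hlt
  obtain ⟨A, hA⟩ := Θ.bijective.2 (tSL x)
  refine ⟨SpecialLinearGroup.toGL A, ?_⟩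
  rw [toGL_mem_ovGL_iff P hP Θ hΘ, hA, tSL_mem_subfieldSL_iff]
  exact hx

variable {𝔐 : Subgroup (GL (Fin 2) F)} (h : GLMax 𝔐)

include h hΘ in
/-- If `Θ(H)` contains the two elementary unipotents (the lower one with parameter in `K₀`) and
its elements of trace `2` are rational over `K₀`, then `𝔐` lies in the overgroup. -/
theorem le_ovGL (s₁ s₂ : SpecialLinearGroup (Fin 2) F)
    (hs₁ : s₁ ∈ 𝔐.comap SpecialLinearGroup.toGL) (hs₂ : s₂ ∈ 𝔐.comap SpecialLinearGroup.toGL)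
    (hΘ₁ : ((Θ.hom s₁ : SpecialLinearGroup (Fin 2) F) : Matrix (Fin 2) (Fin 2) F) =
      !![1, 1; 0, 1])
    (lam : F) (hlam : lam ∈ K₀) (hlam0 : lam ≠ 0)
    (hΘ₂ : ((Θ.hom s₂ : SpecialLinearGroup (Fin 2) F) : Matrix (Fin 2) (Fin 2) F) =
      !![1, 0; lam, 1])
    (hrat : ∀ g ∈ 𝔐.comap SpecialLinearGroup.toGL,
      (g : Matrix (Fin 2) (Fin 2) F).trace = 2 →
      ∀ i j, ((Θ.hom g : SpecialLinearGroup (Fin 2) F) : Matrix (Fin 2) (Fin 2) F) i j ∈ K₀) :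
    𝔐 ≤ ovGL P hP K₀ := by
  intro m hm
  rw [mem_ovGL, mem_subfieldGL]
  have hdet : ((cj P hP m : GL (Fin 2) F) : Matrix (Fin 2) (Fin 2) F).det ≠ 0 := by
    have := (cj P hP m).isUnit
    rw [Matrix.isUnit_iff_isUnit_det] at this
    exact this.ne_zero
  have t₁ : (s₁ : Matrix (Fin 2) (Fin 2) F).trace = 2 := by
    rw [← Θ.tr_eq, hΘ₁, Matrix.trace_fin_two_of]; norm_num
  have t₂ : (s₂ : Matrix (Fin 2) (Fin 2) F).trace = 2 := by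
    rw [← Θ.tr_eq, hΘ₂, Matrix.trace_fin_two_of]; norm_num
  have c₁ := cj_conjSL P hP Θ hΘ m s₁
  have c₂ := cj_conjSL P hP Θ hΘ m s₂
  rw [hΘ₁] at c₁
  rw [hΘ₂] at c₂
  exact scalar_rational_of_conj K₀ _ _ _ hdet lam hlam hlam0
    (hrat _ (h.conj_mem hm hs₁) (by rw [trace_conjSL, t₁]))
    (hrat _ (h.conj_mem hm hs₂) (by rw [trace_conjSL, t₂])) c₁ c₂

include h hΘ in
theorem ovGL_eq [Finite F] (s₁ s₂ : SpecialLinearGroup (Fin 2) F)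
    (hs₁ : s₁ ∈ 𝔐.comap SpecialLinearGroup.toGL) (hs₂ : s₂ ∈ 𝔐.comap SpecialLinearGroup.toGL)
    (hΘ₁ : ((Θ.hom s₁ : SpecialLinearGroup (Fin 2) F) : Matrix (Fin 2) (Fin 2) F) =
      !![1, 1; 0, 1])
    (lam : F) (hlam : lam ∈ K₀) (hlam0 : lam ≠ 0)
    (hΘ₂ : ((Θ.hom s₂ : SpecialLinearGroup (Fin 2) F) : Matrix (Fin 2) (Fin 2) F) =
      !![1, 0; lam, 1])
    (hrat : ∀ g ∈ 𝔐.comap SpecialLinearGroup.toGL,
      (g : Matrix (Fin 2) (Fin 2) F).trace = 2 →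
      ∀ i j, ((Θ.hom g : SpecialLinearGroup (Fin 2) F) : Matrix (Fin 2) (Fin 2) F) i j ∈ K₀)
    (hK : K₀ ≠ ⊤) : ovGL P hP K₀ = 𝔐 :=
  h.eq_of_le (le_ovGL P hP Θ hΘ K₀ h s₁ s₂ hs₁ hs₂ hΘ₁ lam hlam hlam0 hΘ₂ hrat)
    (exists_not_mem_ovGL P hP Θ hΘ K₀ hK)

end

end Cfsg.Agent.Lib.Helper13.PGL2Max
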