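/-
helper13: maximal subgroups of `PGL₂(F)` not containing the image of `SL₂(F)`: auxiliary facts for
the subfield case.
-/
import Mathlib
import Cfsg.Agent.Lib.Helper13.PGL2MaxI
import Cfsg.Agent.Lib.Helper13.DkPGL
import Cfsg.Agent.Lib.Helper13.SubfieldTwo

set_option autoImplicit false

namespace Cfsg.Agent.Lib.Helper13.PGL2Max

open Matrix Subgroup Cfsg.Agent.Lib.Helper13 Cfsg.Agent.Lib.Helper13.Dk
  Cfsg.Agent.Lib.Helper13.PSL2MaxOdd

variable {F : Type*} [Field F]

/-- The class of an element of `subfieldGL K₀` comes from `PGL₂(K₀)`. -/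
theorem mk_mem_range_of_mem_subfieldGL (K₀ : Subfield F) (g : GL (Fin 2) F)
    (hg : g ∈ subfieldGL K₀) :
    Matrix.ProjGenLinGroup.mk g ∈ (Matrix.ProjGenLinGroup.map (n := Fin 2) K₀.subtype).range := by
  obtain ⟨μ, hμ, h⟩ := hg
  set A : Matrix (Fin 2) (Fin 2) K₀ := fun i j => ⟨μ * (g : Matrix (Fin 2) (Fin 2) F) i j, h i j⟩
    with hA
  have hAmap : A.map K₀.subtype = μ • (g : Matrix (Fin 2) (Fin 2) F) := by
    ext i j
    rw [Matrix.map_apply, Matrix.smul_apply, smul_eq_mul]
    rfl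
  have hgdet : (g : Matrix (Fin 2) (Fin 2) F).det ≠ 0 := by
    have := g.isUnit
    rw [Matrix.isUnit_iff_isUnit_det] at this
    exact this.ne_zero
  have hdet : A.det ≠ 0 := by
    intro h0
    have h1 : (A.map K₀.subtype).det = K₀.subtype A.det := (RingHom.map_det K₀.subtype A).symm
    rw [h0, map_zero, hAmap, Matrix.det_smul, Fintype.card_fin] at h1
    exact mul_ne_zero (pow_ne_zero 2 hμ) hgdet h1
  refine ⟨Matrix.ProjGenLinGroup.mk (Matrix.GeneralLinearGroup.mkOfDetNeZero A hdet), ?_⟩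
  rw [Matrix.ProjGenLinGroup.map_mk, eq_comm, Matrix.ProjGenLinGroup.mk_eq_mk_iff]
  refine ⟨Units.mk0 μ hμ, ?_⟩
  apply Units.ext
  have h2 : ((Matrix.GeneralLinearGroup.map K₀.subtype
      (Matrix.GeneralLinearGroup.mkOfDetNeZero A hdet) : GL (Fin 2) F) :
      Matrix (Fin 2) (Fin 2) F) = A.map K₀.subtype := rfl
  rw [h2, hAmap]
  ext i j
  simp [Matrix.GeneralLinearGroup.coe_scalar, Matrix.mul_apply,
    Matrix.scalar_apply, Matrix.diagonal_apply]
  fin_cases i <;> fin_cases j <;> simp [mul_comm]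

/-- `PGL₂` of two finite fields of the same order are isomorphic. -/
theorem nonempty_pgl_mulEquiv {K K' : Type*} [Field K] [Fintype K] [Field K'] [Fintype K']
    (hc : Fintype.card K = Fintype.card K') :
    Nonempty (Matrix.ProjGenLinGroup (Fin 2) K ≃* Matrix.ProjGenLinGroup (Fin 2) K') := by
  have e : K ≃+* K' := FiniteField.ringEquivOfCardEq hc
  have := finite_PGL2 (F := K)
  have := finite_PGL2 (F := K')
  have hinj := Emb.pglmap_injective (F := K') (K := K) e.toRingHom
  have hcard : Nat.card (Matrix.ProjGenLinGroup (Fin 2) K) =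
      Nat.card (Matrix.ProjGenLinGroup (Fin 2) K') := by
    rw [card_PGL2, card_PGL2, hc]
  have hbij : Function.Bijective (Matrix.ProjGenLinGroup.map (n := Fin 2) e.toRingHom) :=
    (Nat.bijective_iff_injective_and_card _).mpr ⟨hinj, hcard⟩
  exact ⟨MulEquiv.ofBijective _ hbij⟩

section

variable [Fintype F] {𝔐 : Subgroup (GL (Fin 2) F)} (h : GLMax 𝔐)

include h in
theorem card_center_comap (h2 : (2 : F) ≠ 0)
    (hna : ∃ x y : 𝔐.comap SpecialLinearGroup.toGL, x * y ≠ y * x) :
    Nat.card (center (𝔐.comap SpecialLinearGroup.toGL)) = 2 := by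
  set H := 𝔐.comap SpecialLinearGroup.toGL with hH
  have heq : center H = (center (SpecialLinearGroup (Fin 2) F)).subgroupOf H := by
    ext g
    rw [(subEmb H).mem_center_iff_sc hna, (subEmb H).sc_iff_mem_center, Subgroup.mem_subgroupOf]
    rfl
  rw [heq, Nat.card_congr (Subgroup.subgroupOfEquivOfLe (center_le_comap h)).toEquiv,
    card_center_SL2 h2]

end

end Cfsg.Agent.Lib.Helper13.PGL2Max
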