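/-
helper13: maximal subgroups of `PGL₂(F)` not containing the image of `SL₂(F)`: the subfield case.
-/
import Mathlib
import Cfsg.Agent.Lib.Helper13.PGL2MaxJ
import Cfsg.Agent.Lib.Helper13.DkRefine2

set_option autoImplicit false

namespace Cfsg.Agent.Lib.Helper13.PGL2Max

open Matrix Subgroup Cfsg.Agent.Lib.Helper13 Cfsg.Agent.Lib.Helper13.Dk
  Cfsg.Agent.Lib.Helper13.PSL2MaxOdd Cfsg.Agent.Lib.Helper13.TwGeom

variable {F : Type*} [Field F] [Fintype F]

theorem card_comap_bijective {G G' : Type*} [Group G] [Group G'] (f : G →* G')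
    (hf : Function.Bijective f) (X : Subgroup G') : Nat.card (X.comap f) = Nat.card X := by
  rw [← Subgroup.card_map_of_injective (K := X.comap f) hf.1,
    Subgroup.map_comap_eq_self_of_surjective hf.2]

theorem conj_unip_aux {F : Type*} [Field F] (W : Matrix (Fin 2) (Fin 2) F) (hdet : W.det = 1)
    (h00 : W 0 0 = 0) :
    W * !![1, 1; 0, 1] * W.adjugate = !![1, 0; -(W 1 0) ^ 2, 1] := by
  rw [Matrix.det_fin_two, h00] at hdet
  rw [Matrix.adjugate_fin_two]
  ext i j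
  fin_cases i <;> fin_cases j <;>
    simp [Matrix.mul_apply, Fin.sum_univ_two, h00]
  · linear_combination hdet
  · ring
  · linear_combination hdet

set_option maxHeartbeats 1600000 in
/-- The subfield case. -/
theorem subfield_case (hodd : Odd (Fintype.card F)) (h3 : 3 < Fintype.card F)
    (M : Subgroup (Matrix.ProjGenLinGroup (Fin 2) F)) (hM : IsCoatom M)
    (hML : ¬ (piP F).range ≤ M) (hsf : (subEmb (M.comap (piP F))).SubfieldCase') :
    ∃ (F₀ : Type) (_ : Field F₀) (_ : Fintype F₀) (r : ℕ), r.Prime ∧ Odd r ∧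
      Fintype.card F = Fintype.card F₀ ^ r ∧
      Nonempty (M ≃* Matrix.ProjGenLinGroup (Fin 2) F₀) := by
  classical
  have h2 : (2 : F) ≠ 0 := two_ne_zero_of_odd hodd
  have h := glMax_comap M hM hML
  have := finite_PGL2 (F := F)
  obtain ⟨Θ, K₀, k, ⟨u, hu⟩, ⟨w, hw⟩, hsc, hcard, hna, K, fK, ftK, m, hm, hcK, hiso⟩ := hsf
  obtain ⟨P, hP, hΘ⟩ := tw_geom h2 Θ
  letI : Fintype K₀ := Fintype.ofFinite K₀
  set q₀ := Nat.card K₀ with hq₀
  have hq₀2 : 2 ≤ q₀ := by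
    rw [hq₀, Nat.card_eq_fintype_card]
    exact Fintype.one_lt_card
  -- the two unipotent elements
  set s₁ : SpecialLinearGroup (Fin 2) F := (u : SpecialLinearGroup (Fin 2) F) with hs₁def
  set w₀ : SpecialLinearGroup (Fin 2) F := (w : SpecialLinearGroup (Fin 2) F) with hw₀def
  set s₂ : SpecialLinearGroup (Fin 2) F := w₀ * s₁ * w₀⁻¹ with hs₂def
  have hs₁ : s₁ ∈ (M.comap Matrix.ProjGenLinGroup.mk).comap SpecialLinearGroup.toGL := u.2
  have hs₂ : s₂ ∈ (M.comap Matrix.ProjGenLinGroup.mk).comap SpecialLinearGroup.toGL :=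
    (w * u * w⁻¹).2
  have hΘ₁ : ((Θ.hom s₁ : SpecialLinearGroup (Fin 2) F) : Matrix (Fin 2) (Fin 2) F) =
      !![1, 1; 0, 1] := by
    have : Θ.hom s₁ = tSL 1 := hu
    rw [this, tSL_coe]
  set W : Matrix (Fin 2) (Fin 2) F :=
    ((Θ.hom w₀ : SpecialLinearGroup (Fin 2) F) : Matrix (Fin 2) (Fin 2) F) with hW
  have hW00 : W 0 0 = 0 := hw
  have hWdet : W 0 0 * W 1 1 - W 0 1 * W 1 0 = 1 := by
    have := (Θ.hom w₀).2
    rw [Matrix.det_fin_two] at this
    exact this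
  set lam : F := -(W 1 0) ^ 2 with hlamdef
  have hW10 : W 1 0 ≠ 0 := by
    intro h0
    rw [hW00, h0] at hWdet
    simp at hWdet
  have hlam0 : lam ≠ 0 := neg_ne_zero.mpr (pow_ne_zero 2 hW10)
  have hΘ₂ : ((Θ.hom s₂ : SpecialLinearGroup (Fin 2) F) : Matrix (Fin 2) (Fin 2) F) =
      !![1, 0; lam, 1] := by
    rw [hs₂def, map_mul, map_mul, map_inv, Matrix.SpecialLinearGroup.coe_mul,
      Matrix.SpecialLinearGroup.coe_mul, Matrix.SpecialLinearGroup.coe_inv, hΘ₁]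
    exact conj_unip_aux W (Θ.hom w₀).2 hW00
  -- rationality
  have hsc' : ∀ g : SpecialLinearGroup (Fin 2) F,
      g ∈ (M.comap Matrix.ProjGenLinGroup.mk).comap SpecialLinearGroup.toGL →
      ∃ μ : F, μ ≠ 0 ∧ ∀ i j, μ *
        ((Θ.hom g : SpecialLinearGroup (Fin 2) F) : Matrix (Fin 2) (Fin 2) F) i j ∈ K₀ :=
    fun g hg => hsc ⟨g, hg⟩
  have two_mem : (2 : F) ∈ K₀ := by
    rw [← one_add_one_eq_two]; exact K₀.add_mem K₀.one_mem K₀.one_mem
  have hrat : ∀ g ∈ (M.comap Matrix.ProjGenLinGroup.mk).comap SpecialLinearGroup.toGL,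
      (g : Matrix (Fin 2) (Fin 2) F).trace = 2 →
      ∀ i j, ((Θ.hom g : SpecialLinearGroup (Fin 2) F) : Matrix (Fin 2) (Fin 2) F) i j ∈ K₀ := by
    intro g hg htr i j
    obtain ⟨μ, hμ, hμe⟩ := hsc' g hg
    have ht : ((Θ.hom g : SpecialLinearGroup (Fin 2) F) : Matrix (Fin 2) (Fin 2) F).trace = 2 := by
      rw [Θ.tr_eq, htr]
    rw [Matrix.trace_fin_two] at ht
    have hμK : μ ∈ K₀ := by
      have e : μ = (μ * ((Θ.hom g : SpecialLinearGroup (Fin 2) F) :
          Matrix (Fin 2) (Fin 2) F) 0 0 + μ * ((Θ.hom g : SpecialLinearGroup (Fin 2) F) :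
          Matrix (Fin 2) (Fin 2) F) 1 1) * 2⁻¹ := by
        rw [← mul_add, ht, mul_assoc, mul_inv_cancel₀ h2, mul_one]
      rw [e]
      exact K₀.mul_mem (K₀.add_mem (hμe 0 0) (hμe 1 1)) (K₀.inv_mem two_mem)
    have e : ((Θ.hom g : SpecialLinearGroup (Fin 2) F) : Matrix (Fin 2) (Fin 2) F) i j =
        μ⁻¹ * (μ * ((Θ.hom g : SpecialLinearGroup (Fin 2) F) :
          Matrix (Fin 2) (Fin 2) F) i j) := by
      field_simp
    rw [e]
    exact K₀.mul_mem (K₀.inv_mem hμK) (hμe i j)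
  have hlam : lam ∈ K₀ := by
    have t₂ : (s₂ : Matrix (Fin 2) (Fin 2) F).trace = 2 := by
      rw [← Θ.tr_eq, hΘ₂, Matrix.trace_fin_two_of]; norm_num
    have := hrat s₂ hs₂ t₂ 1 0
    rw [hΘ₂] at this
    simpa using this
  have hle : M.comap Matrix.ProjGenLinGroup.mk ≤ ovGL P hP K₀ :=
    le_ovGL P hP Θ hΘ K₀ h s₁ s₂ hs₁ hs₂ hΘ₁ lam hlam hlam0 hΘ₂ hrat
  -- the conjugation and the range
  set c : Matrix.ProjGenLinGroup (Fin 2) F := Matrix.ProjGenLinGroup.mk (glOf P hP) with hc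
  set ψ : Matrix.ProjGenLinGroup (Fin 2) F →* Matrix.ProjGenLinGroup (Fin 2) F :=
    (MulAut.conj c).toMonoidHom with hψ
  have hψinj : Function.Injective ψ := (MulAut.conj c).injective
  set R := (Matrix.ProjGenLinGroup.map (n := Fin 2) K₀.subtype).range with hR
  have hMR : M.map ψ ≤ R := by
    rintro _ ⟨x, hx, rfl⟩
    obtain ⟨g, rfl⟩ := Matrix.ProjGenLinGroup.mk_surjective x
    have hg : g ∈ M.comap Matrix.ProjGenLinGroup.mk := hx
    have : ψ (Matrix.ProjGenLinGroup.mk g) = Matrix.ProjGenLinGroup.mk (cj P hP g) := by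
      change c * Matrix.ProjGenLinGroup.mk g * c⁻¹ = _
      rw [cj, map_mul, map_mul, map_inv]
    rw [this]
    exact mk_mem_range_of_mem_subfieldGL K₀ _ (hle hg)
  have hRfin : Finite R := Emb.finite_range_map K₀.subtype
  have hRcard : Nat.card R = q₀ * (q₀ ^ 2 - 1) := Emb.card_range_map K₀.subtype
  have hMcard : Nat.card (M.map ψ) = Nat.card M := Subgroup.card_map_of_injective hψinj
  have hMH : Nat.card M = Nat.card (M.comap (piP F)) := card_eq_card_comap M hM hML hodd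
  have hZ : Nat.card (center (M.comap (piP F))) = 2 := card_center_comap h h2 hna
  rw [hZ] at hcard
  have hle' : Nat.card M ≤ q₀ * (q₀ ^ 2 - 1) := by
    rw [← hMcard, ← hRcard]
    exact Subgroup.card_le_of_le hMR
  have hk : 2 * k + 1 = q₀ := by
    rcases hiso with ⟨hk, -⟩ | ⟨hk, -⟩
    · exact hk
    · exfalso
      rw [hMH, hcard, ← hk] at hle'
      have hk1 : 1 ≤ k := by omega
      have e : (k + 1) ^ 2 - 1 = k * (k + 2) := by
        have : (k + 1) ^ 2 = k * (k + 2) + 1 := by ring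
        omega
      rw [e] at hle'
      have hX : 0 < (k + 1) * (k * (k + 2)) := by positivity
      have : 2 * ((k + 1) * k * (k + 1 + 1)) = 2 * ((k + 1) * (k * (k + 2))) := by ring
      omega
  have hHcard : Nat.card (M.comap (piP F)) = q₀ * (q₀ ^ 2 - 1) := by
    rw [hcard, ← hk]
    have e : (2 * k + 1) ^ 2 - 1 = 4 * k ^ 2 + 4 * k := by
      have : (2 * k + 1) ^ 2 = 4 * k ^ 2 + 4 * k + 1 := by ring
      omega
    rw [e]; ring
  have hq₀q : q₀ ≠ Fintype.card F := by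
    intro heq
    have hc' : Nat.card (M.comap (piP F)) = Nat.card (SpecialLinearGroup (Fin 2) F) := by
      rw [hHcard, card_SL2, heq]
    have htop : M.comap (piP F) = ⊤ := Subgroup.eq_top_of_card_eq _ hc'
    obtain ⟨A, hA⟩ := h.not_le
    have hA' : A ∈ M.comap (piP F) := htop ▸ mem_top A
    exact hA hA'
  have hK₀top : K₀ ≠ ⊤ := by
    intro htop
    apply hq₀q
    rw [hq₀, htop, Nat.card_congr (Subfield.topEquiv (K := F)).toEquiv, Nat.card_eq_fintype_card]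
  have h𝔐 : ovGL P hP K₀ = M.comap Matrix.ProjGenLinGroup.mk :=
    ovGL_eq P hP Θ hΘ K₀ h s₁ s₂ hs₁ hs₂ hΘ₁ lam hlam hlam0 hΘ₂ hrat hK₀top
  have hm' : q₀ ^ m = Fintype.card F := by rw [← hcK]; exact hm
  have hm2 : 2 ≤ m := by
    by_contra hlt
    have : m = 0 ∨ m = 1 := by omega
    rcases this with rfl | rfl
    · rw [pow_zero] at hm'; omega
    · rw [pow_one] at hm'; exact hq₀q hm'
  have hmprime : m.Prime := by
    by_contra hnp
    obtain ⟨b, hbm, hb2, hblt⟩ := Nat.exists_dvd_of_not_prime2 hm2 hnp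
    obtain ⟨c', hc'⟩ := hbm
    have hc2 : 2 ≤ c' := by
      by_contra hcon
      have : c' = 0 ∨ c' = 1 := by omega
      rcases this with rfl | rfl
      · omega
      · omega
    obtain ⟨K₁, h01, h1⟩ := exists_intermediate K₀ m hm' b c' hb2 hc2 hc'
    have hrat₁ : ∀ g ∈ (M.comap Matrix.ProjGenLinGroup.mk).comap SpecialLinearGroup.toGL,
        (g : Matrix (Fin 2) (Fin 2) F).trace = 2 →
        ∀ i j, ((Θ.hom g : SpecialLinearGroup (Fin 2) F) : Matrix (Fin 2) (Fin 2) F) i j ∈ K₁ :=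
      fun g hg ht i j => h01.le (hrat g hg ht i j)
    have h𝔐₁ : ovGL P hP K₁ = M.comap Matrix.ProjGenLinGroup.mk :=
      ovGL_eq P hP Θ hΘ K₁ h s₁ s₂ hs₁ hs₂ hΘ₁ lam (h01.le hlam) hlam0 hΘ₂ hrat₁ h1.ne
    obtain ⟨x, hx1, hx0⟩ := SetLike.exists_of_lt h01
    obtain ⟨A, hA⟩ := Θ.bijective.2 (tSL x)
    have hA1 : SpecialLinearGroup.toGL A ∈ ovGL P hP K₁ := by
      rw [toGL_mem_ovGL_iff P hP Θ hΘ, hA, tSL_mem_subfieldSL_iff]; exact hx1
    rw [h𝔐₁, ← h𝔐, toGL_mem_ovGL_iff P hP Θ hΘ, hA, tSL_mem_subfieldSL_iff] at hA1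
    exact hx0 hA1
  have hm2' : m ≠ 2 := by
    intro h2m
    have hdeg : Nat.card K₀ ^ 2 = Fintype.card F := by rw [← h2m]; exact hm'
    have hgt := PairNF.card_subfieldSL_gt h2 K₀ hdeg
    have hHeq : M.comap (piP F) = (subfieldSL K₀).comap Θ.hom := by
      ext A
      change SpecialLinearGroup.toGL A ∈ M.comap Matrix.ProjGenLinGroup.mk ↔ _
      rw [← h𝔐, toGL_mem_ovGL_iff P hP Θ hΘ]
      rfl
    have hc' : Nat.card (M.comap (piP F)) = Nat.card (subfieldSL K₀) := by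
      rw [hHeq]; exact card_comap_bijective Θ.hom Θ.bijective _
    rw [← hc', hHcard] at hgt
    exact lt_irrefl _ hgt
  have heqR : M.map ψ = R :=
    Subgroup.eq_of_le_of_card_ge hMR (by rw [hRcard, hMcard, hMH, hHcard])
  refine ⟨K, fK, ftK, m, hmprime, hmprime.eq_two_or_odd'.resolve_left hm2', hm.symm, ?_⟩
  obtain ⟨e⟩ := nonempty_pgl_mulEquiv (K := K₀) (K' := K)
    (by rw [hcK, hq₀, Nat.card_eq_fintype_card])
  exact ⟨(Subgroup.equivMapOfInjective M ψ hψinj).trans ((MulEquiv.subgroupCongr heqR).trans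
    ((MonoidHom.ofInjective (Emb.pglmap_injective K₀.subtype)).symm.trans e))⟩

end Cfsg.Agent.Lib.Helper13.PGL2Max
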