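/-
helper13: subgroups of `PSL₂(E)` with a subgroup of index two of type `A₄`, `S₄` or `A₅`
(consequences of Dickson's theorem).
-/
import Mathlib
import Cfsg.Agent.Lib.Helper13.DkMax

set_option autoImplicit false

namespace Cfsg.Agent.Lib.Helper13.PGL2Max

open Subgroup Cfsg.Agent.Lib.Helper13 Cfsg.Agent.Lib.Helper13.Dk
open scoped commutatorElement

variable {E : Type*} [Field E] [Fintype E]

/-- The four "large" alternatives of Dickson's theorem. -/
def LargeAlt (E : Type*) [Field E] [Fintype E] (X : Type*) [Group X] : Prop :=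
  Nonempty (X ≃* alternatingGroup (Fin 4)) ∨ Nonempty (X ≃* Equiv.Perm (Fin 4)) ∨
  Nonempty (X ≃* alternatingGroup (Fin 5)) ∨
  (∃ (K : Type) (_ : Field K) (_ : Fintype K) (m : ℕ), Fintype.card K ^ m = Fintype.card E ∧
    (Nonempty (X ≃* Matrix.ProjectiveSpecialLinearGroup (Fin 2) K) ∨
      Nonempty (X ≃* Matrix.ProjGenLinGroup (Fin 2) K)))

/-- A subgroup `M` of `PSL₂(E)` containing a subgroup `N ≅ T` whose elements have small orders and
with a commutator of order two is of one of the large types. -/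
theorem largeAlt_of_sub (p : ℕ) [Fact p.Prime] [CharP E p] (hp2 : p ≠ 2)
    (M N : Subgroup (Matrix.ProjectiveSpecialLinearGroup (Fin 2) E)) (hNM : N ≤ M)
    {T : Type*} [Group T] (f : N ≃* T) (b : ℕ) (hb : 2 * b < Nat.card N)
    (hord : ∀ t : T, orderOf t ≤ b) (x y : T) (hxy : orderOf ⁅x, y⁆ = 2) :
    LargeAlt E M := by
  classical
  have hpp : p.Prime := Fact.out
  have hord' : ∀ h : N, orderOf h ≤ b := by
    intro h
    rw [← MulEquiv.orderOf_eq f h]
    exact hord _
  have hD := dickson_subgroup' p M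
  rcases hD with ⟨k, hk, hc⟩ | hN | h | h | h | h
  · exfalso
    rcases hc with ⟨hcyc, -⟩ | ⟨⟨e⟩⟩
    · obtain ⟨h, hh, hcard⟩ := exists_orderOf_of_cyclic M N hNM
      have := hord' ⟨h, hh⟩
      rw [Subgroup.orderOf_mk] at this
      omega
    · have hk0 : k ≠ 0 := by
        rintro rfl
        have h1 := Nat.card_congr e.toEquiv
        rw [DihedralGroup.nat_card] at h1
        have : 0 < Nat.card M := Nat.card_pos
        omega
      obtain ⟨h, hh, hcard⟩ := exists_orderOf_of_dihedral M N hNM hk0 e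
      have := hord' ⟨h, hh⟩
      rw [Subgroup.orderOf_mk] at this
      omega
  · exfalso
    obtain ⟨n, hn⟩ := orderOf_commutator_dvd M N hNM hN.2.2 f x y
    rw [hxy] at hn
    have := (Nat.prime_dvd_prime_iff_eq Nat.prime_two hpp).mp
      (Nat.Prime.dvd_of_dvd_pow Nat.prime_two hn)
    exact hp2 this.symm
  · exact Or.inl h
  · exact Or.inr (Or.inl h)
  · exact Or.inr (Or.inr (Or.inl h))
  · exact Or.inr (Or.inr (Or.inr h))

theorem card_alt4 : Nat.card (alternatingGroup (Fin 4)) = 12 := by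
  rw [Nat.card_eq_fintype_card]; rfl

theorem card_sym4 : Nat.card (Equiv.Perm (Fin 4)) = 24 := by
  rw [Nat.card_eq_fintype_card, Fintype.card_perm, Fintype.card_fin]; rfl

theorem card_alt5 : Nat.card (alternatingGroup (Fin 5)) = 60 := by
  rw [Nat.card_eq_fintype_card]; rfl

/-- `c (c² - 1)` for small `c`. -/
theorem cube_cases (c : ℕ) (hc : 2 ≤ c) :
    (c = 2 ∧ c * (c ^ 2 - 1) = 6) ∨ (c = 3 ∧ c * (c ^ 2 - 1) = 24) ∨
    (c = 4 ∧ c * (c ^ 2 - 1) = 60) ∨ (c = 5 ∧ c * (c ^ 2 - 1) = 120) ∨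
    (c = 6 ∧ c * (c ^ 2 - 1) = 210) ∨ (7 ≤ c ∧ 336 ≤ c * (c ^ 2 - 1)) := by
  by_cases h7 : 7 ≤ c
  · right; right; right; right; right
    refine ⟨h7, ?_⟩
    have h1 : 7 ^ 2 ≤ c ^ 2 := Nat.pow_le_pow_left h7 2
    calc 336 = 7 * (7 ^ 2 - 1) := by norm_num
      _ ≤ c * (c ^ 2 - 1) := Nat.mul_le_mul h7 (by omega)
  · have : c = 2 ∨ c = 3 ∨ c = 4 ∨ c = 5 ∨ c = 6 := by omega
    rcases this with rfl | rfl | rfl | rfl | rfl <;> simp

theorem char_eq_of_card_pow (p : ℕ) [Fact p.Prime] [CharP E p] {c m r : ℕ} (hr : r.Prime)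
    (hc : c = r) (hm : c ^ m = Fintype.card E) : p = r := by
  have hpp : p.Prime := Fact.out
  obtain ⟨n, -, hn⟩ := FiniteField.card E p
  have hdvd : p ∣ c ^ m := by
    rw [hm, hn]
    exact dvd_pow_self p n.ne_zero
  have := hpp.dvd_of_dvd_pow hdvd
  rw [hc] at this
  exact (Nat.prime_dvd_prime_iff_eq hpp hr).mp this

section cases

variable (p : ℕ) [Fact p.Prime] [CharP E p]
  (M : Subgroup (Matrix.ProjectiveSpecialLinearGroup (Fin 2) E))

/-- Order `24`: `M ≅ S₄` unless `p = 3`. -/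
theorem sym4_of_largeAlt (hp3 : p ≠ 3) (hM : Nat.card M = 24) (h : LargeAlt E M) :
    Nonempty (M ≃* Equiv.Perm (Fin 4)) := by
  rcases h with ⟨⟨e⟩⟩ | h | ⟨⟨e⟩⟩ | ⟨K, hKf, hKt, m, hm, ⟨⟨e⟩⟩ | ⟨⟨e⟩⟩⟩
  · have := Nat.card_congr e.toEquiv
    rw [card_alt4] at this; omega
  · exact h
  · have := Nat.card_congr e.toEquiv
    rw [card_alt5] at this; omega
  · exfalso
    have h1 := card_PSL2_mul_gcd (K := K)
    rw [← Nat.card_congr e.toEquiv, hM] at h1
    have hg : Nat.gcd 2 (Fintype.card K - 1) = 1 ∨ Nat.gcd 2 (Fintype.card K - 1) = 2 := by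
      have := Nat.gcd_le_left (Fintype.card K - 1) (by norm_num : 0 < 2)
      have : 0 < Nat.gcd 2 (Fintype.card K - 1) := Nat.gcd_pos_of_pos_left _ (by norm_num)
      omega
    rcases cube_cases (Fintype.card K) two_le_card_field with h | h | h | h | h | h
    · rcases hg with hg | hg <;> rw [hg] at h1 <;> omega
    · rw [h.1] at h1; norm_num at h1
    · rcases hg with hg | hg <;> rw [hg] at h1 <;> omega
    · rcases hg with hg | hg <;> rw [hg] at h1 <;> omega
    · rcases hg with hg | hg <;> rw [hg] at h1 <;> omega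
    · rcases hg with hg | hg <;> rw [hg] at h1 <;> omega
  · exfalso
    have h1 := card_PGL2 (K := K)
    rw [← Nat.card_congr e.toEquiv, hM] at h1
    rcases cube_cases (Fintype.card K) two_le_card_field with h | h | h | h | h | h
    · omega
    · exact hp3 (char_eq_of_card_pow (E := E) p Nat.prime_three h.1 hm)
    · omega
    · omega
    · omega
    · omega

/-- Order `48` is impossible. -/
theorem false_of_largeAlt_48 (hM : Nat.card M = 48) (h : LargeAlt E M) : False := by
  rcases h with ⟨⟨e⟩⟩ | ⟨⟨e⟩⟩ | ⟨⟨e⟩⟩ | ⟨K, hKf, hKt, m, hm, ⟨⟨e⟩⟩ | ⟨⟨e⟩⟩⟩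
  · have := Nat.card_congr e.toEquiv
    rw [card_alt4] at this; omega
  · have := Nat.card_congr e.toEquiv
    rw [card_sym4] at this; omega
  · have := Nat.card_congr e.toEquiv
    rw [card_alt5] at this; omega
  · have h1 := card_PSL2_mul_gcd (K := K)
    rw [← Nat.card_congr e.toEquiv, hM] at h1
    have hg : Nat.gcd 2 (Fintype.card K - 1) = 1 ∨ Nat.gcd 2 (Fintype.card K - 1) = 2 := by
      have := Nat.gcd_le_left (Fintype.card K - 1) (by norm_num : 0 < 2)
      have : 0 < Nat.gcd 2 (Fintype.card K - 1) := Nat.gcd_pos_of_pos_left _ (by norm_num)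
      omega
    rcases cube_cases (Fintype.card K) two_le_card_field with h | h | h | h | h | h <;>
      rcases hg with hg | hg <;> rw [hg] at h1 <;> omega
  · have h1 := card_PGL2 (K := K)
    rw [← Nat.card_congr e.toEquiv, hM] at h1
    rcases cube_cases (Fintype.card K) two_le_card_field with h | h | h | h | h | h <;> omega

/-- Order `120` is impossible unless `p = 5`. -/
theorem false_of_largeAlt_120 (hp5 : p ≠ 5) (hM : Nat.card M = 120) (h : LargeAlt E M) :
    False := by
  rcases h with ⟨⟨e⟩⟩ | ⟨⟨e⟩⟩ | ⟨⟨e⟩⟩ | ⟨K, hKf, hKt, m, hm, ⟨⟨e⟩⟩ | ⟨⟨e⟩⟩⟩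
  · have := Nat.card_congr e.toEquiv
    rw [card_alt4] at this; omega
  · have := Nat.card_congr e.toEquiv
    rw [card_sym4] at this; omega
  · have := Nat.card_congr e.toEquiv
    rw [card_alt5] at this; omega
  · have h1 := card_PSL2_mul_gcd (K := K)
    rw [← Nat.card_congr e.toEquiv, hM] at h1
    have hg : Nat.gcd 2 (Fintype.card K - 1) = 1 ∨ Nat.gcd 2 (Fintype.card K - 1) = 2 := by
      have := Nat.gcd_le_left (Fintype.card K - 1) (by norm_num : 0 < 2)
      have : 0 < Nat.gcd 2 (Fintype.card K - 1) := Nat.gcd_pos_of_pos_left _ (by norm_num)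
      omega
    rcases cube_cases (Fintype.card K) two_le_card_field with h | h | h | h | h | h
    · rcases hg with hg | hg <;> rw [hg] at h1 <;> omega
    · rcases hg with hg | hg <;> rw [hg] at h1 <;> omega
    · rw [h.1] at h1; norm_num at h1
    · rw [h.1] at h1; norm_num at h1
    · rw [h.1] at h1; norm_num at h1
    · rcases hg with hg | hg <;> rw [hg] at h1 <;> omega
  · have h1 := card_PGL2 (K := K)
    rw [← Nat.card_congr e.toEquiv, hM] at h1
    rcases cube_cases (Fintype.card K) two_le_card_field with h | h | h | h | h | h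
    · omega
    · omega
    · omega
    · exact hp5 (char_eq_of_card_pow (E := E) p Nat.prime_five h.1 hm)
    · omega
    · omega

end cases

end Cfsg.Agent.Lib.Helper13.PGL2Max
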