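/-
helper13: embedding `PGL₂(F)` in `PSL₂(E)`, `|E| = |F|²`, and the types of subgroups of `PGL₂(F)`
with a subgroup of index two of type `A₄`, `S₄`, `A₅`.
-/
import Mathlib
import Cfsg.Agent.Lib.Helper13.PGL2MaxL
import Cfsg.Agent.Lib.Helper13.PSL2Subfield
import Cfsg.Agent.Lib.Helper13.PermGens

set_option autoImplicit false

namespace Cfsg.Agent.Lib.Helper13.PGL2Max

open Subgroup Cfsg.Agent.Lib.Helper13 Cfsg.Agent.Lib.Helper13.Dk
open scoped commutatorElement

variable {F : Type*} [Field F] [Fintype F]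

/-- `PGL₂(F)` embeds in `PSL₂(E)` for the quadratic extension `E` of `F` (odd characteristic). -/
theorem exists_embedding (p : ℕ) [Fact p.Prime] [CharP F p] (hodd : Odd (Fintype.card F)) :
    ∃ (E : Type) (_ : Field E) (_ : Fintype E) (_ : CharP E p)
      (ψ : Matrix.ProjGenLinGroup (Fin 2) F →* Matrix.ProjectiveSpecialLinearGroup (Fin 2) E),
      Function.Injective ψ := by
  classical
  obtain ⟨n, -, hn⟩ := FiniteField.card F p
  let E := GaloisField p (2 * n)
  letI : Fintype E := Fintype.ofFinite E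
  have hE : Fintype.card E = p ^ (2 * (n : ℕ)) := by
    rw [← Nat.card_eq_fintype_card, GaloisField.card p (2 * n) (by positivity)]
  have hK : Fintype.card F ^ 2 = Fintype.card E := by
    rw [hE, hn, ← pow_mul, mul_comm]
  have hoddE : Odd (Fintype.card E) := by
    rw [← hK]; exact hodd.pow
  obtain ⟨S, ⟨e⟩⟩ := (subfield_subgroups (F := E) (K := F) hoddE 2 (by norm_num) hK).2.mpr
    (by decide)
  exact ⟨E, inferInstance, inferInstance, inferInstance,
    S.subtype.comp e.symm.toMonoidHom, S.subtype_injective.comp e.symm.injective⟩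

section types

variable (p : ℕ) [Fact p.Prime] [CharP F p] (hodd : Odd (Fintype.card F))
  (M N : Subgroup (Matrix.ProjGenLinGroup (Fin 2) F)) (hNM : N ≤ M)

include hodd hNM in
theorem exists_largeAlt (hp2 : p ≠ 2) {T : Type*} [Group T] (f : N ≃* T) (b : ℕ)
    (hb : 2 * b < Nat.card N) (hord : ∀ t : T, orderOf t ≤ b) (x y : T)
    (hxy : orderOf ⁅x, y⁆ = 2) :
    ∃ (E : Type) (_ : Field E) (_ : Fintype E) (_ : CharP E p)
      (M' : Subgroup (Matrix.ProjectiveSpecialLinearGroup (Fin 2) E)),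
      Nonempty (M ≃* M') ∧ LargeAlt E M' := by
  obtain ⟨E, fE, ftE, cE, ψ, hψ⟩ := exists_embedding (F := F) p hodd
  refine ⟨E, fE, ftE, cE, M.map ψ, ⟨Subgroup.equivMapOfInjective M ψ hψ⟩, ?_⟩
  have hle : N.map ψ ≤ M.map ψ := Subgroup.map_mono hNM
  have f' : N.map ψ ≃* T := (Subgroup.equivMapOfInjective N ψ hψ).symm.trans f
  have hc : Nat.card (N.map ψ) = Nat.card N := Subgroup.card_map_of_injective hψ
  exact largeAlt_of_sub p hp2 (M.map ψ) (N.map ψ) hle f' b (by rw [hc]; exact hb) hord x y hxy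

theorem comm_a4 : orderOf ⁅PermGens.a4b, PermGens.a4a⁆ = 2 := by
  rw [← Subgroup.orderOf_coe]
  exact orderOf_eq_prime (p := 2) (by decide) (by decide)

include hodd hNM in
/-- `N ≅ A₄` of index two: `M ≅ S₄` (if `p ≠ 3`). -/
theorem sym4_of_alt4 (hp2 : p ≠ 2) (hp3 : p ≠ 3) (f : N ≃* alternatingGroup (Fin 4))
    (hM : Nat.card M = 2 * Nat.card N) : Nonempty (M ≃* Equiv.Perm (Fin 4)) := by
  have hN : Nat.card N = 12 := by rw [Nat.card_congr f.toEquiv, card_alt4]
  obtain ⟨E, fE, ftE, cE, M', ⟨g⟩, hL⟩ := exists_largeAlt p hodd M N hNM hp2 f 3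
    (by rw [hN]; norm_num) a4_orderOf_le PermGens.a4b PermGens.a4a comm_a4
  have hM' : Nat.card M' = 24 := by rw [← Nat.card_congr g.toEquiv, hM, hN]
  obtain ⟨e⟩ := sym4_of_largeAlt p M' hp3 hM' hL
  exact ⟨g.trans e⟩

theorem comm_s4 : orderOf ⁅PermGens.s4b', PermGens.s4a'⁆ = 2 :=
  orderOf_eq_prime (p := 2) (by decide) (by decide)

include hodd hNM in
/-- `N ≅ S₄` of index two is impossible. -/
theorem false_of_sym4 (hp2 : p ≠ 2) (f : N ≃* Equiv.Perm (Fin 4))
    (hM : Nat.card M = 2 * Nat.card N) : False := by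
  have hN : Nat.card N = 24 := by rw [Nat.card_congr f.toEquiv, card_sym4]
  obtain ⟨E, fE, ftE, cE, M', ⟨g⟩, hL⟩ := exists_largeAlt p hodd M N hNM hp2 f 4
    (by rw [hN]; norm_num) s4_orderOf_le PermGens.s4b' PermGens.s4a' comm_s4
  have hM' : Nat.card M' = 48 := by rw [← Nat.card_congr g.toEquiv, hM, hN]
  exact false_of_largeAlt_48 M' hM' hL

theorem comm_a5 : orderOf ⁅PermGens.a5b', PermGens.a5a'⁆ = 2 := by
  rw [← Subgroup.orderOf_coe]
  exact orderOf_eq_prime (p := 2) (by decide) (by decide)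

include hodd hNM in
/-- `N ≅ A₅` of index two is impossible (if `p ≠ 5`). -/
theorem false_of_alt5 (hp2 : p ≠ 2) (hp5 : p ≠ 5) (f : N ≃* alternatingGroup (Fin 5))
    (hM : Nat.card M = 2 * Nat.card N) : False := by
  have hN : Nat.card N = 60 := by rw [Nat.card_congr f.toEquiv, card_alt5]
  obtain ⟨E, fE, ftE, cE, M', ⟨g⟩, hL⟩ := exists_largeAlt p hodd M N hNM hp2 f 5
    (by rw [hN]; norm_num) a5_orderOf_le PermGens.a5b' PermGens.a5a' comm_a5
  have hM' : Nat.card M' = 120 := by rw [← Nat.card_congr g.toEquiv, hM, hN]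
  exact false_of_largeAlt_120 p M' hp5 hM' hL

end types

end Cfsg.Agent.Lib.Helper13.PGL2Max
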