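/-
helper13: maximal subgroups of `PGL₂(F)` not containing the image of `SL₂(F)`: the exceptional
types `A₄`, `S₄`, `A₅` of `M ∩ L`.
-/
import Mathlib
import Cfsg.Agent.Lib.Helper13.PGL2MaxM
import Cfsg.Agent.Lib.Helper13.PGL2MaxJ
import Cfsg.Agent.Lib.Helper13.CoatomSub

set_option autoImplicit false

namespace Cfsg.Agent.Lib.Helper13.PGL2Max

open Matrix Subgroup Cfsg.Agent.Lib.Helper13 Cfsg.Agent.Lib.Helper13.Dk
  Cfsg.Agent.Lib.Helper13.PSL2MaxOdd

variable {F : Type*} [Field F] [Fintype F]

omit [Fintype F] in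
theorem card_center_of_le [Finite F] (h2 : (2 : F) ≠ 0) (H : Subgroup (SpecialLinearGroup (Fin 2) F))
    (hle : center (SpecialLinearGroup (Fin 2) F) ≤ H) (hna : ∃ x y : H, x * y ≠ y * x) :
    Nat.card (center H) = 2 := by
  have heq : center H = (center (SpecialLinearGroup (Fin 2) F)).subgroupOf H := by
    ext g
    rw [(subEmb H).mem_center_iff_sc hna, (subEmb H).sc_iff_mem_center, Subgroup.mem_subgroupOf]
    rfl
  rw [heq, Nat.card_congr (Subgroup.subgroupOfEquivOfLe hle).toEquiv, card_center_SL2 h2]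

theorem center_le_comap_piP (M : Subgroup (Matrix.ProjGenLinGroup (Fin 2) F)) :
    center (SpecialLinearGroup (Fin 2) F) ≤ M.comap (piP F) := by
  intro z hz
  rw [← Matrix.SpecialLinearGroup.toPGL_ker] at hz
  change (piP F) z ∈ M
  rw [show (piP F) z = 1 from hz]
  exact M.one_mem

theorem card_center_comap_piP (h2 : (2 : F) ≠ 0)
    (M : Subgroup (Matrix.ProjGenLinGroup (Fin 2) F))
    (hna : ∃ x y : M.comap (piP F), x * y ≠ y * x) :
    Nat.card (center (M.comap (piP F))) = 2 :=
  card_center_of_le h2 _ (center_le_comap_piP M) hna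

section setup

variable (M : Subgroup (Matrix.ProjGenLinGroup (Fin 2) F))

/-- The projection `H → M ∩ L`. -/
noncomputable abbrev prH : M.comap (piP F) →* (M.comap (piP F)).map (piP F) :=
  (piP F).subgroupMap (M.comap (piP F))

theorem prH_surjective : Function.Surjective (prH M) :=
  (piP F).subgroupMap_surjective _

theorem map_comap_le' : (M.comap (piP F)).map (piP F) ≤ M := Subgroup.map_comap_le _ _

variable (hM : IsCoatom M) (hML : ¬ (piP F).range ≤ M) (hodd : Odd (Fintype.card F))

include hM hML in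
theorem ker_prH (hna : ∃ x y : M.comap (piP F), x * y ≠ y * x) :
    (prH M).ker = center (M.comap (piP F)) := by
  have h := glMax_comap M hM hML
  ext g
  rw [MonoidHom.mem_ker, (subEmb (M.comap (piP F))).mem_center_iff_sc hna,
    (subEmb (M.comap (piP F))).sc_iff_mem_center, ← Matrix.SpecialLinearGroup.toPGL_ker,
    MonoidHom.mem_ker]
  constructor
  · intro hg
    exact congrArg Subtype.val hg
  · intro hg
    exact Subtype.ext hg

include hM hML hodd in
theorem card_eq_two_mul_map :
    Nat.card M = 2 * Nat.card ((M.comap (piP F)).map (piP F)) := by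
  rw [card_eq_two_mul_inf M hM hML hodd, Subgroup.map_comap_eq]

include hM hML hodd in
/-- Type `2.A₄`: `M ≅ S₄`. -/
theorem sym4_of_small (p : ℕ) [Fact p.Prime] [CharP F p] (hna : ∃ x y : M.comap (piP F), x * y ≠ y * x)
    (hss : ∀ y : M.comap (piP F), ¬ Emb.sc ((subEmb (M.comap (piP F))).m y) →
      (subEmb (M.comap (piP F))).tr y ^ 2 ≠ 4)
    (hs : Small (M.comap (piP F)) 12 3) : Nonempty (M ≃* Equiv.Perm (Fin 4)) := by
  have hp2 : p ≠ 2 := p_ne_two (F := F) p hodd
  have h := glMax_comap M hM hML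
  have h2 : (2 : F) ≠ 0 := two_ne_zero_of_odd hodd
  have hZ := ker_prH M hM hML hna
  obtain ⟨f⟩ := alt4_of_small (prH M) (prH_surjective M) hZ hs
  have hnd : ¬ p ∣ Nat.card (M.comap (piP F)) := PairNF.not_dvd_of_hss p hp2 _ hss
  have hc2 : Nat.card (center (M.comap (piP F))) = 2 := card_center_comap_piP h2 M hna
  have hcard : Nat.card (M.comap (piP F)) = 24 := by
    rw [hs.1, hc2]
  have hp3 : p ≠ 3 := by
    rintro rfl
    apply hnd
    rw [hcard]; norm_num
  exact sym4_of_alt4 p hodd M _ (map_comap_le' M) hp2 hp3 f (card_eq_two_mul_map M hM hML hodd)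

include hM hML hodd in
/-- Type `2.S₄` is impossible. -/
theorem false_of_small24 (p : ℕ) [Fact p.Prime] [CharP F p] (hna : ∃ x y : M.comap (piP F), x * y ≠ y * x)
    (hs : Small (M.comap (piP F)) 24 4) : False := by
  have hp2 : p ≠ 2 := p_ne_two (F := F) p hodd
  have hZ := ker_prH M hM hML hna
  obtain ⟨f⟩ := Dk.sym4_of_small (prH M) (prH_surjective M) hZ hs
  exact false_of_sym4 p hodd M _ (map_comap_le' M) hp2 f (card_eq_two_mul_map M hM hML hodd)

include hM hML hodd in
/-- Type `2.A₅` is impossible. -/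
theorem false_of_small60 (p : ℕ) [Fact p.Prime] [CharP F p] (hna : ∃ x y : M.comap (piP F), x * y ≠ y * x)
    (hs : Small (M.comap (piP F)) 60 5) (h5 : HasFive (M.comap (piP F))) (hp5 : p ≠ 5) :
    False := by
  have hp2 : p ≠ 2 := p_ne_two (F := F) p hodd
  have hZ := ker_prH M hM hML hna
  obtain ⟨f⟩ := alt5_of_small (prH M) (prH_surjective M) hZ hs h5
  exact false_of_alt5 p hodd M _ (map_comap_le' M) hp2 hp5 f (card_eq_two_mul_map M hM hML hodd)

end setup

end Cfsg.Agent.Lib.Helper13.PGL2Max
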