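/-
helper13: elements of order four of `PGL₂(F)` lie in the image of `SL₂(F)` when `2` is a square;
consequence for maximal subgroups of type `S₄`.
-/
import Mathlib
import Cfsg.Agent.Lib.Helper13.PGL2MaxN
import Cfsg.Agent.Lib.Helper13.PGL2MaxD

set_option autoImplicit false

namespace Cfsg.Agent.Lib.Helper13.PGL2Max

open Matrix Subgroup Cfsg.Agent.Lib.Helper13 Cfsg.Agent.Lib.Helper13.Dk
  Cfsg.Agent.Lib.Helper13.PSL2MaxOdd

variable {F : Type*} [Field F]

theorem trace_sq_of_order_four (A : Matrix (Fin 2) (Fin 2) F)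
    (hns : ∀ c : F, A * A ≠ c • 1) (lam : F) (h4 : A * A * (A * A) = lam • 1) :
    A.trace ^ 2 = 2 * A.det := by
  obtain ⟨x, y, z, w, rfl⟩ : ∃ x y z w : F, A = !![x, y; z, w] :=
    ⟨A 0 0, A 0 1, A 1 0, A 1 1, Matrix.eta_fin_two A⟩
  rw [Matrix.trace_fin_two_of, Matrix.det_fin_two_of]
  have e00 := congrFun (congrFun h4 0) 0
  have e01 := congrFun (congrFun h4 0) 1
  have e10 := congrFun (congrFun h4 1) 0
  have e11 := congrFun (congrFun h4 1) 1
  simp only [Matrix.mul_apply, Fin.sum_univ_two, Matrix.of_apply, Matrix.cons_val',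
    Matrix.cons_val_zero, Matrix.cons_val_one, Matrix.cons_val_fin_one, Matrix.smul_apply,
    Matrix.one_apply_eq, Matrix.one_apply_ne, ne_eq, zero_ne_one, one_ne_zero,
    not_false_eq_true, smul_eq_mul, mul_one, mul_zero] at e00 e01 e10 e11
  by_contra hT
  have hT2 : x ^ 2 + w ^ 2 + 2 * (y * z) ≠ 0 := by
    intro h0
    apply hT
    linear_combination h0
  have h01 : y * (x + w) = 0 := by
    have : y * (x + w) * (x ^ 2 + w ^ 2 + 2 * (y * z)) = 0 := by linear_combination e01
    exact (mul_eq_zero.mp this).resolve_right hT2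
  have h10 : z * (x + w) = 0 := by
    have : z * (x + w) * (x ^ 2 + w ^ 2 + 2 * (y * z)) = 0 := by linear_combination e10
    exact (mul_eq_zero.mp this).resolve_right hT2
  have hd : x ^ 2 - w ^ 2 = 0 := by
    have : (x ^ 2 - w ^ 2) * (x ^ 2 + w ^ 2 + 2 * (y * z)) = 0 := by
      linear_combination e00 - e11
    exact (mul_eq_zero.mp this).resolve_right hT2
  apply hns (x ^ 2 + y * z)
  ext i j
  fin_cases i <;> fin_cases j <;>
    simp [Matrix.mul_apply, Fin.sum_univ_two]
  · ring
  · linear_combination h01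
  · linear_combination h10
  · linear_combination -hd

/-- If `2` is a square in `F`, every element of order `4` of `PGL₂(F)` lies in the image of
`SL₂(F)`. -/
theorem mem_range_of_orderOf_four (h2 : (2 : F) ≠ 0) (c : F) (hc : c ^ 2 = 2)
    (x : Matrix.ProjGenLinGroup (Fin 2) F) (hx : orderOf x = 4) : x ∈ (piP F).range := by
  obtain ⟨g, rfl⟩ := Matrix.ProjGenLinGroup.mk_surjective x
  set A : Matrix (Fin 2) (Fin 2) F := (g : Matrix (Fin 2) (Fin 2) F) with hA
  have hdet : A.det ≠ 0 := by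
    have := g.isUnit
    rw [Matrix.isUnit_iff_isUnit_det] at this
    exact this.ne_zero
  have h4 : (Matrix.ProjGenLinGroup.mk g) ^ 4 = 1 := by rw [← hx]; exact pow_orderOf_eq_one _
  have h2' : (Matrix.ProjGenLinGroup.mk g) ^ 2 ≠ 1 := by
    intro h
    have := orderOf_dvd_of_pow_eq_one h
    rw [hx] at this
    norm_num at this
  rw [← map_pow, Matrix.ProjGenLinGroup.mk_eq_one, mem_center_GL_iff] at h4
  rw [← map_pow, Ne, Matrix.ProjGenLinGroup.mk_eq_one, mem_center_GL_iff] at h2'
  obtain ⟨lam, hlam⟩ := h4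
  have hns : ∀ c : F, A * A ≠ c • 1 := by
    intro c' hc'
    apply h2'
    refine ⟨c', ?_⟩
    rw [Units.val_pow_eq_pow_val, pow_two]
    exact hc'
  have h4' : A * A * (A * A) = lam • 1 := by
    rw [← hlam, Units.val_pow_eq_pow_val, ← hA]
    simp only [pow_succ, pow_zero, one_mul, Matrix.mul_assoc]
  have htr := trace_sq_of_order_four A hns lam h4'
  have ht0 : A.trace ≠ 0 := by
    intro h0
    rw [h0] at htr
    have : (2 : F) * A.det = 0 := by rw [← htr]; ring
    rcases mul_eq_zero.mp this with h | h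
    · exact h2 h
    · exact hdet h
  have hc0 : c ≠ 0 := by
    rintro rfl
    apply h2
    rw [← hc]; ring
  have hsdet : ((c / A.trace) • A).det = 1 := by
    rw [Matrix.det_smul, Fintype.card_fin]
    field_simp
    rw [hc, htr]
  refine ⟨⟨(c / A.trace) • A, hsdet⟩, ?_⟩
  change Matrix.ProjGenLinGroup.mk (SpecialLinearGroup.toGL ⟨(c / A.trace) • A, hsdet⟩) = _
  rw [Matrix.ProjGenLinGroup.mk_eq_mk_iff]
  refine ⟨Units.mk0 (A.trace / c) (div_ne_zero ht0 hc0), ?_⟩
  apply Units.ext
  rw [Units.val_mul, Matrix.GeneralLinearGroup.coe_scalar]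
  change ((c / A.trace) • A) * Matrix.scalar (Fin 2) (A.trace / c) = A
  ext i j
  simp [Matrix.mul_apply, Matrix.scalar_apply, Matrix.diagonal_apply, Fin.sum_univ_two]
  fin_cases i <;> fin_cases j <;> simp <;> field_simp

theorem orderOf_finRotate_four : orderOf (finRotate 4) = 4 := by
  have := orderOf_eq_prime_pow (x := finRotate 4) (p := 2) (n := 1) (by decide) (by decide)
  simpa using this

/-- If `M ≅ S₄` and `M ∩ L ≅ A₄`, then `2` is a non-square: `q ≡ ±3 (mod 8)`. -/
theorem mod_eight_of_sym4 [Fintype F] (h2 : (2 : F) ≠ 0)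
    (M : Subgroup (Matrix.ProjGenLinGroup (Fin 2) F))
    (f : (M.comap (piP F)).map (piP F) ≃* alternatingGroup (Fin 4))
    (e : M ≃* Equiv.Perm (Fin 4)) :
    Fintype.card F % 8 = 3 ∨ Fintype.card F % 8 = 5 := by
  by_contra hcon
  push Not at hcon
  obtain ⟨c, hc⟩ := FiniteField.isSquare_two_iff.mpr hcon
  set m : M := e.symm (finRotate 4) with hm
  have hom : orderOf m = 4 := by
    rw [hm, MulEquiv.orderOf_eq]; exact orderOf_finRotate_four
  have hom' : orderOf (m : Matrix.ProjGenLinGroup (Fin 2) F) = 4 := by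
    rw [Subgroup.orderOf_coe]; exact hom
  have hr := mem_range_of_orderOf_four h2 c (by rw [pow_two]; exact hc.symm) _ hom'
  have hmem : (m : Matrix.ProjGenLinGroup (Fin 2) F) ∈ (M.comap (piP F)).map (piP F) := by
    rw [Subgroup.map_comap_eq]
    exact ⟨hr, m.2⟩
  have h3 := a4_orderOf_le (f ⟨_, hmem⟩)
  rw [MulEquiv.orderOf_eq, Subgroup.orderOf_mk, hom'] at h3
  omega

end Cfsg.Agent.Lib.Helper13.PGL2Max
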