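/-
helper13: maximal subgroups of `PGL₂(F)` not containing the image of `SL₂(F)`: rationality over
a subfield via a quaternion pair.
-/
import Mathlib
import Cfsg.Agent.Lib.Helper13.PGL2MaxI

set_option autoImplicit false

namespace Cfsg.Agent.Lib.Helper13.PGL2Max

open Matrix Subgroup Cfsg.Agent.Lib.Helper13 Cfsg.Agent.Lib.Helper13.Dk
  Cfsg.Agent.Lib.Helper13.PSL2MaxOdd

variable {F : Type*} [Field F]

/-- All entries lie in the subfield. -/
def IsRat (K₀ : Subfield F) (X : Matrix (Fin 2) (Fin 2) F) : Prop := ∀ i j, X i j ∈ K₀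

namespace IsRat

variable {K₀ : Subfield F} {X Y : Matrix (Fin 2) (Fin 2) F}

theorem one : IsRat K₀ (1 : Matrix (Fin 2) (Fin 2) F) := by
  intro i j
  rw [Matrix.one_apply]
  split_ifs
  · exact K₀.one_mem
  · exact K₀.zero_mem

theorem add (hX : IsRat K₀ X) (hY : IsRat K₀ Y) : IsRat K₀ (X + Y) := fun i j => by
  rw [Matrix.add_apply]; exact K₀.add_mem (hX i j) (hY i j)

theorem sub (hX : IsRat K₀ X) (hY : IsRat K₀ Y) : IsRat K₀ (X - Y) := fun i j => by
  rw [Matrix.sub_apply]; exact K₀.sub_mem (hX i j) (hY i j)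

theorem smul {c : F} (hc : c ∈ K₀) (hX : IsRat K₀ X) : IsRat K₀ (c • X) := fun i j => by
  rw [Matrix.smul_apply, smul_eq_mul]; exact K₀.mul_mem hc (hX i j)

theorem mul (hX : IsRat K₀ X) (hY : IsRat K₀ Y) : IsRat K₀ (X * Y) := fun i j => by
  rw [Matrix.mul_apply, Fin.sum_univ_two]
  exact K₀.add_mem (K₀.mul_mem (hX _ _) (hY _ _)) (K₀.mul_mem (hX _ _) (hY _ _))

end IsRat

/-- Elements of `SL₂(F)` with entries in `K₀`. -/
def ratSL (K₀ : Subfield F) : Subgroup (SpecialLinearGroup (Fin 2) F) where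
  carrier := {A | IsRat K₀ (A : Matrix (Fin 2) (Fin 2) F)}
  one_mem' := by
    change IsRat K₀ ((1 : SpecialLinearGroup (Fin 2) F) : Matrix (Fin 2) (Fin 2) F)
    rw [Matrix.SpecialLinearGroup.coe_one]
    exact IsRat.one
  mul_mem' := by
    intro A B hA hB
    change IsRat K₀ ((A * B : SpecialLinearGroup (Fin 2) F) : Matrix (Fin 2) (Fin 2) F)
    rw [Matrix.SpecialLinearGroup.coe_mul]
    exact IsRat.mul hA hB
  inv_mem' := by
    intro A hA
    change IsRat K₀ ((A⁻¹ : SpecialLinearGroup (Fin 2) F) : Matrix (Fin 2) (Fin 2) F)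
    rw [Matrix.SpecialLinearGroup.coe_inv, Matrix.adjugate_fin_two]
    intro i j
    fin_cases i <;> fin_cases j
    · simpa using hA 1 1
    · have := K₀.neg_mem (hA 0 1)
      simpa using this
    · have := K₀.neg_mem (hA 1 0)
      simpa using this
    · simpa using hA 0 0

theorem mem_ratSL (K₀ : Subfield F) (A : SpecialLinearGroup (Fin 2) F) :
    A ∈ ratSL K₀ ↔ IsRat K₀ (A : Matrix (Fin 2) (Fin 2) F) := Iff.rfl

theorem quat_sum1 (s t : F) (hst : s ^ 2 + t ^ 2 = -1) :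
    (!![0, -1; 1, 0] + t • !![s, t; t, -s] +
      s • (!![0, -1; 1, 0] * !![s, t; t, -s]) : Matrix (Fin 2) (Fin 2) F) = !![0, -2; 0, 0] := by
  ext i j
  fin_cases i <;> fin_cases j <;> simp
  · ring
  · linear_combination hst
  · linear_combination hst
  · ring

theorem quat_sum2 (s t : F) (hst : s ^ 2 + t ^ 2 = -1) :
    (!![0, -1; 1, 0] - (t • !![s, t; t, -s] +
      s • (!![0, -1; 1, 0] * !![s, t; t, -s])) : Matrix (Fin 2) (Fin 2) F) = !![0, 0; 2, 0] := by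
  ext i j
  fin_cases i <;> fin_cases j <;> simp
  · ring
  · linear_combination -hst
  · linear_combination -hst
  · ring

theorem quat_id1 (s t : F) (h2 : (2 : F) ≠ 0) (hst : s ^ 2 + t ^ 2 = -1) :
    (1 : Matrix (Fin 2) (Fin 2) F) - (2⁻¹ : F) • (!![0, -1; 1, 0] + t • !![s, t; t, -s] +
      s • (!![0, -1; 1, 0] * !![s, t; t, -s])) = !![1, 1; 0, 1] := by
  rw [quat_sum1 s t hst]
  ext i j
  fin_cases i <;> fin_cases j <;> simp [h2]

theorem quat_id2 (s t : F) (h2 : (2 : F) ≠ 0) (hst : s ^ 2 + t ^ 2 = -1) :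
    (1 : Matrix (Fin 2) (Fin 2) F) + (2⁻¹ : F) • (!![0, -1; 1, 0] - (t • !![s, t; t, -s] +
      s • (!![0, -1; 1, 0] * !![s, t; t, -s]))) = !![1, 0; 1, 1] := by
  rw [quat_sum2 s t hst]
  ext i j
  fin_cases i <;> fin_cases j <;> simp [h2]

section

variable (P : Matrix (Fin 2) (Fin 2) F) (hP : P.det ≠ 0) (Θ : Tw F)
  (hΘ : ∀ A : SpecialLinearGroup (Fin 2) F, P * (A : Matrix (Fin 2) (Fin 2) F) =
    ((Θ.hom A : SpecialLinearGroup (Fin 2) F) : Matrix (Fin 2) (Fin 2) F) * P)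
  (K₀ : Subfield F) {𝔐 : Subgroup (GL (Fin 2) F)} (h : GLMax 𝔐)

include h hΘ in
/-- If `Θ(H)` is rational over `K₀` and contains a standard quaternion pair, then `𝔐` lies in the
overgroup defined over `K₀`. -/
theorem le_ovGL_quat (h2 : (2 : F) ≠ 0) (a b : SpecialLinearGroup (Fin 2) F)
    (ha : a ∈ 𝔐.comap SpecialLinearGroup.toGL) (hb : b ∈ 𝔐.comap SpecialLinearGroup.toGL)
    (s t : F) (hs : s ∈ K₀) (ht : t ∈ K₀) (hst : s ^ 2 + t ^ 2 = -1)
    (hΘa : ((Θ.hom a : SpecialLinearGroup (Fin 2) F) : Matrix (Fin 2) (Fin 2) F) =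
      !![0, -1; 1, 0])
    (hΘb : ((Θ.hom b : SpecialLinearGroup (Fin 2) F) : Matrix (Fin 2) (Fin 2) F) =
      !![s, t; t, -s])
    (hrat : ∀ g ∈ 𝔐.comap SpecialLinearGroup.toGL,
      IsRat K₀ ((Θ.hom g : SpecialLinearGroup (Fin 2) F) : Matrix (Fin 2) (Fin 2) F)) :
    𝔐 ≤ ovGL P hP K₀ := by
  intro m hm
  rw [mem_ovGL, mem_subfieldGL]
  have hdet : ((cj P hP m : GL (Fin 2) F) : Matrix (Fin 2) (Fin 2) F).det ≠ 0 := by
    have := (cj P hP m).isUnit
    rw [Matrix.isUnit_iff_isUnit_det] at this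
    exact this.ne_zero
  set m' : Matrix (Fin 2) (Fin 2) F := ((cj P hP m : GL (Fin 2) F) : Matrix (Fin 2) (Fin 2) F)
    with hm'
  set a'' : Matrix (Fin 2) (Fin 2) F :=
    ((Θ.hom (conjSL m a) : SpecialLinearGroup (Fin 2) F) : Matrix (Fin 2) (Fin 2) F) with ha''
  set b'' : Matrix (Fin 2) (Fin 2) F :=
    ((Θ.hom (conjSL m b) : SpecialLinearGroup (Fin 2) F) : Matrix (Fin 2) (Fin 2) F) with hb''
  have ra : IsRat K₀ a'' := hrat _ (h.conj_mem hm ha)
  have rb : IsRat K₀ b'' := hrat _ (h.conj_mem hm hb)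
  have ca : a'' * m' = m' * !![0, -1; 1, 0] := by
    have := cj_conjSL P hP Θ hΘ m a
    rw [hΘa] at this
    exact this
  have cb : b'' * m' = m' * !![s, t; t, -s] := by
    have := cj_conjSL P hP Θ hΘ m b
    rw [hΘb] at this
    exact this
  have cab : a'' * b'' * m' = m' * (!![0, -1; 1, 0] * !![s, t; t, -s]) := by
    rw [Matrix.mul_assoc, cb, ← Matrix.mul_assoc, ca, Matrix.mul_assoc]
  have two_mem : (2 : F) ∈ K₀ := by
    rw [← one_add_one_eq_two]; exact K₀.add_mem K₀.one_mem K₀.one_mem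
  have half_mem : (2⁻¹ : F) ∈ K₀ := K₀.inv_mem two_mem
  set Y₁ : Matrix (Fin 2) (Fin 2) F := 1 - (2⁻¹ : F) • (a'' + t • b'' + s • (a'' * b'')) with hY₁
  set Y₂ : Matrix (Fin 2) (Fin 2) F := 1 + (2⁻¹ : F) • (a'' - (t • b'' + s • (a'' * b''))) with hY₂
  have rY₁ : IsRat K₀ Y₁ :=
    IsRat.one.sub (IsRat.smul half_mem ((ra.add (IsRat.smul ht rb)).add
      (IsRat.smul hs (ra.mul rb))))
  have rY₂ : IsRat K₀ Y₂ :=
    IsRat.one.add (IsRat.smul half_mem (ra.sub ((IsRat.smul ht rb).add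
      (IsRat.smul hs (ra.mul rb)))))
  have e1 : Y₁ * m' = m' * !![1, 1; 0, 1] := by
    rw [← quat_id1 s t h2 hst, hY₁]
    simp only [Matrix.sub_mul, Matrix.mul_sub, Matrix.add_mul, Matrix.mul_add, Matrix.smul_mul,
      Matrix.mul_smul, Matrix.one_mul, Matrix.mul_one]
    rw [ca, cb, cab]
  have e2 : Y₂ * m' = m' * !![1, 0; 1, 1] := by
    rw [← quat_id2 s t h2 hst, hY₂]
    simp only [Matrix.sub_mul, Matrix.mul_sub, Matrix.add_mul, Matrix.mul_add, Matrix.smul_mul,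
      Matrix.mul_smul, Matrix.one_mul, Matrix.mul_one]
    rw [ca, cb, cab]
  exact scalar_rational_of_conj K₀ m' Y₁ Y₂ hdet 1 K₀.one_mem one_ne_zero rY₁ rY₂ e1 e2

end

end Cfsg.Agent.Lib.Helper13.PGL2Max
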