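/-
helper13: maximal subgroups of `PGL₂(F)` not containing the image of `SL₂(F)`: type `2.A₄` forces
the prime field.
-/
import Mathlib
import Cfsg.Agent.Lib.Helper13.PGL2MaxP
import Cfsg.Agent.Lib.Helper13.PGL2MaxN
import Cfsg.Agent.Lib.Helper13.CoatomTypes

set_option autoImplicit false

namespace Cfsg.Agent.Lib.Helper13.PGL2Max

open Matrix Subgroup Cfsg.Agent.Lib.Helper13 Cfsg.Agent.Lib.Helper13.Dk
  Cfsg.Agent.Lib.Helper13.PSL2MaxOdd Cfsg.Agent.Lib.Helper13.PermGens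

variable {F : Type*} [Field F] [Fintype F]

/-- The conjugate `B₀ a' B₀⁻¹` of the standard element of order four. -/
theorem conj_cmp_aux (B₀ : Matrix (Fin 2) (Fin 2) F) (h1 : B₀.trace = -1)
    (h2 : (PairNF.cmp 1 * B₀).trace = -1) (h3 : B₀.det = 1) :
    B₀ * !![0, -1; 1, 0] * B₀.adjugate =
      !![B₀ 0 1 * B₀ 1 1 + B₀ 0 0 * B₀ 1 0, B₀ 1 1 ^ 2 + B₀ 1 0 ^ 2;
        B₀ 1 1 ^ 2 + B₀ 1 0 ^ 2, -(B₀ 0 1 * B₀ 1 1 + B₀ 0 0 * B₀ 1 0)] := by
  rw [Matrix.trace_fin_two] at h1 h2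
  rw [Matrix.det_fin_two] at h3
  simp only [PairNF.cmp, Matrix.mul_apply, Fin.sum_univ_two, Matrix.of_apply, Matrix.cons_val',
    Matrix.cons_val_zero, Matrix.cons_val_one, Matrix.cons_val_fin_one] at h2
  rw [Matrix.adjugate_fin_two]
  ext i j
  fin_cases i <;> fin_cases j <;> simp [Matrix.mul_apply, Fin.sum_univ_two]
  all_goals first
    | ring1
    | linear_combination (-(B₀ 0 0 + B₀ 1 1 - 1)) * h1 + (-(B₀ 0 1 - B₀ 1 0 - 1)) * h2 + 2 * h3

set_option maxHeartbeats 1600000 in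
/-- Type `2.A₄`: the field is the prime field. -/
theorem prime_of_small12 (hodd : Odd (Fintype.card F))
    (M : Subgroup (Matrix.ProjGenLinGroup (Fin 2) F)) (hM : IsCoatom M)
    (hML : ¬ (piP F).range ≤ M) (p : ℕ) [Fact p.Prime] [CharP F p]
    (hna : ∃ x y : M.comap (piP F), x * y ≠ y * x)
    (hss : ∀ y : M.comap (piP F), ¬ Emb.sc ((subEmb (M.comap (piP F))).m y) →
      (subEmb (M.comap (piP F))).tr y ^ 2 ≠ 4)
    (hs : Small (M.comap (piP F)) 12 3) : Fintype.card F = p := by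
  classical
  have h2 : (2 : F) ≠ 0 := two_ne_zero_of_odd hodd
  have h := glMax_comap M hM hML
  have hZ := ker_prH M hM hML hna
  obtain ⟨e⟩ := alt4_of_small (prH M) (prH_surjective M) hZ hs
  have hker : ∀ g : M.comap (piP F), prH M g = 1 ↔ Emb.sc (PairNF.mt (M.comap (piP F)) g) := by
    intro g
    rw [← MonoidHom.mem_ker, hZ, (subEmb (M.comap (piP F))).mem_center_iff_sc hna]
    rfl
  obtain ⟨A, B, hfA, hfB, hA, hB, hAB⟩ := PairNF.exists_pair_333 h2 (prH_surjective M) hker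
    (e.symm a4a) (e.symm a4b)
    (PairNF.symm_pow_eq_one e _ 2 a4a_sq) (PairNF.symm_ne_one e _ a4a_ne)
    (PairNF.symm_pow_eq_one e _ 3 a4b_cube) (PairNF.symm_ne_one e _ a4b_ne)
    (by rw [← map_mul]; exact PairNF.symm_pow_eq_one e _ 3 a4ab_cube)
    (by rw [← map_mul]; exact PairNF.symm_ne_one e _ a4ab_ne)
  have hgen : Subgroup.closure {A, B} = ⊤ := by
    apply PairNF.closure_eq_top_of_map hker A B hA
    rw [hfA, hfB]
    exact PairNF.closure_symm_pair e _ _ a4_closure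
  have hgen' := PairNF.closure_coe_eq A B hgen
  set A₁ : SpecialLinearGroup (Fin 2) F := (A : SpecialLinearGroup (Fin 2) F) with hA₁
  set B₁ : SpecialLinearGroup (Fin 2) F := (B : SpecialLinearGroup (Fin 2) F) with hB₁
  set Am : Matrix (Fin 2) (Fin 2) F := (A₁ : Matrix (Fin 2) (Fin 2) F) with hAm
  set Bm : Matrix (Fin 2) (Fin 2) F := (B₁ : Matrix (Fin 2) (Fin 2) F) with hBm
  have hAt : Am.trace = 0 := PairNF.trace_eq_zero_of_mt_sq A hA
  have hBt : Bm.trace = -1 := hB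
  have hABt : (Am * Bm).trace = -1 := by
    have : Am * Bm = PairNF.mt (M.comap (piP F)) (A * B) := (PairNF.mt_mul _ A B).symm
    rw [this]; exact hAB
  have hAd : Am.det = 1 := A₁.2
  have hBd : Bm.det = 1 := B₁.2
  have one_mem : (1 : F) ∈ (⊥ : Subfield F) := Subfield.one_mem _
  have neg_one_mem : (-1 : F) ∈ (⊥ : Subfield F) := Subfield.neg_mem _ one_mem
  obtain ⟨B₀, hB₀m, hB₀t, hB₀t2, hB₀d⟩ := PairNF.exists_rational h2 (⊥ : Subfield F) 1 (-1) (-1) 1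
    one_mem one_ne_zero neg_one_mem neg_one_mem one_mem
  obtain ⟨P, hP, hPA, hPB⟩ := PairNF.exists_conj_pair h2 Am (PairNF.cmp 1) Bm B₀ hAt
    (PairNF.cmp_trace 1) (by rw [hAd, PairNF.cmp_det]) (by rw [hAd]; exact one_ne_zero)
    (hBt.trans hB₀t.symm) (hABt.trans hB₀t2.symm) (by rw [hBd, hB₀d])
    (by
      rw [hAd, hBt, hABt, hBd]
      intro h4
      apply h2
      linear_combination -h4)
  set Θ : Tw F := PairNF.conjTw P hP with hΘdef
  have hΘ : ∀ g : SpecialLinearGroup (Fin 2) F, P * (g : Matrix (Fin 2) (Fin 2) F) =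
      ((Θ.hom g : SpecialLinearGroup (Fin 2) F) : Matrix (Fin 2) (Fin 2) F) * P := by
    intro g
    rw [hΘdef, PairNF.conjTw_coe, Matrix.mul_assoc, PairNF.inv_mul_of_det_ne_zero P hP,
      Matrix.mul_one]
  have hΘA : ((Θ.hom A₁ : SpecialLinearGroup (Fin 2) F) : Matrix (Fin 2) (Fin 2) F) =
      !![0, -1; 1, 0] := by
    rw [hΘdef, PairNF.conjTw_coe, PairNF.conj_eq_of_mul_eq P _ _ hP hPA, PairNF.cmp]
  have hΘB : ((Θ.hom B₁ : SpecialLinearGroup (Fin 2) F) : Matrix (Fin 2) (Fin 2) F) = B₀ := by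
    rw [hΘdef, PairNF.conjTw_coe, PairNF.conj_eq_of_mul_eq P _ _ hP hPB]
  have hle : M.comap (piP F) ≤ (ratSL (⊥ : Subfield F)).comap Θ.hom := by
    rw [← hgen', Subgroup.closure_le]
    intro x hx
    rcases hx with rfl | rfl
    · change IsRat _ _
      rw [hΘA]
      intro i j
      fin_cases i <;> fin_cases j
      · simpa using Subfield.zero_mem _
      · simpa using neg_one_mem
      · simpa using one_mem
      · simpa using Subfield.zero_mem _
    · change IsRat _ _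
      rw [hΘB]
      exact hB₀m
  -- the quaternion pair
  set b₁ : SpecialLinearGroup (Fin 2) F := B₁ * A₁ * B₁⁻¹ with hb₁
  have hA₁H : A₁ ∈ (M.comap Matrix.ProjGenLinGroup.mk).comap SpecialLinearGroup.toGL := A.2
  have hb₁H : b₁ ∈ (M.comap Matrix.ProjGenLinGroup.mk).comap SpecialLinearGroup.toGL :=
    (B * A * B⁻¹).2
  set s : F := B₀ 0 1 * B₀ 1 1 + B₀ 0 0 * B₀ 1 0 with hsdef
  set t : F := B₀ 1 1 ^ 2 + B₀ 1 0 ^ 2 with htdef
  have hΘb : ((Θ.hom b₁ : SpecialLinearGroup (Fin 2) F) : Matrix (Fin 2) (Fin 2) F) =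
      !![s, t; t, -s] := by
    rw [hb₁, map_mul, map_mul, map_inv, Matrix.SpecialLinearGroup.coe_mul,
      Matrix.SpecialLinearGroup.coe_mul, Matrix.SpecialLinearGroup.coe_inv, hΘA, hΘB]
    exact conj_cmp_aux B₀ hB₀t hB₀t2 hB₀d
  have hsK : s ∈ (⊥ : Subfield F) :=
    Subfield.add_mem _ (Subfield.mul_mem _ (hB₀m 0 1) (hB₀m 1 1))
      (Subfield.mul_mem _ (hB₀m 0 0) (hB₀m 1 0))
  have htK : t ∈ (⊥ : Subfield F) :=
    Subfield.add_mem _ (Subfield.pow_mem _ (hB₀m 1 1) 2) (Subfield.pow_mem _ (hB₀m 1 0) 2)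
  have hst : s ^ 2 + t ^ 2 = -1 := by
    have hd := (Θ.hom b₁).2
    rw [hΘb, Matrix.det_fin_two_of] at hd
    linear_combination -hd
  have hrat : ∀ g ∈ (M.comap Matrix.ProjGenLinGroup.mk).comap SpecialLinearGroup.toGL,
      IsRat (⊥ : Subfield F)
        ((Θ.hom g : SpecialLinearGroup (Fin 2) F) : Matrix (Fin 2) (Fin 2) F) :=
    fun g hg => hle hg
  have hle' : M.comap Matrix.ProjGenLinGroup.mk ≤ ovGL P hP (⊥ : Subfield F) :=
    le_ovGL_quat P hP Θ hΘ ⊥ h h2 A₁ b₁ hA₁H hb₁H s t hsK htK hst hΘA hΘb hrat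
  by_contra hne
  have hbt : (⊥ : Subfield F) ≠ ⊤ := fun hbt => hne (PairNF.card_eq_of_bot_eq_top p hbt)
  have hov : ovGL P hP (⊥ : Subfield F) = M.comap Matrix.ProjGenLinGroup.mk :=
    h.eq_of_le hle' (exists_not_mem_ovGL P hP Θ hΘ ⊥ hbt)
  obtain ⟨y, hy⟩ := Θ.bijective.2 (tSL 1)
  have hyov : SpecialLinearGroup.toGL y ∈ ovGL P hP (⊥ : Subfield F) := by
    rw [toGL_mem_ovGL_iff P hP Θ hΘ, hy, tSL_mem_subfieldSL_iff]
    exact one_mem
  rw [hov] at hyov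
  have hyH : y ∈ M.comap (piP F) := hyov
  have hytr : (y : Matrix (Fin 2) (Fin 2) F).trace = 2 := by
    rw [← Θ.tr_eq, hy, tSL_coe, Matrix.trace_fin_two_of]; norm_num
  apply hss ⟨y, hyH⟩
  · rintro ⟨h01, h10, h00⟩
    have h01' : (y : Matrix (Fin 2) (Fin 2) F) 0 1 = 0 := h01
    have h10' : (y : Matrix (Fin 2) (Fin 2) F) 1 0 = 0 := h10
    have h00' : (y : Matrix (Fin 2) (Fin 2) F) 0 0 = (y : Matrix (Fin 2) (Fin 2) F) 1 1 := h00
    have hysc : (y : Matrix (Fin 2) (Fin 2) F) =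
        ((y : Matrix (Fin 2) (Fin 2) F) 0 0) • (1 : Matrix (Fin 2) (Fin 2) F) := by
      ext i j
      fin_cases i <;> fin_cases j <;> simp [h01', h10', ← h00']
    have h1 := hΘ y
    rw [hy, hysc, Matrix.mul_smul, Matrix.mul_one, tSL_coe] at h1
    have h3 : (((y : Matrix (Fin 2) (Fin 2) F) 0 0) • (1 : Matrix (Fin 2) (Fin 2) F)) * P =
        !![1, 1; 0, 1] * P := by
      rw [Matrix.smul_mul, Matrix.one_mul]; exact h1
    have h4 := cancel_right P hP h3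
    have := congrFun (congrFun h4 0) 1
    simp at this
  · change (y : Matrix (Fin 2) (Fin 2) F).trace ^ 2 = 4
    rw [hytr]; norm_num

end Cfsg.Agent.Lib.Helper13.PGL2Max
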