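/-
helper13: `M ∩ L` is maximal in `L` for maximal `M < PGL₂(q)`: the numerical part.
-/
import Mathlib

set_option autoImplicit false

namespace Cfsg.Agent.Lib.Helper13.PGL2Meet

/-- Numerical data of `N = M ∩ L`: `q = |F|`, `p` the characteristic, `n = |N|`, `m` the largest
element order of `N`. -/
def MNum (q p n m : ℕ) : Prop :=
  2 * n = q * (q - 1) ∨
  (q ≠ 5 ∧ n = q - 1 ∧ n ≤ 2 * m) ∨
  n = q + 1 ∨
  (q.Prime ∧ (q % 8 = 3 ∨ q % 8 = 5) ∧ n = 12 ∧ m ≤ 4) ∨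
  (∃ a r : ℕ, 0 < a ∧ r.Prime ∧ Odd r ∧ q = (p ^ a) ^ r ∧ 2 * n = p ^ a * ((p ^ a) ^ 2 - 1))

/-- Numerical data of a maximal subgroup `X` of `L` containing `N`. -/
def XNum (q p n x m : ℕ) : Prop :=
  2 * x = q * (q - 1) ∨
  (13 ≤ q ∧ x = q - 1 ∧ n ≤ 2 * m) ∨
  (q ≠ 7 ∧ q ≠ 9 ∧ x = q + 1 ∧ n ≤ 2 * m) ∨
  (∃ q₁ : ℕ, q = q₁ ^ 2 ∧ x = q₁ * (q₁ ^ 2 - 1) ∧ m ≤ q₁ + 1) ∨
  (∃ b s : ℕ, 0 < b ∧ s.Prime ∧ Odd s ∧ q = (p ^ b) ^ s ∧ 2 * x = p ^ b * ((p ^ b) ^ 2 - 1)) ∨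
  ((q % 10 = 1 ∨ q % 10 = 9) ∧ (q = p ∨ q = p ^ 2) ∧ x = 60 ∧ m ≤ 5) ∨
  (q = p ∧ x = 12 ∧ n ≠ 6) ∨
  (q = p ∧ (p % 8 = 1 ∨ p % 8 = 7) ∧ x = 24)

theorem mul_sq_sub_one_lt {Q s q : ℕ} (hQ : 2 ≤ Q) (hs : 3 ≤ s) (hq : q = Q ^ s) :
    Q * (Q ^ 2 - 1) < q := by
  have h1 : Q ^ 2 - 1 < Q ^ 2 := Nat.sub_lt (by positivity) one_pos
  have h2 : Q * (Q ^ 2 - 1) < Q * Q ^ 2 := Nat.mul_lt_mul_of_pos_left h1 (by omega)
  have h3 : Q * Q ^ 2 = Q ^ 3 := by ring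
  have h4 : Q ^ 3 ≤ Q ^ s := Nat.pow_le_pow_right (by omega) hs
  rw [hq]; omega

theorem odd_prime_ge_three {s : ℕ} (hs : s.Prime) (ho : Odd s) : 3 ≤ s := by
  have := hs.two_le
  obtain ⟨k, hk⟩ := ho
  omega

/-- `a ^ m - 1 ∣ a ^ n - 1` forces `m ∣ n`. -/
theorem dvd_of_pow_sub_one_dvd {a m n : ℕ} (ha : 2 ≤ a) (h : a ^ m - 1 ∣ a ^ n - 1) : m ∣ n := by
  have hg := Nat.pow_sub_one_gcd_pow_sub_one a m n
  rw [Nat.gcd_eq_left h] at hg
  have h1 : 1 ≤ a ^ m := Nat.one_le_pow _ _ (by omega)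
  have h2 : 1 ≤ a ^ Nat.gcd m n := Nat.one_le_pow _ _ (by omega)
  have h3 : a ^ m = a ^ Nat.gcd m n := by omega
  have h4 : m = Nat.gcd m n := Nat.pow_right_injective ha h3
  rw [h4]
  exact Nat.gcd_dvd_right m n


/-- Row (a): `2 n = q (q - 1)`. -/
theorem rowA (q p n x m : ℕ) (hp : p.Prime) (hodd : Odd q) (h5 : 5 ≤ q)
    (hn : 0 < n) (hdvd : n ∣ x) (hlt : 2 * n ≤ x)
    (hM : 2 * n = q * (q - 1)) (hX : XNum q p n x m) : False := by
  obtain ⟨k, rfl⟩ : ∃ k, q = k + 5 := ⟨q - 5, by omega⟩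
  have hk1 : k + 5 - 1 = k + 4 := by omega
  rw [hk1] at hM
  rcases hX with h | ⟨-, h, -⟩ | ⟨-, -, h, -⟩ | ⟨q₁, hq, h, -⟩ | ⟨b, s, hb, hs, hso, hq, h⟩ |
    ⟨hmod, -, h, -⟩ | ⟨-, h, -⟩ | ⟨-, -, h⟩
  · rw [hk1] at h; omega
  · rw [hk1] at h; nlinarith
  · nlinarith
  · -- q = q₁²
    have hq1 : 2 ≤ q₁ := by
      by_contra hcon
      have : q₁ = 0 ∨ q₁ = 1 := by omega
      rcases this with rfl | rfl <;> simp at hq <;> omega
    have h1 : q₁ ^ 2 - 1 = k + 4 := by omega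
    rw [h1] at h
    rw [hq] at hM
    have : q₁ ^ 2 * (k + 4) ≤ q₁ * (k + 4) := by
      calc q₁ ^ 2 * (k + 4) = 2 * n := hM.symm
        _ ≤ x := hlt
        _ = q₁ * (k + 4) := h
    have h2 : q₁ ^ 2 ≤ q₁ := Nat.le_of_mul_le_mul_right this (by omega)
    nlinarith
  · have hs3 := odd_prime_ge_three hs hso
    have hQ : 2 ≤ p ^ b := by
      calc 2 ≤ p := hp.two_le
        _ = p ^ 1 := (pow_one p).symm
        _ ≤ p ^ b := Nat.pow_le_pow_right hp.pos hb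
    have := mul_sq_sub_one_lt hQ hs3 hq
    nlinarith
  · subst h
    have : (k + 5) * (k + 4) ≤ 60 := by omega
    have hk : k ≤ 3 := by nlinarith
    interval_cases k <;> revert hmod <;> decide
  · subst h
    nlinarith
  · subst h
    have : (k + 5) * (k + 4) ≤ 24 := by omega
    have hk : k ≤ 0 := by nlinarith
    interval_cases k
    have hn10 : n = 10 := by omega
    subst hn10
    obtain ⟨c, hc⟩ := hdvd
    omega



theorem two_le_prime_pow {p b : ℕ} (hp : p.Prime) (hb : 0 < b) : 2 ≤ p ^ b :=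
  calc 2 ≤ p := hp.two_le
    _ = p ^ 1 := (pow_one p).symm
    _ ≤ p ^ b := Nat.pow_le_pow_right hp.pos hb

/-- Row (b): `n = q - 1`, `q ≥ 13`. -/
theorem rowB (q p n x m : ℕ) (hp : p.Prime) (hodd : Odd q) (h13 : 13 ≤ q)
    (hn : 0 < n) (hdvd : n ∣ x) (hlt : 2 * n ≤ x)
    (hM : n = q - 1) (hm : n ≤ 2 * m) (hX : XNum q p n x m) : False := by
  obtain ⟨k, rfl⟩ : ∃ k, q = k + 13 := ⟨q - 13, by omega⟩
  have hk1 : k + 13 - 1 = k + 12 := by omega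
  rw [hk1] at hM
  subst hM
  rcases hX with h | ⟨-, h, -⟩ | ⟨-, -, h, -⟩ | ⟨q₁, hq, h, hm1⟩ | ⟨b, s, hb, hs, hso, hq, h⟩ |
    ⟨hmod, -, h, hm5⟩ | ⟨-, h, -⟩ | ⟨hqp, hmod, h⟩
  · rw [hk1] at h
    obtain ⟨c, rfl⟩ := hdvd
    have h2 : 2 * c = k + 13 := by
      have : (k + 12) * (2 * c) = (k + 12) * (k + 13) := by linarith
      exact Nat.eq_of_mul_eq_mul_left (by omega) this
    obtain ⟨j, hj⟩ := hodd
    omega
  · omega
  · omega
  · -- X ≅ PGL₂(q₁)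
    have h1 : q₁ ^ 2 = (q₁ + 1) * (q₁ - 1) + 1 := by
      rcases q₁ with _ | q₁
      · simp at hq
      · simp only [Nat.add_sub_cancel]; ring
    have h2 : (q₁ + 1) * (q₁ - 1) ≤ (q₁ + 1) * 2 := by
      have : k + 12 = (q₁ + 1) * (q₁ - 1) := by omega
      calc (q₁ + 1) * (q₁ - 1) = k + 12 := this.symm
        _ ≤ 2 * m := hm
        _ ≤ 2 * (q₁ + 1) := by omega
        _ = (q₁ + 1) * 2 := by ring
    have h3 : q₁ - 1 ≤ 2 := Nat.le_of_mul_le_mul_left h2 (by omega)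
    have h4 : q₁ ≤ 3 := by omega
    have : q₁ ^ 2 ≤ 3 ^ 2 := Nat.pow_le_pow_left h4 2
    omega
  · have hs3 := odd_prime_ge_three hs hso
    have := mul_sq_sub_one_lt (two_le_prime_pow hp hb) hs3 hq
    omega
  · omega
  · omega
  · have : k = 0 := by omega
    subst this
    omega



/-- Row (c): `n = q + 1`. -/
theorem rowC (q p n x m : ℕ) (hp : p.Prime) (hodd : Odd q) (h5 : 5 ≤ q)
    (h7 : q ≠ 7) (h9 : q ≠ 9) (h11 : q ≠ 11)
    (h40 : q.Prime → q % 40 ∉ ({11, 19, 21, 29} : Finset ℕ))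
    (hn : 0 < n) (hdvd : n ∣ x) (hlt : 2 * n ≤ x)
    (hM : n = q + 1) (hX : XNum q p n x m) : False := by
  subst hM
  rcases hX with h | ⟨-, h, -⟩ | ⟨-, -, h, -⟩ | ⟨q₁, hq, h, hm1⟩ | ⟨b, s, hb, hs, hso, hq, h⟩ |
    ⟨hmod, hqp, h, hm5⟩ | ⟨hqp, h, h6⟩ | ⟨hqp, hmod, h⟩
  · -- (q+1) ∣ q (q-1)
    obtain ⟨k, rfl⟩ : ∃ k, q = k + 2 := ⟨q - 2, by omega⟩
    have hk1 : k + 2 - 1 = k + 1 := by omega
    rw [hk1] at h
    have h1 : k + 2 + 1 ∣ (k + 2) * (k + 1) := by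
      rw [← h]; exact Dvd.dvd.mul_left hdvd 2
    have h2 : (k + 2) * (k + 1) = (k + 2 + 1) * k + 2 := by ring
    rw [h2] at h1
    have h3 : k + 2 + 1 ∣ 2 := (Nat.dvd_add_right (Dvd.intro _ rfl)).mp h1
    have := Nat.le_of_dvd (by norm_num) h3
    omega
  · omega
  · omega
  · -- q = q₁², (q₁² + 1) ∣ q₁ (q₁² - 1)
    subst hq
    have hq1 : 2 ≤ q₁ := by
      by_contra hcon
      have : q₁ = 0 ∨ q₁ = 1 := by omega
      rcases this with rfl | rfl <;> simp at h5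
    have hcop : Nat.Coprime (q₁ ^ 2 + 1) q₁ := by
      have : Nat.Coprime (q₁ ^ 2 + 1) (q₁ ^ 2) := by rw [Nat.coprime_comm]; simp
      exact Nat.Coprime.coprime_dvd_right (Dvd.intro_left q₁ (by ring)) this
    rw [h] at hdvd
    have h1 : q₁ ^ 2 + 1 ∣ q₁ ^ 2 - 1 := hcop.dvd_of_dvd_mul_left hdvd
    have hpos : 0 < q₁ ^ 2 - 1 := by
      have : 2 ^ 2 ≤ q₁ ^ 2 := Nat.pow_le_pow_left hq1 2
      omega
    have := Nat.le_of_dvd hpos h1
    omega
  · have hs3 := odd_prime_ge_three hs hso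
    have := mul_sq_sub_one_lt (two_le_prime_pow hp hb) hs3 hq
    omega
  · -- x = 60
    subst h
    have hq29 : q ≤ 29 := by omega
    have hq' : q = 19 ∨ q = 29 := by
      obtain ⟨j, hj⟩ := hodd
      obtain ⟨c, hc⟩ := hdvd
      interval_cases q <;> omega
    have hprime : q.Prime := by
      rcases hq' with rfl | rfl <;> norm_num
    have := h40 hprime
    rcases hq' with rfl | rfl <;> simp at this
  · -- x = 12
    subst h
    have : q = 5 := by omega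
    subst this
    omega
  · subst h
    have hq11 : q ≤ 11 := by omega
    obtain ⟨j, hj⟩ := hodd
    have : q = 5 := by omega
    subst this
    subst hqp
    omega



/-- Row (d): `M ≅ S₄`. -/
theorem rowD (q p n x m : ℕ) (hp : p.Prime) (hodd : Odd q) (h5 : 5 ≤ q)
    (h40 : q.Prime → q % 40 ∉ ({11, 19, 21, 29} : Finset ℕ))
    (hn : 0 < n) (hdvd : n ∣ x) (hlt : 2 * n ≤ x)
    (hqprime : q.Prime) (hq8 : q % 8 = 3 ∨ q % 8 = 5) (hM : n = 12) (hm : m ≤ 4)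
    (hX : XNum q p n x m) : False := by
  subst hM
  rcases hX with h | ⟨-, h, hm2⟩ | ⟨-, -, h, hm2⟩ | ⟨q₁, hq, h, hm1⟩ | ⟨b, s, hb, hs, hso, hq, h⟩ |
    ⟨hmod, hqp, h, hm5⟩ | ⟨hqp, h, h6⟩ | ⟨hqp, hmod, h⟩
  · obtain ⟨c, rfl⟩ := hdvd
    have h1 : (q * (q - 1)) % 8 = 0 := by rw [← h]; omega
    rw [Nat.mul_mod] at h1
    rcases hq8 with h8 | h8
    · have : (q - 1) % 8 = 2 := by omega
      rw [h8, this] at h1
      norm_num at h1
    · have : (q - 1) % 8 = 4 := by omega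
      rw [h8, this] at h1
      norm_num at h1
  · omega
  · omega
  · have := (Nat.Prime.pow_eq_iff hqprime).mp hq.symm
    omega
  · rw [← pow_mul] at hq
    have := (Nat.Prime.pow_eq_iff hqprime).mp hq.symm
    have hs2 := hs.two_le
    have : b * s = 1 := this.2
    have : s ∣ 1 := Dvd.intro_left b this
    have := Nat.le_of_dvd one_pos this
    omega
  · have := h40 hqprime
    apply this
    have hlt40 : q % 40 < 40 := Nat.mod_lt _ (by norm_num)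
    have : q % 40 = 11 ∨ q % 40 = 19 ∨ q % 40 = 21 ∨ q % 40 = 29 := by omega
    rcases this with h | h | h | h <;> rw [h] <;> decide
  · omega
  · omega



theorem sq_sub_one_eq (Q : ℕ) (hQ : 1 ≤ Q) : Q ^ 2 - 1 = (Q + 1) * (Q - 1) := by
  obtain ⟨k, rfl⟩ : ∃ k, Q = k + 1 := ⟨Q - 1, by omega⟩
  simp only [Nat.add_sub_cancel]
  have : (k + 1) ^ 2 = (k + 1 + 1) * k + 1 := by ring
  omega

/-- `Q + 1` is coprime to `Q ^ r`. -/
theorem coprime_succ_pow (Q r : ℕ) : Nat.Coprime (Q + 1) (Q ^ r) := by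
  apply Nat.Coprime.pow_right
  rw [Nat.coprime_comm]; simp

/-- Row (e): `M ≅ PGL₂(q₀)`, `q = q₀ ^ r`. -/
theorem rowE (q p n x m : ℕ) (hp : p.Prime) (hodd : Odd q) (h5 : 5 ≤ q)
    (hn : 0 < n) (hdvd : n ∣ x) (hlt : 2 * n ≤ x)
    (a r : ℕ) (ha : 0 < a) (hr : r.Prime) (hro : Odd r) (hqa : q = (p ^ a) ^ r)
    (hM : 2 * n = p ^ a * ((p ^ a) ^ 2 - 1))
    (hX : XNum q p n x m) : False := by
  have hQ2 : 2 ≤ p ^ a := two_le_prime_pow hp ha
  have hr3 := odd_prime_ge_three hr hro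
  set Q := p ^ a with hQdef
  have hQq : Q ∣ q := by rw [hqa]; exact dvd_pow_self Q (by omega)
  have hQodd : Odd Q := by
    rw [hqa] at hodd
    exact (Nat.odd_pow_iff (by omega)).mp hodd
  have hQ3 : 3 ≤ Q := by
    obtain ⟨j, hj⟩ := hQodd
    omega
  have hsq := sq_sub_one_eq Q (by omega)
  -- `Q + 1 ∣ q + 1`
  have hsucc : Q + 1 ∣ q + 1 := by
    have := Odd.nat_add_dvd_pow_add_pow Q 1 hro
    rwa [one_pow, ← hqa] at this
  have h2n : Q + 1 ∣ 2 * n := by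
    rw [hM, hsq]
    exact ⟨Q * (Q - 1), by ring⟩
  have hQ2n : Q ∣ 2 * n := by rw [hM]; exact Dvd.intro _ rfl
  have h2n2x : 2 * n ∣ 2 * x := Nat.mul_dvd_mul_left 2 hdvd
  have hcop : Nat.Coprime (Q + 1) q := by rw [hqa]; exact coprime_succ_pow Q r
  have hq1 : 1 ≤ q := by omega
  rcases hX with h | ⟨-, h, hm2⟩ | ⟨-, -, h, hm2⟩ | ⟨q₁, hq, h, hm1⟩ | ⟨b, s, hb, hs, hso, hq, h⟩ |
    ⟨hmod, hqp, h, hm5⟩ | ⟨hqp, h, h6⟩ | ⟨hqp, hmod, h⟩
  · -- 2x = q (q-1)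
    have h1 : Q + 1 ∣ q * (q - 1) := by rw [← h]; exact h2n.trans h2n2x
    have h2 : Q + 1 ∣ q - 1 := hcop.dvd_of_dvd_mul_left h1
    have h3 : Q + 1 ∣ (q + 1) - (q - 1) := Nat.dvd_sub hsucc h2
    have h4 : (q + 1) - (q - 1) = 2 := by omega
    rw [h4] at h3
    have := Nat.le_of_dvd (by norm_num) h3
    omega
  · -- x = q - 1
    have h1 : Q ∣ 2 * (q - 1) := by rw [← h]; exact hQ2n.trans h2n2x
    have h2 : Q ∣ 2 * q := Dvd.dvd.mul_left hQq 2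
    have h3 : Q ∣ 2 * q - 2 * (q - 1) := Nat.dvd_sub h2 h1
    have h4 : 2 * q - 2 * (q - 1) = 2 := by omega
    rw [h4] at h3
    have := Nat.le_of_dvd (by norm_num) h3
    omega
  · -- x = q + 1
    have h1 : Q ∣ 2 * (q + 1) := by rw [← h]; exact hQ2n.trans h2n2x
    have h2 : Q ∣ 2 * q := Dvd.dvd.mul_left hQq 2
    have h3 : Q ∣ 2 * (q + 1) - 2 * q := Nat.dvd_sub h1 h2
    have h4 : 2 * (q + 1) - 2 * q = 2 := by omega
    rw [h4] at h3
    have := Nat.le_of_dvd (by norm_num) h3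
    omega
  · -- q = q₁², x = q₁ (q₁² - 1)
    have hcop1 : Nat.Coprime (Q + 1) q₁ :=
      Nat.Coprime.coprime_dvd_right (by rw [hq]; exact Dvd.intro_left q₁ (by ring)) hcop
    have h1 : Q + 1 ∣ 2 * (q₁ * (q₁ ^ 2 - 1)) := by rw [← h]; exact h2n.trans h2n2x
    have h1' : Q + 1 ∣ q₁ * (2 * (q - 1)) := by
      rw [hq]
      have : q₁ * (2 * (q₁ ^ 2 - 1)) = 2 * (q₁ * (q₁ ^ 2 - 1)) := by ring
      rw [this]; exact h1
    have h2 : Q + 1 ∣ 2 * (q - 1) := hcop1.dvd_of_dvd_mul_left h1'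
    have h3 : Q + 1 ∣ 2 * (q + 1) - 2 * (q - 1) := Nat.dvd_sub (Dvd.dvd.mul_left hsucc 2) h2
    have h4 : 2 * (q + 1) - 2 * (q - 1) = 4 := by omega
    rw [h4] at h3
    have h5' := Nat.le_of_dvd (by norm_num) h3
    have hQ3' : Q = 3 := by omega
    -- `3 ^ r` is not a square
    rw [hQ3'] at hqa
    have : Fact (Nat.Prime 3) := ⟨by norm_num⟩
    have e1 : padicValNat 3 q = r := by rw [hqa]; exact padicValNat.prime_pow r
    have e2 : padicValNat 3 q = 2 * padicValNat 3 q₁ := by rw [hq]; exact padicValNat.pow q₁ 2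
    obtain ⟨j, hj⟩ := hro
    omega
  · -- q = (p^b)^s, 2x = p^b ((p^b)^2 - 1)
    have hs3 := odd_prime_ge_three hs hso
    have hR2 : 2 ≤ p ^ b := two_le_prime_pow hp hb
    set R := p ^ b with hRdef
    have hsqR := sq_sub_one_eq R (by omega)
    have h1 : Q * (Q ^ 2 - 1) ∣ R * (R ^ 2 - 1) := by rw [← hM, ← h]; exact h2n2x
    -- coprimality
    have hcopR : Nat.Coprime (Q ^ 2 - 1) R := by
      rw [hRdef]
      apply Nat.Coprime.pow_right
      rw [Nat.coprime_comm, Nat.Prime.coprime_iff_not_dvd hp]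
      intro hdv
      have h2 : p ∣ Q ^ 2 := by rw [hQdef, ← pow_mul]; exact dvd_pow_self p (by omega)
      have h3 : p ∣ Q ^ 2 - (Q ^ 2 - 1) := Nat.dvd_sub h2 hdv
      have h4 : Q ^ 2 - (Q ^ 2 - 1) = 1 := by
        have : 1 ≤ Q ^ 2 := Nat.one_le_pow _ _ (by omega)
        omega
      rw [h4] at h3
      have := Nat.le_of_dvd one_pos h3
      have := hp.two_le
      omega
    have h2 : Q ^ 2 - 1 ∣ R ^ 2 - 1 := hcopR.dvd_of_dvd_mul_left ((Dvd.intro_left Q rfl).trans h1)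
    rw [hQdef, hRdef, ← pow_mul, ← pow_mul] at h2
    have h3 : a * 2 ∣ b * 2 := dvd_of_pow_sub_one_dvd hp.two_le h2
    have h4 : a ∣ b := Nat.dvd_of_mul_dvd_mul_right (by norm_num) h3
    obtain ⟨c, rfl⟩ := h4
    -- exponents
    have hexp : a * r = a * c * s := by
      have : p ^ (a * r) = p ^ (a * c * s) := by
        rw [pow_mul, pow_mul (a := p) (a * c) s, ← hqa, ← hq]
      exact Nat.pow_right_injective hp.two_le this
    have hrcs : r = c * s := by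
      have : a * r = a * (c * s) := by rw [hexp]; ring
      exact Nat.eq_of_mul_eq_mul_left ha this
    have hsr : s ∣ r := Dvd.intro_left c hrcs.symm
    have hsr' : s = r := (Nat.prime_dvd_prime_iff_eq hs hr).mp hsr
    have hc1 : c = 1 := by
      rw [hsr'] at hrcs
      have : 1 * r = c * r := by rw [one_mul]; exact hrcs
      exact (Nat.eq_of_mul_eq_mul_right hr.pos this).symm
    subst hc1
    rw [mul_one] at hRdef
    have : R = Q := by rw [hRdef, hQdef]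
    rw [this] at h
    omega
  · -- A₅: q = p or p²
    rw [hqa, hQdef, ← pow_mul] at hqp
    rcases hqp with h1 | h1
    · have : a * r = 1 := Nat.pow_right_injective hp.two_le (by simpa using h1)
      have : r ∣ 1 := Dvd.intro_left a this
      have := Nat.le_of_dvd one_pos this
      omega
    · have : a * r = 2 := Nat.pow_right_injective hp.two_le h1
      have : r ∣ 2 := Dvd.intro_left a this
      have := Nat.le_of_dvd (by norm_num) this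
      omega
  · rw [hqa, hQdef, ← pow_mul] at hqp
    have : a * r = 1 := Nat.pow_right_injective hp.two_le (by simpa using hqp)
    have : r ∣ 1 := Dvd.intro_left a this
    have := Nat.le_of_dvd one_pos this
    omega
  · rw [hqa, hQdef, ← pow_mul] at hqp
    have : a * r = 1 := Nat.pow_right_injective hp.two_le (by simpa using hqp)
    have : r ∣ 1 := Dvd.intro_left a this
    have := Nat.le_of_dvd one_pos this
    omega


/-- The numerical contradiction: `N < X < L` is impossible. -/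
theorem numeric_false (q p n x m : ℕ) (hp : p.Prime) (hodd : Odd q) (h5 : 5 ≤ q)
    (h7 : q ≠ 7) (h9 : q ≠ 9) (h11 : q ≠ 11)
    (h40 : q.Prime → q % 40 ∉ ({11, 19, 21, 29} : Finset ℕ))
    (hn : 0 < n) (hdvd : n ∣ x) (hlt : 2 * n ≤ x)
    (hM : MNum q p n m) (hX : XNum q p n x m) : False := by
  rcases hM with h | ⟨hq5, h, hm⟩ | h | ⟨hqp, hq8, h, hm⟩ | ⟨a, r, ha, hr, hro, hqa, h⟩
  · exact rowA q p n x m hp hodd h5 hn hdvd hlt h hX
  · have h13 : 13 ≤ q := by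
      obtain ⟨j, hj⟩ := hodd
      omega
    exact rowB q p n x m hp hodd h13 hn hdvd hlt h hm hX
  · exact rowC q p n x m hp hodd h5 h7 h9 h11 h40 hn hdvd hlt h hX
  · exact rowD q p n x m hp hodd h5 h40 hn hdvd hlt hqp hq8 h hm hX
  · exact rowE q p n x m hp hodd h5 hn hdvd hlt a r ha hr hro hqa h hX

end Cfsg.Agent.Lib.Helper13.PGL2Meet
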