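/-
helper13: `M ∩ L` is maximal in `L` for maximal `M < PGL₂(q)`: the group theory.
-/
import Mathlib
import Cfsg.Agent.S5891
import Cfsg.Agent.Lib.Helper13.PGL2MeetNum
import Cfsg.Agent.Lib.Helper13.DkPGLOrder
import Cfsg.Agent.Lib.Helper13.DkDihExist
import Cfsg.Agent.Lib.Helper13.PGL2MaxA

set_option autoImplicit false

namespace Cfsg.Agent.Lib.Helper13.PGL2Meet

open Matrix Subgroup Cfsg.Agent.Lib.Helper13 Cfsg.Agent.Lib.Helper13.Dk
  Cfsg.Agent.Lib.Helper13.PSL2MaxOdd Cfsg.Agent.Lib.Helper13.PGL2Max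

section general

variable {P : Type*} [Group P]

/-- An element of largest order in a subgroup of a finite group. -/
theorem exists_max_order [Finite P] (N : Subgroup P) :
    ∃ h₀ ∈ N, ∀ h ∈ N, orderOf h ≤ orderOf h₀ := by
  obtain ⟨x₀, hx₀⟩ := Finite.exists_max (fun h : N => orderOf (h : P))
  exact ⟨x₀.1, x₀.2, fun h hh => hx₀ ⟨h, hh⟩⟩

/-- Element orders of a subgroup isomorphic to a group with bounded element orders. -/
theorem orderOf_le_of_mulEquiv {Q : Type*} [Group Q] (X : Subgroup P) (e : X ≃* Q) (B : ℕ)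
    (hB : ∀ y : Q, orderOf y ≤ B) {h : P} (hh : h ∈ X) : orderOf h ≤ B := by
  have h1 : orderOf (⟨h, hh⟩ : X) = orderOf h := Subgroup.orderOf_mk h hh
  rw [← h1, ← MulEquiv.orderOf_eq e]
  exact hB _

end general

variable {F : Type*} [Field F] [Fintype F]

/-- The embedding `PSL₂(F) → PGL₂(F)`. -/
abbrev tP (F : Type*) [Field F] :
    Matrix.ProjectiveSpecialLinearGroup (Fin 2) F →* Matrix.ProjGenLinGroup (Fin 2) F :=
  Matrix.ProjectiveSpecialLinearGroup.toPGL

theorem tP_injective : Function.Injective (tP F) :=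
  Matrix.ProjectiveSpecialLinearGroup.toPGL_injective

theorem range_tP : (tP F).range = (piP F).range := by
  ext g
  constructor
  · rintro ⟨x, rfl⟩
    induction x using QuotientGroup.induction_on with
    | H y => exact ⟨y, rfl⟩
  · rintro ⟨y, rfl⟩
    exact ⟨QuotientGroup.mk y, rfl⟩

theorem card_comap_tP (M : Subgroup (Matrix.ProjGenLinGroup (Fin 2) F)) :
    Nat.card (M.comap (tP F)) = Nat.card ((piP F).range ⊓ M : Subgroup _) := by
  rw [← range_tP, ← Subgroup.map_comap_eq, Subgroup.card_map_of_injective tP_injective]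

theorem orderOf_tP (h : Matrix.ProjectiveSpecialLinearGroup (Fin 2) F) :
    orderOf (tP F h) = orderOf h :=
  orderOf_injective (tP F) tP_injective h

/-- A prime power that is a power of a prime power. -/
theorem exists_exp_of_pow_eq {p k : ℕ} (hp : p.Prime) (hk : 0 < k) (K : Type) [Field K] [Fintype K]
    (r : ℕ) (hq : p ^ k = Fintype.card K ^ r) (hr : 0 < r) :
    ∃ a : ℕ, 0 < a ∧ Fintype.card K = p ^ a := by
  obtain ⟨p₀, hp₀⟩ := CharP.exists K
  obtain ⟨a, hp₀', ha⟩ := FiniteField.card K p₀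
  refine ⟨a, a.pos, ?_⟩
  rw [ha] at hq ⊢
  have h1 : p₀ ∣ p ^ k := by
    rw [hq, ← pow_mul]
    exact dvd_pow_self p₀ (by have := a.pos; positivity)
  have h2 : p₀ = p := (Nat.prime_dvd_prime_iff_eq hp₀' hp).mp (hp₀'.dvd_of_dvd_pow h1)
  rw [h2]

section mnum

variable (hodd : Odd (Fintype.card F)) (h3 : 3 < Fintype.card F)
  (M : Subgroup (Matrix.ProjGenLinGroup (Fin 2) F)) (hM : IsCoatom M)
  (hML : ¬ (piP F).range ≤ M)

include hodd hM hML in
theorem card_eq_two_mul_comap : Nat.card M = 2 * Nat.card (M.comap (tP F)) := by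
  rw [card_comap_tP]
  exact card_eq_two_mul_inf M hM hML hodd

include hodd h3 hM hML in
/-- The numerical data of `M ∩ L`. -/
theorem mnum (p : ℕ) [Fact p.Prime] [CharP F p]
    (h₀ : Matrix.ProjectiveSpecialLinearGroup (Fin 2) F) (hh₀ : h₀ ∈ M.comap (tP F))
    (hmax : ∀ h ∈ M.comap (tP F), orderOf h ≤ orderOf h₀) :
    MNum (Fintype.card F) p (Nat.card (M.comap (tP F))) (orderOf h₀) := by
  have hcard := card_eq_two_mul_comap hodd M hM hML
  rcases Cfsg.Agent.S5891.result hodd h3 M hM hML with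
    h | ⟨h5, ⟨e⟩⟩ | ⟨⟨e⟩⟩ | ⟨hqp, hq8, ⟨e⟩⟩ | ⟨F₀, _, _, r, hr, hro, hq, ⟨e⟩⟩
  · left
    omega
  · right; left
    have hc : Nat.card M = 2 * (Fintype.card F - 1) := by
      rw [Nat.card_congr e.toEquiv, DihedralGroup.nat_card]
    refine ⟨h5, by omega, ?_⟩
    obtain ⟨g, hg, hle⟩ := exists_orderOf_of_dihedral M ((piP F).range ⊓ M) inf_le_right
      (by omega) e
    rw [← card_comap_tP] at hle
    obtain ⟨h, rfl⟩ : g ∈ (tP F).range := by rw [range_tP]; exact hg.1
    rw [orderOf_tP] at hle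
    have := hmax h hg.2
    omega
  · right; right; left
    have hc : Nat.card M = 2 * (Fintype.card F + 1) := by
      rw [Nat.card_congr e.toEquiv, DihedralGroup.nat_card]
    omega
  · right; right; right; left
    have hc : Nat.card M = 24 := by
      rw [Nat.card_congr e.toEquiv, card_perm4]
    refine ⟨hqp, hq8, by omega, ?_⟩
    have h1 : tP F h₀ ∈ M := hh₀
    rw [← orderOf_tP]
    exact orderOf_le_of_mulEquiv M e 4 s4_orderOf_le h1
  · right; right; right; right
    have hc : Nat.card M = Fintype.card F₀ * (Fintype.card F₀ ^ 2 - 1) := by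
      rw [Nat.card_congr e.toEquiv, card_PGL2]
    obtain ⟨k, hp, hk⟩ := FiniteField.card F p
    obtain ⟨a, ha, hqa⟩ := exists_exp_of_pow_eq hp k.pos F₀ r (by rw [← hk, hq]) hr.pos
    refine ⟨a, r, ha, hr, hro, by rw [← hqa]; exact hq, ?_⟩
    rw [← hqa, ← hc, hcard]

end mnum

section xnum

variable (hodd : Odd (Fintype.card F))

include hodd in
/-- The numerical data of a maximal subgroup of `PSL₂(F)` containing `N`. -/
theorem xnum (p : ℕ) [Fact p.Prime] [CharP F p]
    (N X : Subgroup (Matrix.ProjectiveSpecialLinearGroup (Fin 2) F)) (hle : N ≤ X)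
    (hX : MaxConcl F p X)
    (h₀ : Matrix.ProjectiveSpecialLinearGroup (Fin 2) F) (hh₀ : h₀ ∈ N)
    (hmax : ∀ h ∈ N, orderOf h ≤ orderOf h₀) :
    XNum (Fintype.card F) p (Nat.card N) (Nat.card X) (orderOf h₀) := by
  rcases hX with h | ⟨h13, k, hk, ⟨e⟩⟩ | ⟨h7, h9, k, hk, ⟨e⟩⟩ | ⟨F₁, _, _, hq, ⟨e⟩⟩ |
    ⟨F₁, _, _, s, hs, hso, hq, ⟨e⟩⟩ | ⟨hmod, hqp, ⟨e⟩⟩ | ⟨hqp, h8, h10, ⟨e⟩⟩ | ⟨hqp, h8, ⟨e⟩⟩
  · left; exact h
  · right; left
    have hc : Nat.card X = 2 * k := by rw [Nat.card_congr e.toEquiv, DihedralGroup.nat_card]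
    refine ⟨h13, by omega, ?_⟩
    obtain ⟨g, hg, hle'⟩ := exists_orderOf_of_dihedral X N hle (by omega) e
    have := hmax g hg
    omega
  · right; right; left
    have hc : Nat.card X = 2 * k := by rw [Nat.card_congr e.toEquiv, DihedralGroup.nat_card]
    refine ⟨h7, h9, by omega, ?_⟩
    obtain ⟨g, hg, hle'⟩ := exists_orderOf_of_dihedral X N hle (by omega) e
    have := hmax g hg
    omega
  · right; right; right; left
    refine ⟨Fintype.card F₁, hq, by rw [Nat.card_congr e.toEquiv, card_PGL2], ?_⟩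
    exact orderOf_le_of_mulEquiv X e _ orderOf_PGL2_le (hle hh₀)
  · right; right; right; right; left
    obtain ⟨k, hp, hk⟩ := FiniteField.card F p
    obtain ⟨b, hb, hqb⟩ := exists_exp_of_pow_eq hp k.pos F₁ s (by rw [← hk, hq]) hs.pos
    have hc := card_PSL2_mul_gcd (K := F₁)
    have hodd1 : Odd (Fintype.card F₁) := by
      rw [hq] at hodd
      exact (Nat.odd_pow_iff hs.ne_zero).mp hodd
    rw [gcd_two_of_odd hodd1] at hc
    refine ⟨b, s, hb, hs, hso, by rw [← hqb]; exact hq, ?_⟩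
    rw [← hqb, ← hc, Nat.card_congr e.toEquiv]
    ring
  · right; right; right; right; right; left
    refine ⟨hmod, ?_, by rw [Nat.card_congr e.toEquiv, PSL2MaxOdd.card_alt5], ?_⟩
    · rcases hqp with h | ⟨h, -⟩
      · exact Or.inl h
      · exact Or.inr h
    · exact orderOf_le_of_mulEquiv X e 5 a5_orderOf_le (hle hh₀)
  · right; right; right; right; right; right; left
    exact ⟨hqp, by rw [Nat.card_congr e.toEquiv, PSL2MaxOdd.card_alt4], card_ne_six_of_le_alt4 X N hle e⟩
  · right; right; right; right; right; right; right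
    exact ⟨hqp, h8, by rw [Nat.card_congr e.toEquiv, card_perm4]⟩

end xnum

section main

theorem finite_PSL2 : Finite (Matrix.ProjectiveSpecialLinearGroup (Fin 2) F) :=
  haveI := finite_PGL2 (F := F)
  Finite.of_injective _ (tP_injective (F := F))

/-- `M ∩ L`, pulled back to `PSL₂(F)`, is a maximal subgroup (odd `q`). -/
theorem coatom_comap_tP (hodd : Odd (Fintype.card F)) (h5 : 5 ≤ Fintype.card F)
    (h7 : Fintype.card F ≠ 7) (h9 : Fintype.card F ≠ 9) (h11 : Fintype.card F ≠ 11)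
    (h40 : (Fintype.card F).Prime → Fintype.card F % 40 ∉ ({11, 19, 21, 29} : Finset ℕ))
    (M : Subgroup (Matrix.ProjGenLinGroup (Fin 2) F)) (hM : IsCoatom M)
    (hML : ¬ (piP F).range ≤ M) : IsCoatom (M.comap (tP F)) := by
  classical
  have := finite_PSL2 (F := F)
  obtain ⟨p, hp⟩ := CharP.exists F
  have : Fact p.Prime := ⟨CharP.char_is_prime F p⟩
  have hne : M.comap (tP F) ≠ ⊤ := by
    intro htop
    apply hML
    rw [← range_tP]
    rintro _ ⟨x, rfl⟩
    have : x ∈ M.comap (tP F) := htop ▸ Subgroup.mem_top x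
    exact this
  obtain ⟨X, hX, hle⟩ := (eq_top_or_exists_le_coatom (M.comap (tP F))).resolve_left hne
  by_cases heq : M.comap (tP F) = X
  · rw [heq]; exact hX
  · exfalso
    have hlt : M.comap (tP F) < X := lt_of_le_of_ne hle heq
    obtain ⟨h₀, hh₀, hmax⟩ := exists_max_order (M.comap (tP F))
    have hMn := mnum hodd (by omega) M hM hML p h₀ hh₀ hmax
    have hXn := xnum hodd p (M.comap (tP F)) X hle (coatom_PSL2_odd p hodd h5 X hX) h₀ hh₀ hmax
    exact numeric_false _ p _ _ _ (Fact.out) hodd h5 h7 h9 h11 h40 Nat.card_pos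
      (card_dvd_of_lt hlt) (two_mul_card_le_of_lt hlt) hMn hXn

end main

section transfer

theorem isCoatom_subgroupOf_of_comap {P G : Type*} [Group P] [Group G] (f : P →* G)
    (hf : Function.Injective f) (L : Subgroup G) (hL : f.range = L) (M : Subgroup G)
    (h : IsCoatom (M.comap f)) : IsCoatom ((M ⊓ L).subgroupOf L) := by
  subst hL
  let e : P ≃* f.range := MonoidHom.ofInjective hf
  have key : e.mapSubgroup (M.comap f) = (M ⊓ f.range).subgroupOf f.range := by
    ext ⟨y, hy⟩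
    obtain ⟨x, rfl⟩ := hy
    rw [MulEquiv.mapSubgroup_apply, Subgroup.mem_map, Subgroup.mem_subgroupOf]
    constructor
    · rintro ⟨x', hx', hxx⟩
      have h1 : f x' = f x := congrArg Subtype.val hxx
      have h2 : x' = x := hf h1
      subst h2
      exact ⟨hx', ⟨x', rfl⟩⟩
    · rintro ⟨hx, -⟩
      exact ⟨x, hx, rfl⟩
  rw [← key]
  exact (OrderIso.isCoatom_iff e.mapSubgroup _).mpr h

/-- For even `q` the image of `SL₂(F)` is all of `PGL₂(F)`. -/
theorem range_piP_of_even (heven : Fintype.card F % 2 = 0) : (piP F).range = ⊤ := by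
  have hF : ringChar F = 2 := FiniteField.even_card_iff_char_two.mpr heven
  have hsurj : Function.Surjective (tP F) := by
    apply Matrix.ProjectiveSpecialLinearGroup.toPGL_surj_of_roots
    intro r
    obtain ⟨c, hc⟩ := FiniteField.isSquare_of_char_two hF (r : F)
    have hc0 : c ≠ 0 := by
      rintro rfl
      simp at hc
    refine ⟨Units.mk0 c hc0, ?_⟩
    apply Units.ext
    rw [Fintype.card_fin, Units.val_pow_eq_pow_val, Units.val_mk0, hc, sq]
  rw [← range_tP]
  exact MonoidHom.range_eq_top.mpr hsurj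

/-- **`M ∩ L` is maximal in `L`.** -/
theorem isCoatom_inf_range (h4 : 4 ≤ Fintype.card F) (h7 : Fintype.card F ≠ 7)
    (h9 : Fintype.card F ≠ 9) (h11 : Fintype.card F ≠ 11)
    (h40 : (Fintype.card F).Prime → Fintype.card F % 40 ∉ ({11, 19, 21, 29} : Finset ℕ))
    (M : Subgroup (Matrix.ProjGenLinGroup (Fin 2) F)) (hM : IsCoatom M)
    (hML : ¬ (piP F).range ≤ M) :
    IsCoatom ((M ⊓ (piP F).range).subgroupOf (piP F).range) := by
  rcases Nat.even_or_odd (Fintype.card F) with heven | hodd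
  · have htop := range_piP_of_even (F := F) (Nat.even_iff.mp heven)
    apply isCoatom_subgroupOf_of_comap (MonoidHom.id _) (fun _ _ h => h)
    · rw [htop]
      exact MonoidHom.range_eq_top.mpr (fun x => ⟨x, rfl⟩)
    · rw [Subgroup.comap_id]
      exact hM
  · have h5 : 5 ≤ Fintype.card F := by
      obtain ⟨j, hj⟩ := hodd
      omega
    exact isCoatom_subgroupOf_of_comap (tP F) tP_injective _ range_tP M
      (coatom_comap_tP hodd h5 h7 h9 h11 h40 M hM hML)

end transfer

end Cfsg.Agent.Lib.Helper13.PGL2Meet
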