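/-
helper13: products of conjugacy classes in `PSL₂(F)`: the product of two non-trivial classes is
never a single class (Arad–Herzog for `PSL₂`), via the trace of `U(x) A U(x)⁻¹ B` as a quadratic
polynomial in `x`.
-/
import Mathlib
import Cfsg.Agent.Lib.Helper13.SL2ClassSize
import Cfsg.Agent.Lib.Helper13.PSL2

set_option autoImplicit false

namespace Cfsg.Agent.Lib.Helper13

open Matrix

section general

variable {F : Type*} [Field F]

/-- The upper unitriangular element `U(x)`. -/
def upU (x : F) : SpecialLinearGroup (Fin 2) F :=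
  ⟨!![1, x; 0, 1], by simp [Matrix.det_fin_two]⟩

/-- The lower unitriangular element `L(1)`. -/
def lowOne : SpecialLinearGroup (Fin 2) F :=
  ⟨!![1, 0; 1, 1], by simp [Matrix.det_fin_two]⟩

/-- The Weyl element. -/
def weylSL : SpecialLinearGroup (Fin 2) F :=
  ⟨!![0, 1; -1, 0], by simp [Matrix.det_fin_two]⟩

theorem conj_val (h X : SpecialLinearGroup (Fin 2) F) :
    ((h * X * h⁻¹ : SpecialLinearGroup (Fin 2) F) : Matrix (Fin 2) (Fin 2) F) =
      (h : Matrix (Fin 2) (Fin 2) F) * (X : Matrix (Fin 2) (Fin 2) F) *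
        Matrix.adjugate (h : Matrix (Fin 2) (Fin 2) F) := by
  have h1 : ((h * X * h⁻¹ : SpecialLinearGroup (Fin 2) F) : Matrix (Fin 2) (Fin 2) F) =
      (h : Matrix (Fin 2) (Fin 2) F) * (X : Matrix (Fin 2) (Fin 2) F) *
        ((h⁻¹ : SpecialLinearGroup (Fin 2) F) : Matrix (Fin 2) (Fin 2) F) := rfl
  rw [h1, Matrix.SpecialLinearGroup.coe_inv]

/-- A non-central element of `SL₂(F)` has a conjugate with non-zero lower left entry. -/
theorem exists_conj_lower_ne_zero (X : SpecialLinearGroup (Fin 2) F)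
    (hX : X ∉ Subgroup.center (SpecialLinearGroup (Fin 2) F)) :
    ∃ h : SpecialLinearGroup (Fin 2) F,
      ((h * X * h⁻¹ : SpecialLinearGroup (Fin 2) F) : Matrix (Fin 2) (Fin 2) F) 1 0 ≠ 0 := by
  by_cases h10 : (X : Matrix (Fin 2) (Fin 2) F) 1 0 = 0
  · by_cases h01 : (X : Matrix (Fin 2) (Fin 2) F) 0 1 = 0
    · refine ⟨lowOne, ?_⟩
      rw [conj_val, Matrix.adjugate_fin_two]
      simp only [lowOne, Matrix.mul_apply, Fin.sum_univ_two, Matrix.of_apply, Matrix.cons_val_zero,
        Matrix.cons_val_one, Matrix.cons_val', Matrix.cons_val_fin_one, Fin.isValue]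
      rw [h10, h01]
      intro h
      apply hX
      apply mem_center_of_scalar X ((X : Matrix (Fin 2) (Fin 2) F) 0 0)
      ext i j
      fin_cases i <;> fin_cases j
      · simp
      · simpa using h01
      · simpa using h10
      · simp only [Fin.mk_one, Fin.isValue, Matrix.smul_apply, Matrix.one_apply_eq, smul_eq_mul,
          mul_one]
        linear_combination -h
    · refine ⟨weylSL, ?_⟩
      rw [conj_val, Matrix.adjugate_fin_two]
      simp only [weylSL, Matrix.mul_apply, Fin.sum_univ_two, Matrix.of_apply, Matrix.cons_val_zero,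
        Matrix.cons_val_one, Matrix.cons_val', Matrix.cons_val_fin_one, Fin.isValue]
      rw [h10]
      intro h
      apply h01
      linear_combination -h
  · refine ⟨1, ?_⟩
    rw [one_mul, inv_one, mul_one]
    exact h10

/-- The trace of `U(x) A U(x)⁻¹ B` is a quadratic polynomial in `x` with leading coefficient
`-A₁₀ B₁₀`. -/
theorem exists_trace_quadratic (A B : SpecialLinearGroup (Fin 2) F) :
    ∃ β γ : F, ∀ x : F,
      ((upU x * A * (upU x)⁻¹ * B : SpecialLinearGroup (Fin 2) F) :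
        Matrix (Fin 2) (Fin 2) F).trace =
      -((A : Matrix (Fin 2) (Fin 2) F) 1 0 * (B : Matrix (Fin 2) (Fin 2) F) 1 0) * x ^ 2 +
        β * x + γ := by
  refine ⟨(A : Matrix (Fin 2) (Fin 2) F) 1 0 *
      ((B : Matrix (Fin 2) (Fin 2) F) 0 0 - (B : Matrix (Fin 2) (Fin 2) F) 1 1) +
      ((A : Matrix (Fin 2) (Fin 2) F) 1 1 - (A : Matrix (Fin 2) (Fin 2) F) 0 0) *
        (B : Matrix (Fin 2) (Fin 2) F) 1 0,
    (A : Matrix (Fin 2) (Fin 2) F) 0 0 * (B : Matrix (Fin 2) (Fin 2) F) 0 0 +
      (A : Matrix (Fin 2) (Fin 2) F) 0 1 * (B : Matrix (Fin 2) (Fin 2) F) 1 0 +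
      (A : Matrix (Fin 2) (Fin 2) F) 1 0 * (B : Matrix (Fin 2) (Fin 2) F) 0 1 +
      (A : Matrix (Fin 2) (Fin 2) F) 1 1 * (B : Matrix (Fin 2) (Fin 2) F) 1 1, fun x => ?_⟩
  have h1 : ((upU x * A * (upU x)⁻¹ * B : SpecialLinearGroup (Fin 2) F) :
      Matrix (Fin 2) (Fin 2) F) =
      ((upU x * A * (upU x)⁻¹ : SpecialLinearGroup (Fin 2) F) : Matrix (Fin 2) (Fin 2) F) *
        (B : Matrix (Fin 2) (Fin 2) F) := rfl
  rw [h1, conj_val, Matrix.adjugate_fin_two, Matrix.trace_fin_two]
  simp only [upU, Matrix.mul_apply, Fin.sum_univ_two, Matrix.of_apply, Matrix.cons_val_zero,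
    Matrix.cons_val_one, Matrix.cons_val', Matrix.cons_val_fin_one, Fin.isValue]
  ring

/-- Equal images in `PSL₂` have equal traces up to sign. -/
theorem trace_sq_eq_of_mk_eq (X Y : SpecialLinearGroup (Fin 2) F)
    (h : (QuotientGroup.mk X : Matrix.ProjectiveSpecialLinearGroup (Fin 2) F) = QuotientGroup.mk Y) :
    (X : Matrix (Fin 2) (Fin 2) F).trace ^ 2 = (Y : Matrix (Fin 2) (Fin 2) F).trace ^ 2 := by
  rw [QuotientGroup.eq, Matrix.SpecialLinearGroup.mem_center_iff] at h
  obtain ⟨r, hr, hscal⟩ := h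
  rw [Fintype.card_fin] at hr
  have hY : (Y : Matrix (Fin 2) (Fin 2) F) = r • (X : Matrix (Fin 2) (Fin 2) F) := by
    have h1 : Y = X * (X⁻¹ * Y) := by group
    have h2 : (Y : Matrix (Fin 2) (Fin 2) F) = (X : Matrix (Fin 2) (Fin 2) F) *
        ((X⁻¹ * Y : SpecialLinearGroup (Fin 2) F) : Matrix (Fin 2) (Fin 2) F) :=
      congrArg (fun k : SpecialLinearGroup (Fin 2) F => (k : Matrix (Fin 2) (Fin 2) F)) h1
    rw [h2, ← hscal]
    ext i j
    simp [Matrix.mul_apply, Matrix.diagonal_apply]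
    fin_cases j <;> simp [mul_comm]
  rw [hY, Matrix.trace_smul, smul_eq_mul, mul_pow, hr, one_mul]

/-- Conjugate elements of `PSL₂` have equal traces up to sign. -/
theorem trace_sq_eq_of_isConj_mk (X Y : SpecialLinearGroup (Fin 2) F)
    (h : IsConj (QuotientGroup.mk X : Matrix.ProjectiveSpecialLinearGroup (Fin 2) F)
      (QuotientGroup.mk Y)) :
    (X : Matrix (Fin 2) (Fin 2) F).trace ^ 2 = (Y : Matrix (Fin 2) (Fin 2) F).trace ^ 2 := by
  obtain ⟨z, hz⟩ := isConj_iff.mp h
  obtain ⟨Z, rfl⟩ := QuotientGroup.mk_surjective z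
  have h1 : (QuotientGroup.mk (Z * X * Z⁻¹) : Matrix.ProjectiveSpecialLinearGroup (Fin 2) F) =
      QuotientGroup.mk Y := by
    rw [← hz]
    rfl
  have h2 := trace_sq_eq_of_mk_eq _ _ h1
  rw [← h2]
  have : IsConj X (Z * X * Z⁻¹) := isConj_iff.mpr ⟨Z, rfl⟩
  rw [trace_eq_of_isConj_SL this]

end general

section finite

variable {F : Type*} [Field F] [Fintype F]

/-- A quadratic polynomial over a finite field with at least 4 elements takes two values that are
not equal up to sign. -/
theorem quadratic_not_two_valued (h4 : 4 ≤ Fintype.card F) (α β γ t : F) (hα : α ≠ 0)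
    (h : ∀ x : F, (α * x ^ 2 + β * x + γ) ^ 2 = t ^ 2) : False := by
  classical
  -- fibres of the quadratic have at most two elements
  have hfib : ∀ v : F, (Finset.univ.filter (fun x : F => α * x ^ 2 + β * x + γ = v)).card ≤ 2 := by
    intro v
    set P : Polynomial F := Polynomial.C α * Polynomial.X ^ 2 + Polynomial.C β * Polynomial.X +
      Polynomial.C (γ - v) with hP
    have hP2 : P.coeff 2 = α := by
      simp [hP]
    have hP0 : P ≠ 0 := by
      intro h0
      rw [h0, Polynomial.coeff_zero] at hP2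
      exact hα hP2.symm
    have hdeg : P.natDegree ≤ 2 := by
      rw [hP]
      compute_degree
    have hsub : (Finset.univ.filter (fun x : F => α * x ^ 2 + β * x + γ = v)) ⊆ P.roots.toFinset := by
      intro x hx
      rw [Finset.mem_filter] at hx
      rw [Multiset.mem_toFinset, Polynomial.mem_roots hP0, Polynomial.IsRoot, hP]
      simp only [Polynomial.eval_add, Polynomial.eval_mul, Polynomial.eval_C, Polynomial.eval_pow,
        Polynomial.eval_X]
      linear_combination hx.2
    exact (Finset.card_le_card hsub).trans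
      ((Multiset.toFinset_card_le _).trans ((Polynomial.card_roots' P).trans hdeg))
  have hcover : (Finset.univ : Finset F) ⊆
      (Finset.univ.filter (fun x : F => α * x ^ 2 + β * x + γ = t)) ∪
        (Finset.univ.filter (fun x : F => α * x ^ 2 + β * x + γ = -t)) := by
    intro x _
    have hx := h x
    have h1 : (α * x ^ 2 + β * x + γ - t) * (α * x ^ 2 + β * x + γ + t) = 0 := by
      linear_combination hx
    rcases mul_eq_zero.mp h1 with h2 | h2
    · exact Finset.mem_union_left _ (Finset.mem_filter.mpr ⟨Finset.mem_univ _, by linear_combination h2⟩)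
    · exact Finset.mem_union_right _ (Finset.mem_filter.mpr ⟨Finset.mem_univ _, by linear_combination h2⟩)
  have hcard : Fintype.card F ≤ 4 := by
    have := Finset.card_le_card hcover
    rw [Finset.card_univ] at this
    have h1 := Finset.card_union_le (Finset.univ.filter (fun x : F => α * x ^ 2 + β * x + γ = t))
      (Finset.univ.filter (fun x : F => α * x ^ 2 + β * x + γ = -t))
    have h2 := hfib t
    have h3 := hfib (-t)
    omega
  have hcard4 : Fintype.card F = 4 := le_antisymm hcard h4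
  have h2F : (2 : F) = 0 := by
    have h := Nat.cast_card_eq_zero F
    rw [hcard4] at h
    have h' : (2 : F) * 2 = 0 := by
      have : ((4 : ℕ) : F) = 2 * 2 := by norm_num
      rw [← this]
      exact h
    rcases mul_eq_zero.mp h' with h'' | h'' <;> exact h''
  have hneg : -t = t := by linear_combination -t * h2F
  rw [hneg, Finset.union_self] at hcover
  have := Finset.card_le_card hcover
  rw [Finset.card_univ] at this
  have h2 := hfib t
  omega

/-- **Arad–Herzog for `PSL₂`**: the product of two non-trivial conjugacy classes of `PSL₂(F)`,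
`|F| ≥ 4`, is not a single conjugacy class. -/
theorem class_prod_ne_class (h4 : 4 ≤ Fintype.card F)
    (a b : Matrix.ProjectiveSpecialLinearGroup (Fin 2) F) (ha : a ≠ 1) (hb : b ≠ 1)
    (c : Matrix.ProjectiveSpecialLinearGroup (Fin 2) F) :
    {g : Matrix.ProjectiveSpecialLinearGroup (Fin 2) F | ∃ u v :
      Matrix.ProjectiveSpecialLinearGroup (Fin 2) F, g = (u * a * u⁻¹) * (v * b * v⁻¹)} ≠
      {g | IsConj c g} := by
  intro heq
  obtain ⟨A, rfl⟩ := QuotientGroup.mk_surjective a
  obtain ⟨B, rfl⟩ := QuotientGroup.mk_surjective b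
  obtain ⟨C₀, rfl⟩ := QuotientGroup.mk_surjective c
  have hA : A ∉ Subgroup.center (SpecialLinearGroup (Fin 2) F) := fun h =>
    ha ((QuotientGroup.eq_one_iff A).mpr h)
  have hB : B ∉ Subgroup.center (SpecialLinearGroup (Fin 2) F) := fun h =>
    hb ((QuotientGroup.eq_one_iff B).mpr h)
  obtain ⟨hA', hA10⟩ := exists_conj_lower_ne_zero A hA
  obtain ⟨hB', hB10⟩ := exists_conj_lower_ne_zero B hB
  obtain ⟨β, γ, hquad⟩ := exists_trace_quadratic (hA' * A * hA'⁻¹) (hB' * B * hB'⁻¹)
  apply quadratic_not_two_valued h4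
    (-((((hA' * A * hA'⁻¹ : SpecialLinearGroup (Fin 2) F)) : Matrix (Fin 2) (Fin 2) F) 1 0 *
      (((hB' * B * hB'⁻¹ : SpecialLinearGroup (Fin 2) F)) : Matrix (Fin 2) (Fin 2) F) 1 0)) β γ
    (C₀ : Matrix (Fin 2) (Fin 2) F).trace (neg_ne_zero.mpr (mul_ne_zero hA10 hB10))
  intro x
  rw [← hquad x]
  have hmem : (QuotientGroup.mk (upU x * (hA' * A * hA'⁻¹) * (upU x)⁻¹ * (hB' * B * hB'⁻¹)) :
      Matrix.ProjectiveSpecialLinearGroup (Fin 2) F) ∈
      {g : Matrix.ProjectiveSpecialLinearGroup (Fin 2) F | ∃ u v :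
        Matrix.ProjectiveSpecialLinearGroup (Fin 2) F,
          g = (u * QuotientGroup.mk A * u⁻¹) * (v * QuotientGroup.mk B * v⁻¹)} := by
    refine ⟨QuotientGroup.mk (upU x * hA'), QuotientGroup.mk hB', ?_⟩
    have e : upU x * (hA' * A * hA'⁻¹) * (upU x)⁻¹ * (hB' * B * hB'⁻¹) =
        ((upU x * hA') * A * (upU x * hA')⁻¹) * (hB' * B * hB'⁻¹) := by group
    rw [e]
    rfl
  rw [heq] at hmem
  exact (trace_sq_eq_of_isConj_mk _ _ hmem).symm

end finite

end Cfsg.Agent.Lib.Helper13
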