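/-
helper13: covering `PSL₂(F)` by the square of a semisimple conjugacy class: every non-central
`G ∈ SL₂(F)` is a product `Y * Y'` with prescribed traces, via the surjectivity of the norm form
`u² + s u v + v²`.
-/
import Mathlib
import Cfsg.Agent.Lib.Helper13.PSL2ClassProd
import Cfsg.Agent.Lib.Helper13.SL2Conj
import Cfsg.Agent.Lib.Helper13.PSL2ClassSizeOdd
import Cfsg.Agent.Lib.Helper13.PSL2Spectrum
import Cfsg.Agent.Lib.Helper13.SL2OrderFour

set_option autoImplicit false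

namespace Cfsg.Agent.Lib.Helper13

open Matrix

section general

variable {F : Type*} [Field F]

/-- A non-central element of `SL₂(F)` has a conjugate `[[0, *], [e, s]]` with `e ≠ 0`. -/
theorem exists_conj_normal_form (G : SpecialLinearGroup (Fin 2) F)
    (hG : G ∉ Subgroup.center (SpecialLinearGroup (Fin 2) F)) :
    ∃ h : SpecialLinearGroup (Fin 2) F,
      ((h * G * h⁻¹ : SpecialLinearGroup (Fin 2) F) : Matrix (Fin 2) (Fin 2) F) 1 0 ≠ 0 ∧
      ((h * G * h⁻¹ : SpecialLinearGroup (Fin 2) F) : Matrix (Fin 2) (Fin 2) F) 0 0 = 0 := by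
  obtain ⟨h₁, h10⟩ := exists_conj_lower_ne_zero G hG
  set G₁ := h₁ * G * h₁⁻¹ with hG₁
  set x : F := -((G₁ : Matrix (Fin 2) (Fin 2) F) 0 0) / ((G₁ : Matrix (Fin 2) (Fin 2) F) 1 0) with hx
  refine ⟨upU x * h₁, ?_⟩
  have e : upU x * h₁ * G * (upU x * h₁)⁻¹ = upU x * G₁ * (upU x)⁻¹ := by
    rw [hG₁]; group
  rw [e, conj_val, Matrix.adjugate_fin_two]
  simp only [upU, Matrix.mul_apply, Fin.sum_univ_two, Matrix.of_apply, Matrix.cons_val_zero,
    Matrix.cons_val_one, Matrix.cons_val', Matrix.cons_val_fin_one, Fin.isValue]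
  constructor
  · intro h
    apply h10
    linear_combination h
  · rw [hx]
    field_simp
    ring

/-- The factorisation `G = Y * Y'` with `tr Y = τ`, `tr Y' = ρ` from a point of the quadric. -/
theorem exists_factor_of_quadric (G : SpecialLinearGroup (Fin 2) F)
    (h10 : (G : Matrix (Fin 2) (Fin 2) F) 1 0 ≠ 0) (h00 : (G : Matrix (Fin 2) (Fin 2) F) 0 0 = 0)
    (τ ρ y c : F)
    (hq : y ^ 2 + (G : Matrix (Fin 2) (Fin 2) F) 1 1 * y * c + c ^ 2 - τ * y - ρ * c + 1 = 0) :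
    ∃ Y Y' : SpecialLinearGroup (Fin 2) F, (Y : Matrix (Fin 2) (Fin 2) F).trace = τ ∧
      (Y' : Matrix (Fin 2) (Fin 2) F).trace = ρ ∧ Y * Y' = G := by
  set e := (G : Matrix (Fin 2) (Fin 2) F) 1 0 with he
  set s := (G : Matrix (Fin 2) (Fin 2) F) 1 1 with hs
  have hdetG := G.2
  rw [Matrix.det_fin_two, h00, zero_mul, zero_sub, ← he] at hdetG
  -- `g₀₁ * e = -1`
  set b : F := (c + y * s - ρ) / e with hb
  have hbe : b * e = c + y * s - ρ := by rw [hb]; field_simp
  have hdetY : (!![y, b; e * c, τ - y] : Matrix (Fin 2) (Fin 2) F).det = 1 := by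
    rw [Matrix.det_fin_two]
    simp only [Matrix.of_apply, Matrix.cons_val_zero, Matrix.cons_val_one, Matrix.cons_val',
      Matrix.cons_val_fin_one]
    linear_combination -hq - c * hbe
  set Y : SpecialLinearGroup (Fin 2) F := ⟨!![y, b; e * c, τ - y], hdetY⟩ with hY
  refine ⟨Y, Y⁻¹ * G, ?_, ?_, by group⟩
  · rw [hY, Matrix.trace_fin_two]
    simp
  · have h1 : ((Y⁻¹ * G : SpecialLinearGroup (Fin 2) F) : Matrix (Fin 2) (Fin 2) F) =
        Matrix.adjugate (Y : Matrix (Fin 2) (Fin 2) F) * (G : Matrix (Fin 2) (Fin 2) F) := by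
      have h2 : ((Y⁻¹ * G : SpecialLinearGroup (Fin 2) F) : Matrix (Fin 2) (Fin 2) F) =
        ((Y⁻¹ : SpecialLinearGroup (Fin 2) F) : Matrix (Fin 2) (Fin 2) F) *
          (G : Matrix (Fin 2) (Fin 2) F) := rfl
      rw [h2, Matrix.SpecialLinearGroup.coe_inv]
    rw [h1, Matrix.adjugate_fin_two, Matrix.trace_fin_two]
    simp only [hY, Matrix.mul_apply, Fin.sum_univ_two, Matrix.of_apply, Matrix.cons_val_zero,
      Matrix.cons_val_one, Matrix.cons_val', Matrix.cons_val_fin_one, Fin.isValue]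
    rw [h00, ← he, ← hs]
    linear_combination -hbe + c * hdetG

theorem quadric_neg_two (τ : F) (h2 : (2 : F) ≠ 0) (hτ : τ ≠ 0) :
    ∃ y c : F, y ^ 2 + (-2) * y * c + c ^ 2 - τ * y - τ * c + 1 = 0 := by
  refine ⟨1 / (2 * τ), 1 / (2 * τ), ?_⟩
  field_simp
  ring

theorem quadric_two (τ : F) (h2 : (2 : F) ≠ 0) (hτ : τ ≠ 0) :
    ∃ y c : F, y ^ 2 + 2 * y * c + c ^ 2 - τ * y - (-τ) * c + 1 = 0 := by
  refine ⟨1 / (2 * τ), -1 / (2 * τ), ?_⟩
  field_simp
  ring

theorem mk_zSL_mul (X : SpecialLinearGroup (Fin 2) F) :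
    (QuotientGroup.mk (zSL F * X) : Matrix.ProjectiveSpecialLinearGroup (Fin 2) F) =
      QuotientGroup.mk X := by
  have h : (QuotientGroup.mk (zSL F) : Matrix.ProjectiveSpecialLinearGroup (Fin 2) F) = 1 :=
    (QuotientGroup.eq_one_iff _).mpr zSL_mem_center
  have h1 : (QuotientGroup.mk (zSL F * X) : Matrix.ProjectiveSpecialLinearGroup (Fin 2) F) =
      QuotientGroup.mk (zSL F) * QuotientGroup.mk X := rfl
  rw [h1, h, one_mul]

/-- If `tr X = 0` then the image of `X` in `PSL₂` has order at most `2`. -/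
theorem orderOf_mk_le_two_of_trace_eq_zero (X : SpecialLinearGroup (Fin 2) F)
    (h : (X : Matrix (Fin 2) (Fin 2) F).trace = 0) :
    orderOf (QuotientGroup.mk X : Matrix.ProjectiveSpecialLinearGroup (Fin 2) F) ≤ 2 := by
  have h1 := mul_self_of_trace_eq_zero X h
  have h2 : (QuotientGroup.mk X : Matrix.ProjectiveSpecialLinearGroup (Fin 2) F) ^ 2 = 1 := by
    rw [pow_two]
    have h3 : (QuotientGroup.mk X : Matrix.ProjectiveSpecialLinearGroup (Fin 2) F) *
        QuotientGroup.mk X = QuotientGroup.mk (X * X) := rfl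
    rw [h3, h1]
    exact (QuotientGroup.eq_one_iff _).mpr zSL_mem_center
  exact Nat.le_of_dvd (by norm_num) (orderOf_dvd_of_pow_eq_one h2)

end general

section finite

variable {F : Type*} [Field F] [Fintype F]

theorem quadric_generic (s τ : F) (hs : s ^ 2 ≠ 4) :
    ∃ y c : F, y ^ 2 + s * y * c + c ^ 2 - τ * y - τ * c + 1 = 0 := by
  have h2s : 2 + s ≠ 0 := by
    intro h
    apply hs
    have : s = -2 := by linear_combination h
    rw [this]; ring
  set y₀ : F := τ / (2 + s) with hy₀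
  have hy₀' : (2 + s) * y₀ = τ := by rw [hy₀]; field_simp
  obtain ⟨u, v, huv⟩ := exists_norm_form_eq' s hs (τ * y₀ - 1)
  refine ⟨u + y₀, v + y₀, ?_⟩
  linear_combination huv + (u + v + y₀) * hy₀'

/-- Transfer of a factorisation to a product of two conjugates in `PSL₂`. -/
theorem exists_conj_prod (X G : SpecialLinearGroup (Fin 2) F)
    (hτ : (X : Matrix (Fin 2) (Fin 2) F).trace ^ 2 ≠ 4) (h Y Y' : SpecialLinearGroup (Fin 2) F)
    (hY : (Y : Matrix (Fin 2) (Fin 2) F).trace = (X : Matrix (Fin 2) (Fin 2) F).trace)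
    (hY' : (Y' : Matrix (Fin 2) (Fin 2) F).trace = (X : Matrix (Fin 2) (Fin 2) F).trace ∨
      (Y' : Matrix (Fin 2) (Fin 2) F).trace = -(X : Matrix (Fin 2) (Fin 2) F).trace)
    (hG : Y * Y' = h * G * h⁻¹) :
    ∃ u v : Matrix.ProjectiveSpecialLinearGroup (Fin 2) F,
      (QuotientGroup.mk G : Matrix.ProjectiveSpecialLinearGroup (Fin 2) F) =
        (u * QuotientGroup.mk X * u⁻¹) * (v * QuotientGroup.mk X * v⁻¹) := by
  obtain ⟨k, hk⟩ := isConj_iff.mp (isConj_of_trace_eq X Y hY.symm hτ)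
  have hG' : G = h⁻¹ * (Y * Y') * h := by rw [hG]; group
  rcases hY' with hY' | hY'
  · obtain ⟨k', hk'⟩ := isConj_iff.mp (isConj_of_trace_eq X Y' hY'.symm hτ)
    refine ⟨QuotientGroup.mk (h⁻¹ * k), QuotientGroup.mk (h⁻¹ * k'), ?_⟩
    have e : G = ((h⁻¹ * k) * X * (h⁻¹ * k)⁻¹) * ((h⁻¹ * k') * X * (h⁻¹ * k')⁻¹) := by
      rw [hG', ← hk, ← hk']; group
    conv_lhs => rw [e]
    rfl
  · have htr : ((zSL F * X : SpecialLinearGroup (Fin 2) F) : Matrix (Fin 2) (Fin 2) F).trace =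
        (Y' : Matrix (Fin 2) (Fin 2) F).trace := by
      rw [trace_zSL_mul, hY']
    have hτ' : ((zSL F * X : SpecialLinearGroup (Fin 2) F) : Matrix (Fin 2) (Fin 2) F).trace ^ 2 ≠ 4 := by
      rw [trace_zSL_mul, neg_sq]; exact hτ
    obtain ⟨k', hk'⟩ := isConj_iff.mp (isConj_of_trace_eq (zSL F * X) Y' htr hτ')
    refine ⟨QuotientGroup.mk (h⁻¹ * k), QuotientGroup.mk (h⁻¹ * k'), ?_⟩
    have e : G = ((h⁻¹ * k) * X * (h⁻¹ * k)⁻¹) * ((h⁻¹ * k') * (zSL F * X) * (h⁻¹ * k')⁻¹) := by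
      rw [hG', ← hk, ← hk']; group
    conv_lhs => rw [e]
    have e2 : (QuotientGroup.mk (((h⁻¹ * k) * X * (h⁻¹ * k)⁻¹) *
        ((h⁻¹ * k') * (zSL F * X) * (h⁻¹ * k')⁻¹)) : Matrix.ProjectiveSpecialLinearGroup (Fin 2) F) =
        (QuotientGroup.mk (h⁻¹ * k) * QuotientGroup.mk X * (QuotientGroup.mk (h⁻¹ * k))⁻¹) *
        (QuotientGroup.mk (h⁻¹ * k') * QuotientGroup.mk (zSL F * X) *
          (QuotientGroup.mk (h⁻¹ * k'))⁻¹) := rfl
    rw [e2, mk_zSL_mul]

/-- In odd characteristic every non-central `G` in normal form is `Y * Y'` with `tr Y = τ`,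
`tr Y' = ± τ`, for any `τ ≠ 0`. -/
theorem exists_factor_odd (h2 : (2 : F) ≠ 0) (G : SpecialLinearGroup (Fin 2) F)
    (h10 : (G : Matrix (Fin 2) (Fin 2) F) 1 0 ≠ 0) (h00 : (G : Matrix (Fin 2) (Fin 2) F) 0 0 = 0)
    (τ : F) (hτ0 : τ ≠ 0) :
    ∃ Y Y' : SpecialLinearGroup (Fin 2) F, (Y : Matrix (Fin 2) (Fin 2) F).trace = τ ∧
      ((Y' : Matrix (Fin 2) (Fin 2) F).trace = τ ∨ (Y' : Matrix (Fin 2) (Fin 2) F).trace = -τ) ∧
      Y * Y' = G := by
  by_cases hs : (G : Matrix (Fin 2) (Fin 2) F) 1 1 ^ 2 = 4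
  · have hs' : ((G : Matrix (Fin 2) (Fin 2) F) 1 1 - 2) * ((G : Matrix (Fin 2) (Fin 2) F) 1 1 + 2) = 0 := by
      linear_combination hs
    rcases mul_eq_zero.mp hs' with h | h
    · have hs2 : (G : Matrix (Fin 2) (Fin 2) F) 1 1 = 2 := by linear_combination h
      obtain ⟨y, c, hq⟩ := quadric_two τ h2 hτ0
      rw [← hs2] at hq
      obtain ⟨Y, Y', h1, h2', h3⟩ := exists_factor_of_quadric G h10 h00 τ (-τ) y c hq
      exact ⟨Y, Y', h1, Or.inr h2', h3⟩
    · have hs2 : (G : Matrix (Fin 2) (Fin 2) F) 1 1 = -2 := by linear_combination h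
      obtain ⟨y, c, hq⟩ := quadric_neg_two τ h2 hτ0
      rw [← hs2] at hq
      obtain ⟨Y, Y', h1, h2', h3⟩ := exists_factor_of_quadric G h10 h00 τ τ y c hq
      exact ⟨Y, Y', h1, Or.inl h2', h3⟩
  · obtain ⟨y, c, hq⟩ := quadric_generic ((G : Matrix (Fin 2) (Fin 2) F) 1 1) τ hs
    obtain ⟨Y, Y', h1, h2', h3⟩ := exists_factor_of_quadric G h10 h00 τ τ y c hq
    exact ⟨Y, Y', h1, Or.inl h2', h3⟩

/-- **Covering, odd characteristic**: for `x ∈ PSL₂(F)` of order `> 2` prime to `p`, every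
non-identity element is a product of two conjugates of `x`. -/
theorem covering_odd (p : ℕ) [Fact p.Prime] [CharP F p] (hp : p ≠ 2)
    (x : Matrix.ProjectiveSpecialLinearGroup (Fin 2) F) (hx2 : 2 < orderOf x)
    (hxp : ¬ p ∣ orderOf x) :
    ∀ g : Matrix.ProjectiveSpecialLinearGroup (Fin 2) F, g ≠ 1 →
      ∃ u v : Matrix.ProjectiveSpecialLinearGroup (Fin 2) F,
        g = (u * x * u⁻¹) * (v * x * v⁻¹) := by
  intro g hg
  obtain ⟨X, rfl⟩ := QuotientGroup.mk_surjective x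
  obtain ⟨G, rfl⟩ := QuotientGroup.mk_surjective g
  have h2 : (2 : F) ≠ 0 := by
    intro h
    have h' : ((2 : ℕ) : F) = 0 := by exact_mod_cast h
    have hdvd := (CharP.cast_eq_zero_iff F p 2).mp h'
    exact hp ((Nat.prime_dvd_prime_iff_eq Fact.out Nat.prime_two).mp hdvd)
  have hτ0 : (X : Matrix (Fin 2) (Fin 2) F).trace ≠ 0 := by
    intro h
    have := orderOf_mk_le_two_of_trace_eq_zero X h
    omega
  have hτ4 : (X : Matrix (Fin 2) (Fin 2) F).trace ^ 2 ≠ 4 := by
    intro h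
    obtain ⟨e, he, hte⟩ := (trace_sq_eq_four_iff _).mp h
    rw [Matrix.trace_fin_two] at hte
    have hpow := pow_char_of_trace p (X : Matrix (Fin 2) (Fin 2) F) X.2 e he hte
    have hcen : X ^ p ∈ Subgroup.center (SpecialLinearGroup (Fin 2) F) := by
      apply mem_center_of_scalar (X ^ p) (e ^ p)
      rw [Matrix.SpecialLinearGroup.coe_pow]
      exact hpow
    have hxp1 : (QuotientGroup.mk X : Matrix.ProjectiveSpecialLinearGroup (Fin 2) F) ^ p = 1 := by
      have h3 : (QuotientGroup.mk X : Matrix.ProjectiveSpecialLinearGroup (Fin 2) F) ^ p =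
          QuotientGroup.mk (X ^ p) := rfl
      rw [h3]
      exact (QuotientGroup.eq_one_iff _).mpr hcen
    have hdvd := orderOf_dvd_of_pow_eq_one hxp1
    rcases (Nat.dvd_prime Fact.out).mp hdvd with h1 | h1
    · omega
    · exact hxp (by rw [h1])
  have hGc : G ∉ Subgroup.center (SpecialLinearGroup (Fin 2) F) := fun h =>
    hg ((QuotientGroup.eq_one_iff G).mpr h)
  obtain ⟨h, h10, h00⟩ := exists_conj_normal_form G hGc
  obtain ⟨Y, Y', hY, hY', hprod⟩ := exists_factor_odd h2 (h * G * h⁻¹) h10 h00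
    (X : Matrix (Fin 2) (Fin 2) F).trace hτ0
  exact exists_conj_prod X G hτ4 h Y Y' hY hY' hprod

/-- **Covering, characteristic 2**: for `x ∈ PSL₂(F)` of order `> 2` not dividing `q + 1`, every
non-identity element is a product of two conjugates of `x`. -/
theorem covering_even [CharP F 2]
    (x : Matrix.ProjectiveSpecialLinearGroup (Fin 2) F) (hx2 : 2 < orderOf x)
    (hxq : ¬ orderOf x ∣ Fintype.card F + 1) :
    ∀ g : Matrix.ProjectiveSpecialLinearGroup (Fin 2) F, g ≠ 1 →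
      ∃ u v : Matrix.ProjectiveSpecialLinearGroup (Fin 2) F,
        g = (u * x * u⁻¹) * (v * x * v⁻¹) := by
  intro g hg
  obtain ⟨X, rfl⟩ := QuotientGroup.mk_surjective x
  obtain ⟨G, rfl⟩ := QuotientGroup.mk_surjective g
  have h2F : (2 : F) = 0 := by
    have h' : ((2 : ℕ) : F) = 0 := (CharP.cast_eq_zero_iff F 2 2).mpr dvd_rfl
    exact_mod_cast h'
  have h4F : (4 : F) = 0 := by
    have : (4 : F) = 2 * 2 := by norm_num
    rw [this, h2F, zero_mul]
  have hτ0 : (X : Matrix (Fin 2) (Fin 2) F).trace ≠ 0 := by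
    intro h
    have := orderOf_mk_le_two_of_trace_eq_zero X h
    omega
  have hτ4 : (X : Matrix (Fin 2) (Fin 2) F).trace ^ 2 ≠ 4 := by
    rw [h4F]
    exact pow_ne_zero 2 hτ0
  -- the characteristic polynomial of `X` has a root in `F`
  have hroot : ∃ z : F, z ^ 2 - (X : Matrix (Fin 2) (Fin 2) F).trace * z + 1 = 0 := by
    by_contra hno
    push Not at hno
    set tau := (X : Matrix (Fin 2) (Fin 2) F) 0 0 + (X : Matrix (Fin 2) (Fin 2) F) 1 1 with htau
    have htr : (X : Matrix (Fin 2) (Fin 2) F).trace = tau := Matrix.trace_fin_two _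
    obtain ⟨lam, mu, h1, h2⟩ := exists_eigen_pair tau
    have hne : lam ≠ mu := eigen_ne_of_trace tau (by rw [← htr]; exact hτ4) lam mu h1 h2
    have hlam0 : lam ≠ 0 := by
      rintro rfl
      rw [zero_mul] at h1
      exact zero_ne_one h1
    have hq1 : 1 ≤ Fintype.card F := Fintype.card_pos
    rcases eigen_frobenius 2 tau lam mu h1 h2 with hfr | hfr
    · -- `lam ∈ F` is a root
      have hlamq : lam ^ Fintype.card F = lam := by
        have : lam ^ Fintype.card F = lam ^ (Fintype.card F - 1) * lam := by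
          rw [← pow_succ, Nat.sub_add_cancel hq1]
        rw [this, hfr, one_mul]
      obtain ⟨a, ha⟩ := mem_range_of_pow_card_eq (F := F) lam hlamq
      apply hno a
      apply (algebraMap F (AlgebraicClosure F)).injective
      rw [map_zero, map_add, map_sub, map_pow, map_mul, map_one, ha, htr, ← h2]
      linear_combination -h1
    · have hmu : mu ^ (Fintype.card F + 1) = 1 := by
        have h3 : (lam * mu) ^ (Fintype.card F + 1) = 1 := by rw [h1, one_pow]
        rw [mul_pow, hfr, one_mul] at h3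
        exact h3
      have hpow := (pow_eq_scalar_iff_eigen (X : Matrix (Fin 2) (Fin 2) F) X.2 lam mu h1 h2 hne
        (Fintype.card F + 1) 1).mpr ⟨by rw [hfr, map_one], by rw [hmu, map_one]⟩
      have hX1 : X ^ (Fintype.card F + 1) = 1 := by
        apply Subtype.ext
        rw [Matrix.SpecialLinearGroup.coe_pow, hpow, one_smul]
        rfl
      apply hxq
      apply orderOf_dvd_of_pow_eq_one
      have h3 : (QuotientGroup.mk X : Matrix.ProjectiveSpecialLinearGroup (Fin 2) F) ^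
          (Fintype.card F + 1) = QuotientGroup.mk (X ^ (Fintype.card F + 1)) := rfl
      rw [h3, hX1]
      rfl
  obtain ⟨z, hz⟩ := hroot
  have hGc : G ∉ Subgroup.center (SpecialLinearGroup (Fin 2) F) := fun h =>
    hg ((QuotientGroup.eq_one_iff G).mpr h)
  obtain ⟨h, h10, h00⟩ := exists_conj_normal_form G hGc
  obtain ⟨Y, Y', hY, hY', hprod⟩ := exists_factor_of_quadric (h * G * h⁻¹) h10 h00
    (X : Matrix (Fin 2) (Fin 2) F).trace (X : Matrix (Fin 2) (Fin 2) F).trace z 0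
    (by linear_combination hz)
  exact exists_conj_prod X G hτ4 h Y Y' hY (Or.inl hY') hprod

end finite

end Cfsg.Agent.Lib.Helper13
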