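/-
helper13: a non-trivial group law fails in `PSL₂(F)` once the finite field `F` is large enough.
Letters are sent to conjugates of a diagonal torus element `diag(l, l⁻¹)`; the value of a reduced
word is a matrix of Laurent polynomials in `l` whose leading coefficient is a product of rank-one
idempotents, non-zero because the word is reduced.
-/
import Mathlib

set_option autoImplicit false

namespace Cfsg.Agent.Lib.Helper13

open Matrix Polynomial

section spread

variable {F : Type*} [Field F] [Fintype F]

/-- Elements `c i` (`i ∈ S`) whose pairwise differences avoid `0, 1, -1`. -/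
theorem exists_spread (S : Finset ℕ) (h : 3 * S.card < Fintype.card F) :
    ∃ c : ℕ → F, ∀ i ∈ S, ∀ j ∈ S, i ≠ j →
      c j - c i ≠ 0 ∧ c j - c i ≠ 1 ∧ c j - c i ≠ -1 := by
  classical
  induction S using Finset.induction_on with
  | empty => exact ⟨fun _ => 0, by simp⟩
  | insert k S hk ih =>
    rw [Finset.card_insert_of_notMem hk] at h
    obtain ⟨c, hc⟩ := ih (by omega)
    set T : Finset F := S.image c ∪ S.image (fun i => c i + 1) ∪ S.image (fun i => c i - 1) with hT
    have hTcard : T.card < Fintype.card F := by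
      have h1 : T.card ≤ S.card + S.card + S.card := by
        refine (Finset.card_union_le _ _).trans ?_
        refine add_le_add ((Finset.card_union_le _ _).trans ?_) Finset.card_image_le
        exact add_le_add Finset.card_image_le Finset.card_image_le
      omega
    obtain ⟨x, hx⟩ : ∃ x : F, x ∉ T := by
      by_contra hall
      push Not at hall
      have : T = Finset.univ := Finset.eq_univ_iff_forall.mpr hall
      rw [this, Finset.card_univ] at hTcard
      exact lt_irrefl _ hTcard
    have hx1 : ∀ i ∈ S, x ≠ c i := by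
      intro i hi hxe
      apply hx
      rw [hT]
      exact Finset.mem_union_left _ (Finset.mem_union_left _ (Finset.mem_image.mpr ⟨i, hi, hxe.symm⟩))
    have hx2 : ∀ i ∈ S, x ≠ c i + 1 := by
      intro i hi hxe
      apply hx
      rw [hT]
      exact Finset.mem_union_left _ (Finset.mem_union_right _ (Finset.mem_image.mpr ⟨i, hi, hxe.symm⟩))
    have hx3 : ∀ i ∈ S, x ≠ c i - 1 := by
      intro i hi hxe
      apply hx
      rw [hT]
      exact Finset.mem_union_right _ (Finset.mem_image.mpr ⟨i, hi, hxe.symm⟩)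
    refine ⟨Function.update c k x, ?_⟩
    intro i hi j hj hij
    rw [Finset.mem_insert] at hi hj
    rcases hi with rfl | hi
    · rcases hj with rfl | hj
      · exact absurd rfl hij
      · have hjk : j ≠ i := fun e => hij e.symm
        rw [Function.update_self, Function.update_of_ne hjk]
        refine ⟨?_, ?_, ?_⟩
        · intro e
          exact hx1 j hj (by linear_combination -e)
        · intro e
          exact hx3 j hj (by linear_combination -e)
        · intro e
          exact hx2 j hj (by linear_combination -e)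
    · have hik : i ≠ k := fun e => hk (e ▸ hi)
      rcases hj with rfl | hj
      · rw [Function.update_self, Function.update_of_ne hik]
        refine ⟨?_, ?_, ?_⟩
        · intro e
          exact hx1 i hi (by linear_combination e)
        · intro e
          exact hx2 i hi (by linear_combination e)
        · intro e
          exact hx3 i hi (by linear_combination e)
      · have hjk : j ≠ k := fun e => hk (e ▸ hj)
        rw [Function.update_of_ne hjk, Function.update_of_ne hik]
        exact hc i hi j hj hij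

end spread

section idempotents

variable {F : Type*} [Field F]

/-- Column vector attached to a letter. -/
def lawU (c : ℕ → F) (a : ℕ × Bool) : Fin 2 → F :=
  if a.2 then ![1 + c a.1, 1] else ![c a.1, 1]

/-- Row vector attached to a letter. -/
def lawV (c : ℕ → F) (a : ℕ × Bool) : Fin 2 → F :=
  if a.2 then ![1, -c a.1] else ![-1, 1 + c a.1]

/-- The rank-one idempotent attached to a letter. -/
def lawP (c : ℕ → F) (a : ℕ × Bool) : Matrix (Fin 2) (Fin 2) F :=
  Matrix.vecMulVec (lawU c a) (lawV c a)

theorem lawV_ne_zero (c : ℕ → F) (a : ℕ × Bool) : lawV c a ≠ 0 := by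
  intro h
  have := congr_fun h 0
  unfold lawV at this
  split_ifs at this <;> simp at this

theorem lawV_dot_lawU_self (c : ℕ → F) (a : ℕ × Bool) : lawV c a ⬝ᵥ lawU c a = 1 := by
  unfold lawV lawU
  split_ifs <;> simp [dotProduct, Fin.sum_univ_two]

/-- The adjacency scalar of a reduced word is non-zero. -/
theorem lawV_dot_lawU_ne_zero (c : ℕ → F) (a b : ℕ × Bool) (hred : a.1 = b.1 → a.2 = b.2)
    (hc : a.1 ≠ b.1 → c b.1 - c a.1 ≠ 0 ∧ c b.1 - c a.1 ≠ 1 ∧ c b.1 - c a.1 ≠ -1) :
    lawV c a ⬝ᵥ lawU c b ≠ 0 := by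
  obtain ⟨i, s⟩ := a
  obtain ⟨j, t⟩ := b
  simp only at hred hc
  by_cases hij : i = j
  · subst hij
    have hst := hred rfl
    subst hst
    rw [lawV_dot_lawU_self]
    exact one_ne_zero
  · obtain ⟨h0, h1, h2⟩ := hc hij
    unfold lawV lawU
    cases s <;> cases t <;> simp [dotProduct, Fin.sum_univ_two]
    · intro e
      exact h1 (by linear_combination -e)
    · intro e
      exact h0 (by linear_combination -e)
    · intro e
      exact h0 (by linear_combination e)
    · intro e
      exact h2 (by linear_combination e)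

theorem vecMul_lawP (c : ℕ → F) (a : ℕ × Bool) (v : Fin 2 → F) :
    v ᵥ* lawP c a = (v ⬝ᵥ lawU c a) • lawV c a := by
  ext j
  simp only [lawP, Matrix.vecMul, dotProduct, Matrix.vecMulVec_apply, Pi.smul_apply, smul_eq_mul,
    Finset.sum_mul]
  apply Finset.sum_congr rfl
  intro i _
  ring

theorem lawP_add (c : ℕ → F) (i : ℕ) : lawP c (i, true) + lawP c (i, false) = 1 := by
  ext r s
  fin_cases r <;> fin_cases s <;> simp [lawP, lawU, lawV] <;> ring

/-- The matrix of a letter: `l • P_a + l⁻¹ • P_{a⁻¹}`. -/
def letterMat (c : ℕ → F) (l : Fˣ) (a : ℕ × Bool) : Matrix (Fin 2) (Fin 2) F :=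
  (l : F) • lawP c a + ((l⁻¹ : Fˣ) : F) • lawP c (a.1, !a.2)

theorem det_letterMat (c : ℕ → F) (l : Fˣ) (a : ℕ × Bool) : (letterMat c l a).det = 1 := by
  obtain ⟨i, s⟩ := a
  have hl0 : (l : F) ≠ 0 := l.ne_zero
  rw [Matrix.det_fin_two]
  cases s <;>
    simp [letterMat, lawP, lawU, lawV] <;>
    field_simp <;> ring

/-- The generator images. -/
def lawT (c : ℕ → F) (l : Fˣ) (i : ℕ) : Matrix.SpecialLinearGroup (Fin 2) F :=
  ⟨letterMat c l (i, true), det_letterMat c l (i, true)⟩

theorem lawT_val (c : ℕ → F) (l : Fˣ) (i : ℕ) :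
    ((lawT c l i : Matrix.SpecialLinearGroup (Fin 2) F) : Matrix (Fin 2) (Fin 2) F) =
      letterMat c l (i, true) := rfl

theorem lawT_inv_val (c : ℕ → F) (l : Fˣ) (i : ℕ) :
    (((lawT c l i)⁻¹ : Matrix.SpecialLinearGroup (Fin 2) F) : Matrix (Fin 2) (Fin 2) F) =
      letterMat c l (i, false) := by
  rw [Matrix.SpecialLinearGroup.coe_inv, lawT_val, Matrix.adjugate_fin_two]
  ext r s
  fin_cases r <;> fin_cases s <;>
    simp [letterMat, lawP, lawU, lawV] <;> ring

theorem cond_lawT_val (c : ℕ → F) (l : Fˣ) (a : ℕ × Bool) :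
    ((cond a.2 (lawT c l a.1) (lawT c l a.1)⁻¹ : Matrix.SpecialLinearGroup (Fin 2) F) :
      Matrix (Fin 2) (Fin 2) F) = letterMat c l a := by
  obtain ⟨i, s⟩ := a
  cases s
  · exact lawT_inv_val c l i
  · exact lawT_val c l i

/-- The matrix of a word. -/
def wordMat (c : ℕ → F) (l : Fˣ) (L : List (ℕ × Bool)) : Matrix (Fin 2) (Fin 2) F :=
  (L.map (letterMat c l)).prod

theorem prod_cond_lawT_val (c : ℕ → F) (l : Fˣ) (L : List (ℕ × Bool)) :
    (((L.map fun x => cond x.2 (lawT c l x.1) (lawT c l x.1)⁻¹).prod :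
      Matrix.SpecialLinearGroup (Fin 2) F) : Matrix (Fin 2) (Fin 2) F) = wordMat c l L := by
  induction L with
  | nil => simp [wordMat]
  | cons a L ih =>
    rw [List.map_cons, List.prod_cons, Matrix.SpecialLinearGroup.coe_mul, ih, cond_lawT_val]
    simp [wordMat]

end idempotents

section polys

variable {F : Type*} [Field F]

/-- The polynomial matrix of a letter: `X² P_a + P_{a⁻¹}`. -/
noncomputable def letterPoly (c : ℕ → F) (a : ℕ × Bool) : Matrix (Fin 2) (Fin 2) F[X] :=
  Matrix.of fun r s => (X : F[X]) ^ 2 * C (lawP c a r s) + C (lawP c (a.1, !a.2) r s)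

/-- The polynomial matrix of a word. -/
noncomputable def wordPoly (c : ℕ → F) (L : List (ℕ × Bool)) : Matrix (Fin 2) (Fin 2) F[X] :=
  (L.map (letterPoly c)).prod

/-- The leading coefficient matrix of a word. -/
def wordLead (c : ℕ → F) (L : List (ℕ × Bool)) : Matrix (Fin 2) (Fin 2) F :=
  (L.map (lawP c)).prod

theorem letterPoly_eval (c : ℕ → F) (l : Fˣ) (a : ℕ × Bool) :
    (letterPoly c a).map (Polynomial.evalRingHom (l : F)) = (l : F) • letterMat c l a := by
  have hl0 : (l : F) ≠ 0 := l.ne_zero
  ext r s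
  simp only [letterPoly, letterMat, Matrix.map_apply, Matrix.of_apply, Polynomial.coe_evalRingHom,
    Polynomial.eval_add, Polynomial.eval_mul, Polynomial.eval_pow, Polynomial.eval_X,
    Polynomial.eval_C, Matrix.smul_apply, Matrix.add_apply, smul_eq_mul, Units.val_inv_eq_inv_val]
  field_simp

theorem wordPoly_eval (c : ℕ → F) (l : Fˣ) (L : List (ℕ × Bool)) :
    (wordPoly c L).map (Polynomial.evalRingHom (l : F)) = (l : F) ^ L.length • wordMat c l L := by
  induction L with
  | nil =>
    simp only [wordPoly, wordMat, List.map_nil, List.prod_nil, List.length_nil, pow_zero, one_smul]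
    exact Matrix.map_one _ (map_zero _) (map_one _)
  | cons a L ih =>
    have h1 : wordPoly c (a :: L) = letterPoly c a * wordPoly c L := by
      simp [wordPoly]
    have h2 : wordMat c l (a :: L) = letterMat c l a * wordMat c l L := by
      simp [wordMat]
    rw [h1, h2, Matrix.map_mul, ih, letterPoly_eval, List.length_cons, pow_succ', Matrix.smul_mul,
      Matrix.mul_smul, smul_smul]

theorem letterPoly_natDegree_le (c : ℕ → F) (a : ℕ × Bool) (r s : Fin 2) :
    (letterPoly c a r s).natDegree ≤ 2 := by
  simp only [letterPoly, Matrix.of_apply]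
  refine (Polynomial.natDegree_add_le _ _).trans (max_le ?_ ?_)
  · refine (Polynomial.natDegree_mul_le).trans ?_
    rw [Polynomial.natDegree_C, add_zero]
    exact (Polynomial.natDegree_pow_le).trans (by rw [Polynomial.natDegree_X])
  · rw [Polynomial.natDegree_C]
    omega

theorem letterPoly_coeff_two (c : ℕ → F) (a : ℕ × Bool) (r s : Fin 2) :
    (letterPoly c a r s).coeff 2 = lawP c a r s := by
  simp only [letterPoly, Matrix.of_apply, Polynomial.coeff_add, Polynomial.coeff_C,
    Polynomial.coeff_X_pow_mul']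
  simp

theorem wordPoly_spec (c : ℕ → F) (L : List (ℕ × Bool)) : ∀ r s : Fin 2,
    (wordPoly c L r s).natDegree ≤ 2 * L.length ∧
      (wordPoly c L r s).coeff (2 * L.length) = wordLead c L r s := by
  induction L with
  | nil =>
    intro r s
    simp only [wordPoly, wordLead, List.map_nil, List.prod_nil, List.length_nil, mul_zero]
    rw [Matrix.one_apply, Matrix.one_apply]
    split_ifs <;> simp
  | cons a L ih =>
    intro r s
    have h1 : wordPoly c (a :: L) = letterPoly c a * wordPoly c L := by
      simp [wordPoly]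
    have h2 : wordLead c (a :: L) = lawP c a * wordLead c L := by
      simp [wordLead]
    have hlen : 2 * (a :: L).length = 2 + 2 * L.length := by
      rw [List.length_cons]; ring
    rw [h1, h2, hlen, Matrix.mul_apply, Matrix.mul_apply]
    constructor
    · apply Polynomial.natDegree_sum_le_of_forall_le
      intro t _
      exact Polynomial.natDegree_mul_le_of_le (letterPoly_natDegree_le c a r t) (ih t s).1
    · rw [Polynomial.finsetSum_coeff]
      apply Finset.sum_congr rfl
      intro t _
      rw [Polynomial.coeff_mul_add_eq_of_natDegree_le (letterPoly_natDegree_le c a r t) (ih t s).1,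
        letterPoly_coeff_two, (ih t s).2]

theorem vecMul_wordLead_ne_zero (c : ℕ → F) (S : Finset ℕ)
    (hc : ∀ i ∈ S, ∀ j ∈ S, i ≠ j → c j - c i ≠ 0 ∧ c j - c i ≠ 1 ∧ c j - c i ≠ -1) :
    ∀ (L : List (ℕ × Bool)) (a : ℕ × Bool), FreeGroup.IsReduced (a :: L) →
      (∀ x ∈ a :: L, x.1 ∈ S) → lawV c a ᵥ* wordLead c L ≠ 0 := by
  intro L
  induction L with
  | nil =>
    intro a _ _
    simp only [wordLead, List.map_nil, List.prod_nil, Matrix.vecMul_one]
    exact lawV_ne_zero c a
  | cons b L ih =>
    intro a hred hmem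
    have h2 : wordLead c (b :: L) = lawP c b * wordLead c L := by
      simp [wordLead]
    rw [FreeGroup.isReduced_cons_cons] at hred
    have ha : a.1 ∈ S := hmem a (List.mem_cons_self)
    have hb : b.1 ∈ S := hmem b (List.mem_cons_of_mem _ List.mem_cons_self)
    have hadj : lawV c a ⬝ᵥ lawU c b ≠ 0 :=
      lawV_dot_lawU_ne_zero c a b hred.1 (fun hne => hc a.1 ha b.1 hb hne)
    rw [h2, ← Matrix.vecMul_vecMul, vecMul_lawP, Matrix.smul_vecMul]
    exact smul_ne_zero hadj (ih b hred.2 (fun x hx => hmem x (List.mem_cons_of_mem _ hx)))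

theorem wordLead_ne_zero (c : ℕ → F) (S : Finset ℕ)
    (hc : ∀ i ∈ S, ∀ j ∈ S, i ≠ j → c j - c i ≠ 0 ∧ c j - c i ≠ 1 ∧ c j - c i ≠ -1)
    (L : List (ℕ × Bool)) (hL : L ≠ []) (hred : FreeGroup.IsReduced L)
    (hmem : ∀ x ∈ L, x.1 ∈ S) : wordLead c L ≠ 0 := by
  obtain ⟨a, L', rfl⟩ := List.exists_cons_of_ne_nil hL
  intro h0
  have h1 := vecMul_wordLead_ne_zero c S hc L' a hred hmem
  apply h1
  have h2 : wordLead c (a :: L') = lawP c a * wordLead c L' := by
    simp [wordLead]
  have h3 : lawV c a ᵥ* wordLead c (a :: L') = lawV c a ᵥ* wordLead c L' := by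
    rw [h2, ← Matrix.vecMul_vecMul, vecMul_lawP, lawV_dot_lawU_self, one_smul]
  rw [← h3, h0, Matrix.vecMul_zero]

end polys

section main

variable {F : Type*} [Field F] [Fintype F]

omit [Fintype F] in
theorem lift_mk_lawT (c : ℕ → F) (l : Fˣ) (w : FreeGroup ℕ) :
    FreeGroup.lift (fun i => (QuotientGroup.mk (lawT c l i) :
      Matrix.ProjectiveSpecialLinearGroup (Fin 2) F)) w =
      (QuotientGroup.mk (FreeGroup.lift (lawT c l) w) :
        Matrix.ProjectiveSpecialLinearGroup (Fin 2) F) := by
  have h : FreeGroup.lift (fun i => (QuotientGroup.mk (lawT c l i) :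
      Matrix.ProjectiveSpecialLinearGroup (Fin 2) F)) =
      (QuotientGroup.mk' (Subgroup.center (Matrix.SpecialLinearGroup (Fin 2) F))).comp
        (FreeGroup.lift (lawT c l)) := by
    apply FreeGroup.ext_hom
    intro i
    simp
  rw [h]
  rfl

omit [Fintype F] in
theorem lift_lawT_val (c : ℕ → F) (l : Fˣ) (w : FreeGroup ℕ) :
    ((FreeGroup.lift (lawT c l) w : Matrix.SpecialLinearGroup (Fin 2) F) :
      Matrix (Fin 2) (Fin 2) F) = wordMat c l w.toWord := by
  conv_lhs => rw [← FreeGroup.mk_toWord (x := w)]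
  rw [FreeGroup.lift_mk]
  exact prod_cond_lawT_val c l _

/-- A non-trivial word is not a law of `PSL₂(F)` for `F` large. -/
theorem exists_lift_ne_one (w : FreeGroup ℕ) (hw : w ≠ 1)
    (hN : 4 * w.toWord.length + 2 ≤ Fintype.card F) :
    ∃ f : ℕ → Matrix.ProjectiveSpecialLinearGroup (Fin 2) F, FreeGroup.lift f w ≠ 1 := by
  classical
  set L := w.toWord with hL
  set n := L.length with hn
  have hLne : L ≠ [] := fun h => hw (FreeGroup.toWord_eq_nil_iff.mp h)
  have hn1 : 1 ≤ n := by
    rw [hn]
    exact List.length_pos_of_ne_nil hLne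
  have hred : FreeGroup.IsReduced L := FreeGroup.isReduced_toWord
  set S : Finset ℕ := (L.map Prod.fst).toFinset with hS
  have hScard : S.card ≤ n := by
    refine (List.toFinset_card_le _).trans ?_
    rw [List.length_map]
  have hmem : ∀ x ∈ L, x.1 ∈ S := by
    intro x hx
    rw [hS, List.mem_toFinset]
    exact List.mem_map_of_mem hx
  obtain ⟨c, hc⟩ := exists_spread (F := F) S (by omega)
  have hlead := wordLead_ne_zero c S hc L hLne hred hmem
  obtain ⟨r, s, hrs⟩ : ∃ r s, wordLead c L r s ≠ 0 := by
    by_contra hall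
    push Not at hall
    apply hlead
    ext r s
    exact hall r s
  obtain ⟨hdeg, hcoeff⟩ := wordPoly_spec c L r s
  set p := wordPoly c L r s with hp
  set δ : F := (1 : Matrix (Fin 2) (Fin 2) F) r s with hδ
  have hXn : ((X : F[X]) ^ n).coeff (2 * n) = 0 := by
    rw [Polynomial.coeff_X_pow, if_neg (by omega)]
  have hq1 : (p - C δ * X ^ n).coeff (2 * n) ≠ 0 := by
    rw [Polynomial.coeff_sub, Polynomial.coeff_C_mul, hXn, mul_zero, sub_zero, hcoeff]
    exact hrs
  have hq2 : (p + C δ * X ^ n).coeff (2 * n) ≠ 0 := by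
    rw [Polynomial.coeff_add, Polynomial.coeff_C_mul, hXn, mul_zero, add_zero, hcoeff]
    exact hrs
  have hq1' : p - C δ * X ^ n ≠ 0 := fun h => hq1 (by rw [h, Polynomial.coeff_zero])
  have hq2' : p + C δ * X ^ n ≠ 0 := fun h => hq2 (by rw [h, Polynomial.coeff_zero])
  have hdegX : (C δ * (X : F[X]) ^ n).natDegree ≤ 2 * n := by
    refine (Polynomial.natDegree_C_mul_le _ _).trans ?_
    refine (Polynomial.natDegree_X_pow_le _).trans ?_
    omega
  have hd1 : (p - C δ * X ^ n).natDegree ≤ 2 * n :=
    (Polynomial.natDegree_sub_le _ _).trans (max_le hdeg hdegX)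
  have hd2 : (p + C δ * X ^ n).natDegree ≤ 2 * n :=
    (Polynomial.natDegree_add_le _ _).trans (max_le hdeg hdegX)
  set Q := (p - C δ * X ^ n) * (p + C δ * X ^ n) with hQ
  have hQ0 : Q ≠ 0 := mul_ne_zero hq1' hq2'
  have hQdeg : Q.natDegree ≤ 4 * n := by
    refine (Polynomial.natDegree_mul_le).trans ?_
    omega
  have hroots : Q.roots.toFinset.card ≤ 4 * n :=
    (Multiset.toFinset_card_le _).trans ((Polynomial.card_roots' Q).trans hQdeg)
  obtain ⟨l, hl⟩ : ∃ l : Fˣ, (l : F) ∉ Q.roots.toFinset := by
    by_contra hall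
    push Not at hall
    have hsub : (Finset.univ.image (Units.val : Fˣ → F)) ⊆ Q.roots.toFinset := by
      intro x hx
      obtain ⟨u, _, rfl⟩ := Finset.mem_image.mp hx
      exact hall u
    have hcard := Finset.card_le_card hsub
    rw [Finset.card_image_of_injective _ Units.val_injective, Finset.card_univ,
      Fintype.card_units] at hcard
    omega
  have hlQ : Q.eval (l : F) ≠ 0 := by
    intro h
    apply hl
    rw [Multiset.mem_toFinset, Polynomial.mem_roots hQ0]
    exact h
  refine ⟨fun i => (QuotientGroup.mk (lawT c l i) :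
    Matrix.ProjectiveSpecialLinearGroup (Fin 2) F), ?_⟩
  rw [lift_mk_lawT]
  intro h1
  rw [QuotientGroup.eq_one_iff, Matrix.SpecialLinearGroup.mem_center_iff] at h1
  obtain ⟨ε, hε, hscal⟩ := h1
  rw [Fintype.card_fin] at hε
  have hεcases : ε = 1 ∨ ε = -1 := by
    have h : (ε - 1) * (ε + 1) = 0 := by linear_combination hε
    rcases mul_eq_zero.mp h with h | h
    · left; linear_combination h
    · right; linear_combination h
  have hval := lift_lawT_val c l w
  have hev := wordPoly_eval c l L
  have hentry : p.eval (l : F) = (l : F) ^ n * (if r = s then ε else 0) := by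
    have h := congr_fun (congr_fun hev r) s
    rw [← hL] at hval
    rw [← hval, ← hscal] at h
    simpa [Matrix.diagonal_apply] using h
  have hδ' : δ = if r = s then 1 else 0 := by
    rw [hδ, Matrix.one_apply]
  apply hlQ
  rw [hQ, Polynomial.eval_mul]
  rcases hεcases with rfl | rfl
  · have : (p - C δ * X ^ n).eval (l : F) = 0 := by
      rw [Polynomial.eval_sub, Polynomial.eval_mul, Polynomial.eval_C, Polynomial.eval_pow,
        Polynomial.eval_X, hentry, hδ']
      ring
    rw [this, zero_mul]
  · have : (p + C δ * X ^ n).eval (l : F) = 0 := by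
      rw [Polynomial.eval_add, Polynomial.eval_mul, Polynomial.eval_C, Polynomial.eval_pow,
        Polynomial.eval_X, hentry, hδ']
      split_ifs <;> ring
    rw [this, mul_zero]

end main

end Cfsg.Agent.Lib.Helper13
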