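/-
helper13: character degrees of `PSL₂(F)` and `SL₂(F)`, `q` odd, `q ≥ 7`, and the degree graph.
-/
import Mathlib
import Cfsg.Agent.Lib.Helper13.SL2OddCount
import Cfsg.Agent.Lib.Helper13.PSL2
import Cfsg.Agent.Lib.Helper13.DegreeSets
import Cfsg.Agent.Lib.Lead.CharMore

set_option autoImplicit false

namespace Cfsg.Agent.Lib.Helper13

open Matrix Cfsg Cfsg.Agent.CharLib
open scoped ComplexConjugate

section inflate

variable {G : Type*} [Group G] (N : Subgroup G) [N.Normal]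

/-- Inflation of irreducible characters from a quotient. -/
noncomputable def inflIrr (χ : IrrCharacter (G ⧸ N)) : IrrCharacter G :=
  ⟨fun s => (χ : G ⧸ N → ℂ) (QuotientGroup.mk' N s), by
    obtain ⟨m, ρ', hirr', hρ'⟩ := χ.2
    refine ⟨m, MonoidHom.comp ρ' (QuotientGroup.mk' N),
      Cfsg.Agent.CharLib.isIrreducible_comp_of_surjective ρ' hirr' _
        (QuotientGroup.mk'_surjective N), ?_⟩
    funext x
    rw [← hρ']
    rfl⟩

theorem inflIrr_apply (χ : IrrCharacter (G ⧸ N)) (s : G) :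
    (inflIrr N χ : G → ℂ) s = (χ : G ⧸ N → ℂ) (QuotientGroup.mk' N s) := rfl

theorem inflIrr_injective : Function.Injective (inflIrr N) := by
  intro χ ψ h
  apply Subtype.ext
  funext x
  obtain ⟨s, rfl⟩ := QuotientGroup.mk'_surjective N x
  have := congrArg (fun θ : IrrCharacter G => (θ : G → ℂ) s) h
  simpa [inflIrr_apply] using this

theorem charDegree_inflIrr (χ : IrrCharacter (G ⧸ N)) :
    charDegree (inflIrr N χ : G → ℂ) = charDegree (χ : G ⧸ N → ℂ) := by
  unfold charDegree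
  rw [inflIrr_apply, map_one]

theorem card_degree_quotient_le [Finite G] (d : ℕ) :
    Nat.card {χ : IrrCharacter (G ⧸ N) // charDegree (χ : G ⧸ N → ℂ) = d} ≤
      Nat.card {χ : IrrCharacter G // charDegree (χ : G → ℂ) = d} := by
  classical
  have := fintypeIrr G
  apply Nat.card_le_card_of_injective
    (fun χ : {χ : IrrCharacter (G ⧸ N) // charDegree (χ : G ⧸ N → ℂ) = d} =>
      (⟨inflIrr N χ.1, by rw [charDegree_inflIrr]; exact χ.2⟩ :
        {χ : IrrCharacter G // charDegree (χ : G → ℂ) = d}))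
  intro χ ψ h
  apply Subtype.ext
  apply inflIrr_injective N
  exact congrArg Subtype.val h

end inflate

section psl

variable {F : Type*} [Field F] [Fintype F] [DecidableEq F]

/-- Every irreducible character degree of `SL₂(F)`, `q = 2 r + 1`, is one of the six. -/
theorem charDegree_mem_SL2_odd (r : ℕ) (hr : Fintype.card F = 2 * r + 1)
    (χ : IrrCharacter (SpecialLinearGroup (Fin 2) F)) :
    charDegree (χ : SpecialLinearGroup (Fin 2) F → ℂ) ∈
      ({1, 2 * r + 1, 2 * r + 2, 2 * r, r + 1, r} : Finset ℕ) := by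
  have hodd : Odd (Fintype.card F) := ⟨r, hr⟩
  obtain ⟨X, d, hX, hc, hd, htype⟩ := under_types hodd χ.2
  have hdd : charDegree (χ : SpecialLinearGroup (Fin 2) F → ℂ) = d := by
    have := Cfsg.Agent.Lib.Helper24.irr_apply_one χ
    rw [hd] at this
    exact_mod_cast this.symm
  rw [hdd]
  simp only [Finset.mem_insert, Finset.mem_singleton]
  rcases htype with ⟨-, h⟩ | ⟨-, h⟩ | ⟨-, h | h⟩ | ⟨-, h | h⟩ <;> omega

/-- Pure arithmetic: the sum of squares forces degrees `q - 1` and `q + 1`. -/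
theorem arith_psl2_degrees (r a b c d : ℕ) (hr3 : 3 ≤ r) (hc : c ≤ 2) (hd : d ≤ 2)
    (h : (2 * r + 1) * r * (2 * r + 2) =
      1 + (2 * r + 1) ^ 2 + (2 * r + 2) ^ 2 * a + (2 * r) ^ 2 * b + (r + 1) ^ 2 * c + r ^ 2 * d) :
    0 < a ∧ 0 < b := by
  have hz : ((2 * r + 1) * r * (2 * r + 2) : ℤ) =
      1 + (2 * r + 1) ^ 2 + (2 * r + 2) ^ 2 * a + (2 * r) ^ 2 * b + (r + 1) ^ 2 * c + r ^ 2 * d := by
    exact_mod_cast h
  constructor
  · by_contra ha
    have ha0 : a = 0 := by omega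
    subst ha0
    have hdvd : (r : ℤ) ∣ (2 + c : ℤ) := by
      refine ⟨(2 * r + 1) * (2 * r + 2) - 4 * r - 4 - 4 * r * b - (r + 2) * c - r * d, ?_⟩
      push_cast at hz
      linear_combination -hz
    have hdvd' : r ∣ 2 + c := by exact_mod_cast hdvd
    have hle : r ≤ 2 + c := Nat.le_of_dvd (by omega) hdvd'
    have hr4 : r = 3 ∨ r = 4 := by omega
    rcases hr4 with rfl | rfl
    · have hc1 : c = 1 := by
        obtain ⟨k, hk⟩ := hdvd'
        omega
      subst hc1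
      omega
    · have hc2 : c = 2 := by omega
      subst hc2
      omega
  · by_contra hb
    have hb0 : b = 0 := by omega
    subst hb0
    have hdvd : ((r : ℤ) + 1) ∣ (2 + d : ℤ) := by
      refine ⟨2 * r * (2 * r + 1) - (4 * a + c) * (r + 1) - 4 * (r + 1) + 4 - d * (r + 1) + 2 * d, ?_⟩
      push_cast at hz
      linear_combination -hz
    have hdvd' : r + 1 ∣ 2 + d := by exact_mod_cast hdvd
    have hle : r + 1 ≤ 2 + d := Nat.le_of_dvd (by omega) hdvd'
    have hr3' : r = 3 := by omega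
    subst hr3'
    have hd2 : d = 2 := by omega
    subst hd2
    omega

/-- The character degrees of `PSL₂(F)`, `q = 2 r + 1 ≥ 7`: between `{q, q + 1, q - 1}` and the six
degrees of `SL₂(F)`. -/
theorem charDegrees_PSL2_odd (r : ℕ) (hr : Fintype.card F = 2 * r + 1) (hr3 : 3 ≤ r) :
    ({2 * r + 1, 2 * r + 2, 2 * r} : Set ℕ) ⊆
        charDegrees (ProjectiveSpecialLinearGroup (Fin 2) F) ∧
      charDegrees (ProjectiveSpecialLinearGroup (Fin 2) F) ⊆
        {1, 2 * r + 1, 2 * r + 2, 2 * r, r + 1, r} := by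
  classical
  set Z := Subgroup.center (SpecialLinearGroup (Fin 2) F) with hZ
  let _ := fintypeIrr (SpecialLinearGroup (Fin 2) F ⧸ Z)
  let _ : Fintype (SpecialLinearGroup (Fin 2) F ⧸ Z) := Fintype.ofFinite _
  have hodd : Odd (Fintype.card F) := ⟨r, hr⟩
  have h2 : (2 : F) ≠ 0 := two_ne_zero_of_odd_card' hodd
  have hKP : ∀ χ : IrrCharacter (SpecialLinearGroup (Fin 2) F ⧸ Z),
      charDegree (χ : SpecialLinearGroup (Fin 2) F ⧸ Z → ℂ) ∈
        ({1, 2 * r + 1, 2 * r + 2, 2 * r, r + 1, r} : Finset ℕ) := by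
    intro χ
    rw [← charDegree_inflIrr Z χ]
    exact charDegree_mem_SL2_odd r hr _
  obtain ⟨c1, cq, -, -, cc, cd⟩ := card_by_degree_SL2_odd r hr (by omega)
  have l1 := card_degree_quotient_le Z 1
  rw [c1] at l1
  have lq := card_degree_quotient_le Z (2 * r + 1)
  rw [cq] at lq
  have lc := card_degree_quotient_le Z (r + 1)
  rw [cc] at lc
  have ld := card_degree_quotient_le Z r
  rw [cd] at ld
  have hdeg : ∀ χ : IrrCharacter (SpecialLinearGroup (Fin 2) F ⧸ Z),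
      (χ : SpecialLinearGroup (Fin 2) F ⧸ Z → ℂ) 1 =
        (charDegree (χ : SpecialLinearGroup (Fin 2) F ⧸ Z → ℂ) : ℂ) :=
    fun χ => Cfsg.Agent.Lib.Helper24.irr_apply_one χ
  -- the trivial character
  have g1 : 0 < Nat.card {χ : IrrCharacter (SpecialLinearGroup (Fin 2) F ⧸ Z) //
      charDegree (χ : SpecialLinearGroup (Fin 2) F ⧸ Z → ℂ) = 1} := by
    rw [Nat.card_pos_iff]
    refine ⟨⟨⟨⟨1, Cfsg.Agent.CharLib.isIrrCharacter_one⟩, ?_⟩⟩, inferInstance⟩
    have h1 := hdeg ⟨1, Cfsg.Agent.CharLib.isIrrCharacter_one⟩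
    change (1 : ℂ) = _ at h1
    exact_mod_cast h1.symm
  -- the Steinberg character
  have gq : 0 < Nat.card {χ : IrrCharacter (SpecialLinearGroup (Fin 2) F ⧸ Z) //
      charDegree (χ : SpecialLinearGroup (Fin 2) F ⧸ Z → ℂ) = 2 * r + 1} := by
    rw [Nat.card_pos_iff]
    obtain ⟨χ₀, hχ₀, hval⟩ := exists_deflate Z (isIrrCharacter_resSL_stChar (F := F))
      (fun z hz => resSL_stChar_center hz)
    refine ⟨⟨⟨⟨χ₀, hχ₀⟩, ?_⟩⟩, inferInstance⟩
    have h1 := hdeg ⟨χ₀, hχ₀⟩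
    have h2' : χ₀ 1 = (Fintype.card F : ℂ) := by
      have := hval 1
      rw [resSL_stChar_one] at this
      exact this
    change χ₀ 1 = _ at h1
    rw [h2', hr] at h1
    exact_mod_cast h1.symm
  have hsq := sum_by_degree ({1, 2 * r + 1, 2 * r + 2, 2 * r, r + 1, r} : Finset ℕ) hKP
    (fun k => k ^ 2)
  have hG : Fintype.card (SpecialLinearGroup (Fin 2) F ⧸ Z) = (2 * r + 1) * r * (2 * r + 2) := by
    have h := card_PSL2_mul_two (F := F) h2
    rw [hr] at h
    have : (2 * r + 1) ^ 2 - 1 = (2 * r) * (2 * r + 2) := by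
      have : (2 * r + 1) ^ 2 = (2 * r) * (2 * r + 2) + 1 := by ring
      omega
    rw [this] at h
    rw [← Nat.card_eq_fintype_card]
    have h' : Nat.card (SpecialLinearGroup (Fin 2) F ⧸ Z) * 2 =
        ((2 * r + 1) * r * (2 * r + 2)) * 2 := by
      change Nat.card (ProjectiveSpecialLinearGroup (Fin 2) F) * 2 = _
      rw [h]; ring
    exact Nat.eq_of_mul_eq_mul_right (by norm_num) h'
  rw [Cfsg.Agent.Lib.Helper24.sum_charDegree_sq, hG] at hsq
  have hn1 : (1 : ℕ) ∉ ({2 * r + 1, 2 * r + 2, 2 * r, r + 1, r} : Finset ℕ) := by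
    simp only [Finset.mem_insert, Finset.mem_singleton]; omega
  have hn2 : (2 * r + 1 : ℕ) ∉ ({2 * r + 2, 2 * r, r + 1, r} : Finset ℕ) := by
    simp only [Finset.mem_insert, Finset.mem_singleton]; omega
  have hn3 : (2 * r + 2 : ℕ) ∉ ({2 * r, r + 1, r} : Finset ℕ) := by
    simp only [Finset.mem_insert, Finset.mem_singleton]; omega
  have hn4 : (2 * r : ℕ) ∉ ({r + 1, r} : Finset ℕ) := by
    simp only [Finset.mem_insert, Finset.mem_singleton]; omega
  have hn5 : (r + 1 : ℕ) ∉ ({r} : Finset ℕ) := by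
    simp only [Finset.mem_singleton]; omega
  rw [Finset.sum_insert hn1, Finset.sum_insert hn2, Finset.sum_insert hn3, Finset.sum_insert hn4,
    Finset.sum_insert hn5, Finset.sum_singleton] at hsq
  set N1 := Nat.card {χ : IrrCharacter (SpecialLinearGroup (Fin 2) F ⧸ Z) //
      charDegree (χ : SpecialLinearGroup (Fin 2) F ⧸ Z → ℂ) = 1} with hN1
  set Nq := Nat.card {χ : IrrCharacter (SpecialLinearGroup (Fin 2) F ⧸ Z) //
      charDegree (χ : SpecialLinearGroup (Fin 2) F ⧸ Z → ℂ) = 2 * r + 1} with hNq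
  set Na := Nat.card {χ : IrrCharacter (SpecialLinearGroup (Fin 2) F ⧸ Z) //
      charDegree (χ : SpecialLinearGroup (Fin 2) F ⧸ Z → ℂ) = 2 * r + 2} with hNa
  set Nb := Nat.card {χ : IrrCharacter (SpecialLinearGroup (Fin 2) F ⧸ Z) //
      charDegree (χ : SpecialLinearGroup (Fin 2) F ⧸ Z → ℂ) = 2 * r} with hNb
  set Nc := Nat.card {χ : IrrCharacter (SpecialLinearGroup (Fin 2) F ⧸ Z) //
      charDegree (χ : SpecialLinearGroup (Fin 2) F ⧸ Z → ℂ) = r + 1} with hNc
  set Nd := Nat.card {χ : IrrCharacter (SpecialLinearGroup (Fin 2) F ⧸ Z) //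
      charDegree (χ : SpecialLinearGroup (Fin 2) F ⧸ Z → ℂ) = r} with hNd
  have e1 : N1 = 1 := by omega
  have eq : Nq = 1 := by omega
  rw [e1, eq] at hsq
  obtain ⟨ha, hb⟩ := arith_psl2_degrees r Na Nb Nc Nd hr3 lc ld (by rw [hsq]; ring)
  constructor
  · intro d hd
    simp only [Set.mem_insert_iff, Set.mem_singleton_iff] at hd
    have hex : ∀ n : ℕ, 0 < Nat.card {χ : IrrCharacter (SpecialLinearGroup (Fin 2) F ⧸ Z) //
        charDegree (χ : SpecialLinearGroup (Fin 2) F ⧸ Z → ℂ) = n} →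
        n ∈ charDegrees (ProjectiveSpecialLinearGroup (Fin 2) F) := by
      intro n hpos
      obtain ⟨⟨χ, hχ⟩⟩ := (Nat.card_pos_iff.mp hpos).1
      exact ⟨χ, hχ⟩
    rcases hd with rfl | rfl | rfl
    · exact hex _ gq
    · exact hex _ ha
    · exact hex _ hb
  · rintro d ⟨χ, rfl⟩
    have := hKP χ
    simpa only [Finset.mem_insert, Finset.mem_singleton, Set.mem_insert_iff,
      Set.mem_singleton_iff] using this

end psl

section graph

/-- The character degrees of `SL₂(F)`, `q = 2 r + 1 ≥ 7`. -/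
theorem charDegrees_SL2_odd {F : Type*} [Field F] [Fintype F] [DecidableEq F]
    (r : ℕ) (hr : Fintype.card F = 2 * r + 1) (hr3 : 3 ≤ r) :
    ({2 * r + 1, 2 * r + 2, 2 * r} : Set ℕ) ⊆
        charDegrees (SpecialLinearGroup (Fin 2) F) ∧
      charDegrees (SpecialLinearGroup (Fin 2) F) ⊆
        {1, 2 * r + 1, 2 * r + 2, 2 * r, r + 1, r} := by
  obtain ⟨-, cq, ca, cb, -, -⟩ := card_by_degree_SL2_odd r hr (by omega)
  constructor
  · intro d hd
    simp only [Set.mem_insert_iff, Set.mem_singleton_iff] at hd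
    have hex : ∀ n : ℕ, 0 < Nat.card {χ : IrrCharacter (SpecialLinearGroup (Fin 2) F) //
        charDegree (χ : SpecialLinearGroup (Fin 2) F → ℂ) = n} →
        n ∈ charDegrees (SpecialLinearGroup (Fin 2) F) := by
      intro n hpos
      obtain ⟨⟨χ, hχ⟩⟩ := (Nat.card_pos_iff.mp hpos).1
      exact ⟨χ, hχ⟩
    rcases hd with rfl | rfl | rfl
    · exact hex _ (by rw [cq]; norm_num)
    · exact hex _ (by omega)
    · exact hex _ (by rw [cb]; omega)
  · rintro d ⟨χ, rfl⟩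
    have := charDegree_mem_SL2_odd r hr χ
    simpa only [Finset.mem_insert, Finset.mem_singleton, Set.mem_insert_iff,
      Set.mem_singleton_iff] using this

/-- The degree graph determined by a sandwich of the degree set. -/
theorem degree_graph_of_sandwich {S : Type*} [Group S] (t n r : ℕ) (ht : t.Prime)
    (hq : 2 * r + 1 = t ^ n) (hr3 : 3 ≤ r)
    (hlow : ({2 * r + 1, 2 * r + 2, 2 * r} : Set ℕ) ⊆ charDegrees S)
    (hup : charDegrees S ⊆ {1, 2 * r + 1, 2 * r + 2, 2 * r, r + 1, r}) :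
    degreePrimes S = {x : ℕ | x.Prime ∧ x ∣ (2 * r + 1) * ((2 * r + 1) ^ 2 - 1)} ∧
      ∀ x y : ℕ, (degreeGraph S).Adj x y ↔ (x ≠ y ∧ x.Prime ∧ y.Prime ∧
        x ∣ (2 * r + 1) ^ 2 - 1 ∧ y ∣ (2 * r + 1) ^ 2 - 1 ∧
        (x = 2 ∨ y = 2 ∨ (x ∣ (2 * r + 1) + 1 ∧ y ∣ (2 * r + 1) + 1) ∨
          (x ∣ (2 * r + 1) - 1 ∧ y ∣ (2 * r + 1) - 1))) := by
  have hsq : (2 * r + 1) ^ 2 - 1 = (2 * r) * (2 * r + 2) := by
    have : (2 * r + 1) ^ 2 = (2 * r) * (2 * r + 2) + 1 := by ring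
    omega
  have hp1 : (2 * r + 1) + 1 = 2 * r + 2 := by ring
  have hm1 : (2 * r + 1) - 1 = 2 * r := by omega
  rw [hsq, hp1, hm1]
  have hd1 : r + 1 ∣ 2 * r + 2 := ⟨2, by ring⟩
  have hd2 : r ∣ 2 * r := ⟨2, by ring⟩
  have hmemq : 2 * r + 1 ∈ charDegrees S := hlow (by simp)
  have hmema : 2 * r + 2 ∈ charDegrees S := hlow (by simp)
  have hmemb : 2 * r ∈ charDegrees S := hlow (by simp)
  constructor
  · ext x
    simp only [degreePrimes, Set.mem_setOf_eq]
    constructor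
    · rintro ⟨hx, d, hd, hxd⟩
      refine ⟨hx, ?_⟩
      have := hup hd
      simp only [Set.mem_insert_iff, Set.mem_singleton_iff] at this
      rcases this with rfl | rfl | rfl | rfl | rfl | rfl
      · exact absurd (Nat.dvd_one.mp hxd) hx.ne_one
      · exact Dvd.dvd.mul_right hxd _
      · exact Dvd.dvd.mul_left (Dvd.dvd.mul_left hxd _) _
      · exact Dvd.dvd.mul_left (Dvd.dvd.mul_right hxd _) _
      · exact Dvd.dvd.mul_left (Dvd.dvd.mul_left (hxd.trans hd1) _) _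
      · exact Dvd.dvd.mul_left (Dvd.dvd.mul_right (hxd.trans hd2) _) _
    · rintro ⟨hx, hxd⟩
      refine ⟨hx, ?_⟩
      rcases (Nat.Prime.dvd_mul hx).mp hxd with h | h
      · exact ⟨_, hmemq, h⟩
      · rcases (Nat.Prime.dvd_mul hx).mp h with h | h
        · exact ⟨_, hmemb, h⟩
        · exact ⟨_, hmema, h⟩
  · intro x y
    change (x ≠ y ∧ x.Prime ∧ y.Prime ∧ ∃ d ∈ charDegrees S, x * y ∣ d) ↔ _
    constructor
    · rintro ⟨hne, hx, hy, d, hd, hxy⟩
      refine ⟨hne, hx, hy, ?_⟩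
      have hxd : x ∣ d := (Dvd.intro _ rfl).trans hxy
      have hyd : y ∣ d := (Dvd.intro_left _ rfl).trans hxy
      have := hup hd
      simp only [Set.mem_insert_iff, Set.mem_singleton_iff] at this
      rcases this with rfl | rfl | rfl | rfl | rfl | rfl
      · exact absurd (Nat.dvd_one.mp hxd) hx.ne_one
      · exfalso
        rw [hq] at hxd hyd
        have h1 := (Nat.prime_dvd_prime_iff_eq hx ht).mp (hx.dvd_of_dvd_pow hxd)
        have h2 := (Nat.prime_dvd_prime_iff_eq hy ht).mp (hy.dvd_of_dvd_pow hyd)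
        exact hne (h1.trans h2.symm)
      · exact ⟨Dvd.dvd.mul_left hxd _, Dvd.dvd.mul_left hyd _, Or.inr (Or.inr (Or.inl ⟨hxd, hyd⟩))⟩
      · exact ⟨Dvd.dvd.mul_right hxd _, Dvd.dvd.mul_right hyd _,
          Or.inr (Or.inr (Or.inr ⟨hxd, hyd⟩))⟩
      · exact ⟨Dvd.dvd.mul_left (hxd.trans hd1) _, Dvd.dvd.mul_left (hyd.trans hd1) _,
          Or.inr (Or.inr (Or.inl ⟨hxd.trans hd1, hyd.trans hd1⟩))⟩
      · exact ⟨Dvd.dvd.mul_right (hxd.trans hd2) _, Dvd.dvd.mul_right (hyd.trans hd2) _,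
          Or.inr (Or.inr (Or.inr ⟨hxd.trans hd2, hyd.trans hd2⟩))⟩
    · rintro ⟨hne, hx, hy, hxq, hyq, hcase⟩
      refine ⟨hne, hx, hy, ?_⟩
      have hcop : Nat.Coprime x y := (Nat.coprime_primes hx hy).mpr hne
      have h2a : 2 ∣ 2 * r + 2 := ⟨r + 1, by ring⟩
      have h2b : 2 ∣ 2 * r := ⟨r, rfl⟩
      rcases hcase with rfl | rfl | ⟨h1, h2⟩ | ⟨h1, h2⟩
      · rcases (Nat.Prime.dvd_mul hy).mp hyq with h | h
        · exact ⟨_, hmemb, hcop.mul_dvd_of_dvd_of_dvd h2b h⟩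
        · exact ⟨_, hmema, hcop.mul_dvd_of_dvd_of_dvd h2a h⟩
      · rcases (Nat.Prime.dvd_mul hx).mp hxq with h | h
        · exact ⟨_, hmemb, hcop.mul_dvd_of_dvd_of_dvd h h2b⟩
        · exact ⟨_, hmema, hcop.mul_dvd_of_dvd_of_dvd h h2a⟩
      · exact ⟨_, hmema, hcop.mul_dvd_of_dvd_of_dvd h1 h2⟩
      · exact ⟨_, hmemb, hcop.mul_dvd_of_dvd_of_dvd h1 h2⟩

end graph

end Cfsg.Agent.Lib.Helper13
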