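/-
helper13: `SL₂(F) = A B A` in characteristic 2, with `A` a non-split torus (cyclic of order
`q + 1`) and `B` the upper unitriangular group.
-/
import Mathlib
import Cfsg.Agent.Lib.Helper13.PSL2ClassProd
import Cfsg.Agent.Lib.Helper13.SL2Torus
import Cfsg.Agent.Lib.Helper13.PSL2ClassSizeEven

set_option autoImplicit false

namespace Cfsg.Agent.Lib.Helper13

open Matrix

section general

variable {F : Type*} [Field F]

/-- `x ↦ U(x)` as a homomorphism from the additive group of `F`. -/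
def upHom : Multiplicative F →* SpecialLinearGroup (Fin 2) F where
  toFun x := upU (Multiplicative.toAdd x)
  map_one' := by
    apply Subtype.ext
    simp only [upU, toAdd_one]
    ext i j
    fin_cases i <;> fin_cases j <;> simp
  map_mul' x y := by
    apply Subtype.ext
    change (!![1, Multiplicative.toAdd (x * y); 0, 1] : Matrix (Fin 2) (Fin 2) F) =
      !![1, Multiplicative.toAdd x; 0, 1] * !![1, Multiplicative.toAdd y; 0, 1]
    rw [toAdd_mul]
    ext i j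
    fin_cases i <;> fin_cases j <;> simp [add_comm]

theorem upHom_val (x : Multiplicative F) :
    ((upHom x : SpecialLinearGroup (Fin 2) F) : Matrix (Fin 2) (Fin 2) F) =
      !![1, Multiplicative.toAdd x; 0, 1] := rfl

theorem upHom_injective : Function.Injective (upHom (F := F)) := by
  intro x y h
  have := congrArg (fun g : SpecialLinearGroup (Fin 2) F => (g : Matrix (Fin 2) (Fin 2) F) 0 1) h
  simp only [upHom_val] at this
  simpa using this

theorem mem_range_upHom_iff (g : SpecialLinearGroup (Fin 2) F) :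
    g ∈ (upHom (F := F)).range ↔
      (g : Matrix (Fin 2) (Fin 2) F) 0 0 = 1 ∧ (g : Matrix (Fin 2) (Fin 2) F) 1 0 = 0 := by
  constructor
  · rintro ⟨x, rfl⟩
    rw [upHom_val]
    simp
  · rintro ⟨h00, h10⟩
    refine ⟨Multiplicative.ofAdd ((g : Matrix (Fin 2) (Fin 2) F) 0 1), ?_⟩
    have hd := g.2
    rw [Matrix.det_fin_two, h00, h10, mul_zero, sub_zero, one_mul] at hd
    apply Subtype.ext
    change (!![1, (g : Matrix (Fin 2) (Fin 2) F) 0 1; 0, 1] : Matrix (Fin 2) (Fin 2) F) = _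
    ext i j
    fin_cases i <;> fin_cases j <;> simp [h00, h10, hd]

theorem normForm_anisotropic (h2F : (2 : F) = 0) (τ : F) (hns : ∀ a : F, a * (τ - a) ≠ 1)
    (x y : F) (h : x ^ 2 + τ * x * y + y ^ 2 = 0) : x = 0 ∧ y = 0 := by
  by_cases hy : y = 0
  · subst hy
    refine ⟨?_, rfl⟩
    have : x ^ 2 = 0 := by linear_combination h
    exact pow_eq_zero_iff (two_ne_zero) |>.mp this
  · exfalso
    apply hns (x / y)
    field_simp
    linear_combination -h + (τ * x * y) * h2F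

end general

section finite

variable {F : Type*} [Field F] [Fintype F]

/-- The two conics `N(w) = 1` and `N(G w) = 1` meet (characteristic 2). -/
theorem exists_common_norm_one (hchar : ringChar F = 2) (h2F : (2 : F) = 0) (τ : F)
    (hns : ∀ a : F, a * (τ - a) ≠ 1) (G : SpecialLinearGroup (Fin 2) F) :
    ∃ x y : F, x ^ 2 + τ * x * y + y ^ 2 = 1 ∧
      ((G : Matrix (Fin 2) (Fin 2) F) 0 0 * x + (G : Matrix (Fin 2) (Fin 2) F) 0 1 * y) ^ 2 +
        τ * ((G : Matrix (Fin 2) (Fin 2) F) 0 0 * x + (G : Matrix (Fin 2) (Fin 2) F) 0 1 * y) *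
          ((G : Matrix (Fin 2) (Fin 2) F) 1 0 * x + (G : Matrix (Fin 2) (Fin 2) F) 1 1 * y) +
        ((G : Matrix (Fin 2) (Fin 2) F) 1 0 * x + (G : Matrix (Fin 2) (Fin 2) F) 1 1 * y) ^ 2 = 1 := by
  have hdet := G.2
  rw [Matrix.det_fin_two] at hdet
  set g₁ := (G : Matrix (Fin 2) (Fin 2) F) 0 0
  set g₂ := (G : Matrix (Fin 2) (Fin 2) F) 0 1
  set g₃ := (G : Matrix (Fin 2) (Fin 2) F) 1 0
  set g₄ := (G : Matrix (Fin 2) (Fin 2) F) 1 1
  obtain ⟨r, hr⟩ := FiniteField.isSquare_of_char_two hchar (g₁ ^ 2 + τ * g₁ * g₃ + g₃ ^ 2 - 1)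
  obtain ⟨t, ht⟩ := FiniteField.isSquare_of_char_two hchar (g₂ ^ 2 + τ * g₂ * g₄ + g₄ ^ 2 - 1)
  have key : ∀ x y : F, (g₁ * x + g₂ * y) ^ 2 + τ * (g₁ * x + g₂ * y) * (g₃ * x + g₄ * y) +
      (g₃ * x + g₄ * y) ^ 2 = x ^ 2 + τ * x * y + y ^ 2 + (r * x + t * y) ^ 2 := by
    intro x y
    linear_combination (x * y * τ) * hdet + (x * y * (g₁ * g₂ + g₃ * g₄ + τ * g₂ * g₃) - r * t * x * y) * h2F +
      x ^ 2 * hr + y ^ 2 * ht
  by_cases hrt : r = 0 ∧ t = 0
  · refine ⟨1, 0, by ring, ?_⟩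
    rw [key, hrt.1, hrt.2]
    ring
  · set n := t ^ 2 + τ * t * r + r ^ 2 with hn
    have hn0 : n ≠ 0 := by
      intro h0
      obtain ⟨h1, h2⟩ := normForm_anisotropic h2F τ hns t r h0
      exact hrt ⟨h2, h1⟩
    obtain ⟨c, hc⟩ := FiniteField.isSquare_of_char_two hchar n⁻¹
    have hcn : c * c * n = 1 := by rw [← hc]; exact inv_mul_cancel₀ hn0
    have h1 : (c * t) ^ 2 + τ * (c * t) * (c * r) + (c * r) ^ 2 = 1 := by
      linear_combination hcn
    refine ⟨c * t, c * r, h1, ?_⟩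
    rw [key, h1]
    linear_combination (2 * r ^ 2 * c ^ 2 * t ^ 2) * h2F

/-- `SL₂(F) = A B A` in characteristic 2. -/
theorem exists_ABA_SL (h2 : 2 ∣ Fintype.card F) :
    ∃ A B : Subgroup (SpecialLinearGroup (Fin 2) F),
      IsCyclic A ∧ Nat.card A = Fintype.card F + 1 ∧ IsMulCommutative B ∧ (∀ b ∈ B, b * b = 1) ∧
        Nat.card B = Fintype.card F ∧
        ∀ G : SpecialLinearGroup (Fin 2) F, ∃ a ∈ A, ∃ b ∈ B, ∃ c ∈ A, G = a * b * c := by
  classical
  have hchar : ringChar F = 2 :=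
    FiniteField.even_card_iff_char_two.mpr (Nat.mod_eq_zero_of_dvd h2)
  have h2F : (2 : F) = 0 := by
    have h : ((2 : ℕ) : F) = 0 := (ringChar.spec F 2).mpr (by rw [hchar])
    exact_mod_cast h
  obtain ⟨τ, hτ4, hns⟩ := exists_nonsplit_trace (F := F)
  set g₀ : SpecialLinearGroup (Fin 2) F := ⟨!![0, -1; 1, τ], by simp [Matrix.det_fin_two]⟩ with hg₀
  have hg₀val : (g₀ : Matrix (Fin 2) (Fin 2) F) = !![0, -1; 1, τ] := rfl
  have htr : (g₀ : Matrix (Fin 2) (Fin 2) F).trace = τ := by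
    rw [hg₀val, Matrix.trace_fin_two]; simp
  have hg₀4 : (g₀ : Matrix (Fin 2) (Fin 2) F).trace ^ 2 ≠ 4 := by rw [htr]; exact hτ4
  refine ⟨Subgroup.centralizer ({g₀} : Set (SpecialLinearGroup (Fin 2) F)), (upHom (F := F)).range,
    isCyclic_centralizer g₀ hg₀4, card_centralizer_nonsplit g₀ hg₀4 (by rw [htr]; exact hns),
    ?_, ?_, ?_, ?_⟩
  · refine ⟨⟨fun a b => ?_⟩⟩
    obtain ⟨a, x, rfl⟩ := a
    obtain ⟨b, y, rfl⟩ := b
    apply Subtype.ext
    change upHom x * upHom y = upHom y * upHom x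
    rw [← map_mul, ← map_mul, mul_comm]
  · rintro b ⟨x, rfl⟩
    rw [← map_mul]
    have : x * x = 1 := by
      apply Multiplicative.toAdd.injective
      rw [toAdd_mul, toAdd_one]
      linear_combination (Multiplicative.toAdd x) * h2F
    rw [this, map_one]
  · rw [Nat.card_congr (MonoidHom.ofInjective (upHom_injective (F := F))).toEquiv.symm,
      Nat.card_eq_fintype_card]
    exact Fintype.card_congr Multiplicative.toAdd
  · intro G
    obtain ⟨x, y, hN, hNG⟩ := exists_common_norm_one hchar h2F τ hns G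
    set x' := (G : Matrix (Fin 2) (Fin 2) F) 0 0 * x + (G : Matrix (Fin 2) (Fin 2) F) 0 1 * y with hx'
    set y' := (G : Matrix (Fin 2) (Fin 2) F) 1 0 * x + (G : Matrix (Fin 2) (Fin 2) F) 1 1 * y with hy'
    have hdet : ∀ u v : F, u ^ 2 + τ * u * v + v ^ 2 = 1 →
        (u • (1 : Matrix (Fin 2) (Fin 2) F) + v • (g₀ : Matrix (Fin 2) (Fin 2) F)).det = 1 := by
      intro u v huv
      rw [det_coords, htr, g₀.2]
      linear_combination huv
    set c₁ : SpecialLinearGroup (Fin 2) F :=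
      ⟨x • (1 : Matrix (Fin 2) (Fin 2) F) + y • (g₀ : Matrix (Fin 2) (Fin 2) F), hdet x y hN⟩ with hc₁
    set a₁ : SpecialLinearGroup (Fin 2) F :=
      ⟨x' • (1 : Matrix (Fin 2) (Fin 2) F) + y' • (g₀ : Matrix (Fin 2) (Fin 2) F), hdet x' y' hNG⟩
      with ha₁
    have hc₁mem : c₁ ∈ Subgroup.centralizer ({g₀} : Set (SpecialLinearGroup (Fin 2) F)) :=
      mem_centralizer_of_coords g₀ c₁ x y rfl
    have ha₁mem : a₁ ∈ Subgroup.centralizer ({g₀} : Set (SpecialLinearGroup (Fin 2) F)) :=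
      mem_centralizer_of_coords g₀ a₁ x' y' rfl
    refine ⟨a₁, ha₁mem, a₁⁻¹ * G * c₁, ?_, c₁⁻¹, Subgroup.inv_mem _ hc₁mem, by group⟩
    rw [mem_range_upHom_iff]
    have hval : ((a₁⁻¹ * G * c₁ : SpecialLinearGroup (Fin 2) F) : Matrix (Fin 2) (Fin 2) F) =
        Matrix.adjugate (a₁ : Matrix (Fin 2) (Fin 2) F) * (G : Matrix (Fin 2) (Fin 2) F) *
          (c₁ : Matrix (Fin 2) (Fin 2) F) := by
      have h1 : ((a₁⁻¹ * G * c₁ : SpecialLinearGroup (Fin 2) F) : Matrix (Fin 2) (Fin 2) F) =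
          ((a₁⁻¹ : SpecialLinearGroup (Fin 2) F) : Matrix (Fin 2) (Fin 2) F) *
            (G : Matrix (Fin 2) (Fin 2) F) * (c₁ : Matrix (Fin 2) (Fin 2) F) := rfl
      rw [h1, Matrix.SpecialLinearGroup.coe_inv]
    rw [hval, Matrix.adjugate_fin_two]
    have hc₁val : (c₁ : Matrix (Fin 2) (Fin 2) F) =
        x • (1 : Matrix (Fin 2) (Fin 2) F) + y • (!![0, -1; 1, τ] : Matrix (Fin 2) (Fin 2) F) := rfl
    have ha₁val : (a₁ : Matrix (Fin 2) (Fin 2) F) =
        x' • (1 : Matrix (Fin 2) (Fin 2) F) + y' • (!![0, -1; 1, τ] : Matrix (Fin 2) (Fin 2) F) := rfl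
    rw [hc₁val, ha₁val]
    simp only [Matrix.mul_apply, Fin.sum_univ_two, Matrix.of_apply, Matrix.cons_val_zero,
      Matrix.cons_val_one, Matrix.cons_val', Matrix.cons_val_fin_one, Fin.isValue,
      Matrix.add_apply, Matrix.smul_apply, smul_eq_mul, Matrix.one_apply_eq,
      Matrix.one_apply_ne (show (0 : Fin 2) ≠ 1 by decide),
      Matrix.one_apply_ne (show (1 : Fin 2) ≠ 0 by decide)]
    constructor
    · linear_combination hNG
    · rw [hx', hy']
      ring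

/-- `PSL₂(F) = A B A` in characteristic 2. -/
theorem exists_ABA_PSL (h2 : 2 ∣ Fintype.card F) :
    ∃ A B : Subgroup (Matrix.ProjectiveSpecialLinearGroup (Fin 2) F),
      IsCyclic A ∧ Nat.card A = Fintype.card F + 1 ∧ IsMulCommutative B ∧ (∀ b ∈ B, b * b = 1) ∧
        Nat.card B = Fintype.card F ∧
        ∀ g : Matrix.ProjectiveSpecialLinearGroup (Fin 2) F,
          ∃ a ∈ A, ∃ b ∈ B, ∃ c ∈ A, g = a * b * c := by
  have hchar : ringChar F = 2 :=
    FiniteField.even_card_iff_char_two.mpr (Nat.mod_eq_zero_of_dvd h2)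
  have : CharP F 2 := ringChar.of_eq hchar
  obtain ⟨A₀, B₀, hcyc, hcA, hcomm, hinv, hcB, hcov⟩ := exists_ABA_SL (F := F) h2
  set e : SpecialLinearGroup (Fin 2) F ≃* Matrix.ProjectiveSpecialLinearGroup (Fin 2) F :=
    (pslEquivSL (F := F)).symm with he
  refine ⟨A₀.map e.toMonoidHom, B₀.map e.toMonoidHom, ?_, ?_, ?_, ?_, ?_, ?_⟩
  · have := hcyc
    exact isCyclic_of_surjective (e.subgroupMap A₀) (e.subgroupMap A₀).surjective
  · rw [← hcA]
    exact Nat.card_congr (e.subgroupMap A₀).toEquiv.symm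
  · refine ⟨⟨fun a b => ?_⟩⟩
    obtain ⟨a, a₀, ha₀, rfl⟩ := a
    obtain ⟨b, b₀, hb₀, rfl⟩ := b
    apply Subtype.ext
    change e a₀ * e b₀ = e b₀ * e a₀
    have hc : a₀ * b₀ = b₀ * a₀ := by
      have := hcomm.is_comm.comm ⟨a₀, ha₀⟩ ⟨b₀, hb₀⟩
      exact congrArg Subtype.val this
    rw [← map_mul, ← map_mul, hc]
  · rintro b ⟨b₀, hb₀, rfl⟩
    change e b₀ * e b₀ = 1
    rw [← map_mul, hinv b₀ hb₀, map_one]
  · rw [← hcB]
    exact Nat.card_congr (e.subgroupMap B₀).toEquiv.symm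
  · intro g
    obtain ⟨a, ha, b, hb, c, hc, hG⟩ := hcov (e.symm g)
    refine ⟨e a, Subgroup.mem_map_of_mem _ ha, e b, Subgroup.mem_map_of_mem _ hb, e c,
      Subgroup.mem_map_of_mem _ hc, ?_⟩
    rw [← map_mul, ← map_mul, ← hG, MulEquiv.apply_symm_apply]

end finite

end Cfsg.Agent.Lib.Helper13
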