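/-
helper13: S4466 / S4813 (Isaacs-Passman: all non-linear irreducible degrees prime), the simple case.
THEOREM A (`no_simple_prime_degrees`): no non-abelian finite simple group has all its non-principal irreducible degrees prime.
Proof: `p` := least non-principal degree (`χ`, faithful); some `ψ` has prime degree `r > p` (else `|S| = 1 + m p²`, but `p ∣ |S|`);
`p ≠ 2` (involution + `det = 1`); a Sylow `r`-subgroup `R` is abelian (S0185 on `χ|_R`), so `ψ` vanishes on `R \ 1` (Burnside S0142) and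
`|R| = r`; S4503: `r ≤ 2p + 1`; the principal `r`-block has `f = |N(R):C(R)| ≥ 2` non-exceptional characters of degree `≡ ±1 (mod r)`,
but a prime in `[p, 2p+1]` is never `k r ± 1`.
-/
import Mathlib
import Cfsg.Prelude.Def_BlockRank
import Cfsg.Agent.S4503
import Cfsg.Agent.S0185
import Cfsg.Agent.Lib.Helper6.BRHB0X
import Cfsg.Agent.Lib.Helper6.Knoerr
import Cfsg.Agent.Lib.Helper16.BRWB0T1
import Cfsg.Agent.Lib.Helper16.BREZCHAR
import Cfsg.Agent.Lib.Helper23.FaithfulDefect
import Cfsg.Agent.Lib.Helper24.Ord4320Inv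
import Cfsg.Agent.Lib.Helper12.BTSETUP
import Cfsg.Agent.Lib.Helper12.BTFAITH
import Cfsg.Agent.Lib.Helper5.BRWLIN
import Cfsg.Agent.Lib.Helper22.BRCFDVD
import Cfsg.Agent.Lib.Helper14.BREEASYX
import Cfsg.Agent.Lib.Lead.CharMore
import Cfsg.Agent.Lib.Helper24.PerfectLemmas

set_option autoImplicit false

namespace Cfsg.Agent.Lib.Helper13.PrimeDegSimple

open Cfsg Cfsg.Agent.Lib.Helper8.DOM Cfsg.Agent.Lib.Helper27.DO Cfsg.Agent.CharLib
open Cfsg.Agent.Lib.Helper6.BRH
open scoped ComplexConjugate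

universe u

variable {S : Type u} [Group S] [Finite S]

/-- a Sylow `r`-subgroup is abelian if some faithful irreducible character has degree `< r` -/
theorem sylow_comm (χ : IrrCharacter S) (hfaith : ∀ g : S, (χ : S → ℂ) g = (χ : S → ℂ) 1 → g = 1)
    (r : ℕ) [hr : Fact r.Prime] (hlt : charDegree (χ : S → ℂ) < r) (R : Sylow r S) (a b : R) :
    a * b = b * a := by
  have h1 := Cfsg.Agent.Lib.Helper24.irr_apply_one χ
  obtain ⟨χf, n, ρ, hirr, rfl⟩ := χ
  change ρ.character 1 = (charDegree ρ.character : ℂ) at h1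
  rw [Representation.char_one] at h1
  have hdeg' : Module.finrank ℂ (Fin n → ℂ) = charDegree ρ.character := by exact_mod_cast h1
  let σ : Representation ℂ R (Fin n → ℂ) := MonoidHom.comp ρ (R : Subgroup S).subtype
  have hinj : Function.Injective σ := by
    intro x y hxy
    have h2 : ρ (x : S) = ρ (y : S) := hxy
    have h3 : ρ ((x : S) * (y : S)⁻¹) = 1 := by
      rw [map_mul, h2, ← map_mul, mul_inv_cancel, map_one]
    have h4 : ρ.character ((x : S) * (y : S)⁻¹) = ρ.character 1 := by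
      show LinearMap.trace ℂ _ (ρ _) = LinearMap.trace ℂ _ (ρ 1)
      rw [h3, map_one ρ]
    have h5 := hfaith _ h4
    apply Subtype.ext
    exact mul_inv_eq_one.mp h5
  have hdeg : ∀ q : ℕ, q.Prime → q ∣ Nat.card R → Module.finrank ℂ (Fin n → ℂ) < q := by
    intro q hq hqd
    obtain ⟨k, hk⟩ := IsPGroup.iff_card.mp R.isPGroup'
    rw [hk] at hqd
    have h2 : q ∣ r := hq.dvd_of_dvd_pow hqd
    have h3 : q = r := (Nat.prime_dvd_prime_iff_eq hq hr.out).mp h2
    rw [h3, hdeg']
    exact hlt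
  exact Cfsg.Agent.S0185.result σ hinj hdeg a b

variable [IsSimpleGroup S]

/-- the Sylow `r`-subgroups have order `r` for every prime degree `r` above a faithful degree -/
theorem sylow_card (hna : ¬ IsMulCommutative S) (χ ψ : IrrCharacter S) (hχ : χ ≠ trivIrr S)
    (hψ : ψ ≠ trivIrr S) (r : ℕ) [hr : Fact r.Prime] (hlt : charDegree (χ : S → ℂ) < r)
    (hψr : charDegree (ψ : S → ℂ) = r) (R : Sylow r S) : Nat.card R = r := by
  classical
  have hZ : Subgroup.center S = ⊥ := Cfsg.Agent.Lib.Helper12.BTSETUP.center_eq_bot hna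
  have hfχ := Cfsg.Agent.Lib.Helper12.BTFAITH.faithful_of_simple χ hχ
  have hfψ := Cfsg.Agent.Lib.Helper12.BTFAITH.faithful_of_simple ψ hψ
  have hcomm := sylow_comm χ hfχ r hlt R
  -- `ψ` vanishes on `R \ 1`
  have hvan : ∀ g : S, g ∈ (R : Subgroup S) → g ≠ 1 → (ψ : S → ℂ) g = 0 := by
    intro g hg hg1
    apply Cfsg.Agent.Lib.Helper23.irr_eq_zero_of_coprime_of_faithful ψ hZ hfψ g hg1
    rw [hψr]
    have hle : (R : Subgroup S) ≤ Subgroup.centralizer ({g} : Set S) := by
      intro x hx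
      rw [Subgroup.mem_centralizer_singleton_iff]
      have := hcomm ⟨x, hx⟩ ⟨g, hg⟩
      exact (congrArg Subtype.val this)
    have hdvd : (Subgroup.centralizer ({g} : Set S)).index ∣ (R : Subgroup S).index :=
      Subgroup.index_dvd_of_le hle
    have hnd : ¬ r ∣ (Subgroup.centralizer ({g} : Set S)).index :=
      fun h => R.not_dvd_index (dvd_trans h hdvd)
    exact (Nat.Prime.coprime_iff_not_dvd hr.out).mpr hnd
  let _ : Fintype (R : Subgroup S) := Fintype.ofFinite _
  obtain ⟨m, hm⟩ := Cfsg.Agent.Lib.Helper24.irr_sum_subgroup ψ (R : Subgroup S)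
  have hsum : ∑ z : (R : Subgroup S), (ψ : S → ℂ) (z : S) = (r : ℂ) := by
    rw [Finset.sum_eq_single (1 : (R : Subgroup S))]
    · rw [Subgroup.coe_one, Cfsg.Agent.Lib.Helper24.irr_apply_one, hψr]
    · intro z _ hz
      apply hvan _ z.2
      intro h
      exact hz (Subtype.ext h)
    · intro h
      exact absurd (Finset.mem_univ _) h
  rw [hsum] at hm
  have hm' : r = Nat.card R * m := by exact_mod_cast hm
  have hdvd : Nat.card R ∣ r := ⟨m, hm'⟩
  rcases (Nat.dvd_prime hr.out).mp hdvd with h | h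
  · exfalso
    -- `r ∣ |S|`, so the Sylow subgroup is not trivial
    have h1 : r ∣ Nat.card S := by
      rw [← hψr]
      exact Cfsg.Agent.Lib.Helper24.irr_charDegree_dvd_card ψ
    have h2 := R.card_eq_multiplicity
    rw [h] at h2
    have h3 : (Nat.card S).factorization r = 0 := by
      by_contra hne
      have : 1 < r ^ (Nat.card S).factorization r :=
        Nat.one_lt_pow hne hr.out.one_lt
      omega
    have h4 : 0 < (Nat.card S).factorization r :=
      (hr.out.factorization_pos_of_dvd Nat.card_pos.ne' h1)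
    omega
  · exact h

/-- **S4503** in the simple group: every prime degree is at most `2 χ(1) + 1` -/
theorem prime_degree_le (hna : ¬ IsMulCommutative S) (χ ψ : IrrCharacter S) (hχ : χ ≠ trivIrr S)
    (hψ : ψ ≠ trivIrr S) (r : ℕ) [hr : Fact r.Prime] (hlt : charDegree (χ : S → ℂ) < r)
    (hψr : charDegree (ψ : S → ℂ) = r) : r ≤ 2 * charDegree (χ : S → ℂ) + 1 := by
  have hfχ := Cfsg.Agent.Lib.Helper12.BTFAITH.faithful_of_simple χ hχ
  let R : Sylow r S := default
  have hR := sylow_card hna χ ψ hχ hψ r hlt hψr R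
  have hdiv : r ∣ Nat.card S := by
    rw [← hψr]
    exact Cfsg.Agent.Lib.Helper24.irr_charDegree_dvd_card ψ
  have hsq : ¬ r ^ 2 ∣ Nat.card S := by
    intro h
    have h2 := R.card_eq_multiplicity
    rw [hR] at h2
    have h3 : 2 ≤ (Nat.card S).factorization r :=
      (hr.out.pow_dvd_iff_le_factorization Nat.card_pos.ne').mp h
    have h4 : r ^ 1 < r ^ (Nat.card S).factorization r :=
      Nat.pow_lt_pow_right hr.out.one_lt (by omega)
    rw [pow_one] at h4
    omega
  have hnn : ∀ H : Subgroup S, H.Normal → Nat.card H ≠ r := by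
    intro H hH hcard
    rcases hH.eq_bot_or_eq_top with h | h
    · rw [h, Subgroup.card_bot] at hcard
      exact hr.out.one_lt.ne hcard
    · rw [h, Subgroup.card_top] at hcard
      have : IsCyclic S := isCyclic_of_prime_card hcard
      exact hna IsCyclic.isMulCommutative
  exact Cfsg.Agent.S4503.result r hr.out hdiv hsq hnn (χ : S → ℂ) (IsIrrCharacter.isCharacter χ.2) hfχ

/-- no faithful irreducible character of degree `2` -/
theorem degree_ne_two (hna : ¬ IsMulCommutative S) (χ : IrrCharacter S) (hχ : χ ≠ trivIrr S) :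
    charDegree (χ : S → ℂ) ≠ 2 := by
  intro h2
  have hZ : Subgroup.center S = ⊥ := Cfsg.Agent.Lib.Helper12.BTSETUP.center_eq_bot hna
  have hperf : commutator S = ⊤ := Cfsg.Agent.Lib.Helper12.BTSETUP.commutator_eq_top hna
  have hfχ := Cfsg.Agent.Lib.Helper12.BTFAITH.faithful_of_simple χ hχ
  have hdvd : 2 ∣ Nat.card S := by
    rw [← h2]
    exact Cfsg.Agent.Lib.Helper24.irr_charDegree_dvd_card χ
  have : Fact (Nat.Prime 2) := ⟨Nat.prime_two⟩
  obtain ⟨w, hw⟩ := exists_prime_orderOf_dvd_card' 2 hdvd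
  have hww : w * w = 1 := by
    have := pow_orderOf_eq_one w
    rwa [hw, pow_two] at this
  have hw1 : w ≠ 1 := by
    intro h
    rw [h, orderOf_one] at hw
    omega
  obtain ⟨c, k, hc, hk⟩ := Cfsg.Agent.Lib.Helper24.Ord4320.irr_invol_mod_four hperf χ w hww
  have hle := Cfsg.Agent.Lib.Helper14.BREEASYX.norm_apply_le χ w
  rw [h2, hc] at hle
  have hle' : |c| ≤ 2 := by
    have h3 : ‖((c : ℤ) : ℂ)‖ = |(c : ℝ)| := by
      rw [← Complex.ofReal_intCast, Complex.norm_real, Real.norm_eq_abs]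
    rw [h3] at hle
    have h4 : |(c : ℝ)| = ((|c| : ℤ) : ℝ) := by push_cast; rfl
    rw [h4] at hle
    exact_mod_cast hle
  rw [h2] at hk
  have hc2 : c = 2 ∨ c = -2 := by
    have := abs_le.mp hle'
    push_cast at hk
    omega
  have hnorm : ‖(χ : S → ℂ) w‖ = (charDegree (χ : S → ℂ) : ℝ) := by
    rw [hc, h2]
    rcases hc2 with h | h <;> rw [h] <;> norm_num
  have hcen := Cfsg.Agent.Lib.Helper16.BREZCHAR.mem_center_of_norm_eq χ hfχ w hnorm
  rw [hZ, Subgroup.mem_bot] at hcen
  exact hw1 hcen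

omit [IsSimpleGroup S] in
/-- Burnside's transfer theorem: in a perfect group `N(R) ≠ C(R)` for a non-trivial Sylow subgroup -/
theorem relIndex_ne_one_of_perfect (hperf : commutator S = ⊤) (r : ℕ) [hr : Fact r.Prime] (R : Sylow r S)
    (hdvd : r ∣ Nat.card S) : (Cz (R : Subgroup S)).relIndex (Nz (R : Subgroup S)) ≠ 1 := by
  intro h1
  have hNC : Subgroup.normalizer ((R : Subgroup S) : Set S) ≤ Subgroup.centralizer ((R : Subgroup S) : Set S) :=
    Subgroup.relIndex_eq_one.mp h1
  have hRab : ∀ a b : S, a ∈ (R : Subgroup S) → b ∈ (R : Subgroup S) → a * b = b * a := by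
    intro a b ha hb
    have h2 : a ∈ Subgroup.centralizer ((R : Subgroup S) : Set S) := hNC (Subgroup.le_normalizer ha)
    exact ((Subgroup.mem_centralizer_iff.mp h2) b hb).symm
  have hcomm : ∀ a b : S, MonoidHom.transferSylow R hNC a * MonoidHom.transferSylow R hNC b =
      MonoidHom.transferSylow R hNC b * MonoidHom.transferSylow R hNC a := by
    intro a b
    apply Subtype.ext
    exact hRab _ _ (MonoidHom.transferSylow R hNC a).2 (MonoidHom.transferSylow R hNC b).2
  have hker : (MonoidHom.transferSylow R hNC).ker = ⊤ := by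
    ext g
    simp only [MonoidHom.mem_ker, Subgroup.mem_top, iff_true]
    exact Cfsg.Agent.Lib.Helper24.hom_eq_one_of_perfect hperf _ hcomm g
  have h := MonoidHom.not_dvd_card_ker_transferSylow R hNC
  rw [hker, Subgroup.card_top] at h
  exact h hdvd

/-- arithmetic: a prime `d ≤ 2p+1` is not `≡ ±1` modulo an odd prime `r ≥ p + 2` -/
theorem arith_no_prime (p r d : ℕ) (v : ℤ) (hd : d.Prime) (hr : r.Prime) (hrp : p + 2 ≤ r) (hp3 : 3 ≤ p)
    (hdle : d ≤ 2 * p + 1) (hv : v = 1 ∨ v = -1) (hcong : (d : ℤ) ≡ v [ZMOD (r : ℤ)]) : False := by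
  have hd2 := hd.two_le
  have hrodd : Odd r := hr.odd_of_ne_two (by omega)
  obtain ⟨k, hk⟩ := hrodd
  have hdvd : (r : ℤ) ∣ (d : ℤ) - v := by
    have := hcong.symm.dvd
    exact this
  obtain ⟨m, hm⟩ := hdvd
  rcases hv with rfl | rfl
  · -- d - 1 = r m, 1 ≤ d - 1 ≤ 2r - 4
    have hm1 : 0 < m := by
      by_contra hm0
      push Not at hm0
      have : (r : ℤ) * m ≤ 0 := mul_nonpos_of_nonneg_of_nonpos (by positivity) hm0
      omega
    have hm2 : m < 2 := by
      by_contra hm0
      push Not at hm0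
      have : (r : ℤ) * 2 ≤ (r : ℤ) * m := mul_le_mul_of_nonneg_left hm0 (by positivity)
      omega
    have hm3 : m = 1 := by omega
    rw [hm3, mul_one] at hm
    -- d = r + 1 even
    have hdeven : d = 2 * (k + 1) := by omega
    have h2 : 2 ∣ d := ⟨k + 1, hdeven⟩
    have h3 : d = 2 := ((Nat.prime_dvd_prime_iff_eq Nat.prime_two hd).mp h2).symm
    omega
  · -- d + 1 = r m
    have hm1 : 0 < m := by
      by_contra hm0
      push Not at hm0
      have : (r : ℤ) * m ≤ 0 := mul_nonpos_of_nonneg_of_nonpos (by positivity) hm0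
      omega
    have hm2 : m < 2 := by
      by_contra hm0
      push Not at hm0
      have : (r : ℤ) * 2 ≤ (r : ℤ) * m := mul_le_mul_of_nonneg_left hm0 (by positivity)
      omega
    have hm3 : m = 1 := by omega
    rw [hm3, mul_one] at hm
    have hdeven : d = 2 * k := by omega
    have h2 : 2 ∣ d := ⟨k, hdeven⟩
    have h3 : d = 2 := ((Nat.prime_dvd_prime_iff_eq Nat.prime_two hd).mp h2).symm
    omega

omit [Finite S] [IsSimpleGroup S] in
theorem charDegree_trivIrr' : charDegree ((trivIrr S : IrrCharacter S) : S → ℂ) = 1 := by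
  have h := Cfsg.Agent.Lib.Helper24.irr_apply_one (trivIrr S)
  have h1 : ((trivIrr S : IrrCharacter S) : S → ℂ) 1 = 1 := rfl
  rw [h1] at h
  exact_mod_cast h.symm

/-- **THEOREM A** : no non-abelian finite simple group has all its non-principal irreducible degrees prime -/
theorem no_simple_prime_degrees (hna : ¬ IsMulCommutative S)
    (h : ∀ χ : IrrCharacter S, charDegree (χ : S → ℂ) ≠ 1 → (charDegree (χ : S → ℂ)).Prime) : False := by
  classical
  let _ : Fintype S := Fintype.ofFinite S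
  let _ : Fintype (IrrCharacter S) := Fintype.ofFinite _
  have hZ : Subgroup.center S = ⊥ := Cfsg.Agent.Lib.Helper12.BTSETUP.center_eq_bot hna
  have hperf : commutator S = ⊤ := Cfsg.Agent.Lib.Helper12.BTSETUP.commutator_eq_top hna
  -- non-principal characters have prime degree
  have hprime : ∀ χ : IrrCharacter S, χ ≠ trivIrr S → (charDegree (χ : S → ℂ)).Prime := by
    intro χ hχ
    apply h χ
    intro h1
    exact hχ (Cfsg.Agent.Lib.Helper5.BRWLIN.eq_triv_of_degree_one hperf χ h1)
  -- there is a non-principal character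
  have hex : ∃ d : ℕ, ∃ χ : IrrCharacter S, χ ≠ trivIrr S ∧ charDegree (χ : S → ℂ) = d := by
    by_contra hcon
    push Not at hcon
    apply hna
    rw [isMulCommutative_iff]
    apply (comm_iff_forall_irr_apply_one (G := S)).mpr
    intro χ
    by_cases hχ : χ = trivIrr S
    · rw [hχ]; rfl
    · exact absurd rfl (hcon _ χ hχ)
  -- the least non-principal degree
  set p := Nat.find hex with hp
  obtain ⟨χ, hχ, hχp⟩ := Nat.find_spec hex
  have hmin : ∀ φ : IrrCharacter S, φ ≠ trivIrr S → p ≤ charDegree (φ : S → ℂ) :=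
    fun φ hφ => Nat.find_min' hex ⟨φ, hφ, rfl⟩
  rw [← hp] at hχp
  have hpp : p.Prime := hχp ▸ hprime χ hχ
  have hp2 : p ≠ 2 := hχp ▸ degree_ne_two hna χ hχ
  have hp3 : 3 ≤ p := by
    have := hpp.two_le
    omega
  -- a non-principal character of another degree
  have hex2 : ∃ ψ : IrrCharacter S, ψ ≠ trivIrr S ∧ charDegree (ψ : S → ℂ) ≠ p := by
    by_contra hcon
    push Not at hcon
    have hsum := Cfsg.Agent.Lib.Helper24.sum_charDegree_sq (G := S)
    rw [← Finset.add_sum_erase Finset.univ _ (Finset.mem_univ (trivIrr S)), charDegree_trivIrr'] at hsum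
    have h2 : p ∣ ∑ φ ∈ Finset.univ.erase (trivIrr S), charDegree (φ : S → ℂ) ^ 2 := by
      apply Finset.dvd_sum
      intro φ hφ
      rw [hcon φ (Finset.ne_of_mem_erase hφ)]
      exact dvd_pow_self p two_ne_zero
    have h3 : p ∣ Fintype.card S := by
      rw [← Nat.card_eq_fintype_card, ← hχp]
      exact Cfsg.Agent.Lib.Helper24.irr_charDegree_dvd_card χ
    rw [← hsum] at h3
    have h4 : p ∣ 1 ^ 2 := (Nat.dvd_add_left h2).mp h3
    rw [one_pow, Nat.dvd_one] at h4
    omega
  obtain ⟨ψ, hψ, hψp⟩ := hex2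
  set r := charDegree (ψ : S → ℂ) with hr
  have hrp : r.Prime := hprime ψ hψ
  have : Fact r.Prime := ⟨hrp⟩
  have hpr : p < r := lt_of_le_of_ne (hmin ψ hψ) (Ne.symm hψp)
  have hlt : charDegree (χ : S → ℂ) < r := by rw [hχp]; exact hpr
  -- `r ≥ p + 2`
  have hrodd : Odd r := hrp.odd_of_ne_two (by omega)
  have hpodd : Odd p := hpp.odd_of_ne_two hp2
  have hrp2 : p + 2 ≤ r := by
    obtain ⟨a, ha⟩ := hrodd
    obtain ⟨b, hb⟩ := hpodd
    omega
  -- all non-principal degrees are at most `2p + 1`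
  have hall : ∀ φ : IrrCharacter S, φ ≠ trivIrr S → charDegree (φ : S → ℂ) ≤ 2 * p + 1 := by
    intro φ hφ
    by_cases hφp : charDegree (φ : S → ℂ) = p
    · omega
    · have hφprime := hprime φ hφ
      have : Fact (charDegree (φ : S → ℂ)).Prime := ⟨hφprime⟩
      have hlt' : charDegree (χ : S → ℂ) < charDegree (φ : S → ℂ) := by
        rw [hχp]
        exact lt_of_le_of_ne (hmin φ hφ) (Ne.symm hφp)
      have := prime_degree_le hna χ φ hχ hφ (charDegree (φ : S → ℂ)) hlt' rfl
      rw [hχp] at this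
      exact this
  -- the principal `r`-block
  let R : Sylow r S := default
  have hR : Nat.card (R : Subgroup S) = r := sylow_card hna χ ψ hχ hψ r hlt rfl R
  have hSyl : ¬ r ∣ (R : Subgroup S).index := R.not_dvd_index
  have hdvd : r ∣ Nat.card S := by
    rw [hr]
    exact Cfsg.Agent.Lib.Helper24.irr_charDegree_dvd_card ψ
  obtain ⟨M, hM⟩ := Cfsg.Agent.Lib.Helper6.exists_isPModular r
  have hf1 := relIndex_ne_one_of_perfect hperf r R hdvd
  have hfd : (Cz (R : Subgroup S)).relIndex (Nz (R : Subgroup S)) ∣ r - 1 :=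
    Cfsg.Agent.Lib.Helper22.BRCFDVD.fI_dvd (R : Subgroup S) hR
  have hfle : (Cz (R : Subgroup S)).relIndex (Nz (R : Subgroup S)) ≤ r - 1 :=
    Nat.le_of_dvd (by have := hrp.two_le; omega) hfd
  have hf0 : (Cz (R : Subgroup S)).relIndex (Nz (R : Subgroup S)) ≠ 0 := by
    intro h0
    rw [h0, zero_dvd_iff] at hfd
    have := hrp.two_le
    omega
  -- the data `X`, with degrees `≡ ±1`
  have hX : ∃ (X Y : Set (IrrCharacter S)) (v : IrrCharacter S → ℤ) (ε : ℤ),
      B0 r (R : Subgroup S) X Y v ε ∧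
      (∀ η ∈ X, (charDegree (η : S → ℂ) : ℤ) ≡ v η [ZMOD r]) := by
    rcases lt_or_eq_of_le hfle with hlt2 | heq
    · obtain ⟨X, Y, v, ε, b0, -, hdX, -⟩ :=
        Cfsg.Agent.Lib.Helper6.BRHB0X.exists_B0_full hM (R : Subgroup S) hR hSyl hlt2
      exact ⟨X, Y, v, ε, b0, hdX⟩
    · obtain ⟨X, Y, v, ε, b0, -, hdX, -⟩ :=
        Cfsg.Agent.Lib.Helper16.BRWB0T1.exists_B0_full_eq hM (R : Subgroup S) hR hSyl heq
      exact ⟨X, Y, v, ε, b0, hdX⟩
  obtain ⟨X, Y, v, ε, b0, hdX⟩ := hX
  -- a non-principal member of `X`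
  have hcard : 2 ≤ Nat.card X := by
    rw [b0.cardX]
    omega
  have hXfin : Finite X := Finite.of_injective (fun x : X => (x : IrrCharacter S)) Subtype.val_injective
  have hexη : ∃ η ∈ X, η ≠ trivIrr S := by
    by_contra hcon
    push Not at hcon
    have hsub : Subsingleton X := by
      constructor
      intro a b
      apply Subtype.ext
      rw [hcon a a.2, hcon b b.2]
    have : Nat.card X ≤ 1 := Finite.card_le_one_iff_subsingleton.mpr hsub
    omega
  obtain ⟨η, hηX, hη⟩ := hexη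
  exact arith_no_prime p r (charDegree (η : S → ℂ)) (v η) (hprime η hη) hrp hrp2 hp3 (hall η hη)
    (b0.sgnX η hηX) (hdX η hηX)

end Cfsg.Agent.Lib.Helper13.PrimeDegSimple
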