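/-
helper13: S4466 (Isaacs-Passman): a finite group all of whose non-linear irreducible characters have prime degree is solvable.
Induction on the order: the hypothesis passes to normal subgroups (`θ(1) ∣ χ(1)`) and to quotients (inflation); a group without
proper non-trivial normal subgroups is trivial, abelian, or non-abelian simple, and the last case is impossible by
`PrimeDegSimple.no_simple_prime_degrees`.
-/
import Mathlib
import Cfsg.Agent.Lib.Helper13.PrimeDegSimple
import Cfsg.Agent.Lib.Helper21.IsaacsCharD
import Cfsg.Agent.Lib.Helper25.Inflate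

set_option autoImplicit false

namespace Cfsg.Agent.Lib.Helper13.PrimeDegSolv

open Cfsg Cfsg.Agent.CharLib

universe u

/-- the hypothesis "non-linear degrees are prime" -/
def PrimeDeg (G : Type u) [Group G] : Prop :=
  ∀ χ : IrrCharacter G, charDegree (χ : G → ℂ) ≠ 1 → (charDegree (χ : G → ℂ)).Prime

theorem primeDeg_subgroup {G : Type u} [Group G] [Finite G] (h : PrimeDeg G) (N : Subgroup G) [N.Normal] :
    PrimeDeg N := by
  intro θ hθ
  obtain ⟨χ, hdvd⟩ := Cfsg.Agent.Lib.Helper21.Isaacs.exists_irr_over N θ
  have hχ1 : charDegree (χ : G → ℂ) ≠ 1 := by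
    intro h1
    rw [h1, Nat.dvd_one] at hdvd
    exact hθ hdvd
  have hp := h χ hχ1
  rcases (Nat.dvd_prime hp).mp hdvd with h1 | h1
  · exact absurd h1 hθ
  · rw [h1]; exact hp

theorem primeDeg_quotient {G : Type u} [Group G] [Finite G] (h : PrimeDeg G) (N : Subgroup G) [N.Normal] :
    PrimeDeg (G ⧸ N) := by
  intro θ hθ
  have h2 : charDegree ((Cfsg.Agent.Lib.Helper25.inflateIrr N θ : IrrCharacter G) : G → ℂ) =
      charDegree (θ : G ⧸ N → ℂ) := by
    unfold charDegree
    rw [Cfsg.Agent.Lib.Helper25.inflateIrr_apply, QuotientGroup.mk_one]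
  rw [← h2] at hθ ⊢
  exact h _ hθ

theorem solvable_aux : ∀ (n : ℕ) (G : Type u) [Group G] [Finite G], Nat.card G = n → PrimeDeg G →
    Group.IsSolvable G := by
  intro n
  induction n using Nat.strong_induction_on with
  | _ n ih =>
    intro G _ _ hcard h
    by_cases hN : ∃ N : Subgroup G, N.Normal ∧ N ≠ ⊥ ∧ N ≠ ⊤
    · obtain ⟨N, hNn, hNb, hNt⟩ := hN
      have := hNn
      have hlt1 : Nat.card N < n := by
        rw [← hcard]
        apply lt_of_le_of_ne (Subgroup.card_le_card_group N)
        intro heq
        exact hNt (N.eq_top_of_card_eq heq)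
      have hlt2 : Nat.card (G ⧸ N) < n := by
        rw [← hcard, Subgroup.card_eq_card_quotient_mul_card_subgroup N]
        have h1 : 1 < Nat.card N := N.one_lt_card_iff_ne_bot.mpr hNb
        have h2 : 0 < Nat.card (G ⧸ N) := Nat.card_pos
        nlinarith
      have hs1 : Group.IsSolvable N := ih (Nat.card N) hlt1 N rfl (primeDeg_subgroup h N)
      have hs2 : Group.IsSolvable (G ⧸ N) := ih (Nat.card (G ⧸ N)) hlt2 (G ⧸ N) rfl (primeDeg_quotient h N)
      apply Group.isSolvable_of_ker_le_range N.subtype (QuotientGroup.mk' N)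
      rw [QuotientGroup.ker_mk', Subgroup.range_subtype]
    · push Not at hN
      by_cases hsub : Subsingleton G
      · infer_instance
      · have hnt : Nontrivial G := not_subsingleton_iff_nontrivial.mp hsub
        have hsimple : IsSimpleGroup G := by
          refine ⟨fun N hNn => ?_⟩
          by_contra hcon
          push Not at hcon
          exact hcon.2 (hN N hNn hcon.1)
        by_cases hc : IsMulCommutative G
        · exact Group.isSolvable_of_comm (fun a b => hc.is_comm.comm a b)
        · exact (Cfsg.Agent.Lib.Helper13.PrimeDegSimple.no_simple_prime_degrees hc h).elim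

/-- **S4466** -/
theorem solvable_of_primeDeg {G : Type u} [Group G] [Finite G]
    (h : ∀ χ : IrrCharacter G, charDegree (χ : G → ℂ) ≠ 1 → (charDegree (χ : G → ℂ)).Prime) :
    Group.IsSolvable G :=
  solvable_aux (Nat.card G) G rfl h

end Cfsg.Agent.Lib.Helper13.PrimeDegSolv
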