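import Mathlib
import Cfsg.Prelude.Def_LocalEven
import Cfsg.Agent.Lib.Helper13.NaturalSL2

/-!
Helper lemmas (helper13): structure of `Cfsg.qdOver F` (the affine subgroup of `SL₃(F)`): translations,
block-diagonal complement, linear-part homomorphism, `O_p`.
-/

set_option autoImplicit false

namespace Cfsg.Agent.Lib.Helper13.QdOver

open Matrix Cfsg.Agent.Lib.Helper13

variable {F : Type*} [Field F]

/-- matrices in `SL₃(F)` with last row `(0,0,1)` -/
def lastRowF (F : Type*) [Field F] : Subgroup (SpecialLinearGroup (Fin 3) F) where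
  carrier := {M | (M : Matrix (Fin 3) (Fin 3) F) 2 0 = 0 ∧
    (M : Matrix (Fin 3) (Fin 3) F) 2 1 = 0 ∧ (M : Matrix (Fin 3) (Fin 3) F) 2 2 = 1}
  mul_mem' := by
    rintro a b ⟨h1, h2, h3⟩ ⟨k1, k2, k3⟩
    refine ⟨?_, ?_, ?_⟩ <;>
      simp [Matrix.mul_apply, Fin.sum_univ_three, h1, h2, h3, k1, k2, k3]
  one_mem' := by
    refine ⟨?_, ?_, ?_⟩ <;> simp
  inv_mem' := by
    rintro a ⟨h1, h2, h3⟩
    have hdet := a.2
    rw [Matrix.det_fin_three] at hdet
    simp only [h1, h2, h3, mul_zero, mul_one, sub_zero, add_zero] at hdet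
    refine ⟨?_, ?_, ?_⟩
    · simp [Matrix.adjugate_fin_three, h1, h2, h3]
    · simp [Matrix.adjugate_fin_three, h1, h2, h3]
    · simp [Matrix.adjugate_fin_three, h1, h2, h3]
      linear_combination hdet

theorem qdOver_eq : Cfsg.qdOver F = lastRowF F := by
  unfold Cfsg.qdOver
  exact Subgroup.closure_eq (lastRowF F)

/-- entries of an element of `qdOver F` -/
abbrev ent (M : ↥(Cfsg.qdOver F)) (i j : Fin 3) : F :=
  ((M : SpecialLinearGroup (Fin 3) F) : Matrix (Fin 3) (Fin 3) F) i j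

theorem mem_qdOver (M : SpecialLinearGroup (Fin 3) F) :
    M ∈ Cfsg.qdOver F ↔ (M : Matrix (Fin 3) (Fin 3) F) 2 0 = 0 ∧
      (M : Matrix (Fin 3) (Fin 3) F) 2 1 = 0 ∧ (M : Matrix (Fin 3) (Fin 3) F) 2 2 = 1 := by
  rw [qdOver_eq]; rfl

theorem ent_20 (M : ↥(Cfsg.qdOver F)) : ent M 2 0 = 0 := ((mem_qdOver _).mp M.2).1
theorem ent_21 (M : ↥(Cfsg.qdOver F)) : ent M 2 1 = 0 := ((mem_qdOver _).mp M.2).2.1
theorem ent_22 (M : ↥(Cfsg.qdOver F)) : ent M 2 2 = 1 := ((mem_qdOver _).mp M.2).2.2

theorem ent_mul (M N : ↥(Cfsg.qdOver F)) (i j : Fin 3) :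
    ent (M * N) i j = ent M i 0 * ent N 0 j + ent M i 1 * ent N 1 j + ent M i 2 * ent N 2 j := by
  change ((((M * N : ↥(Cfsg.qdOver F)) : SpecialLinearGroup (Fin 3) F)) :
    Matrix (Fin 3) (Fin 3) F) i j = _
  rw [Subgroup.coe_mul, Matrix.SpecialLinearGroup.coe_mul, Matrix.mul_apply, Fin.sum_univ_three]

theorem ent_one (i j : Fin 3) : ent (1 : ↥(Cfsg.qdOver F)) i j = if i = j then 1 else 0 := by
  change (((((1 : ↥(Cfsg.qdOver F))) : SpecialLinearGroup (Fin 3) F)) :
    Matrix (Fin 3) (Fin 3) F) i j = _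
  rw [Subgroup.coe_one, Matrix.SpecialLinearGroup.coe_one, Matrix.one_apply]

theorem ext_ent {M N : ↥(Cfsg.qdOver F)} (h : ∀ i j, ent M i j = ent N i j) : M = N := by
  apply Subtype.ext
  apply Subtype.ext
  ext i j
  exact h i j

/-- It suffices to compare the first two rows. -/
theorem ext_ent' {M N : ↥(Cfsg.qdOver F)} (h : ∀ (i : Fin 2) (j : Fin 3),
    ent M (Fin.castSucc i) j = ent N (Fin.castSucc i) j) : M = N := by
  apply ext_ent
  intro i j
  fin_cases i
  · exact h 0 j
  · exact h 1 j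
  · fin_cases j
    · exact (ent_20 M).trans (ent_20 N).symm
    · exact (ent_21 M).trans (ent_21 N).symm
    · exact (ent_22 M).trans (ent_22 N).symm

theorem ent_det (M : ↥(Cfsg.qdOver F)) : ent M 0 0 * ent M 1 1 - ent M 0 1 * ent M 1 0 = 1 := by
  have hdet := (M : SpecialLinearGroup (Fin 3) F).2
  rw [Matrix.det_fin_three] at hdet
  have h0 := ent_20 M
  have h1 := ent_21 M
  have h2 := ent_22 M
  simp only [ent] at h0 h1 h2
  simp only [h0, h1, h2, mul_zero, mul_one, sub_zero, add_zero] at hdet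
  simp only [ent]
  linear_combination hdet

def linSL (M : ↥(Cfsg.qdOver F)) : SpecialLinearGroup (Fin 2) F :=
  ⟨!![ent M 0 0, ent M 0 1; ent M 1 0, ent M 1 1], by
    rw [Matrix.det_fin_two_of]; exact ent_det M⟩

theorem linSL_coe (M : ↥(Cfsg.qdOver F)) :
    (linSL M : Matrix (Fin 2) (Fin 2) F) = !![ent M 0 0, ent M 0 1; ent M 1 0, ent M 1 1] := rfl

/-- The linear part: upper-left `2 × 2` block. -/
def linPart : ↥(Cfsg.qdOver F) →* SpecialLinearGroup (Fin 2) F where
  toFun M := linSL M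
  map_one' := by
    apply Subtype.ext
    rw [linSL_coe, Matrix.SpecialLinearGroup.coe_one]
    ext i j
    fin_cases i <;> fin_cases j <;> simp [ent_one]
  map_mul' M N := by
    apply Subtype.ext
    rw [Matrix.SpecialLinearGroup.coe_mul, linSL_coe, linSL_coe, linSL_coe]
    ext i j
    fin_cases i <;> fin_cases j <;>
      simp [ent_mul, ent_20, ent_21, Matrix.mul_apply, Fin.sum_univ_two]

theorem linPart_apply (M : ↥(Cfsg.qdOver F)) :
    (linPart M : Matrix (Fin 2) (Fin 2) F) = !![ent M 0 0, ent M 0 1; ent M 1 0, ent M 1 1] := rfl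

/-- The block-diagonal embedding of `SL₂(F)`. -/
def blockMat (A : SpecialLinearGroup (Fin 2) F) : Matrix (Fin 3) (Fin 3) F :=
  !![(A : Matrix (Fin 2) (Fin 2) F) 0 0, (A : Matrix (Fin 2) (Fin 2) F) 0 1, 0;
     (A : Matrix (Fin 2) (Fin 2) F) 1 0, (A : Matrix (Fin 2) (Fin 2) F) 1 1, 0; 0, 0, 1]

theorem blockMat_det (A : SpecialLinearGroup (Fin 2) F) : (blockMat A).det = 1 := by
  have := A.2
  rw [Matrix.det_fin_two] at this
  rw [Matrix.det_fin_three]
  simp only [blockMat, Matrix.of_apply, Matrix.cons_val', Matrix.cons_val_zero,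
    Matrix.cons_val_one, Matrix.cons_val_two, Matrix.cons_val_fin_one]
  simp
  linear_combination this

def blockSL (A : SpecialLinearGroup (Fin 2) F) : SpecialLinearGroup (Fin 3) F :=
  ⟨blockMat A, blockMat_det A⟩

theorem blockSL_mem (A : SpecialLinearGroup (Fin 2) F) : blockSL A ∈ Cfsg.qdOver F := by
  rw [mem_qdOver]
  refine ⟨?_, ?_, ?_⟩ <;> simp [blockSL, blockMat]

def blockEmb : SpecialLinearGroup (Fin 2) F →* ↥(Cfsg.qdOver F) where
  toFun A := ⟨blockSL A, blockSL_mem A⟩
  map_one' := by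
    apply Subtype.ext
    apply Subtype.ext
    ext i j
    fin_cases i <;> fin_cases j <;> simp [blockSL, blockMat]
  map_mul' A B := by
    apply Subtype.ext
    apply Subtype.ext
    change blockMat (A * B) = blockMat A * blockMat B
    ext i j
    fin_cases i <;> fin_cases j <;>
      simp [blockMat, Matrix.mul_apply, Fin.sum_univ_two, Fin.sum_univ_three]

theorem ent_blockEmb (A : SpecialLinearGroup (Fin 2) F) (i j : Fin 3) :
    ent (blockEmb A) i j = blockMat A i j := rfl

theorem linPart_blockEmb (A : SpecialLinearGroup (Fin 2) F) : linPart (blockEmb A) = A := by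
  apply Subtype.ext
  rw [linPart_apply]
  ext i j
  fin_cases i <;> fin_cases j <;> simp [ent_blockEmb, blockMat]

theorem linPart_surjective : Function.Surjective (linPart (F := F)) :=
  fun A => ⟨blockEmb A, linPart_blockEmb A⟩

theorem blockEmb_injective : Function.Injective (blockEmb (F := F)) := by
  intro A B h
  rw [← linPart_blockEmb A, h, linPart_blockEmb]

/-- translations -/
def translMat (v : Fin 2 → F) : Matrix (Fin 3) (Fin 3) F :=
  !![1, 0, v 0; 0, 1, v 1; 0, 0, 1]

theorem translMat_det (v : Fin 2 → F) : (translMat v).det = 1 := by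
  rw [Matrix.det_fin_three]
  simp [translMat]

def translSL (v : Fin 2 → F) : SpecialLinearGroup (Fin 3) F :=
  ⟨translMat v, translMat_det v⟩

theorem translSL_mem (v : Fin 2 → F) : translSL v ∈ Cfsg.qdOver F := by
  rw [mem_qdOver]
  refine ⟨?_, ?_, ?_⟩ <;> simp [translSL, translMat]

def transl (v : Fin 2 → F) : ↥(Cfsg.qdOver F) := ⟨translSL v, translSL_mem v⟩

theorem ent_transl (v : Fin 2 → F) (i j : Fin 3) : ent (transl v) i j = translMat v i j := rfl

theorem mem_ker_linPart (M : ↥(Cfsg.qdOver F)) :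
    M ∈ (linPart (F := F)).ker ↔
      ent M 0 0 = 1 ∧ ent M 0 1 = 0 ∧ ent M 1 0 = 0 ∧ ent M 1 1 = 1 := by
  rw [MonoidHom.mem_ker]
  constructor
  · intro h
    have h' : (linPart M : Matrix (Fin 2) (Fin 2) F) = 1 := by rw [h]; rfl
    rw [linPart_apply] at h'
    refine ⟨?_, ?_, ?_, ?_⟩
    · simpa using congrFun (congrFun h' 0) 0
    · simpa using congrFun (congrFun h' 0) 1
    · simpa using congrFun (congrFun h' 1) 0
    · simpa using congrFun (congrFun h' 1) 1
  · rintro ⟨h1, h2, h3, h4⟩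
    apply Subtype.ext
    rw [linPart_apply, h1, h2, h3, h4]
    ext i j
    fin_cases i <;> fin_cases j <;> simp

theorem transl_mem_ker (v : Fin 2 → F) : transl v ∈ (linPart (F := F)).ker := by
  rw [mem_ker_linPart]
  refine ⟨?_, ?_, ?_, ?_⟩ <;> simp [ent_transl, translMat]

theorem eq_transl_of_mem_ker (M : ↥(Cfsg.qdOver F)) (hM : M ∈ (linPart (F := F)).ker) :
    M = transl ![ent M 0 2, ent M 1 2] := by
  obtain ⟨h1, h2, h3, h4⟩ := (mem_ker_linPart M).mp hM
  apply ext_ent'
  intro i j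
  fin_cases i <;> fin_cases j <;> simp [ent_transl, translMat, h1, h2, h3, h4]

/-- Every element is a translation times a block-diagonal element. -/
theorem eq_transl_mul_block (M : ↥(Cfsg.qdOver F)) :
    M = transl ![ent M 0 2, ent M 1 2] * blockEmb (linPart M) := by
  apply ext_ent'
  intro i j
  rw [ent_mul]
  fin_cases i <;> fin_cases j <;>
    simp [ent_transl, translMat, ent_blockEmb, blockMat, linPart_apply]

theorem mem_range_blockEmb (M : ↥(Cfsg.qdOver F)) :
    M ∈ (blockEmb (F := F)).range ↔ ent M 0 2 = 0 ∧ ent M 1 2 = 0 := by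
  constructor
  · rintro ⟨A, rfl⟩
    constructor <;> simp [ent_blockEmb, blockMat]
  · rintro ⟨h1, h2⟩
    refine ⟨linPart M, ?_⟩
    apply ext_ent'
    intro i j
    fin_cases i <;> fin_cases j <;> simp [ent_blockEmb, blockMat, linPart_apply, h1, h2]

theorem range_inf_ker : (blockEmb (F := F)).range ⊓ (linPart (F := F)).ker = ⊥ := by
  rw [Subgroup.eq_bot_iff_forall]
  intro M hM
  obtain ⟨hK, hN⟩ := Subgroup.mem_inf.mp hM
  obtain ⟨A, rfl⟩ := hK
  rw [MonoidHom.mem_ker, linPart_blockEmb] at hN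
  rw [hN, map_one]

theorem range_sup_ker : (blockEmb (F := F)).range ⊔ (linPart (F := F)).ker = ⊤ := by
  rw [eq_top_iff]
  intro M _
  rw [eq_transl_mul_block M, sup_comm]
  exact Subgroup.mul_mem_sup (transl_mem_ker _) ⟨_, rfl⟩

theorem ent_transl_mul (v w : Fin 2 → F) : transl v * transl w = transl (v + w) := by
  apply ext_ent'
  intro i j
  rw [ent_mul]
  fin_cases i <;> fin_cases j <;> simp [ent_transl, translMat, add_comm]

theorem transl_zero : transl (0 : Fin 2 → F) = 1 := by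
  apply ext_ent'
  intro i j
  fin_cases i <;> fin_cases j <;> simp [ent_transl, translMat, ent_one]

theorem transl_pow (v : Fin 2 → F) (n : ℕ) : transl v ^ n = transl (n • v) := by
  induction n with
  | zero => rw [pow_zero, zero_smul, transl_zero]
  | succ k ih => rw [pow_succ, ih, ent_transl_mul, succ_nsmul]

theorem isPGroup_ker (p : ℕ) [Fact p.Prime] [CharP F p] : IsPGroup p ↥(linPart (F := F)).ker := by
  rintro ⟨M, hM⟩
  refine ⟨1, ?_⟩
  apply Subtype.ext
  rw [pow_one, Subgroup.coe_pow, Subgroup.coe_one]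
  change M ^ p = 1
  rw [eq_transl_of_mem_ker M hM, transl_pow]
  have : (p • ![ent M 0 2, ent M 1 2] : Fin 2 → F) = 0 := by
    ext i
    rw [Pi.smul_apply, nsmul_eq_mul, CharP.cast_eq_zero, zero_mul, Pi.zero_apply]
  rw [this, transl_zero]

def weylSL : SpecialLinearGroup (Fin 2) F :=
  ⟨!![0, 1; -1, 0], by simp [Matrix.det_fin_two]⟩

/-- A normal `p`-subgroup of `SL₂(F)` is trivial (`F` finite of characteristic `p`). -/
theorem normal_pgroup_SL2_eq_bot (p : ℕ) [Fact p.Prime] [Fintype F] [CharP F p]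
    (R : Subgroup (SpecialLinearGroup (Fin 2) F)) [hRn : R.Normal] (hR : IsPGroup p R) :
    R = ⊥ := by
  obtain ⟨Q, hQ⟩ := hR.exists_le_sylow
  obtain ⟨U, hU⟩ := NatSL2.exists_sylow_tSL (F := F) p
  obtain ⟨g, hg⟩ := MulAction.exists_smul_eq (SpecialLinearGroup (Fin 2) F) U Q
  have hRU : ∀ x ∈ R, ∃ a : F, x = tSL a := by
    intro x hx
    have h1 : g * x * g⁻¹ ∈ R := hRn.conj_mem x hx g
    have h2 : g * x * g⁻¹ ∈ (Q : Subgroup _) := hQ h1
    rw [← hg, Sylow.coe_subgroup_smul, Subgroup.mem_pointwise_smul_iff_inv_smul_mem, hU] at h2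
    have h3 : (MulAut.conj g)⁻¹ • (g * x * g⁻¹) = x := by
      rw [MulAut.smul_def, MulAut.conj_inv_apply]
      group
    rw [h3] at h2
    obtain ⟨t, ht⟩ := h2
    exact ⟨Multiplicative.toAdd t, ht.symm⟩
  rw [Subgroup.eq_bot_iff_forall]
  intro x hx
  obtain ⟨a, rfl⟩ := hRU x hx
  obtain ⟨b, hb⟩ := hRU _ (hRn.conj_mem _ hx weylSL)
  have h4 : weylSL * tSL a = tSL b * weylSL := by
    rw [← hb]
    group
  have h5 := congrArg (fun M : SpecialLinearGroup (Fin 2) F =>
    (M : Matrix (Fin 2) (Fin 2) F) 1 1) h4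
  simp only [Matrix.SpecialLinearGroup.coe_mul] at h5
  simp [weylSL, tSL, Matrix.mul_apply, Fin.sum_univ_two] at h5
  rw [h5, tSL_zero]

theorem pCore_eq (p : ℕ) [Fact p.Prime] [Fintype F] [CharP F p] :
    Cfsg.pCore p ↥(Cfsg.qdOver F) = (linPart (F := F)).ker := by
  apply le_antisymm
  · have hPn : (Cfsg.pCore p ↥(Cfsg.qdOver F)).Normal := Subgroup.sSup_normal _ (fun _ h => h.1)
    have hPp : IsPGroup p ↥(Cfsg.pCore p ↥(Cfsg.qdOver F)) :=
      Sylow.sSup_of_normal _ (fun _ h => h.2) (fun _ h => h.1)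
    have hn : ((Cfsg.pCore p ↥(Cfsg.qdOver F)).map (linPart (F := F))).Normal :=
      hPn.map _ linPart_surjective
    have := normal_pgroup_SL2_eq_bot p _ (hPp.map (linPart (F := F)))
    rw [← Subgroup.map_eq_bot_iff]
    exact this
  · exact le_sSup ⟨inferInstance, isPGroup_ker p⟩

/-- The additive identification of the translation subgroup with `F²`. -/
def kerEquiv : Additive ↥(linPart (F := F)).ker ≃+ (Fin 2 → F) where
  toFun m := ![ent (Additive.toMul m).1 0 2, ent (Additive.toMul m).1 1 2]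
  invFun v := Additive.ofMul ⟨transl v, transl_mem_ker v⟩
  left_inv m := by
    apply Additive.toMul.injective
    apply Subtype.ext
    exact (eq_transl_of_mem_ker _ (Additive.toMul m).2).symm
  right_inv v := by
    ext i
    fin_cases i <;> simp [ent_transl, translMat]
  map_add' m m' := by
    obtain ⟨h1, h2, h3, h4⟩ := (mem_ker_linPart _).mp (Additive.toMul m).2
    ext i
    fin_cases i
    · simp only [toMul_add, Subgroup.coe_mul, Fin.zero_eta, Fin.isValue, Matrix.cons_val_zero,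
        Pi.add_apply]
      rw [ent_mul, h1, h2, ent_22]
      ring
    · simp only [toMul_add, Subgroup.coe_mul, Fin.mk_one, Fin.isValue, Matrix.cons_val_one,
        Matrix.cons_val_zero, Pi.add_apply]
      rw [ent_mul, h3, h4, ent_22]
      ring

theorem kerEquiv_apply (m : ↥(linPart (F := F)).ker) :
    kerEquiv (Additive.ofMul m) = ![ent m.1 0 2, ent m.1 1 2] := rfl

theorem isNaturalSL2Module_ker :
    Cfsg.IsNaturalSL2Module F (linPart (F := F)).ker (blockEmb (F := F)).range := by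
  have hinj : Function.Injective ((linPart (F := F)).comp (blockEmb (F := F)).range.subtype) := by
    rintro ⟨_, A, rfl⟩ ⟨_, B, rfl⟩ h
    simp only [MonoidHom.coe_comp, Subgroup.coe_subtype, Function.comp_apply,
      linPart_blockEmb] at h
    subst h
    rfl
  refine ⟨?_, (linPart (F := F)).comp (blockEmb (F := F)).range.subtype, kerEquiv, ?_, ?_, ?_⟩
  · rw [Subgroup.normalizer_eq_top]
    exact le_top
  · intro A
    exact ⟨⟨blockEmb A, A, rfl⟩, linPart_blockEmb A⟩
  · rw [(MonoidHom.ker_eq_bot_iff _).mpr hinj, eq_comm, Subgroup.subgroupOf_eq_bot, disjoint_iff,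
      Subgroup.eq_bot_iff_forall]
    intro l hl
    obtain ⟨hc, hK⟩ := Subgroup.mem_inf.mp hl
    rw [Subgroup.mem_centralizer_iff] at hc
    obtain ⟨hl02, hl12⟩ := (mem_range_blockEmb l).mp hK
    have key : ∀ x : Fin 2 → F, ∀ i : Fin 2,
        x i = ent l (Fin.castSucc i) 0 * x 0 + ent l (Fin.castSucc i) 1 * x 1 := by
      intro x i
      have h1 := hc (transl x) (transl_mem_ker x)
      have h2 := congrArg (fun M => ent M (Fin.castSucc i) 2) h1
      simp only [ent_mul, ent_22] at h2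
      fin_cases i
      · simpa [ent_transl, translMat, hl02, hl12] using h2
      · simpa [ent_transl, translMat, hl02, hl12] using h2
    have hN : l ∈ (linPart (F := F)).ker := by
      rw [mem_ker_linPart]
      refine ⟨?_, ?_, ?_, ?_⟩
      · simpa using (key ![1, 0] 0).symm
      · simpa using (key ![0, 1] 0).symm
      · simpa using (key ![1, 0] 1).symm
      · simpa using (key ![0, 1] 1).symm
    have : l ∈ (blockEmb (F := F)).range ⊓ (linPart (F := F)).ker := ⟨hK, hN⟩
    rw [range_inf_ker] at this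
    exact this
  · intro l v
    have hmem : (l : ↥(Cfsg.qdOver F)) * v * (l : ↥(Cfsg.qdOver F))⁻¹ ∈ (linPart (F := F)).ker :=
      (inferInstance : (linPart (F := F)).ker.Normal).conj_mem _ v.2 _
    refine ⟨⟨_, hmem⟩, rfl, ?_⟩
    obtain ⟨hl02, hl12⟩ := (mem_range_blockEmb l.1).mp l.2
    obtain ⟨hi02, hi12⟩ := (mem_range_blockEmb (l.1)⁻¹).mp (Subgroup.inv_mem _ l.2)
    rw [kerEquiv_apply, kerEquiv_apply]
    simp only [MonoidHom.coe_comp, Subgroup.coe_subtype, Function.comp_apply]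
    rw [linPart_apply]
    ext i
    fin_cases i
    · simp only [Fin.zero_eta, Fin.isValue, Matrix.cons_val_zero]
      simp only [ent_mul, hi02, hi12, ent_22, hl02]
      simp [Matrix.mulVec, dotProduct, Fin.sum_univ_two]
    · simp only [Fin.mk_one, Fin.isValue, Matrix.cons_val_one, Matrix.cons_val_zero]
      simp only [ent_mul, hi02, hi12, ent_22, hl12]
      simp [Matrix.mulVec, dotProduct, Fin.sum_univ_two]

end Cfsg.Agent.Lib.Helper13.QdOver
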