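/-
helper13: automorphisms of `Q₈` of prime order `≥ 5` are trivial; consequence for elements
normalizing a quaternion subgroup.
-/
import Mathlib

set_option autoImplicit false
set_option linter.unusedSectionVars false

namespace Cfsg.Agent.Lib.Helper13.QuatNorm

open QuaternionGroup

theorem quat_sq_eq_one : ∀ g : QuaternionGroup 2, g ^ 2 = 1 → g ≠ 1 → g = a 2 := by decide

theorem quat_a_two_ne_one : (a 2 : QuaternionGroup 2) ≠ 1 := by decide

theorem quat_a_two_sq : (a 2 : QuaternionGroup 2) ^ 2 = 1 := by decide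

/-- An automorphism of `Q₈` of prime order at least `5` is trivial. -/
theorem mulAut_quat_eq_one (τ : MulAut (QuaternionGroup 2)) (r : ℕ) [hr : Fact r.Prime]
    (h5 : 5 ≤ r) (hτ : τ ^ r = 1) : τ = 1 := by
  classical
  let G : Subgroup (MulAut (QuaternionGroup 2)) := Subgroup.zpowers τ
  have hG : IsPGroup r G := by
    rintro ⟨g, hg⟩
    obtain ⟨n, rfl⟩ := Subgroup.mem_zpowers_iff.mp hg
    refine ⟨1, ?_⟩
    apply Subtype.ext
    rw [pow_one]
    show (τ ^ n) ^ r = 1
    rw [← zpow_natCast, ← zpow_mul, mul_comm, zpow_mul, zpow_natCast, hτ, one_zpow]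
  have hmod := hG.card_modEq_card_fixedPoints (QuaternionGroup 2)
  let Fx : Subgroup (QuaternionGroup 2) :=
    MonoidHom.eqLocus τ.toMonoidHom (MonoidHom.id (QuaternionGroup 2))
  have hFx : ∀ x, x ∈ Fx ↔ τ x = x := fun x => Iff.rfl
  have hfix : (MulAction.fixedPoints G (QuaternionGroup 2)) = (Fx : Set (QuaternionGroup 2)) := by
    ext x
    rw [MulAction.mem_fixedPoints]
    constructor
    · intro h
      exact h ⟨τ, Subgroup.mem_zpowers τ⟩
    · intro h g
      have hle : G ≤ MulAction.stabilizer (MulAut (QuaternionGroup 2)) x := by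
        apply (Subgroup.zpowers_le).mpr
        exact h
      exact hle g.2
  have hcard : Nat.card (MulAction.fixedPoints G (QuaternionGroup 2)) = Nat.card Fx := by
    rw [hfix]
    rfl
  rw [hcard] at hmod
  have h8 : Nat.card (QuaternionGroup 2) = 8 := by
    rw [Nat.card_eq_fintype_card, QuaternionGroup.card]
  rw [h8] at hmod
  have hdvd : Nat.card Fx ∣ 8 := by
    rw [← h8]
    exact Subgroup.card_subgroup_dvd_card Fx
  have ha2 : a 2 ∈ Fx := by
    rw [hFx]
    apply quat_sq_eq_one
    · rw [← map_pow, quat_a_two_sq, map_one]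
    · intro h
      apply quat_a_two_ne_one
      exact τ.injective (h.trans (map_one τ).symm)
  have hne1 : Nat.card Fx ≠ 1 := by
    intro h
    have := (Subgroup.card_eq_one.mp h)
    rw [this] at ha2
    exact quat_a_two_ne_one (Subgroup.mem_bot.mp ha2)
  have hle : Nat.card Fx ≤ 8 := Nat.le_of_dvd (by norm_num) hdvd
  have hpos : 0 < Nat.card Fx := Nat.card_pos
  have hrdvd : r ∣ 8 - Nat.card Fx := (Nat.modEq_iff_dvd' hle).mp hmod.symm
  have hpr := hr.out
  have h8' : Nat.card Fx = 8 := by
    have hdvd' : Nat.card Fx ∣ 2 ^ 3 := by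
      have h23 : (2 : ℕ) ^ 3 = 8 := by norm_num
      rw [h23]
      exact hdvd
    obtain ⟨k, hk, hk2⟩ := (Nat.dvd_prime_pow Nat.prime_two).mp hdvd'
    have hk' : k = 0 ∨ k = 1 ∨ k = 2 ∨ k = 3 := by omega
    rcases hk' with rfl | rfl | rfl | rfl
    · exact absurd hk2 hne1
    · exfalso
      rw [hk2] at hrdvd
      have h6 : r ∣ 2 * 3 := by norm_num at hrdvd ⊢; exact hrdvd
      rcases (Nat.Prime.dvd_mul hpr).mp h6 with h | h
      · have := Nat.le_of_dvd (by norm_num) h; omega
      · have := Nat.le_of_dvd (by norm_num) h; omega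
    · exfalso
      rw [hk2] at hrdvd
      have h4 : r ∣ 2 * 2 := by norm_num at hrdvd ⊢; exact hrdvd
      rcases (Nat.Prime.dvd_mul hpr).mp h4 with h | h
      · have := Nat.le_of_dvd (by norm_num) h; omega
      · have := Nat.le_of_dvd (by norm_num) h; omega
    · rw [hk2]; norm_num
  have htop : Fx = ⊤ := by
    apply Subgroup.eq_top_of_card_eq
    rw [h8', h8]
  ext x
  have : x ∈ Fx := by rw [htop]; trivial
  exact (hFx x).mp this

section conj

variable {Γ : Type*} [Group Γ]

/-- Conjugation action of the normalizer of `R` on `R`. -/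
def conjAut (R : Subgroup Γ) : ↥(Subgroup.normalizer (R : Set Γ)) →* MulAut ↥R where
  toFun y :=
    { toFun := fun h => ⟨(y : Γ) * h * (y : Γ)⁻¹, (Subgroup.mem_normalizer_iff.mp y.2 h).mp h.2⟩
      invFun := fun h => ⟨(y : Γ)⁻¹ * h * (y : Γ), by
        rw [Subgroup.mem_normalizer_iff.mp y.2]
        have : (y : Γ) * ((y : Γ)⁻¹ * h * (y : Γ)) * (y : Γ)⁻¹ = h := by group
        rw [this]
        exact h.2⟩
      left_inv := fun h => by
        apply Subtype.ext
        simp only
        group
      right_inv := fun h => by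
        apply Subtype.ext
        simp only
        group
      map_mul' := fun h k => by
        apply Subtype.ext
        simp only [Subgroup.coe_mul]
        group }
  map_one' := by
    ext h
    simp
  map_mul' := fun y z => by
    ext h
    simp only [Subgroup.coe_mul, MulAut.mul_apply, MulEquiv.coe_mk, Equiv.coe_fn_mk]
    group

theorem conjAut_apply (R : Subgroup Γ) (y : ↥(Subgroup.normalizer (R : Set Γ))) (h : ↥R) :
    ((conjAut R y) h : Γ) = (y : Γ) * h * (y : Γ)⁻¹ := rfl

/-- An element of prime order `≥ 5` normalizing a quaternion group centralizes it. -/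
theorem centralizes_of_pow_prime (R : Subgroup Γ) (e : ↥R ≃* QuaternionGroup 2) (y : Γ)
    (hy : y ∈ Subgroup.normalizer (R : Set Γ)) (r : ℕ) [Fact r.Prime] (h5 : 5 ≤ r)
    (hyr : y ^ r = 1) : ∀ h ∈ R, y * h * y⁻¹ = h := by
  let σ : MulAut ↥R := conjAut R ⟨y, hy⟩
  have hσ : σ ^ r = 1 := by
    show (conjAut R ⟨y, hy⟩) ^ r = 1
    rw [← map_pow]
    have : (⟨y, hy⟩ : ↥(Subgroup.normalizer (R : Set Γ))) ^ r = 1 := by
      apply Subtype.ext
      simpa using hyr
    rw [this, map_one]
  let τ : MulAut (QuaternionGroup 2) := MulAut.congr e σ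
  have hτ : τ ^ r = 1 := by
    show (MulAut.congr e σ) ^ r = 1
    rw [← map_pow, hσ, map_one]
  have hτ1 : τ = 1 := mulAut_quat_eq_one τ r h5 hτ
  have hσ1 : σ = 1 := by
    have : MulAut.congr e σ = MulAut.congr e 1 := by rw [map_one]; exact hτ1
    exact (MulAut.congr e).injective this
  intro h hh
  have := congrArg (fun s : MulAut ↥R => ((s ⟨h, hh⟩ : ↥R) : Γ)) hσ1
  simpa [σ, conjAut_apply] using this

/-- For a finite subgroup, mapping it into itself by conjugation suffices for the normalizer. -/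
theorem mem_normalizer_of_conj_mem (R : Subgroup Γ) [Finite R] (g : Γ)
    (h : ∀ x ∈ R, g * x * g⁻¹ ∈ R) : g ∈ Subgroup.normalizer (R : Set Γ) := by
  rw [Subgroup.mem_normalizer_iff]
  intro x
  refine ⟨h x, ?_⟩
  intro hx
  let f : ↥R → ↥R := fun y => ⟨g * y * g⁻¹, h y y.2⟩
  have hf : Function.Injective f := by
    intro y z hyz
    apply Subtype.ext
    have := congrArg Subtype.val hyz
    simp only [f] at this
    exact mul_left_cancel (mul_right_cancel this)
  have hsurj := Finite.surjective_of_injective hf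
  obtain ⟨y, hy⟩ := hsurj ⟨g * x * g⁻¹, hx⟩
  have := congrArg Subtype.val hy
  simp only [f] at this
  have hxy : (y : Γ) = x := mul_left_cancel (mul_right_cancel this)
  rw [← hxy]
  exact y.2

end conj

end Cfsg.Agent.Lib.Helper13.QuatNorm
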