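/-
helper13: pairs of anticommuting `2 × 2` matrices `A, B` with `A² = B² = -1` (a quaternion
group inside `GL₂(F)`), and the element `(-1 + A + B + AB)/2` of order 3 normalizing it.
-/
import Mathlib
import Cfsg.Agent.Lib.Helper13.CAGroup

set_option autoImplicit false
set_option linter.unusedSectionVars false
set_option linter.unusedSimpArgs false

namespace Cfsg.Agent.Lib.Helper13.QuatNorm

open Matrix

variable {F : Type*} [Field F]

/-- Cayley–Hamilton for `2 × 2` matrices. -/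
theorem ch2 (M : Matrix (Fin 2) (Fin 2) F) : M * M = M.trace • M - M.det • (1 : Matrix (Fin 2) (Fin 2) F) := by
  rw [Matrix.det_fin_two, Matrix.trace_fin_two]
  ext i j
  fin_cases i <;> fin_cases j <;> simp [Matrix.mul_apply, Fin.sum_univ_two] <;> ring

/-- Scalar matrices. -/
def IsScal (M : Matrix (Fin 2) (Fin 2) F) : Prop := ∃ c : F, M = c • (1 : Matrix (Fin 2) (Fin 2) F)

theorem isScal_iff (M : Matrix (Fin 2) (Fin 2) F) :
    IsScal M ↔ (M 0 1 = 0 ∧ M 1 0 = 0 ∧ M 0 0 = M 1 1) := by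
  constructor
  · rintro ⟨c, rfl⟩
    simp
  · rintro ⟨h1, h2, h3⟩
    refine ⟨M 0 0, ?_⟩
    ext i j
    fin_cases i <;> fin_cases j <;> simp [h1, h2, h3]

theorem commute_of_not_isScal (z A B : Matrix (Fin 2) (Fin 2) F) (hz : ¬ IsScal z)
    (hA : A * z = z * A) (hB : B * z = z * B) : A * B = B * A :=
  commute_of_commute_nonscalar z A B (fun h => hz ((isScal_iff z).mpr h)) hA hB

theorem smul_eq_smul_one {M : Matrix (Fin 2) (Fin 2) F} (hM : ¬ IsScal M) {c d : F}
    (h : c • M = d • (1 : Matrix (Fin 2) (Fin 2) F)) : c = 0 ∧ d = 0 := by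
  have hc : c = 0 := by
    by_contra hc
    apply hM
    refine ⟨c⁻¹ * d, ?_⟩
    have : M = c⁻¹ • (c • M) := by rw [smul_smul, inv_mul_cancel₀ hc, one_smul]
    rw [this, h, smul_smul]
  refine ⟨hc, ?_⟩
  rw [hc, zero_smul] at h
  have := congrFun (congrFun h 0) 0
  simpa using this.symm

/-- An involution commuting with two non-commuting matrices is `-1`. -/
theorem eq_neg_one_of_sq {Z X Y : Matrix (Fin 2) (Fin 2) F} (hZ : Z * Z = 1) (hZ1 : Z ≠ 1)
    (hX : X * Z = Z * X) (hY : Y * Z = Z * Y) (hXY : X * Y ≠ Y * X) : Z = -1 := by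
  by_cases hs : IsScal Z
  · obtain ⟨c, rfl⟩ := hs
    have h00 := congrFun (congrFun hZ 0) 0
    simp at h00
    have hc : (c - 1) * (c + 1) = 0 := by ring_nf; rw [← pow_two] at *; linear_combination h00
    rcases mul_eq_zero.mp hc with h | h
    · exfalso
      apply hZ1
      rw [sub_eq_zero.mp h, one_smul]
    · rw [eq_neg_of_add_eq_zero_left h]
      simp
  · exact absurd (commute_of_not_isScal Z X Y hs hX hY) hXY

section pair

variable {A B : Matrix (Fin 2) (Fin 2) F} (hAA : A * A = -1) (hBB : B * B = -1)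
  (hBA : B * A = -(A * B)) (h2 : (2 : F) ≠ 0)

include hAA hBB hBA h2

theorem AB_ne_zero : A * B ≠ 0 := by
  intro h
  have h1 : A * (A * B) = 0 := by rw [h, mul_zero]
  rw [← mul_assoc, hAA, neg_mul, one_mul, neg_eq_zero] at h1
  rw [h1, mul_zero] at hBB
  have := congrFun (congrFun hBB 0) 0
  simp at this

theorem not_commute : A * B ≠ B * A := by
  intro h
  rw [hBA] at h
  have h1 : (2 : F) • (A * B) = 0 := by
    rw [two_smul]
    nth_rewrite 1 [h]
    exact neg_add_cancel _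
  rcases smul_eq_zero.mp h1 with h3 | h3
  · exact h2 h3
  · exact AB_ne_zero hAA hBB hBA h2 h3

theorem not_isScal_A : ¬ IsScal A := by
  rintro ⟨c, hc⟩
  apply not_commute hAA hBB hBA h2
  rw [hc]
  simp

theorem not_isScal_B : ¬ IsScal B := by
  rintro ⟨c, hc⟩
  apply not_commute hAA hBB hBA h2
  rw [hc]
  simp

/-- Anything commuting with both `A` and `B` is scalar. -/
theorem isScal_of_commute {Y : Matrix (Fin 2) (Fin 2) F} (hA : A * Y = Y * A) (hB : B * Y = Y * B) :
    IsScal Y := by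
  by_contra hs
  exact not_commute hAA hBB hBA h2 (commute_of_not_isScal Y A B hs hA hB)

omit hBB hBA h2 in
theorem trace_det_of_sq (hA : ¬ IsScal A) : A.trace = 0 ∧ A.det = 1 := by
  have h := ch2 A
  rw [hAA] at h
  have h1 : A.trace • A = (A.det - 1) • (1 : Matrix (Fin 2) (Fin 2) F) := by
    rw [sub_smul, one_smul]
    have : A.trace • A = -1 + A.det • (1 : Matrix (Fin 2) (Fin 2) F) := by
      rw [h]; abel
    rw [this]; abel
  obtain ⟨h3, h4⟩ := smul_eq_smul_one hA h1
  exact ⟨h3, sub_eq_zero.mp h4⟩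

theorem trace_A : A.trace = 0 := (trace_det_of_sq hAA (not_isScal_A hAA hBB hBA h2)).1
theorem det_A : A.det = 1 := (trace_det_of_sq hAA (not_isScal_A hAA hBB hBA h2)).2
theorem trace_B : B.trace = 0 := (trace_det_of_sq hBB (not_isScal_B hAA hBB hBA h2)).1
theorem det_B : B.det = 1 := (trace_det_of_sq hBB (not_isScal_B hAA hBB hBA h2)).2

theorem trace_AB : (A * B).trace = 0 := by
  have h1 : (A * B).trace = (B * A).trace := Matrix.trace_mul_comm A B
  rw [hBA, Matrix.trace_neg] at h1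
  have h3 : (2 : F) * (A * B).trace = 0 := by linear_combination h1
  exact (mul_eq_zero.mp h3).resolve_left h2

/-- The quaternion `-1 + A + B + AB`. -/
def qq (A B : Matrix (Fin 2) (Fin 2) F) : Matrix (Fin 2) (Fin 2) F := -1 + A + B + A * B

/-- Its conjugate. -/
def qb (A B : Matrix (Fin 2) (Fin 2) F) : Matrix (Fin 2) (Fin 2) F := -1 - A - B - A * B

omit h2 in
theorem rules : (∀ X : Matrix (Fin 2) (Fin 2) F, A * (A * X) = -X) ∧
    (∀ X : Matrix (Fin 2) (Fin 2) F, B * (B * X) = -X) ∧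
    (∀ X : Matrix (Fin 2) (Fin 2) F, B * (A * X) = -(A * (B * X))) := by
  refine ⟨fun X => ?_, fun X => ?_, fun X => ?_⟩
  · rw [← mul_assoc, hAA, neg_mul, one_mul]
  · rw [← mul_assoc, hBB, neg_mul, one_mul]
  · rw [← mul_assoc, hBA, neg_mul, mul_assoc]

omit h2 in
theorem qq_mul_qb : qq A B * qb A B = (4 : F) • (1 : Matrix (Fin 2) (Fin 2) F) := by
  obtain ⟨r1, r2, r3⟩ := rules hAA hBB hBA
  unfold qq qb
  simp only [mul_add, add_mul, mul_sub, sub_mul, mul_neg, neg_mul, mul_one, one_mul, mul_assoc,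
    hAA, hBB, hBA, r1, r2, r3, neg_neg]
  module

omit h2 in
theorem qq_mul_A : qq A B * A = (A * B) * qq A B := by
  obtain ⟨r1, r2, r3⟩ := rules hAA hBB hBA
  unfold qq
  simp only [mul_add, add_mul, mul_sub, sub_mul, mul_neg, neg_mul, mul_one, one_mul, mul_assoc,
    hAA, hBB, hBA, r1, r2, r3, neg_neg]
  abel

omit h2 in
theorem qq_mul_B : qq A B * B = A * qq A B := by
  obtain ⟨r1, r2, r3⟩ := rules hAA hBB hBA
  unfold qq
  simp only [mul_add, add_mul, mul_sub, sub_mul, mul_neg, neg_mul, mul_one, one_mul, mul_assoc,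
    hAA, hBB, hBA, r1, r2, r3, neg_neg]
  abel

/-- `ω = (-1 + A + B + AB)/2`. -/
noncomputable def om (A B : Matrix (Fin 2) (Fin 2) F) : Matrix (Fin 2) (Fin 2) F := (2 : F)⁻¹ • qq A B

/-- `ω⁻¹`. -/
noncomputable def omb (A B : Matrix (Fin 2) (Fin 2) F) : Matrix (Fin 2) (Fin 2) F := (2 : F)⁻¹ • qb A B

theorem om_mul_omb : om A B * omb A B = 1 := by
  unfold om omb
  rw [smul_mul_smul_comm, qq_mul_qb hAA hBB hBA, smul_smul]
  have : (2 : F)⁻¹ * (2 : F)⁻¹ * 4 = 1 := by field_simp; norm_num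
  rw [this, one_smul]

theorem trace_om : (om A B).trace = -1 := by
  unfold om qq
  rw [Matrix.trace_smul, Matrix.trace_add, Matrix.trace_add, Matrix.trace_add, Matrix.trace_neg,
    trace_A hAA hBB hBA h2, trace_B hAA hBB hBA h2, trace_AB hAA hBB hBA h2, Matrix.trace_one]
  simp
  field_simp

theorem omb_eq : omb A B = -1 - om A B := by
  unfold om omb qq qb
  have hc : ((2 : F)⁻¹ + (2 : F)⁻¹) • (1 : Matrix (Fin 2) (Fin 2) F) = 1 := by
    rw [← two_mul, mul_inv_cancel₀ h2, one_smul]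
  symm
  calc (-1 : Matrix (Fin 2) (Fin 2) F) - (2 : F)⁻¹ • (-1 + A + B + A * B)
      = -(((2 : F)⁻¹ + (2 : F)⁻¹) • (1 : Matrix (Fin 2) (Fin 2) F))
          - (2 : F)⁻¹ • (-1 + A + B + A * B) := by rw [hc]
    _ = (2 : F)⁻¹ • (-1 - A - B - A * B) := by module

theorem det_om : (om A B).det = 1 := by
  have h1 := om_mul_omb hAA hBB hBA h2
  rw [omb_eq hAA hBB hBA h2, mul_sub, mul_neg, mul_one] at h1
  have h3 := ch2 (om A B)
  rw [trace_om hAA hBB hBA h2] at h3
  have h4 : (om A B).det • (1 : Matrix (Fin 2) (Fin 2) F) = 1 := by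
    have : (om A B).det • (1 : Matrix (Fin 2) (Fin 2) F) = (-1 : F) • om A B - om A B * om A B := by
      rw [h3]; abel
    rw [this, ← h1]
    simp
  have := congrFun (congrFun h4 0) 0
  simpa using this

theorem om_mul_A : om A B * A = (A * B) * om A B := by
  unfold om
  rw [smul_mul_assoc, mul_smul_comm, qq_mul_A hAA hBB hBA]

theorem om_mul_B : om A B * B = A * om A B := by
  unfold om
  rw [smul_mul_assoc, mul_smul_comm, qq_mul_B hAA hBB hBA]

end pair

end Cfsg.Agent.Lib.Helper13.QuatNorm
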