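/-
helper13: elements of prime order of `SL₂(p)` conjugate into the normalizer of a quaternion
subgroup `R ≤ GL₂(p)`: exactly those of order `2` and `3` (modulo scalars).
-/
import Mathlib
import Cfsg.Prelude.Def_GeometricClasses
import Cfsg.Agent.Lib.Helper13.QuatPairMat
import Cfsg.Agent.Lib.Helper13.QuatAut
import Cfsg.Agent.Lib.Helper13.SL2Conj
import Cfsg.Agent.Lib.Helper13.SLBridge2

set_option autoImplicit false
set_option linter.unusedSectionVars false

namespace Cfsg.Agent.Lib.Helper13.QuatNorm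

open Matrix QuaternionGroup
open scoped MatrixGroups

variable {F : Type*} [Field F]

/-- Data extracted from a quaternion subgroup of `GL₂(F)`. -/
structure QData (R : Subgroup (GL (Fin 2) F)) where
  a : GL (Fin 2) F
  b : GL (Fin 2) F
  ha : a ∈ R
  hb : b ∈ R
  hAA : (a : Matrix (Fin 2) (Fin 2) F) * (a : Matrix (Fin 2) (Fin 2) F) = -1
  hBB : (b : Matrix (Fin 2) (Fin 2) F) * (b : Matrix (Fin 2) (Fin 2) F) = -1
  hBA : (b : Matrix (Fin 2) (Fin 2) F) * (a : Matrix (Fin 2) (Fin 2) F)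
    = -((a : Matrix (Fin 2) (Fin 2) F) * (b : Matrix (Fin 2) (Fin 2) F))
  hgen : ∀ h ∈ R, ∃ i j : ℕ, h = a ^ i * b ^ j

theorem quat_rel1 : (a 1 : QuaternionGroup 2) ^ 4 = 1 := by decide
theorem quat_rel2 : (a 1 : QuaternionGroup 2) ^ 2 ≠ 1 := by decide
theorem quat_rel3 : (xa 0 : QuaternionGroup 2) ^ 2 = (a 1) ^ 2 := by decide
theorem quat_rel4 : (xa 0 : QuaternionGroup 2) * a 1 = (a 1)⁻¹ * xa 0 := by decide
theorem quat_gen : ∀ g : QuaternionGroup 2, ∃ i : Fin 4, ∃ j : Fin 2,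
    g = (a 1) ^ (i : ℕ) * (xa 0) ^ (j : ℕ) := by decide

/-- A quaternion subgroup of `GL₂(F)` (characteristic not two) is generated by anticommuting
square roots of `-1`. -/
theorem exists_qdata (R : Subgroup (GL (Fin 2) F)) (e : ↥R ≃* QuaternionGroup 2) :
    Nonempty (QData R) := by
  let a₀ : ↥R := e.symm (a 1)
  let b₀ : ↥R := e.symm (xa 0)
  have h1 : a₀ ^ 4 = 1 := by rw [← map_pow, quat_rel1, map_one]
  have h2 : a₀ ^ 2 ≠ 1 := by
    rw [← map_pow]
    intro h
    exact quat_rel2 (e.symm.injective (h.trans (map_one e.symm).symm))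
  have h3 : b₀ ^ 2 = a₀ ^ 2 := by rw [← map_pow, ← map_pow, quat_rel3]
  have h4 : b₀ * a₀ = a₀⁻¹ * b₀ := by rw [← map_mul, quat_rel4, map_mul, map_inv]
  have hgen : ∀ h : ↥R, ∃ i j : ℕ, h = a₀ ^ i * b₀ ^ j := by
    intro h
    obtain ⟨i, j, hij⟩ := quat_gen (e h)
    refine ⟨i, j, ?_⟩
    apply e.injective
    rw [hij, map_mul, map_pow, map_pow]
    simp [a₀, b₀]
  -- matrices
  set A : Matrix (Fin 2) (Fin 2) F := ((a₀ : GL (Fin 2) F) : Matrix (Fin 2) (Fin 2) F) with hA
  set B : Matrix (Fin 2) (Fin 2) F := ((b₀ : GL (Fin 2) F) : Matrix (Fin 2) (Fin 2) F) with hB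
  have m1 : A ^ 4 = 1 := by
    have := congrArg (fun x : ↥R => ((x : GL (Fin 2) F) : Matrix (Fin 2) (Fin 2) F)) h1
    simpa using this
  have m2 : A ^ 2 ≠ 1 := by
    intro h
    apply h2
    apply Subtype.ext
    apply Units.ext
    simpa using h
  have m3 : B ^ 2 = A ^ 2 := by
    have := congrArg (fun x : ↥R => ((x : GL (Fin 2) F) : Matrix (Fin 2) (Fin 2) F)) h3
    simpa using this
  have m4 : B * A = ((a₀⁻¹ : ↥R) : GL (Fin 2) F).val * B := by
    have := congrArg (fun x : ↥R => ((x : GL (Fin 2) F) : Matrix (Fin 2) (Fin 2) F)) h4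
    simpa using this
  have hZ : A * A = -1 := by
    apply eq_neg_one_of_sq (X := A) (Y := B)
    · calc A * A * (A * A) = A ^ 4 := by noncomm_ring
        _ = 1 := m1
    · rw [← pow_two]; exact m2
    · noncomm_ring
    · have : A * A = B * B := by rw [← pow_two, ← pow_two, m3]
      rw [this]; noncomm_ring
    · intro hc
      -- commuting forces a₀² = 1
      apply h2
      have hcomm : a₀ * b₀ = b₀ * a₀ := by
        apply Subtype.ext
        apply Units.ext
        simpa using hc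
      have : a₀ = a₀⁻¹ := by
        have h5 : b₀ * a₀ = b₀ * a₀⁻¹ := by
          rw [h4]
          have : a₀⁻¹ * b₀ = b₀ * a₀⁻¹ := by
            calc a₀⁻¹ * b₀ = a₀⁻¹ * (b₀ * a₀) * a₀⁻¹ := by group
              _ = a₀⁻¹ * (a₀ * b₀) * a₀⁻¹ := by rw [hcomm]
              _ = b₀ * a₀⁻¹ := by group
          exact this
        exact mul_left_cancel h5
      calc a₀ ^ 2 = a₀ * a₀ := pow_two _
        _ = a₀ * a₀⁻¹ := by nth_rewrite 2 [this]; rfl
        _ = 1 := mul_inv_cancel _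
  have hBB : B * B = -1 := by rw [← pow_two, m3, pow_two, hZ]
  have hinv : ((a₀⁻¹ : ↥R) : GL (Fin 2) F).val = -A := by
    have h5 : A * ((a₀⁻¹ : ↥R) : GL (Fin 2) F).val = 1 := by
      rw [hA, Subgroup.coe_inv]
      exact Units.mul_inv _
    have h6 : A * (-A) = 1 := by rw [mul_neg, hZ, neg_neg]
    have h7 : (-A) * A = 1 := by rw [neg_mul, hZ, neg_neg]
    calc ((a₀⁻¹ : ↥R) : GL (Fin 2) F).val = (-A * A) * ((a₀⁻¹ : ↥R) : GL (Fin 2) F).val := by
          rw [h7, one_mul]
      _ = -A * (A * ((a₀⁻¹ : ↥R) : GL (Fin 2) F).val) := by rw [mul_assoc]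
      _ = -A := by rw [h5, mul_one]
  have hBA : B * A = -(A * B) := by rw [m4, hinv, neg_mul]
  refine ⟨⟨(a₀ : GL (Fin 2) F), (b₀ : GL (Fin 2) F), a₀.2, b₀.2, hZ, hBB, hBA, ?_⟩⟩
  intro h hh
  obtain ⟨i, j, hij⟩ := hgen ⟨h, hh⟩
  refine ⟨i, j, ?_⟩
  have := congrArg (fun x : ↥R => (x : GL (Fin 2) F)) hij
  simpa using this


theorem mem_specialLinear_iff (x : GL (Fin 2) F) :
    x ∈ Cfsg.Geo.specialLinear (Fin 2) F ↔ (x : Matrix (Fin 2) (Fin 2) F).det = 1 := by
  unfold Cfsg.Geo.specialLinear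
  rw [MonoidHom.mem_ker, Units.ext_iff, Matrix.GeneralLinearGroup.val_det_apply, Units.val_one]

/-- Two elements of `GL₂(F)` of determinant one with the same trace `τ`, `τ² ≠ 4`, are conjugate
under an element of determinant one. -/
theorem exists_conj_of_trace_eq [Fintype F] (x y : GL (Fin 2) F)
    (hx : (x : Matrix (Fin 2) (Fin 2) F).det = 1) (hy : (y : Matrix (Fin 2) (Fin 2) F).det = 1)
    (htr : (x : Matrix (Fin 2) (Fin 2) F).trace = (y : Matrix (Fin 2) (Fin 2) F).trace)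
    (h4 : (x : Matrix (Fin 2) (Fin 2) F).trace ^ 2 ≠ 4) :
    ∃ g ∈ Cfsg.Geo.specialLinear (Fin 2) F, g⁻¹ * x * g = y := by
  obtain ⟨x', rfl⟩ := (mem_range_toGL_iff x).mpr hx
  obtain ⟨y', rfl⟩ := (mem_range_toGL_iff y).mpr hy
  have hc := isConj_of_trace_eq x' y' htr h4
  obtain ⟨c, hc⟩ := isConj_iff.mp hc
  refine ⟨SpecialLinearGroup.toGL c⁻¹, ?_, ?_⟩
  · rw [mem_specialLinear_iff]
    exact (c⁻¹).2
  · rw [← hc, map_inv, inv_inv, map_mul, map_mul, map_inv]

section main

variable {R : Subgroup (GL (Fin 2) F)} (D : QData R) (h2 : (2 : F) ≠ 0)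

include h2 in
/-- The element `ω` of `GL₂(F)`. -/
noncomputable def omG : GL (Fin 2) F :=
  ⟨om (D.a : Matrix (Fin 2) (Fin 2) F) (D.b : Matrix (Fin 2) (Fin 2) F),
    omb (D.a : Matrix (Fin 2) (Fin 2) F) (D.b : Matrix (Fin 2) (Fin 2) F),
    om_mul_omb D.hAA D.hBB D.hBA h2,
    mul_eq_one_comm.mp (om_mul_omb D.hAA D.hBB D.hBA h2)⟩

theorem omG_val : ((omG D h2 : GL (Fin 2) F) : Matrix (Fin 2) (Fin 2) F) =
    om (D.a : Matrix (Fin 2) (Fin 2) F) (D.b : Matrix (Fin 2) (Fin 2) F) := rfl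

theorem omG_conj_a : omG D h2 * D.a * (omG D h2)⁻¹ = D.a * D.b := by
  rw [mul_inv_eq_iff_eq_mul]
  apply Units.ext
  rw [Units.val_mul, Units.val_mul, Units.val_mul, omG_val]
  exact om_mul_A D.hAA D.hBB D.hBA h2

theorem omG_conj_b : omG D h2 * D.b * (omG D h2)⁻¹ = D.a := by
  rw [mul_inv_eq_iff_eq_mul]
  apply Units.ext
  rw [Units.val_mul, Units.val_mul, omG_val]
  exact om_mul_B D.hAA D.hBB D.hBA h2

theorem omG_mem_normalizer [Finite ↥R] :
    omG D h2 ∈ Subgroup.normalizer ((R : Subgroup (GL (Fin 2) F)) : Set (GL (Fin 2) F)) := by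
  apply mem_normalizer_of_conj_mem
  intro x hx
  obtain ⟨i, j, rfl⟩ := D.hgen x hx
  have : omG D h2 * (D.a ^ i * D.b ^ j) * (omG D h2)⁻¹
      = (omG D h2 * D.a * (omG D h2)⁻¹) ^ i * (omG D h2 * D.b * (omG D h2)⁻¹) ^ j := by
    rw [conj_pow, conj_pow]
    group
  rw [this, omG_conj_a, omG_conj_b]
  exact mul_mem (pow_mem (mul_mem D.ha D.hb) _) (pow_mem D.ha _)

theorem neg_omG_mem_normalizer [Finite ↥R] :
    -omG D h2 ∈ Subgroup.normalizer ((R : Subgroup (GL (Fin 2) F)) : Set (GL (Fin 2) F)) := by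
  have h := omG_mem_normalizer D h2
  rw [Subgroup.mem_normalizer_iff] at h ⊢
  intro x
  rw [h x]
  have : -omG D h2 * x * (-omG D h2)⁻¹ = omG D h2 * x * (omG D h2)⁻¹ := by
    rw [← neg_inv, neg_mul, neg_mul, mul_neg, neg_neg]
  rw [this]

theorem det_omG : ((omG D h2 : GL (Fin 2) F) : Matrix (Fin 2) (Fin 2) F).det = 1 :=
  det_om D.hAA D.hBB D.hBA h2

theorem trace_omG : ((omG D h2 : GL (Fin 2) F) : Matrix (Fin 2) (Fin 2) F).trace = -1 :=
  trace_om D.hAA D.hBB D.hBA h2

theorem det_neg_omG : ((-omG D h2 : GL (Fin 2) F) : Matrix (Fin 2) (Fin 2) F).det = 1 := by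
  rw [Units.val_neg, Matrix.det_neg, Fintype.card_fin, det_omG]
  norm_num

theorem trace_neg_omG : ((-omG D h2 : GL (Fin 2) F) : Matrix (Fin 2) (Fin 2) F).trace = 1 := by
  rw [Units.val_neg, Matrix.trace_neg, trace_omG, neg_neg]

include D h2 in
/-- Anything commuting with `a` and `b` is scalar. -/
theorem isScal_of_centralizes (y : GL (Fin 2) F) (hy : ∀ h ∈ R, y * h * y⁻¹ = h) :
    IsScal (y : Matrix (Fin 2) (Fin 2) F) := by
  have ha := hy D.a D.ha
  have hb := hy D.b D.hb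
  rw [mul_inv_eq_iff_eq_mul] at ha hb
  apply isScal_of_commute D.hAA D.hBB D.hBA h2
  · have := congrArg Units.val ha
    simpa using this.symm
  · have := congrArg Units.val hb
    simpa using this.symm

end main

/-- The statement of S5997 for a field in which `2, 3 ≠ 0`. -/
theorem quaternion_normalizer_prime_iff [Fintype F] (h2 : (2 : F) ≠ 0) (h3 : (3 : F) ≠ 0)
    (R : Subgroup (GL (Fin 2) F)) (hR : Nonempty (↥R ≃* QuaternionGroup 2))
    (r : ℕ) [Fact r.Prime]
    (hΩ : r ∣ (Cfsg.Geo.subgroupNormalizer R).relIndex (Cfsg.Geo.specialLinear (Fin 2) F)) :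
    (∀ x ∈ Cfsg.Geo.specialLinear (Fin 2) F,
      (∃ z : F, ((x ^ r : GL (Fin 2) F) : Matrix (Fin 2) (Fin 2) F) = z • (1 : Matrix (Fin 2) (Fin 2) F)) →
      (∀ z : F, (x : Matrix (Fin 2) (Fin 2) F) ≠ z • (1 : Matrix (Fin 2) (Fin 2) F)) →
      ∃ g ∈ Cfsg.Geo.specialLinear (Fin 2) F, g⁻¹ * x * g ∈ Cfsg.Geo.subgroupNormalizer R) ↔
      (r = 2 ∨ r = 3) := by
  classical
  obtain ⟨e⟩ := hR
  obtain ⟨D⟩ := exists_qdata R e
  have hpr : r.Prime := Fact.out
  have h4 : (4 : F) ≠ 0 := by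
    have : (4 : F) = 2 * 2 := by norm_num
    rw [this]
    exact mul_ne_zero h2 h2
  constructor
  · -- every element of order `r` is conjugate into the normalizer: then `r ≤ 3`
    intro hall
    by_contra hr23
    push Not at hr23
    have h5 : 5 ≤ r := by
      have := hpr.two_le
      rcases Nat.lt_or_ge r 5 with h | h
      · interval_cases r
        · exact absurd rfl hr23.1
        · exact absurd rfl hr23.2
        · exact absurd hpr (by norm_num)
      · exact h
    have hdvd : r ∣ Nat.card ↥(Cfsg.Geo.specialLinear (Fin 2) F) :=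
      hΩ.trans (Subgroup.relIndex_dvd_card _ _)
    obtain ⟨x, hx⟩ := exists_prime_orderOf_dvd_card' (G := ↥(Cfsg.Geo.specialLinear (Fin 2) F)) r hdvd
    have hxr : (x : GL (Fin 2) F) ^ r = 1 := by
      have := pow_orderOf_eq_one x
      rw [hx] at this
      have := congrArg Subtype.val this
      simpa using this
    have hdet : ((x : GL (Fin 2) F) : Matrix (Fin 2) (Fin 2) F).det = 1 :=
      (mem_specialLinear_iff _).mp x.2
    have hns : ∀ z : F, ((x : GL (Fin 2) F) : Matrix (Fin 2) (Fin 2) F) ≠ z • (1 : Matrix (Fin 2) (Fin 2) F) := by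
      intro z hz
      have hz2 : z * z = 1 := by
        rw [hz, Matrix.det_smul, Fintype.card_fin, Matrix.det_one, mul_one, pow_two] at hdet
        exact hdet
      have hx2 : (x : GL (Fin 2) F) ^ 2 = 1 := by
        apply Units.ext
        rw [Units.val_pow_eq_pow_val, hz, pow_two, smul_mul_smul_comm, hz2, one_smul, mul_one,
          Units.val_one]
      have hx2' : x ^ 2 = 1 := by
        apply Subtype.ext
        simpa using hx2
      have := orderOf_dvd_of_pow_eq_one hx2'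
      rw [hx] at this
      have := Nat.le_of_dvd (by norm_num) this
      omega
    obtain ⟨g, hg, hgN⟩ := hall (x : GL (Fin 2) F) x.2 ⟨1, by rw [hxr, one_smul, Units.val_one]⟩ hns
    set y := g⁻¹ * (x : GL (Fin 2) F) * g with hy
    have hyr : y ^ r = 1 := by
      have : y = g⁻¹ * (x : GL (Fin 2) F) * g⁻¹⁻¹ := by rw [inv_inv]
      rw [this, conj_pow, hxr]
      group
    have hcent := centralizes_of_pow_prime R e y hgN r h5 hyr
    obtain ⟨c, hc⟩ := isScal_of_centralizes D h2 y hcent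
    -- then x is scalar
    apply hns c
    have hxy : (x : GL (Fin 2) F) = g * y * g⁻¹ := by rw [hy]; group
    rw [hxy, Units.val_mul, Units.val_mul, hc, Matrix.mul_smul, Matrix.smul_mul, mul_one,
      ← Units.val_mul, mul_inv_cancel, Units.val_one]
  · -- `r = 2` or `r = 3`
    intro hr x hx hsc hns
    have hdet : (x : Matrix (Fin 2) (Fin 2) F).det = 1 := (mem_specialLinear_iff _).mp hx
    have hnsc : ¬ IsScal (x : Matrix (Fin 2) (Fin 2) F) := fun ⟨c, hc⟩ => hns c hc
    have hch := ch2 (x : Matrix (Fin 2) (Fin 2) F)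
    rw [hdet, one_smul] at hch
    set X : Matrix (Fin 2) (Fin 2) F := (x : Matrix (Fin 2) (Fin 2) F) with hX
    set τ : F := X.trace with hτ
    have hRN : R ≤ Cfsg.Geo.subgroupNormalizer R := Subgroup.le_normalizer
    obtain ⟨z, hz⟩ := hsc
    rcases hr with rfl | rfl
    · -- trace zero
      rw [Units.val_pow_eq_pow_val, pow_two, hch] at hz
      have h1 : τ • X = (z + 1) • (1 : Matrix (Fin 2) (Fin 2) F) := by
        rw [add_smul, one_smul, ← hz]; abel
      obtain ⟨hτ0, -⟩ := smul_eq_smul_one hnsc h1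
      have hdetA := det_A D.hAA D.hBB D.hBA h2
      have htrA := trace_A D.hAA D.hBB D.hBA h2
      obtain ⟨g, hg, hgx⟩ := exists_conj_of_trace_eq x D.a hdet hdetA (by rw [htrA]; exact hτ0)
        (by
          show τ ^ 2 ≠ 4
          rw [hτ0]
          intro h
          apply h4
          rw [← h]
          ring)
      exact ⟨g, hg, by rw [hgx]; exact hRN D.ha⟩
    · -- trace ±1
      have hX3 : X ^ 3 = (τ ^ 2 - 1) • X - τ • (1 : Matrix (Fin 2) (Fin 2) F) := by
        have : X ^ 3 = X * X * X := by rw [pow_succ, pow_two]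
        rw [this, hch, sub_mul, one_mul, smul_mul_assoc, hch]
        module
      rw [Units.val_pow_eq_pow_val, hX3] at hz
      have h1 : (τ ^ 2 - 1) • X = (z + τ) • (1 : Matrix (Fin 2) (Fin 2) F) := by
        rw [add_smul, ← hz]; abel
      obtain ⟨hτ1, -⟩ := smul_eq_smul_one hnsc h1
      have hτ2 : (τ - 1) * (τ + 1) = 0 := by linear_combination hτ1
      have hne4 : τ ^ 2 ≠ 4 := by
        intro h
        apply h3
        have : τ ^ 2 = 1 := by linear_combination hτ1
        rw [this] at h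
        linear_combination -h
      rcases mul_eq_zero.mp hτ2 with h | h
      · -- τ = 1: conjugate to -ω
        have hτ1' : τ = 1 := sub_eq_zero.mp h
        obtain ⟨g, hg, hgx⟩ := exists_conj_of_trace_eq x (-omG D h2) hdet (det_neg_omG D h2)
          (by rw [trace_neg_omG]; exact hτ1') hne4
        exact ⟨g, hg, by rw [hgx]; exact neg_omG_mem_normalizer D h2⟩
      · have hτ1' : τ = -1 := eq_neg_of_add_eq_zero_left h
        obtain ⟨g, hg, hgx⟩ := exists_conj_of_trace_eq x (omG D h2) hdet (det_omG D h2)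
          (by rw [trace_omG]; exact hτ1') hne4
        exact ⟨g, hg, by rw [hgx]; exact omG_mem_normalizer D h2⟩


end Cfsg.Agent.Lib.Helper13.QuatNorm
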