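/-
helper13: special rank one groups with elementary abelian unipotent subgroups: the subgroup
generated by `a` and its partner `b` is an image of `SL₂(𝔽_p)` (via the Steinberg presentation,
helper11) — uses the power relation of helper25.
-/
import Mathlib
import Cfsg.Agent.Lib.Helper25.SpecialAUS
import Cfsg.Agent.Lib.Helper11.Steinberg2

set_option autoImplicit false

namespace Cfsg.Agent.Lib.Helper13.R1

open Cfsg Cfsg.Agent.Lib.Helper25 Cfsg.Agent.Lib.Helper25.SpecialAUS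

section zp

variable {G : Type*} [Group G] {p : ℕ} [hp : Fact p.Prime]

/-- Powers with exponents in `ZMod p`. -/
def zp (g : G) (t : ZMod p) : G := g ^ t.val

omit hp in
theorem zp_mem {H : Subgroup G} {g : G} (hg : g ∈ H) (t : ZMod p) : zp g t ∈ H := H.pow_mem hg _

theorem zp_zero (g : G) : zp g (0 : ZMod p) = 1 := by
  unfold zp
  rw [ZMod.val_zero, pow_zero]

theorem zp_one (g : G) : zp g (1 : ZMod p) = g := by
  have : Fact (1 < p) := ⟨hp.out.one_lt⟩
  unfold zp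
  rw [ZMod.val_one, pow_one]

theorem zp_add {g : G} (hg : g ^ p = 1) (t u : ZMod p) : zp g (t + u) = zp g t * zp g u := by
  unfold zp
  rw [ZMod.val_add, ← pow_add, ← pow_eq_pow_mod _ hg]

theorem zp_neg {g : G} (hg : g ^ p = 1) (t : ZMod p) : zp g (-t) = (zp g t)⁻¹ := by
  rw [eq_inv_iff_mul_eq_one, ← zp_add hg, neg_add_cancel, zp_zero]

omit hp in
theorem zp_pow {g : G} (hg : g ^ p = 1) (t : ZMod p) : (zp g t) ^ p = 1 := by
  unfold zp
  rw [← pow_mul, mul_comm, pow_mul, hg, one_pow]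

theorem zp_mul {g : G} (hg : g ^ p = 1) (t u : ZMod p) : zp (zp g t) u = zp g (t * u) := by
  unfold zp
  rw [← pow_mul, ZMod.val_mul, ← pow_eq_pow_mod _ hg]

omit hp in
theorem zp_conj (h g : G) (t : ZMod p) : h * zp g t * h⁻¹ = zp (h * g * h⁻¹) t := by
  unfold zp
  rw [conj_pow]

omit hp in
theorem zp_inv (g : G) (t : ZMod p) : zp g⁻¹ t = (zp g t)⁻¹ := by
  unfold zp
  rw [inv_pow]

theorem zp_injective {g : G} (hg : g ^ p = 1) (hg1 : g ≠ 1) : Function.Injective (zp (p := p) g) := by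
  intro t u h
  have h0 : zp g (t - u) = 1 := by
    rw [sub_eq_add_neg, zp_add hg, zp_neg hg, h, mul_inv_cancel]
  unfold zp at h0
  have hord : orderOf g = p := orderOf_eq_prime hg hg1
  have hdvd : p ∣ (t - u).val := by
    have := orderOf_dvd_of_pow_eq_one h0
    rwa [hord] at this
  have hlt : (t - u).val < p := ZMod.val_lt _
  have hz : (t - u).val = 0 := Nat.eq_zero_of_dvd_of_lt hdvd hlt
  have : t - u = 0 := (ZMod.val_eq_zero _).mp hz
  exact sub_eq_zero.mp this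

end zp

section rank

variable {G : Type*} [Group G] {A B : Subgroup G} {p : ℕ} [hp : Fact p.Prime]

variable (hs : ∀ a ∈ A, a ≠ 1 → ∀ b ∈ B, b ≠ 1 → conjBy A b⁻¹ = conjBy B a⁻¹ →
  b⁻¹ * a * b = a⁻¹ * b⁻¹ * a)

include hs

omit hp in
/-- The Weyl element attached to `c` conjugates `c` to the inverse of its partner. -/
theorem weyl_conj {c e : G} (hc : c ∈ A) (hc1 : c ≠ 1) (he : e ∈ B) (he1 : e ≠ 1)
    (hr : Rel A B c e) : (c⁻¹ * e * c⁻¹) * c * (c⁻¹ * e * c⁻¹)⁻¹ = e⁻¹ := by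
  have hbr := braid hs hc hc1 he he1 hr
  calc (c⁻¹ * e * c⁻¹) * c * (c⁻¹ * e * c⁻¹)⁻¹
      = (c⁻¹ * e * c⁻¹) * c * (e * c⁻¹ * e)⁻¹ := by rw [hbr]
    _ = e⁻¹ := by group

omit hp in
/-- `B` has exponent `p` as well. -/
theorem exp_right (h : IsRankOnePair A B) (hAp : ∀ x ∈ A, x ^ p = 1) : ∀ e ∈ B, e ^ p = 1 := by
  intro e he
  obtain ⟨a, ha1⟩ := (Subgroup.ne_bot_iff_exists_ne_one).1 (rankOne_left_ne_bot h)
  have ha1' : (a : G) ≠ 1 := fun e => ha1 (Subtype.ext e)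
  obtain ⟨b, hb, hb1, hr⟩ := exists_rel_left h a.2 ha1'
  have hnB := swap_right hs h a.2 ha1' hb hb1 hr
  have hmem : ((a : G)⁻¹ * b * (a : G)⁻¹) * e * ((a : G)⁻¹ * b * (a : G)⁻¹)⁻¹ ∈ A := by
    have := conj_mem_conjBy (A := B) (g := (a : G)⁻¹ * b * (a : G)⁻¹) he
    rwa [hnB] at this
  have hpow := hAp _ hmem
  rw [conj_pow] at hpow
  exact conj_eq_one_iff.1 hpow

/-- The partner of `a ^ t` is `b ^ (t⁻¹)`. -/
theorem rel_zp (h : IsRankOnePair A B) (hB : IsMulCommutative B) (hAp : ∀ x ∈ A, x ^ p = 1)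
    {a b : G} (ha : a ∈ A) (ha1 : a ≠ 1) (hb : b ∈ B) (hr : Rel A B a b) (t : ZMod p)
    (ht : t ≠ 0) : Rel A B (zp a t) (zp b t⁻¹) := by
  have hBp := exp_right hs h hAp
  have hap := hAp a ha
  have hc : zp a t ∈ A := zp_mem ha t
  have hc1 : zp a t ≠ 1 := by
    intro h0
    rw [← zp_zero (p := p) a] at h0
    exact ht (zp_injective hap ha1 h0)
  obtain ⟨e', he', he'1, hre'⟩ := exists_rel_left h hc hc1
  have hval1 : 1 ≤ t.val := by
    rcases Nat.eq_zero_or_pos t.val with h0 | h0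
    · exact absurd ((ZMod.val_eq_zero t).mp h0) ht
    · exact h0
  have hvalp : t.val < p := ZMod.val_lt t
  have hnt : ∀ j, 1 ≤ j → j < t.val → ∀ x ∈ A, x ^ j = 1 → x = 1 := by
    intro j hj hjt x hx hxj
    have h1 : orderOf x ∣ j := orderOf_dvd_of_pow_eq_one hxj
    have h2 : orderOf x ∣ p := orderOf_dvd_of_pow_eq_one (hAp x hx)
    have h3 : orderOf x ∣ Nat.gcd j p := Nat.dvd_gcd h1 h2
    have hcop : Nat.Coprime j p := by
      rw [Nat.coprime_comm]
      exact (Nat.Prime.coprime_iff_not_dvd hp.out).mpr (fun hd => by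
        have := Nat.le_of_dvd (by omega) hd
        omega)
    rw [hcop, Nat.dvd_one, orderOf_eq_one_iff] at h3
    exact h3
  have hP := powRel_of_no_torsion hs h hB t.val hval1 hnt
  have hpow : e' ^ t.val = b := hP a ha b hb e' he' ha1 hc1 hr hre'
  have he'p := hBp e' he'
  have : zp b t⁻¹ = e' := by
    have e1 : b = zp e' t := hpow.symm
    rw [e1, zp_mul he'p, mul_inv_cancel₀ ht, zp_one]
  rw [this]
  exact hre'

end rank

end Cfsg.Agent.Lib.Helper13.R1
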