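/-
helper13: special rank one groups with elementary abelian unipotent subgroups: `⟨a, b⟩` is
`SL₂(p)` or `PSL₂(p)`.
-/
import Mathlib
import Cfsg.Agent.Lib.Helper13.R1A
import Cfsg.Agent.Lib.Helper13.PSL2ClassSizeOdd

set_option autoImplicit false

namespace Cfsg.Agent.Lib.Helper13.R1

open Cfsg Cfsg.Agent.Lib.Helper25 Cfsg.Agent.Lib.Helper25.SpecialAUS
  Cfsg.Agent.Lib.Helper11.Steinberg2 Cfsg.Agent.Lib.Helper11.SL2Hom Matrix

theorem bruhat_mat {K : Type*} [Field K] (α β γ δ : K) (hγ : γ ≠ 0) (hdet : α * δ - β * γ = 1) :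
    !![α, β; γ, δ] = !![1, α / γ; 0, 1] * (!![1, -γ⁻¹; 0, 1] * !![1, 0; γ, 1] * !![1, -γ⁻¹; 0, 1]) *
      !![1, δ / γ; 0, 1] := by
  simp only [Matrix.mul_fin_two]
  ext i j
  fin_cases i <;> fin_cases j
  · simp
    field_simp
    ring
  · simp
    field_simp
    linear_combination (-1 : K) * hdet
  · simp
  · simp
    field_simp
    ring

variable {G : Type*} [Group G] {A B : Subgroup G} {p : ℕ} [hp : Fact p.Prime]

/-- The Steinberg pair attached to `a` and its partner `b`. -/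
def stPair (hs : ∀ a ∈ A, a ≠ 1 → ∀ b ∈ B, b ≠ 1 → conjBy A b⁻¹ = conjBy B a⁻¹ →
      b⁻¹ * a * b = a⁻¹ * b⁻¹ * a)
    (h : IsRankOnePair A B) (hB : IsMulCommutative B) (hAp : ∀ x ∈ A, x ^ p = 1)
    {a b : G} (ha : a ∈ A) (ha1 : a ≠ 1) (hb : b ∈ B) (hr : Rel A B a b) :
    StPair (ZMod p) G where
  x := zp a
  y := zp b
  x_add t u := (zp_add (hAp a ha) t u).symm
  y_add t u := (zp_add (exp_right hs h hAp b hb) t u).symm
  rel := by
    intro t u ht
    have hap := hAp a ha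
    have hbp := exp_right hs h hAp b hb
    obtain ⟨c', hc'def⟩ : ∃ c', c' = zp a t := ⟨_, rfl⟩
    obtain ⟨e', he'def⟩ : ∃ e', e' = zp b t⁻¹ := ⟨_, rfl⟩
    have hrel : Rel A B c' e' := by
      rw [hc'def, he'def]; exact rel_zp hs h hB hAp ha ha1 hb hr t ht
    have hc' : c' ∈ A := by rw [hc'def]; exact zp_mem ha t
    have he' : e' ∈ B := by rw [he'def]; exact zp_mem hb _
    have hc'1 : c' ≠ 1 := rel_left_ne_one h he' hrel
    have he'1 : e' ≠ 1 := rel_right_ne_one h hc' hrel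
    have hri : Rel A B c'⁻¹ e'⁻¹ := rel_inv hs h hc' hc'1 he' he'1 hrel
    have hyneg : zp b (-t⁻¹) = e'⁻¹ := by rw [zp_neg hbp, he'def]
    have hW := weyl_conj hs (A.inv_mem hc') (inv_ne_one.mpr hc'1) (B.inv_mem he')
      (inv_ne_one.mpr he'1) hri
    rw [inv_inv, inv_inv] at hW
    have hW' : (c' * e'⁻¹ * c') * c' * (c' * e'⁻¹ * c')⁻¹ = e'⁻¹ := by
      have : (c' * e'⁻¹ * c') * c' * (c' * e'⁻¹ * c')⁻¹ =
          ((c' * e'⁻¹ * c') * c'⁻¹ * (c' * e'⁻¹ * c')⁻¹)⁻¹ := by group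
      rw [this, hW]
    have hxu : zp a u = zp c' (t⁻¹ * u) := by
      rw [hc'def, zp_mul hap, mul_inv_cancel_left₀ ht]
    change (zp a t * zp b (-t⁻¹) * zp a t) * zp a u * (zp a t * zp b (-t⁻¹) * zp a t)⁻¹ =
      zp b (-(t⁻¹ ^ 2 * u))
    rw [hyneg, ← hc'def, hxu, zp_conj, hW', ← hyneg, zp_mul hbp]
    congr 1
    ring

section hom

variable (hs : ∀ a ∈ A, a ≠ 1 → ∀ b ∈ B, b ≠ 1 → conjBy A b⁻¹ = conjBy B a⁻¹ →
      b⁻¹ * a * b = a⁻¹ * b⁻¹ * a)
    (h : IsRankOnePair A B) (hB : IsMulCommutative B) (hAp : ∀ x ∈ A, x ^ p = 1)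
    {a b : G} (ha : a ∈ A) (ha1 : a ≠ 1) (hb : b ∈ B) (hr : Rel A B a b)
    (φ : SpecialLinearGroup (Fin 2) (ZMod p) →* G)
    (hx : ∀ t, φ (xS t) = zp a t) (hy : ∀ t, φ (yS t) = zp b t)

include hx hy in
theorem range_eq : φ.range = Subgroup.closure ({a, b} : Set G) := by
  have ha' : a ∈ Subgroup.closure ({a, b} : Set G) :=
    Subgroup.subset_closure (Set.mem_insert _ _)
  have hb' : b ∈ Subgroup.closure ({a, b} : Set G) :=
    Subgroup.subset_closure (Set.mem_insert_of_mem _ rfl)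
  apply le_antisymm
  · rw [MonoidHom.range_eq_map, ← closure_xS_yS, MonoidHom.map_closure, Subgroup.closure_le]
    rintro _ ⟨g, hg, rfl⟩
    rcases hg with ⟨t, rfl⟩ | ⟨t, rfl⟩
    · rw [hx]
      exact zp_mem ha' t
    · rw [hy]
      exact zp_mem hb' t
  · rw [Subgroup.closure_le]
    rintro g (rfl | rfl)
    · exact ⟨xS 1, by rw [hx, zp_one]⟩
    · exact ⟨yS 1, by rw [hy, zp_one]⟩

include hs h hB hAp ha ha1 hb hr hx hy in
/-- The images of the Weyl elements interchange `A` and `B`. -/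
theorem swap_weyl (t : ZMod p) (ht : t ≠ 0) :
    conjBy A (φ (xS t * yS (-t⁻¹) * xS t)) = B := by
  have hbp := exp_right hs h hAp b hb
  obtain ⟨c', hc'def⟩ : ∃ c', c' = zp a t := ⟨_, rfl⟩
  obtain ⟨e', he'def⟩ : ∃ e', e' = zp b t⁻¹ := ⟨_, rfl⟩
  have hrel : Rel A B c' e' := by
    rw [hc'def, he'def]; exact rel_zp hs h hB hAp ha ha1 hb hr t ht
  have hc' : c' ∈ A := by rw [hc'def]; exact zp_mem ha t
  have he' : e' ∈ B := by rw [he'def]; exact zp_mem hb _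
  have hc'1 : c' ≠ 1 := rel_left_ne_one h he' hrel
  have he'1 : e' ≠ 1 := rel_right_ne_one h hc' hrel
  have hri : Rel A B c'⁻¹ e'⁻¹ := rel_inv hs h hc' hc'1 he' he'1 hrel
  have hyneg : zp b (-t⁻¹) = e'⁻¹ := by rw [zp_neg hbp, he'def]
  have := swap_left (A.inv_mem hc') hri
  rw [inv_inv] at this
  rw [map_mul, map_mul, hx, hy, hyneg, ← hc'def]
  exact this

include hs h hB hAp ha ha1 hb hr hx hy in
/-- Elements of the kernel are upper triangular. -/
theorem ker_lower_zero (g : SpecialLinearGroup (Fin 2) (ZMod p)) (hg : g ∈ φ.ker) :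
    (g : Matrix (Fin 2) (Fin 2) (ZMod p)) 1 0 = 0 := by
  by_contra hγ
  obtain ⟨γ, hγdef⟩ : ∃ γ, γ = (g : Matrix (Fin 2) (Fin 2) (ZMod p)) 1 0 := ⟨_, rfl⟩
  rw [← hγdef] at hγ
  obtain ⟨t, htdef⟩ : ∃ t, t = -γ⁻¹ := ⟨_, rfl⟩
  have ht : t ≠ 0 := by rw [htdef]; exact neg_ne_zero.mpr (inv_ne_zero hγ)
  have hdet : (g : Matrix (Fin 2) (Fin 2) (ZMod p)) 0 0 * (g : Matrix (Fin 2) (Fin 2) (ZMod p)) 1 1 -
      (g : Matrix (Fin 2) (Fin 2) (ZMod p)) 0 1 * (g : Matrix (Fin 2) (Fin 2) (ZMod p)) 1 0 = 1 := by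
    have := g.2
    rwa [Matrix.det_fin_two] at this
  have hdecomp : g = xS ((g : Matrix (Fin 2) (Fin 2) (ZMod p)) 0 0 / γ) *
      (xS t * yS (-t⁻¹) * xS t) * xS ((g : Matrix (Fin 2) (Fin 2) (ZMod p)) 1 1 / γ) := by
    apply Subtype.ext
    have htinv : -t⁻¹ = γ := by rw [htdef, inv_neg, inv_inv, neg_neg]
    rw [htinv]
    simp only [Matrix.SpecialLinearGroup.coe_mul, coe_xS, coe_yS]
    rw [htdef, ← bruhat_mat _ _ _ _ hγ (by rw [hγdef]; exact hdet), hγdef]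
    exact Matrix.eta_fin_two _
  have hφ : φ g = 1 := hg
  rw [hdecomp, map_mul, map_mul, hx, hx] at hφ
  have hW : φ (xS t * yS (-t⁻¹) * xS t) ∈ A := by
    have e : φ (xS t * yS (-t⁻¹) * xS t) =
        (zp a ((g : Matrix (Fin 2) (Fin 2) (ZMod p)) 0 0 / γ))⁻¹ *
        (zp a ((g : Matrix (Fin 2) (Fin 2) (ZMod p)) 1 1 / γ))⁻¹ := by
      have e0 : φ (xS t * yS (-t⁻¹) * xS t) =
          (zp a ((g : Matrix (Fin 2) (Fin 2) (ZMod p)) 0 0 / γ))⁻¹ *
          (zp a ((g : Matrix (Fin 2) (Fin 2) (ZMod p)) 0 0 / γ) * φ (xS t * yS (-t⁻¹) * xS t) *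
            zp a ((g : Matrix (Fin 2) (Fin 2) (ZMod p)) 1 1 / γ)) *
          (zp a ((g : Matrix (Fin 2) (Fin 2) (ZMod p)) 1 1 / γ))⁻¹ := by group
      rw [e0, hφ, mul_one]
    rw [e]
    exact A.mul_mem (A.inv_mem (zp_mem ha _)) (A.inv_mem (zp_mem ha _))
  have hsw := swap_weyl hs h hB hAp ha ha1 hb hr φ hx hy t ht
  rw [conjBy_eq_self_of_mem hW] at hsw
  exact h.ne hsw

include hs h hB hAp ha ha1 hb hr hx hy in
/-- Elements of the kernel are lower triangular. -/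
theorem ker_upper_zero (g : SpecialLinearGroup (Fin 2) (ZMod p)) (hg : g ∈ φ.ker) :
    (g : Matrix (Fin 2) (Fin 2) (ZMod p)) 0 1 = 0 := by
  have hn : φ.ker.Normal := inferInstance
  have hconj := hn.conj_mem g hg wS
  have h10 := ker_lower_zero hs h hB hAp ha ha1 hb hr φ hx hy _ hconj
  have e : ((wS * g * wS⁻¹ : SpecialLinearGroup (Fin 2) (ZMod p)) :
      Matrix (Fin 2) (Fin 2) (ZMod p)) 1 0 = -(g : Matrix (Fin 2) (Fin 2) (ZMod p)) 0 1 := by
    have e1 : ((wS : SpecialLinearGroup (Fin 2) (ZMod p)) : Matrix (Fin 2) (Fin 2) (ZMod p)) =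
        !![0, 1; -1, 0] := rfl
    rw [Matrix.SpecialLinearGroup.coe_mul, Matrix.SpecialLinearGroup.coe_mul,
      Matrix.SpecialLinearGroup.coe_inv, e1, Matrix.adjugate_fin_two_of,
      Matrix.eta_fin_two (g : Matrix (Fin 2) (Fin 2) (ZMod p)), Matrix.mul_fin_two,
      Matrix.mul_fin_two]
    simp
  rw [e] at h10
  exact neg_eq_zero.mp h10

include hs h hB hAp ha ha1 hb hr hx hy in
/-- The kernel consists of `±1`. -/
theorem ker_cases (g : SpecialLinearGroup (Fin 2) (ZMod p)) (hg : g ∈ φ.ker) :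
    g = 1 ∨ g = zSL (ZMod p) := by
  have h10 := ker_lower_zero hs h hB hAp ha ha1 hb hr φ hx hy g hg
  have h01 := ker_upper_zero hs h hB hAp ha ha1 hb hr φ hx hy g hg
  have hdet : (g : Matrix (Fin 2) (Fin 2) (ZMod p)) 0 0 * (g : Matrix (Fin 2) (Fin 2) (ZMod p)) 1 1 -
      (g : Matrix (Fin 2) (Fin 2) (ZMod p)) 0 1 * (g : Matrix (Fin 2) (Fin 2) (ZMod p)) 1 0 = 1 := by
    have := g.2
    rwa [Matrix.det_fin_two] at this
  rw [h10, mul_zero, sub_zero] at hdet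
  have hcomm : g * xS 1 = xS ((g : Matrix (Fin 2) (Fin 2) (ZMod p)) 0 0 ^ 2) * g := by
    apply Subtype.ext
    simp only [Matrix.SpecialLinearGroup.coe_mul, coe_xS]
    ext i j
    fin_cases i <;> fin_cases j
    · simp [Matrix.mul_apply, Fin.sum_univ_two, h10]
    · simp [Matrix.mul_apply, Fin.sum_univ_two, h01]
      linear_combination (-(g : Matrix (Fin 2) (Fin 2) (ZMod p)) 0 0) * hdet
    · simp [Matrix.mul_apply, Fin.sum_univ_two, h10]
    · simp [Matrix.mul_apply, Fin.sum_univ_two, h10]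
  have hφ : φ g = 1 := hg
  have := congrArg φ hcomm
  rw [map_mul, map_mul, hφ, one_mul, mul_one, hx, hx] at this
  have hsq : (1 : ZMod p) = (g : Matrix (Fin 2) (Fin 2) (ZMod p)) 0 0 ^ 2 :=
    zp_injective (hAp a ha) ha1 this
  have hfac : ((g : Matrix (Fin 2) (Fin 2) (ZMod p)) 0 0 - 1) *
      ((g : Matrix (Fin 2) (Fin 2) (ZMod p)) 0 0 + 1) = 0 := by linear_combination -hsq
  rcases mul_eq_zero.mp hfac with h0 | h0
  · left
    have h00 : (g : Matrix (Fin 2) (Fin 2) (ZMod p)) 0 0 = 1 := sub_eq_zero.mp h0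
    have h11 : (g : Matrix (Fin 2) (Fin 2) (ZMod p)) 1 1 = 1 := by
      rw [h00, one_mul] at hdet; exact hdet
    apply Subtype.ext
    rw [Matrix.SpecialLinearGroup.coe_one]
    ext i j
    fin_cases i <;> fin_cases j <;> simp [h00, h01, h10, h11]
  · right
    have h00 : (g : Matrix (Fin 2) (Fin 2) (ZMod p)) 0 0 = -1 := eq_neg_of_add_eq_zero_left h0
    have h11 : (g : Matrix (Fin 2) (Fin 2) (ZMod p)) 1 1 = -1 := by
      rw [h00] at hdet; linear_combination (-1 : ZMod p) * hdet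
    apply Subtype.ext
    rw [zSL_coe]
    ext i j
    fin_cases i <;> fin_cases j <;> simp [h00, h01, h10, h11]

include hs h hB hAp ha ha1 hb hr hx hy in
theorem closure_pair_iso_aux :
    Nonempty (↥(Subgroup.closure ({a, b} : Set G)) ≃* SpecialLinearGroup (Fin 2) (ZMod p)) ∨
    Nonempty (↥(Subgroup.closure ({a, b} : Set G)) ≃*
      ProjectiveSpecialLinearGroup (Fin 2) (ZMod p)) := by
  have hrange := range_eq φ hx hy
  by_cases hker : φ.ker = ⊥
  · left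
    have hinj : Function.Injective φ := (MonoidHom.ker_eq_bot_iff φ).mp hker
    exact ⟨((MonoidHom.ofInjective hinj).trans (MulEquiv.subgroupCongr hrange)).symm⟩
  · right
    have hex : ∃ g ∈ φ.ker, g ≠ 1 := by
      by_contra hno
      push Not at hno
      apply hker
      rw [Subgroup.eq_bot_iff_forall]
      exact hno
    obtain ⟨g, hg, hg1⟩ := hex
    have hgz : g = zSL (ZMod p) :=
      (ker_cases hs h hB hAp ha ha1 hb hr φ hx hy g hg).resolve_left hg1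
    have hz : zSL (ZMod p) ∈ φ.ker := hgz ▸ hg
    have hkc : φ.ker = Subgroup.center (SpecialLinearGroup (Fin 2) (ZMod p)) := by
      apply le_antisymm
      · intro g' hg'
        rcases ker_cases hs h hB hAp ha ha1 hb hr φ hx hy g' hg' with h' | h'
        · rw [h']; exact Subgroup.one_mem _
        · rw [h']; exact zSL_mem_center
      · intro w hw
        rcases center_cases w hw with h' | h'
        · rw [h']; exact Subgroup.one_mem _
        · rw [h']; exact hz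
    exact ⟨((QuotientGroup.quotientMulEquivOfEq hkc).symm.trans
      ((QuotientGroup.quotientKerEquivRange φ).trans (MulEquiv.subgroupCongr hrange))).symm⟩

end hom

/-- Timmesfeld I: in a special rank one group with elementary abelian unipotent subgroups, a
non-identity `a ∈ A` and its partner `b ∈ B` generate `SL₂(p)` or `PSL₂(p)`. -/
theorem closure_pair_iso
    (hs : ∀ a ∈ A, a ≠ 1 → ∀ b ∈ B, b ≠ 1 → conjBy A b⁻¹ = conjBy B a⁻¹ →
      b⁻¹ * a * b = a⁻¹ * b⁻¹ * a)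
    (h : IsRankOnePair A B) (hB : IsMulCommutative B) (hAp : ∀ x ∈ A, x ^ p = 1)
    {a b : G} (ha : a ∈ A) (ha1 : a ≠ 1) (hb : b ∈ B) (hr : Rel A B a b) :
    Nonempty (↥(Subgroup.closure ({a, b} : Set G)) ≃* SpecialLinearGroup (Fin 2) (ZMod p)) ∨
    Nonempty (↥(Subgroup.closure ({a, b} : Set G)) ≃*
      ProjectiveSpecialLinearGroup (Fin 2) (ZMod p)) := by
  obtain ⟨φ, hx, hy⟩ := (stPair hs h hB hAp ha ha1 hb hr).exists_hom
  exact closure_pair_iso_aux hs h hB hAp ha ha1 hb hr φ hx hy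

end Cfsg.Agent.Lib.Helper13.R1
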