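import Mathlib
import Cfsg.Prelude.Def_Transfer
import Cfsg.Prelude.Def_Solvable
import Cfsg.Prelude.Def_Local
import Cfsg.Prelude.Def_OddOrderLocal
import Cfsg.Prelude.Def_CaseTheorems
import Cfsg.Agent.Lib.Helper13.R3Defs2
import Cfsg.Agent.Lib.Helper14.R3SYL
import Cfsg.Agent.Lib.Helper29.R3INDEP
import Cfsg.Agent.Lib.Helper14.R3SUB27
import Cfsg.Agent.Lib.Helper29.R3GENBOUND
import Cfsg.Agent.Lib.Helper14.R3META
import Cfsg.Agent.Lib.Helper14.R3MAXCL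
import Cfsg.Agent.Lib.Helper14.R3BBCASES
import Cfsg.Agent.Lib.Helper12.R3TYPE2B
import Cfsg.Agent.Lib.Helper17.R3TYPE2A
import Cfsg.Agent.Lib.Helper17.R3AUTR
import Cfsg.Agent.Lib.Helper17.R3SMALL
import Cfsg.Agent.Lib.Helper17.R3CASE1
import Cfsg.Agent.Lib.Helper14.R3ORBIT
import Cfsg.Agent.Lib.Helper17.R3CONJ
import Cfsg.Agent.Lib.Helper17.R3KR
import Cfsg.Agent.Lib.Helper17.R3ZROOT
import Cfsg.Agent.Lib.Helper1.R3QUOT
import Cfsg.Agent.Lib.Helper1.R3FIXPT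
import Cfsg.Agent.Lib.Helper1.R3FINAL3

/-!
# S4404 (helper13): the ENDGAME assembly

The leaves (wave 2 of `notes/S4404_leaves2.lean`) are restated verbatim and closed by the landed
modules of the takers; the assembly (`index_le_27`, `exists_fixed_pair`, `case_two`, `endgame`) is
helper13's.
-/

set_option autoImplicit false

namespace Cfsg.Agent.Lib.Helper13.R3End

open Pointwise Cfsg.Agent.Lib.Helper13.R3
open scoped commutatorElement

/-! ## pure group theory -/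

section pure

/-- SYL `exists_sylow_three_invariant`: a Sylow 3-subgroup of `T'` normalized by a 3-element `e`
normalizing `T'`. (`P₁` a Sylow 3-subgroup of `T' ⊔ zpowers e` containing `e`; `P := P₁ ⊓ T'` is Sylow
in the normal subgroup `T'`.) -/
theorem exists_sylow_three_invariant {H : Type*} [Group H] [Finite H] (T' : Subgroup H) (e : H)
    (he : e ^ 3 = 1) (hnorm : ∀ t ∈ T', e * t * e⁻¹ ∈ T') :
    ∃ P : Subgroup H, P ≤ T' ∧ IsPGroup 3 P ∧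
      (∀ g ∈ T', (∃ k : ℕ, g ^ 3 ^ k = 1) → ∃ t ∈ T', t * g * t⁻¹ ∈ P) ∧
      ∀ g ∈ P, e * g * e⁻¹ ∈ P :=
  Cfsg.Agent.Lib.Helper14.R3SYL.exists_sylow_three_invariant T' e he hnorm

/-- INDEP `pow_card_le_relIndex`: independent elements give a big quotient. (The cosets of
`∏ z_i^(k_i)`, `k : ι → Fin 3`, are pairwise distinct mod `P ⊓ ⨅ F i`: modulo `F i` (normalized by
`P`) the product is `z_i^(k_i)`, and `z_i, z_i^2 ∉ F i`.) -/
theorem pow_card_le_relIndex {G : Type*} [Group G] [Finite G] (P : Subgroup G) {ι : Type*}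
    [Fintype ι] (F : ι → Subgroup G) (hnorm : ∀ i, ∀ g ∈ P, ∀ f ∈ F i, g * f * g⁻¹ ∈ F i)
    (z : ι → G) (hzP : ∀ i, z i ∈ P) (hz : ∀ i j, i ≠ j → z i ∈ F j) (hz' : ∀ i, z i ∉ F i)
    (hz3 : ∀ i, z i ^ 3 ∈ F i) : 3 ^ Fintype.card ι ≤ (P ⊓ ⨅ i, F i).relIndex P :=
  Cfsg.Agent.Lib.Helper29.R3INDEP.pow_card_le_relIndex P F hnorm z hzP hz hz' hz3

/-- SUB27 `exists_subgroup_card_27`. (`Sylow.exists_subgroup_card_pow_prime` in `↥A`.) -/
theorem exists_subgroup_card_27 {H : Type*} [Group H] [Finite H] (A : Subgroup H)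
    (hAc : IsMulCommutative A) (hA3 : ∀ a ∈ A, a ^ 3 = 1) (hA9 : 9 < Nat.card A) :
    ∃ F : Subgroup H, F ≤ A ∧ Cfsg.IsElementaryAbelian 3 F ∧ Nat.card F = 27 :=
  Cfsg.Agent.Lib.Helper14.R3SUB27.exists_subgroup_card_27 A hAc hA3 hA9

variable {G : Type*} [Group G] [Finite G]

/-- GENBOUND `index_le_pow_card`: an elementary abelian quotient of exponent 3 of a group generated
by `s` has order at most `3 ^ |s|`. -/
theorem index_le_pow_card (N : Subgroup G) [N.Normal] (h3 : ∀ g : G, g ^ 3 ∈ N)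
    (hc : ∀ g h : G, ⁅g, h⁆ ∈ N) (s : Finset G) (hs : Subgroup.closure (s : Set G) = ⊤) :
    N.index ≤ 3 ^ s.card :=
  Cfsg.Agent.Lib.Helper29.R3GENBOUND.index_le_pow_card N h3 hc s hs

/-- META `index_le_nine_of_isMetacyclic`. (`C` cyclic normal with `G/C` cyclic: `CN/N` and `G/CN`
are cyclic of exponent 3.) -/
theorem index_le_nine_of_isMetacyclic (hm : Cfsg.IsMetacyclic G) (N : Subgroup G) [N.Normal]
    (h3 : ∀ g : G, g ^ 3 ∈ N) (hc : ∀ g h : G, ⁅g, h⁆ ∈ N) : N.index ≤ 9 :=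
  Cfsg.Agent.Lib.Helper14.R3META.index_le_nine_of_isMetacyclic hm N h3 hc

/-- MAXCL `index_commutator_le_nine`: maximal class => `|G : G'| ≤ 9`. (`γ_1 > γ_2 > … > γ_(n-2) ≠ ⊥`
in the Mathlib numbering `γ_0 = ⊤`: `n - 2` strict steps below `γ_1 = G'`, a 3-group, so
`|G'| ≥ 3^(n-2)`.) -/
theorem index_commutator_le_nine (n : ℕ) (hG : Nat.card G = 3 ^ n) (hn : 2 ≤ n)
    (hcl : (⊤ : Subgroup G).lowerCentralSeries (n - 2) ≠ ⊥) : (commutator G).index ≤ 9 :=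
  Cfsg.Agent.Lib.Helper14.R3MAXCL.index_commutator_le_nine n hG hn hcl

/-- BBCASES `blackburn_cases`: Blackburn's theorem (`Cfsg.Agent.S3888.result`, on main) for a
3-group of rank ≤ 2 and an elementary abelian quotient of exponent 3: index `≤ 9` except in type (ii).
(metacyclic: META; type (iii): `y = x⁻¹ z x z⁻¹ ∈ closure {x,z}`, GENBOUND with 2 generators;
maximal class: MAXCL and `G' ≤ N`.) -/
theorem blackburn_cases (hG : IsPGroup 3 G) (hrk : Cfsg.PRankLE 3 2 G) (N : Subgroup G) [N.Normal]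
    (h3 : ∀ g : G, g ^ 3 ∈ N) (hc : ∀ g h : G, ⁅g, h⁆ ∈ N) :
    N.index ≤ 9 ∨
    ∃ (n : ℕ) (x y z : G), Nat.card G = 3 ^ n ∧ 3 ≤ n ∧ Subgroup.closure ({x, y, z} : Set G) = ⊤ ∧
      x ^ 3 = 1 ∧ y ^ 3 = 1 ∧ z ^ 3 ^ (n - 2) = 1 ∧ x * z = z * x ∧ y * z = z * y ∧
      x⁻¹ * y * x = y * z ^ 3 ^ (n - 3) :=
  Cfsg.Agent.Lib.Helper14.R3BBCASES.blackburn_cases hG hrk N h3 hc

/-- TYPE2 `type_two_fixed`: in type (ii) with `|G:N| = 27` an automorphism `φ` of order dividing 3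
preserving `N` fixes two independent elements of `G/N`.
(`n ≥ 4` (for `n = 3`, `N = ⊥` and `G` is elementary abelian of order 27, but here we do not assume
rank ≤ 2 - so ASSUME `4 ≤ n`). Normal form `g = x^a y^b z^c`; `|G| = 3^n` forces `z` of order
`3^(n-2)`; `Z(G) = zpowers z`; cubing is an endomorphism (class 2, `[y,x]^3 = 1`) with kernel
`Ω = closure {x, y, z^(3^(n-3))}`. The images of `x, y, z` are a basis of `G/N`. `g₁ := z`:
`φ z = z^k`, `k ≢ 0`, `k^3 ≡ 1 (mod 3)` so `k ≡ 1`, `z⁻¹ φ z` is a cube. `Ω N / N` has order 9 (the image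
of `z^(3^(n-3))` is trivial since `n ≥ 4`), is `φ`-invariant, and `φ` of order `| 3` has a nontrivial fixed
point on it: `g₂`. `g₂ z^k ∉ N` since `G/N = ⟨x̄,ȳ⟩ × ⟨z̄⟩`.) -/
theorem type_two_fixed (n : ℕ) (x y z : G) (hcard : Nat.card G = 3 ^ n) (hn : 4 ≤ n)
    (hgen : Subgroup.closure ({x, y, z} : Set G) = ⊤)
    (hx : x ^ 3 = 1) (hy : y ^ 3 = 1) (hz : z ^ 3 ^ (n - 2) = 1) (hxz : x * z = z * x)
    (hyz : y * z = z * y) (hxy : x⁻¹ * y * x = y * z ^ 3 ^ (n - 3))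
    (N : Subgroup G) [N.Normal] (h3 : ∀ g : G, g ^ 3 ∈ N) (hc : ∀ g h : G, ⁅g, h⁆ ∈ N)
    (hidx : N.index = 27) (φ : G ≃* G) (hφ3 : ∀ g : G, φ (φ (φ g)) = g)
    (hφN : ∀ g : G, g ∈ N ↔ φ g ∈ N) :
    ∃ g₁ g₂ : G, g₁⁻¹ * φ g₁ ∈ N ∧ g₂⁻¹ * φ g₂ ∈ N ∧ g₁ ∉ N ∧ ∀ k : ℕ, g₂ * g₁ ^ k ∉ N :=
  Cfsg.Agent.Lib.Helper12.R3TYPE2B.type_two_fixed_of' n x y z hgen hx hz hxz hyz N h3 hc φ hφ3 hφN
    (Cfsg.Agent.Lib.Helper17.R3TYPE2A.center_eq_zpow n x y z hcard hn hgen hx hy hz hxz hyz hxy)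
    (Cfsg.Agent.Lib.Helper17.R3TYPE2A.dvd_of_mem n x y z hgen hxz hyz hxy N h3 hidx)
    (Cfsg.Agent.Lib.Helper17.R3TYPE2A.exists_mod_of_cube n x y z hcard hn hgen hx hy hz hxz hyz hxy N h3)

/-- BB1 (assembly, helper13). -/
theorem index_le_27 (hG : IsPGroup 3 G) (hrk : Cfsg.PRankLE 3 2 G) (N : Subgroup G) [N.Normal]
    (h3 : ∀ g : G, g ^ 3 ∈ N) (hc : ∀ g h : G, ⁅g, h⁆ ∈ N) : N.index ≤ 27 := by
  classical
  rcases blackburn_cases hG hrk N h3 hc with h | ⟨n, x, y, z, -, -, hgen, -⟩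
  · omega
  · have := index_le_pow_card N h3 hc ({x, y, z} : Finset G) (by simpa using hgen)
    have hcard : ({x, y, z} : Finset G).card ≤ 3 := Finset.card_le_three
    calc N.index ≤ 3 ^ ({x, y, z} : Finset G).card := this
      _ ≤ 3 ^ 3 := Nat.pow_le_pow_right (by norm_num) hcard
      _ = 27 := by norm_num

/-- BB2 (assembly, helper13). -/
theorem exists_fixed_pair (hG : IsPGroup 3 G) (hrk : Cfsg.PRankLE 3 2 G) (N : Subgroup G) [N.Normal]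
    (h3 : ∀ g : G, g ^ 3 ∈ N) (hc : ∀ g h : G, ⁅g, h⁆ ∈ N) (hidx : N.index = 27)
    (φ : G ≃* G) (hφ3 : ∀ g : G, φ (φ (φ g)) = g) (hφN : ∀ g : G, g ∈ N ↔ φ g ∈ N) :
    ∃ g₁ g₂ : G, g₁⁻¹ * φ g₁ ∈ N ∧ g₂⁻¹ * φ g₂ ∈ N ∧ g₁ ∉ N ∧ ∀ k : ℕ, g₂ * g₁ ^ k ∉ N := by
  rcases blackburn_cases hG hrk N h3 hc with h | ⟨n, x, y, z, hcard, hn3, hgen, hx, hy, hz, hxz, hyz, hxy⟩
  · omega
  · -- n = 3 is impossible: G would be elementary abelian of order 27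
    have hn4 : 4 ≤ n := by
      by_contra hlt
      have hn : n = 3 := by omega
      subst hn
      have hN : Nat.card N = 1 := by
        have := N.card_mul_index
        rw [hidx, hcard] at this
        omega
      have hNbot : N = ⊥ := Subgroup.card_eq_one.mp hN
      have hcomm : IsMulCommutative (⊤ : Subgroup G) := by
        refine ⟨⟨fun a b => ?_⟩⟩
        have := hc a.1 b.1
        rw [hNbot, Subgroup.mem_bot, commutatorElement_eq_one_iff_mul_comm] at this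
        exact Subtype.ext this
      have h3' : ∀ a ∈ (⊤ : Subgroup G), a ^ 3 = 1 := fun a _ => by
        have := h3 a
        rwa [hNbot, Subgroup.mem_bot] at this
      have := hrk ⊤ hcomm h3'
      rw [Subgroup.card_top, hcard] at this
      norm_num at this
    exact type_two_fixed n x y z hcard hn4 hgen hx hy hz hxz hyz hxy N h3 hc hidx φ hφ3 hφN

end pure

/-! ## the action part -/

section act

variable {H : Type*} [Group H] [Finite H] {M : Type*} [CommGroup M] [Finite M]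
  [MulDistribMulAction H M]

/-- AUTR `relIndex_fixer_le`: an `r`-group (`r` odd) normalizing `b`, `|b| ≤ 8`, induces at most `r`
automorphisms on it. (`R/C_R(b)` embeds in `Aut b`; `|Aut b| ∈ {1,1,6,168}`; or directly: an
`r`-group of automorphisms of `C_2^k`, `k ≤ 3`, acts on the `≤ 7` nonidentity elements.) -/
theorem relIndex_fixer_le (hM2 : ∀ m : M, m ^ 2 = 1) (b : Subgroup M) (hb : Nat.card b ≤ 8)
    (r : ℕ) (hr : r.Prime) (hr2 : r ≠ 2) (R : Subgroup H) (hR : IsPGroup r R)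
    (hRb : ∀ f ∈ R, f • b = b) : (R ⊓ fixer b).relIndex R ≤ r :=
  Cfsg.Agent.Lib.Helper17.R3AUTR.relIndex_fixer_le hM2 b hb r hr hr2 R hR hRb

/-- SMALL `not_isCyclic_fixer` (= wave 1 statement; from AUTR). -/
theorem not_isCyclic_fixer (hM2 : ∀ m : M, m ^ 2 = 1) (b : Subgroup M) (hb : Nat.card b ≤ 8)
    (r : ℕ) (hr : r.Prime) (hr2 : r ≠ 2) (F : Subgroup H) (hF : Cfsg.IsElementaryAbelian r F)
    (hF3 : Nat.card F = r ^ 3) (hFb : ∀ f ∈ F, f • b = b) : ¬ IsCyclic ↥(F ⊓ fixer b) :=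
  Cfsg.Agent.Lib.Helper17.R3SMALL.not_isCyclic_fixer hM2 b hb r hr hr2 F hF hF3 hFb

/-- CASE1 `case_one`. (`F := E.map (MulAut.conj h)`; SMALL; `fixer b₀ ≤ fixer [M,x]`; a group with a
non-cyclic subgroup is not cyclic.) -/
theorem case_one (hM2 : ∀ m : M, m ^ 2 = 1) (x : H) (b₀ : Subgroup M) (hb : Blk x b₀)
    (p : ℕ) (hp : p.Prime) (hp2 : p ≠ 2) (E : Subgroup H) (hE : Cfsg.IsElementaryAbelian p E)
    (hE3 : Nat.card E = p ^ 3) (h : H) (hh : ∀ e ∈ E, (h * e * h⁻¹) • b₀ = b₀) :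
    ∃ (r : ℕ) (F : Subgroup H), r.Prime ∧ r ≠ 2 ∧ Cfsg.IsElementaryAbelian r F ∧ Nat.card F = r ^ 3 ∧
      ¬ IsCyclic ↥(F ⊓ fixer (cSub M x)) :=
  Cfsg.Agent.Lib.Helper17.R3CASE1.case_one hM2 x b₀ hb p hp hp2 E hE hE3 h hh

/-- ORBIT `smul_eq_iff_modEq`. (`zpowers e` has prime order `p`; the stabilizer of `b₀` in it is
proper, hence trivial.) -/
theorem smul_eq_iff_modEq (p : ℕ) (hp : p.Prime) (e : H) (he : e ^ p = 1) (b₀ : Subgroup M)
    (hne : e • b₀ ≠ b₀) (i j : ℕ) : e ^ i • b₀ = e ^ j • b₀ ↔ i ≡ j [MOD p] :=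
  Cfsg.Agent.Lib.Helper14.R3ORBIT.smul_eq_iff_modEq p hp e he b₀ hne i j

/-- CONJ1 `conj_fixes`: `g x g⁻¹` fixes every block other than `g • b₀` pointwise. -/
theorem conj_fixes (x : H) (b₀ : Subgroup M) (hb : Blk x b₀) (g h : H) (hne : h • b₀ ≠ g • b₀)
    (m : M) (hm : m ∈ h • b₀) : (g * x * g⁻¹) • m = m :=
  Cfsg.Agent.Lib.Helper17.R3CONJ.conj_fixes x b₀ hb g h hne m hm

/-- CONJ2 `conj_stabilizes`. -/
theorem conj_stabilizes (x : H) (b₀ : Subgroup M) (hb : Blk x b₀) (g : H) :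
    (g * x * g⁻¹) • (g • b₀) = g • b₀ :=
  Cfsg.Agent.Lib.Helper17.R3CONJ.conj_stabilizes x b₀ hb g

/-- CONJ3 `conj_moves`: `g x g⁻¹` does not fix `g • b₀` pointwise. (`x` has no nontrivial fixed
point on `[M,x] ≤ b₀`: wave 1 `eq_one_of_fixed`; `[M,x] ≠ ⊥`.) -/
theorem conj_moves (hM2 : ∀ m : M, m ^ 2 = 1) (x : H) (hx : IsRoot M x) (b₀ : Subgroup M)
    (hb : Blk x b₀) (g : H) : ∃ m ∈ g • b₀, (g * x * g⁻¹) • m ≠ m :=
  Cfsg.Agent.Lib.Helper17.R3CONJ.conj_moves hM2 x hx b₀ hb g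

/-- KR1 `conj_mem_kerB`: `e` normalizes `kerB`. -/
theorem conj_mem_kerB (p : ℕ) (hp : p.Prime) (e : H) (he : e ^ p = 1) (b₀ : Subgroup M) (t : H)
    (ht : t ∈ kerB e b₀ p) : e * t * e⁻¹ ∈ kerB e b₀ p :=
  Cfsg.Agent.Lib.Helper17.R3KR.conj_mem_kerB p hp e he b₀ t ht

/-- KR2 `fixer_conj_of_mem_kerB`: `kerB` normalizes each `C_H(b_i)`. -/
theorem fixer_conj_of_mem_kerB (p : ℕ) (e : H) (b₀ : Subgroup M) (i : Fin p) (g : H)
    (hg : g ∈ kerB e b₀ p) (f : H) (hf : f ∈ fixer (e ^ (i : ℕ) • b₀)) :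
    g * f * g⁻¹ ∈ fixer (e ^ (i : ℕ) • b₀) :=
  Cfsg.Agent.Lib.Helper17.R3KR.fixer_conj_of_mem_kerB p e b₀ i g hg f hf

/-- KR3 `conj_mem_fixB`: `e` normalizes `fixB` (for `p = 3`, `e^3 = 1`). -/
theorem conj_mem_fixB (e : H) (he : e ^ 3 = 1) (b₀ : Subgroup M) (g : H)
    (hg : g ∈ fixB e b₀ 3) : e * g * e⁻¹ ∈ fixB e b₀ 3 :=
  Cfsg.Agent.Lib.Helper17.R3KR.conj_mem_fixB e he b₀ g hg

/-- ZROOT `exists_indep_elements`: for each block a conjugate (inside `P`) of the root `e^i x e^-i`.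
(`y_i := e^i x e^-i ∈ kerB` by CONJ1/CONJ2 and ORBIT; it is a 3-element; `z_i := t y_i t⁻¹ ∈ P` with
`t ∈ kerB`; `t` stabilizes every block, so `z_i` is still trivial on `b_j` (`j ≠ i`, CONJ1 + ORBIT),
nontrivial on `b_i` (CONJ3), and `z_i^3 = t y_i^3 t⁻¹` acts trivially on `M`.) -/
theorem exists_indep_elements (hM2 : ∀ m : M, m ^ 2 = 1) (x : H) (hx : IsRoot M x)
    (hx3 : ∃ k : ℕ, x ^ 3 ^ k = 1) (b₀ : Subgroup M) (hb : Blk x b₀) (p : ℕ) (hp : p.Prime)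
    (e : H) (hep : e ^ p = 1) (hne : e • b₀ ≠ b₀) (P : Subgroup H) (hPT : P ≤ kerB e b₀ p)
    (hPconj : ∀ g ∈ kerB e b₀ p, (∃ k : ℕ, g ^ 3 ^ k = 1) → ∃ t ∈ kerB e b₀ p, t * g * t⁻¹ ∈ P) :
    ∃ z : Fin p → H, (∀ i, z i ∈ P) ∧ (∀ i j : Fin p, i ≠ j → z i ∈ fixer (e ^ (j : ℕ) • b₀)) ∧
      (∀ i : Fin p, z i ∉ fixer (e ^ (i : ℕ) • b₀)) ∧
      (∀ i : Fin p, z i ^ 3 ∈ fixer (e ^ (i : ℕ) • b₀)) :=
  Cfsg.Agent.Lib.Helper17.R3ZROOT.exists_indep_elements hM2 x hx hx3 b₀ hb p hp e hep hne P hPT hPconj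

/-- QUOT `quotient_facts`: `P/(P ⊓ fixB)` is elementary abelian of exponent 3. (For each `i`,
`P ⊓ C(b_i)` is normal in `P` of index `≤ 3` by AUTR, so it contains cubes and commutators.) -/
theorem quotient_facts (hM2 : ∀ m : M, m ^ 2 = 1) (b₀ : Subgroup M) (hb8 : Nat.card b₀ ≤ 8)
    (p : ℕ) (e : H) (P : Subgroup H) (hP3 : IsPGroup 3 P) (hPT : P ≤ kerB e b₀ p) :
    (∀ g ∈ P, ∀ k ∈ P ⊓ fixB e b₀ p, g * k * g⁻¹ ∈ P ⊓ fixB e b₀ p) ∧
    (∀ g ∈ P, g ^ 3 ∈ P ⊓ fixB e b₀ p) ∧ (∀ g ∈ P, ∀ h ∈ P, ⁅g, h⁆ ∈ P ⊓ fixB e b₀ p) :=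
  Cfsg.Agent.Lib.Helper1.R3QUOT.quotient_facts hM2 b₀ hb8 p e P hP3 hPT

/-- FIXPT `mem_fixB_of_fixed`: an element fixed by `e` modulo `fixB` and trivial on `b₀` is trivial on
all three blocks. (`g ∈ C(b_i)` gives `e g e⁻¹ ∈ C(b_(i+1))`, and `g = (e g e⁻¹) k⁻¹`, `k ∈ fixB`.) -/
theorem mem_fixB_of_fixed (e : H) (b₀ : Subgroup M) (g : H)
    (hfix : g⁻¹ * (e * g * e⁻¹) ∈ fixB e b₀ 3) (hg0 : g ∈ fixer b₀) : g ∈ fixB e b₀ 3 :=
  Cfsg.Agent.Lib.Helper1.R3FIXPT.mem_fixB_of_fixed e b₀ g hfix hg0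

/-- FINAL3 `final_three`: the `e`-fixed points of `P/K` form a group of order `≤ 3`.
(FIXPT: `g₁ ∉ C(b₀)`. `L := P ⊓ C(b₀)` is normal in `P` of index 3 (AUTR), so `g₂ g₁^k ∈ L` for some `k`;
`g₂ g₁^k` is again fixed mod `K` (`K = P ⊓ fixB` normal in `P`); FIXPT.) -/
theorem final_three (hM2 : ∀ m : M, m ^ 2 = 1) (b₀ : Subgroup M) (hb8 : Nat.card b₀ ≤ 8) (e : H)
    (he3 : e ^ 3 = 1) (P : Subgroup H) (hP3 : IsPGroup 3 P) (hPT : P ≤ kerB e b₀ 3)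
    (hPe : ∀ g ∈ P, e * g * e⁻¹ ∈ P) (g₁ g₂ : H) (hg₁ : g₁ ∈ P) (hg₂ : g₂ ∈ P)
    (h₁ : g₁⁻¹ * (e * g₁ * e⁻¹) ∈ fixB e b₀ 3) (h₂ : g₂⁻¹ * (e * g₂ * e⁻¹) ∈ fixB e b₀ 3)
    (hn₁ : g₁ ∉ fixB e b₀ 3) : ∃ k : ℕ, g₂ * g₁ ^ k ∈ fixB e b₀ 3 :=
  Cfsg.Agent.Lib.Helper1.R3FINAL3.final_three hM2 b₀ hb8 e he3 P hP3 hPT hPe g₁ g₂ hg₁ hg₂ h₁ h₂ hn₁

end act

/-! ## assembly (helper13) -/

section asm

variable {H : Type*} [Group H] [Finite H] {M : Type*} [CommGroup M] [Finite M]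
  [MulDistribMulAction H M]

lemma kerB_le_stab (e : H) (b₀ : Subgroup M) (p : ℕ) (hp : 0 < p) (g : H)
    (hg : g ∈ kerB e b₀ p) : g • b₀ = b₀ := by
  have := (Subgroup.mem_iInf.mp hg) ⟨0, hp⟩
  simpa [MulAction.mem_stabilizer_iff] using this

lemma fixer_mono {P Q : Subgroup M} (h : P ≤ Q) : fixer (H := H) Q ≤ fixer P :=
  fun _ hg m hm => hg m (h hm)

lemma not_isCyclic_of_le {A B : Subgroup H} (hAB : A ≤ B) (hA : ¬ IsCyclic ↥A) : ¬ IsCyclic ↥B := by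
  intro hB
  exact hA (isCyclic_of_injective (Subgroup.inclusion hAB) (Subgroup.inclusion_injective hAB))

/-- CASE2 (assembly). -/
theorem case_two (hM2 : ∀ m : M, m ^ 2 = 1) (x : H) (hx : IsRoot M x)
    (hx3 : ∃ k : ℕ, x ^ 3 ^ k = 1) (b₀ : Subgroup M) (hb : Blk x b₀) (p : ℕ) (hp : p.Prime)
    (hp2 : p ≠ 2) (E : Subgroup H) (hE : Cfsg.IsElementaryAbelian p E) (hE3 : Nat.card E = p ^ 3)
    (h1 : ¬ ∃ h : H, ∀ e ∈ E, (h * e * h⁻¹) • b₀ = b₀) :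
    ∃ (r : ℕ) (F : Subgroup H), r.Prime ∧ r ≠ 2 ∧ Cfsg.IsElementaryAbelian r F ∧ Nat.card F = r ^ 3 ∧
      ¬ IsCyclic ↥(F ⊓ fixer (cSub M x)) := by
  classical
  have hex : ∃ e ∈ E, e • b₀ ≠ b₀ := by
    by_contra hcon
    push Not at hcon
    exact h1 ⟨1, fun e he => by simpa using hcon e he⟩
  obtain ⟨e, heE, hne⟩ := hex
  have hep : e ^ p = 1 := hE.2 e heE
  have hp0 : 0 < p := hp.pos
  -- the 3-element normalizing kerB
  set e₃ : H := if p = 3 then e else 1 with he₃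
  have he₃3 : e₃ ^ 3 = 1 := by
    rw [he₃]; split_ifs with h
    · rw [← h]; exact hep
    · simp
  have he₃n : ∀ t ∈ kerB e b₀ p, e₃ * t * e₃⁻¹ ∈ kerB e b₀ p := by
    intro t ht
    rw [he₃]; split_ifs with h
    · exact conj_mem_kerB p hp e hep b₀ t ht
    · simpa using ht
  obtain ⟨P, hPT, hP3, hPconj, hPe⟩ := exists_sylow_three_invariant (kerB e b₀ p) e₃ he₃3 he₃n
  obtain ⟨z, hzP, hzF, hzF', hz3⟩ :=
    exists_indep_elements hM2 x hx hx3 b₀ hb p hp e hep hne P hPT hPconj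
  have hidx : 3 ^ p ≤ (P ⊓ fixB e b₀ p).relIndex P := by
    have := pow_card_le_relIndex P (fun i : Fin p => fixer (e ^ (i : ℕ) • b₀))
      (fun i g hg f hf => fixer_conj_of_mem_kerB p e b₀ i g (hPT hg) f hf) z hzP
      (fun i j hij => hzF i j hij) hzF' hz3
    simpa [fixB, Fintype.card_fin] using this
  by_cases hrk : ∃ A : Subgroup H, A ≤ P ∧ IsMulCommutative A ∧ (∀ a ∈ A, a ^ 3 = 1) ∧ 9 < Nat.card A
  · obtain ⟨A, hAP, hAc, hA3, hA9⟩ := hrk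
    obtain ⟨F, hFA, hFel, hF27⟩ := exists_subgroup_card_27 A hAc hA3 hA9
    have hFb : ∀ f ∈ F, f • b₀ = b₀ := fun f hf =>
      kerB_le_stab e b₀ p hp0 f (hPT (hAP (hFA hf)))
    have hnc := not_isCyclic_fixer hM2 b₀ hb.2.1 3 Nat.prime_three (by norm_num) F hFel
      (by rw [hF27]; norm_num) hFb
    refine ⟨3, F, Nat.prime_three, by norm_num, hFel, by rw [hF27]; norm_num, ?_⟩
    exact not_isCyclic_of_le (inf_le_inf_left F (fixer_mono hb.1)) hnc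
  · exfalso
    push Not at hrk
    obtain ⟨hKn, hK3, hKc⟩ := quotient_facts hM2 b₀ hb.2.1 p e P hP3 hPT
    -- pass to the group ↥P
    set N : Subgroup ↥P := (P ⊓ fixB e b₀ p).subgroupOf P with hN
    haveI hNn : N.Normal := by
      refine ⟨fun k hk g => ?_⟩
      rw [hN, Subgroup.mem_subgroupOf] at hk ⊢
      simpa using hKn g.1 g.2 k.1 hk
    have hG3 : IsPGroup 3 ↥P := hP3
    have hrk' : Cfsg.PRankLE 3 2 ↥P := by
      intro A hAc hA3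
      have h := hrk (A.map P.subtype) (Subgroup.map_subtype_le A)
        (by
          refine ⟨⟨fun a b => ?_⟩⟩
          obtain ⟨a', ha', haa⟩ := a.2
          obtain ⟨b', hb', hbb⟩ := b.2
          have := hAc.is_comm.comm (⟨a', ha'⟩ : A) ⟨b', hb'⟩
          apply Subtype.ext
          have h2 : (a' : H) * b' = b' * a' := by
            have := congrArg (fun t : A => ((t : ↥P) : H)) this
            simpa using this
          simp only [Subgroup.coe_mul]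
          rw [← haa, ← hbb]
          exact h2)
        (by
          rintro _ ⟨a', ha', rfl⟩
          have := hA3 a' ha'
          simpa using congrArg (fun t : ↥P => (t : H)) this)
      have hcard : Nat.card (A.map P.subtype) = Nat.card A :=
        Nat.card_congr (A.equivMapOfInjective P.subtype P.subtype_injective).symm.toEquiv
      rw [hcard] at h
      norm_num
      omega
    have h3N : ∀ g : ↥P, g ^ 3 ∈ N := fun g => by
      rw [hN, Subgroup.mem_subgroupOf]; simpa using hK3 g.1 g.2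
    have hcN : ∀ g h : ↥P, ⁅g, h⁆ ∈ N := fun g h => by
      rw [hN, Subgroup.mem_subgroupOf]
      have := hKc g.1 g.2 h.1 h.2
      simpa [commutatorElement_def] using this
    have hle27 : N.index ≤ 27 := index_le_27 hG3 hrk' N h3N hcN
    have hNidx : N.index = (P ⊓ fixB e b₀ p).relIndex P := rfl
    have hp3 : p = 3 := by
      have h27 : 3 ^ p ≤ 27 := by rw [hNidx] at hle27; exact le_trans hidx hle27
      have hple : p ≤ 3 := by
        by_contra hgt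
        push Not at hgt
        have : 3 ^ 4 ≤ 3 ^ p := Nat.pow_le_pow_right (by norm_num) hgt
        omega
      have := hp.two_le
      omega
    subst hp3
    have he₃e : e₃ = e := by rw [he₃]; simp
    rw [he₃e] at hPe he₃3
    have hidx27 : N.index = 27 := by
      rw [hNidx] at hle27 ⊢
      have : 3 ^ 3 ≤ (P ⊓ fixB e b₀ 3).relIndex P := hidx
      omega
    -- the automorphism induced by e
    have he2 : e * e = e⁻¹ := by
      have : e * e * e = 1 := by rw [← pow_three']; exact he₃3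
      exact eq_inv_of_mul_eq_one_left this
    have hPe' : ∀ g ∈ P, e⁻¹ * g * e ∈ P := by
      intro g hg
      have h1 := hPe _ (hPe g hg)
      have : e * (e * g * e⁻¹) * e⁻¹ = e⁻¹ * g * e := by
        calc e * (e * g * e⁻¹) * e⁻¹ = (e * e) * g * (e * e)⁻¹ := by group
          _ = e⁻¹ * g * e := by rw [he2, inv_inv]
      rw [← this]; exact h1
    let φ : ↥P ≃* ↥P :=
      { toFun := fun g => ⟨e * g.1 * e⁻¹, hPe g.1 g.2⟩
        invFun := fun g => ⟨e⁻¹ * g.1 * e, hPe' g.1 g.2⟩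
        left_inv := fun g => by apply Subtype.ext; simp only []; group
        right_inv := fun g => by apply Subtype.ext; simp only []; group
        map_mul' := fun g h => by apply Subtype.ext; simp only [Subgroup.coe_mul]; group }
    have hφ : ∀ g : ↥P, ((φ g : ↥P) : H) = e * g.1 * e⁻¹ := fun g => rfl
    have hφ3 : ∀ g : ↥P, φ (φ (φ g)) = g := by
      intro g
      apply Subtype.ext
      rw [hφ, hφ, hφ]
      have : e * (e * (e * g.1 * e⁻¹) * e⁻¹) * e⁻¹ = (e * e * e) * g.1 * (e * e * e)⁻¹ := by group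
      rw [this]
      have : e * e * e = 1 := by rw [← pow_three']; exact he₃3
      rw [this]; simp
    have hfixB_e : ∀ g : H, g ∈ fixB e b₀ 3 → e * g * e⁻¹ ∈ fixB e b₀ 3 := by
      intro g hg
      exact conj_mem_fixB e he₃3 b₀ g hg
    have hφN : ∀ g : ↥P, g ∈ N ↔ φ g ∈ N := by
      intro g
      rw [hN, Subgroup.mem_subgroupOf, Subgroup.mem_subgroupOf, hφ]
      constructor
      · intro hg
        exact ⟨hPe g.1 g.2, hfixB_e g.1 hg.2⟩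
      · intro hg
        refine ⟨g.2, ?_⟩
        have h1 := hfixB_e _ (hfixB_e _ hg.2)
        have : e * (e * (e * g.1 * e⁻¹) * e⁻¹) * e⁻¹ = (e * e * e) * g.1 * (e * e * e)⁻¹ := by group
        rw [this] at h1
        have h3 : e * e * e = 1 := by rw [← pow_three']; exact he₃3
        rw [h3] at h1
        simpa using h1
    obtain ⟨g₁, g₂, hf₁, hf₂, hg₁N, hindep⟩ :=
      exists_fixed_pair hG3 hrk' N h3N hcN hidx27 φ hφ3 hφN
    have hmemN : ∀ g : ↥P, g ∈ N ↔ (g : H) ∈ fixB e b₀ 3 := by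
      intro g
      rw [hN, Subgroup.mem_subgroupOf]
      exact ⟨fun h => h.2, fun h => ⟨g.2, h⟩⟩
    have hf₁' : (g₁ : H)⁻¹ * (e * g₁ * e⁻¹) ∈ fixB e b₀ 3 := by
      have := (hmemN _).mp hf₁
      simpa [hφ] using this
    have hf₂' : (g₂ : H)⁻¹ * (e * g₂ * e⁻¹) ∈ fixB e b₀ 3 := by
      have := (hmemN _).mp hf₂
      simpa [hφ] using this
    obtain ⟨k, hk⟩ := final_three hM2 b₀ hb.2.1 e he₃3 P hP3 hPT hPe g₁ g₂ g₁.2 g₂.2 hf₁' hf₂'
      (fun h => hg₁N ((hmemN g₁).mpr h))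
    exact hindep k ((hmemN _).mpr (by simpa using hk))

/-- END `endgame` (assembly). -/
theorem endgame (hM2 : ∀ m : M, m ^ 2 = 1) (x : H) (hx : IsRoot M x) (hx3 : ∃ k : ℕ, x ^ 3 ^ k = 1)
    (b₀ : Subgroup M) (hb : Blk x b₀) (p : ℕ) (hp : p.Prime) (hp2 : p ≠ 2) (E : Subgroup H)
    (hE : Cfsg.IsElementaryAbelian p E) (hE3 : Nat.card E = p ^ 3) :
    ∃ (r : ℕ) (F : Subgroup H), r.Prime ∧ r ≠ 2 ∧ Cfsg.IsElementaryAbelian r F ∧ Nat.card F = r ^ 3 ∧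
      ¬ IsCyclic ↥(F ⊓ fixer (cSub M x)) := by
  by_cases h1 : ∃ h : H, ∀ e ∈ E, (h * e * h⁻¹) • b₀ = b₀
  · obtain ⟨h, hh⟩ := h1
    exact case_one hM2 x b₀ hb p hp hp2 E hE hE3 h hh
  · exact case_two hM2 x hx hx3 b₀ hb p hp hp2 E hE hE3 h1

end asm

end Cfsg.Agent.Lib.Helper13.R3End
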