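import Cfsg.Agent.Lib.Helper13.R3Defs

/-!
# S4404 (helper13): the context structure `KLCtx` of the 16-element core lemma

It lives in the namespace of the leaf statements (`Cfsg.Agent.Lib.Helper13.R3Leaves`), verbatim from
`notes/S4404_leaves.lean`, so that the leaves KLA / KLB / KLC can be stated with `hc : KLCtx D S`.
-/

set_option autoImplicit false

namespace Cfsg.Agent.Lib.Helper13.R3Leaves

open Pointwise Cfsg.Agent.Lib.Helper13.R3

variable {T : Type*} [CommGroup T] [Finite T]

/-- The context of KL: `D ≤ Aut(T)`, `|T| = 16`, `D` of odd order, solvable, generated by a nonempty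
set `S` of roots, and `T` IRREDUCIBLE under `D`. (`MulAut T` acts on `T` by
`MulAut.applyMulDistribMulAction`: `y • t = y t`.) -/
structure KLCtx (D : Subgroup (MulAut T)) (S : Set (MulAut T)) : Prop where
  hT2 : ∀ t : T, t ^ 2 = 1
  hT : Nat.card T = 16
  hodd : Odd (Nat.card D)
  hsol : Group.IsSolvable D
  hS : Subgroup.closure S = D
  hroot : ∀ y ∈ S, IsRoot T y
  hne : S.Nonempty
  hirr : ∀ U : Subgroup T, (∀ d ∈ D, ∀ u ∈ U, d u ∈ U) → U = ⊥ ∨ U = ⊤

end Cfsg.Agent.Lib.Helper13.R3Leaves
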