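import Mathlib
import Cfsg.Prelude.Def_Transfer
import Cfsg.Prelude.Def_Solvable
import Cfsg.Prelude.Def_Local
import Cfsg.Agent.Lib.Helper13.R3Defs
import Cfsg.Agent.Lib.Helper13.R3KLDefs
import Cfsg.Agent.Lib.Helper17.R3DICH
import Cfsg.Agent.Lib.Helper22.R3KLBX
import Cfsg.Agent.Lib.Helper22.R3KLC
import Cfsg.Agent.Lib.Helper23.R3KLA
import Cfsg.Agent.Lib.Helper2.R3RED
import Cfsg.Agent.Lib.Helper4.R3PAIR
import Cfsg.Agent.Lib.Helper4.R3CLOSE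
import Cfsg.Agent.Lib.Helper9.R3BLOCK

/-!
# S4404 (helper13): the abstract main theorem, first half (KL, PAIR, CLOSE, BLOCK)

The leaves (wave 1 of `notes/S4404_leaves.lean`) are restated verbatim and closed by the landed
modules of the takers.
-/

set_option autoImplicit false

namespace Cfsg.Agent.Lib.Helper13.R3Main

open Pointwise Cfsg.Agent.Lib.Helper13.R3 Cfsg.Agent.Lib.Helper13.R3Leaves

section KL

variable {T : Type*} [CommGroup T] [Finite T]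

theorem no_normal_five {D : Subgroup (MulAut T)} {S : Set (MulAut T)} (hc : KLCtx D S)
    (B : Subgroup (MulAut T)) (hBD : B ≤ D) (hnorm : ∀ d ∈ D, ∀ b ∈ B, d * b * d⁻¹ ∈ B) :
    Nat.card B ≠ 5 :=
  Cfsg.Agent.Lib.Helper22.R3KLBX.no_normal_five hc B hBD hnorm

theorem exists_normal_five_of_central {D : Subgroup (MulAut T)} {S : Set (MulAut T)} (hc : KLCtx D S)
    (α : MulAut T) (hαD : α ∈ D) (hα3 : orderOf α = 3) (hcent : ∀ d ∈ D, d * α = α * d)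
    (hfpf : ∀ t : T, α t = t → t = 1) :
    ∃ B : Subgroup (MulAut T), B ≤ D ∧ (∀ d ∈ D, ∀ b ∈ B, d * b * d⁻¹ ∈ B) ∧ Nat.card B = 5 :=
  Cfsg.Agent.Lib.Helper22.R3KLC.exists_normal_five_of_central hc α hαD hα3 hcent hfpf

theorem normal_five_or_central_three {D : Subgroup (MulAut T)} {S : Set (MulAut T)}
    (hc : KLCtx D S) :
    (∃ B : Subgroup (MulAut T), B ≤ D ∧ (∀ d ∈ D, ∀ b ∈ B, d * b * d⁻¹ ∈ B) ∧ Nat.card B = 5) ∨
    (∃ α : MulAut T, α ∈ D ∧ orderOf α = 3 ∧ (∀ d ∈ D, d * α = α * d) ∧ ∀ t : T, α t = t → t = 1) :=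
  Cfsg.Agent.Lib.Helper23.R3KLA.normal_five_or_central_three hc

/-- KL `exists_invariant_of_card_sixteen` (assembly of KLA, KLB, KLC). -/
theorem exists_invariant_of_card_sixteen (hT2 : ∀ t : T, t ^ 2 = 1) (hT : Nat.card T = 16)
    (D : Subgroup (MulAut T)) (hodd : Odd (Nat.card D)) (hsol : Group.IsSolvable D)
    (S : Set (MulAut T)) (hS : Subgroup.closure S = D) (hroot : ∀ y ∈ S, IsRoot T y)
    (hne : S.Nonempty) :
    ∃ U : Subgroup T, U ≠ ⊥ ∧ U ≠ ⊤ ∧ ∀ d ∈ D, ∀ u ∈ U, d u ∈ U := by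
  by_contra hcon
  push Not at hcon
  have hc : KLCtx D S :=
    { hT2 := hT2, hT := hT, hodd := hodd, hsol := hsol, hS := hS, hroot := hroot, hne := hne
      hirr := fun U hU => by
        by_contra h
        push Not at h
        obtain ⟨d, hd, u, hu, hdu⟩ := hcon U h.1 h.2
        exact hdu (hU d hd u hu) }
  rcases normal_five_or_central_three hc with ⟨B, hBD, hn, h5⟩ | ⟨α, hαD, hα3, hcent, hfpf⟩
  · exact no_normal_five hc B hBD hn h5
  · obtain ⟨B, hBD, hn, h5⟩ := exists_normal_five_of_central hc α hαD hα3 hcent hfpf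
    exact no_normal_five hc B hBD hn h5

end KL

section pair

variable {H : Type*} [Group H] [Finite H] {M : Type*} [CommGroup M] [Finite M]
  [MulDistribMulAction H M]

theorem exists_decomp (hodd : Odd (Nat.card H)) [Group.IsSolvable H] (hM2 : ∀ m : M, m ^ 2 = 1)
    (S : Set H) (hS : ∀ y ∈ S, IsRoot M y) (hT : Nat.card ↥(⨆ y ∈ S, cSub M y) = 16) :
    ∃ U U' : Subgroup M, U ≠ ⊥ ∧ U' ≠ ⊥ ∧ U ⊓ U' = ⊥ ∧ U ⊔ U' = ⨆ y ∈ S, cSub M y ∧
      (∀ y ∈ S, ∀ u ∈ U, y • u ∈ U) ∧ (∀ y ∈ S, ∀ u ∈ U', y • u ∈ U') :=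
  Cfsg.Agent.Lib.Helper2.R3RED.exists_decomp_of
    (fun T _ _ hT2 hT D hodd hsol S hS hroot hne =>
      exists_invariant_of_card_sixteen hT2 hT D hodd hsol S hS hroot hne) hodd hM2 S hS hT

theorem fix_of_disjoint (hodd : Odd (Nat.card H)) [Group.IsSolvable H] (hM2 : ∀ m : M, m ^ 2 = 1)
    (y y' : H) (hy : IsRoot M y) (hy' : IsRoot M y') (hd : cSub M y ⊓ cSub M y' = ⊥) :
    ∀ m ∈ cSub M y', y • m = m :=
  Cfsg.Agent.Lib.Helper4.R3PAIR.fix_of_disjoint_of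
    (fun S hS hT => exists_decomp hodd hM2 S hS hT)
    (fun y hy U U' hUU' hU hU' hle =>
      Cfsg.Agent.Lib.Helper17.R3DICH.root_dichotomy hM2 y hy U U' hUU' hU hU' hle)
    y y' hy hy' hd

theorem le_of_meet (hodd : Odd (Nat.card H)) [Group.IsSolvable H] (hM2 : ∀ m : M, m ^ 2 = 1)
    (y y' y'' : H) (hy : IsRoot M y) (hy' : IsRoot M y') (hy'' : IsRoot M y'')
    (hne : cSub M y ≠ cSub M y') (hmeet : cSub M y ⊓ cSub M y' ≠ ⊥)
    (hm : cSub M y'' ⊓ (cSub M y ⊔ cSub M y') ≠ ⊥) : cSub M y'' ≤ cSub M y ⊔ cSub M y' :=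
  Cfsg.Agent.Lib.Helper4.R3CLOSE.le_of_meet_of
    (fun S hS hT => exists_decomp hodd hM2 S hS hT)
    (fun y hy U U' hUU' hU hU' hle =>
      Cfsg.Agent.Lib.Helper17.R3DICH.root_dichotomy hM2 y hy U U' hUU' hU hU' hle)
    y y' y'' hy hy' hy'' hne hmeet hm

theorem exists_blk (hodd : Odd (Nat.card H)) [Group.IsSolvable H] (hM2 : ∀ m : M, m ^ 2 = 1)
    (x : H) (hx : IsRoot M x) : ∃ b₀ : Subgroup M, Blk x b₀ :=
  Cfsg.Agent.Lib.Helper9.R3BLOCK.exists_blk_of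
    (fun y y' hy hy' hd => fix_of_disjoint hodd hM2 y y' hy hy' hd)
    (fun y y' y'' hy hy' hy'' h1 h2 h3 => le_of_meet hodd hM2 y y' y'' hy hy' hy'' h1 h2 h3) x hx

end pair

end Cfsg.Agent.Lib.Helper13.R3Main
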