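/-
helper13: S4861 market, R1 sub-leaf (C) `indFun_real_of_conj` (signature by helper25).
-/
import Mathlib
import Cfsg.Prelude.Def_Blocks
import Cfsg.Agent.Lib.Helper6.IndFun

set_option autoImplicit false

namespace Cfsg.Agent.Lib.Helper13.RealP

open Cfsg Cfsg.Agent.Lib.Helper6
open scoped ComplexConjugate

universe u

/-- (C) a function on `W` whose `t`-conjugate is its complex conjugate induces to a real-valued
function. -/
theorem indFun_real_of_conj {G : Type u} [Group G] [Fintype G] (W : Subgroup G) (ψ : W → ℂ) (t : G)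
    (htW : ∀ w ∈ W, t * w * t⁻¹ ∈ W) (htW' : ∀ w ∈ W, t⁻¹ * w * t ∈ W)
    (hψ : ∀ w : W, ψ ⟨t * w * t⁻¹, htW w w.2⟩ = conj (ψ w)) :
    ∀ g : G, conj (indFun W ψ g) = indFun W ψ g := by
  intro g
  have key : ∀ y : G, conj (extendByZero W ψ y) = extendByZero W ψ (t * y * t⁻¹) := by
    intro y
    by_cases hy : y ∈ W
    · rw [extendByZero_mem W ψ hy, extendByZero_mem W ψ (htW y hy)]
      exact (hψ ⟨y, hy⟩).symm
    · have hy' : t * y * t⁻¹ ∉ W := by
        intro h
        apply hy
        have := htW' _ h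
        have h2 : t⁻¹ * (t * y * t⁻¹) * t = y := by group
        rwa [h2] at this
      rw [extendByZero_not_mem W ψ hy, extendByZero_not_mem W ψ hy', map_zero]
  unfold indFun
  rw [map_mul, map_inv₀, Complex.conj_natCast, map_sum]
  congr 1
  calc ∑ x : G, conj (extendByZero W ψ (x⁻¹ * g * x))
      = ∑ x : G, extendByZero W ψ (t * (x⁻¹ * g * x) * t⁻¹) :=
        Finset.sum_congr rfl (fun x _ => key _)
    _ = ∑ x : G, extendByZero W ψ (((Equiv.mulRight t⁻¹) x)⁻¹ * g * ((Equiv.mulRight t⁻¹) x)) := by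
        refine Finset.sum_congr rfl (fun x _ => ?_)
        congr 1
        simp only [Equiv.coe_mulRight]
        group
    _ = ∑ x : G, extendByZero W ψ (x⁻¹ * g * x) :=
        Fintype.sum_equiv (Equiv.mulRight t⁻¹) _ _ (fun x => rfl)

end Cfsg.Agent.Lib.Helper13.RealP
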