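/-
helper13: a `p`-group acting faithfully and linearly on a space of dimension `d + 1` over `F_q`,
where `d ≥ 2` is the multiplicative order of `q` modulo `p`, is cyclic (fixed point counting, a common
fixed vector, and the Isaacs-Passman lemma S1160 on the quotient by the fixed line).
-/
import Mathlib
import Cfsg.Agent.S1160

set_option autoImplicit false

namespace Cfsg.Agent.Lib.Helper13.ReeCyc

open Subgroup

section rep

variable {K V P : Type*} [Field K] [Fintype K] [AddCommGroup V] [Module K V] [Module.Finite K V]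
  [Group P] (ρ : P →* Module.End K V)

/-- the fixed space of an element -/
def fixSp (g : P) : Submodule K V := LinearMap.ker (ρ g - 1)

theorem mem_fixSp (g : P) (v : V) : v ∈ fixSp ρ g ↔ ρ g v = v := by
  simp [fixSp, sub_eq_zero]

theorem rho_pow_apply (g : P) (n : ℕ) (v : V) : ρ (g ^ n) v = (⇑(ρ g))^[n] v := by
  rw [map_pow, Module.End.coe_pow]

/-- counting fixed points of an element of `p`-power order -/
theorem card_modEq_fixSp {p : ℕ} [Fact p.Prime] (x : P) (k : ℕ) (hx : x ^ p ^ k = 1) :
    Fintype.card K ^ Module.finrank K V ≡ Fintype.card K ^ Module.finrank K (fixSp ρ x) [MOD p] := by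
  classical
  have hfin : Finite V := Module.finite_of_finite K
  have : Fintype V := Fintype.ofFinite V
  let f : Function.End V := fun v => ρ x v
  have hf : f ^ p ^ k = 1 := by
    funext v
    show (⇑(ρ x))^[p ^ k] v = v
    rw [← rho_pow_apply, hx, map_one]
    rfl
  have h1 := Equiv.Perm.card_fixedPoints_modEq (f := f) hf
  have h2 : Fintype.card (Function.fixedPoints f) = Fintype.card (fixSp ρ x) := by
    apply Fintype.card_congr
    refine Equiv.subtypeEquivRight ?_
    intro v
    rw [mem_fixSp]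
    rfl
  rw [h2, Module.card_eq_pow_finrank (K := K) (V := V),
    Module.card_eq_pow_finrank (K := K) (V := fixSp ρ x)] at h1
  exact h1

variable {p : ℕ} [Fact p.Prime] {d : ℕ}

theorem card_ne_zero_zmod (hd : 2 ≤ d) (hord : orderOf ((Fintype.card K : ℕ) : ZMod p) = d) :
    ((Fintype.card K : ℕ) : ZMod p) ≠ 0 := by
  intro h0
  have h1 := pow_orderOf_eq_one ((Fintype.card K : ℕ) : ZMod p)
  rw [hord, h0, zero_pow (by omega)] at h1
  exact zero_ne_one h1

theorem not_dvd_card_sub_one (hd : 2 ≤ d) (hord : orderOf ((Fintype.card K : ℕ) : ZMod p) = d) :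
    ¬ p ∣ Fintype.card K - 1 := by
  intro h
  have h1 : 1 ≤ Fintype.card K := Fintype.card_pos
  have h2 : ((Fintype.card K - 1 : ℕ) : ZMod p) = 0 := (ZMod.natCast_eq_zero_iff _ _).2 h
  rw [Nat.cast_sub h1, sub_eq_zero, Nat.cast_one] at h2
  rw [h2, orderOf_one] at hord
  omega

/-- the dimension of the fixed space of a `p`-element is `1` or everything -/
theorem finrank_fixSp (hd : 2 ≤ d) (hfr : Module.finrank K V = d + 1)
    (hord : orderOf ((Fintype.card K : ℕ) : ZMod p) = d)
    (x : P) (k : ℕ) (hx : x ^ p ^ k = 1) :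
    Module.finrank K (fixSp ρ x) = d + 1 ∨ Module.finrank K (fixSp ρ x) = 1 := by
  have hle : Module.finrank K (fixSp ρ x) ≤ d + 1 := hfr ▸ Submodule.finrank_le _
  have h1 := card_modEq_fixSp ρ x k hx
  rw [hfr] at h1
  have h2 := (ZMod.natCast_eq_natCast_iff _ _ _).2 h1
  push_cast at h2
  set c := Module.finrank K (fixSp ρ x) with hc
  have hq0 := card_ne_zero_zmod (K := K) hd hord
  have h3 : ((Fintype.card K : ℕ) : ZMod p) ^ (d + 1 - c) = 1 := by
    have h4 : ((Fintype.card K : ℕ) : ZMod p) ^ c * ((Fintype.card K : ℕ) : ZMod p) ^ (d + 1 - c) =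
        ((Fintype.card K : ℕ) : ZMod p) ^ c * 1 := by
      rw [← pow_add, mul_one, ← h2]
      congr 1
      omega
    exact mul_left_cancel₀ (pow_ne_zero _ hq0) h4
  have h5 := orderOf_dvd_of_pow_eq_one h3
  rw [hord] at h5
  obtain ⟨t, ht⟩ := h5
  rcases t with _ | _ | t
  · left; omega
  · right; omega
  · exfalso
    have : d * (t + 1 + 1) = d * t + 2 * d := by ring
    omega

variable [Finite P]

theorem finrank_fixSp_eq_one (hρ : Function.Injective ρ) (hd : 2 ≤ d)
    (hfr : Module.finrank K V = d + 1)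
    (hord : orderOf ((Fintype.card K : ℕ) : ZMod p) = d)
    (x : P) (hx1 : x ≠ 1) (k : ℕ) (hx : x ^ p ^ k = 1) :
    Module.finrank K (fixSp ρ x) = 1 := by
  rcases finrank_fixSp ρ hd hfr hord x k hx with h | h
  · exfalso
    apply hx1
    apply hρ
    rw [map_one]
    have htop : fixSp ρ x = ⊤ := Submodule.eq_top_of_finrank_eq (h.trans hfr.symm)
    ext v
    have : v ∈ fixSp ρ x := htop ▸ Submodule.mem_top
    exact (mem_fixSp ρ x v).1 this
  · exact h

/-- a nonzero vector fixed by the whole `p`-group -/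
theorem exists_common_fixed (hρ : Function.Injective ρ) (hP : IsPGroup p P) (hd : 2 ≤ d)
    (hfr : Module.finrank K V = d + 1)
    (hord : orderOf ((Fintype.card K : ℕ) : ZMod p) = d) :
    ∃ v₀ : V, v₀ ≠ 0 ∧ ∀ g : P, ρ g v₀ = v₀ := by
  by_cases hnt : Nontrivial P
  · have hc : Nontrivial (center P) := hP.center_nontrivial
    obtain ⟨⟨z, hz⟩, hz1⟩ := exists_ne (1 : center P)
    have hz1' : z ≠ 1 := fun h => hz1 (Subtype.ext h)
    obtain ⟨kz, hkz⟩ := hP z
    have h1 := finrank_fixSp_eq_one ρ hρ hd hfr hord z hz1' kz hkz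
    obtain ⟨⟨v₀, hv₀m⟩, hv₀, hspan⟩ := finrank_eq_one_iff'.1 h1
    have hv₀' : v₀ ≠ 0 := fun h => hv₀ (Subtype.ext h)
    refine ⟨v₀, hv₀', ?_⟩
    intro g
    have hgm : ρ g v₀ ∈ fixSp ρ z := by
      rw [mem_fixSp, ← Module.End.mul_apply, ← map_mul, ← mem_center_iff.1 hz g, map_mul,
        Module.End.mul_apply, (mem_fixSp ρ z v₀).1 hv₀m]
    obtain ⟨c, hc⟩ := hspan ⟨ρ g v₀, hgm⟩
    have hc' : c • v₀ = ρ g v₀ := congrArg Subtype.val hc
    have hpow : ∀ n : ℕ, ρ (g ^ n) v₀ = c ^ n • v₀ := by
      intro n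
      induction n with
      | zero => simp
      | succ n ih =>
        rw [pow_succ, map_mul, Module.End.mul_apply, ← hc', map_smul, ih, smul_smul, pow_succ, mul_comm]
    obtain ⟨kg, hkg⟩ := hP g
    have h2 : c ^ p ^ kg = 1 := by
      have h3 := hpow (p ^ kg)
      rw [hkg, map_one, Module.End.one_apply] at h3
      have h4 : (c ^ p ^ kg - 1) • v₀ = 0 := by rw [sub_smul, one_smul, ← h3, sub_self]
      rcases smul_eq_zero.1 h4 with h5 | h5
      · exact sub_eq_zero.1 h5
      · exact absurd h5 hv₀'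
    have hc0 : c ≠ 0 := by
      intro h0
      rw [h0, zero_pow (pow_ne_zero _ (Fact.out : p.Prime).ne_zero)] at h2
      exact zero_ne_one h2
    have h6 : c ^ (Fintype.card K - 1) = 1 := FiniteField.pow_card_sub_one_eq_one c hc0
    have h7 : orderOf c ∣ Nat.gcd (p ^ kg) (Fintype.card K - 1) :=
      Nat.dvd_gcd (orderOf_dvd_of_pow_eq_one h2) (orderOf_dvd_of_pow_eq_one h6)
    have h8 : Nat.gcd (p ^ kg) (Fintype.card K - 1) = 1 := by
      apply Nat.Coprime.pow_left
      exact (Nat.Prime.coprime_iff_not_dvd Fact.out).2 (not_dvd_card_sub_one (K := K) hd hord)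
    rw [h8, Nat.dvd_one, orderOf_eq_one_iff] at h7
    rw [← hc', h7, one_smul]
  · rw [not_nontrivial_iff_subsingleton] at hnt
    have hV : Nontrivial V := by
      apply Module.nontrivial_of_finrank_pos (R := K)
      omega
    obtain ⟨v₀, hv₀⟩ := exists_ne (0 : V)
    refine ⟨v₀, hv₀, fun g => ?_⟩
    rw [Subsingleton.elim g 1, map_one, Module.End.one_apply]

/-- the induced action on the quotient by a fixed line -/
noncomputable def quotRep (v₀ : V) (hfix : ∀ g : P, ρ g v₀ = v₀) :
    P →* Module.End K (V ⧸ (Submodule.span K {v₀})) where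
  toFun g := (Submodule.span K {v₀}).mapQ (Submodule.span K {v₀}) (ρ g) (by
    intro w hw
    obtain ⟨c, rfl⟩ := Submodule.mem_span_singleton.1 hw
    rw [Submodule.mem_comap, map_smul, hfix]
    exact Submodule.smul_mem _ _ (Submodule.mem_span_singleton_self _))
  map_one' := by
    apply Submodule.linearMap_qext
    ext v
    simp
  map_mul' g h := by
    apply Submodule.linearMap_qext
    ext v
    simp

/-- **A `p`-group acting faithfully on a space of dimension `d + 1` over the field of `q` elements,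
where `d ≥ 2` is the order of `q` modulo `p`, is cyclic.** -/
theorem isCyclic_of_rep (hρ : Function.Injective ρ) (hP : IsPGroup p P) (hp2 : p ≠ 2)
    (hpK : (p : K) ≠ 0) (hd : 2 ≤ d) (hfr : Module.finrank K V = d + 1)
    (hord : orderOf ((Fintype.card K : ℕ) : ZMod p) = d) : IsCyclic P := by
  obtain ⟨v₀, hv₀, hfix⟩ := exists_common_fixed ρ hρ hP hd hfr hord
  have hfinV : Finite V := Module.finite_of_finite K
  set L : Submodule K V := Submodule.span K {v₀} with hL
  have hfinE : Finite (V ⧸ L) := Module.finite_of_finite K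
  let ρ' : P →* Module.End K (V ⧸ L) := quotRep ρ v₀ hfix
  let _ : DistribMulAction P (V ⧸ L) := DistribMulAction.compHom _ ρ'
  have hsmul : ∀ (g : P) (v : V),
      g • (Submodule.Quotient.mk v : V ⧸ L) = Submodule.Quotient.mk (ρ g v) := fun g v => rfl
  have hfpf : ∀ g : P, g ≠ 1 → ∀ e : V ⧸ L, g • e = e → e = 0 := by
    intro g hg1 e he
    obtain ⟨v, rfl⟩ := Submodule.Quotient.mk_surjective L e
    obtain ⟨kg, hkg⟩ := (IsPGroup.iff_orderOf.1 hP) g
    have hkg0 : kg ≠ 0 := by
      rintro rfl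
      rw [pow_zero, orderOf_eq_one_iff] at hkg
      exact hg1 hkg
    have hdvd : p ∣ orderOf g := hkg ▸ dvd_pow_self p hkg0
    set x := g ^ (orderOf g / p) with hxdef
    have hxo : orderOf x = p := orderOf_pow_orderOf_div (orderOf_pos g).ne' hdvd
    have hx1 : x ≠ 1 := by
      intro h
      rw [h, orderOf_one] at hxo
      exact (Fact.out : p.Prime).one_lt.ne hxo
    have hxp : x ^ p ^ 1 = 1 := by
      rw [pow_one, ← hxo]
      exact pow_orderOf_eq_one x
    have hxe : x • (Submodule.Quotient.mk v : V ⧸ L) = Submodule.Quotient.mk v := by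
      have : g ∈ MulAction.stabilizer P (Submodule.Quotient.mk v : V ⧸ L) := he
      exact (MulAction.stabilizer P _).pow_mem this _
    have hfx : fixSp ρ x = L := by
      symm
      apply Submodule.eq_of_le_of_finrank_eq
      · rw [hL, Submodule.span_singleton_le_iff_mem, mem_fixSp]
        exact hfix x
      · rw [hL, finrank_span_singleton hv₀, finrank_fixSp_eq_one ρ hρ hd hfr hord x hx1 1 hxp]
    rw [hsmul, Submodule.Quotient.eq] at hxe
    obtain ⟨c, hc⟩ := Submodule.mem_span_singleton.1 hxe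
    have hxv : ρ x v = v + c • v₀ := by rw [hc]; abel
    have hpow : ∀ i : ℕ, ρ (x ^ i) v = v + ((i : K) * c) • v₀ := by
      intro i
      induction i with
      | zero => simp
      | succ i ih =>
        rw [pow_succ', map_mul, Module.End.mul_apply, ih, map_add, map_smul, hfix, hxv]
        push_cast
        rw [add_mul, one_mul, add_smul]
        abel
    have h1 := hpow p
    rw [← hxo, pow_orderOf_eq_one, map_one, Module.End.one_apply, hxo] at h1
    have h2 : ((p : K) * c) • v₀ = 0 := by
      have := h1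
      rwa [left_eq_add] at this
    rcases smul_eq_zero.1 h2 with h3 | h3
    · rcases mul_eq_zero.1 h3 with h4 | h4
      · exact absurd h4 hpK
      · have hv : v ∈ fixSp ρ x := by
          rw [mem_fixSp, hxv, h4, zero_smul, add_zero]
        rw [hfx] at hv
        exact (Submodule.Quotient.mk_eq_zero L).2 hv
    · exact absurd h3 hv₀
  have hnontriv : ∃ e : V ⧸ L, e ≠ 0 := by
    have h1 : Module.finrank K (V ⧸ L) + Module.finrank K L = Module.finrank K V :=
      Submodule.finrank_quotient_add_finrank L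
    rw [hL, finrank_span_singleton hv₀, hfr] at h1
    have : Nontrivial (V ⧸ L) := Module.nontrivial_of_finrank_pos (R := K) (by rw [hL]; omega)
    exact exists_ne 0
  have : FaithfulSMul P (V ⧸ L) := ⟨by
    intro g₁ g₂ h
    obtain ⟨e, he⟩ := hnontriv
    by_contra hne
    have h1 : g₂⁻¹ * g₁ ≠ 1 := by
      intro h'
      apply hne
      rw [inv_mul_eq_one] at h'
      exact h'.symm
    exact he (hfpf _ h1 e (by rw [mul_smul, h e, inv_smul_smul]))⟩
  obtain ⟨ℓ, hℓ⟩ := CharP.exists K
  have hℓp : ℓ.Prime := CharP.char_is_prime K ℓ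
  have hE : ∀ e : V ⧸ L, ℓ • e = 0 := by
    intro e
    rw [← Nat.cast_smul_eq_nsmul K, CharP.cast_eq_zero K ℓ, zero_smul]
  have hst : ∀ a : V ⧸ L, a ≠ 0 → MulAction.stabilizer P a = ⊥ := by
    intro a ha
    rw [eq_bot_iff]
    intro g hg
    rw [Subgroup.mem_bot]
    by_contra hg1
    exact ha (hfpf g hg1 a hg)
  have hconst : ∀ a b : V ⧸ L, a ≠ 0 → b ≠ 0 →
      Nat.card (MulAction.stabilizer P a) = Nat.card (MulAction.stabilizer P b) := by
    intro a b ha hb
    rw [hst a ha, hst b hb]
  exact (Cfsg.Agent.S1160.result hp2 hP hℓp hE hconst).1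

end rep

end Cfsg.Agent.Lib.Helper13.ReeCyc
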