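/-
helper13: `p`-subgroups of `PSL₂(q)` are cyclic for odd `p` not dividing `q (q - 1)`, from Dickson's
theorem (Lib/Helper13/DkWrap).
-/
import Mathlib
import Cfsg.Agent.Lib.Helper13.DkMax

set_option autoImplicit false

namespace Cfsg.Agent.Lib.Helper13.ReeCyc

open Subgroup Matrix

section psl

variable {F : Type*} [Field F] [Fintype F]

theorem card_alt4 : Nat.card (alternatingGroup (Fin 4)) = 12 := by
  have h := two_mul_card_alternatingGroup (α := Fin 4)
  rw [Fintype.card_perm, Fintype.card_fin] at h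
  rw [Nat.card_eq_fintype_card]
  have : Nat.factorial 4 = 24 := by decide
  omega

theorem card_alt5 : Nat.card (alternatingGroup (Fin 5)) = 60 := by
  have h := two_mul_card_alternatingGroup (α := Fin 5)
  rw [Fintype.card_perm, Fintype.card_fin] at h
  rw [Nat.card_eq_fintype_card]
  have : Nat.factorial 5 = 120 := by decide
  omega

theorem card_sym4 : Nat.card (Equiv.Perm (Fin 4)) = 24 := by
  rw [Nat.card_eq_fintype_card, Fintype.card_perm, Fintype.card_fin]
  decide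

/-- the characteristic divides the order of any subfield-type field -/
theorem char_dvd_card_sub (ℓ : ℕ) [Fact ℓ.Prime] [CharP F ℓ] (q' m : ℕ) (h2 : 2 ≤ q')
    (h : q' ^ m = Fintype.card F) : ℓ ∣ q' := by
  obtain ⟨n, -, hn⟩ := FiniteField.card F ℓ
  obtain ⟨r, hr, hrq⟩ := Nat.exists_prime_and_dvd (show q' ≠ 1 by omega)
  have hm : m ≠ 0 := by
    rintro rfl
    rw [pow_zero] at h
    have := Fintype.one_lt_card (α := F)
    omega
  have h1 : r ∣ ℓ ^ (n : ℕ) := by
    rw [← hn, ← h]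
    exact dvd_trans hrq (dvd_pow_self _ hm)
  have h2 := (Nat.prime_dvd_prime_iff_eq hr Fact.out).1 (hr.dvd_of_dvd_pow h1)
  rw [← h2]
  exact hrq

/-- **`p`-subgroups of `PSL₂(q)` are cyclic**, for `p` odd not dividing `q (q - 1)`. -/
theorem isCyclic_of_pgroup_PSL2 (ℓ : ℕ) [Fact ℓ.Prime] [CharP F ℓ] (p : ℕ) [Fact p.Prime]
    (hp2 : p ≠ 2) (hpl : p ≠ ℓ) (hq1 : ¬ p ∣ Fintype.card F - 1)
    (X : Subgroup (Matrix.ProjectiveSpecialLinearGroup (Fin 2) F)) (hX : IsPGroup p X) :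
    IsCyclic X := by
  have hpp : p.Prime := Fact.out
  have hℓp : ℓ.Prime := Fact.out
  obtain ⟨a, ha⟩ := hX.exists_card_eq
  have hodd : ¬ 2 ∣ Nat.card X := by
    rw [ha]
    intro h
    exact hp2 ((Nat.prime_dvd_prime_iff_eq Nat.prime_two hpp).1
      (Nat.prime_two.dvd_of_dvd_pow h)).symm
  have hℓX : ¬ ℓ ∣ Nat.card X := by
    rw [ha]
    intro h
    exact hpl ((Nat.prime_dvd_prime_iff_eq hℓp hpp).1 (hℓp.dvd_of_dvd_pow h)).symm
  have h := Dk.dickson_subgroup' ℓ X
  unfold Dk.Concl' at h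
  rcases h with ⟨k, -, ⟨hc, -⟩ | ⟨e⟩⟩ | ⟨-, hdiv, -⟩ | ⟨e⟩ | ⟨e⟩ | ⟨e⟩ | ⟨K', _, _, m, hm, ⟨e⟩ | ⟨e⟩⟩
  · exact hc
  · exfalso
    obtain ⟨e⟩ := e
    apply hodd
    rw [Nat.card_congr e.toEquiv, DihedralGroup.nat_card]
    exact dvd_mul_right 2 k
  · -- the Borel case
    have h1 : p ^ a ∣ Fintype.card F * (Fintype.card F - 1) := by
      rw [← ha]
      exact dvd_of_mul_right_dvd hdiv
    have ha0 : a = 0 := by
      by_contra ha0
      have h2 : p ∣ Fintype.card F * (Fintype.card F - 1) := dvd_trans (dvd_pow_self p ha0) h1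
      rcases hpp.dvd_mul.1 h2 with h3 | h3
      · obtain ⟨n, -, hn⟩ := FiniteField.card F ℓ
        rw [hn] at h3
        exact hpl ((Nat.prime_dvd_prime_iff_eq hpp hℓp).1 (hpp.dvd_of_dvd_pow h3))
      · exact hq1 h3
    rw [ha0, pow_zero] at ha
    have : Subsingleton X := (Nat.card_eq_one_iff_unique.1 ha).1
    infer_instance
  · exfalso
    obtain ⟨e⟩ := e
    apply hodd
    rw [Nat.card_congr e.toEquiv, card_alt4]
    decide
  · exfalso
    obtain ⟨e⟩ := e
    apply hodd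
    rw [Nat.card_congr e.toEquiv, card_sym4]
    decide
  · exfalso
    obtain ⟨e⟩ := e
    apply hodd
    rw [Nat.card_congr e.toEquiv, card_alt5]
    decide
  · exfalso
    obtain ⟨e⟩ := e
    have hℓq := char_dvd_card_sub (F := F) ℓ (Fintype.card K') m Fintype.one_lt_card hm
    have hcard := Dk.card_PSL2_mul_gcd (K := K')
    rw [← Nat.card_congr e.toEquiv] at hcard
    have h1 : ℓ ∣ Nat.card X * Nat.gcd 2 (Fintype.card K' - 1) := by
      rw [hcard]
      exact dvd_mul_of_dvd_left hℓq _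
    rcases hℓp.dvd_mul.1 h1 with h2 | h2
    · exact hℓX h2
    · have h3 : ℓ ∣ 2 := dvd_trans h2 (Nat.gcd_dvd_left _ _)
      have h4 : ℓ = 2 := (Nat.prime_dvd_prime_iff_eq hℓp Nat.prime_two).1 h3
      rw [h4] at hℓq h2
      have h5 : 1 ≤ Fintype.card K' := Fintype.card_pos
      have h6 : 2 ∣ Fintype.card K' - 1 := dvd_trans h2 (Nat.gcd_dvd_right _ _)
      omega
  · exfalso
    obtain ⟨e⟩ := e
    have hℓq := char_dvd_card_sub (F := F) ℓ (Fintype.card K') m Fintype.one_lt_card hm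
    have hcard := Dk.card_PGL2 (K := K')
    rw [← Nat.card_congr e.toEquiv] at hcard
    apply hℓX
    rw [hcard]
    exact dvd_mul_of_dvd_left hℓq _

end psl

end Cfsg.Agent.Lib.Helper13.ReeCyc
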