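/-
helper13: the Sylow `p`-subgroups of the Ree groups `²G₂(q)` are cyclic for `p > 3` (S1156).
`p ∣ q - 1`: the torus `H¹` (helper7 S1150); `p ∣ q + 1`: the centralizer of an involution
`Z₂ × PSL₂(q)` (helper7 S1152) and Dickson's theorem; `p ∣ q² - q + 1`: the `7`-dimensional module
(helper7 `psiI`) and `ReeCycA.isCyclic_of_rep`.
-/
import Mathlib
import Cfsg.Agent.Lib.Helper13.ReeCycA
import Cfsg.Agent.Lib.Helper13.ReeCycB
import Cfsg.Agent.Lib.Helper7.ChevGraphAutG2
import Cfsg.Agent.Lib.Helper7.ReeSyl3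
import Cfsg.Agent.S1069
import Cfsg.Agent.S1150
import Cfsg.Agent.S1152

set_option autoImplicit false

namespace Cfsg.Agent.Lib.Helper13.ReeCyc

open Subgroup

/-- if a subgroup of index prime to `p` has cyclic `p`-subgroups, the Sylow `p`-subgroups are cyclic -/
theorem sylow_isCyclic_of_subgroup {G : Type*} [Group G] [Finite G] {p : ℕ} [Fact p.Prime]
    (H : Subgroup G) (hH : ¬ p ∣ H.index)
    (hcyc : ∀ Q : Subgroup H, IsPGroup p Q → IsCyclic Q) (P : Sylow p G) :
    IsCyclic (P : Subgroup G) := by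
  let Q : Sylow p H := default
  let Q' : Subgroup G := (Q : Subgroup H).map H.subtype
  have e1 : (Q : Subgroup H) ≃* Q' :=
    (Q : Subgroup H).equivMapOfInjective H.subtype H.subtype_injective
  have hc1 : Nat.card Q' = Nat.card (Q : Subgroup H) := (Nat.card_congr e1.toEquiv).symm
  have hfac : (Nat.card G).factorization p = (Nat.card H).factorization p := by
    rw [← H.card_mul_index, Nat.factorization_mul Nat.card_pos.ne' (Subgroup.index_ne_zero_of_finite),
      Finsupp.add_apply, Nat.factorization_eq_zero_of_not_dvd hH, add_zero]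
  have hc2 : Nat.card Q' = p ^ (Nat.card G).factorization p := by
    rw [hc1, hfac]
    exact Q.card_eq_multiplicity
  let P' : Sylow p G := Sylow.ofCard Q' hc2
  have e2 : (P : Subgroup G) ≃* (P' : Subgroup G) := Sylow.equiv P P'
  have hQ : IsCyclic (Q : Subgroup H) := hcyc _ Q.2
  have e3 : (Q : Subgroup H) ≃* (P : Subgroup G) := e1.trans e2.symm
  exact isCyclic_of_surjective e3 e3.surjective

theorem index_eq_of_card {G : Type*} [Group G] (H : Subgroup G) {a b : ℕ}
    (hH : Nat.card H = a) (hG : Nat.card G = a * b) (ha : 0 < a) : H.index = b := by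
  have h := H.card_mul_index
  rw [hH, hG] at h
  exact Nat.eq_of_mul_eq_mul_left ha h

/-- the order of `q` modulo a prime divisor `p > 3` of `q² - q + 1` is `6` -/
theorem orderOf_six {p : ℕ} [Fact p.Prime] (hp : 3 < p) (q : ℕ) (h : p ∣ q ^ 2 - q + 1) :
    orderOf ((q : ℕ) : ZMod p) = 6 := by
  have h0 : ((q ^ 2 - q + 1 : ℕ) : ZMod p) = 0 := (ZMod.natCast_eq_zero_iff _ _).2 h
  have hle : q ≤ q ^ 2 := by nlinarith
  rw [Nat.cast_add, Nat.cast_sub hle, Nat.cast_pow, Nat.cast_one] at h0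
  set x : ZMod p := (q : ZMod p)
  have h3 : x ^ 3 = -1 := by linear_combination (x + 1) * h0
  have h6 : x ^ 6 = 1 := by
    have : x ^ 6 = (x ^ 3) ^ 2 := by ring
    rw [this, h3]
    ring
  have h2ne : (2 : ZMod p) ≠ 0 := by
    intro h2
    have : ((2 : ℕ) : ZMod p) = 0 := by exact_mod_cast h2
    rw [ZMod.natCast_eq_zero_iff] at this
    have := Nat.le_of_dvd (by norm_num) this
    omega
  have h3ne : (3 : ZMod p) ≠ 0 := by
    intro h2
    have : ((3 : ℕ) : ZMod p) = 0 := by exact_mod_cast h2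
    rw [ZMod.natCast_eq_zero_iff] at this
    have := Nat.le_of_dvd (by norm_num) this
    omega
  apply orderOf_eq_of_pow_and_pow_div_prime (by norm_num) h6
  intro r hr hr6
  have hr' : r = 2 ∨ r = 3 := by
    have h23 : r ∣ 2 * 3 := hr6
    rcases (Nat.Prime.dvd_mul hr).1 h23 with h | h
    · left; exact (Nat.prime_dvd_prime_iff_eq hr Nat.prime_two).1 h
    · right; exact (Nat.prime_dvd_prime_iff_eq hr Nat.prime_three).1 h
  rcases hr' with rfl | rfl
  · have e62 : 6 / 2 = 3 := by norm_num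
    rw [e62, h3]
    intro h
    apply h2ne
    linear_combination -h
  · have e63 : 6 / 3 = 2 := by norm_num
    rw [e63]
    intro h
    apply h3ne
    have hx : x = 2 := by linear_combination h - h0
    rw [hx] at h0
    linear_combination h0

section ree

open Cfsg.Lie Cfsg.Agent.Lib.Helper7

variable {K : Type*} [Field K] [Fintype K] {m : ℕ} (hK : Fintype.card K = 3 ^ (2 * m + 1))
include hK

theorem twistedG2_le_group : twistedG2 K (3 ^ m) ≤ chevG2.group K := by
  obtain ⟨τ, hτ⟩ := exists_tauData hK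
  have hsq := sq_dichotomy_of_card hK
  rw [twistedG2_eq_fixTau hτ hsq]
  intro g hg
  exact ((mem_fixTau K τ g).1 hg).1

theorem natCast_ne_zero_of_gt {p : ℕ} [Fact p.Prime] (hp : 3 < p) : (p : K) ≠ 0 := by
  have : CharP K 3 := charP3_of_card hK
  intro h
  rw [CharP.cast_eq_zero_iff K 3 p] at h
  have := (Nat.prime_dvd_prime_iff_eq Nat.prime_three (Fact.out : p.Prime)).1 h
  omega

/-- `p`-subgroups for `p ∣ q² - q + 1` -/
theorem ree_pgroup_cyclic_a {p : ℕ} [Fact p.Prime] (hp : 3 < p)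
    (ha : p ∣ (3 ^ (2 * m + 1)) ^ 2 - 3 ^ (2 * m + 1) + 1)
    (Q : Subgroup ↥(twistedG2 K (3 ^ m))) (hQ : IsPGroup p Q) : IsCyclic Q := by
  have : CharP K 3 := charP3_of_card hK
  have hle := twistedG2_le_group hK
  let ψ : ↥(chevG2.group K) →* Matrix (Fin 7) (Fin 7) K :=
    psiI chevG2 mem_G2 K iI_G2 iQ_G2 bij_G2 (blkC_x_G2 K)
  let toL : Matrix (Fin 7) (Fin 7) K →* Module.End K (Fin 7 → K) :=
    ((Matrix.toLinAlgEquiv' : Matrix (Fin 7) (Fin 7) K ≃ₐ[K] Module.End K (Fin 7 → K)) :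
      Matrix (Fin 7) (Fin 7) K →* Module.End K (Fin 7 → K))
  let ρ : Q →* Module.End K (Fin 7 → K) :=
    toL.comp (ψ.comp ((Subgroup.inclusion hle).comp Q.subtype))
  have hρ : Function.Injective ρ := by
    intro x y hxy
    have h1 : ψ (Subgroup.inclusion hle (x : ↥(twistedG2 K (3 ^ m)))) =
        ψ (Subgroup.inclusion hle (y : ↥(twistedG2 K (3 ^ m)))) :=
      (Matrix.toLinAlgEquiv' : Matrix (Fin 7) (Fin 7) K ≃ₐ[K] Module.End K (Fin 7 → K)).injective hxy
    have h2 := psiI_G2_injective K h1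
    have h3 := Subgroup.inclusion_injective hle h2
    exact Subtype.ext h3
  have hfin : Finite Q := inferInstance
  refine isCyclic_of_rep (d := 6) ρ hρ hQ (by omega) (natCast_ne_zero_of_gt hK hp) (by norm_num)
    (by rw [Module.finrank_fin_fun]) ?_
  rw [hK]
  exact orderOf_six hp _ ha

/-- `p`-subgroups of the centralizer of an involution, `p ∣ q + 1` -/
theorem ree_pgroup_cyclic_b {p : ℕ} [Fact p.Prime] (hp : 3 < p) (hb : p ∣ 3 ^ (2 * m + 1) + 1)
    (a : ↥(twistedG2 K (3 ^ m)))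
    (e : ↥(Subgroup.centralizer ({a} : Set ↥(twistedG2 K (3 ^ m)))) ≃*
      Multiplicative (ZMod 2) × Matrix.ProjectiveSpecialLinearGroup (Fin 2) K)
    (Q : Subgroup ↥(Subgroup.centralizer ({a} : Set ↥(twistedG2 K (3 ^ m)))))
    (hQ : IsPGroup p Q) : IsCyclic Q := by
  have : CharP K 3 := charP3_of_card hK
  have : Fact (Nat.Prime 3) := ⟨Nat.prime_three⟩
  have hpp : p.Prime := Fact.out
  let f : Q →* Matrix.ProjectiveSpecialLinearGroup (Fin 2) K :=
    (MonoidHom.snd _ _).comp (e.toMonoidHom.comp Q.subtype)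
  have hf : Function.Injective f := by
    rw [injective_iff_map_eq_one]
    intro x hx
    have h1 : (e (x : ↥(Subgroup.centralizer ({a} : Set ↥(twistedG2 K (3 ^ m)))))).2 = 1 := hx
    have h2 : (e (x : ↥(Subgroup.centralizer ({a} : Set ↥(twistedG2 K (3 ^ m)))))) ^ 2 = 1 := by
      apply Prod.ext
      · show (e x.1).1 ^ 2 = 1
        generalize (e x.1).1 = z
        revert z
        decide
      · show (e x.1).2 ^ 2 = 1
        rw [h1, one_pow]
    have h3 : x ^ 2 = 1 := by
      apply Subtype.ext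
      apply e.injective
      rw [Subgroup.coe_pow, map_pow, h2, Subgroup.coe_one, map_one]
    obtain ⟨k, hk⟩ := hQ x
    have h4 : orderOf x ∣ Nat.gcd 2 (p ^ k) :=
      Nat.dvd_gcd (orderOf_dvd_of_pow_eq_one h3) (orderOf_dvd_of_pow_eq_one hk)
    have h5 : Nat.gcd 2 (p ^ k) = 1 := by
      apply Nat.Coprime.pow_right
      rw [Nat.coprime_primes Nat.prime_two hpp]
      omega
    rw [h5, Nat.dvd_one, orderOf_eq_one_iff] at h4
    exact h4
  have hr : IsPGroup p f.range := hQ.of_surjective f.rangeRestrict f.rangeRestrict_surjective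
  have hq1 : ¬ p ∣ Fintype.card K - 1 := by
    rw [hK]
    intro h
    have h1 : 1 ≤ 3 ^ (2 * m + 1) := Nat.one_le_pow _ _ (by norm_num)
    have h2 : p ∣ (3 ^ (2 * m + 1) + 1) - (3 ^ (2 * m + 1) - 1) := Nat.dvd_sub hb h
    have h3 : (3 ^ (2 * m + 1) + 1) - (3 ^ (2 * m + 1) - 1) = 2 := by omega
    rw [h3] at h2
    have := Nat.le_of_dvd (by norm_num) h2
    omega
  have hc : IsCyclic f.range :=
    isCyclic_of_pgroup_PSL2 3 p (by omega) (by omega) hq1 f.range hr
  have e' : Q ≃* f.range := MonoidHom.ofInjective hf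
  exact isCyclic_of_surjective e'.symm e'.symm.surjective

/-- **The Sylow `p`-subgroups of `²G₂(q)` are cyclic for `p > 3`.** -/
theorem ree_sylow_cyclic {p : ℕ} [Fact p.Prime] (hp : 3 < p)
    (P : Sylow p ↥(twistedG2 K (3 ^ m))) :
    IsCyclic (P : Subgroup ↥(twistedG2 K (3 ^ m))) := by
  have : CharP K 3 := charP3_of_card hK
  have hpp : p.Prime := Fact.out
  have hG := Cfsg.Agent.S1069.result hK
  have hq1 : 1 ≤ 3 ^ (2 * m + 1) := Nat.one_le_pow _ _ (by norm_num)
  obtain ⟨s, hs⟩ : ∃ s, 3 ^ (2 * m + 1) = s + 1 := ⟨3 ^ (2 * m + 1) - 1, by omega⟩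
  have e1 : s + 1 - 1 = s := by omega
  have e2 : (s + 1) ^ 2 - 1 = s * (s + 2) := by
    have : (s + 1) ^ 2 = s * (s + 2) + 1 := by ring
    omega
  have e3 : (s + 1) ^ 2 - (s + 1) + 1 = s * s + s + 1 := by
    have : (s + 1) ^ 2 = (s * s + s) + (s + 1) := by ring
    omega
  have hpq : ¬ p ∣ 3 ^ (2 * m + 1) := by
    intro h
    have := (Nat.prime_dvd_prime_iff_eq hpp Nat.prime_three).1 (hpp.dvd_of_dvd_pow h)
    omega
  by_cases ha : p ∣ (3 ^ (2 * m + 1)) ^ 2 - 3 ^ (2 * m + 1) + 1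
  · exact ree_pgroup_cyclic_a hK hp ha _ P.2
  have hcube : ¬ p ∣ (3 ^ (2 * m + 1)) ^ 3 + 1 → ¬ p ∣ 3 ^ (2 * m + 1) + 1 := by
    intro h h'
    apply h
    have : (3 ^ (2 * m + 1)) ^ 3 + 1 =
        (3 ^ (2 * m + 1) + 1) * ((3 ^ (2 * m + 1)) ^ 2 - 3 ^ (2 * m + 1) + 1) := by
      rw [hs, e3]
      ring
    rw [this]
    exact dvd_mul_of_dvd_left h' _
  by_cases hb : p ∣ 3 ^ (2 * m + 1) + 1
  · obtain ⟨a, haH, ha1, ha2⟩ := Cfsg.Agent.Lib.Helper7.ReeSyl.exists_torus_involution hK
    obtain ⟨⟨e⟩, -⟩ := Cfsg.Agent.S1152.result hK a haH ha1 ha2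
    refine sylow_isCyclic_of_subgroup (Subgroup.centralizer {a}) ?_
      (ree_pgroup_cyclic_b hK hp hb a e) P
    have h3 : (3 : K) = 0 := by
      have := CharP.cast_eq_zero K 3
      exact_mod_cast this
    have h2 : (2 : K) ≠ 0 := by
      intro h
      have : (1 : K) = 0 := by linear_combination h3 - h
      exact one_ne_zero this
    have hPSL := Cfsg.Agent.Lib.Helper13.card_PSL2_mul_two (F := K) h2
    have hZ2 : Nat.card (Multiplicative (ZMod 2)) = 2 := by
      rw [Nat.card_eq_fintype_card, Fintype.card_multiplicative, ZMod.card]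
    have hC : Nat.card ↥(Subgroup.centralizer ({a} : Set ↥(twistedG2 K (3 ^ m)))) =
        3 ^ (2 * m + 1) * ((3 ^ (2 * m + 1)) ^ 2 - 1) := by
      rw [Nat.card_congr e.toEquiv, Nat.card_prod, hZ2, ← hK, ← hPSL]
      ring
    have hidx : (Subgroup.centralizer ({a} : Set ↥(twistedG2 K (3 ^ m)))).index =
        (3 ^ (2 * m + 1)) ^ 2 * ((3 ^ (2 * m + 1)) ^ 2 - 3 ^ (2 * m + 1) + 1) := by
      apply index_eq_of_card _ hC
      · rw [hG, hs, e1, e2, e3]
        ring
      · rw [hs, e2]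
        have : 0 < s := by
          rcases Nat.eq_zero_or_pos s with h0 | h0
          · rw [h0] at hs
            have : 3 ^ (2 * m + 1) = 3 * 3 ^ (2 * m) := by ring
            have := Nat.one_le_pow (2 * m) 3 (by norm_num)
            omega
          · exact h0
        positivity
    rw [hidx]
    intro h
    rcases hpp.dvd_mul.1 h with h | h
    · exact hpq (hpp.dvd_of_dvd_pow h)
    · exact ha h
  have hcube' : ¬ p ∣ (3 ^ (2 * m + 1)) ^ 3 + 1 := by
    have : (3 ^ (2 * m + 1)) ^ 3 + 1 =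
        (3 ^ (2 * m + 1) + 1) * ((3 ^ (2 * m + 1)) ^ 2 - 3 ^ (2 * m + 1) + 1) := by
      rw [hs, e3]
      ring
    rw [this]
    intro h
    rcases hpp.dvd_mul.1 h with h | h
    · exact hb h
    · exact ha h
  by_cases hc : p ∣ 3 ^ (2 * m + 1) - 1
  · -- the torus
    obtain ⟨τ, hτ⟩ := exists_tauData hK
    have hsq := sq_dichotomy_of_card hK
    have htw := twistedG2_eq_fixTau hτ hsq
    let T : Subgroup ↥(twistedG2 K (3 ^ m)) :=
      (chevG2.diagonalSubgroup K ⊓ twistedG2 K (3 ^ m)).subgroupOf (twistedG2 K (3 ^ m))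
    have eT : T ≃* ↥(chevG2.diagonalSubgroup K ⊓ twistedG2 K (3 ^ m)) :=
      Subgroup.subgroupOfEquivOfLe inf_le_right
    have hTc : IsCyclic T := by
      have := Cfsg.Agent.S1150.result hK
      exact isCyclic_of_surjective eT.symm eT.symm.surjective
    have hTcard : Nat.card T = 3 ^ (2 * m + 1) - 1 := by
      rw [Nat.card_congr eT.toEquiv]
      have h1 := card_fixH hτ hsq
      rw [← htw] at h1
      rw [h1, Nat.card_eq_fintype_card, hK]
    refine sylow_isCyclic_of_subgroup T ?_ (fun Q _ => inferInstance) P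
    have hidx : T.index = (3 ^ (2 * m + 1)) ^ 3 * ((3 ^ (2 * m + 1)) ^ 3 + 1) := by
      apply index_eq_of_card _ hTcard
      · rw [hG]
        ring
      · rw [hs, e1]
        rcases Nat.eq_zero_or_pos s with h0 | h0
        · rw [h0] at hs
          have : 3 ^ (2 * m + 1) = 3 * 3 ^ (2 * m) := by ring
          have := Nat.one_le_pow (2 * m) 3 (by norm_num)
          omega
        · exact h0
    rw [hidx]
    intro h
    rcases hpp.dvd_mul.1 h with h | h
    · exact hpq (hpp.dvd_of_dvd_pow h)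
    · exact hcube' h
  · -- `p` does not divide the order
    refine sylow_isCyclic_of_subgroup ⊥ ?_ (fun Q _ => inferInstance) P
    rw [Subgroup.index_bot, hG]
    intro h
    rcases hpp.dvd_mul.1 h with h | h
    · rcases hpp.dvd_mul.1 h with h | h
      · exact hpq (hpp.dvd_of_dvd_pow h)
      · exact hc h
    · exact hcube' h

end ree

end Cfsg.Agent.Lib.Helper13.ReeCyc
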