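/-
helper13: a group `Q` acting faithfully and linearly on a space of dimension `d + 1` over `F_q`, where
`d ≥ 2` is the multiplicative order of `q` modulo the prime `p`, and normalizing the subgroup generated
by an element `z` of order `p`: the index of the centralizer of `z` divides `d` (the automorphisms
induced on `⟨z⟩` are powers of the Frobenius map, helper21 `exists_pow_frobenius`).
-/
import Mathlib
import Cfsg.Agent.Lib.Helper13.ReeCycA
import Cfsg.Agent.Lib.Helper21.FrobConjPow

set_option autoImplicit false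

namespace Cfsg.Agent.Lib.Helper13.ReeCyc

open Subgroup

section rep

variable {K V Q : Type*} [Field K] [Fintype K] [AddCommGroup V] [Module K V] [Module.Finite K V]
  [Group Q] (ρ : Q →* Module.End K V)

/-- the induced action on the quotient by an invariant subspace -/
noncomputable def quotRepInv (L : Submodule K V) (hinv : ∀ g : Q, ∀ v ∈ L, ρ g v ∈ L) :
    Q →* Module.End K (V ⧸ L) where
  toFun g := L.mapQ L (ρ g) (fun v hv => hinv g v hv)
  map_one' := by
    apply Submodule.linearMap_qext
    ext v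
    simp
  map_mul' g h := by
    apply Submodule.linearMap_qext
    ext v
    simp

theorem quotRepInv_mk (L : Submodule K V) (hinv : ∀ g : Q, ∀ v ∈ L, ρ g v ∈ L) (g : Q) (v : V) :
    quotRepInv ρ L hinv g (Submodule.Quotient.mk v) = Submodule.Quotient.mk (ρ g v) := rfl

theorem rho_pow_fixed (z : Q) (v : V) (hv : ρ z v = v) (k : ℕ) : ρ (z ^ k) v = v := by
  induction k with
  | zero => simp
  | succ k ih => rw [pow_succ, map_mul, Module.End.mul_apply, hv, ih]

/-- the fixed space of `z` is invariant under the elements normalizing `⟨z⟩` -/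
theorem fixSp_invariant (z : Q) (hnorm : ∀ g : Q, ∃ k : ℕ, g * z * g⁻¹ = z ^ k) :
    ∀ g : Q, ∀ v ∈ fixSp ρ z, ρ g v ∈ fixSp ρ z := by
  intro g v hv
  rw [mem_fixSp] at hv ⊢
  obtain ⟨k, hk⟩ := hnorm g⁻¹
  rw [inv_inv] at hk
  have e : z * g = g * (g⁻¹ * z * g) := by group
  rw [← Module.End.mul_apply, ← map_mul, e, hk, map_mul, Module.End.mul_apply,
    rho_pow_fixed ρ z v hv k]

variable {p : ℕ} [Fact p.Prime] {d : ℕ}

/-- `z` acts nontrivially on the quotient by its fixed space -/
theorem quotRepInv_ne_one (hρ : Function.Injective ρ) (hpK : (p : K) ≠ 0) (z : Q)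
    (hz : orderOf z = p) (hinv : ∀ g : Q, ∀ v ∈ fixSp ρ z, ρ g v ∈ fixSp ρ z) :
    quotRepInv ρ (fixSp ρ z) hinv z ≠ 1 := by
  intro h1
  have hpp : p.Prime := Fact.out
  set T : Module.End K V := ρ z with hT
  have hu : ∀ v : V, T (T v - v) = T v - v := by
    intro v
    have h2 := congrArg (fun f : Module.End K (V ⧸ fixSp ρ z) => f (Submodule.Quotient.mk v)) h1
    simp only [Module.End.one_apply] at h2
    rw [quotRepInv_mk, Submodule.Quotient.eq, mem_fixSp] at h2
    exact h2
  have hpow : ∀ (n : ℕ) (v : V), (T ^ n) v = v + (n : K) • (T v - v) := by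
    intro n
    induction n with
    | zero => intro v; simp
    | succ n ih =>
      intro v
      rw [pow_succ, Module.End.mul_apply, ih (T v)]
      have e : T (T v) - T v = T v - v := by rw [← map_sub]; exact hu v
      rw [e]
      push_cast
      rw [add_smul, one_smul]
      abel
  have hTp : T ^ p = 1 := by
    rw [hT, ← map_pow, ← hz, pow_orderOf_eq_one, map_one]
  have hfix : ∀ v : V, T v = v := by
    intro v
    have h3 := hpow p v
    rw [hTp, Module.End.one_apply, left_eq_add] at h3
    rcases smul_eq_zero.1 h3 with h4 | h4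
    · exact absurd h4 hpK
    · exact sub_eq_zero.1 h4
  have hz1 : z = 1 := by
    apply hρ
    rw [map_one]
    ext v
    exact hfix v
  rw [hz1, orderOf_one] at hz
  exact hpp.one_lt.ne hz

variable [Finite Q]

/-- **the index of the centralizer of `z` divides `d`** -/
theorem index_centralizer_dvd (hρ : Function.Injective ρ) (hpK : (p : K) ≠ 0) (hd : 2 ≤ d)
    (hfr : Module.finrank K V = d + 1)
    (hord : orderOf ((Fintype.card K : ℕ) : ZMod p) = d) (z : Q) (hz : orderOf z = p)
    (hnorm : ∀ g : Q, ∃ k : ℕ, g * z * g⁻¹ = z ^ k) :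
    (centralizer ({z} : Set Q)).index ∣ d := by
  classical
  have hpp : p.Prime := Fact.out
  have hz1 : z ≠ 1 := by
    rintro rfl
    rw [orderOf_one] at hz
    exact hpp.one_lt.ne hz
  have hzp : z ^ p ^ 1 = 1 := by rw [pow_one, ← hz, pow_orderOf_eq_one]
  have hinv := fixSp_invariant ρ z hnorm
  set L : Submodule K V := fixSp ρ z with hL
  have hL1 : Module.finrank K L = 1 := finrank_fixSp_eq_one ρ hρ hd hfr hord z hz1 1 hzp
  have hW : Module.finrank K (V ⧸ L) = d := by
    have h1 : Module.finrank K (V ⧸ L) + Module.finrank K L = Module.finrank K V :=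
      Submodule.finrank_quotient_add_finrank L
    rw [hL1, hfr] at h1
    omega
  let ρ' : Q →* Module.End K (V ⧸ L) := quotRepInv ρ L hinv
  let U : Q →* (Module.End K (V ⧸ L))ˣ := MonoidHom.toHomUnits ρ'
  have hU : ∀ g : Q, ((U g : (Module.End K (V ⧸ L))ˣ) : Module.End K (V ⧸ L)) = ρ' g :=
    fun g => MonoidHom.coe_toHomUnits ρ' g
  have hz'1 : U z ≠ 1 := by
    intro hh
    have := congrArg (fun u : (Module.End K (V ⧸ L))ˣ => (u : Module.End K (V ⧸ L))) hh
    simp only [hU, Units.val_one] at this
    exact quotRepInv_ne_one ρ hρ hpK z hz hinv this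
  have hz'p : U z ^ p = 1 := by
    rw [← map_pow, ← hz, pow_orderOf_eq_one, map_one]
  have hz'o : orderOf (U z) = p := orderOf_eq_prime hz'p hz'1
  -- the exponents
  have hex : ∀ g : Q, ∃ k : ℕ, g * z * g⁻¹ = z ^ k := hnorm
  choose kk hkk using hex
  have hpow_iff : ∀ a b : ℕ, z ^ a = z ^ b ↔ ((a : ℕ) : ZMod p) = ((b : ℕ) : ZMod p) := by
    intro a b
    rw [pow_eq_pow_iff_modEq, hz, ZMod.natCast_eq_natCast_iff]
  let χ : Q →* ZMod p :=
    { toFun := fun g => ((kk g : ℕ) : ZMod p)
      map_one' := by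
        have h1 := hkk 1
        rw [one_mul, inv_one, mul_one] at h1
        have h2 : z ^ kk 1 = z ^ 1 := by rw [← h1, pow_one]
        have := (hpow_iff _ _).1 h2
        rw [this, Nat.cast_one]
      map_mul' := by
        intro g g'
        have h1 : z ^ kk (g * g') = z ^ (kk g * kk g') := by
          calc z ^ kk (g * g') = g * (g' * z * g'⁻¹) * g⁻¹ := by rw [← hkk (g * g')]; group
            _ = g * z ^ kk g' * g⁻¹ := by rw [hkk g']
            _ = (g * z * g⁻¹) ^ kk g' := by rw [conj_pow]
            _ = z ^ (kk g * kk g') := by rw [hkk g, pow_mul]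
        have := (hpow_iff _ _).1 h1
        rw [this]
        push_cast
        ring }
  let χ' : Q →* (ZMod p)ˣ := MonoidHom.toHomUnits χ
  have hχ' : ∀ g : Q, ((χ' g : (ZMod p)ˣ) : ZMod p) = ((kk g : ℕ) : ZMod p) :=
    fun g => MonoidHom.coe_toHomUnits χ g
  -- the kernel
  have hker : χ'.ker = centralizer ({z} : Set Q) := by
    ext g
    rw [MonoidHom.mem_ker, Subgroup.mem_centralizer_singleton_iff]
    constructor
    · intro hg
      have h1 : ((kk g : ℕ) : ZMod p) = ((1 : ℕ) : ZMod p) := by
        rw [← hχ', hg, Units.val_one, Nat.cast_one]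
      have h2 := (hpow_iff _ _).2 h1
      rw [pow_one, ← hkk g] at h2
      have : g * z = g * z * g⁻¹ * g := by group
      rw [this, h2]
    · intro hg
      apply Units.ext
      rw [hχ', Units.val_one]
      have h2 : z ^ kk g = z ^ 1 := by
        rw [← hkk g, pow_one, hg]
        group
      have := (hpow_iff _ _).1 h2
      rw [this, Nat.cast_one]
  -- the range
  have hq0 : ((Fintype.card K : ℕ) : ZMod p) ≠ 0 := card_ne_zero_zmod (K := K) hd hord
  let qu : (ZMod p)ˣ := Units.mk0 _ hq0
  have hrange : χ'.range ≤ zpowers qu := by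
    rintro _ ⟨g, rfl⟩
    have hconj : U g * U z * (U g)⁻¹ = U z ^ kk g := by
      rw [← map_inv, ← map_mul, ← map_mul, hkk g, map_pow]
    obtain ⟨j, hj⟩ := Cfsg.Agent.Lib.Helper21.FrobConjPow.exists_pow_frobenius hW (by omega) hord
      (U z) (U g) hz'o (kk g) hconj
    rw [pow_eq_pow_iff_modEq, hz'o, ← ZMod.natCast_eq_natCast_iff] at hj
    rw [Subgroup.mem_zpowers_iff]
    refine ⟨(j : ℤ), ?_⟩
    apply Units.ext
    rw [zpow_natCast, Units.val_pow_eq_pow_val, hχ', hj]
    push_cast
    rfl
  have hcardz : Nat.card (zpowers qu) = d := by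
    rw [Nat.card_zpowers, ← hord, ← orderOf_units]
    rfl
  rw [← hker, Subgroup.index_ker, ← hcardz]
  exact Subgroup.card_dvd_of_le hrange

end rep

end Cfsg.Agent.Lib.Helper13.ReeCyc
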