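/-
helper13: groups in which, for a Hall number `N`, the elements of order dividing `N` commuting with a
given nonidentity element `x` of order dividing `N` form a cyclic subgroup `cN N x`: these subgroups
are TI, they fall into conjugacy classes indexed by a set of primes, their orders multiply to `N`,
and the elements of order dividing `N` are counted by the classes.  (Abstract part of the
determination of the cyclic Hall subgroups of the Ree groups.)
-/
import Mathlib
import Cfsg.Agent.Lib.Helper13.KleinNormalizer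

set_option autoImplicit false

namespace Cfsg.Agent.Lib.Helper13.ReeTI

open Subgroup

variable {G : Type*} [Group G]

/-- the subgroup generated by the elements of order dividing `N` commuting with `x` -/
def cN (N : ℕ) (x : G) : Subgroup G := closure {y | x * y = y * x ∧ y ^ N = 1}

/-- hypotheses: `N` is a Hall number and the elements of order dividing `N` commuting with a
nonidentity element `x` of order dividing `N` form a cyclic subgroup -/
structure TIHyp (G : Type*) [Group G] (N : ℕ) : Prop where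
  dvd : N ∣ Nat.card G
  cop : Nat.Coprime N (Nat.card G / N)
  cyc : ∀ x : G, x ≠ 1 → x ^ N = 1 → IsCyclic (cN N x)
  pow : ∀ x : G, x ≠ 1 → x ^ N = 1 → ∀ y ∈ cN N x, x * y = y * x ∧ y ^ N = 1

theorem mem_cN_of {N : ℕ} {x y : G} (h1 : x * y = y * x) (h2 : y ^ N = 1) : y ∈ cN N x :=
  subset_closure ⟨h1, h2⟩

theorem self_mem_cN {N : ℕ} {x : G} (hxN : x ^ N = 1) : x ∈ cN N x := mem_cN_of rfl hxN

variable {N : ℕ} (h : TIHyp G N)
include h

theorem mem_cN {x y : G} (hx1 : x ≠ 1) (hxN : x ^ N = 1) :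
    y ∈ cN N x ↔ x * y = y * x ∧ y ^ N = 1 :=
  ⟨h.pow x hx1 hxN y, fun hy => mem_cN_of hy.1 hy.2⟩

theorem cN_le {x y : G} (hx1 : x ≠ 1) (hxN : x ^ N = 1) (hy : y ∈ cN N x) :
    cN N x ≤ cN N y := by
  intro a ha
  have hc := h.cyc x hx1 hxN
  have hcomm := (IsCyclic.commGroup (α := cN N x)).mul_comm ⟨y, hy⟩ ⟨a, ha⟩
  exact mem_cN_of (congrArg Subtype.val hcomm) (h.pow x hx1 hxN a ha).2

/-- the subgroups `cN N x` are TI: any nonidentity element of `cN N x` has the same `cN` -/
theorem cN_eq {x y : G} (hx1 : x ≠ 1) (hxN : x ^ N = 1) (hy : y ∈ cN N x)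
    (hy1 : y ≠ 1) : cN N y = cN N x := by
  apply le_antisymm
  · have hyN := (h.pow x hx1 hxN y hy).2
    have hx : x ∈ cN N y := mem_cN_of (h.pow x hx1 hxN y hy).1.symm hxN
    exact cN_le h hy1 hyN hx
  · exact cN_le h hx1 hxN hy

theorem card_cN_dvd {x : G} (hx1 : x ≠ 1) (hxN : x ^ N = 1) [Finite G] :
    Nat.card (cN N x) ∣ N := by
  have hc := h.cyc x hx1 hxN
  rw [← IsCyclic.exponent_eq_card]
  apply Monoid.exponent_dvd_of_forall_pow_eq_one
  rintro ⟨y, hy⟩
  apply Subtype.ext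
  rw [Subgroup.coe_pow]
  exact (h.pow x hx1 hxN y hy).2

omit h in
theorem one_lt_card_cN {x : G} (hx1 : x ≠ 1) (hxN : x ^ N = 1) [Finite G] :
    1 < Nat.card (cN N x) := by
  rw [Finite.one_lt_card_iff_nontrivial]
  exact ⟨⟨⟨x, self_mem_cN hxN⟩, 1, fun hh => hx1 (congrArg Subtype.val hh)⟩⟩

omit h in
theorem cN_conj (x g : G) : cN N (g * x * g⁻¹) =
    (cN N x).map (MulAut.conj g).toMonoidHom := by
  unfold cN
  rw [MonoidHom.map_closure]
  congr 1
  ext a
  simp only [Set.mem_setOf_eq, Set.mem_image, MulEquiv.coe_toMonoidHom, MulAut.conj_apply]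
  constructor
  · rintro ⟨ha, haN⟩
    refine ⟨g⁻¹ * a * g, ⟨?_, ?_⟩, by group⟩
    · have : x * (g⁻¹ * a * g) = g⁻¹ * (g * x * g⁻¹ * a) * g := by group
      rw [this, ha]
      group
    · have : g⁻¹ * a * g = g⁻¹ * a * g⁻¹⁻¹ := by rw [inv_inv]
      rw [this, conj_pow, haN]
      group
  · rintro ⟨b, ⟨hb, hbN⟩, rfl⟩
    refine ⟨?_, ?_⟩
    · have e1 : g * x * g⁻¹ * (g * b * g⁻¹) = g * (x * b) * g⁻¹ := by group
      rw [e1, hb]
      group
    · rw [conj_pow, hbN]
      group

omit h in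
theorem conj_ne_one {x : G} (g : G) (hx1 : x ≠ 1) : g * x * g⁻¹ ≠ 1 := by
  intro hh
  apply hx1
  have : x = g⁻¹ * (g * x * g⁻¹) * g := by group
  rw [this, hh]
  group

omit h in
theorem conj_pow_eq_one {x : G} (g : G) (hxN : x ^ N = 1) : (g * x * g⁻¹) ^ N = 1 := by
  rw [conj_pow, hxN]
  group

variable [Finite G]

/-- for a prime `p ∣ N`: the `p`-part of `|G|` divides `N` -/
theorem sylow_card_dvd {p : ℕ} [Fact p.Prime] (hp : p ∣ N) (P : Sylow p G) :
    Nat.card P ∣ N := by
  have hpp : p.Prime := Fact.out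
  have hN0 : N ≠ 0 := by
    rintro rfl
    have := h.dvd
    rw [zero_dvd_iff] at this
    exact Nat.card_pos.ne' this
  rw [P.card_eq_multiplicity]
  obtain ⟨c, hc⟩ := h.dvd
  have hc0 : c ≠ 0 := by
    rintro rfl
    rw [mul_zero] at hc
    exact Nat.card_pos.ne' hc
  have hcop := h.cop
  rw [hc, Nat.mul_div_cancel_left c (Nat.pos_of_ne_zero hN0)] at hcop
  have hpc : ¬ p ∣ c := by
    intro hpc
    have := Nat.dvd_gcd hp hpc
    rw [hcop.gcd_eq_one] at this
    exact hpp.one_lt.ne' (Nat.dvd_one.1 this)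
  rw [hc, Nat.factorization_mul hN0 hc0, Finsupp.add_apply,
    Nat.factorization_eq_zero_of_not_dvd hpc, add_zero]
  exact Nat.ordProj_dvd N p

/-- a central element of a Sylow `p`-subgroup, `p ∣ N` -/
theorem exists_rep {p : ℕ} (hp : p ∈ N.primeFactors) :
    ∃ x : G, x ≠ 1 ∧ x ^ N = 1 ∧ ∃ (_ : Fact p.Prime) (P : Sylow p G),
      (P : Subgroup G) ≤ cN N x := by
  have hpp : p.Prime := Nat.prime_of_mem_primeFactors hp
  have : Fact p.Prime := ⟨hpp⟩
  have hpN : p ∣ N := Nat.dvd_of_mem_primeFactors hp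
  let P : Sylow p G := default
  have hnt : Nontrivial (P : Subgroup G) := by
    rw [← Finite.one_lt_card_iff_nontrivial, P.card_eq_multiplicity]
    apply Nat.one_lt_pow _ hpp.one_lt
    have hpG : p ∣ Nat.card G := dvd_trans hpN h.dvd
    exact (hpp.factorization_pos_of_dvd Nat.card_pos.ne' hpG).ne'
  have hc : Nontrivial (center (P : Subgroup G)) := P.2.center_nontrivial
  obtain ⟨⟨⟨z, hzP⟩, hz⟩, hz1⟩ := exists_ne (1 : center (P : Subgroup G))
  have hPN : ∀ y ∈ (P : Subgroup G), y ^ N = 1 := by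
    intro y hy
    have h1 : orderOf y ∣ Nat.card P := by
      have := orderOf_dvd_natCard (⟨y, hy⟩ : (P : Subgroup G))
      rwa [Subgroup.orderOf_mk] at this
    exact orderOf_dvd_iff_pow_eq_one.1 (dvd_trans h1 (sylow_card_dvd h hpN P))
  refine ⟨z, ?_, hPN z hzP, ‹Fact p.Prime›, P, ?_⟩
  · intro hh
    apply hz1
    apply Subtype.ext
    apply Subtype.ext
    exact hh
  · intro y hy
    apply mem_cN_of _ (hPN y hy)
    have := mem_center_iff.1 hz ⟨y, hy⟩
    exact (congrArg Subtype.val this).symm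

/-- if a prime `p` divides the order of `C(x)`, then `C(x)` is conjugate to `C(xp)` for any
nonidentity `xp` of order dividing `N` centralizing a Sylow `p`-subgroup -/
theorem conj_of_prime_dvd {x xp : G} (hx1 : x ≠ 1) (hxN : x ^ N = 1) {p : ℕ} [Fact p.Prime]
    (hp : p ∣ Nat.card (cN N x))
    (hxp1 : xp ≠ 1) (hxpN : xp ^ N = 1) (P : Sylow p G)
    (hP : (P : Subgroup G) ≤ cN N xp) :
    ∃ g : G, cN N x =
      (cN N xp).map (MulAut.conj g).toMonoidHom := by
  have hpp : p.Prime := Fact.out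
  obtain ⟨⟨y, hy⟩, hyo⟩ := exists_prime_orderOf_dvd_card' p hp
  rw [Subgroup.orderOf_mk] at hyo
  have hy1 : y ≠ 1 := by
    rintro rfl
    rw [orderOf_one] at hyo
    exact hpp.one_lt.ne hyo
  have hyN : y ^ N = 1 := (h.pow x hx1 hxN y hy).2
  have hpg : IsPGroup p (zpowers y) := by
    apply IsPGroup.of_card (n := 1)
    rw [Nat.card_zpowers, hyo, pow_one]
  obtain ⟨Q, hQ⟩ := hpg.exists_le_sylow
  obtain ⟨g, hg⟩ := MulAction.exists_smul_eq G P Q
  have hyQ : y ∈ (Q : Subgroup G) := hQ (mem_zpowers y)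
  rw [← hg, Sylow.coe_subgroup_smul, Subgroup.mem_smul_pointwise_iff_exists] at hyQ
  obtain ⟨s, hsP, hsy⟩ := hyQ
  have hsy' : g * s * g⁻¹ = y := hsy
  have hsc : xp * s = s * xp := (h.pow xp hxp1 hxpN s (hP hsP)).1
  have hz1 : g * xp * g⁻¹ ≠ 1 := by
    intro hh
    apply hxp1
    have : xp = g⁻¹ * (g * xp * g⁻¹) * g := by group
    rw [this, hh]
    group
  have hzN : (g * xp * g⁻¹) ^ N = 1 := by
    rw [conj_pow, hxpN]
    group
  have hzy : g * xp * g⁻¹ ∈ cN N y := by
    apply mem_cN_of _ hzN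
    rw [← hsy']
    have e1 : g * s * g⁻¹ * (g * xp * g⁻¹) = g * (s * xp) * g⁻¹ := by group
    have e2 : g * xp * g⁻¹ * (g * s * g⁻¹) = g * (xp * s) * g⁻¹ := by group
    rw [e1, e2, hsc]
  refine ⟨g, ?_⟩
  rw [← cN_conj, cN_eq h hy1 hyN hzy hz1, cN_eq h hx1 hxN hy hy1]

omit h in
theorem card_map_conj (H : Subgroup G) (g : G) :
    Nat.card (H.map (MulAut.conj g).toMonoidHom) = Nat.card H :=
  (Nat.card_congr (H.equivMapOfInjective _ (MulAut.conj g).injective).toEquiv).symm

/-- a choice of central elements of Sylow subgroups for the primes dividing `N` -/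
structure Reps (G : Type*) [Group G] (N : ℕ) where
  f : ℕ → G
  ne_one : ∀ p ∈ N.primeFactors, f p ≠ 1
  pow : ∀ p ∈ N.primeFactors, f p ^ N = 1
  syl : ∀ p ∈ N.primeFactors, ∃ (_ : Fact p.Prime) (P : Sylow p G),
    (P : Subgroup G) ≤ cN N (f p)

theorem nonempty_reps : Nonempty (Reps G N) := by
  classical
  have hex := fun (p : ℕ) (hp : p ∈ N.primeFactors) => exists_rep h hp
  choose f hf using hex
  refine ⟨⟨fun p => if hp : p ∈ N.primeFactors then f p hp else 1, ?_, ?_, ?_⟩⟩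
  · intro p hp
    simp only [hp, dif_pos]
    exact (hf p hp).1
  · intro p hp
    simp only [hp, dif_pos]
    exact (hf p hp).2.1
  · intro p hp
    simp only [hp, dif_pos]
    exact (hf p hp).2.2

omit h in
/-- the class of an element: the smallest prime dividing the order of its centralizer -/
noncomputable def cls (N : ℕ) (x : G) : ℕ := (Nat.card (cN N x)).minFac

namespace Reps

variable (R : Reps G N)

/-- the centralizer attached to the prime `p` -/
def T (p : ℕ) : Subgroup G := cN N (R.f p)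

/-- its order -/
noncomputable def t (p : ℕ) : ℕ := Nat.card (R.T p)

/-- the smallest prime dividing the order -/
noncomputable def mu (p : ℕ) : ℕ := (R.t p).minFac

theorem t_dvd {p : ℕ} (hp : p ∈ N.primeFactors) : R.t p ∣ N :=
  card_cN_dvd h (R.ne_one p hp) (R.pow p hp)

omit h in
theorem one_lt_t {p : ℕ} (hp : p ∈ N.primeFactors) : 1 < R.t p :=
  one_lt_card_cN (R.ne_one p hp) (R.pow p hp)

omit h in
theorem mu_prime {p : ℕ} (hp : p ∈ N.primeFactors) : (R.mu p).Prime :=
  Nat.minFac_prime (R.one_lt_t hp).ne'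

omit h in
theorem mu_dvd (p : ℕ) : R.mu p ∣ R.t p := Nat.minFac_dvd _

theorem N_ne_zero : N ≠ 0 := by
  rintro rfl
  have := h.dvd
  rw [zero_dvd_iff] at this
  exact Nat.card_pos.ne' this

theorem mu_mem {p : ℕ} (hp : p ∈ N.primeFactors) : R.mu p ∈ N.primeFactors :=
  Nat.mem_primeFactors.2 ⟨R.mu_prime hp, dvd_trans (R.mu_dvd p) (R.t_dvd h hp), N_ne_zero h⟩

/-- if a prime `ℓ` divides `|C(x)|` then `C(x)` is conjugate to `T ℓ` -/
theorem conj_T {x : G} (hx1 : x ≠ 1) (hxN : x ^ N = 1) {l : ℕ} (hl : l.Prime)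
    (hdvd : l ∣ Nat.card (cN N x)) :
    l ∈ N.primeFactors ∧
      ∃ g : G, cN N x = (R.T l).map (MulAut.conj g).toMonoidHom := by
  have hlN : l ∈ N.primeFactors :=
    Nat.mem_primeFactors.2 ⟨hl, dvd_trans hdvd (card_cN_dvd h hx1 hxN), N_ne_zero h⟩
  refine ⟨hlN, ?_⟩
  obtain ⟨hf, P, hP⟩ := R.syl l hlN
  exact conj_of_prime_dvd h hx1 hxN hdvd (R.ne_one l hlN) (R.pow l hlN) P hP

theorem t_mu {p : ℕ} (hp : p ∈ N.primeFactors) : R.t (R.mu p) = R.t p := by
  obtain ⟨-, g, hg⟩ := R.conj_T h (R.ne_one p hp) (R.pow p hp) (R.mu_prime hp) (R.mu_dvd p)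
  have := congrArg (fun H : Subgroup G => Nat.card H) hg
  simp only [card_map_conj] at this
  exact this.symm

theorem mu_mu {p : ℕ} (hp : p ∈ N.primeFactors) : R.mu (R.mu p) = R.mu p := by
  unfold mu
  rw [show R.t (R.t p).minFac = R.t p from R.t_mu h hp]

/-- the set of primes indexing the classes -/
noncomputable def S0 : Finset ℕ := N.primeFactors.image R.mu

theorem S0_sub {p : ℕ} (hp : p ∈ R.S0) : p ∈ N.primeFactors := by
  obtain ⟨p', hp', rfl⟩ := Finset.mem_image.1 hp
  exact R.mu_mem h hp'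

theorem mu_of_mem_S0 {p : ℕ} (hp : p ∈ R.S0) : R.mu p = p := by
  obtain ⟨p', hp', rfl⟩ := Finset.mem_image.1 hp
  exact R.mu_mu h hp'

theorem cls_spec {x : G} (hx1 : x ≠ 1) (hxN : x ^ N = 1) :
    cls N x ∈ R.S0 ∧
      ∃ g : G, cN N x = (R.T (cls N x)).map (MulAut.conj g).toMonoidHom := by
  have hpr : (cls N x).Prime := Nat.minFac_prime (one_lt_card_cN hx1 hxN).ne'
  obtain ⟨hmem, g, hg⟩ := R.conj_T h hx1 hxN hpr (Nat.minFac_dvd _)
  refine ⟨?_, g, hg⟩
  have hcard : Nat.card (cN N x) = R.t (cls N x) := by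
    have := congrArg (fun H : Subgroup G => Nat.card H) hg
    simp only [card_map_conj] at this
    exact this
  have hmu : R.mu (cls N x) = cls N x := by
    unfold mu
    rw [← hcard]
    rfl
  rw [← hmu]
  exact Finset.mem_image_of_mem _ hmem

theorem cls_unique {x : G} {p : ℕ} (hp : p ∈ R.S0) (g : G)
    (hg : cN N x = (R.T p).map (MulAut.conj g).toMonoidHom) : cls N x = p := by
  have hcard : Nat.card (cN N x) = R.t p := by
    have := congrArg (fun H : Subgroup G => Nat.card H) hg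
    simp only [card_map_conj] at this
    exact this
  have := R.mu_of_mem_S0 h hp
  unfold mu at this
  unfold cls
  rw [hcard, this]

theorem t_eq_of_dvd {p l : ℕ} (hp : p ∈ N.primeFactors) (hl : l.Prime) (hdvd : l ∣ R.t p) :
    l ∈ N.primeFactors ∧ R.t l = R.t p := by
  obtain ⟨hmem, g, hg⟩ := R.conj_T h (R.ne_one p hp) (R.pow p hp) hl hdvd
  refine ⟨hmem, ?_⟩
  have := congrArg (fun H : Subgroup G => Nat.card H) hg
  simp only [card_map_conj] at this
  exact this.symm

theorem coprime_t {p p' : ℕ} (hp : p ∈ R.S0) (hp' : p' ∈ R.S0) (hne : p ≠ p') :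
    Nat.Coprime (R.t p) (R.t p') := by
  by_contra hnc
  obtain ⟨l, hl, h1, h2⟩ := Nat.Prime.not_coprime_iff_dvd.1 hnc
  have e1 := (R.t_eq_of_dvd h (R.S0_sub h hp) hl h1).2
  have e2 := (R.t_eq_of_dvd h (R.S0_sub h hp') hl h2).2
  apply hne
  rw [← R.mu_of_mem_S0 h hp, ← R.mu_of_mem_S0 h hp']
  unfold mu
  rw [← e1, ← e2]

omit h in
theorem prod_dvd_of_pairwise_coprime (S : Finset ℕ) (t : ℕ → ℕ) (M : ℕ)
    (hcop : ∀ i ∈ S, ∀ j ∈ S, i ≠ j → Nat.Coprime (t i) (t j)) (hd : ∀ i ∈ S, t i ∣ M) :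
    ∏ i ∈ S, t i ∣ M := by
  classical
  induction S using Finset.induction_on with
  | empty => simp
  | insert a S ha ih =>
    rw [Finset.prod_insert ha]
    apply Nat.Coprime.mul_dvd_of_dvd_of_dvd
    · apply Nat.Coprime.prod_right
      intro i hi
      apply hcop a (Finset.mem_insert_self a S) i (Finset.mem_insert_of_mem hi)
      rintro rfl
      exact ha hi
    · exact hd a (Finset.mem_insert_self a S)
    · exact ih (fun i hi j hj => hcop i (Finset.mem_insert_of_mem hi) j (Finset.mem_insert_of_mem hj))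
        (fun i hi => hd i (Finset.mem_insert_of_mem hi))

theorem pow_dvd_t {l : ℕ} (hl : l ∈ N.primeFactors) : l ^ N.factorization l ∣ R.t l := by
  obtain ⟨hf, P, hP⟩ := R.syl l hl
  have h1 : Nat.card P ∣ R.t l := Subgroup.card_dvd_of_le hP
  rw [P.card_eq_multiplicity] at h1
  refine dvd_trans (pow_dvd_pow l ?_) h1
  exact (Nat.factorization_le_iff_dvd (N_ne_zero h) Nat.card_pos.ne').2 h.dvd l

/-- the orders of the class representatives multiply to `N` -/
theorem prod_t : ∏ p ∈ R.S0, R.t p = N := by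
  apply Nat.dvd_antisymm
  · exact prod_dvd_of_pairwise_coprime R.S0 R.t N
      (fun i hi j hj hne => R.coprime_t h hi hj hne) (fun i hi => R.t_dvd h (R.S0_sub h hi))
  · have hprod0 : ∏ p ∈ R.S0, R.t p ≠ 0 := by
      rw [Finset.prod_ne_zero_iff]
      intro p hp
      exact (lt_trans Nat.zero_lt_one (R.one_lt_t (R.S0_sub h hp))).ne'
    rw [← Nat.factorization_le_iff_dvd (N_ne_zero h) hprod0]
    intro l
    by_cases hl : l ∈ N.primeFactors
    · have hlp : l.Prime := Nat.prime_of_mem_primeFactors hl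
      rw [← hlp.pow_dvd_iff_le_factorization hprod0]
      have h1 := R.pow_dvd_t h hl
      rw [← R.t_mu h hl] at h1
      exact dvd_trans h1 (Finset.dvd_prod_of_mem R.t (Finset.mem_image_of_mem _ hl))
    · have : N.factorization l = 0 := by
        rw [← Finsupp.notMem_support_iff, Nat.support_factorization]
        exact hl
      rw [this]
      exact Nat.zero_le _

/-- the number of conjugates of `T p` -/
noncomputable def c (p : ℕ) : ℕ :=
  Nat.card {K : Subgroup G // ∃ g : G, K = (R.T p).map (MulAut.conj g).toMonoidHom}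

omit h in
theorem c_mul (p : ℕ) : R.c p * Nat.card (normalizer (R.T p : Set G)) = Nat.card G :=
  card_conjugates_mul_card_normalizer (R.T p)

omit h in
theorem card_ne_one (K : Subgroup G) : Nat.card {y : K // y ≠ 1} = Nat.card K - 1 := by
  classical
  have : Fintype K := Fintype.ofFinite K
  rw [Nat.card_eq_fintype_card, Nat.card_eq_fintype_card, Fintype.card_subtype_compl,
    Fintype.card_subtype_eq]

/-- the elements of the class `p` -/
theorem card_class {p : ℕ} (hp : p ∈ R.S0) :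
    Nat.card {x : G // x ≠ 1 ∧ x ^ N = 1 ∧ cls N x = p} = (R.t p - 1) * R.c p := by
  classical
  have hpN := R.S0_sub h hp
  let φ : {x : G // x ≠ 1 ∧ x ^ N = 1 ∧ cls N x = p} →
      {K : Subgroup G // ∃ g : G, K = (R.T p).map (MulAut.conj g).toMonoidHom} := fun x =>
    ⟨cN N x.1, by
      obtain ⟨-, g, hg⟩ := cls_spec h R x.2.1 x.2.2.1
      rw [x.2.2.2] at hg
      exact ⟨g, hg⟩⟩
  have hfib : ∀ b, Nat.card {a // φ a = b} = R.t p - 1 := by
    rintro ⟨K, g, rfl⟩
    have hz1 : g * R.f p * g⁻¹ ≠ 1 := by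
      intro hh
      apply R.ne_one p hpN
      have : R.f p = g⁻¹ * (g * R.f p * g⁻¹) * g := by group
      rw [this, hh]
      group
    have hzN : (g * R.f p * g⁻¹) ^ N = 1 := by
      rw [conj_pow, R.pow p hpN]
      group
    have hK : (R.T p).map (MulAut.conj g).toMonoidHom =
        cN N (g * R.f p * g⁻¹) := (cN_conj _ _).symm
    have ht : R.t p = Nat.card ((R.T p).map (MulAut.conj g).toMonoidHom) :=
      (card_map_conj _ _).symm
    rw [ht, ← card_ne_one]
    apply Nat.card_congr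
    have hmem : ∀ y : {y : (R.T p).map (MulAut.conj g).toMonoidHom // y ≠ 1},
        (y.1.1 : G) ∈ cN N (g * R.f p * g⁻¹) := by
      intro y
      rw [← hK]
      exact y.1.2
    have hne : ∀ y : {y : (R.T p).map (MulAut.conj g).toMonoidHom // y ≠ 1}, (y.1.1 : G) ≠ 1 :=
      fun y hh => y.2 (Subtype.ext hh)
    refine ⟨fun a => ⟨⟨a.1.1, ?_⟩, ?_⟩, fun y => ⟨⟨y.1.1, ?_, ?_, ?_⟩, ?_⟩, ?_, ?_⟩
    · have e : cN N a.1.1 = (R.T p).map (MulAut.conj g).toMonoidHom :=
        congrArg Subtype.val a.2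
      exact e.le (self_mem_cN a.1.2.2.1)
    · intro hh
      exact a.1.2.1 (congrArg Subtype.val hh)
    · exact hne y
    · exact (h.pow _ hz1 hzN _ (hmem y)).2
    · apply R.cls_unique h hp g
      exact (cN_eq h hz1 hzN (hmem y) (hne y)).trans hK.symm
    · apply Subtype.ext
      change cN N (y.1.1 : G) = _
      exact (cN_eq h hz1 hzN (hmem y) (hne y)).trans hK.symm
    · intro a
      rfl
    · intro y
      rfl
  rw [card_eq_mul_of_fibers'' φ _ hfib]
  rfl

/-- counting the nonidentity elements of order dividing `N` by classes -/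
theorem card_D :
    Nat.card {x : G // x ≠ 1 ∧ x ^ N = 1} = ∑ p ∈ R.S0, (R.t p - 1) * R.c p := by
  classical
  let f : {x : G // x ≠ 1 ∧ x ^ N = 1} → R.S0 := fun x =>
    ⟨cls N x.1, (cls_spec h R x.2.1 x.2.2).1⟩
  rw [← Nat.card_congr (Equiv.sigmaFiberEquiv f), Nat.card_sigma, ← Finset.sum_coe_sort R.S0]
  apply Finset.sum_congr rfl
  intro p _
  rw [← R.card_class h p.2]
  apply Nat.card_congr
  refine ⟨fun a => ⟨a.1.1, a.1.2.1, a.1.2.2, congrArg Subtype.val a.2⟩,
    fun a => ⟨⟨a.1, a.2.1, a.2.2.1⟩, Subtype.ext a.2.2.2⟩, ?_, ?_⟩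
  · intro a
    rfl
  · intro a
    rfl

end Reps

end Cfsg.Agent.Lib.Helper13.ReeTI
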