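/-
helper13: complements to `ReeTIA`: normalizers of the subgroups of the TI subgroups `cN N x`, and the
count of the elements of order dividing `N` when some `cN N x₀` has order `N`.
-/
import Mathlib
import Cfsg.Agent.Lib.Helper13.ReeTIA

set_option autoImplicit false

namespace Cfsg.Agent.Lib.Helper13.ReeTI

open Subgroup

variable {G : Type*} [Group G]

theorem mem_normalizer_iff_set (H : Subgroup G) (g : G) :
    g ∈ normalizer (H : Set G) ↔ ∀ z, z ∈ H ↔ g * z * g⁻¹ ∈ H := by
  rw [Subgroup.mem_set_normalizer_iff]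
  rfl

/-- a subgroup of a cyclic subgroup `T` is normalized by the normalizer of `T` -/
theorem conj_mem_of_cyclic (T A₀ : Subgroup G) (hT : IsCyclic T) (hle : A₀ ≤ T) (g : G)
    (hg : g ∈ normalizer (T : Set G)) (z : G) (hz : z ∈ A₀) : g * z * g⁻¹ ∈ A₀ := by
  rw [mem_normalizer_iff_set] at hg
  let σ : T →* T :=
    { toFun := fun a => ⟨g * a.1 * g⁻¹, (hg a.1).1 a.2⟩
      map_one' := by
        apply Subtype.ext
        simp
      map_mul' := by
        intro a b
        apply Subtype.ext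
        simp only [Subgroup.coe_mul]
        group }
  obtain ⟨k, hk⟩ := MonoidHom.map_cyclic σ
  have h1 := hk ⟨z, hle hz⟩
  have h2 : g * z * g⁻¹ = z ^ k := by
    have := congrArg Subtype.val h1
    simpa [σ] using this
  rw [h2]
  exact A₀.zpow_mem hz k

theorem normalizer_le_of_cyclic (T A₀ : Subgroup G) (hT : IsCyclic T) (hle : A₀ ≤ T) :
    normalizer (T : Set G) ≤ normalizer (A₀ : Set G) := by
  intro g hg
  rw [mem_normalizer_iff_set]
  intro z
  constructor
  · exact conj_mem_of_cyclic T A₀ hT hle g hg z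
  · intro hz
    have := conj_mem_of_cyclic T A₀ hT hle g⁻¹ (Subgroup.inv_mem _ hg) _ hz
    have e : g⁻¹ * (g * z * g⁻¹) * g⁻¹⁻¹ = z := by group
    rwa [e] at this

variable {N : ℕ} (h : TIHyp G N)
include h

/-- the normalizer of a nontrivial subgroup of `cN N x` is the normalizer of `cN N x` -/
theorem normalizer_eq_of_le {x : G} (hx1 : x ≠ 1) (hxN : x ^ N = 1) (A₀ : Subgroup G)
    (hle : A₀ ≤ cN N x) (hne : A₀ ≠ ⊥) :
    normalizer (A₀ : Set G) = normalizer (cN N x : Set G) := by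
  apply le_antisymm
  · intro g hg
    rw [mem_normalizer_iff_set] at hg
    obtain ⟨⟨a, haA⟩, ha1'⟩ := Subgroup.ne_bot_iff_exists_ne_one.1 hne
    have ha1 : a ≠ 1 := fun hh => ha1' (Subtype.ext hh)
    have haT : a ∈ cN N x := hle haA
    have haN : a ^ N = 1 := (h.pow x hx1 hxN a haT).2
    have hca : cN N a = cN N x := cN_eq h hx1 hxN haT ha1
    have hga : g * a * g⁻¹ ∈ cN N x := hle ((hg a).1 haA)
    have hc2 : cN N (g * a * g⁻¹) = cN N x := cN_eq h hx1 hxN hga (conj_ne_one g ha1)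
    have hmap : (cN N x).map (MulAut.conj g).toMonoidHom = cN N x := by
      rw [← hca, ← cN_conj, hc2, hca]
    rw [mem_normalizer_iff_set]
    intro z
    constructor
    · intro hz
      rw [← hmap]
      exact ⟨z, hz, rfl⟩
    · intro hz
      rw [← hmap] at hz
      obtain ⟨b, hb, hbz⟩ := hz
      have : b = z := by
        have e : g * b * g⁻¹ = g * z * g⁻¹ := hbz
        have := congrArg (fun w => g⁻¹ * w * g) e
        simpa [mul_assoc] using this
      rw [← this]
      exact hb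
  · exact normalizer_le_of_cyclic _ _ (h.cyc x hx1 hxN) hle

variable [Finite G]

/-- the elements of order dividing `N` whose `cN` is conjugate to `cN N x₀` -/
theorem card_conj_class {x₀ : G} (hx1 : x₀ ≠ 1) (hxN : x₀ ^ N = 1) :
    Nat.card {x : G // x ≠ 1 ∧ x ^ N = 1 ∧
        ∃ g : G, cN N x = (cN N x₀).map (MulAut.conj g).toMonoidHom} =
      (Nat.card (cN N x₀) - 1) *
        Nat.card {K : Subgroup G // ∃ g : G, K = (cN N x₀).map (MulAut.conj g).toMonoidHom} := by
  classical
  let φ : {x : G // x ≠ 1 ∧ x ^ N = 1 ∧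
        ∃ g : G, cN N x = (cN N x₀).map (MulAut.conj g).toMonoidHom} →
      {K : Subgroup G // ∃ g : G, K = (cN N x₀).map (MulAut.conj g).toMonoidHom} := fun x =>
    ⟨cN N x.1, x.2.2.2⟩
  have hfib : ∀ b, Nat.card {a // φ a = b} = Nat.card (cN N x₀) - 1 := by
    rintro ⟨K, g, rfl⟩
    have hz1 : g * x₀ * g⁻¹ ≠ 1 := conj_ne_one g hx1
    have hzN : (g * x₀ * g⁻¹) ^ N = 1 := conj_pow_eq_one g hxN
    have hK : (cN N x₀).map (MulAut.conj g).toMonoidHom = cN N (g * x₀ * g⁻¹) := (cN_conj _ _).symm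
    have ht : Nat.card (cN N x₀) = Nat.card ((cN N x₀).map (MulAut.conj g).toMonoidHom) :=
      (card_map_conj _ _).symm
    rw [ht, ← Reps.card_ne_one]
    apply Nat.card_congr
    have hmem : ∀ y : {y : (cN N x₀).map (MulAut.conj g).toMonoidHom // y ≠ 1},
        (y.1.1 : G) ∈ cN N (g * x₀ * g⁻¹) := by
      intro y
      rw [← hK]
      exact y.1.2
    have hne : ∀ y : {y : (cN N x₀).map (MulAut.conj g).toMonoidHom // y ≠ 1}, (y.1.1 : G) ≠ 1 :=
      fun y hh => y.2 (Subtype.ext hh)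
    refine ⟨fun a => ⟨⟨a.1.1, ?_⟩, ?_⟩, fun y => ⟨⟨y.1.1, ?_, ?_, ?_⟩, ?_⟩, ?_, ?_⟩
    · have e : cN N a.1.1 = (cN N x₀).map (MulAut.conj g).toMonoidHom :=
        congrArg Subtype.val a.2
      exact e.le (self_mem_cN a.1.2.2.1)
    · intro hh
      exact a.1.2.1 (congrArg Subtype.val hh)
    · exact hne y
    · exact (h.pow _ hz1 hzN _ (hmem y)).2
    · exact ⟨g, (cN_eq h hz1 hzN (hmem y) (hne y)).trans hK.symm⟩
    · apply Subtype.ext
      change cN N (y.1.1 : G) = _
      exact (cN_eq h hz1 hzN (hmem y) (hne y)).trans hK.symm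
    · intro a
      rfl
    · intro y
      rfl
  rw [card_eq_mul_of_fibers'' φ _ hfib]

/-- a Sylow `l`-subgroup of `G` inside a subgroup of order `N` -/
theorem exists_sylow_le {l : ℕ} [Fact l.Prime] (hl : l ∣ N) (T : Subgroup G)
    (hT : Nat.card T = N) : ∃ P : Sylow l G, (P : Subgroup G) ≤ T := by
  let Q : Sylow l T := default
  let Q' : Subgroup G := (Q : Subgroup T).map T.subtype
  have e1 : (Q : Subgroup T) ≃* Q' :=
    (Q : Subgroup T).equivMapOfInjective T.subtype T.subtype_injective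
  have hc1 : Nat.card Q' = Nat.card (Q : Subgroup T) := (Nat.card_congr e1.toEquiv).symm
  have hN0 : N ≠ 0 := Reps.N_ne_zero h
  have hfac : (Nat.card G).factorization l = N.factorization l := by
    obtain ⟨c, hc⟩ := h.dvd
    have hc0 : c ≠ 0 := by
      rintro rfl
      rw [mul_zero] at hc
      exact Nat.card_pos.ne' hc
    have hcop := h.cop
    rw [hc, Nat.mul_div_cancel_left c (Nat.pos_of_ne_zero hN0)] at hcop
    have hpc : ¬ l ∣ c := by
      intro hpc
      have := Nat.dvd_gcd hl hpc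
      rw [hcop.gcd_eq_one] at this
      exact (Fact.out : l.Prime).one_lt.ne' (Nat.dvd_one.1 this)
    rw [hc, Nat.factorization_mul hN0 hc0, Finsupp.add_apply,
      Nat.factorization_eq_zero_of_not_dvd hpc, add_zero]
  have hc2 : Nat.card Q' = l ^ (Nat.card G).factorization l := by
    rw [hc1, hfac, Q.card_eq_multiplicity, hT]
  refine ⟨Sylow.ofCard Q' hc2, ?_⟩
  rw [Sylow.coe_ofCard]
  exact Subgroup.map_subtype_le _

/-- if some `cN N x₀` has order `N`, all the `cN N x` are conjugate to it -/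
theorem conj_of_full {x₀ : G} (hx1 : x₀ ≠ 1) (hxN : x₀ ^ N = 1) (hfull : Nat.card (cN N x₀) = N)
    {x : G} (hx1' : x ≠ 1) (hxN' : x ^ N = 1) :
    ∃ g : G, cN N x = (cN N x₀).map (MulAut.conj g).toMonoidHom := by
  have hlt := one_lt_card_cN hx1' hxN'
  have hpr : (Nat.card (cN N x)).minFac.Prime := Nat.minFac_prime hlt.ne'
  have : Fact (Nat.card (cN N x)).minFac.Prime := ⟨hpr⟩
  have hd : (Nat.card (cN N x)).minFac ∣ Nat.card (cN N x) := Nat.minFac_dvd _
  obtain ⟨P, hP⟩ := exists_sylow_le h (dvd_trans hd (card_cN_dvd h hx1' hxN')) (cN N x₀) hfull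
  exact conj_of_prime_dvd h hx1' hxN' hd hx1 hxN P hP

/-- the count of the nonidentity elements of order dividing `N` when some `cN N x₀` has order `N` -/
theorem card_D_of_full {x₀ : G} (hx1 : x₀ ≠ 1) (hxN : x₀ ^ N = 1) (hfull : Nat.card (cN N x₀) = N) :
    Nat.card {x : G // x ≠ 1 ∧ x ^ N = 1} * Nat.card (normalizer (cN N x₀ : Set G)) =
      (N - 1) * Nat.card G := by
  have e : Nat.card {x : G // x ≠ 1 ∧ x ^ N = 1} = Nat.card {x : G // x ≠ 1 ∧ x ^ N = 1 ∧
        ∃ g : G, cN N x = (cN N x₀).map (MulAut.conj g).toMonoidHom} := by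
    apply Nat.card_congr
    refine ⟨fun a => ⟨a.1, a.2.1, a.2.2, conj_of_full h hx1 hxN hfull a.2.1 a.2.2⟩,
      fun a => ⟨a.1, a.2.1, a.2.2.1⟩, ?_, ?_⟩
    · intro a
      rfl
    · intro a
      rfl
  rw [e, card_conj_class h hx1 hxN, hfull, mul_assoc, card_conjugates_mul_card_normalizer]

end Cfsg.Agent.Lib.Helper13.ReeTI
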