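/-
helper13: a criterion for the hypotheses `TIHyp G N` of `ReeTIA`: the `s`-subgroups of `G` are cyclic
for the primes `s ∣ N` and the centralizers of the elements of prime order `p ∣ N` are commutative.
-/
import Mathlib
import Cfsg.Agent.Lib.Helper13.ReeTIB
import Cfsg.Agent.Lib.Helper27.ReeCentG

set_option autoImplicit false

namespace Cfsg.Agent.Lib.Helper13.ReeTI

open Subgroup

variable {G : Type*} [Group G]

theorem mem_cent_iff (x a : G) : a ∈ centralizer ({x} : Set G) ↔ x * a = a * x := by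
  rw [mem_centralizer_iff]
  constructor
  · intro h
    exact h x rfl
  · intro h z hz
    rw [Set.mem_singleton_iff] at hz
    rw [hz]
    exact h

theorem cN_le_centralizer (N : ℕ) (x : G) : cN N x ≤ centralizer ({x} : Set G) := by
  unfold cN
  rw [closure_le]
  intro a ha
  exact (mem_cent_iff x a).2 ha.1

/-- if the generators of `cN N x` lie in a commutative subgroup `C`, then `cN N x ≤ C` and its elements
have order dividing `N` -/
theorem cN_pow_of_comm (N : ℕ) (x : G) (C : Subgroup G) (hC : ∀ a ∈ C, ∀ b ∈ C, a * b = b * a)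
    (hgen : ∀ a : G, x * a = a * x → a ^ N = 1 → a ∈ C) :
    ∀ a ∈ cN N x, a ∈ C ∧ a ^ N = 1 := by
  intro a ha
  unfold cN at ha
  induction ha using closure_induction with
  | mem b hb => exact ⟨hgen b hb.1 hb.2, hb.2⟩
  | one => exact ⟨C.one_mem, one_pow N⟩
  | mul b c _ _ hb hc =>
    refine ⟨C.mul_mem hb.1 hc.1, ?_⟩
    have hcomm : Commute b c := hC b hb.1 c hc.1
    rw [hcomm.mul_pow, hb.2, hc.2, one_mul]
  | inv b _ hb => exact ⟨C.inv_mem hb.1, by rw [inv_pow, hb.2, inv_one]⟩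

variable [Finite G]

/-- **criterion for `TIHyp`** -/
theorem tiHyp_of_comm (N : ℕ) (hdvd : N ∣ Nat.card G) (hcop : Nat.Coprime N (Nat.card G / N))
    (hsyl : ∀ s : ℕ, s.Prime → s ∣ N → ∀ Q : Subgroup G, IsPGroup s Q → IsCyclic Q)
    (hcent : ∀ (y : G) (p : ℕ), p.Prime → p ∣ N → orderOf y = p →
      ∀ a ∈ centralizer ({y} : Set G), ∀ b ∈ centralizer ({y} : Set G), a * b = b * a) :
    TIHyp G N := by
  have hN0 : N ≠ 0 := by
    rintro rfl
    rw [zero_dvd_iff] at hdvd
    exact Nat.card_pos.ne' hdvd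
  have key : ∀ x : G, x ≠ 1 → x ^ N = 1 → ∃ C : Subgroup G,
      (∀ a ∈ C, ∀ b ∈ C, a * b = b * a) ∧ ∀ a ∈ cN N x, a ∈ C ∧ a ^ N = 1 := by
    intro x hx1 hxN
    have ho : orderOf x ∣ N := orderOf_dvd_of_pow_eq_one hxN
    have ho1 : orderOf x ≠ 1 := fun hh => hx1 (orderOf_eq_one_iff.1 hh)
    have hpp : (orderOf x).minFac.Prime := Nat.minFac_prime ho1
    have hpd : (orderOf x).minFac ∣ orderOf x := Nat.minFac_dvd _
    set p := (orderOf x).minFac with hp
    set y := x ^ (orderOf x / p) with hy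
    have hyo : orderOf y = p := orderOf_pow_orderOf_div (orderOf_pos x).ne' hpd
    refine ⟨centralizer ({y} : Set G), hcent y p hpp (dvd_trans hpd ho) hyo, ?_⟩
    apply cN_pow_of_comm N x _ (hcent y p hpp (dvd_trans hpd ho) hyo)
    intro a ha _
    rw [mem_cent_iff, hy]
    have hc : Commute x a := ha
    exact (hc.pow_left _).eq
  refine ⟨hdvd, hcop, ?_, ?_⟩
  · intro x hx1 hxN
    obtain ⟨C, hC, hmem⟩ := key x hx1 hxN
    have hcomm : ∀ a ∈ cN N x, ∀ b ∈ cN N x, a * b = b * a :=
      fun a ha b hb => hC a (hmem a ha).1 b (hmem b hb).1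
    have hcard : Nat.card (cN N x) ∣ N :=
      Cfsg.Agent.Lib.Helper27.ReeCent.card_dvd_of_exponent_of_cyclic N hN0 hsyl (cN N x)
        (fun a ha => (hmem a ha).2)
    -- commutative with cyclic Sylow subgroups
    let _inst : CommGroup ↥(cN N x) :=
      { (inferInstance : Group ↥(cN N x)) with
        mul_comm := fun a b => Subtype.ext (hcomm a a.2 b b.2) }
    rw [IsCyclic.iff_exponent_eq_card]
    apply Nat.dvd_antisymm Group.exponent_dvd_nat_card
    have hd : Monoid.exponent ↥(cN N x) ≠ 0 := Monoid.exponent_ne_zero_of_finite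
    apply Cfsg.Agent.Lib.Helper27.ReeCent.card_dvd_of_exponent_of_cyclic _ hd ?_ (cN N x) ?_
    · intro s hs hsd
      exact hsyl s hs (dvd_trans hsd (dvd_trans Group.exponent_dvd_nat_card hcard))
    · intro a ha
      have h1 := Monoid.pow_exponent_eq_one (⟨a, ha⟩ : ↥(cN N x))
      have h2 := congrArg Subtype.val h1
      simpa using h2
  · intro x hx1 hxN a ha
    obtain ⟨C, hC, hmem⟩ := key x hx1 hxN
    exact ⟨(mem_cent_iff x a).1 (cN_le_centralizer N x ha), (hmem a ha).2⟩

end Cfsg.Agent.Lib.Helper13.ReeTI
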