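/-
helper13: the Ree groups `²G₂(q)`, `q = 3^(2m+1)`: the hypotheses `TIHyp` of `ReeTIA` for the three Hall
numbers `(q-1)/2`, `(q+1)/4`, `q² - q + 1`, and the partition of the elements of odd order.
-/
import Mathlib
import Cfsg.Agent.Lib.Helper13.ReeTIC
import Cfsg.Agent.Lib.Helper13.ReeCycC
import Cfsg.Agent.Lib.Helper13.ReeCycD
import Cfsg.Agent.Lib.Helper27.ReeCentJ

set_option autoImplicit false

namespace Cfsg.Agent.Lib.Helper13.ReeTI

open Subgroup Cfsg Cfsg.Lie Matrix Cfsg.Agent.Lib.Helper7 Cfsg.Agent.Lib.Helper27.ReeCent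
  Cfsg.Agent.Lib.Helper13.ReeCyc

section arith

/-- the arithmetic of `q = 8k+3`: `|G| = q³ (q-1) (q³+1)` -/
theorem ree_order_eq (k : ℕ) :
    (8 * k + 3) ^ 3 * (8 * k + 3 - 1) * ((8 * k + 3) ^ 3 + 1) =
      (8 * k + 3) ^ 3 * (2 * (4 * k + 1)) * (4 * (2 * k + 1)) * (64 * k ^ 2 + 40 * k + 7) := by
  have : 8 * k + 3 - 1 = 2 * (4 * k + 1) := by omega
  rw [this]
  ring

theorem ree_N0_eq (k : ℕ) : (8 * k + 3) ^ 2 - (8 * k + 3) + 1 = 64 * k ^ 2 + 40 * k + 7 := by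
  have : (8 * k + 3) ^ 2 = 64 * k ^ 2 + 40 * k + 6 + (8 * k + 3) := by ring
  omega

theorem ree_N1_eq (k : ℕ) : (8 * k + 3 - 1) / 2 = 4 * k + 1 := by omega

theorem ree_N2_eq (k : ℕ) : (8 * k + 3 + 1) / 4 = 2 * k + 1 := by omega

theorem coprime_of_linear {a b : ℕ} (c : ℕ) (h : a = b * c + 1) : Nat.Coprime a b := by
  rw [h]
  simp

theorem ree_cop0 (k : ℕ) (h3 : 3 ∣ 8 * k + 3) :
    Nat.Coprime (64 * k ^ 2 + 40 * k + 7)
      ((8 * k + 3) ^ 3 * (2 * (4 * k + 1)) * (4 * (2 * k + 1))) := by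
  have h1 : Nat.Coprime (64 * k ^ 2 + 40 * k + 7) (8 * k + 3) :=
    coprime_of_linear (8 * k + 2) (by ring)
  have h2 : Nat.Coprime (64 * k ^ 2 + 40 * k + 7) (2 * (4 * k + 1)) :=
    coprime_of_linear (8 * k + 3) (by ring)
  have h3' : Nat.Coprime (64 * k ^ 2 + 40 * k + 7) (4 * (2 * k + 1)) := by
    apply Nat.coprime_of_dvd
    intro s hs h1 h2
    have e : 64 * k ^ 2 + 40 * k + 7 = 4 * (2 * k + 1) * (8 * k + 1) + 3 := by ring
    rw [e] at h1
    have h4 : s ∣ 3 := (Nat.dvd_add_right (dvd_mul_of_dvd_left h2 _)).1 h1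
    have h5 : s = 3 := (Nat.prime_dvd_prime_iff_eq hs Nat.prime_three).1 h4
    subst h5
    omega
  exact Nat.Coprime.mul_right (Nat.Coprime.mul_right (Nat.Coprime.pow_right 3 h1) h2) h3'

theorem ree_cop1 (k : ℕ) :
    Nat.Coprime (4 * k + 1)
      ((8 * k + 3) ^ 3 * 2 * (4 * (2 * k + 1)) * (64 * k ^ 2 + 40 * k + 7)) := by
  have h1 : Nat.Coprime (4 * k + 1) (8 * k + 3) := by
    have : Nat.Coprime (8 * k + 3) (4 * k + 1) := coprime_of_linear 2 (by ring)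
    exact this.symm
  have h2 : Nat.Coprime (4 * k + 1) 2 := by
    have : Nat.Coprime (4 * k + 1) 2 := coprime_of_linear (2 * k) (by ring)
    exact this
  have h3 : Nat.Coprime (4 * k + 1) (4 * (2 * k + 1)) := by
    apply Nat.Coprime.mul_right
    · exact coprime_of_linear k (by ring)
    · apply Nat.coprime_of_dvd
      intro s hs h1 h2
      have e : 2 * (2 * k + 1) = 4 * k + 1 + 1 := by ring
      have h4 : s ∣ 2 * (2 * k + 1) := dvd_mul_of_dvd_right h2 _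
      rw [e] at h4
      have h5 : s ∣ 1 := (Nat.dvd_add_right h1).1 h4
      exact hs.one_lt.ne' (Nat.dvd_one.1 h5)
  have h4 : Nat.Coprime (4 * k + 1) (64 * k ^ 2 + 40 * k + 7) := by
    have : Nat.Coprime (64 * k ^ 2 + 40 * k + 7) (4 * k + 1) :=
      coprime_of_linear (16 * k + 6) (by ring)
    exact this.symm
  exact Nat.Coprime.mul_right (Nat.Coprime.mul_right
    (Nat.Coprime.mul_right (Nat.Coprime.pow_right 3 h1) h2) h3) h4

theorem ree_cop2 (k : ℕ) (h3 : 3 ∣ 8 * k + 3) :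
    Nat.Coprime (2 * k + 1)
      ((8 * k + 3) ^ 3 * (2 * (4 * k + 1)) * 4 * (64 * k ^ 2 + 40 * k + 7)) := by
  have h1 : Nat.Coprime (2 * k + 1) (8 * k + 3) := by
    apply Nat.coprime_of_dvd
    intro s hs h1 h2
    have e : 8 * k + 3 + 1 = 4 * (2 * k + 1) := by ring
    have h4 : s ∣ 8 * k + 3 + 1 := by rw [e]; exact dvd_mul_of_dvd_right h1 _
    have h5 : s ∣ 1 := (Nat.dvd_add_right h2).1 h4
    exact hs.one_lt.ne' (Nat.dvd_one.1 h5)
  have h2 : Nat.Coprime (2 * k + 1) 2 := coprime_of_linear k (by ring)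
  have h2' : Nat.Coprime (2 * k + 1) (2 * (4 * k + 1)) := by
    apply Nat.Coprime.mul_right h2
    apply Nat.coprime_of_dvd
    intro s hs h1 h2
    have e : 2 * (2 * k + 1) = 4 * k + 1 + 1 := by ring
    have h4 : s ∣ 2 * (2 * k + 1) := dvd_mul_of_dvd_right h1 _
    rw [e] at h4
    have h5 : s ∣ 1 := (Nat.dvd_add_right h2).1 h4
    exact hs.one_lt.ne' (Nat.dvd_one.1 h5)
  have h4 : Nat.Coprime (2 * k + 1) 4 := by
    have : (4 : ℕ) = 2 * 2 := rfl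
    rw [this]
    exact Nat.Coprime.mul_right h2 h2
  have h5 : Nat.Coprime (2 * k + 1) (64 * k ^ 2 + 40 * k + 7) := by
    apply Nat.coprime_of_dvd
    intro s hs h1 h2
    have e : 64 * k ^ 2 + 40 * k + 7 = (2 * k + 1) * (32 * k + 4) + 3 := by ring
    rw [e] at h2
    have h6 : s ∣ 3 := (Nat.dvd_add_right (dvd_mul_of_dvd_left h1 _)).1 h2
    have h7 : s = 3 := (Nat.prime_dvd_prime_iff_eq hs Nat.prime_three).1 h6
    subst h7
    omega
  exact Nat.Coprime.mul_right (Nat.Coprime.mul_right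
    (Nat.Coprime.mul_right (Nat.Coprime.pow_right 3 h1) h2') h4) h5

end arith

section ree

variable {K : Type*} [Field K] [Fintype K] {m : ℕ} (hK : Fintype.card K = 3 ^ (2 * m + 1))
include hK

theorem ree_hsyl (s : ℕ) (hs : s.Prime) (h3 : 3 < s) (Q : Subgroup ↥(twistedG2 K (3 ^ m)))
    (hQ : IsPGroup s Q) : IsCyclic Q := by
  haveI : Fact s.Prime := ⟨hs⟩
  exact isCyclic_of_isPGroup_of_sylow (fun S => ree_sylow_cyclic hK h3 S) Q hQ

omit [Fintype K] hK in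
theorem comm_of_isCyclic {G : Type*} [Group G] (C : Subgroup G) (hC : IsCyclic C) :
    ∀ a ∈ C, ∀ b ∈ C, a * b = b * a := by
  intro a ha b hb
  exact congrArg Subtype.val ((IsCyclic.commGroup (α := C)).mul_comm ⟨a, ha⟩ ⟨b, hb⟩)

omit [Fintype K] hK in
theorem prime_gt_three_of_dvd_pi (s : ℕ) (hs : s.Prime)
    (hsd : s ∣ (3 ^ (2 * m + 1)) ^ 2 - 3 ^ (2 * m + 1) + 1) : 3 < s := by
  rw [← ree_pi_factor m] at hsd
  rcases (Nat.Prime.dvd_mul hs).mp hsd with h | h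
  · exact ree_prime_gt_three m s s hs dvd_rfl (Or.inr (Or.inr (Or.inl h)))
  · exact ree_prime_gt_three m s s hs dvd_rfl (Or.inr (Or.inr (Or.inr h)))

/-- the hypotheses `TIHyp` for `N = (q-1)/2` -/
theorem ree_tiHyp_one : TIHyp ↥(twistedG2 K (3 ^ m)) ((3 ^ (2 * m + 1) - 1) / 2) := by
  obtain ⟨k, hk⟩ := three_pow_mod_eight m
  have hG := Cfsg.Agent.S1069.result hK
  apply tiHyp_of_comm
  · rw [hG, hk, ree_order_eq, ree_N1_eq]
    exact ⟨(8 * k + 3) ^ 3 * 2 * (4 * (2 * k + 1)) * (64 * k ^ 2 + 40 * k + 7), by ring⟩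
  · rw [hG, hk, ree_order_eq, ree_N1_eq]
    have e : (8 * k + 3) ^ 3 * (2 * (4 * k + 1)) * (4 * (2 * k + 1)) * (64 * k ^ 2 + 40 * k + 7) =
        (4 * k + 1) * ((8 * k + 3) ^ 3 * 2 * (4 * (2 * k + 1)) * (64 * k ^ 2 + 40 * k + 7)) := by
      ring
    rw [e, Nat.mul_div_cancel_left _ (by omega)]
    exact ree_cop1 k
  · intro s hs hsd Q hQ
    exact ree_hsyl hK s hs (ree_prime_gt_three m _ s hs hsd (Or.inl dvd_rfl)) Q hQ
  · intro y p hp hpd hy
    exact comm_of_isCyclic _ (ree_cent_prime_torus hK y p hp hy hpd).1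

/-- the hypotheses `TIHyp` for `N = (q+1)/4` -/
theorem ree_tiHyp_two (hm : 1 ≤ m) :
    TIHyp ↥(twistedG2 K (3 ^ m)) ((3 ^ (2 * m + 1) + 1) / 4) := by
  obtain ⟨k, hk⟩ := three_pow_mod_eight m
  have h3 : 3 ∣ 8 * k + 3 := by
    rw [← hk, pow_succ]
    exact dvd_mul_left 3 _
  have hG := Cfsg.Agent.S1069.result hK
  apply tiHyp_of_comm
  · rw [hG, hk, ree_order_eq, ree_N2_eq]
    exact ⟨(8 * k + 3) ^ 3 * (2 * (4 * k + 1)) * 4 * (64 * k ^ 2 + 40 * k + 7), by ring⟩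
  · rw [hG, hk, ree_order_eq, ree_N2_eq]
    have e : (8 * k + 3) ^ 3 * (2 * (4 * k + 1)) * (4 * (2 * k + 1)) * (64 * k ^ 2 + 40 * k + 7) =
        (2 * k + 1) * ((8 * k + 3) ^ 3 * (2 * (4 * k + 1)) * 4 * (64 * k ^ 2 + 40 * k + 7)) := by
      ring
    rw [e, Nat.mul_div_cancel_left _ (by omega)]
    exact ree_cop2 k h3
  · intro s hs hsd Q hQ
    exact ree_hsyl hK s hs (ree_prime_gt_three m _ s hs hsd (Or.inr (Or.inl dvd_rfl))) Q hQ
  · intro y p hp hpd hy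
    exact (ree_cent_prime_plus hK hm y p hp hy hpd).1

/-- the hypotheses `TIHyp` for `N = q² - q + 1` -/
theorem ree_tiHyp_pi (hm : 1 ≤ m) :
    TIHyp ↥(twistedG2 K (3 ^ m)) ((3 ^ (2 * m + 1)) ^ 2 - 3 ^ (2 * m + 1) + 1) := by
  obtain ⟨k, hk⟩ := three_pow_mod_eight m
  have h3 : 3 ∣ 8 * k + 3 := by
    rw [← hk, pow_succ]
    exact dvd_mul_left 3 _
  have hG := Cfsg.Agent.S1069.result hK
  apply tiHyp_of_comm
  · rw [hG, hk, ree_order_eq, ree_N0_eq]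
    exact ⟨(8 * k + 3) ^ 3 * (2 * (4 * k + 1)) * (4 * (2 * k + 1)), by ring⟩
  · rw [hG, hk, ree_order_eq, ree_N0_eq]
    have e : (8 * k + 3) ^ 3 * (2 * (4 * k + 1)) * (4 * (2 * k + 1)) * (64 * k ^ 2 + 40 * k + 7) =
        (64 * k ^ 2 + 40 * k + 7) * ((8 * k + 3) ^ 3 * (2 * (4 * k + 1)) * (4 * (2 * k + 1))) := by
      ring
    rw [e, Nat.mul_div_cancel_left _ (by positivity)]
    exact ree_cop0 k h3
  · intro s hs hsd Q hQ
    exact ree_hsyl hK s hs (prime_gt_three_of_dvd_pi s hs hsd) Q hQ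
  · intro y p hp hpd hy
    exact comm_of_isCyclic _ (ree_cent_prime_pi hK hm y p hp hy hpd).1

end ree

end Cfsg.Agent.Lib.Helper13.ReeTI
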