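/-
helper13: the Ree groups `²G₂(q)`, `q = 3^(2m+1)`: an element of odd order is a `3`-element or has order
dividing `(q-1)/2`, `(q+1)/4` or `q² - q + 1`.
-/
import Mathlib
import Cfsg.Agent.Lib.Helper13.ReeTID

set_option autoImplicit false

namespace Cfsg.Agent.Lib.Helper13.ReeTI

open Subgroup Cfsg Cfsg.Lie Matrix Cfsg.Agent.Lib.Helper7 Cfsg.Agent.Lib.Helper27.ReeCent
  Cfsg.Agent.Lib.Helper13.ReeCyc

section ree

variable {K : Type*} [Field K] [Fintype K] {m : ℕ} (hK : Fintype.card K = 3 ^ (2 * m + 1))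
include hK

theorem ree_odd_cases (hm : 1 ≤ m) (g : ↥(twistedG2 K (3 ^ m))) (hodd : Odd (orderOf g)) :
    g ^ ((3 ^ (2 * m + 1)) ^ 3) = 1 ∨ g ^ ((3 ^ (2 * m + 1) - 1) / 2) = 1 ∨
      g ^ ((3 ^ (2 * m + 1) + 1) / 4) = 1 ∨
      g ^ ((3 ^ (2 * m + 1)) ^ 2 - 3 ^ (2 * m + 1) + 1) = 1 := by
  obtain ⟨k, hk⟩ := three_pow_mod_eight m
  have hG := Cfsg.Agent.S1069.result hK
  have hoG : orderOf g ∣ Nat.card ↥(twistedG2 K (3 ^ m)) := orderOf_dvd_natCard g
  rw [hG, hk, ree_order_eq] at hoG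
  have h3k : 3 ∣ 8 * k + 3 := by
    rw [← hk, pow_succ]
    exact dvd_mul_left 3 _
  by_cases hex : ∃ p : ℕ, p.Prime ∧ p ≠ 3 ∧ p ∣ orderOf g
  · obtain ⟨p, hp, hp3, hpd⟩ := hex
    have hp2 : p ≠ 2 := by
      rintro rfl
      exact (Nat.not_even_iff_odd.2 hodd) (even_iff_two_dvd.2 hpd)
    have hcop2 : Nat.Coprime (orderOf g) 2 := (Nat.coprime_two_right).2 hodd
    set y := g ^ (orderOf g / p) with hy
    have hyo : orderOf y = p := orderOf_pow_orderOf_div (orderOf_pos g).ne' hpd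
    have hgy : g ∈ centralizer ({y} : Set ↥(twistedG2 K (3 ^ m))) := by
      rw [mem_cent_iff, hy, ← pow_succ, ← pow_succ']
    have hoC : orderOf g ∣ Nat.card (centralizer ({y} : Set ↥(twistedG2 K (3 ^ m)))) := by
      have := orderOf_dvd_natCard (⟨g, hgy⟩ : centralizer ({y} : Set ↥(twistedG2 K (3 ^ m))))
      rwa [Subgroup.orderOf_mk] at this
    have hpG : p ∣ (8 * k + 3) ^ 3 * (2 * (4 * k + 1)) * (4 * (2 * k + 1)) *
        (64 * k ^ 2 + 40 * k + 7) := dvd_trans hpd hoG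
    have hp2' : ¬ p ∣ 2 := fun h => hp2 ((Nat.prime_dvd_prime_iff_eq hp Nat.prime_two).1 h)
    rcases (Nat.Prime.dvd_mul hp).1 hpG with h | h
    · rcases (Nat.Prime.dvd_mul hp).1 h with h | h
      · rcases (Nat.Prime.dvd_mul hp).1 h with h | h
        · exfalso
          have h1 : p ∣ 8 * k + 3 := hp.dvd_of_dvd_pow h
          rw [← hk] at h1
          exact hp3 ((Nat.prime_dvd_prime_iff_eq hp Nat.prime_three).1 (hp.dvd_of_dvd_pow h1))
        · -- `p ∣ (q-1)/2`
          right; left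
          rcases (Nat.Prime.dvd_mul hp).1 h with h | h
          · exact absurd h hp2'
          · have hpd' : p ∣ (3 ^ (2 * m + 1) - 1) / 2 := by rw [hk, ree_N1_eq]; exact h
            have hc := (ree_cent_prime_torus hK y p hp hyo hpd').2
            rw [hc, hk] at hoC
            have e : 8 * k + 3 - 1 = 2 * (4 * k + 1) := by omega
            rw [e] at hoC
            have h2 : orderOf g ∣ 4 * k + 1 := hcop2.dvd_of_dvd_mul_left hoC
            rw [hk, ree_N1_eq]
            exact orderOf_dvd_iff_pow_eq_one.1 h2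
      · -- `p ∣ (q+1)/4`
        right; right; left
        rcases (Nat.Prime.dvd_mul hp).1 h with h | h
        · exfalso
          have : (4 : ℕ) = 2 ^ 2 := rfl
          rw [this] at h
          exact hp2' (hp.dvd_of_dvd_pow h)
        · have hpd' : p ∣ (3 ^ (2 * m + 1) + 1) / 4 := by rw [hk, ree_N2_eq]; exact h
          have hc := (ree_cent_prime_plus hK hm y p hp hyo hpd').2
          rw [hc, hk] at hoC
          have e : 8 * k + 3 + 1 = 2 * (2 * (2 * k + 1)) := by ring
          rw [e] at hoC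
          have h2 : orderOf g ∣ 2 * k + 1 :=
            hcop2.dvd_of_dvd_mul_left (hcop2.dvd_of_dvd_mul_left hoC)
          rw [hk, ree_N2_eq]
          exact orderOf_dvd_iff_pow_eq_one.1 h2
    · -- `p ∣ q² - q + 1`
      right; right; right
      have hpd' : p ∣ (3 ^ (2 * m + 1)) ^ 2 - 3 ^ (2 * m + 1) + 1 := by
        rw [hk, ree_N0_eq]; exact h
      have hc := (ree_cent_prime_pi hK hm y p hp hyo hpd').2
      exact orderOf_dvd_iff_pow_eq_one.1 (dvd_trans hoC hc)
  · -- a `3`-element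
    left
    push Not at hex
    have hcop : Nat.Coprime (orderOf g)
        ((2 * (4 * k + 1)) * (4 * (2 * k + 1)) * (64 * k ^ 2 + 40 * k + 7)) := by
      apply Nat.coprime_of_dvd
      intro s hs h1 h2
      have hs3 : s = 3 := by
        by_contra hne
        exact hex s hs hne h1
      subst hs3
      obtain ⟨j, hj⟩ : ∃ j, k = 3 * j := by
        obtain ⟨c, hc⟩ := h3k
        exact ⟨k / 3, by omega⟩
      subst hj
      rcases (Nat.Prime.dvd_mul Nat.prime_three).1 h2 with h | h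
      · rcases (Nat.Prime.dvd_mul Nat.prime_three).1 h with h | h
        · omega
        · omega
      · have e : 64 * (3 * j) ^ 2 + 40 * (3 * j) + 7 = 3 * (192 * j ^ 2 + 40 * j + 2) + 1 := by ring
        rw [e] at h
        omega
    have e : (8 * k + 3) ^ 3 * (2 * (4 * k + 1)) * (4 * (2 * k + 1)) * (64 * k ^ 2 + 40 * k + 7) =
        (8 * k + 3) ^ 3 * ((2 * (4 * k + 1)) * (4 * (2 * k + 1)) * (64 * k ^ 2 + 40 * k + 7)) := by
      ring
    rw [e] at hoG
    have h2 : orderOf g ∣ (8 * k + 3) ^ 3 := hcop.dvd_of_dvd_mul_right hoG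
    rw [hk]
    exact orderOf_dvd_iff_pow_eq_one.1 h2

end ree

end Cfsg.Agent.Lib.Helper13.ReeTI
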