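/-
helper13: the Ree groups `²G₂(q)`, `q = 3^(2m+1)`: for a nonidentity element `x` of order dividing
`q² - q + 1`, the index of `C(x)` in its normalizer divides `6`.
-/
import Mathlib
import Cfsg.Agent.Lib.Helper13.ReeTIE

set_option autoImplicit false

namespace Cfsg.Agent.Lib.Helper13.ReeTI

open Subgroup Cfsg Cfsg.Lie Matrix Cfsg.Agent.Lib.Helper7 Cfsg.Agent.Lib.Helper27.ReeCent
  Cfsg.Agent.Lib.Helper13.ReeCyc

section ree

variable {K : Type*} [Field K] [Fintype K] {m : ℕ} (hK : Fintype.card K = 3 ^ (2 * m + 1))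
include hK

/-- for an element `z` of prime order `p ∣ q² - q + 1`, `cN N z` is the full centralizer -/
theorem ree_cN_eq_centralizer (hm : 1 ≤ m) (z : ↥(twistedG2 K (3 ^ m))) (p : ℕ) (hp : p.Prime)
    (hzo : orderOf z = p) (hpd : p ∣ (3 ^ (2 * m + 1)) ^ 2 - 3 ^ (2 * m + 1) + 1) :
    cN ((3 ^ (2 * m + 1)) ^ 2 - 3 ^ (2 * m + 1) + 1) z =
      centralizer ({z} : Set ↥(twistedG2 K (3 ^ m))) := by
  apply le_antisymm (cN_le_centralizer _ _)
  intro a ha
  have hc := (ree_cent_prime_pi hK hm z p hp hzo hpd).2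
  have hoa : orderOf a ∣ Nat.card (centralizer ({z} : Set ↥(twistedG2 K (3 ^ m)))) := by
    have := orderOf_dvd_natCard (⟨a, ha⟩ : centralizer ({z} : Set ↥(twistedG2 K (3 ^ m))))
    rwa [Subgroup.orderOf_mk] at this
  exact mem_cN_of ((mem_cent_iff z a).1 ha) (orderOf_dvd_iff_pow_eq_one.1 (dvd_trans hoa hc))

/-- **the index of `cN N x` in its normalizer divides `6`** -/
theorem ree_normalizer_pi (hm : 1 ≤ m) (x : ↥(twistedG2 K (3 ^ m))) (hx1 : x ≠ 1)
    (hxN : x ^ ((3 ^ (2 * m + 1)) ^ 2 - 3 ^ (2 * m + 1) + 1) = 1) :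
    ∃ n : ℕ, n ∣ 6 ∧
      Nat.card (normalizer (cN ((3 ^ (2 * m + 1)) ^ 2 - 3 ^ (2 * m + 1) + 1) x :
        Set ↥(twistedG2 K (3 ^ m)))) =
      n * Nat.card (cN ((3 ^ (2 * m + 1)) ^ 2 - 3 ^ (2 * m + 1) + 1) x) := by
  have h := ree_tiHyp_pi hK hm
  set N := (3 ^ (2 * m + 1)) ^ 2 - 3 ^ (2 * m + 1) + 1 with hN
  set T := cN N x with hT
  have hTcyc : IsCyclic T := h.cyc x hx1 hxN
  have hTdvd : Nat.card T ∣ N := card_cN_dvd h hx1 hxN
  have hlt : 1 < Nat.card T := one_lt_card_cN hx1 hxN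
  have hpp : (Nat.card T).minFac.Prime := Nat.minFac_prime hlt.ne'
  set p := (Nat.card T).minFac with hp
  haveI : Fact p.Prime := ⟨hpp⟩
  have hpT : p ∣ Nat.card T := Nat.minFac_dvd _
  have hpN : p ∣ N := dvd_trans hpT hTdvd
  have hp3 : 3 < p := prime_gt_three_of_dvd_pi p hpp hpN
  obtain ⟨⟨z, hzT⟩, hzo⟩ := exists_prime_orderOf_dvd_card' p hpT
  rw [Subgroup.orderOf_mk] at hzo
  have hz1 : z ≠ 1 := by
    rintro rfl
    rw [orderOf_one] at hzo
    exact hpp.one_lt.ne hzo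
  have hcz : cN N z = T := cN_eq h hx1 hxN hzT hz1
  have hCz : centralizer ({z} : Set ↥(twistedG2 K (3 ^ m))) = T := by
    rw [← hcz]
    exact (ree_cN_eq_centralizer hK hm z p hpp hzo hpN).symm
  -- the representation
  have : CharP K 3 := charP3_of_card hK
  have hle := twistedG2_le_group hK
  let ψ : ↥(chevG2.group K) →* Matrix (Fin 7) (Fin 7) K :=
    psiI chevG2 mem_G2 K iI_G2 iQ_G2 bij_G2 (blkC_x_G2 K)
  let toL : Matrix (Fin 7) (Fin 7) K →* Module.End K (Fin 7 → K) :=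
    ((Matrix.toLinAlgEquiv' : Matrix (Fin 7) (Fin 7) K ≃ₐ[K] Module.End K (Fin 7 → K)) :
      Matrix (Fin 7) (Fin 7) K →* Module.End K (Fin 7 → K))
  set Q := normalizer (T : Set ↥(twistedG2 K (3 ^ m))) with hQ
  have hTQ : T ≤ Q := le_normalizer
  let ρ : Q →* Module.End K (Fin 7 → K) :=
    toL.comp (ψ.comp ((Subgroup.inclusion hle).comp Q.subtype))
  have hρ : Function.Injective ρ := by
    intro a b hab
    have h1 : ψ (Subgroup.inclusion hle (a : ↥(twistedG2 K (3 ^ m)))) =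
        ψ (Subgroup.inclusion hle (b : ↥(twistedG2 K (3 ^ m)))) :=
      (Matrix.toLinAlgEquiv' : Matrix (Fin 7) (Fin 7) K ≃ₐ[K] Module.End K (Fin 7 → K)).injective hab
    have h2 := psiI_G2_injective K h1
    have h3 := Subgroup.inclusion_injective hle h2
    exact Subtype.ext h3
  let zQ : Q := ⟨z, hTQ hzT⟩
  have hzQo : orderOf zQ = p := by rw [Subgroup.orderOf_mk]; exact hzo
  have hnorm : ∀ g : Q, ∃ k : ℕ, g * zQ * g⁻¹ = zQ ^ k := by
    intro g
    have h1 : g.1 * z * g.1⁻¹ ∈ zpowers z :=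
      conj_mem_of_cyclic T (zpowers z) hTcyc ((zpowers_le).2 hzT) g.1 g.2 z (mem_zpowers z)
    rw [← mem_powers_iff_mem_zpowers, Submonoid.mem_powers_iff] at h1
    obtain ⟨k, hk⟩ := h1
    refine ⟨k, ?_⟩
    apply Subtype.ext
    simp only [Subgroup.coe_mul, Subgroup.coe_inv, Subgroup.coe_pow]
    exact hk.symm
  have hord : orderOf ((Fintype.card K : ℕ) : ZMod p) = 6 := by
    rw [hK]
    exact orderOf_six hp3 _ hpN
  have hidx := index_centralizer_dvd (d := 6) ρ hρ (natCast_ne_zero_of_gt hK hp3) (by norm_num)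
    (by rw [Module.finrank_fin_fun]) hord zQ hzQo hnorm
  have hcent : centralizer ({zQ} : Set Q) = T.subgroupOf Q := by
    ext a
    rw [mem_cent_iff, Subgroup.mem_subgroupOf, ← hCz, mem_cent_iff]
    constructor
    · intro hh
      exact congrArg Subtype.val hh
    · intro hh
      exact Subtype.ext hh
  rw [hcent] at hidx
  refine ⟨(T.subgroupOf Q).index, hidx, ?_⟩
  have h1 := (T.subgroupOf Q).card_mul_index
  have h2 : Nat.card (T.subgroupOf Q) = Nat.card T :=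
    Nat.card_congr (Subgroup.subgroupOfEquivOfLe hTQ).toEquiv
  rw [h2] at h1
  rw [← h1, mul_comm]

end ree

end Cfsg.Agent.Lib.Helper13.ReeTI
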