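/-
helper13: the Ree groups `²G₂(q)`, `q = 3^(2m+1)`: the cyclic subgroups of order `(q-1)/2` and `(q+1)/4`
as subgroups `cN N x₀` of the TI framework, and the count of the elements of order dividing
`(q-1)/2`, `(q+1)/4`.
-/
import Mathlib
import Cfsg.Agent.Lib.Helper13.ReeTIF

set_option autoImplicit false

namespace Cfsg.Agent.Lib.Helper13.ReeTI

open Subgroup Cfsg Cfsg.Lie Matrix Cfsg.Agent.Lib.Helper7 Cfsg.Agent.Lib.Helper27.ReeCent
  Cfsg.Agent.Lib.Helper13.ReeCyc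

section general

variable {G : Type*} [Group G] [Finite G] {N : ℕ} (h : TIHyp G N)
include h

/-- a cyclic subgroup of order `N` is some `cN N x₀` -/
theorem exists_cN_eq (A : Subgroup G) (hA : IsCyclic A) (hcard : Nat.card A = N) (hN1 : N ≠ 1) :
    ∃ x₀ : G, x₀ ≠ 1 ∧ x₀ ^ N = 1 ∧ cN N x₀ = A := by
  obtain ⟨a, ha⟩ := hA.exists_generator
  have hao : orderOf a = N := by rw [orderOf_eq_card_of_forall_mem_zpowers ha, hcard]
  have hao' : orderOf (a : G) = N := by rw [Subgroup.orderOf_coe]; exact hao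
  have hx1 : (a : G) ≠ 1 := by
    intro hh
    rw [hh, orderOf_one] at hao'
    exact hN1 hao'.symm
  have hxN : (a : G) ^ N = 1 := by rw [← hao', pow_orderOf_eq_one]
  refine ⟨a, hx1, hxN, ?_⟩
  have hle : A ≤ cN N (a : G) := by
    intro b hb
    apply mem_cN_of
    · exact congrArg Subtype.val ((IsCyclic.commGroup (α := A)).mul_comm a ⟨b, hb⟩)
    · have h1 : orderOf b ∣ N := by
        have := orderOf_dvd_natCard (⟨b, hb⟩ : A)
        rwa [Subgroup.orderOf_mk, hcard] at this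
      exact orderOf_dvd_iff_pow_eq_one.1 h1
  symm
  apply Subgroup.eq_of_le_of_card_ge hle
  rw [hcard]
  exact Nat.le_of_dvd (Nat.pos_of_ne_zero (Reps.N_ne_zero h)) (card_cN_dvd h hx1 hxN)

omit h [Finite G] in
theorem mem_normalizer_of_map_eq (H : Subgroup G) (g : G)
    (hmap : H.map (MulAut.conj g).toMonoidHom = H) : g ∈ normalizer (H : Set G) := by
  rw [mem_normalizer_iff_set]
  intro z
  constructor
  · intro hz
    rw [← hmap]
    exact ⟨z, hz, rfl⟩
  · intro hz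
    rw [← hmap] at hz
    obtain ⟨b, hb, hbz⟩ := hz
    have : b = z := by
      have e : g * b * g⁻¹ = g * z * g⁻¹ := hbz
      have := congrArg (fun w => g⁻¹ * w * g) e
      simpa [mul_assoc] using this
    rw [← this]
    exact hb

end general

section ree

variable {K : Type*} [Field K] [Fintype K] {m : ℕ} (hK : Fintype.card K = 3 ^ (2 * m + 1))
include hK

/-- the subgroup of order `(q-1)/2` of the torus -/
theorem ree_torus_half (hm : 1 ≤ m) :
    ∃ x₀ : ↥(twistedG2 K (3 ^ m)), x₀ ≠ 1 ∧ x₀ ^ ((3 ^ (2 * m + 1) - 1) / 2) = 1 ∧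
      Nat.card (cN ((3 ^ (2 * m + 1) - 1) / 2) x₀) = (3 ^ (2 * m + 1) - 1) / 2 ∧
      normalizer (cN ((3 ^ (2 * m + 1) - 1) / 2) x₀ : Set ↥(twistedG2 K (3 ^ m))) =
        normalizer (reeTorus K m : Set ↥(twistedG2 K (3 ^ m))) := by
  have h := ree_tiHyp_one hK
  obtain ⟨k, hk⟩ := three_pow_mod_eight m
  have hk3 : 3 ≤ k := by
    have : 3 ^ (2 * 1 + 1) ≤ 3 ^ (2 * m + 1) := Nat.pow_le_pow_right (by norm_num) (by omega)
    norm_num at this
    omega
  have hN1 : (3 ^ (2 * m + 1) - 1) / 2 = 4 * k + 1 := by rw [hk, ree_N1_eq]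
  set N := (3 ^ (2 * m + 1) - 1) / 2 with hN
  have hHcyc : IsCyclic (reeTorus K m) := isCyclic_reeTorus hK
  have hHcard : Nat.card (reeTorus K m) = 2 * N := by
    rw [card_reeTorus hK, hN1, hk]
    omega
  have hHcomm : ∀ a ∈ reeTorus K m, ∀ b ∈ reeTorus K m, a * b = b * a :=
    comm_of_isCyclic _ hHcyc
  obtain ⟨g₀, hg₀⟩ := hHcyc.exists_generator
  have hg₀o : orderOf (g₀ : ↥(twistedG2 K (3 ^ m))) = 2 * N := by
    rw [Subgroup.orderOf_coe, orderOf_eq_card_of_forall_mem_zpowers hg₀, hHcard]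
  set A : Subgroup ↥(twistedG2 K (3 ^ m)) := zpowers ((g₀ : ↥(twistedG2 K (3 ^ m))) ^ 2) with hA
  have hAcard : Nat.card A = N := by
    rw [hA, Nat.card_zpowers, orderOf_pow_of_dvd (by norm_num) (by rw [hg₀o]; exact dvd_mul_right 2 N),
      hg₀o, Nat.mul_div_cancel_left _ (by norm_num)]
  have hAH : A ≤ reeTorus K m := by
    rw [hA, zpowers_le]
    exact Subgroup.pow_mem _ g₀.2 2
  have hAcyc : IsCyclic A := by rw [hA]; infer_instance
  obtain ⟨x₀, hx1, hxN, hcN⟩ := exists_cN_eq h A hAcyc hAcard (by omega)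
  refine ⟨x₀, hx1, hxN, by rw [hcN, hAcard], ?_⟩
  rw [hcN]
  -- elements of prime order of `A` have centralizer `H`
  have hcent : ∀ (y : ↥(twistedG2 K (3 ^ m))) (p : ℕ), p.Prime → orderOf y = p → p ∣ N → y ∈ A →
      centralizer ({y} : Set ↥(twistedG2 K (3 ^ m))) = reeTorus K m := by
    intro y p hp hyo hpN hyA
    symm
    apply Subgroup.eq_of_le_of_card_ge
    · intro a ha
      rw [mem_cent_iff]
      exact hHcomm y (hAH hyA) a ha
    · rw [(ree_cent_prime_torus hK y p hp hyo hpN).2, hHcard, hN1, hk]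
      omega
  apply le_antisymm
  · intro g hg
    have hlt : 1 < Nat.card A := by rw [hAcard]; omega
    have hpp : (Nat.card A).minFac.Prime := Nat.minFac_prime hlt.ne'
    set p := (Nat.card A).minFac with hp
    haveI : Fact p.Prime := ⟨hpp⟩
    have hpA : p ∣ Nat.card A := Nat.minFac_dvd _
    obtain ⟨⟨y, hyA⟩, hyo⟩ := exists_prime_orderOf_dvd_card' p hpA
    rw [Subgroup.orderOf_mk] at hyo
    have hpN : p ∣ N := by rw [← hAcard]; exact hpA
    have h1 := hcent y p hpp hyo hpN hyA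
    have hgy : g * y * g⁻¹ ∈ A := ((mem_normalizer_iff_set A g).1 hg y).1 hyA
    have h2 := hcent (g * y * g⁻¹) p hpp (by rw [orderOf_conj', hyo]) hpN hgy
    rw [centralizer_conj, h1] at h2
    exact mem_normalizer_of_map_eq _ g h2
  · exact normalizer_le_of_cyclic _ _ hHcyc hAH

/-- the count of the nonidentity elements of order dividing `(q-1)/2` -/
theorem ree_card_D_one (hm : 1 ≤ m)
    (hH : Nat.card (normalizer (reeTorus K m : Set ↥(twistedG2 K (3 ^ m)))) =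
      2 * (3 ^ (2 * m + 1) - 1)) :
    Nat.card {x : ↥(twistedG2 K (3 ^ m)) // x ≠ 1 ∧ x ^ ((3 ^ (2 * m + 1) - 1) / 2) = 1} *
        (2 * (3 ^ (2 * m + 1) - 1)) =
      ((3 ^ (2 * m + 1) - 1) / 2 - 1) * Nat.card ↥(twistedG2 K (3 ^ m)) := by
  obtain ⟨x₀, hx1, hxN, hfull, hnorm⟩ := ree_torus_half hK hm
  have := card_D_of_full (ree_tiHyp_one hK) hx1 hxN hfull
  rw [hnorm, hH] at this
  exact this

/-- the count of the nonidentity elements of order dividing `(q+1)/4` -/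
theorem ree_card_D_two (hm : 1 ≤ m)
    (hA : ∃ A : Subgroup ↥(twistedG2 K (3 ^ m)), IsCyclic A ∧
      Nat.card A = (3 ^ (2 * m + 1) + 1) / 4 ∧
      Nat.card (normalizer (A : Set ↥(twistedG2 K (3 ^ m)))) = 6 * (3 ^ (2 * m + 1) + 1)) :
    Nat.card {x : ↥(twistedG2 K (3 ^ m)) // x ≠ 1 ∧ x ^ ((3 ^ (2 * m + 1) + 1) / 4) = 1} *
        (6 * (3 ^ (2 * m + 1) + 1)) =
      ((3 ^ (2 * m + 1) + 1) / 4 - 1) * Nat.card ↥(twistedG2 K (3 ^ m)) := by
  obtain ⟨A, hAcyc, hAcard, hAnorm⟩ := hA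
  obtain ⟨k, hk⟩ := three_pow_mod_eight m
  have hk3 : 3 ≤ k := by
    have : 3 ^ (2 * 1 + 1) ≤ 3 ^ (2 * m + 1) := Nat.pow_le_pow_right (by norm_num) (by omega)
    norm_num at this
    omega
  have hN2 : (3 ^ (2 * m + 1) + 1) / 4 = 2 * k + 1 := by rw [hk, ree_N2_eq]
  have h := ree_tiHyp_two hK hm
  obtain ⟨x₀, hx1, hxN, hcN⟩ := exists_cN_eq h A hAcyc hAcard (by omega)
  have := card_D_of_full h hx1 hxN (by rw [hcN, hAcard])
  rw [hcN, hAnorm] at this
  exact this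

end ree

end Cfsg.Agent.Lib.Helper13.ReeTI
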