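/-
helper13: the Ree groups `²G₂(q)`, `q = 3^(2m+1)`: the partition of the group by element type and the
resulting count of the nonidentity elements of order dividing `q² - q + 1`.
-/
import Mathlib
import Cfsg.Agent.Lib.Helper13.ReeTIG

set_option autoImplicit false

namespace Cfsg.Agent.Lib.Helper13.ReeTI

open Subgroup Cfsg Cfsg.Lie Matrix Cfsg.Agent.Lib.Helper7 Cfsg.Agent.Lib.Helper27.ReeCent
  Cfsg.Agent.Lib.Helper13.ReeCyc

section general

variable {G : Type*} [Group G]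

theorem eq_one_of_pow_coprime {a b : ℕ} (hab : Nat.Coprime a b) (g : G) (ha : g ^ a = 1)
    (hb : g ^ b = 1) : g = 1 := by
  have h1 : orderOf g ∣ Nat.gcd a b :=
    Nat.dvd_gcd (orderOf_dvd_of_pow_eq_one ha) (orderOf_dvd_of_pow_eq_one hb)
  rw [hab.gcd_eq_one, Nat.dvd_one, orderOf_eq_one_iff] at h1
  exact h1

theorem not_even_of_pow_odd {a : ℕ} (ha : Odd a) (g : G) (hg : g ^ a = 1) :
    ¬ Even (orderOf g) := by
  intro he
  have h1 : orderOf g ∣ a := orderOf_dvd_of_pow_eq_one hg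
  have h2 : 2 ∣ a := dvd_trans (even_iff_two_dvd.1 he) h1
  exact (Nat.not_even_iff_odd.2 ha) (even_iff_two_dvd.2 h2)

/-- a partition into five classes by a cascade of predicates -/
theorem card_five [Finite G] (P0 P1 P2 P3 P4 : G → Prop)
    (hcov : ∀ g, P0 g ∨ P1 g ∨ P2 g ∨ P3 g ∨ P4 g)
    (h01 : ∀ g, P0 g → ¬ P1 g) (h02 : ∀ g, P0 g → ¬ P2 g) (h03 : ∀ g, P0 g → ¬ P3 g)
    (h04 : ∀ g, P0 g → ¬ P4 g) (h12 : ∀ g, P1 g → ¬ P2 g) (h13 : ∀ g, P1 g → ¬ P3 g)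
    (h14 : ∀ g, P1 g → ¬ P4 g) (h23 : ∀ g, P2 g → ¬ P3 g) (h24 : ∀ g, P2 g → ¬ P4 g)
    (h34 : ∀ g, P3 g → ¬ P4 g) :
    Nat.card G = Nat.card {g // P0 g} + Nat.card {g // P1 g} + Nat.card {g // P2 g} +
      Nat.card {g // P3 g} + Nat.card {g // P4 g} := by
  classical
  let ty : G → Fin 5 := fun g =>
    if P0 g then 0 else if P1 g then 1 else if P2 g then 2 else if P3 g then 3 else 4
  have e0 : ∀ g, ty g = 0 ↔ P0 g := by
    intro g
    simp only [ty]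
    split_ifs <;> simp_all
  have e1 : ∀ g, ty g = 1 ↔ P1 g := by
    intro g
    simp only [ty]
    split_ifs with a b c d
    · simp only [Fin.isValue, Fin.reduceEq, false_iff]; exact h01 g a
    · simp_all
    · simp_all
    · simp_all
    · simp_all
  have e2 : ∀ g, ty g = 2 ↔ P2 g := by
    intro g
    simp only [ty]
    split_ifs with a b c d
    · simp only [Fin.isValue, Fin.reduceEq, false_iff]; exact h02 g a
    · simp only [Fin.isValue, Fin.reduceEq, false_iff]; exact h12 g b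
    · simp_all
    · simp_all
    · simp_all
  have e3 : ∀ g, ty g = 3 ↔ P3 g := by
    intro g
    simp only [ty]
    split_ifs with a b c d
    · simp only [Fin.isValue, Fin.reduceEq, false_iff]; exact h03 g a
    · simp only [Fin.isValue, Fin.reduceEq, false_iff]; exact h13 g b
    · simp only [Fin.isValue, Fin.reduceEq, false_iff]; exact h23 g c
    · simp_all
    · simp_all
  have e4 : ∀ g, ty g = 4 ↔ P4 g := by
    intro g
    simp only [ty]
    split_ifs with a b c d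
    · simp only [Fin.isValue, Fin.reduceEq, false_iff]; exact h04 g a
    · simp only [Fin.isValue, Fin.reduceEq, false_iff]; exact h14 g b
    · simp only [Fin.isValue, Fin.reduceEq, false_iff]; exact h24 g c
    · simp only [Fin.isValue, Fin.reduceEq, false_iff]; exact h34 g d
    · simp only [Fin.isValue, true_iff]
      rcases hcov g with h | h | h | h | h
      · exact absurd h a
      · exact absurd h b
      · exact absurd h c
      · exact absurd h d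
      · exact h
  rw [← Nat.card_congr (Equiv.sigmaFiberEquiv ty), Nat.card_sigma, Fin.sum_univ_five,
    Nat.card_congr (Equiv.subtypeEquivRight e0), Nat.card_congr (Equiv.subtypeEquivRight e1),
    Nat.card_congr (Equiv.subtypeEquivRight e2), Nat.card_congr (Equiv.subtypeEquivRight e3),
    Nat.card_congr (Equiv.subtypeEquivRight e4)]

end general

section arith

theorem ree_final_arith (k E F D1 D2 D0 : ℕ)
    (hE : 8 * E = (8 * k + 3) ^ 2 * (64 * k ^ 2 + 40 * k + 7) *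
      (3 * (8 * k + 3) * (8 * ((4 * k + 1) * (2 * k + 1)))))
    (hF : F = (8 * k + 3) ^ 6)
    (hD1 : D1 * (2 * (2 * (4 * k + 1))) = (4 * k) * ((8 * k + 3) ^ 3 * (2 * (4 * k + 1)) *
      (4 * (2 * k + 1)) * (64 * k ^ 2 + 40 * k + 7)))
    (hD2 : D2 * (6 * (4 * (2 * k + 1))) = (2 * k) * ((8 * k + 3) ^ 3 * (2 * (4 * k + 1)) *
      (4 * (2 * k + 1)) * (64 * k ^ 2 + 40 * k + 7)))
    (hsum : (8 * k + 3) ^ 3 * (2 * (4 * k + 1)) * (4 * (2 * k + 1)) * (64 * k ^ 2 + 40 * k + 7) =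
      E + F + D1 + D2 + D0) :
    3 * D0 = (8 * k + 3) ^ 3 * (8 * ((4 * k + 1) * (2 * k + 1))) * ((8 * k + 3) * (8 * k + 1)) := by
  have hE' : E = 3 * (8 * k + 3) ^ 3 * (64 * k ^ 2 + 40 * k + 7) * ((4 * k + 1) * (2 * k + 1)) := by
    have : 8 * E = 8 * (3 * (8 * k + 3) ^ 3 * (64 * k ^ 2 + 40 * k + 7) *
        ((4 * k + 1) * (2 * k + 1))) := by rw [hE]; ring
    exact Nat.eq_of_mul_eq_mul_left (by norm_num) this
  have hD1' : D1 = 8 * k * (8 * k + 3) ^ 3 * (2 * k + 1) * (64 * k ^ 2 + 40 * k + 7) := by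
    have : D1 * (2 * (2 * (4 * k + 1))) = (8 * k * (8 * k + 3) ^ 3 * (2 * k + 1) *
        (64 * k ^ 2 + 40 * k + 7)) * (2 * (2 * (4 * k + 1))) := by rw [hD1]; ring
    exact Nat.eq_of_mul_eq_mul_right (by omega) this
  have hD2' : 3 * D2 = 2 * k * (8 * k + 3) ^ 3 * (4 * k + 1) * (64 * k ^ 2 + 40 * k + 7) := by
    have : (3 * D2) * (8 * (2 * k + 1)) = (2 * k * (8 * k + 3) ^ 3 * (4 * k + 1) *
        (64 * k ^ 2 + 40 * k + 7)) * (8 * (2 * k + 1)) := by
      have e : (3 * D2) * (8 * (2 * k + 1)) = D2 * (6 * (4 * (2 * k + 1))) := by ring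
      rw [e, hD2]
      ring
    exact Nat.eq_of_mul_eq_mul_right (by omega) this
  zify at *
  linear_combination (-3 : ℤ) * hsum - 3 * hE' - 3 * hF - 3 * hD1' - hD2'

end arith

section ree

variable {K : Type*} [Field K] [Fintype K] {m : ℕ} (hK : Fintype.card K = 3 ^ (2 * m + 1))
include hK

/-- the partition of the Ree group by element type -/
theorem ree_partition (hm : 1 ≤ m) :
    Nat.card ↥(twistedG2 K (3 ^ m)) =
      Nat.card {g : ↥(twistedG2 K (3 ^ m)) // Even (orderOf g)} +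
      Nat.card {g : ↥(twistedG2 K (3 ^ m)) // g ^ ((3 ^ (2 * m + 1)) ^ 3) = 1} +
      Nat.card {g : ↥(twistedG2 K (3 ^ m)) // g ≠ 1 ∧ g ^ ((3 ^ (2 * m + 1) - 1) / 2) = 1} +
      Nat.card {g : ↥(twistedG2 K (3 ^ m)) // g ≠ 1 ∧ g ^ ((3 ^ (2 * m + 1) + 1) / 4) = 1} +
      Nat.card {g : ↥(twistedG2 K (3 ^ m)) //
        g ≠ 1 ∧ g ^ ((3 ^ (2 * m + 1)) ^ 2 - 3 ^ (2 * m + 1) + 1) = 1} := by
  obtain ⟨k, hk⟩ := three_pow_mod_eight m
  have h3 : 3 ∣ 8 * k + 3 := by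
    rw [← hk, pow_succ]
    exact dvd_mul_left 3 _
  have hodd := fun g : ↥(twistedG2 K (3 ^ m)) => ree_odd_cases hK hm g
  rw [hk, ree_N0_eq, ree_N1_eq, ree_N2_eq] at hodd ⊢
  -- parities and coprimalities
  have o0 : Odd ((8 * k + 3) ^ 3) := Odd.pow ⟨4 * k + 1, by ring⟩
  have o1 : Odd (4 * k + 1) := ⟨2 * k, by ring⟩
  have o2 : Odd (2 * k + 1) := ⟨k, by ring⟩
  have o3 : Odd (64 * k ^ 2 + 40 * k + 7) := ⟨32 * k ^ 2 + 20 * k + 3, by ring⟩
  have c1 := ree_cop1 k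
  have c2 := ree_cop2 k h3
  have c0 := ree_cop0 k h3
  have c10 : Nat.Coprime ((8 * k + 3) ^ 3) (4 * k + 1) :=
    (Nat.Coprime.coprime_dvd_right
      (Dvd.intro (2 * (4 * (2 * k + 1)) * (64 * k ^ 2 + 40 * k + 7)) (by ring)) c1).symm
  have c12 : Nat.Coprime (4 * k + 1) (2 * k + 1) :=
    Nat.Coprime.coprime_dvd_right
      (Dvd.intro ((8 * k + 3) ^ 3 * 2 * 4 * (64 * k ^ 2 + 40 * k + 7)) (by ring)) c1
  have c13 : Nat.Coprime (4 * k + 1) (64 * k ^ 2 + 40 * k + 7) :=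
    Nat.Coprime.coprime_dvd_right
      (Dvd.intro ((8 * k + 3) ^ 3 * 2 * (4 * (2 * k + 1))) (by ring)) c1
  have c20 : Nat.Coprime ((8 * k + 3) ^ 3) (2 * k + 1) :=
    (Nat.Coprime.coprime_dvd_right
      (Dvd.intro ((2 * (4 * k + 1)) * 4 * (64 * k ^ 2 + 40 * k + 7)) (by ring)) c2).symm
  have c23 : Nat.Coprime (2 * k + 1) (64 * k ^ 2 + 40 * k + 7) :=
    Nat.Coprime.coprime_dvd_right
      (Dvd.intro ((8 * k + 3) ^ 3 * (2 * (4 * k + 1)) * 4) (by ring)) c2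
  have c30 : Nat.Coprime ((8 * k + 3) ^ 3) (64 * k ^ 2 + 40 * k + 7) :=
    (Nat.Coprime.coprime_dvd_right
      (Dvd.intro ((2 * (4 * k + 1)) * (4 * (2 * k + 1))) (by ring)) c0).symm
  apply card_five
  · intro g
    by_cases he : Even (orderOf g)
    · exact Or.inl he
    · rcases hodd g (Nat.not_even_iff_odd.1 he) with h | h | h | h
      · exact Or.inr (Or.inl h)
      · by_cases h1 : g = 1
        · exact Or.inr (Or.inl (by rw [h1, one_pow]))
        · exact Or.inr (Or.inr (Or.inl ⟨h1, h⟩))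
      · by_cases h1 : g = 1
        · exact Or.inr (Or.inl (by rw [h1, one_pow]))
        · exact Or.inr (Or.inr (Or.inr (Or.inl ⟨h1, h⟩)))
      · by_cases h1 : g = 1
        · exact Or.inr (Or.inl (by rw [h1, one_pow]))
        · exact Or.inr (Or.inr (Or.inr (Or.inr ⟨h1, h⟩)))
  · intro g he h
    exact not_even_of_pow_odd o0 g h he
  · intro g he h
    exact not_even_of_pow_odd o1 g h.2 he
  · intro g he h
    exact not_even_of_pow_odd o2 g h.2 he
  · intro g he h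
    exact not_even_of_pow_odd o3 g h.2 he
  · intro g h0 h
    exact h.1 (eq_one_of_pow_coprime c10 g h0 h.2)
  · intro g h0 h
    exact h.1 (eq_one_of_pow_coprime c20 g h0 h.2)
  · intro g h0 h
    exact h.1 (eq_one_of_pow_coprime c30 g h0 h.2)
  · intro g h0 h
    exact h.1 (eq_one_of_pow_coprime c12 g h0.2 h.2)
  · intro g h0 h
    exact h.1 (eq_one_of_pow_coprime c13 g h0.2 h.2)
  · intro g h0 h
    exact h.1 (eq_one_of_pow_coprime c23 g h0.2 h.2)

/-- **the count of the nonidentity elements of order dividing `q² - q + 1`** -/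
theorem ree_card_D_pi (hm : 1 ≤ m)
    (hE : 8 * Nat.card {g : ↥(twistedG2 K (3 ^ m)) // Even (orderOf g)} =
      (3 ^ (2 * m + 1)) ^ 2 * ((3 ^ (2 * m + 1)) ^ 2 - 3 ^ (2 * m + 1) + 1) *
        (3 * 3 ^ (2 * m + 1) * ((3 ^ (2 * m + 1)) ^ 2 - 1)))
    (hF : Nat.card {g : ↥(twistedG2 K (3 ^ m)) // g ^ ((3 ^ (2 * m + 1)) ^ 3) = 1} =
      (3 ^ (2 * m + 1)) ^ 6)
    (hH : Nat.card (normalizer (reeTorus K m : Set ↥(twistedG2 K (3 ^ m)))) =
      2 * (3 ^ (2 * m + 1) - 1))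
    (hA : ∃ A : Subgroup ↥(twistedG2 K (3 ^ m)), IsCyclic A ∧
      Nat.card A = (3 ^ (2 * m + 1) + 1) / 4 ∧
      Nat.card (normalizer (A : Set ↥(twistedG2 K (3 ^ m)))) = 6 * (3 ^ (2 * m + 1) + 1)) :
    3 * Nat.card {g : ↥(twistedG2 K (3 ^ m)) //
        g ≠ 1 ∧ g ^ ((3 ^ (2 * m + 1)) ^ 2 - 3 ^ (2 * m + 1) + 1) = 1} =
      (3 ^ (2 * m + 1)) ^ 3 * ((3 ^ (2 * m + 1)) ^ 2 - 1) *
        ((3 ^ (2 * m + 1)) ^ 2 - 2 * 3 ^ (2 * m + 1)) := by
  have hG := Cfsg.Agent.S1069.result hK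
  have hpart := ree_partition hK hm
  have hD1 := ree_card_D_one hK hm hH
  have hD2 := ree_card_D_two hK hm hA
  obtain ⟨k, hk⟩ := three_pow_mod_eight m
  rw [hG] at hpart hD1 hD2
  rw [hk] at hpart hD1 hD2 hE hF ⊢
  rw [ree_order_eq] at hpart hD1 hD2
  rw [ree_N0_eq] at hpart hE ⊢
  rw [ree_N1_eq] at hpart hD1
  rw [ree_N2_eq] at hpart hD2
  have e1 : (8 * k + 3) ^ 2 - 1 = 8 * ((4 * k + 1) * (2 * k + 1)) := by
    have : (8 * k + 3) ^ 2 = 8 * ((4 * k + 1) * (2 * k + 1)) + 1 := by ring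
    omega
  have e2 : (8 * k + 3) ^ 2 - 2 * (8 * k + 3) = (8 * k + 3) * (8 * k + 1) := by
    have : (8 * k + 3) ^ 2 = (8 * k + 3) * (8 * k + 1) + 2 * (8 * k + 3) := by ring
    omega
  have e3 : 8 * k + 3 - 1 = 2 * (4 * k + 1) := by omega
  have e4 : 8 * k + 3 + 1 = 4 * (2 * k + 1) := by ring
  have e5 : 4 * k + 1 - 1 = 4 * k := by omega
  have e6 : 2 * k + 1 - 1 = 2 * k := by omega
  rw [e1] at hE ⊢
  rw [e2]
  rw [e3, e5] at hD1
  rw [e4, e6] at hD2
  exact ree_final_arith k _ _ _ _ _ hE hF hD1 hD2 hpart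

end ree

end Cfsg.Agent.Lib.Helper13.ReeTI
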