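/-
helper13: the Ree groups `²G₂(q)`, `q = 3^(2m+1)`, `r = 3^(m+1)`: from the count of the elements of order
dividing `q² - q + 1`, the two classes of cyclic subgroups of order `q + r + 1` and `q - r + 1` with
normalizers of order `6 (q ± r + 1)`.
-/
import Mathlib
import Cfsg.Agent.Lib.Helper13.ReeTIH

set_option autoImplicit false

namespace Cfsg.Agent.Lib.Helper13.ReeTI

open Subgroup Cfsg Cfsg.Lie Matrix Cfsg.Agent.Lib.Helper7 Cfsg.Agent.Lib.Helper27.ReeCent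
  Cfsg.Agent.Lib.Helper13.ReeCyc

/-- the arithmetic input (helper23) -/
def ToriArith : Prop :=
  ∀ (S : Finset ℕ) (t n : ℕ → ℕ) (q r : ℕ), 27 ≤ q → r * r = 3 * q → (∀ i ∈ S, 5 ≤ t i) →
    (∀ i ∈ S, n i ∣ 6) → ∏ i ∈ S, t i = q ^ 2 - q + 1 →
    ∑ i ∈ S, (6 / n i) * ((q ^ 2 - q + 1) / t i) * (t i - 1) = 2 * (q ^ 2 - q + 1 - q - 1) →
    ∃ i j, i ≠ j ∧ S = {i, j} ∧ n i = 6 ∧ n j = 6 ∧ t i = q + r + 1 ∧ t j = q - r + 1

section ree

variable {K : Type*} [Field K] [Fintype K] {m : ℕ} (hK : Fintype.card K = 3 ^ (2 * m + 1))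
include hK

/-- **the two classes of cyclic Hall subgroups of order `q ± r + 1`** -/
theorem ree_tori_pi (hm : 1 ≤ m) (harith : ToriArith)
    (hD : 3 * Nat.card {g : ↥(twistedG2 K (3 ^ m)) //
        g ≠ 1 ∧ g ^ ((3 ^ (2 * m + 1)) ^ 2 - 3 ^ (2 * m + 1) + 1) = 1} =
      (3 ^ (2 * m + 1)) ^ 3 * ((3 ^ (2 * m + 1)) ^ 2 - 1) *
        ((3 ^ (2 * m + 1)) ^ 2 - 2 * 3 ^ (2 * m + 1))) :
    ∃ x₁ x₂ : ↥(twistedG2 K (3 ^ m)),
      (x₁ ≠ 1 ∧ x₁ ^ ((3 ^ (2 * m + 1)) ^ 2 - 3 ^ (2 * m + 1) + 1) = 1 ∧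
        Nat.card (cN ((3 ^ (2 * m + 1)) ^ 2 - 3 ^ (2 * m + 1) + 1) x₁) =
          3 ^ (2 * m + 1) + 3 ^ (m + 1) + 1 ∧
        Nat.card (normalizer (cN ((3 ^ (2 * m + 1)) ^ 2 - 3 ^ (2 * m + 1) + 1) x₁ :
          Set ↥(twistedG2 K (3 ^ m)))) = 6 * (3 ^ (2 * m + 1) + 3 ^ (m + 1) + 1)) ∧
      (x₂ ≠ 1 ∧ x₂ ^ ((3 ^ (2 * m + 1)) ^ 2 - 3 ^ (2 * m + 1) + 1) = 1 ∧
        Nat.card (cN ((3 ^ (2 * m + 1)) ^ 2 - 3 ^ (2 * m + 1) + 1) x₂) =
          3 ^ (2 * m + 1) - 3 ^ (m + 1) + 1 ∧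
        Nat.card (normalizer (cN ((3 ^ (2 * m + 1)) ^ 2 - 3 ^ (2 * m + 1) + 1) x₂ :
          Set ↥(twistedG2 K (3 ^ m)))) = 6 * (3 ^ (2 * m + 1) - 3 ^ (m + 1) + 1)) ∧
      ∀ x : ↥(twistedG2 K (3 ^ m)), x ≠ 1 →
        x ^ ((3 ^ (2 * m + 1)) ^ 2 - 3 ^ (2 * m + 1) + 1) = 1 →
        ∃ g : ↥(twistedG2 K (3 ^ m)),
          cN ((3 ^ (2 * m + 1)) ^ 2 - 3 ^ (2 * m + 1) + 1) x =
            (cN ((3 ^ (2 * m + 1)) ^ 2 - 3 ^ (2 * m + 1) + 1) x₁).map
              (MulAut.conj g).toMonoidHom ∨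
          cN ((3 ^ (2 * m + 1)) ^ 2 - 3 ^ (2 * m + 1) + 1) x =
            (cN ((3 ^ (2 * m + 1)) ^ 2 - 3 ^ (2 * m + 1) + 1) x₂).map
              (MulAut.conj g).toMonoidHom := by
  classical
  have h := ree_tiHyp_pi hK hm
  have hG := Cfsg.Agent.S1069.result hK
  obtain ⟨k, hk⟩ := three_pow_mod_eight m
  have hk3 : 3 ≤ k := by
    have : 3 ^ (2 * 1 + 1) ≤ 3 ^ (2 * m + 1) := Nat.pow_le_pow_right (by norm_num) (by omega)
    norm_num at this
    omega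
  set q := 3 ^ (2 * m + 1) with hq
  set N := q ^ 2 - q + 1 with hN
  obtain ⟨R⟩ := nonempty_reps h
  -- the indices of the normalizers
  have hex : ∀ p, p ∈ R.S0 → ∃ n : ℕ, n ∣ 6 ∧
      Nat.card (normalizer (R.T p : Set ↥(twistedG2 K (3 ^ m)))) = n * R.t p := by
    intro p hp
    have hpN := R.S0_sub h hp
    exact ree_normalizer_pi hK hm (R.f p) (R.ne_one p hpN) (R.pow p hpN)
  choose n hn6 hnN using hex
  let n' : ℕ → ℕ := fun p => if hp : p ∈ R.S0 then n p hp else 6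
  have hn' : ∀ p (hp : p ∈ R.S0), n' p = n p hp := fun p hp => by simp only [n', hp, dif_pos]
  -- the order of the group
  set M := q ^ 3 * (q ^ 2 - 1) with hM
  have hGM : Nat.card ↥(twistedG2 K (3 ^ m)) = M * N := by
    rw [hG, hM, hN, hk, ree_order_eq, ree_N0_eq]
    have e1 : (8 * k + 3) ^ 2 - 1 = 8 * ((4 * k + 1) * (2 * k + 1)) := by
      have : (8 * k + 3) ^ 2 = 8 * ((4 * k + 1) * (2 * k + 1)) + 1 := by ring
      omega
    rw [e1]
    ring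
  have hMpos : 0 < M := by
    rw [hM, hk]
    have e1 : (8 * k + 3) ^ 2 - 1 = 8 * ((4 * k + 1) * (2 * k + 1)) := by
      have : (8 * k + 3) ^ 2 = 8 * ((4 * k + 1) * (2 * k + 1)) + 1 := by ring
      omega
    rw [e1]
    positivity
  -- the sum
  have hterm : ∀ p ∈ R.S0, (R.t p - 1) * R.c p * 6 =
      M * ((6 / n' p) * (N / R.t p) * (R.t p - 1)) := by
    intro p hp
    have hpN := R.S0_sub h hp
    have htd : R.t p ∣ N := R.t_dvd h hpN
    have htpos : 0 < R.t p := lt_trans Nat.zero_lt_one (R.one_lt_t hpN)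
    have h1 := R.c_mul p
    rw [hnN p hp, hGM] at h1
    have h2 : R.c p * n p hp = M * (N / R.t p) := by
      have : R.c p * n p hp * R.t p = M * (N / R.t p) * R.t p := by
        calc R.c p * n p hp * R.t p = R.c p * (n p hp * R.t p) := mul_assoc _ _ _
          _ = M * N := h1
          _ = M * (N / R.t p * R.t p) := by rw [Nat.div_mul_cancel htd]
          _ = M * (N / R.t p) * R.t p := (mul_assoc _ _ _).symm
      exact Nat.eq_of_mul_eq_mul_right htpos this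
    have h3 : 6 = n p hp * (6 / n p hp) := (Nat.mul_div_cancel' (hn6 p hp)).symm
    rw [hn' p hp]
    calc (R.t p - 1) * R.c p * 6 = (R.t p - 1) * (R.c p * n p hp) * (6 / n p hp) := by
          conv_lhs => rw [h3]
          ring
      _ = M * ((6 / n p hp) * (N / R.t p) * (R.t p - 1)) := by rw [h2]; ring
  have hsum : ∑ p ∈ R.S0, (6 / n' p) * (N / R.t p) * (R.t p - 1) = 2 * (N - q - 1) := by
    have hcD := R.card_D h
    have h1 : 6 * Nat.card {g : ↥(twistedG2 K (3 ^ m)) // g ≠ 1 ∧ g ^ N = 1} =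
        M * ∑ p ∈ R.S0, (6 / n' p) * (N / R.t p) * (R.t p - 1) := by
      rw [hcD, Finset.mul_sum, Finset.mul_sum]
      apply Finset.sum_congr rfl
      intro p hp
      rw [← hterm p hp]
      ring
    have h2 : 6 * Nat.card {g : ↥(twistedG2 K (3 ^ m)) // g ≠ 1 ∧ g ^ N = 1} =
        M * (2 * (N - q - 1)) := by
      have e : N - q - 1 = q ^ 2 - 2 * q := by
        rw [hN, hk]
        have : (8 * k + 3) ^ 2 = (8 * k + 3) * (8 * k + 1) + 2 * (8 * k + 3) := by ring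
        omega
      rw [e]
      have : 6 * Nat.card {g : ↥(twistedG2 K (3 ^ m)) // g ≠ 1 ∧ g ^ N = 1} =
          2 * (3 * Nat.card {g : ↥(twistedG2 K (3 ^ m)) // g ≠ 1 ∧ g ^ N = 1}) := by ring
      rw [this, hD]
      ring
    exact Nat.eq_of_mul_eq_mul_left hMpos (h1.symm.trans h2)
  -- the arithmetic
  have hq27 : 27 ≤ q := by rw [hk]; omega
  have hr : 3 ^ (m + 1) * 3 ^ (m + 1) = 3 * q := by
    rw [hq, ← pow_add]
    have : m + 1 + (m + 1) = (2 * m + 1) + 1 := by ring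
    rw [this, pow_succ]
    ring
  have ht5 : ∀ p ∈ R.S0, 5 ≤ R.t p := by
    intro p hp
    have hpN := R.S0_sub h hp
    have h1 := R.one_lt_t hpN
    have hpr : (R.t p).minFac.Prime := Nat.minFac_prime h1.ne'
    have h2 : (R.t p).minFac ∣ N := dvd_trans (Nat.minFac_dvd _) (R.t_dvd h hpN)
    have h3 := prime_gt_three_of_dvd_pi (m := m) _ hpr h2
    have h4 : (R.t p).minFac ≤ R.t p := Nat.minFac_le (by omega)
    have h5 : (R.t p).minFac ≠ 4 := by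
      intro h4'
      rw [h4'] at hpr
      norm_num at hpr
    omega
  have hn6' : ∀ p ∈ R.S0, n' p ∣ 6 := by
    intro p hp
    rw [hn' p hp]
    exact hn6 p hp
  obtain ⟨i, j, hij, hS, hni, hnj, hti, htj⟩ :=
    harith R.S0 R.t n' q (3 ^ (m + 1)) hq27 hr ht5 hn6' (R.prod_t h) hsum
  have hi : i ∈ R.S0 := by rw [hS]; simp
  have hj : j ∈ R.S0 := by rw [hS]; simp
  have hiN := R.S0_sub h hi
  have hjN := R.S0_sub h hj
  refine ⟨R.f i, R.f j, ⟨R.ne_one i hiN, R.pow i hiN, hti, ?_⟩, ⟨R.ne_one j hjN, R.pow j hjN, htj, ?_⟩, ?_⟩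
  · have := hnN i hi
    rw [← hn' i hi, hni, hti] at this
    exact this
  · have := hnN j hj
    rw [← hn' j hj, hnj, htj] at this
    exact this
  · intro x hx1 hxN
    obtain ⟨hc, g, hg⟩ := R.cls_spec h hx1 hxN
    rw [hS, Finset.mem_insert, Finset.mem_singleton] at hc
    refine ⟨g, ?_⟩
    rcases hc with hc | hc
    · left
      rw [hc] at hg
      exact hg
    · right
      rw [hc] at hg
      exact hg

end ree

end Cfsg.Agent.Lib.Helper13.ReeTI
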