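/-
helper13: the Ree groups `²G₂(q)`, `q = 3^(2m+1)`, `r = 3^(m+1)`: the cyclic Hall subgroups of order
`(q-1)/2`, `(q+1)/4`, `q - r + 1`, `q + r + 1` and their normalizers (statement S1158), from the counting
inputs.
-/
import Mathlib
import Cfsg.Agent.Lib.Helper13.ReeTII

set_option autoImplicit false

namespace Cfsg.Agent.Lib.Helper13.ReeTI

open Subgroup Cfsg Cfsg.Lie Matrix Cfsg.Agent.Lib.Helper7 Cfsg.Agent.Lib.Helper27.ReeCent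
  Cfsg.Agent.Lib.Helper13.ReeCyc

section ree

variable {K : Type*} [Field K] [Fintype K] {m : ℕ} (hK : Fintype.card K = 3 ^ (2 * m + 1))
include hK

theorem ree_cyclic_hall (hm : 1 ≤ m) (harith : ToriArith)
    (hE : 8 * Nat.card {g : ↥(twistedG2 K (3 ^ m)) // Even (orderOf g)} =
      (3 ^ (2 * m + 1)) ^ 2 * ((3 ^ (2 * m + 1)) ^ 2 - 3 ^ (2 * m + 1) + 1) *
        (3 * 3 ^ (2 * m + 1) * ((3 ^ (2 * m + 1)) ^ 2 - 1)))
    (hF : Nat.card {g : ↥(twistedG2 K (3 ^ m)) // g ^ ((3 ^ (2 * m + 1)) ^ 3) = 1} =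
      (3 ^ (2 * m + 1)) ^ 6)
    (hH : Nat.card (normalizer (reeTorus K m : Set ↥(twistedG2 K (3 ^ m)))) =
      2 * (3 ^ (2 * m + 1) - 1))
    (hA : ∃ A : Subgroup ↥(twistedG2 K (3 ^ m)), IsCyclic A ∧
      Nat.card A = (3 ^ (2 * m + 1) + 1) / 4 ∧
      Nat.card (normalizer (A : Set ↥(twistedG2 K (3 ^ m)))) = 6 * (3 ^ (2 * m + 1) + 1)) :
    ∀ kn ∈ ({((3 ^ (2 * m + 1) - 1) / 2, 2 * (3 ^ (2 * m + 1) - 1)),
        ((3 ^ (2 * m + 1) + 1) / 4, 6 * (3 ^ (2 * m + 1) + 1)),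
        (3 ^ (2 * m + 1) - 3 ^ (m + 1) + 1, 6 * (3 ^ (2 * m + 1) - 3 ^ (m + 1) + 1)),
        (3 ^ (2 * m + 1) + 3 ^ (m + 1) + 1, 6 * (3 ^ (2 * m + 1) + 3 ^ (m + 1) + 1))} :
          Set (ℕ × ℕ)),
      ∃ A : Subgroup ↥(twistedG2 K (3 ^ m)), IsCyclic A ∧ Nat.card A = kn.1 ∧
        Nat.card (normalizer (A : Set ↥(twistedG2 K (3 ^ m)))) = kn.2 ∧
        ∀ A₀ : Subgroup ↥(twistedG2 K (3 ^ m)), A₀ ≤ A → A₀ ≠ ⊥ →
          normalizer (A₀ : Set ↥(twistedG2 K (3 ^ m))) =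
            normalizer (A : Set ↥(twistedG2 K (3 ^ m))) := by
  have h1 := ree_tiHyp_one hK (m := m)
  have h2 := ree_tiHyp_two hK hm
  have h0 := ree_tiHyp_pi hK hm
  have hD := ree_card_D_pi hK hm hE hF hH hA
  obtain ⟨x₁, x₂, ⟨hx₁1, hx₁N, hx₁c, hx₁n⟩, ⟨hx₂1, hx₂N, hx₂c, hx₂n⟩, -⟩ :=
    ree_tori_pi hK hm harith hD
  intro kn hkn
  simp only [Set.mem_insert_iff, Set.mem_singleton_iff] at hkn
  rcases hkn with rfl | rfl | rfl | rfl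
  · obtain ⟨x₀, hx1, hxN, hfull, hnorm⟩ := ree_torus_half hK hm
    refine ⟨cN ((3 ^ (2 * m + 1) - 1) / 2) x₀, h1.cyc x₀ hx1 hxN, hfull, ?_, ?_⟩
    · rw [hnorm, hH]
    · intro A₀ hle hne
      exact normalizer_eq_of_le h1 hx1 hxN A₀ hle hne
  · obtain ⟨A, hAcyc, hAcard, hAnorm⟩ := hA
    obtain ⟨k, hk⟩ := three_pow_mod_eight m
    have hk3 : 3 ≤ k := by
      have : 3 ^ (2 * 1 + 1) ≤ 3 ^ (2 * m + 1) := Nat.pow_le_pow_right (by norm_num) (by omega)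
      norm_num at this
      omega
    have hN2 : (3 ^ (2 * m + 1) + 1) / 4 = 2 * k + 1 := by rw [hk, ree_N2_eq]
    obtain ⟨x₀, hx1, hxN, hcN⟩ := exists_cN_eq h2 A hAcyc hAcard (by omega)
    refine ⟨A, hAcyc, hAcard, hAnorm, ?_⟩
    intro A₀ hle hne
    rw [← hcN] at hle ⊢
    exact normalizer_eq_of_le h2 hx1 hxN A₀ hle hne
  · refine ⟨_, h0.cyc x₂ hx₂1 hx₂N, hx₂c, hx₂n, ?_⟩
    intro A₀ hle hne
    exact normalizer_eq_of_le h0 hx₂1 hx₂N A₀ hle hne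
  · refine ⟨_, h0.cyc x₁ hx₁1 hx₁N, hx₁c, hx₁n, ?_⟩
    intro A₀ hle hne
    exact normalizer_eq_of_le h0 hx₁1 hx₁N A₀ hle hne

end ree

end Cfsg.Agent.Lib.Helper13.ReeTI
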