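/-
helper13: the Ree groups `²G₂(q)`, `q = 3^(2m+1)`, `r = 3^(m+1)`: the set of element orders (statement
S1159), from the counting inputs.
-/
import Mathlib
import Cfsg.Agent.Lib.Helper13.ReeTIJ
import Cfsg.Agent.Lib.Helper6.ReeThreeExp

set_option autoImplicit false

namespace Cfsg.Agent.Lib.Helper13.ReeTI

open Subgroup Cfsg Cfsg.Lie Matrix Cfsg.Agent.Lib.Helper7 Cfsg.Agent.Lib.Helper27.ReeCent
  Cfsg.Agent.Lib.Helper13.ReeCyc

theorem exists_orderOf_eq_of_dvd {G : Type*} [Group G] (x : G) (d : ℕ) (hd : d ∣ orderOf x)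
    (hx : orderOf x ≠ 0) : ∃ y : G, orderOf y = d := by
  obtain ⟨e, he⟩ := hd
  have hd0 : d ≠ 0 := by
    rintro rfl
    rw [zero_mul] at he
    exact hx he
  have he0 : e ≠ 0 := by
    rintro rfl
    rw [mul_zero] at he
    exact hx he
  refine ⟨x ^ e, ?_⟩
  rw [orderOf_pow_of_dvd he0 (by rw [he]; exact dvd_mul_left e d), he]
  exact Nat.mul_div_cancel _ (Nat.pos_of_ne_zero he0)

theorem exists_orderOf_eq_of_cyclic {G : Type*} [Group G] [Finite G] (A : Subgroup G)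
    (hA : IsCyclic A) (d : ℕ) (hd : d ∣ Nat.card A) : ∃ y : G, orderOf y = d := by
  obtain ⟨a, ha⟩ := hA.exists_generator
  have hao : orderOf (a : G) = Nat.card A := by
    rw [Subgroup.orderOf_coe, orderOf_eq_card_of_forall_mem_zpowers ha]
  apply exists_orderOf_eq_of_dvd (a : G) d (by rw [hao]; exact hd)
  rw [hao]
  exact Nat.card_pos.ne'

section ree

variable {K : Type*} [Field K] [Fintype K] {m : ℕ} (hK : Fintype.card K = 3 ^ (2 * m + 1))
include hK

theorem ree_element_orders (hm : 1 ≤ m) (harith : ToriArith)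
    (hE : 8 * Nat.card {g : ↥(twistedG2 K (3 ^ m)) // Even (orderOf g)} =
      (3 ^ (2 * m + 1)) ^ 2 * ((3 ^ (2 * m + 1)) ^ 2 - 3 ^ (2 * m + 1) + 1) *
        (3 * 3 ^ (2 * m + 1) * ((3 ^ (2 * m + 1)) ^ 2 - 1)))
    (hF : Nat.card {g : ↥(twistedG2 K (3 ^ m)) // g ^ ((3 ^ (2 * m + 1)) ^ 3) = 1} =
      (3 ^ (2 * m + 1)) ^ 6)
    (hH : Nat.card (normalizer (reeTorus K m : Set ↥(twistedG2 K (3 ^ m)))) =
      2 * (3 ^ (2 * m + 1) - 1))
    (hA : ∃ A : Subgroup ↥(twistedG2 K (3 ^ m)), IsCyclic A ∧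
      Nat.card A = (3 ^ (2 * m + 1) + 1) / 4 ∧
      Nat.card (normalizer (A : Set ↥(twistedG2 K (3 ^ m)))) = 6 * (3 ^ (2 * m + 1) + 1))
    (hJ1 : ∀ g : ↥(twistedG2 K (3 ^ m)), Even (orderOf g) →
      orderOf g ∣ 6 ∨ orderOf g ∣ 3 ^ (2 * m + 1) - 1 ∨ orderOf g ∣ (3 ^ (2 * m + 1) + 1) / 2)
    (hJ2 : (∃ g : ↥(twistedG2 K (3 ^ m)), orderOf g = 6) ∧
      (∃ g : ↥(twistedG2 K (3 ^ m)), orderOf g = (3 ^ (2 * m + 1) + 1) / 2)) (d : ℕ) :
    (∃ g : ↥(twistedG2 K (3 ^ m)), orderOf g = d) ↔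
      (d ∣ 6 ∨ d ∣ 9 ∨ d ∣ 3 ^ (2 * m + 1) - 1 ∨ d ∣ (3 ^ (2 * m + 1) + 1) / 2 ∨
        d ∣ 3 ^ (2 * m + 1) - 3 ^ (m + 1) + 1 ∨ d ∣ 3 ^ (2 * m + 1) + 3 ^ (m + 1) + 1) := by
  have h0 := ree_tiHyp_pi hK hm
  have hD := ree_card_D_pi hK hm hE hF hH hA
  obtain ⟨x₁, x₂, ⟨hx₁1, hx₁N, hx₁c, hx₁n⟩, ⟨hx₂1, hx₂N, hx₂c, hx₂n⟩, hconj⟩ :=
    ree_tori_pi hK hm harith hD
  obtain ⟨k, hk⟩ := three_pow_mod_eight m
  constructor
  · rintro ⟨g, rfl⟩
    by_cases he : Even (orderOf g)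
    · rcases hJ1 g he with h | h | h
      · exact Or.inl h
      · exact Or.inr (Or.inr (Or.inl h))
      · exact Or.inr (Or.inr (Or.inr (Or.inl h)))
    · rcases ree_odd_cases hK hm g (Nat.not_even_iff_odd.1 he) with h | h | h | h
      · right; left
        exact orderOf_dvd_of_pow_eq_one
          (Cfsg.Agent.Lib.Helper6.ReeThree.ree_three_element_pow_nine hK g h)
      · right; right; left
        have h1 := orderOf_dvd_of_pow_eq_one h
        refine dvd_trans h1 ?_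
        rw [hk, ree_N1_eq]
        exact ⟨2, by omega⟩
      · right; right; right; left
        have h1 := orderOf_dvd_of_pow_eq_one h
        refine dvd_trans h1 ?_
        rw [hk, ree_N2_eq]
        exact ⟨2, by omega⟩
      · by_cases hg1 : g = 1
        · left
          rw [hg1, orderOf_one]
          exact one_dvd _
        · obtain ⟨c, hc⟩ := hconj g hg1 h
          have hmem : g ∈ cN ((3 ^ (2 * m + 1)) ^ 2 - 3 ^ (2 * m + 1) + 1) g := self_mem_cN h
          have ho : orderOf g ∣ Nat.card (cN ((3 ^ (2 * m + 1)) ^ 2 - 3 ^ (2 * m + 1) + 1) g) := by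
            have := orderOf_dvd_natCard
              (⟨g, hmem⟩ : cN ((3 ^ (2 * m + 1)) ^ 2 - 3 ^ (2 * m + 1) + 1) g)
            rwa [Subgroup.orderOf_mk] at this
          rcases hc with hc | hc
          · right; right; right; right; right
            rw [hc, card_map_conj, hx₁c] at ho
            exact ho
          · right; right; right; right; left
            rw [hc, card_map_conj, hx₂c] at ho
            exact ho
  · rintro (h | h | h | h | h | h)
    · obtain ⟨g, hg⟩ := hJ2.1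
      exact exists_orderOf_eq_of_dvd g d (by rw [hg]; exact h) (by rw [hg]; norm_num)
    · obtain ⟨g, hg⟩ := Cfsg.Agent.Lib.Helper6.ReeThree.ree_exists_order_nine hK (m := m)
      exact exists_orderOf_eq_of_dvd g d (by rw [hg]; exact h) (by rw [hg]; norm_num)
    · apply exists_orderOf_eq_of_cyclic (reeTorus K m) (isCyclic_reeTorus hK) d
      rw [card_reeTorus hK]
      exact h
    · obtain ⟨g, hg⟩ := hJ2.2
      apply exists_orderOf_eq_of_dvd g d (by rw [hg]; exact h)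
      rw [hg, hk]
      omega
    · apply exists_orderOf_eq_of_cyclic _ (h0.cyc x₂ hx₂1 hx₂N) d
      rw [hx₂c]
      exact h
    · apply exists_orderOf_eq_of_cyclic _ (h0.cyc x₁ hx₁1 hx₁N) d
      rw [hx₁c]
      exact h

end ree

end Cfsg.Agent.Lib.Helper13.ReeTI
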