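/-
helper13: complements to `ReeTIA/B`: the number of elements of a given order `i` in the conjugates of a
TI cyclic subgroup `cN N x₀`.
-/
import Mathlib
import Cfsg.Agent.Lib.Helper13.ReeTIB

set_option autoImplicit false

namespace Cfsg.Agent.Lib.Helper13.ReeTI

open Subgroup

variable {G : Type*} [Group G]

theorem card_orderOf_of_isCyclic [Finite G] (T : Subgroup G) (hT : IsCyclic T) (i : ℕ)
    (hi : i ∣ Nat.card T) : Nat.card {y : T // orderOf y = i} = Nat.totient i := by
  classical
  have : Fintype T := Fintype.ofFinite T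
  rw [Nat.card_eq_fintype_card, Fintype.card_subtype]
  apply IsCyclic.card_orderOf_eq_totient
  rw [← Nat.card_eq_fintype_card]
  exact hi

variable {N : ℕ} (h : TIHyp G N) [Finite G]
include h

/-- the elements of order `i` whose `cN` is conjugate to `cN N x₀` -/
theorem card_orderOf_conj_class {x₀ : G} (hx1 : x₀ ≠ 1) (hxN : x₀ ^ N = 1) (i : ℕ) (hi : 1 < i)
    (hid : i ∣ Nat.card (cN N x₀)) :
    Nat.card {x : G // orderOf x = i ∧
        ∃ g : G, cN N x = (cN N x₀).map (MulAut.conj g).toMonoidHom} =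
      Nat.totient i *
        Nat.card {K : Subgroup G // ∃ g : G, K = (cN N x₀).map (MulAut.conj g).toMonoidHom} := by
  classical
  have hiN : i ∣ N := dvd_trans hid (card_cN_dvd h hx1 hxN)
  have hpow : ∀ x : G, orderOf x = i → x ^ N = 1 := by
    intro x hx
    apply orderOf_dvd_iff_pow_eq_one.1
    rw [hx]
    exact hiN
  have hne1 : ∀ x : G, orderOf x = i → x ≠ 1 := by
    rintro x hx rfl
    rw [orderOf_one] at hx
    omega
  let φ : {x : G // orderOf x = i ∧
        ∃ g : G, cN N x = (cN N x₀).map (MulAut.conj g).toMonoidHom} →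
      {K : Subgroup G // ∃ g : G, K = (cN N x₀).map (MulAut.conj g).toMonoidHom} := fun x =>
    ⟨cN N x.1, x.2.2⟩
  have hfib : ∀ b, Nat.card {a // φ a = b} = Nat.totient i := by
    rintro ⟨K, g, rfl⟩
    have hz1 : g * x₀ * g⁻¹ ≠ 1 := conj_ne_one g hx1
    have hzN : (g * x₀ * g⁻¹) ^ N = 1 := conj_pow_eq_one g hxN
    have hK : (cN N x₀).map (MulAut.conj g).toMonoidHom = cN N (g * x₀ * g⁻¹) := (cN_conj _ _).symm
    have hcyc : IsCyclic ((cN N x₀).map (MulAut.conj g).toMonoidHom) := by
      rw [hK]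
      exact h.cyc _ hz1 hzN
    have hcard : i ∣ Nat.card ((cN N x₀).map (MulAut.conj g).toMonoidHom) := by
      rw [card_map_conj]
      exact hid
    rw [← card_orderOf_of_isCyclic _ hcyc i hcard]
    apply Nat.card_congr
    refine ⟨fun a => ⟨⟨a.1.1, ?_⟩, ?_⟩, fun y => ⟨⟨y.1.1, ?_, ?_⟩, ?_⟩, ?_, ?_⟩
    · have e : cN N a.1.1 = (cN N x₀).map (MulAut.conj g).toMonoidHom :=
        congrArg Subtype.val a.2
      exact e.le (self_mem_cN (hpow _ a.1.2.1))
    · rw [Subgroup.orderOf_mk]
      exact a.1.2.1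
    · have := y.2
      rwa [← Subgroup.orderOf_coe] at this
    · have hyo : orderOf (y.1.1 : G) = i := by
        have := y.2
        rwa [← Subgroup.orderOf_coe] at this
      have hmem : (y.1.1 : G) ∈ cN N (g * x₀ * g⁻¹) := by
        rw [← hK]
        exact y.1.2
      exact ⟨g, (cN_eq h hz1 hzN hmem (hne1 _ hyo)).trans hK.symm⟩
    · have hyo : orderOf (y.1.1 : G) = i := by
        have := y.2
        rwa [← Subgroup.orderOf_coe] at this
      have hmem : (y.1.1 : G) ∈ cN N (g * x₀ * g⁻¹) := by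
        rw [← hK]
        exact y.1.2
      apply Subtype.ext
      change cN N (y.1.1 : G) = _
      exact (cN_eq h hz1 hzN hmem (hne1 _ hyo)).trans hK.symm
    · intro a
      rfl
    · intro y
      rfl
  rw [card_eq_mul_of_fibers'' φ _ hfib]

/-- the number of elements of order `i` when all of them belong to conjugates of `cN N x₀` -/
theorem card_orderOf_mul_normalizer {x₀ : G} (hx1 : x₀ ≠ 1) (hxN : x₀ ^ N = 1) (i : ℕ) (hi : 1 < i)
    (hid : i ∣ Nat.card (cN N x₀))
    (hall : ∀ x : G, orderOf x = i →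
      ∃ g : G, cN N x = (cN N x₀).map (MulAut.conj g).toMonoidHom) :
    Nat.card {x : G // orderOf x = i} * Nat.card (normalizer (cN N x₀ : Set G)) =
      Nat.totient i * Nat.card G := by
  have e : Nat.card {x : G // orderOf x = i} = Nat.card {x : G // orderOf x = i ∧
        ∃ g : G, cN N x = (cN N x₀).map (MulAut.conj g).toMonoidHom} := by
    apply Nat.card_congr
    refine ⟨fun a => ⟨a.1, a.2, hall a.1 a.2⟩, fun a => ⟨a.1, a.2.1⟩, ?_, ?_⟩
    · intro a
      rfl
    · intro a
      rfl
  rw [e, card_orderOf_conj_class h hx1 hxN i hi hid, mul_assoc,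
    card_conjugates_mul_card_normalizer]

/-- the full case -/
theorem card_orderOf_of_full {x₀ : G} (hx1 : x₀ ≠ 1) (hxN : x₀ ^ N = 1)
    (hfull : Nat.card (cN N x₀) = N) (i : ℕ) (hi : 1 < i) (hiN : i ∣ N) :
    Nat.card {x : G // orderOf x = i} * Nat.card (normalizer (cN N x₀ : Set G)) =
      Nat.totient i * Nat.card G := by
  apply card_orderOf_mul_normalizer h hx1 hxN i hi (by rw [hfull]; exact hiN)
  intro x hx
  apply conj_of_full h hx1 hxN hfull
  · rintro rfl
    rw [orderOf_one] at hx
    omega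
  · apply orderOf_dvd_iff_pow_eq_one.1
    rw [hx]
    exact hiN

end Cfsg.Agent.Lib.Helper13.ReeTI
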