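/-
helper13: the Ree groups `²G₂(q)`, `q = 3^(2m+1)`, `r = 3^(m+1)`: the number of elements of order `i` for
`i > 1` dividing `(q-1)/2`, `(q+1)/4`, `q - r + 1` or `q + r + 1` (part of statement S2357), from the
counting inputs.
-/
import Mathlib
import Cfsg.Agent.Lib.Helper13.ReeTIK
import Cfsg.Agent.Lib.Helper13.ReeTIL

set_option autoImplicit false

namespace Cfsg.Agent.Lib.Helper13.ReeTI

open Subgroup Cfsg Cfsg.Lie Matrix Cfsg.Agent.Lib.Helper7 Cfsg.Agent.Lib.Helper27.ReeCent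
  Cfsg.Agent.Lib.Helper13.ReeCyc

theorem ree_tori_coprime (m : ℕ) :
    Nat.Coprime (3 ^ (2 * m + 1) - 3 ^ (m + 1) + 1) (3 ^ (2 * m + 1) + 3 ^ (m + 1) + 1) := by
  apply Nat.coprime_of_dvd
  intro s hs h1 h2
  have h3 : 3 < s := ree_prime_gt_three m _ s hs h1 (Or.inr (Or.inr (Or.inl dvd_rfl)))
  have hle : 3 ^ (m + 1) ≤ 3 ^ (2 * m + 1) := Nat.pow_le_pow_right (by norm_num) (by omega)
  have e : 3 ^ (2 * m + 1) + 3 ^ (m + 1) + 1 =
      (3 ^ (2 * m + 1) - 3 ^ (m + 1) + 1) + 2 * 3 ^ (m + 1) := by omega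
  rw [e] at h2
  have h4 : s ∣ 2 * 3 ^ (m + 1) := (Nat.dvd_add_right h1).1 h2
  rcases (Nat.Prime.dvd_mul hs).1 h4 with h5 | h5
  · have := Nat.le_of_dvd (by norm_num) h5
    omega
  · have h6 := (Nat.prime_dvd_prime_iff_eq hs Nat.prime_three).1 (hs.dvd_of_dvd_pow h5)
    omega

section ree

variable {K : Type*} [Field K] [Fintype K] {m : ℕ} (hK : Fintype.card K = 3 ^ (2 * m + 1))
include hK

/-- orders dividing `(q-1)/2` -/
theorem ree_card_order_minus (hm : 1 ≤ m)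
    (hH : Nat.card (normalizer (reeTorus K m : Set ↥(twistedG2 K (3 ^ m)))) =
      2 * (3 ^ (2 * m + 1) - 1)) (i : ℕ) (hi : 1 < i) (hid : i ∣ (3 ^ (2 * m + 1) - 1) / 2) :
    2 * Nat.card {g : ↥(twistedG2 K (3 ^ m)) // orderOf g = i} =
      Nat.totient i * (3 ^ (2 * m + 1)) ^ 3 * ((3 ^ (2 * m + 1)) ^ 3 + 1) := by
  obtain ⟨x₀, hx1, hxN, hfull, hnorm⟩ := ree_torus_half hK hm
  have h1 := card_orderOf_of_full (ree_tiHyp_one hK) hx1 hxN hfull i hi hid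
  rw [hnorm, hH, Cfsg.Agent.S1069.result hK] at h1
  have hpos : 0 < 3 ^ (2 * m + 1) - 1 := by
    have : 3 ^ 1 ≤ 3 ^ (2 * m + 1) := Nat.pow_le_pow_right (by norm_num) (by omega)
    omega
  apply Nat.eq_of_mul_eq_mul_right hpos
  calc 2 * Nat.card {g : ↥(twistedG2 K (3 ^ m)) // orderOf g = i} * (3 ^ (2 * m + 1) - 1)
      = Nat.card {g : ↥(twistedG2 K (3 ^ m)) // orderOf g = i} * (2 * (3 ^ (2 * m + 1) - 1)) := by
        ring
    _ = Nat.totient i * ((3 ^ (2 * m + 1)) ^ 3 * (3 ^ (2 * m + 1) - 1) *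
        ((3 ^ (2 * m + 1)) ^ 3 + 1)) := h1
    _ = Nat.totient i * (3 ^ (2 * m + 1)) ^ 3 * ((3 ^ (2 * m + 1)) ^ 3 + 1) *
        (3 ^ (2 * m + 1) - 1) := by ring

/-- orders dividing `(q+1)/4` -/
theorem ree_card_order_plus (hm : 1 ≤ m)
    (hA : ∃ A : Subgroup ↥(twistedG2 K (3 ^ m)), IsCyclic A ∧
      Nat.card A = (3 ^ (2 * m + 1) + 1) / 4 ∧
      Nat.card (normalizer (A : Set ↥(twistedG2 K (3 ^ m)))) = 6 * (3 ^ (2 * m + 1) + 1))
    (i : ℕ) (hi : 1 < i) (hid : i ∣ (3 ^ (2 * m + 1) + 1) / 4) :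
    6 * Nat.card {g : ↥(twistedG2 K (3 ^ m)) // orderOf g = i} =
      Nat.totient i * (3 ^ (2 * m + 1)) ^ 3 * (3 ^ (2 * m + 1) - 1) *
        ((3 ^ (2 * m + 1)) ^ 2 - 3 ^ (2 * m + 1) + 1) := by
  obtain ⟨A, hAcyc, hAcard, hAnorm⟩ := hA
  obtain ⟨k, hk⟩ := three_pow_mod_eight m
  have hk3 : 3 ≤ k := by
    have : 3 ^ (2 * 1 + 1) ≤ 3 ^ (2 * m + 1) := Nat.pow_le_pow_right (by norm_num) (by omega)
    norm_num at this
    omega
  have hN2 : (3 ^ (2 * m + 1) + 1) / 4 = 2 * k + 1 := by rw [hk, ree_N2_eq]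
  have h := ree_tiHyp_two hK hm
  obtain ⟨x₀, hx1, hxN, hcN⟩ := exists_cN_eq h A hAcyc hAcard (by omega)
  have h1 := card_orderOf_of_full h hx1 hxN (by rw [hcN, hAcard]) i hi hid
  rw [hcN, hAnorm, Cfsg.Agent.S1069.result hK] at h1
  rw [hk] at h1 ⊢
  rw [ree_order_eq] at h1
  rw [ree_N0_eq]
  have e3 : 8 * k + 3 - 1 = 2 * (4 * k + 1) := by omega
  have e4 : 8 * k + 3 + 1 = 4 * (2 * k + 1) := by ring
  rw [e3]
  rw [e4] at h1
  apply Nat.eq_of_mul_eq_mul_right (show 0 < 4 * (2 * k + 1) by omega)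
  calc 6 * Nat.card {g : ↥(twistedG2 K (3 ^ m)) // orderOf g = i} * (4 * (2 * k + 1))
      = Nat.card {g : ↥(twistedG2 K (3 ^ m)) // orderOf g = i} * (6 * (4 * (2 * k + 1))) := by ring
    _ = _ := h1
    _ = _ := by ring

/-- orders dividing `q ± r + 1` -/
theorem ree_card_order_pi (hm : 1 ≤ m) (harith : ToriArith)
    (hD : 3 * Nat.card {g : ↥(twistedG2 K (3 ^ m)) //
        g ≠ 1 ∧ g ^ ((3 ^ (2 * m + 1)) ^ 2 - 3 ^ (2 * m + 1) + 1) = 1} =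
      (3 ^ (2 * m + 1)) ^ 3 * ((3 ^ (2 * m + 1)) ^ 2 - 1) *
        ((3 ^ (2 * m + 1)) ^ 2 - 2 * 3 ^ (2 * m + 1))) :
    (∀ i : ℕ, 1 < i → i ∣ 3 ^ (2 * m + 1) - 3 ^ (m + 1) + 1 →
      6 * Nat.card {g : ↥(twistedG2 K (3 ^ m)) // orderOf g = i} =
        Nat.totient i * (3 ^ (2 * m + 1)) ^ 3 * ((3 ^ (2 * m + 1)) ^ 2 - 1) *
          (3 ^ (2 * m + 1) + 3 ^ (m + 1) + 1)) ∧
    (∀ i : ℕ, 1 < i → i ∣ 3 ^ (2 * m + 1) + 3 ^ (m + 1) + 1 →
      6 * Nat.card {g : ↥(twistedG2 K (3 ^ m)) // orderOf g = i} =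
        Nat.totient i * (3 ^ (2 * m + 1)) ^ 3 * ((3 ^ (2 * m + 1)) ^ 2 - 1) *
          (3 ^ (2 * m + 1) - 3 ^ (m + 1) + 1)) := by
  have h0 := ree_tiHyp_pi hK hm
  obtain ⟨x₁, x₂, ⟨hx₁1, hx₁N, hx₁c, hx₁n⟩, ⟨hx₂1, hx₂N, hx₂c, hx₂n⟩, hconj⟩ :=
    ree_tori_pi hK hm harith hD
  have hcop := ree_tori_coprime m
  have hfac := ree_pi_factor m
  have hG := Cfsg.Agent.S1069.result hK
  obtain ⟨k, hk⟩ := three_pow_mod_eight m
  set q := 3 ^ (2 * m + 1) with hq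
  set t₁ := q + 3 ^ (m + 1) + 1 with ht₁
  set t₂ := q - 3 ^ (m + 1) + 1 with ht₂
  have hGM : Nat.card ↥(twistedG2 K (3 ^ m)) = q ^ 3 * (q ^ 2 - 1) * (t₂ * t₁) := by
    rw [hG, hfac, hk, ree_order_eq, ree_N0_eq]
    have e1 : (8 * k + 3) ^ 2 - 1 = 8 * ((4 * k + 1) * (2 * k + 1)) := by
      have : (8 * k + 3) ^ 2 = 8 * ((4 * k + 1) * (2 * k + 1)) + 1 := by ring
      omega
    rw [e1]
    ring
  have ht₁pos : 0 < t₁ := by rw [ht₁]; omega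
  have ht₂pos : 0 < t₂ := by rw [ht₂]; omega
  -- elements of order `i` dividing one of the two numbers belong to the corresponding class
  have key : ∀ (i : ℕ), 1 < i → ∀ x : ↥(twistedG2 K (3 ^ m)), orderOf x = i →
      i ∣ t₂ * t₁ → x ≠ 1 ∧ x ^ (q ^ 2 - q + 1) = 1 := by
    intro i hi x hx hid
    refine ⟨?_, ?_⟩
    · rintro rfl
      rw [orderOf_one] at hx
      omega
    · apply orderOf_dvd_iff_pow_eq_one.1
      rw [hx, ← hfac]
      exact hid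
  have hdvdcard : ∀ x : ↥(twistedG2 K (3 ^ m)), x ^ (q ^ 2 - q + 1) = 1 →
      orderOf x ∣ Nat.card (cN (q ^ 2 - q + 1) x) := by
    intro x hxN
    have := orderOf_dvd_natCard (⟨x, self_mem_cN hxN⟩ : cN (q ^ 2 - q + 1) x)
    rwa [Subgroup.orderOf_mk] at this
  constructor
  · intro i hi hid
    have h1 := card_orderOf_mul_normalizer h0 hx₂1 hx₂N i hi (by rw [hx₂c]; exact hid) (by
      intro x hx
      obtain ⟨hx1, hxN⟩ := key i hi x hx (dvd_mul_of_dvd_left hid _)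
      obtain ⟨c, hc⟩ := hconj x hx1 hxN
      rcases hc with hc | hc
      · exfalso
        have h2 := hdvdcard x hxN
        rw [hc, card_map_conj, hx₁c, hx] at h2
        have h3 : i ∣ Nat.gcd t₂ t₁ := Nat.dvd_gcd hid h2
        rw [hcop.gcd_eq_one] at h3
        have := Nat.le_of_dvd (by norm_num) h3
        omega
      · exact ⟨c, hc⟩)
    rw [hx₂n, hGM] at h1
    apply Nat.eq_of_mul_eq_mul_right ht₂pos
    calc 6 * Nat.card {g : ↥(twistedG2 K (3 ^ m)) // orderOf g = i} * t₂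
        = Nat.card {g : ↥(twistedG2 K (3 ^ m)) // orderOf g = i} * (6 * t₂) := by ring
      _ = _ := h1
      _ = _ := by ring
  · intro i hi hid
    have h1 := card_orderOf_mul_normalizer h0 hx₁1 hx₁N i hi (by rw [hx₁c]; exact hid) (by
      intro x hx
      obtain ⟨hx1, hxN⟩ := key i hi x hx (dvd_mul_of_dvd_right hid _)
      obtain ⟨c, hc⟩ := hconj x hx1 hxN
      rcases hc with hc | hc
      · exact ⟨c, hc⟩
      · exfalso
        have h2 := hdvdcard x hxN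
        rw [hc, card_map_conj, hx₂c, hx] at h2
        have h3 : i ∣ Nat.gcd t₂ t₁ := Nat.dvd_gcd h2 hid
        rw [hcop.gcd_eq_one] at h3
        have := Nat.le_of_dvd (by norm_num) h3
        omega)
    rw [hx₁n, hGM] at h1
    apply Nat.eq_of_mul_eq_mul_right ht₁pos
    calc 6 * Nat.card {g : ↥(twistedG2 K (3 ^ m)) // orderOf g = i} * t₁
        = Nat.card {g : ↥(twistedG2 K (3 ^ m)) // orderOf g = i} * (6 * t₁) := by ring
      _ = _ := h1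
      _ = _ := by ring

end ree

end Cfsg.Agent.Lib.Helper13.ReeTI
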