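/-
helper13: the Ree groups `²G₂(q)`, `q = 3^(2m+1)`, `r = 3^(m+1)`: the number of elements of each order
(statement S2357), from the counting inputs.
-/
import Mathlib
import Cfsg.Agent.Lib.Helper13.ReeTIM

set_option autoImplicit false

namespace Cfsg.Agent.Lib.Helper13.ReeTI

open Subgroup Cfsg Cfsg.Lie Matrix Cfsg.Agent.Lib.Helper7 Cfsg.Agent.Lib.Helper27.ReeCent
  Cfsg.Agent.Lib.Helper13.ReeCyc

section ree

variable {K : Type*} [Field K] [Fintype K] {m : ℕ} (hK : Fintype.card K = 3 ^ (2 * m + 1))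
include hK

/-- orders `i > 2` dividing `q - 1` -/
theorem ree_card_order_torus (hm : 1 ≤ m)
    (hH : Nat.card (normalizer (reeTorus K m : Set ↥(twistedG2 K (3 ^ m)))) =
      2 * (3 ^ (2 * m + 1) - 1))
    (hO : ∀ j : ℕ, 1 < j → j ∣ (3 ^ (2 * m + 1) - 1) / 2 →
      Nat.card {g : ↥(twistedG2 K (3 ^ m)) // orderOf g = 2 * j} =
        Nat.card {g : ↥(twistedG2 K (3 ^ m)) // orderOf g = j})
    (i : ℕ) (hi : 2 < i) (hid : i ∣ 3 ^ (2 * m + 1) - 1) :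
    2 * Nat.card {g : ↥(twistedG2 K (3 ^ m)) // orderOf g = i} =
      Nat.totient i * (3 ^ (2 * m + 1)) ^ 3 * ((3 ^ (2 * m + 1)) ^ 3 + 1) := by
  obtain ⟨k, hk⟩ := three_pow_mod_eight m
  have hN1 : (3 ^ (2 * m + 1) - 1) / 2 = 4 * k + 1 := by rw [hk, ree_N1_eq]
  have e3 : 3 ^ (2 * m + 1) - 1 = 2 * (4 * k + 1) := by rw [hk]; omega
  rcases Nat.even_or_odd i with he | ho
  · obtain ⟨j, hj⟩ := he
    have hj2 : i = 2 * j := by rw [hj]; ring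
    subst hj2
    have hjd : j ∣ (3 ^ (2 * m + 1) - 1) / 2 := by
      rw [hN1]
      rw [e3] at hid
      exact Nat.dvd_of_mul_dvd_mul_left (by norm_num) hid
    have hj1 : 1 < j := by omega
    have hjodd : Odd j := by
      rw [hN1] at hjd
      have : Odd (4 * k + 1) := ⟨2 * k, by ring⟩
      exact Odd.of_dvd_nat this hjd
    have htot : Nat.totient (2 * j) = Nat.totient j := by
      rw [Nat.totient_mul ((Nat.coprime_two_left).2 hjodd), Nat.totient_two, one_mul]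
    rw [hO j hj1 hjd, htot]
    exact ree_card_order_minus hK hm hH j hj1 hjd
  · have hcop : Nat.Coprime i 2 := (Nat.coprime_two_right).2 ho
    have hid' : i ∣ (3 ^ (2 * m + 1) - 1) / 2 := by
      rw [hN1]
      rw [e3] at hid
      exact hcop.dvd_of_dvd_mul_left hid
    exact ree_card_order_minus hK hm hH i (by omega) hid'

theorem ree_order_counts (hm : 1 ≤ m) (harith : ToriArith)
    (hE : 8 * Nat.card {g : ↥(twistedG2 K (3 ^ m)) // Even (orderOf g)} =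
      (3 ^ (2 * m + 1)) ^ 2 * ((3 ^ (2 * m + 1)) ^ 2 - 3 ^ (2 * m + 1) + 1) *
        (3 * 3 ^ (2 * m + 1) * ((3 ^ (2 * m + 1)) ^ 2 - 1)))
    (hF : Nat.card {g : ↥(twistedG2 K (3 ^ m)) // g ^ ((3 ^ (2 * m + 1)) ^ 3) = 1} =
      (3 ^ (2 * m + 1)) ^ 6)
    (hH : Nat.card (normalizer (reeTorus K m : Set ↥(twistedG2 K (3 ^ m)))) =
      2 * (3 ^ (2 * m + 1) - 1))
    (hA : ∃ A : Subgroup ↥(twistedG2 K (3 ^ m)), IsCyclic A ∧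
      Nat.card A = (3 ^ (2 * m + 1) + 1) / 4 ∧
      Nat.card (normalizer (A : Set ↥(twistedG2 K (3 ^ m)))) = 6 * (3 ^ (2 * m + 1) + 1))
    (h2 : Nat.card {g : ↥(twistedG2 K (3 ^ m)) // orderOf g = 2} =
      (3 ^ (2 * m + 1)) ^ 2 * ((3 ^ (2 * m + 1)) ^ 2 - 3 ^ (2 * m + 1) + 1))
    (h3 : Nat.card {g : ↥(twistedG2 K (3 ^ m)) // orderOf g = 3} =
      ((3 ^ (2 * m + 1)) ^ 2 - 1) * ((3 ^ (2 * m + 1)) ^ 3 + 1))
    (h6 : Nat.card {g : ↥(twistedG2 K (3 ^ m)) // orderOf g = 6} =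
      (3 ^ (2 * m + 1)) ^ 2 * (3 ^ (2 * m + 1) - 1) * ((3 ^ (2 * m + 1)) ^ 3 + 1))
    (h9 : Nat.card {g : ↥(twistedG2 K (3 ^ m)) // orderOf g = 9} =
      (3 ^ (2 * m + 1)) ^ 2 * (3 ^ (2 * m + 1) - 1) * ((3 ^ (2 * m + 1)) ^ 3 + 1))
    (hO1 : ∀ j : ℕ, 1 < j → j ∣ (3 ^ (2 * m + 1) - 1) / 2 →
      Nat.card {g : ↥(twistedG2 K (3 ^ m)) // orderOf g = 2 * j} =
        Nat.card {g : ↥(twistedG2 K (3 ^ m)) // orderOf g = j})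
    (hO2 : ∀ i : ℕ, 1 < i → i ∣ (3 ^ (2 * m + 1) + 1) / 4 →
      Nat.card {g : ↥(twistedG2 K (3 ^ m)) // orderOf g = 2 * i} =
        3 * Nat.card {g : ↥(twistedG2 K (3 ^ m)) // orderOf g = i}) :
    Nat.card {g : ↥(Cfsg.Lie.twistedG2 K (3 ^ m)) // orderOf g = 2} = (3 ^ (2 * m + 1)) ^ 2 * ((3 ^ (2 * m + 1)) ^ 2 - 3 ^ (2 * m + 1) + 1) ∧
    Nat.card {g : ↥(Cfsg.Lie.twistedG2 K (3 ^ m)) // orderOf g = 3} = ((3 ^ (2 * m + 1)) ^ 2 - 1) * ((3 ^ (2 * m + 1)) ^ 3 + 1) ∧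
    Nat.card {g : ↥(Cfsg.Lie.twistedG2 K (3 ^ m)) // orderOf g = 6} = (3 ^ (2 * m + 1)) ^ 2 * (3 ^ (2 * m + 1) - 1) * ((3 ^ (2 * m + 1)) ^ 3 + 1) ∧
    Nat.card {g : ↥(Cfsg.Lie.twistedG2 K (3 ^ m)) // orderOf g = 9} = (3 ^ (2 * m + 1)) ^ 2 * (3 ^ (2 * m + 1) - 1) * ((3 ^ (2 * m + 1)) ^ 3 + 1) ∧
    (∀ i : ℕ, 2 < i → i ∣ 3 ^ (2 * m + 1) - 1 →
      2 * Nat.card {g : ↥(Cfsg.Lie.twistedG2 K (3 ^ m)) // orderOf g = i} = Nat.totient i * (3 ^ (2 * m + 1)) ^ 3 * ((3 ^ (2 * m + 1)) ^ 3 + 1)) ∧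
    (∀ i : ℕ, 1 < i → i ∣ (3 ^ (2 * m + 1) + 1) / 4 →
      6 * Nat.card {g : ↥(Cfsg.Lie.twistedG2 K (3 ^ m)) // orderOf g = i} =
          Nat.totient i * (3 ^ (2 * m + 1)) ^ 3 * (3 ^ (2 * m + 1) - 1) * ((3 ^ (2 * m + 1)) ^ 2 - 3 ^ (2 * m + 1) + 1) ∧
        2 * Nat.card {g : ↥(Cfsg.Lie.twistedG2 K (3 ^ m)) // orderOf g = 2 * i} =
          Nat.totient i * (3 ^ (2 * m + 1)) ^ 3 * (3 ^ (2 * m + 1) - 1) * ((3 ^ (2 * m + 1)) ^ 2 - 3 ^ (2 * m + 1) + 1)) ∧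
    (∀ i : ℕ, 1 < i → i ∣ 3 ^ (2 * m + 1) - 3 ^ (m + 1) + 1 →
      6 * Nat.card {g : ↥(Cfsg.Lie.twistedG2 K (3 ^ m)) // orderOf g = i} =
        Nat.totient i * (3 ^ (2 * m + 1)) ^ 3 * ((3 ^ (2 * m + 1)) ^ 2 - 1) * (3 ^ (2 * m + 1) + 3 ^ (m + 1) + 1)) ∧
    (∀ i : ℕ, 1 < i → i ∣ 3 ^ (2 * m + 1) + 3 ^ (m + 1) + 1 →
      6 * Nat.card {g : ↥(Cfsg.Lie.twistedG2 K (3 ^ m)) // orderOf g = i} =
        Nat.totient i * (3 ^ (2 * m + 1)) ^ 3 * ((3 ^ (2 * m + 1)) ^ 2 - 1) * (3 ^ (2 * m + 1) - 3 ^ (m + 1) + 1)) := by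
  have hD := ree_card_D_pi hK hm hE hF hH hA
  obtain ⟨hpi1, hpi2⟩ := ree_card_order_pi hK hm harith hD
  refine ⟨h2, h3, h6, h9, ?_, ?_, hpi1, hpi2⟩
  · intro i hi hid
    exact ree_card_order_torus hK hm hH hO1 i hi hid
  · intro i hi hid
    have h1 := ree_card_order_plus hK hm hA i hi hid
    refine ⟨h1, ?_⟩
    rw [hO2 i hi hid, ← h1]
    ring

end ree

end Cfsg.Agent.Lib.Helper13.ReeTI
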