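/-
helper13: the Ree groups `²G₂(q)`: the counting inputs of `ReeTIJ/K/N` from the libraries of helper6
(`3`-elements), helper7 (elements of even order), helper27 (normalizer of the cyclic subgroup of order
`(q+1)/4`).
-/
import Mathlib
import Cfsg.Agent.Lib.Helper13.ReeTIN
import Cfsg.Agent.Lib.Helper6.ReeThreeElts
import Cfsg.Agent.Lib.Helper7.ReeEvenCount
import Cfsg.Agent.Lib.Helper27.ReePlusC

set_option autoImplicit false

namespace Cfsg.Agent.Lib.Helper13.ReeTI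

open Subgroup Cfsg Cfsg.Lie Matrix Cfsg.Agent.Lib.Helper7 Cfsg.Agent.Lib.Helper27.ReeCent
  Cfsg.Agent.Lib.Helper13.ReeCyc

section ree

variable {K : Type*} [Field K] [Fintype K] {m : ℕ} (hK : Fintype.card K = 3 ^ (2 * m + 1))
include hK

theorem ree_input_even (hm : 1 ≤ m)
    (hodd : 8 * Nat.card {x : Matrix.ProjectiveSpecialLinearGroup (Fin 2) K // Odd (orderOf x)} =
      3 * Fintype.card K * (Fintype.card K ^ 2 - 1)) :
    8 * Nat.card {g : ↥(twistedG2 K (3 ^ m)) // Even (orderOf g)} =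
      (3 ^ (2 * m + 1)) ^ 2 * ((3 ^ (2 * m + 1)) ^ 2 - 3 ^ (2 * m + 1) + 1) *
        (3 * 3 ^ (2 * m + 1) * ((3 ^ (2 * m + 1)) ^ 2 - 1)) := by
  rw [Cfsg.Agent.Lib.Helper7.ReeEven.card_even_elements hK hm]
  rw [hK] at hodd
  rw [← hodd]
  ring

theorem ree_input_three :
    Nat.card {g : ↥(twistedG2 K (3 ^ m)) // g ^ ((3 ^ (2 * m + 1)) ^ 3) = 1} =
      (3 ^ (2 * m + 1)) ^ 6 :=
  Cfsg.Agent.Lib.Helper6.ReeThree.card_three_elements hK

theorem ree_input_plus (hm : 1 ≤ m) :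
    ∃ A : Subgroup ↥(twistedG2 K (3 ^ m)), IsCyclic A ∧
      Nat.card A = (3 ^ (2 * m + 1) + 1) / 4 ∧
      Nat.card (normalizer (A : Set ↥(twistedG2 K (3 ^ m)))) = 6 * (3 ^ (2 * m + 1) + 1) :=
  Cfsg.Agent.Lib.Helper27.ReePlus.exists_cyclic_plus hK hm

theorem card_mod_eight : Fintype.card K % 8 = 3 := by
  obtain ⟨k, hk⟩ := three_pow_mod_eight m
  rw [hK, hk]
  omega

end ree

end Cfsg.Agent.Lib.Helper13.ReeTI
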