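/-
helper13: the Ree groups `²G₂(q)`: statements S1158, S1159, S2357 from the single remaining input (the
order of the normalizer of the torus), all other inputs being supplied by the libraries of helper6,
helper7, helper21, helper27.
-/
import Mathlib
import Cfsg.Agent.Lib.Helper13.ReeTIO
import Cfsg.Agent.Lib.Helper6.ReeToriArith
import Cfsg.Agent.Lib.Helper21.PSL2OddCount
import Cfsg.Agent.Lib.Helper27.ReeEvenOrd
import Cfsg.Agent.Lib.Helper27.ReeTwoMulB
import Cfsg.Agent.Lib.Helper7.ReeOrderSix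

set_option autoImplicit false

namespace Cfsg.Agent.Lib.Helper13.ReeTI

open Subgroup Cfsg Cfsg.Lie Matrix Cfsg.Agent.Lib.Helper7 Cfsg.Agent.Lib.Helper27.ReeCent
  Cfsg.Agent.Lib.Helper13.ReeCyc

theorem toriArith : ToriArith := Cfsg.Agent.Lib.Helper6.ReeArith.ree_tori_arith

section ree

variable {K : Type*} [Field K] [Fintype K] {m : ℕ} (hK : Fintype.card K = 3 ^ (2 * m + 1))
include hK

theorem ree_input_even' (hm : 1 ≤ m) :
    8 * Nat.card {g : ↥(twistedG2 K (3 ^ m)) // Even (orderOf g)} =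
      (3 ^ (2 * m + 1)) ^ 2 * ((3 ^ (2 * m + 1)) ^ 2 - 3 ^ (2 * m + 1) + 1) *
        (3 * 3 ^ (2 * m + 1) * ((3 ^ (2 * m + 1)) ^ 2 - 1)) :=
  ree_input_even hK hm
    (Cfsg.Agent.Lib.Helper21.PSL2OddCount.card_odd_PSL2 (card_mod_eight hK))

end ree

end Cfsg.Agent.Lib.Helper13.ReeTI
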