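/-
helper13: abstract Ree data (helper9 `ReeAbs`): the normalizer of the torus `H` is `H ∪ n0 H`, of order
`2 |H|`.
-/
import Mathlib
import Cfsg.Agent.Lib.Helper9.ReeOutC
import Cfsg.Agent.Lib.Helper13.ReeTIB

set_option autoImplicit false

namespace Cfsg.Agent.Lib.Helper13.ReeTorusN

open Subgroup Cfsg.Agent.Lib.Helper9.ReeOut Cfsg.Agent.Lib.Helper13.ReeTI

variable {F : Type*} [Field F] {G : Type*} [Group G] (R : ReeAbs F G)

theorem mem_H_iff (g : G) : g ∈ R.H ↔ ∃ l, R.hh l = g := Iff.rfl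

theorem H_le_B : R.H ≤ R.B := by
  rintro _ ⟨l, rfl⟩
  exact R.hh_mem_B l

/-- an element of `B` conjugating `H` into `H` lies in `H` -/
theorem mem_H_of_mem_B (l₁ : Fˣ) (hl₁ : l₁ ^ 2 ≠ 1) (b : G) (hb : b ∈ R.B)
    (h : ∀ z ∈ R.H, b⁻¹ * z * b ∈ R.H) : b ∈ R.H := by
  obtain ⟨l, t, u, v, rfl⟩ := (R.mem_B' b).mp hb
  have h1 : ∀ l' : Fˣ, ∃ l₃ : Fˣ,
      (R.x t u v * R.hh l)⁻¹ * R.hh l' * (R.x t u v * R.hh l) = R.hh l₃ := by
    intro l'
    obtain ⟨l₃, hl₃⟩ := h (R.hh l') ⟨l', rfl⟩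
    exact ⟨l₃, hl₃.symm⟩
  obtain ⟨rfl, rfl, rfl⟩ := R.mem_H_of_normalizes l₁ hl₁ t u v l h1
  rw [R.x_zero, one_mul]
  exact ⟨l, rfl⟩

variable [Finite G]

/-- `n0` normalizes `H` -/
theorem n0_inv_mem_normalizer : R.n0⁻¹ ∈ normalizer (R.H : Set G) := by
  apply mem_normalizer_fintype
  rintro _ ⟨l, rfl⟩
  obtain ⟨l', hl'⟩ := R.n0_H l
  rw [inv_inv, hl']
  exact ⟨l', rfl⟩

theorem n0_mem_normalizer : R.n0 ∈ normalizer (R.H : Set G) := by
  have := Subgroup.inv_mem _ (n0_inv_mem_normalizer R)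
  rwa [inv_inv] at this

/-- the elements of the normalizer of `H` -/
theorem mem_normalizer_H (l₁ : Fˣ) (hl₁ : l₁ ^ 2 ≠ 1) (g : G)
    (hg : g ∈ normalizer (R.H : Set G)) : g ∈ R.H ∨ ∃ h ∈ R.H, g = R.n0 * h := by
  have hg' := (mem_normalizer_iff_set R.H g).1 hg
  have hginv := (mem_normalizer_iff_set R.H g⁻¹).1 (Subgroup.inv_mem _ hg)
  rcases R.cells g with hB | ⟨b, hb, b', hb', rfl⟩
  · left
    apply mem_H_of_mem_B R l₁ hl₁ g hB
    intro z hz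
    have := (hginv z).1 hz
    rwa [inv_inv] at this
  · right
    -- `b ∈ H`
    have hbH : b ∈ R.H := by
      apply mem_H_of_mem_B R l₁ hl₁ b hb
      intro z hz
      have h1 := (hginv z).1 hz
      rw [inv_inv] at h1
      -- `(b n0 b')⁻¹ z (b n0 b') ∈ H ≤ B`
      have h2 : R.n0⁻¹ * (b⁻¹ * z * b) * R.n0 ∈ R.B := by
        have e : R.n0⁻¹ * (b⁻¹ * z * b) * R.n0 =
            b' * ((b * R.n0 * b')⁻¹ * z * (b * R.n0 * b')) * b'⁻¹ := by group
        rw [e]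
        exact R.B.mul_mem (R.B.mul_mem hb' (H_le_B R h1)) (R.B.inv_mem hb')
      have h3 : b⁻¹ * z * b ∈ R.B :=
        R.B.mul_mem (R.B.mul_mem (R.B.inv_mem hb) (H_le_B R hz)) hb
      obtain ⟨l, hl⟩ := R.inf_conj _ h3 h2
      exact ⟨l, hl.symm⟩
    -- `b' ∈ H`
    have hb'H : b' ∈ R.H := by
      have h0 : b'⁻¹ ∈ R.H := by
        apply mem_H_of_mem_B R l₁ hl₁ b'⁻¹ (R.B.inv_mem hb')
        intro z hz
        rw [inv_inv]
        have h1 := (hg' z).1 hz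
        -- `w = n0 (b' z b'⁻¹) n0⁻¹ ∈ B`
        have h2 : R.n0 * (b' * z * b'⁻¹) * R.n0⁻¹ ∈ R.B := by
          have e : R.n0 * (b' * z * b'⁻¹) * R.n0⁻¹ =
              b⁻¹ * ((b * R.n0 * b') * z * (b * R.n0 * b')⁻¹) * b := by group
          rw [e]
          exact R.B.mul_mem (R.B.mul_mem (R.B.inv_mem hb) (H_le_B R h1)) hb
        have h3 : R.n0⁻¹ * (R.n0 * (b' * z * b'⁻¹) * R.n0⁻¹) * R.n0 ∈ R.B := by
          have e : R.n0⁻¹ * (R.n0 * (b' * z * b'⁻¹) * R.n0⁻¹) * R.n0 = b' * z * b'⁻¹ := by group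
          rw [e]
          exact R.B.mul_mem (R.B.mul_mem hb' (H_le_B R hz)) (R.B.inv_mem hb')
        obtain ⟨l, hl⟩ := R.inf_conj _ h2 h3
        obtain ⟨l', hl'⟩ := R.n0_H l
        refine ⟨l', ?_⟩
        rw [← hl', ← hl]
        group
      have := R.H.inv_mem h0
      rwa [inv_inv] at this
    -- `g = b n0 b' = n0 (n0⁻¹ b n0) b'`
    obtain ⟨l, rfl⟩ := hbH
    obtain ⟨l', hl'⟩ := R.n0_H l
    refine ⟨R.hh l' * b', R.H.mul_mem ⟨l', rfl⟩ hb'H, ?_⟩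
    rw [← hl']
    group

/-- **the normalizer of the torus has order `2 |H|`** -/
theorem card_normalizer_H (l₁ : Fˣ) (hl₁ : l₁ ^ 2 ≠ 1) :
    Nat.card (normalizer (R.H : Set G)) = 2 * Nat.card R.H := by
  have hHN : R.H ≤ normalizer (R.H : Set G) := le_normalizer
  let f : R.H ⊕ R.H → normalizer (R.H : Set G) := fun s =>
    match s with
    | Sum.inl h => ⟨h.1, hHN h.2⟩
    | Sum.inr h => ⟨R.n0 * h.1, Subgroup.mul_mem _ (n0_mem_normalizer R) (hHN h.2)⟩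
  have hn0 : ∀ h ∈ R.H, ∀ h' ∈ R.H, h ≠ R.n0 * h' := by
    intro h hh h' hh' e
    apply R.n0_not_mem
    have : R.n0 = h * h'⁻¹ := by rw [e]; group
    rw [this]
    exact H_le_B R (R.H.mul_mem hh (R.H.inv_mem hh'))
  have hf : Function.Bijective f := by
    constructor
    · rintro (a | a) (b | b) hab
      · have h0 : (f (Sum.inl a)).1 = (f (Sum.inl b)).1 := congrArg Subtype.val hab
        have : a.1 = b.1 := h0
        exact congrArg Sum.inl (Subtype.ext this)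
      · exfalso
        have h0 : (f (Sum.inl a)).1 = (f (Sum.inr b)).1 := congrArg Subtype.val hab
        have : a.1 = R.n0 * b.1 := h0
        exact hn0 a.1 a.2 b.1 b.2 this
      · exfalso
        have h0 : (f (Sum.inr a)).1 = (f (Sum.inl b)).1 := congrArg Subtype.val hab
        have : R.n0 * a.1 = b.1 := h0
        exact hn0 b.1 b.2 a.1 a.2 this.symm
      · have h0 : (f (Sum.inr a)).1 = (f (Sum.inr b)).1 := congrArg Subtype.val hab
        have : R.n0 * a.1 = R.n0 * b.1 := h0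
        exact congrArg Sum.inr (Subtype.ext (mul_left_cancel this))
    · rintro ⟨g, hg⟩
      rcases mem_normalizer_H R l₁ hl₁ g hg with h | ⟨h, hh, rfl⟩
      · exact ⟨Sum.inl ⟨g, h⟩, rfl⟩
      · exact ⟨Sum.inr ⟨h, hh⟩, rfl⟩
  rw [← Nat.card_congr (Equiv.ofBijective f hf), Nat.card_sum]
  ring

end Cfsg.Agent.Lib.Helper13.ReeTorusN
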