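/-
helper13: the normalizer of the torus `H¹` of the Ree group `²G₂(q)` has order `2 (q - 1)`
(from the abstract `ReeTorusN.card_normalizer_H` and helper9's Ree data of the fixed points).
-/
import Mathlib
import Cfsg.Agent.Lib.Helper13.ReeTorusN
import Cfsg.Agent.Lib.Helper9.ReeOutH
import Cfsg.Agent.Lib.Helper27.ReeCentD

set_option autoImplicit false

namespace Cfsg.Agent.Lib.Helper13.ReeTorusN

open Subgroup Cfsg Cfsg.Lie Matrix Cfsg.Agent.Lib.Helper7 Cfsg.Agent.Lib.Helper9.ReeOut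
  Cfsg.Agent.Lib.Helper27.ReeCent

variable {K : Type*} [Field K] [Fintype K] {m : ℕ}

theorem card_normalizer_reeTorus (hK : Fintype.card K = 3 ^ (2 * m + 1)) (hm : 1 ≤ m) :
    Nat.card ↥(Subgroup.normalizer ((reeTorus K m : Subgroup ↥(twistedG2 K (3 ^ m))) :
      Set ↥(twistedG2 K (3 ^ m)))) = 2 * (3 ^ (2 * m + 1) - 1) := by
  have hcardT := card_reeTorus hK (m := m)
  rw [← hcardT]
  obtain ⟨τ, hτ⟩ := exists_tauData hK
  have hsq := sq_dichotomy_of_card hK
  have hc := exists_ne_of_card hK hm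
  unfold reeTorus
  rw [twistedG2_eq_fixTau hτ hsq]
  obtain ⟨l₀, hgen⟩ := IsCyclic.exists_generator (α := Kˣ)
  have hl₀ : l₀ ^ 2 ≠ 1 := by
    intro h
    have h1 : orderOf l₀ ∣ 2 := orderOf_dvd_of_pow_eq_one h
    have h2 : orderOf l₀ = Nat.card Kˣ := orderOf_eq_card_of_forall_mem_zpowers hgen
    rw [h2, Nat.card_units, Nat.card_eq_fintype_card, hK] at h1
    have h3 := Nat.le_of_dvd (by norm_num) h1
    have h4 : 3 ^ 3 ≤ 3 ^ (2 * m + 1) := Nat.pow_le_pow_right (by norm_num) (by omega)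
    omega
  have hH : (reeAbs hτ hsq hc).H =
      (chevG2.diagonalSubgroup K).subgroupOf (fixTau K τ) := by
    ext g
    rw [Subgroup.mem_subgroupOf]
    constructor
    · rintro ⟨l, rfl⟩
      exact (Subgroup.mem_inf.mp (hhFix_mem hτ hsq l)).1
    · intro hg
      obtain ⟨l, hl⟩ := hhFix_surj hτ hsq g.1 (Subgroup.mem_inf.mpr ⟨hg, g.2⟩)
      exact ⟨l, Subtype.ext hl⟩
  rw [← hH]
  exact card_normalizer_H (reeAbs hτ hsq hc) l₀ hl₀

end Cfsg.Agent.Lib.Helper13.ReeTorusN
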