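import Mathlib

/-!
helper13: S3805 (helper8), Part A, file G: the triangle group `Δ(3,3,3)`:
for `p ^ 3 = q ^ 3 = (p q) ^ 3 = 1` the subgroup `K = ⟨p q⁻¹, q⁻¹ p⟩` is abelian, normalized by `p`,
and `k · k^p · k^(p²) = 1` on `K`.
-/

set_option autoImplicit false

namespace Cfsg.Agent.Lib.Helper13.S3805Loc

variable {G : Type*} [Group G]

/-- reordering a product of commuting elements -/
theorem mul_six (a b c a' b' c' : G) (h1 : Commute a' b) (h2 : Commute a' c) (h3 : Commute b' c) :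
    (a * a') * (b * b') * (c * c') = (a * b * c) * (a' * b' * c') := by
  calc (a * a') * (b * b') * (c * c') = a * (a' * b) * (b' * c) * c' := by group
    _ = a * (b * a') * (c * b') * c' := by rw [h1.eq, h3.eq]
    _ = a * b * (a' * c) * b' * c' := by group
    _ = a * b * (c * a') * b' * c' := by rw [h2.eq]
    _ = (a * b * c) * (a' * b' * c') := by group

/-- the relations of `Δ(3,3,3)` -/
structure Tri (p q : G) : Prop where
  p3 : p ^ 3 = 1
  q3 : q ^ 3 = 1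
  z3 : (p * q) ^ 3 = 1

namespace Tri

variable {p q : G}

/-- the translation subgroup -/
def K (p q : G) : Subgroup G := Subgroup.closure {p * q⁻¹, q⁻¹ * p}

theorem pp (h : Tri p q) : p * p = p⁻¹ := by
  apply eq_inv_of_mul_eq_one_left
  rw [← pow_two, ← pow_succ]; exact h.p3

theorem p_inv (h : Tri p q) : p⁻¹ = p * p := h.pp.symm

theorem qq (h : Tri p q) : q⁻¹ * q⁻¹ = q := by
  have h1 : q * q = q⁻¹ := by
    apply eq_inv_of_mul_eq_one_left
    rw [← pow_two, ← pow_succ]; exact h.q3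
  rw [← h1]
  have : q * q * (q * q) = q ^ 3 * q := by rw [pow_succ, pow_two]; group
  rw [this, h.q3, one_mul]

theorem t12 (h : Tri p q) : (p * q⁻¹) * (q⁻¹ * p) = p * q * p := by
  calc (p * q⁻¹) * (q⁻¹ * p) = p * (q⁻¹ * q⁻¹) * p := by group
    _ = p * q * p := by rw [h.qq]

theorem pqp (h : Tri p q) : p * q * p = (q * p * q)⁻¹ := by
  apply eq_inv_of_mul_eq_one_left
  have : p * q * p * (q * p * q) = (p * q) ^ 3 := by rw [pow_succ, pow_two]; group
  rw [this, h.z3]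

theorem t21 (h : Tri p q) : (q⁻¹ * p) * (p * q⁻¹) = p * q * p := by
  calc (q⁻¹ * p) * (p * q⁻¹) = q⁻¹ * (p * p) * q⁻¹ := by group
    _ = q⁻¹ * p⁻¹ * q⁻¹ := by rw [h.pp]
    _ = (q * p * q)⁻¹ := by group
    _ = p * q * p := h.pqp.symm

theorem comm_gen (h : Tri p q) : (p * q⁻¹) * (q⁻¹ * p) = (q⁻¹ * p) * (p * q⁻¹) := by
  rw [h.t12, h.t21]

theorem t1_mem : p * q⁻¹ ∈ K p q := Subgroup.subset_closure (by simp)
theorem t2_mem : q⁻¹ * p ∈ K p q := Subgroup.subset_closure (by simp)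

theorem kappa_mem (h : Tri p q) : p * q * p ∈ K p q := by
  rw [← h.t12]
  exact (K p q).mul_mem t1_mem t2_mem

/-- `K` is abelian -/
theorem comm (h : Tri p q) : ∀ u ∈ K p q, ∀ v ∈ K p q, u * v = v * u := by
  have hcomm : ∀ x ∈ ({p * q⁻¹, q⁻¹ * p} : Set G), ∀ y ∈ ({p * q⁻¹, q⁻¹ * p} : Set G),
      x * y = y * x := by
    intro x hx y hy
    rcases hx with rfl | rfl <;> rcases hy with rfl | rfl
    · rfl
    · exact h.comm_gen
    · exact h.comm_gen.symm
    · rfl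
  intro u hu v hv
  have := (Subgroup.isMulCommutative_closure hcomm).is_comm.comm
    (⟨u, hu⟩ : ↥(Subgroup.closure ({p * q⁻¹, q⁻¹ * p} : Set G))) ⟨v, hv⟩
  exact congrArg Subtype.val this

theorem sig_t2 : p * (q⁻¹ * p) * p⁻¹ = p * q⁻¹ := by group

theorem sig_t1 (h : Tri p q) : p * (p * q⁻¹) * p⁻¹ = (p * q * p)⁻¹ := by
  calc p * (p * q⁻¹) * p⁻¹ = (p * p) * q⁻¹ * p⁻¹ := by group
    _ = p⁻¹ * q⁻¹ * p⁻¹ := by rw [h.pp]
    _ = (p * q * p)⁻¹ := by group

/-- `K` is normalized by `p` -/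
theorem sig_mem (h : Tri p q) : ∀ k ∈ K p q, p * k * p⁻¹ ∈ K p q := by
  intro k hk
  induction hk using Subgroup.closure_induction with
  | mem x hx =>
    rcases hx with rfl | rfl
    · rw [h.sig_t1]; exact (K p q).inv_mem h.kappa_mem
    · rw [sig_t2]; exact t1_mem
  | one => simp
  | mul x y _ _ hx hy =>
    have : p * (x * y) * p⁻¹ = (p * x * p⁻¹) * (p * y * p⁻¹) := by group
    rw [this]; exact (K p q).mul_mem hx hy
  | inv x _ hx =>
    have : p * x⁻¹ * p⁻¹ = (p * x * p⁻¹)⁻¹ := by group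
    rw [this]; exact (K p q).inv_mem hx

theorem tau_eq (h : Tri p q) (k : G) : p⁻¹ * k * p = p * (p * k * p⁻¹) * p⁻¹ := by
  have e : p = (p * p)⁻¹ := by rw [h.pp, inv_inv]
  calc p⁻¹ * k * p = (p * p) * k * (p * p)⁻¹ := by rw [← e, h.pp]
    _ = p * (p * k * p⁻¹) * p⁻¹ := by group

theorem tau_mem (h : Tri p q) : ∀ k ∈ K p q, p⁻¹ * k * p ∈ K p q := by
  intro k hk
  rw [h.tau_eq]
  exact h.sig_mem _ (h.sig_mem k hk)

/-- the norm as a cube -/
theorem norm_eq (h : Tri p q) (k : G) :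
    k * (p⁻¹ * k * p) * (p * k * p⁻¹) = (k * p⁻¹) ^ 3 := by
  calc k * (p⁻¹ * k * p) * (p * k * p⁻¹) = k * p⁻¹ * k * (p * p) * k * p⁻¹ := by group
    _ = k * p⁻¹ * k * p⁻¹ * k * p⁻¹ := by rw [h.pp]
    _ = (k * p⁻¹) ^ 3 := by rw [pow_succ, pow_two]; group

/-- the norm is trivial on `K` -/
theorem norm (h : Tri p q) : ∀ k ∈ K p q, k * (p⁻¹ * k * p) * (p * k * p⁻¹) = 1 := by
  have hmul : ∀ k ∈ K p q, ∀ k' ∈ K p q,
      (k * k') * (p⁻¹ * (k * k') * p) * (p * (k * k') * p⁻¹) =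
        (k * (p⁻¹ * k * p) * (p * k * p⁻¹)) * (k' * (p⁻¹ * k' * p) * (p * k' * p⁻¹)) := by
    intro k hk k' hk'
    have e1 : p⁻¹ * (k * k') * p = (p⁻¹ * k * p) * (p⁻¹ * k' * p) := by group
    have e2 : p * (k * k') * p⁻¹ = (p * k * p⁻¹) * (p * k' * p⁻¹) := by group
    rw [e1, e2]
    apply mul_six
    · exact h.comm _ hk' _ (h.tau_mem k hk)
    · exact h.comm _ hk' _ (h.sig_mem k hk)
    · exact h.comm _ (h.tau_mem k' hk') _ (h.sig_mem k hk)
  intro k hk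
  induction hk using Subgroup.closure_induction with
  | mem x hx =>
    rw [h.norm_eq]
    rcases hx with rfl | rfl
    · -- `p q⁻¹ p⁻¹` is conjugate to `q⁻¹`
      have e2 : (p * q⁻¹ * p⁻¹) ^ 3 = p * (q ^ 3)⁻¹ * p⁻¹ := by
        rw [pow_succ, pow_two, pow_succ, pow_two]; group
      rw [e2, h.q3]; group
    · have e : q⁻¹ * p * p⁻¹ = q⁻¹ := by group
      rw [e, inv_pow, h.q3, inv_one]
  | one => simp
  | mul x y hx hy hx' hy' =>
    rw [hmul x hx y hy, hx', hy', one_mul]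
  | inv x hx hx' =>
    have h1 := hmul x⁻¹ ((K p q).inv_mem hx) x hx
    rw [hx', mul_one, inv_mul_cancel] at h1
    rw [← h1]; group

end Tri

end Cfsg.Agent.Lib.Helper13.S3805Loc
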