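import Mathlib
import Cfsg.Agent.Lib.Helper8.S3341Defs
import Cfsg.Agent.Lib.Helper13.S3805LocG

/-!
helper13: S3341 (helper8), leaf L1: Lemma Delta for a self-centralizing elementary abelian
subgroup `T` of order 9 (`Hyp T`), the TI-property `ti` and control of fusion `conj_in_T`.
-/

set_option autoImplicit false
set_option linter.style.haveILetI false
set_option linter.unusedSectionVars false

namespace Cfsg.Agent.Lib.Helper13.S3341Leaf

open Cfsg.Agent.Lib.Helper8.S3341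
open Cfsg.Agent.Lib.Helper13.S3805Loc

variable {G : Type*} [Group G] [Finite G] {T : Subgroup G}

/-- Lemma Delta, one-sided form -/
theorem delta_aux (h : Hyp T) (p q z : G) (hp : p ^ 3 = 1) (hq : q ^ 3 = 1)
    (hpq : p * q = z) (hz : z ∈ T) (hz1 : z ≠ 1) : (p ∈ T ∧ q ∈ T) ∨ IsConj p z⁻¹ := by
  classical
  subst hpq
  have htri : Tri p q := ⟨hp, hq, h.cube _ hz⟩
  -- `z` acts on `K` as `τ`
  have hzact : ∀ k ∈ Tri.K p q, (p * q) * k * (p * q)⁻¹ = p⁻¹ * k * p := by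
    intro k hk
    have hc := htri.comm _ htri.kappa_mem _ (htri.tau_mem k hk)
    calc (p * q) * k * (p * q)⁻¹ = (p * q * p) * (p⁻¹ * k * p) * (p * q * p)⁻¹ := by group
      _ = (p⁻¹ * k * p) * (p * q * p) * (p * q * p)⁻¹ := by rw [hc]
      _ = p⁻¹ * k * p := by group
  have htau2 : ∀ k : G, p⁻¹ * (p⁻¹ * k * p) * p = p * k * p⁻¹ := by
    intro k
    rw [htri.tau_eq (p⁻¹ * k * p)]; group
  by_cases hex : ∃ k ∈ Tri.K p q, k ≠ 1 ∧ k ^ 3 = 1
  · left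
    obtain ⟨k, hk, hk1, hk3⟩ := hex
    -- an element of order 3 of `K` centralized by `z`
    have hk0 : ∃ k0 ∈ Tri.K p q, k0 ≠ 1 ∧ k0 ^ 3 = 1 ∧ p⁻¹ * k0 * p = k0 := by
      by_cases hfix : p⁻¹ * k * p = k
      · exact ⟨k, hk, hk1, hk3, hfix⟩
      · have hu := htri.tau_mem k hk
        have hu3 : (p⁻¹ * k * p) ^ 3 = 1 := by
          have : (p⁻¹ * k * p) ^ 3 = p⁻¹ * k ^ 3 * p := by
            rw [pow_succ, pow_two, pow_succ, pow_two]; group
          rw [this, hk3]; group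
        have hc : Commute k⁻¹ (p⁻¹ * k * p) := htri.comm _ ((Tri.K p q).inv_mem hk) _ hu
        refine ⟨k⁻¹ * (p⁻¹ * k * p), (Tri.K p q).mul_mem ((Tri.K p q).inv_mem hk) hu, ?_, ?_, ?_⟩
        · intro he
          apply hfix
          exact (eq_of_inv_mul_eq_one he).symm
        · rw [hc.mul_pow, inv_pow, hk3, inv_one, one_mul, hu3]
        · -- `τ(k⁻¹ u) = u⁻¹ w = k⁻¹ u`
          have hn := htri.norm k hk
          have hw : p * k * p⁻¹ = (p⁻¹ * k * p)⁻¹ * k⁻¹ := by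
            have := eq_inv_of_mul_eq_one_right hn
            rw [this, mul_inv_rev]
          have huu : (p⁻¹ * k * p)⁻¹ * (p⁻¹ * k * p)⁻¹ = p⁻¹ * k * p := by
            have e1 : (p⁻¹ * k * p) * (p⁻¹ * k * p) * (p⁻¹ * k * p) = 1 := by
              rw [← hu3, pow_succ, pow_two]
            have e2 := eq_inv_of_mul_eq_one_left e1
            rw [← mul_inv_rev, ← inv_inv (p⁻¹ * k * p * (p⁻¹ * k * p))]
            rw [e2, inv_inv, inv_inv]
          calc p⁻¹ * (k⁻¹ * (p⁻¹ * k * p)) * p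
              = (p⁻¹ * k * p)⁻¹ * (p⁻¹ * (p⁻¹ * k * p) * p) := by group
            _ = (p⁻¹ * k * p)⁻¹ * ((p⁻¹ * k * p)⁻¹ * k⁻¹) := by rw [htau2, hw]
            _ = ((p⁻¹ * k * p)⁻¹ * (p⁻¹ * k * p)⁻¹) * k⁻¹ := by group
            _ = (p⁻¹ * k * p) * k⁻¹ := by rw [huu]
            _ = k⁻¹ * (p⁻¹ * k * p) := hc.eq.symm
    obtain ⟨k0, hk0K, hk01, hk03, hk0fix⟩ := hk0
    have hk0z : (p * q) * k0 * (p * q)⁻¹ = k0 := by rw [hzact k0 hk0K, hk0fix]
    have hk0T : k0 ∈ T := by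
      apply h.cent _ hz hz1
      calc k0 * (p * q) = (p * q) * k0 * (p * q)⁻¹ * (p * q) := by rw [hk0z]
        _ = (p * q) * k0 := by group
    have hKT : ∀ k ∈ Tri.K p q, k ∈ T := by
      intro k' hk'
      apply h.cent k0 hk0T hk01
      exact htri.comm k' hk' k0 hk0K
    have ht2 : q⁻¹ * p ∈ T := hKT _ Tri.t2_mem
    have hpp : p * p ∈ T := by
      have : p * p = (p * q) * (q⁻¹ * p) := by group
      rw [this]
      exact T.mul_mem hz ht2
    have hpT : p ∈ T := by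
      have : p = (p * p)⁻¹ := by rw [htri.pp, inv_inv]
      rw [this]
      exact T.inv_mem hpp
    refine ⟨hpT, ?_⟩
    have : q = p⁻¹ * (p * q) := by group
    rw [this]
    exact T.mul_mem (T.inv_mem hpT) hz
  · right
    push Not at hex
    have hex' : ∀ k ∈ Tri.K p q, k ^ 3 = 1 → k = 1 := by
      intro k hk hk3
      by_contra hne
      exact hex k hk hne hk3
    let φ : ↥(Tri.K p q) → ↥(Tri.K p q) := fun k =>
      ⟨k.1 * (p⁻¹ * k.1⁻¹ * p), (Tri.K p q).mul_mem k.2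
        (htri.tau_mem _ ((Tri.K p q).inv_mem k.2))⟩
    have hinj : Function.Injective φ := by
      rintro ⟨h1, hh1⟩ ⟨h2, hh2⟩ he
      have he' : h1 * (p⁻¹ * h1⁻¹ * p) = h2 * (p⁻¹ * h2⁻¹ * p) := congrArg Subtype.val he
      -- `d = h2⁻¹ h1` is fixed by `τ`
      have hd : h2⁻¹ * h1 ∈ Tri.K p q := (Tri.K p q).mul_mem ((Tri.K p q).inv_mem hh2) hh1
      have hfix : p⁻¹ * (h2⁻¹ * h1) * p = h2⁻¹ * h1 := by
        calc p⁻¹ * (h2⁻¹ * h1) * p = (p⁻¹ * h2⁻¹ * p) * (p⁻¹ * h1⁻¹ * p)⁻¹ := by group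
          _ = h2⁻¹ * (h2 * (p⁻¹ * h2⁻¹ * p)) * (p⁻¹ * h1⁻¹ * p)⁻¹ := by group
          _ = h2⁻¹ * (h1 * (p⁻¹ * h1⁻¹ * p)) * (p⁻¹ * h1⁻¹ * p)⁻¹ := by rw [he']
          _ = h2⁻¹ * h1 := by group
      have hfix' : p * (h2⁻¹ * h1) * p⁻¹ = h2⁻¹ * h1 := by
        nth_rewrite 1 [← hfix]; group
      have hn := htri.norm _ hd
      rw [hfix, hfix'] at hn
      have hd3 : (h2⁻¹ * h1) ^ 3 = 1 := by rw [pow_succ, pow_two]; exact hn
      have hd1 := hex' _ hd hd3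
      apply Subtype.ext
      exact (eq_of_inv_mul_eq_one hd1).symm
    have hsurj : Function.Surjective φ := Finite.surjective_of_injective hinj
    obtain ⟨⟨h', hh'⟩, hφ⟩ := hsurj ⟨p * q * p, htri.kappa_mem⟩
    have hφ' : h' * (p⁻¹ * h'⁻¹ * p) = p * q * p := congrArg Subtype.val hφ
    rw [isConj_iff]
    refine ⟨h', ?_⟩
    have e1 : p * q = h' * p⁻¹ * h'⁻¹ := by
      calc p * q = (p * q * p) * p⁻¹ := by group
        _ = h' * (p⁻¹ * h'⁻¹ * p) * p⁻¹ := by rw [hφ']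
        _ = h' * p⁻¹ * h'⁻¹ := by group
    rw [e1]; group

/-- Lemma Delta: if `p ^ 3 = q ^ 3 = 1` and `p q = z ∈ T^#` then `p, q ∈ T`, or both `p` and `q`
are conjugate to `z⁻¹`. -/
theorem delta (h : Hyp T) (p q z : G) (hp : p ^ 3 = 1) (hq : q ^ 3 = 1)
    (hpq : p * q = z) (hz : z ∈ T) (hz1 : z ≠ 1) :
    (p ∈ T ∧ q ∈ T) ∨ (IsConj p z⁻¹ ∧ IsConj q z⁻¹) := by
  rcases delta_aux h p q z hp hq hpq hz hz1 with h1 | h1
  · exact Or.inl h1
  · have hq' : q⁻¹ ^ 3 = 1 := by rw [inv_pow, hq, inv_one]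
    have hp' : p⁻¹ ^ 3 = 1 := by rw [inv_pow, hp, inv_one]
    have hqp : q⁻¹ * p⁻¹ = z⁻¹ := by rw [← hpq, mul_inv_rev]
    have hz' : z⁻¹ ≠ 1 := by simpa using hz1
    rcases delta_aux h q⁻¹ p⁻¹ z⁻¹ hq' hp' hqp (T.inv_mem hz) hz' with h2 | h2
    · left
      exact ⟨by simpa using T.inv_mem h2.2, by simpa using T.inv_mem h2.1⟩
    · right
      refine ⟨h1, ?_⟩
      rw [inv_inv] at h2
      rw [isConj_iff] at h2 ⊢
      obtain ⟨c, hc⟩ := h2
      refine ⟨c, ?_⟩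
      have : c * q * c⁻¹ = (c * q⁻¹ * c⁻¹)⁻¹ := by group
      rw [this, hc]

/-- `T` is a TI-subgroup in the strong form: an element conjugating some `t ∈ T^#` into `T`
normalizes `T`. -/
theorem ti (h : Hyp T) (g t : G) (ht : t ∈ T) (ht1 : t ≠ 1) (hg : g * t * g⁻¹ ∈ T) :
    g ∈ Subgroup.normalizer (T : Set G) := by
  have hgt1 : g * t * g⁻¹ ≠ 1 := by
    intro he
    apply ht1
    have : t = g⁻¹ * (g * t * g⁻¹) * g := by group
    rw [this, he]; group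
  rw [Subgroup.mem_normalizer_iff]
  intro s
  constructor
  · intro hs
    apply h.cent _ hg hgt1
    have hc := h.comm s hs t ht
    calc g * s * g⁻¹ * (g * t * g⁻¹) = g * (s * t) * g⁻¹ := by group
      _ = g * (t * s) * g⁻¹ := by rw [hc]
      _ = g * t * g⁻¹ * (g * s * g⁻¹) := by group
  · intro hs
    apply h.cent t ht ht1
    have hc := h.comm _ hs _ hg
    calc s * t = g⁻¹ * (g * s * g⁻¹ * (g * t * g⁻¹)) * g := by group
      _ = g⁻¹ * (g * t * g⁻¹ * (g * s * g⁻¹)) * g := by rw [hc]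
      _ = t * s := by group

/-- `N_G(T)` controls fusion in `T`. -/
theorem conj_in_T (h : Hyp T) {s s' : G} (hs : s ∈ T) (hs1 : s ≠ 1) (hs' : s' ∈ T)
    (hc : IsConj s s') : ∃ n ∈ Subgroup.normalizer (T : Set G), n * s * n⁻¹ = s' := by
  rw [isConj_iff] at hc
  obtain ⟨c, hc⟩ := hc
  exact ⟨c, ti h c s hs hs1 (by rw [hc]; exact hs'), hc⟩

end Cfsg.Agent.Lib.Helper13.S3341Leaf
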