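import Mathlib
import Cfsg.Agent.Lib.Helper13.S3341L1

/-!
helper13: S3341 (helper8), common part of the leaves L2 and L3: a self-centralizing elementary
abelian group `T = ⟨x⟩ × ⟨y⟩` of order 9 with chosen generators: monomial calculus `x ^ i * y ^ j`
with integer exponents.
-/

set_option autoImplicit false
set_option linter.style.haveILetI false
set_option linter.unusedSectionVars false

namespace Cfsg.Agent.Lib.Helper13.S3341Leaf

open Cfsg.Agent.Lib.Helper8.S3341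

variable {G : Type*} [Group G]

/-- the part common to `D2` and `D4` -/
structure Gen (T : Subgroup G) (x y : G) : Prop where
  hyp : Hyp T
  xT : x ∈ T
  yT : y ∈ T
  x1 : x ≠ 1
  y1 : y ≠ 1
  nfT : ∀ s ∈ T, ∃ i j : ℕ, i < 3 ∧ j < 3 ∧ s = x ^ i * y ^ j
  indep : ∀ i j : ℕ, i < 3 → j < 3 → x ^ i * y ^ j = 1 → i = 0 ∧ j = 0

theorem gen_of_D2 {T : Subgroup G} {x y t : G} (h : D2 T x y t) : Gen T x y :=
  ⟨h.hyp, h.xT, h.yT, h.x1, h.y1, h.nfT, h.indep⟩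

theorem gen_of_D4 {T : Subgroup G} {x y n : G} (h : D4 T x y n) : Gen T x y :=
  ⟨h.hyp, h.xT, h.yT, h.x1, h.y1, h.nfT, h.indep⟩

/-- reduction of an exponent modulo 3 -/
theorem zpow_red {u : G} (hu : u ^ 3 = 1) (i : ℤ) : u ^ i = u ^ (i % 3).toNat := by
  have h0 : 0 ≤ i % 3 := Int.emod_nonneg _ (by norm_num)
  have e : i = 3 * (i / 3) + i % 3 := (Int.mul_ediv_add_emod i 3).symm
  have hu' : u ^ (3 : ℤ) = 1 := by
    have : u ^ ((3 : ℕ) : ℤ) = 1 := by rw [zpow_natCast]; exact hu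
    exact_mod_cast this
  calc u ^ i = u ^ (3 * (i / 3) + i % 3) := by rw [← e]
    _ = (u ^ (3 : ℤ)) ^ (i / 3) * u ^ (i % 3) := by rw [zpow_add, zpow_mul]
    _ = u ^ (i % 3) := by rw [hu', one_zpow, one_mul]
    _ = u ^ (((i % 3).toNat : ℕ) : ℤ) := by rw [Int.toNat_of_nonneg h0]
    _ = u ^ (i % 3).toNat := zpow_natCast _ _

theorem cube_of_isConj {c s : G} (hc : c ^ 3 = 1) (hs : IsConj c s) : s ^ 3 = 1 := by
  obtain ⟨g, rfl⟩ := isConj_iff.mp hs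
  have : (g * c * g⁻¹) ^ 3 = g * c ^ 3 * g⁻¹ := by
    rw [pow_succ, pow_two, pow_succ, pow_two]; group
  rw [this, hc]; group

theorem conj_zpow (g u : G) (m : ℤ) : g * u ^ m * g⁻¹ = (g * u * g⁻¹) ^ m := by
  have := map_zpow (MulAut.conj g) u m
  simpa only [MulAut.conj_apply] using this

theorem conj_mono (g x y : G) (i j : ℤ) :
    g * (x ^ i * y ^ j) * g⁻¹ = (g * x * g⁻¹) ^ i * (g * y * g⁻¹) ^ j := by
  rw [← conj_zpow, ← conj_zpow]; group

namespace Gen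

variable {T : Subgroup G} {x y : G}

theorem x3 (h : Gen T x y) : x ^ 3 = 1 := h.hyp.cube x h.xT
theorem y3 (h : Gen T x y) : y ^ 3 = 1 := h.hyp.cube y h.yT

theorem xy (h : Gen T x y) : Commute x y := h.hyp.comm x h.xT y h.yT

theorem orderOf_x (h : Gen T x y) : orderOf x = 3 := by
  haveI : Fact (Nat.Prime 3) := ⟨by norm_num⟩
  exact orderOf_eq_prime h.x3 h.x1

theorem orderOf_y (h : Gen T x y) : orderOf y = 3 := by
  haveI : Fact (Nat.Prime 3) := ⟨by norm_num⟩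
  exact orderOf_eq_prime h.y3 h.y1

theorem mono_mem (h : Gen T x y) (i j : ℤ) : x ^ i * y ^ j ∈ T :=
  T.mul_mem (T.zpow_mem h.xT i) (T.zpow_mem h.yT j)

/-- independence with integer exponents -/
theorem indepZ (h : Gen T x y) (i j : ℤ) (he : x ^ i * y ^ j = 1) : (3 : ℤ) ∣ i ∧ (3 : ℤ) ∣ j := by
  rw [zpow_red h.x3 i, zpow_red h.y3 j] at he
  have hi0 : 0 ≤ i % 3 := Int.emod_nonneg _ (by norm_num)
  have hj0 : 0 ≤ j % 3 := Int.emod_nonneg _ (by norm_num)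
  have hi3 : i % 3 < 3 := Int.emod_lt_of_pos _ (by norm_num)
  have hj3 : j % 3 < 3 := Int.emod_lt_of_pos _ (by norm_num)
  have h1 : (i % 3).toNat < 3 := by omega
  have h2 : (j % 3).toNat < 3 := by omega
  obtain ⟨e1, e2⟩ := h.indep _ _ h1 h2 he
  constructor <;> omega

theorem mono_mul (h : Gen T x y) (i j k l : ℤ) :
    (x ^ i * y ^ j) * (x ^ k * y ^ l) = x ^ (i + k) * y ^ (j + l) := by
  have c : Commute (y ^ j) (x ^ k) := (h.xy.zpow_zpow k j).symm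
  calc (x ^ i * y ^ j) * (x ^ k * y ^ l) = x ^ i * (y ^ j * x ^ k) * y ^ l := by group
    _ = x ^ i * (x ^ k * y ^ j) * y ^ l := by rw [c.eq]
    _ = (x ^ i * x ^ k) * (y ^ j * y ^ l) := by group
    _ = x ^ (i + k) * y ^ (j + l) := by rw [zpow_add, zpow_add]

theorem mono_inv (h : Gen T x y) (i j : ℤ) : (x ^ i * y ^ j)⁻¹ = x ^ (-i) * y ^ (-j) := by
  apply inv_eq_of_mul_eq_one_right
  rw [h.mono_mul, add_neg_cancel, add_neg_cancel, zpow_zero, zpow_zero, one_mul]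

/-- uniqueness of the normal form, integer exponents -/
theorem zpow_nf (h : Gen T x y) (i j k l : ℤ) (he : x ^ i * y ^ j = x ^ k * y ^ l) :
    (3 : ℤ) ∣ i - k ∧ (3 : ℤ) ∣ j - l := by
  apply h.indepZ
  have : x ^ (i - k) * y ^ (j - l) = (x ^ i * y ^ j) * (x ^ k * y ^ l)⁻¹ := by
    rw [h.mono_inv, h.mono_mul, sub_eq_add_neg, sub_eq_add_neg]
  rw [this, he, mul_inv_cancel]

theorem mono_eq_of_dvd (h : Gen T x y) (i j k l : ℤ) (h1 : (3 : ℤ) ∣ i - k) (h2 : (3 : ℤ) ∣ j - l) :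
    x ^ i * y ^ j = x ^ k * y ^ l := by
  have e1 : x ^ i = x ^ k := by
    rw [zpow_red h.x3 i, zpow_red h.x3 k]
    have : i % 3 = k % 3 := by omega
    rw [this]
  have e2 : y ^ j = y ^ l := by
    rw [zpow_red h.y3 j, zpow_red h.y3 l]
    have : j % 3 = l % 3 := by omega
    rw [this]
  rw [e1, e2]

theorem mono_eq_one_iff (h : Gen T x y) (i j : ℤ) :
    x ^ i * y ^ j = 1 ↔ ((3 : ℤ) ∣ i ∧ (3 : ℤ) ∣ j) := by
  constructor
  · exact h.indepZ i j
  · rintro ⟨h1, h2⟩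
    have := h.mono_eq_of_dvd i j 0 0 (by simpa using h1) (by simpa using h2)
    simpa using this

/-- the normal form of `T`, integer exponents -/
theorem nfZ (h : Gen T x y) (s : G) (hs : s ∈ T) : ∃ i j : ℤ, s = x ^ i * y ^ j := by
  obtain ⟨i, j, -, -, e⟩ := h.nfT s hs
  exact ⟨i, j, by rw [zpow_natCast, zpow_natCast]; exact e⟩

theorem x_eq (x y : G) : x = x ^ (1 : ℤ) * y ^ (0 : ℤ) := by simp
theorem y_eq (x y : G) : y = x ^ (0 : ℤ) * y ^ (1 : ℤ) := by simp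
theorem xy_eq (x y : G) : x * y = x ^ (1 : ℤ) * y ^ (1 : ℤ) := by simp
theorem xyi_eq (x y : G) : x * y⁻¹ = x ^ (1 : ℤ) * y ^ (-1 : ℤ) := by simp
theorem xi_eq (x y : G) : x⁻¹ = x ^ (-1 : ℤ) * y ^ (0 : ℤ) := by simp
theorem yi_eq (x y : G) : y⁻¹ = x ^ (0 : ℤ) * y ^ (-1 : ℤ) := by simp
theorem one_eq (x y : G) : (1 : G) = x ^ (0 : ℤ) * y ^ (0 : ℤ) := by simp

theorem orderOf_mono (h : Gen T x y) (i j : ℤ) (hne : ¬ ((3 : ℤ) ∣ i ∧ (3 : ℤ) ∣ j)) :
    orderOf (x ^ i * y ^ j) = 3 := by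
  haveI : Fact (Nat.Prime 3) := ⟨by norm_num⟩
  apply orderOf_eq_prime (h.hyp.cube _ (h.mono_mem i j))
  intro he
  exact hne (h.indepZ i j he)

/-- `C_G(u) = T` for `u ∈ T^#` -/
theorem centralizer_eq (h : Gen T x y) (u : G) (hu : u ∈ T) (hu1 : u ≠ 1) :
    Subgroup.centralizer ({u} : Set G) = T := by
  apply le_antisymm
  · intro g hg
    rw [Subgroup.mem_centralizer_singleton_iff] at hg
    exact h.hyp.cent u hu hu1 g hg
  · intro s hs
    rw [Subgroup.mem_centralizer_singleton_iff]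
    exact h.hyp.comm s hs u hu

theorem card_centralizer (h : Gen T x y) (u : G) (hu : u ∈ T) (hu1 : u ≠ 1) :
    Nat.card ↥(Subgroup.centralizer ({u} : Set G)) = 9 := by
  rw [h.centralizer_eq u hu hu1, h.hyp.card]

/-- conjugation by an element of `T` is trivial on `T` -/
theorem conj_T (h : Gen T x y) {s u : G} (hs : s ∈ T) (hu : u ∈ T) : s * u * s⁻¹ = u := by
  rw [h.hyp.comm s hs u hu]; group

/-- the parametrization of `T` -/
theorem param_bijective (h : Gen T x y) :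
    Function.Bijective (fun p : Fin 3 × Fin 3 =>
      (⟨x ^ (p.1 : ℕ) * y ^ (p.2 : ℕ), T.mul_mem (T.pow_mem h.xT _) (T.pow_mem h.yT _)⟩ : ↥T)) := by
  constructor
  · rintro ⟨i, j⟩ ⟨k, l⟩ he
    have he' : x ^ (i : ℕ) * y ^ (j : ℕ) = x ^ (k : ℕ) * y ^ (l : ℕ) := congrArg Subtype.val he
    have he'' : x ^ ((i : ℕ) : ℤ) * y ^ ((j : ℕ) : ℤ) = x ^ ((k : ℕ) : ℤ) * y ^ ((l : ℕ) : ℤ) := by
      simpa only [zpow_natCast] using he'
    obtain ⟨d1, d2⟩ := h.zpow_nf _ _ _ _ he''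
    have := i.2; have := j.2; have := k.2; have := l.2
    refine Prod.ext (Fin.ext ?_) (Fin.ext ?_)
    · show (i : ℕ) = k
      omega
    · show (j : ℕ) = l
      omega
  · rintro ⟨s, hs⟩
    obtain ⟨i, j, hi, hj, e⟩ := h.nfT s hs
    exact ⟨(⟨i, hi⟩, ⟨j, hj⟩), Subtype.ext e.symm⟩

theorem mono_inv_mul (h : Gen T x y) (i j k l : ℤ) :
    (x ^ k * y ^ l)⁻¹ * (x ^ i * y ^ j) = x ^ (i - k) * y ^ (j - l) := by
  rw [h.mono_inv, h.mono_mul, neg_add_eq_sub, neg_add_eq_sub]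

theorem xy_inv_eq (h : Gen T x y) : (x * y)⁻¹ = x ^ (-1 : ℤ) * y ^ (-1 : ℤ) := by
  have := h.mono_inv 1 1
  simpa only [zpow_one] using this

theorem xyi_inv_eq (h : Gen T x y) : (x * y⁻¹)⁻¹ = x ^ (-1 : ℤ) * y ^ (1 : ℤ) := by
  have := h.mono_inv 1 (-1)
  simpa only [zpow_one, zpow_neg_one, neg_neg] using this

end Gen

/-- a factorization of `z ∈ T^#` into conjugates of elements of order 3 is inside `T` -/
theorem pair_in_T [Finite G] {T : Subgroup G} (h : Hyp T) (c d z s : G) (hc3 : c ^ 3 = 1)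
    (hd3 : d ^ 3 = 1) (hs : IsConj c s) (hs' : IsConj d (s⁻¹ * z)) (hz : z ∈ T) (hz1 : z ≠ 1)
    (hnc : ¬ IsConj c z⁻¹) : s ∈ T ∧ s⁻¹ * z ∈ T := by
  have hp := cube_of_isConj hc3 hs
  have hq := cube_of_isConj hd3 hs'
  rcases delta h s (s⁻¹ * z) z hp hq (by group) hz hz1 with h1 | h1
  · exact h1
  · exact absurd (hs.trans h1.1) hnc

end Cfsg.Agent.Lib.Helper13.S3341Leaf
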