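import Mathlib
import Cfsg.Agent.Lib.Helper13.S3341LGen

/-!
helper13: S3341 (helper8), leaf L2: local facts in the case `|N_G(T) : T| = 2` (`D2 T x y t`).
-/

set_option autoImplicit false
set_option linter.style.haveILetI false
set_option linter.unusedSectionVars false

namespace Cfsg.Agent.Lib.Helper13.S3341Leaf

open Cfsg.Agent.Lib.Helper8.S3341

variable {G : Type*} [Group G] [Finite G] {T : Subgroup G}

namespace D2

variable {x y t : G}

theorem gen (h : D2 T x y t) : Gen T x y := gen_of_D2 h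

theorem orderOf_x (h : D2 T x y t) : orderOf x = 3 := (gen h).orderOf_x

theorem orderOf_y (h : D2 T x y t) : orderOf y = 3 := (gen h).orderOf_y

theorem orderOf_xy (h : D2 T x y t) : orderOf (x * y) = 3 := by
  rw [Gen.xy_eq x y]
  exact (gen h).orderOf_mono 1 1 (by omega)

theorem orderOf_xy_inv (h : D2 T x y t) : orderOf (x * y⁻¹) = 3 := by
  rw [Gen.xyi_eq x y]
  exact (gen h).orderOf_mono 1 (-1) (by omega)

theorem t_inv (h : D2 T x y t) : t⁻¹ = t := inv_eq_of_mul_eq_one_right h.t2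

theorem t_mono (h : D2 T x y t) (i j : ℤ) : t * (x ^ i * y ^ j) * t⁻¹ = x ^ (-i) * y ^ (-j) := by
  rw [conj_mono, h.tx, h.ty, inv_zpow', inv_zpow']

/-- `t` inverts `T` -/
theorem t_inverts (h : D2 T x y t) (u : G) (hu : u ∈ T) : t * u * t⁻¹ = u⁻¹ := by
  obtain ⟨i, j, rfl⟩ := (gen h).nfZ u hu
  rw [t_mono h, (gen h).mono_inv]

theorem conj_inv (h : D2 T x y t) : ∀ u ∈ T, IsConj u u⁻¹ :=
  fun u hu => isConj_iff.mpr ⟨t, t_inverts h u hu⟩

theorem card_centralizer (h : D2 T x y t) :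
    ∀ u ∈ T, u ≠ 1 → Nat.card ↥(Subgroup.centralizer ({u} : Set G)) = 9 :=
  (gen h).card_centralizer

theorem t_not_mem (h : D2 T x y t) : t ∉ T := by
  intro ht
  have h1 := t_inverts h x h.xT
  rw [(gen h).conj_T ht h.xT] at h1
  have h2 : x ^ (1 : ℤ) * y ^ (0 : ℤ) = x ^ (-1 : ℤ) * y ^ (0 : ℤ) := by simpa using h1
  have := (gen h).zpow_nf _ _ _ _ h2
  omega

/-- `N_G(T) = T ∪ t T` -/
theorem N_cases (h : D2 T x y t) (m : G) (hm : m ∈ Subgroup.normalizer (T : Set G)) :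
    m ∈ T ∨ t * m ∈ T := by
  have hTN : T ≤ Subgroup.normalizer (T : Set G) := Subgroup.le_normalizer
  have hidx : (T.subgroupOf (Subgroup.normalizer (T : Set G))).index = 2 := by
    have h1 := Subgroup.card_mul_index (T.subgroupOf (Subgroup.normalizer (T : Set G)))
    have h2 : Nat.card (T.subgroupOf (Subgroup.normalizer (T : Set G))) = 9 := by
      rw [Nat.card_congr (Subgroup.subgroupOfEquivOfLe hTN).toEquiv]
      exact h.hyp.card
    rw [h2, h.cardN] at h1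
    omega
  by_cases hmT : m ∈ T
  · exact Or.inl hmT
  · right
    have := Subgroup.mul_mem_iff_of_index_two hidx
      (a := (⟨t, h.tN⟩ : ↥(Subgroup.normalizer (T : Set G)))) (b := ⟨m, hm⟩)
    rw [Subgroup.mem_subgroupOf, Subgroup.mem_subgroupOf, Subgroup.mem_subgroupOf] at this
    exact this.mpr ⟨fun h' => absurd h' (t_not_mem h), fun h' => absurd h' hmT⟩

/-- the action of `N_G(T)` on `T` -/
theorem N_act (h : D2 T x y t) (m : G) (hm : m ∈ Subgroup.normalizer (T : Set G)) (u : G)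
    (hu : u ∈ T) : m * u * m⁻¹ = u ∨ m * u * m⁻¹ = u⁻¹ := by
  rcases N_cases h m hm with h1 | h1
  · left; exact (gen h).conj_T h1 hu
  · right
    have e : m * u * m⁻¹ = t⁻¹ * ((t * m) * u * (t * m)⁻¹) * t := by group
    rw [e, (gen h).conj_T h1 hu]
    have := t_inverts h u hu
    rw [t_inv h] at this ⊢
    exact this

/-- fusion in `T` -/
theorem conj_mem (h : D2 T x y t) {s s' : G} (hs : s ∈ T) (hs1 : s ≠ 1) (hs' : s' ∈ T)
    (hc : IsConj s s') : s' = s ∨ s' = s⁻¹ := by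
  obtain ⟨m, hm, e⟩ := conj_in_T h.hyp hs hs1 hs' hc
  rcases N_act h m hm s hs with h1 | h1
  · left; rw [← e, h1]
  · right; rw [← e, h1]

/-- fusion in `T`, in exponents -/
theorem conj_exp (h : D2 T x y t) (i j k l : ℤ) (hne : ¬ ((3 : ℤ) ∣ i ∧ (3 : ℤ) ∣ j))
    (hc : IsConj (x ^ i * y ^ j) (x ^ k * y ^ l)) :
    ((3 : ℤ) ∣ k - i ∧ (3 : ℤ) ∣ l - j) ∨ ((3 : ℤ) ∣ k + i ∧ (3 : ℤ) ∣ l + j) := by
  have hs1 : x ^ i * y ^ j ≠ 1 := fun he => hne ((gen h).indepZ i j he)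
  rcases conj_mem h ((gen h).mono_mem i j) hs1 ((gen h).mono_mem k l) hc with e | e
  · left; exact (gen h).zpow_nf _ _ _ _ e
  · right
    rw [(gen h).mono_inv] at e
    have := (gen h).zpow_nf _ _ _ _ e
    rw [sub_neg_eq_add, sub_neg_eq_add] at this
    exact this

theorem not_conj_x_y (h : D2 T x y t) : ¬ IsConj x y := by
  intro hc
  have hc' : IsConj (x ^ (1 : ℤ) * y ^ (0 : ℤ)) (x ^ (0 : ℤ) * y ^ (1 : ℤ)) := by simpa using hc
  rcases conj_exp h 1 0 0 1 (by omega) hc' with h1 | h1 <;> omega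

theorem not_conj_x_y_inv (h : D2 T x y t) : ¬ IsConj x y⁻¹ := by
  intro hc
  have hc' : IsConj (x ^ (1 : ℤ) * y ^ (0 : ℤ)) (x ^ (0 : ℤ) * y ^ (-1 : ℤ)) := by simpa using hc
  rcases conj_exp h 1 0 0 (-1) (by omega) hc' with h1 | h1 <;> omega

theorem not_conj_x_xy (h : D2 T x y t) : ¬ IsConj x (x * y) := by
  intro hc
  have hc' : IsConj (x ^ (1 : ℤ) * y ^ (0 : ℤ)) (x ^ (1 : ℤ) * y ^ (1 : ℤ)) := by simpa using hc
  rcases conj_exp h 1 0 1 1 (by omega) hc' with h1 | h1 <;> omega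

theorem not_conj_x_xy_inv' (h : D2 T x y t) : ¬ IsConj x (x * y)⁻¹ := by
  intro hc
  rw [(gen h).xy_inv_eq] at hc
  have hc' : IsConj (x ^ (1 : ℤ) * y ^ (0 : ℤ)) (x ^ (-1 : ℤ) * y ^ (-1 : ℤ)) := by
    rw [zpow_one, zpow_zero, mul_one]; exact hc
  rcases conj_exp h 1 0 (-1) (-1) (by omega) hc' with h1 | h1 <;> omega

theorem not_conj_x_xy_inv (h : D2 T x y t) : ¬ IsConj x (x * y⁻¹) := by
  intro hc
  have hc' : IsConj (x ^ (1 : ℤ) * y ^ (0 : ℤ)) (x ^ (1 : ℤ) * y ^ (-1 : ℤ)) := by simpa using hc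
  rcases conj_exp h 1 0 1 (-1) (by omega) hc' with h1 | h1 <;> omega

theorem not_conj_y_xy (h : D2 T x y t) : ¬ IsConj y (x * y) := by
  intro hc
  have hc' : IsConj (x ^ (0 : ℤ) * y ^ (1 : ℤ)) (x ^ (1 : ℤ) * y ^ (1 : ℤ)) := by simpa using hc
  rcases conj_exp h 0 1 1 1 (by omega) hc' with h1 | h1 <;> omega

theorem not_conj_y_xy_inv (h : D2 T x y t) : ¬ IsConj y (x * y⁻¹) := by
  intro hc
  have hc' : IsConj (x ^ (0 : ℤ) * y ^ (1 : ℤ)) (x ^ (1 : ℤ) * y ^ (-1 : ℤ)) := by simpa using hc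
  rcases conj_exp h 0 1 1 (-1) (by omega) hc' with h1 | h1 <;> omega

theorem not_conj_xy_xy_inv (h : D2 T x y t) : ¬ IsConj (x * y) (x * y⁻¹) := by
  intro hc
  have hc' : IsConj (x ^ (1 : ℤ) * y ^ (1 : ℤ)) (x ^ (1 : ℤ) * y ^ (-1 : ℤ)) := by simpa using hc
  rcases conj_exp h 1 1 1 (-1) (by omega) hc' with h1 | h1 <;> omega

theorem count_xx_y (h : D2 T x y t) :
    Nat.card {s : G // IsConj x s ∧ IsConj x (s⁻¹ * y)} = 0 := by
  haveI : IsEmpty {s : G // IsConj x s ∧ IsConj x (s⁻¹ * y)} := by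
    refine ⟨?_⟩
    rintro ⟨s, hs1, hs2⟩
    obtain ⟨hsT, -⟩ := pair_in_T h.hyp x x y s (gen h).x3 (gen h).x3 hs1 hs2 h.yT h.y1
      (not_conj_x_y_inv h)
    obtain ⟨k, l, rfl⟩ := (gen h).nfZ s hsT
    have hs1' : IsConj (x ^ (1 : ℤ) * y ^ (0 : ℤ)) (x ^ k * y ^ l) := by
      rw [zpow_one, zpow_zero, mul_one]; exact hs1
    have hs2' : IsConj (x ^ (1 : ℤ) * y ^ (0 : ℤ)) (x ^ (0 - k) * y ^ (1 - l)) := by
      rw [← (gen h).mono_inv_mul, zpow_one, zpow_zero, mul_one, zpow_zero, one_mul, zpow_one]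
      exact hs2
    rcases conj_exp h 1 0 k l (by omega) hs1' with h1 | h1 <;>
      rcases conj_exp h 1 0 (0 - k) (1 - l) (by omega) hs2' with h2 | h2 <;> omega
  exact Nat.card_of_isEmpty

theorem count_xy_xy (h : D2 T x y t) :
    Nat.card {s : G // IsConj x s ∧ IsConj y (s⁻¹ * (x * y))} = 1 := by
  rw [Nat.card_eq_one_iff_unique]
  constructor
  · refine ⟨?_⟩
    have key : ∀ s : G, IsConj x s → IsConj y (s⁻¹ * (x * y)) → s = x := by
      intro s hs1 hs2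
      have hxy1 : x * y ≠ 1 := by
        intro he
        rw [Gen.xy_eq x y] at he
        have := (gen h).indepZ 1 1 he
        omega
      obtain ⟨hsT, -⟩ := pair_in_T h.hyp x y (x * y) s (gen h).x3 (gen h).y3 hs1 hs2
        (T.mul_mem h.xT h.yT) hxy1 (not_conj_x_xy_inv' h)
      obtain ⟨k, l, rfl⟩ := (gen h).nfZ s hsT
      have hs1' : IsConj (x ^ (1 : ℤ) * y ^ (0 : ℤ)) (x ^ k * y ^ l) := by
        rw [zpow_one, zpow_zero, mul_one]; exact hs1
      have hs2' : IsConj (x ^ (0 : ℤ) * y ^ (1 : ℤ)) (x ^ (1 - k) * y ^ (1 - l)) := by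
        rw [← (gen h).mono_inv_mul, zpow_one, zpow_zero, one_mul, zpow_one]; exact hs2
      have hd : (3 : ℤ) ∣ k - 1 ∧ (3 : ℤ) ∣ l - 0 := by
        rcases conj_exp h 1 0 k l (by omega) hs1' with h1 | h1 <;>
          rcases conj_exp h 0 1 (1 - k) (1 - l) (by omega) hs2' with h2 | h2 <;>
            constructor <;> omega
      have := (gen h).mono_eq_of_dvd k l 1 0 hd.1 hd.2
      rw [this, zpow_one, zpow_zero, mul_one]
    rintro ⟨s, hs1, hs2⟩ ⟨s', hs1', hs2'⟩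
    apply Subtype.ext
    show s = s'
    rw [key s hs1 hs2, key s' hs1' hs2']
  · refine ⟨⟨x, IsConj.refl x, ?_⟩⟩
    rw [inv_mul_cancel_left]

end D2

end Cfsg.Agent.Lib.Helper13.S3341Leaf
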