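import Mathlib
import Cfsg.Agent.Lib.Helper13.S3341LGen

/-!
helper13: S3341 (helper8), leaf L3: local facts in the case `|N_G(T) : T| = 4` (`D4 T x y n`).
-/

set_option autoImplicit false
set_option linter.style.haveILetI false
set_option linter.unusedSectionVars false

namespace Cfsg.Agent.Lib.Helper13.S3341Leaf

open Cfsg.Agent.Lib.Helper8.S3341

/-- the rotation of exponent pairs induced by `n` -/
def rot : ℕ → ℤ × ℤ → ℤ × ℤ
  | 0, p => p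
  | e + 1, p => (-(rot e p).2, (rot e p).1)

theorem rot_zero (p : ℤ × ℤ) : rot 0 p = p := rfl
theorem rot_succ (e : ℕ) (p : ℤ × ℤ) : rot (e + 1) p = (-(rot e p).2, (rot e p).1) := rfl
theorem rot_one (p : ℤ × ℤ) : rot 1 p = (-p.2, p.1) := rfl
theorem rot_two (p : ℤ × ℤ) : rot 2 p = (-p.1, -p.2) := rfl
theorem rot_three (p : ℤ × ℤ) : rot 3 p = (- -p.2, -p.1) := rfl

variable {G : Type*} [Group G] [Finite G] {T : Subgroup G}

namespace D4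

variable {x y n : G}

theorem gen (h : D4 T x y n) : Gen T x y := gen_of_D4 h

theorem orderOf_x (h : D4 T x y n) : orderOf x = 3 := (gen h).orderOf_x

theorem orderOf_y (h : D4 T x y n) : orderOf y = 3 := (gen h).orderOf_y

theorem orderOf_xy (h : D4 T x y n) : orderOf (x * y) = 3 := by
  rw [Gen.xy_eq x y]
  exact (gen h).orderOf_mono 1 1 (by omega)

theorem card_centralizer (h : D4 T x y n) :
    ∀ u ∈ T, u ≠ 1 → Nat.card ↥(Subgroup.centralizer ({u} : Set G)) = 9 :=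
  (gen h).card_centralizer

theorem n_mono (h : D4 T x y n) (i j : ℤ) : n * (x ^ i * y ^ j) * n⁻¹ = x ^ (-j) * y ^ i := by
  rw [conj_mono, h.nx, h.ny, inv_zpow']
  exact ((gen h).xy.zpow_zpow (-j) i).eq.symm

theorem npow_mono (h : D4 T x y n) (e : ℕ) (i j : ℤ) :
    n ^ e * (x ^ i * y ^ j) * (n ^ e)⁻¹ = x ^ (rot e (i, j)).1 * y ^ (rot e (i, j)).2 := by
  induction e with
  | zero => simp [rot_zero]
  | succ e ih =>
    have : n ^ (e + 1) * (x ^ i * y ^ j) * (n ^ (e + 1))⁻¹ =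
        n * (n ^ e * (x ^ i * y ^ j) * (n ^ e)⁻¹) * n⁻¹ := by
      rw [pow_succ']; group
    rw [this, ih, n_mono h, rot_succ]

/-- `n²` inverts `T` -/
theorem nn_inverts (h : D4 T x y n) (u : G) (hu : u ∈ T) : (n * n) * u * (n * n)⁻¹ = u⁻¹ := by
  obtain ⟨i, j, rfl⟩ := (gen h).nfZ u hu
  have := npow_mono h 2 i j
  rw [rot_two, pow_two] at this
  rw [this, (gen h).mono_inv]

theorem conj_inv (h : D4 T x y n) : ∀ u ∈ T, IsConj u u⁻¹ :=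
  fun u hu => isConj_iff.mpr ⟨n * n, nn_inverts h u hu⟩

theorem conj_x_y (h : D4 T x y n) : IsConj x y := isConj_iff.mpr ⟨n, h.nx⟩

theorem rot_inj (e e' : ℕ) (he : e < 4) (he' : e' < 4)
    (h2 : (3 : ℤ) ∣ (rot e (1, 0)).1 - (rot e' (1, 0)).1 ∧
      (3 : ℤ) ∣ (rot e (1, 0)).2 - (rot e' (1, 0)).2) : e = e' := by
  interval_cases e <;> interval_cases e' <;>
    simp only [rot_zero, rot_one, rot_two, rot_three] at h2 <;> omega

/-- `N_G(T) = ⋃ nᵉ T` -/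
theorem N_decomp (h : D4 T x y n) (m : G) (hm : m ∈ Subgroup.normalizer (T : Set G)) :
    ∃ e : ℕ, e < 4 ∧ ∃ s ∈ T, m = n ^ e * s := by
  classical
  have hTN : T ≤ Subgroup.normalizer (T : Set G) := Subgroup.le_normalizer
  let f : Fin 4 × ↥T → ↥(Subgroup.normalizer (T : Set G)) := fun p =>
    ⟨n ^ (p.1 : ℕ) * p.2, Subgroup.mul_mem _ (Subgroup.pow_mem _ h.nN _) (hTN p.2.2)⟩
  have hinj : Function.Injective f := by
    rintro ⟨e, s, hs⟩ ⟨e', s', hs'⟩ he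
    have he' : n ^ (e : ℕ) * s = n ^ (e' : ℕ) * s' := congrArg Subtype.val he
    have a1 : ∀ (k : ℕ) (u : G), u ∈ T →
        n ^ k * (x ^ (1 : ℤ) * y ^ (0 : ℤ)) * (n ^ k)⁻¹ =
          (n ^ k * u) * (x ^ (1 : ℤ) * y ^ (0 : ℤ)) * (n ^ k * u)⁻¹ := by
      intro k u hu
      have := (gen h).conj_T hu ((gen h).mono_mem 1 0)
      calc n ^ k * (x ^ (1 : ℤ) * y ^ (0 : ℤ)) * (n ^ k)⁻¹
          = n ^ k * (u * (x ^ (1 : ℤ) * y ^ (0 : ℤ)) * u⁻¹) * (n ^ k)⁻¹ := by rw [this]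
        _ = (n ^ k * u) * (x ^ (1 : ℤ) * y ^ (0 : ℤ)) * (n ^ k * u)⁻¹ := by group
    have h1 : n ^ (e : ℕ) * (x ^ (1 : ℤ) * y ^ (0 : ℤ)) * (n ^ (e : ℕ))⁻¹ =
        n ^ (e' : ℕ) * (x ^ (1 : ℤ) * y ^ (0 : ℤ)) * (n ^ (e' : ℕ))⁻¹ := by
      rw [a1 e s hs, a1 e' s' hs', he']
    rw [npow_mono h, npow_mono h] at h1
    have h2 := (gen h).zpow_nf _ _ _ _ h1
    have hee : (e : ℕ) = e' := rot_inj e e' e.2 e'.2 h2
    have hee' : e = e' := Fin.ext hee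
    subst hee'
    have : s = s' := mul_left_cancel he'
    subst this
    rfl
  have hbij : Function.Bijective f := by
    apply hinj.bijective_of_nat_card_le
    rw [h.cardN, Nat.card_prod, Nat.card_eq_fintype_card, Fintype.card_fin, h.hyp.card]
  obtain ⟨⟨e, s⟩, hes⟩ := hbij.2 ⟨m, hm⟩
  exact ⟨e, e.2, s, s.2, (congrArg Subtype.val hes).symm⟩

/-- the action of `N_G(T)` on `T` -/
theorem N_act (h : D4 T x y n) (m : G) (hm : m ∈ Subgroup.normalizer (T : Set G)) :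
    ∃ e : ℕ, e < 4 ∧ ∀ i j : ℤ,
      m * (x ^ i * y ^ j) * m⁻¹ = x ^ (rot e (i, j)).1 * y ^ (rot e (i, j)).2 := by
  obtain ⟨e, he, s, hs, rfl⟩ := N_decomp h m hm
  refine ⟨e, he, fun i j => ?_⟩
  have := (gen h).conj_T hs ((gen h).mono_mem i j)
  calc (n ^ e * s) * (x ^ i * y ^ j) * (n ^ e * s)⁻¹
      = n ^ e * (s * (x ^ i * y ^ j) * s⁻¹) * (n ^ e)⁻¹ := by group
    _ = x ^ (rot e (i, j)).1 * y ^ (rot e (i, j)).2 := by rw [this, npow_mono h]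

/-- fusion in `T`, in exponents -/
theorem conj_exp (h : D4 T x y n) (i j k l : ℤ) (hne : ¬ ((3 : ℤ) ∣ i ∧ (3 : ℤ) ∣ j))
    (hc : IsConj (x ^ i * y ^ j) (x ^ k * y ^ l)) :
    ((3 : ℤ) ∣ k - i ∧ (3 : ℤ) ∣ l - j) ∨ ((3 : ℤ) ∣ k + j ∧ (3 : ℤ) ∣ l - i) ∨
      ((3 : ℤ) ∣ k + i ∧ (3 : ℤ) ∣ l + j) ∨ ((3 : ℤ) ∣ k - j ∧ (3 : ℤ) ∣ l + i) := by
  have hs1 : x ^ i * y ^ j ≠ 1 := fun he => hne ((gen h).indepZ i j he)
  obtain ⟨m, hm, e⟩ := conj_in_T h.hyp ((gen h).mono_mem i j) hs1 ((gen h).mono_mem k l) hc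
  obtain ⟨c, hc4, hact⟩ := N_act h m hm
  rw [hact] at e
  have h2 := (gen h).zpow_nf _ _ _ _ e
  interval_cases c <;> simp only [rot_zero, rot_one, rot_two, rot_three] at h2 <;> omega

theorem not_conj_x_xy (h : D4 T x y n) : ¬ IsConj x (x * y) := by
  intro hc
  have hc' : IsConj (x ^ (1 : ℤ) * y ^ (0 : ℤ)) (x ^ (1 : ℤ) * y ^ (1 : ℤ)) := by simpa using hc
  rcases conj_exp h 1 0 1 1 (by omega) hc' with h1 | h1 | h1 | h1 <;> omega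

theorem not_conj_x_xy_inv' (h : D4 T x y n) : ¬ IsConj x (x * y)⁻¹ := by
  intro hc
  rw [(gen h).xy_inv_eq] at hc
  have hc' : IsConj (x ^ (1 : ℤ) * y ^ (0 : ℤ)) (x ^ (-1 : ℤ) * y ^ (-1 : ℤ)) := by
    rw [zpow_one, zpow_zero, mul_one]; exact hc
  rcases conj_exp h 1 0 (-1) (-1) (by omega) hc' with h1 | h1 | h1 | h1 <;> omega

theorem x_ne_y (h : D4 T x y n) : x ≠ y := by
  intro he
  have h2 : x ^ (1 : ℤ) * y ^ (0 : ℤ) = x ^ (0 : ℤ) * y ^ (1 : ℤ) := by simpa using he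
  have := (gen h).zpow_nf _ _ _ _ h2
  omega

theorem count_xx_xy (h : D4 T x y n) :
    Nat.card {s : G // IsConj x s ∧ IsConj x (s⁻¹ * (x * y))} = 2 := by
  have key : ∀ s : G, IsConj x s → IsConj x (s⁻¹ * (x * y)) → s = x ∨ s = y := by
    intro s hs1 hs2
    have hxy1 : x * y ≠ 1 := by
      intro he
      rw [Gen.xy_eq x y] at he
      have := (gen h).indepZ 1 1 he
      omega
    obtain ⟨hsT, -⟩ := pair_in_T h.hyp x x (x * y) s (gen h).x3 (gen h).x3 hs1 hs2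
      (T.mul_mem h.xT h.yT) hxy1 (not_conj_x_xy_inv' h)
    obtain ⟨k, l, rfl⟩ := (gen h).nfZ s hsT
    have hs1' : IsConj (x ^ (1 : ℤ) * y ^ (0 : ℤ)) (x ^ k * y ^ l) := by
      rw [zpow_one, zpow_zero, mul_one]; exact hs1
    have hs2' : IsConj (x ^ (1 : ℤ) * y ^ (0 : ℤ)) (x ^ (1 - k) * y ^ (1 - l)) := by
      rw [← (gen h).mono_inv_mul, zpow_one, zpow_zero, mul_one, zpow_one]; exact hs2
    have hd : ((3 : ℤ) ∣ k - 1 ∧ (3 : ℤ) ∣ l - 0) ∨ ((3 : ℤ) ∣ k - 0 ∧ (3 : ℤ) ∣ l - 1) := by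
      rcases conj_exp h 1 0 k l (by omega) hs1' with h1 | h1 | h1 | h1 <;>
        rcases conj_exp h 1 0 (1 - k) (1 - l) (by omega) hs2' with h2 | h2 | h2 | h2 <;> omega
    rcases hd with hd | hd
    · left
      have := (gen h).mono_eq_of_dvd k l 1 0 hd.1 hd.2
      rw [this, zpow_one, zpow_zero, mul_one]
    · right
      have := (gen h).mono_eq_of_dvd k l 0 1 hd.1 hd.2
      rw [this, zpow_one, zpow_zero, one_mul]
  rw [Nat.card_eq_two_iff]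
  refine ⟨⟨x, IsConj.refl x, ?_⟩, ⟨y, conj_x_y h, ?_⟩, ?_, ?_⟩
  · rw [inv_mul_cancel_left]; exact conj_x_y h
  · rw [(gen h).xy.eq, inv_mul_cancel_left]
  · intro he
    exact x_ne_y h (congrArg Subtype.val he)
  · ext ⟨s, hs1, hs2⟩
    simp only [Set.mem_insert_iff, Set.mem_singleton_iff, Set.mem_univ, iff_true, Subtype.mk.injEq]
    exact key s hs1 hs2

theorem phi_rot (h : D4 T x y n) (φ : G → ℂ) (hφ : ∀ g k : G, φ (k * g * k⁻¹) = φ g) (i j : ℤ) :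
    φ (x ^ (-j) * y ^ i) = φ (x ^ i * y ^ j) := by
  rw [← n_mono h]; exact hφ _ n

theorem phi_eq (h : D4 T x y n) (φ : G → ℂ) (hφ : ∀ g k : G, φ (k * g * k⁻¹) = φ g) (i j k l : ℤ)
    (h1 : (3 : ℤ) ∣ k + j) (h2 : (3 : ℤ) ∣ l - i) : φ (x ^ k * y ^ l) = φ (x ^ i * y ^ j) := by
  rw [(gen h).mono_eq_of_dvd k l (-j) i (by rw [sub_neg_eq_add]; exact h1) h2, phi_rot h φ hφ]

theorem sum_T [Fintype T] (h : D4 T x y n) : ∀ φ : G → ℂ, (∀ g k : G, φ (k * g * k⁻¹) = φ g) →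
    ∑ s : T, φ (s : G) = φ 1 + 4 * φ x + 4 * φ (x * y) := by
  intro φ hφ
  have hb := (gen h).param_bijective
  rw [← Fintype.sum_bijective _ hb
    (fun p : Fin 3 × Fin 3 => φ (x ^ (((p.1 : ℕ) : ℤ)) * y ^ (((p.2 : ℕ) : ℤ))))
    (fun s : T => φ (s : G)) (fun p => by simp only [zpow_natCast])]
  rw [Fintype.sum_prod_type]
  simp only [Fin.sum_univ_three, Fin.val_zero, Fin.val_one, Fin.val_two, Nat.cast_zero,
    Nat.cast_one, Nat.cast_ofNat]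
  have e01 : φ (x ^ (0 : ℤ) * y ^ (1 : ℤ)) = φ (x ^ (1 : ℤ) * y ^ (0 : ℤ)) :=
    phi_eq h φ hφ 1 0 0 1 (by norm_num) (by norm_num)
  have e20 : φ (x ^ (2 : ℤ) * y ^ (0 : ℤ)) = φ (x ^ (0 : ℤ) * y ^ (1 : ℤ)) :=
    phi_eq h φ hφ 0 1 2 0 (by norm_num) (by norm_num)
  have e02 : φ (x ^ (0 : ℤ) * y ^ (2 : ℤ)) = φ (x ^ (2 : ℤ) * y ^ (0 : ℤ)) :=
    phi_eq h φ hφ 2 0 0 2 (by norm_num) (by norm_num)
  have e21 : φ (x ^ (2 : ℤ) * y ^ (1 : ℤ)) = φ (x ^ (1 : ℤ) * y ^ (1 : ℤ)) :=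
    phi_eq h φ hφ 1 1 2 1 (by norm_num) (by norm_num)
  have e22 : φ (x ^ (2 : ℤ) * y ^ (2 : ℤ)) = φ (x ^ (2 : ℤ) * y ^ (1 : ℤ)) :=
    phi_eq h φ hφ 2 1 2 2 (by norm_num) (by norm_num)
  have e12 : φ (x ^ (1 : ℤ) * y ^ (2 : ℤ)) = φ (x ^ (2 : ℤ) * y ^ (2 : ℤ)) :=
    phi_eq h φ hφ 2 2 1 2 (by norm_num) (by norm_num)
  rw [e12, e22, e21, e02, e20, e01]
  simp only [zpow_zero, zpow_one, mul_one]
  ring

end D4

end Cfsg.Agent.Lib.Helper13.S3341Leaf
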