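import Mathlib
import Cfsg.Prelude.Def_Transfer

/-!
helper13: S3805 (helper8), Part A, file A: the local data of the configuration
`T` Sylow 3-subgroup of order 9, elementary abelian, self-centralizing, `N(T)/T` a four-group,
`C(t) ≤ N(T)` for `t ∈ T^#`.

* `Hyp T`: element-level form of the hypotheses;
* `hyp_of_statement`: from the exact hypotheses of `Cfsg/Statements/S3805.lean`;
* `Data T x y a b`: generators with all relations and the normal form of `N(T)`;
* `exists_data`.
-/

set_option autoImplicit false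

namespace Cfsg.Agent.Lib.Helper13.S3805Loc

variable {G : Type*} [Group G]

/-- element-level form of the hypotheses of S3805 -/
structure Hyp (T : Subgroup G) : Prop where
  comm : ∀ s ∈ T, ∀ t ∈ T, s * t = t * s
  cube : ∀ t ∈ T, t ^ 3 = 1
  card : Nat.card T = 9
  cent : ∀ g : G, (∀ t ∈ T, g * t = t * g) → g ∈ T
  cardN : Nat.card (Subgroup.normalizer (T : Set G)) = 36
  sq : ∀ n ∈ Subgroup.normalizer (T : Set G), n ^ 2 ∈ T
  loc : ∀ t ∈ T, t ≠ 1 → Subgroup.centralizer ({t} : Set G) ≤ Subgroup.normalizer (T : Set G)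

theorem hyp_of_statement [Finite G]
    (T : Sylow 3 G) (hT : Cfsg.IsElementaryAbelian 3 (T : Subgroup G)) (hcard : Nat.card T = 9)
    (hC : Subgroup.centralizer ((T : Subgroup G) : Set G) = T)
    [hn : ((T : Subgroup G).subgroupOf (Subgroup.normalizer ((T : Subgroup G) : Set G))).Normal]
    (hK : IsKleinFour (↥(Subgroup.normalizer ((T : Subgroup G) : Set G)) ⧸
      (T : Subgroup G).subgroupOf (Subgroup.normalizer ((T : Subgroup G) : Set G))))
    (hloc : ∀ t ∈ (T : Subgroup G), t ≠ 1 →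
      Subgroup.centralizer ({t} : Set G) ≤ Subgroup.normalizer ((T : Subgroup G) : Set G)) :
    Hyp (T : Subgroup G) := by
  have hTN : (T : Subgroup G) ≤ Subgroup.normalizer ((T : Subgroup G) : Set G) :=
    Subgroup.le_normalizer
  refine ⟨?_, hT.2, hcard, ?_, ?_, ?_, hloc⟩
  · intro s hs t ht
    have h := hT.1.is_comm.comm (⟨s, hs⟩ : ↥(T : Subgroup G)) ⟨t, ht⟩
    exact congrArg Subtype.val h
  · intro g hg
    rw [← hC, Subgroup.mem_centralizer_iff]
    intro t ht
    exact (hg t ht).symm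
  · have h1 := Subgroup.card_eq_card_quotient_mul_card_subgroup
      ((T : Subgroup G).subgroupOf (Subgroup.normalizer ((T : Subgroup G) : Set G)))
    have h2 : Nat.card ((T : Subgroup G).subgroupOf (Subgroup.normalizer ((T : Subgroup G) : Set G)))
        = 9 := by
      rw [Nat.card_congr (Subgroup.subgroupOfEquivOfLe hTN).toEquiv]
      exact hcard
    rw [h1, h2, hK.card_four]
  · intro n hn'
    have h1 : (QuotientGroup.mk (⟨n, hn'⟩ : ↥(Subgroup.normalizer ((T : Subgroup G) : Set G))) :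
        ↥(Subgroup.normalizer ((T : Subgroup G) : Set G)) ⧸
          (T : Subgroup G).subgroupOf (Subgroup.normalizer ((T : Subgroup G) : Set G))) ^ 2 = 1 := by
      rw [← hK.exponent_two]
      exact Monoid.pow_exponent_eq_one _
    rw [← QuotientGroup.mk_pow, QuotientGroup.eq_one_iff, Subgroup.mem_subgroupOf] at h1
    simpa using h1

/-- the generators of the local subgroup -/
structure Data (T : Subgroup G) (x y a b : G) : Prop where
  hyp : Hyp T
  xT : x ∈ T
  yT : y ∈ T
  x1 : x ≠ 1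
  y1 : y ≠ 1
  a1 : a ≠ 1
  b1 : b ≠ 1
  aN : a ∈ Subgroup.normalizer (T : Set G)
  bN : b ∈ Subgroup.normalizer (T : Set G)
  a2 : a * a = 1
  b2 : b * b = 1
  ab : a * b = b * a
  ax : a * x * a⁻¹ = x
  ay : a * y * a⁻¹ = y⁻¹
  bx : b * x * b⁻¹ = x⁻¹
  by' : b * y * b⁻¹ = y
  /-- normal form of `T` -/
  nfT : ∀ t ∈ T, ∃ i j : ℕ, i < 3 ∧ j < 3 ∧ t = x ^ i * y ^ j
  /-- normal form of `N(T)` -/
  nfN : ∀ n ∈ Subgroup.normalizer (T : Set G), ∃ t ∈ T, n = t ∨ n = t * a ∨ n = t * b ∨ n = t * (a * b)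

end Cfsg.Agent.Lib.Helper13.S3805Loc
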