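import Mathlib
import Cfsg.Agent.Lib.Helper13.S3805LocA

/-!
helper13: S3805 (helper8), Part A, file B: an involution of `N(T)` acting on `T`:
the pair `(x, y)` with `a x a⁻¹ = x`, `a y a⁻¹ = y⁻¹` and the normal form of `T`.
-/

set_option autoImplicit false
set_option linter.style.haveILetI false

namespace Cfsg.Agent.Lib.Helper13.S3805Loc

variable {G : Type*} [Group G]

/-- an element of `T` which is both of order dividing 2 and 3 is trivial -/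
theorem eq_one_of_sq_of_cube {u : G} (h2 : u * u = 1) (h3 : u ^ 3 = 1) : u = 1 := by
  have : u ^ 3 = u * u * u := by rw [pow_succ, pow_two]
  rw [this, h2, one_mul] at h3
  exact h3

/-- the pair `(x, y)` relative to an involution `a` -/
structure Pre (T : Subgroup G) (x y a : G) : Prop where
  hyp : Hyp T
  xT : x ∈ T
  yT : y ∈ T
  x1 : x ≠ 1
  y1 : y ≠ 1
  aN : a ∈ Subgroup.normalizer (T : Set G)
  a2 : a * a = 1
  ax : a * x * a⁻¹ = x
  ay : a * y * a⁻¹ = y⁻¹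

namespace Pre

variable {T : Subgroup G} {x y a : G}

theorem x3 (h : Pre T x y a) : x ^ 3 = 1 := h.hyp.cube x h.xT
theorem y3 (h : Pre T x y a) : y ^ 3 = 1 := h.hyp.cube y h.yT

theorem xy (h : Pre T x y a) : x * y = y * x := h.hyp.comm x h.xT y h.yT

theorem orderOf_x (h : Pre T x y a) : orderOf x = 3 := by
  haveI : Fact (Nat.Prime 3) := ⟨by norm_num⟩
  exact orderOf_eq_prime h.x3 h.x1

theorem orderOf_y (h : Pre T x y a) : orderOf y = 3 := by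
  haveI : Fact (Nat.Prime 3) := ⟨by norm_num⟩
  exact orderOf_eq_prime h.y3 h.y1

theorem a_inv (h : Pre T x y a) : a⁻¹ = a := by
  exact inv_eq_of_mul_eq_one_right h.a2

theorem conj_x_zpow (h : Pre T x y a) (m : ℤ) : a * x ^ m * a⁻¹ = x ^ m := by
  have := map_zpow (MulAut.conj a) x m
  simp only [MulAut.conj_apply] at this
  rw [this, h.ax]

theorem conj_y_zpow (h : Pre T x y a) (m : ℤ) : a * y ^ m * a⁻¹ = (y ^ m)⁻¹ := by
  have := map_zpow (MulAut.conj a) y m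
  simp only [MulAut.conj_apply] at this
  rw [this, h.ay, inv_zpow]

theorem xz_mem (h : Pre T x y a) (m : ℤ) : x ^ m ∈ T := T.zpow_mem h.xT m
theorem yz_mem (h : Pre T x y a) (m : ℤ) : y ^ m ∈ T := T.zpow_mem h.yT m

/-- independence of `x` and `y` -/
theorem indep (h : Pre T x y a) (m n : ℤ) (hmn : x ^ m * y ^ n = 1) : x ^ m = 1 ∧ y ^ n = 1 := by
  have h1 : a * (x ^ m * y ^ n) * a⁻¹ = 1 := by rw [hmn]; group
  have h2 : a * (x ^ m * y ^ n) * a⁻¹ = (a * x ^ m * a⁻¹) * (a * y ^ n * a⁻¹) := by group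
  rw [h2, h.conj_x_zpow, h.conj_y_zpow] at h1
  -- `x^m = y^n` and `x^m = (y^n)⁻¹`
  have h3 : x ^ m = (y ^ n)⁻¹ := eq_inv_of_mul_eq_one_left hmn
  have h4 : x ^ m = y ^ n := by
    have := eq_inv_of_mul_eq_one_left h1
    rwa [inv_inv] at this
  have h5 : y ^ n * y ^ n = 1 := by
    have : y ^ n = (y ^ n)⁻¹ := h4.symm.trans h3
    nth_rewrite 1 [this]
    exact inv_mul_cancel _
  have h6 : y ^ n = 1 := eq_one_of_sq_of_cube h5 (h.hyp.cube _ (h.yz_mem n))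
  exact ⟨by rw [h4, h6], h6⟩

theorem dvd_of_x_zpow (h : Pre T x y a) (m : ℤ) (hm : x ^ m = 1) : (3 : ℤ) ∣ m := by
  have := (orderOf_dvd_iff_zpow_eq_one (x := x) (i := m)).mpr hm
  rwa [h.orderOf_x] at this

theorem dvd_of_y_zpow (h : Pre T x y a) (m : ℤ) (hm : y ^ m = 1) : (3 : ℤ) ∣ m := by
  have := (orderOf_dvd_iff_zpow_eq_one (x := y) (i := m)).mpr hm
  rwa [h.orderOf_y] at this

/-- injectivity of the normal form -/
theorem nf_inj (h : Pre T x y a) (i j k l : ℕ) (hi : i < 3) (hj : j < 3) (hk : k < 3) (hl : l < 3)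
    (he : x ^ i * y ^ j = x ^ k * y ^ l) : i = k ∧ j = l := by
  have hc : Commute x y := h.xy
  have h1 : x ^ ((i : ℤ) - k) * y ^ ((j : ℤ) - l) = 1 := by
    have e1 : x ^ ((i : ℤ) - k) * y ^ ((j : ℤ) - l) =
        (x ^ k * y ^ l)⁻¹ * (x ^ i * y ^ j) := by
      rw [zpow_sub, zpow_sub, zpow_natCast, zpow_natCast, zpow_natCast, zpow_natCast, mul_inv_rev]
      have c1 : Commute (x ^ i) (x ^ k)⁻¹ := ((Commute.refl x).pow_pow i k).inv_right
      have c2 : Commute (x ^ i) (y ^ l)⁻¹ := (hc.pow_pow i l).inv_right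
      have c3 : Commute (y ^ j) (y ^ l)⁻¹ := ((Commute.refl y).pow_pow j l).inv_right
      calc x ^ i * (x ^ k)⁻¹ * (y ^ j * (y ^ l)⁻¹)
          = x ^ i * (x ^ k)⁻¹ * ((y ^ l)⁻¹ * y ^ j) := by rw [c3.eq]
        _ = (x ^ k)⁻¹ * (x ^ i * (y ^ l)⁻¹) * y ^ j := by rw [c1.eq]; group
        _ = (x ^ k)⁻¹ * ((y ^ l)⁻¹ * x ^ i) * y ^ j := by rw [c2.eq]
        _ = (y ^ l)⁻¹ * (x ^ k)⁻¹ * (x ^ i * y ^ j) := by
          have c4 : Commute (x ^ k)⁻¹ (y ^ l)⁻¹ := ((hc.pow_pow k l).inv_left).inv_right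
          rw [← mul_assoc (x ^ k)⁻¹, c4.eq]; group
    rw [e1, he, inv_mul_cancel]
  obtain ⟨h2, h3⟩ := h.indep _ _ h1
  have d1 := h.dvd_of_x_zpow _ h2
  have d2 := h.dvd_of_y_zpow _ h3
  constructor <;> omega

/-- the normal form of `T` -/
theorem nfT [Finite G] (h : Pre T x y a) : ∀ t ∈ T, ∃ i j : ℕ, i < 3 ∧ j < 3 ∧ t = x ^ i * y ^ j := by
  classical
  let f : Fin 3 × Fin 3 → ↥T := fun p =>
    ⟨x ^ (p.1 : ℕ) * y ^ (p.2 : ℕ), T.mul_mem (T.pow_mem h.xT _) (T.pow_mem h.yT _)⟩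
  have hinj : Function.Injective f := by
    rintro ⟨i, j⟩ ⟨k, l⟩ he
    have he' : x ^ (i : ℕ) * y ^ (j : ℕ) = x ^ (k : ℕ) * y ^ (l : ℕ) := congrArg Subtype.val he
    obtain ⟨e1, e2⟩ := h.nf_inj i j k l i.2 j.2 k.2 l.2 he'
    exact Prod.ext (Fin.ext e1) (Fin.ext e2)
  have hbij : Function.Bijective f := by
    apply hinj.bijective_of_nat_card_le
    rw [h.hyp.card, Nat.card_prod, Nat.card_eq_fintype_card, Fintype.card_fin]
  intro t ht
  obtain ⟨⟨i, j⟩, hij⟩ := hbij.2 ⟨t, ht⟩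
  exact ⟨i, j, i.2, j.2, (congrArg Subtype.val hij).symm⟩

/-- elements of `T` fixed by `a` -/
theorem fixed_form [Finite G] (h : Pre T x y a) (t : G) (ht : t ∈ T) (hat : a * t * a⁻¹ = t) :
    ∃ i : ℕ, i < 3 ∧ t = x ^ i := by
  obtain ⟨i, j, hi, hj, rfl⟩ := h.nfT t ht
  refine ⟨i, hi, ?_⟩
  have h2 : a * (x ^ i * y ^ j) * a⁻¹ = (a * x ^ (i : ℤ) * a⁻¹) * (a * y ^ (j : ℤ) * a⁻¹) := by
    rw [zpow_natCast, zpow_natCast]; group
  rw [h2, h.conj_x_zpow, h.conj_y_zpow, zpow_natCast, zpow_natCast] at hat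
  have h3 : (y ^ j)⁻¹ = y ^ j := mul_left_cancel hat
  have h5 : y ^ j * y ^ j = 1 := by
    nth_rewrite 1 [← h3]
    exact inv_mul_cancel _
  have h6 : y ^ j = 1 := eq_one_of_sq_of_cube h5 (h.hyp.cube _ (T.pow_mem h.yT j))
  rw [h6, mul_one]

/-- elements of `T` inverted by `a` -/
theorem inverted_form [Finite G] (h : Pre T x y a) (t : G) (ht : t ∈ T) (hat : a * t * a⁻¹ = t⁻¹) :
    ∃ j : ℕ, j < 3 ∧ t = y ^ j := by
  obtain ⟨i, j, hi, hj, rfl⟩ := h.nfT t ht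
  refine ⟨j, hj, ?_⟩
  have h2 : a * (x ^ i * y ^ j) * a⁻¹ = (a * x ^ (i : ℤ) * a⁻¹) * (a * y ^ (j : ℤ) * a⁻¹) := by
    rw [zpow_natCast, zpow_natCast]; group
  have hc : Commute (x ^ i) (y ^ j) := (Commute.pow_pow h.xy i j)
  rw [h2, h.conj_x_zpow, h.conj_y_zpow, zpow_natCast, zpow_natCast, mul_inv_rev,
    ← hc.inv_inv.eq] at hat
  have h3 : x ^ i = (x ^ i)⁻¹ := mul_right_cancel hat
  have h5 : x ^ i * x ^ i = 1 := by
    nth_rewrite 1 [h3]
    exact inv_mul_cancel _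
  have h6 : x ^ i = 1 := eq_one_of_sq_of_cube h5 (h.hyp.cube _ (T.pow_mem h.xT i))
  rw [h6, one_mul]

end Pre

end Cfsg.Agent.Lib.Helper13.S3805Loc
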