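import Mathlib
import Cfsg.Agent.Lib.Helper13.S3805LocB

/-!
helper13: S3805 (helper8), Part A, file C: existence of the generators `x y a b`.
-/

set_option autoImplicit false
set_option linter.style.haveILetI false

namespace Cfsg.Agent.Lib.Helper13.S3805Loc

variable {G : Type*} [Group G]

theorem conj_mem_of_mem_normalizer {T : Subgroup G} {n t : G}
    (hn : n ∈ Subgroup.normalizer (T : Set G)) (ht : t ∈ T) : n * t * n⁻¹ ∈ T :=
  (Subgroup.mem_normalizer_iff.mp hn t).mp ht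

/-- a complement of `T` in `N(T)`: a four-group of involutions -/
theorem exists_four [Finite G] {T : Subgroup G} (h : Hyp T) :
    ∃ Q : Subgroup G, Nat.card Q = 4 ∧ Q ≤ Subgroup.normalizer (T : Set G) ∧
      (∀ u ∈ Q, u * u = 1) ∧ (∀ u ∈ Q, ∀ v ∈ Q, u * v = v * u) ∧
      (∀ u ∈ Q, u ≠ 1 → ¬ (∀ t ∈ T, u * t = t * u)) ∧ (∀ u ∈ Q, u ∈ T → u = 1) := by
  classical
  haveI : Fact (Nat.Prime 2) := ⟨Nat.prime_two⟩
  have hcardN := h.cardN
  set N := Subgroup.normalizer (T : Set G) with hN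
  obtain ⟨Q0, hQ0⟩ := Sylow.exists_subgroup_card_pow_prime
    (G := ↥N) 2 (n := 2) (by rw [hcardN]; norm_num)
  set Q : Subgroup G := Q0.map N.subtype with hQ
  have hQcard : Nat.card Q = 4 := by
    rw [hQ, ← Nat.card_congr (Q0.equivMapOfInjective N.subtype N.subtype_injective).toEquiv, hQ0]
    norm_num
  have hQN : Q ≤ N := Subgroup.map_subtype_le Q0
  have hTQ : T ⊓ Q = ⊥ :=
    (Subgroup.disjoint_of_coprime_natCard (by rw [h.card, hQcard]; norm_num)).eq_bot
  have hTQ' : ∀ u ∈ Q, u ∈ T → u = 1 := by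
    intro u hu huT
    have : u ∈ T ⊓ Q := ⟨huT, hu⟩
    rwa [hTQ, Subgroup.mem_bot] at this
  have hinv : ∀ u ∈ Q, u * u = 1 := by
    intro u hu
    have h1 := hTQ' (u ^ 2) (Q.pow_mem hu 2) (h.sq u (hQN hu))
    rwa [pow_two] at h1
  refine ⟨Q, hQcard, hQN, hinv, ?_, ?_, hTQ'⟩
  · intro u hu v hv
    have h1 := hinv u hu
    have h2 := hinv v hv
    have h3 := hinv (u * v) (Q.mul_mem hu hv)
    have hu' : u⁻¹ = u := inv_eq_of_mul_eq_one_right h1
    have hv' : v⁻¹ = v := inv_eq_of_mul_eq_one_right h2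
    have : (u * v)⁻¹ = u * v := inv_eq_of_mul_eq_one_right h3
    rw [mul_inv_rev, hu', hv'] at this
    exact this.symm
  · intro u hu hu1 hc
    have huT := h.cent u hc
    exact hu1 (hTQ' u hu huT)

/-- the pair `(x, y)` for an involution which does not invert `T` -/
theorem exists_pre [Finite G] {T : Subgroup G} (h : Hyp T) (a : G)
    (haN : a ∈ Subgroup.normalizer (T : Set G)) (ha2 : a * a = 1)
    (hnc : ¬ (∀ t ∈ T, a * t = t * a)) (hni : ¬ (∀ t ∈ T, a * t * a⁻¹ = t⁻¹)) :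
    ∃ x y : G, Pre T x y a := by
  have hainv : a⁻¹ = a := inv_eq_of_mul_eq_one_right ha2
  push Not at hnc hni
  obtain ⟨t, ht, hta⟩ := hni
  obtain ⟨s, hs, hsa⟩ := hnc
  have htc : a * t * a⁻¹ ∈ T := conj_mem_of_mem_normalizer haN ht
  have hsc : a * s * a⁻¹ ∈ T := conj_mem_of_mem_normalizer haN hs
  refine ⟨t * (a * t * a⁻¹), s * (a * s * a⁻¹)⁻¹, h, T.mul_mem ht htc,
    T.mul_mem hs (T.inv_mem hsc), ?_, ?_, haN, ha2, ?_, ?_⟩
  · intro he
    apply hta
    exact (eq_inv_of_mul_eq_one_right he)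
  · intro he
    apply hsa
    have h1 : s = a * s * a⁻¹ := by
      have := eq_inv_of_mul_eq_one_left he
      rwa [inv_inv] at this
    calc a * s = a * s * a⁻¹ * a := by group
      _ = s * a := by rw [← h1]
  · have e1 : a * (t * (a * t * a⁻¹)) * a⁻¹ = (a * t * a⁻¹) * (a * a * t * (a * a)⁻¹) := by group
    rw [e1, ha2, one_mul, inv_one, mul_one]
    exact h.comm _ htc _ ht
  · have e1 : a * (s * (a * s * a⁻¹)⁻¹) * a⁻¹ = (a * s * a⁻¹) * (a * a * s * (a * a)⁻¹)⁻¹ := by group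
    rw [e1, ha2, one_mul, inv_one, mul_one, mul_inv_rev, inv_inv]


theorem conj_nf (u x y : G) (i j : ℕ) :
    u * (x ^ i * y ^ j) * u⁻¹ = (u * x * u⁻¹) ^ i * (u * y * u⁻¹) ^ j := by
  have h1 := map_mul (MulAut.conj u) (x ^ i) (y ^ j)
  rw [map_pow, map_pow] at h1
  simpa [MulAut.conj_apply] using h1

/-- an element acting trivially on `x` and `y` centralizes `T` -/
theorem Pre.centralizes [Finite G] {T : Subgroup G} {x y a : G} (hp : Pre T x y a) (u : G)
    (hx : u * x * u⁻¹ = x) (hy : u * y * u⁻¹ = y) : ∀ t ∈ T, u * t = t * u := by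
  intro t ht
  obtain ⟨i, j, -, -, rfl⟩ := hp.nfT t ht
  have h1 := conj_nf u x y i j
  rw [hx, hy] at h1
  calc u * (x ^ i * y ^ j) = u * (x ^ i * y ^ j) * u⁻¹ * u := by group
    _ = x ^ i * y ^ j * u := by rw [h1]

theorem data_of [Finite G] {T : Subgroup G} (h : Hyp T) (Q : Subgroup G) (hQcard : Nat.card Q = 4)
    (hQN : Q ≤ Subgroup.normalizer (T : Set G)) (hinv : ∀ u ∈ Q, u * u = 1)
    (hcomm : ∀ u ∈ Q, ∀ v ∈ Q, u * v = v * u) (hTQ : ∀ u ∈ Q, u ∈ T → u = 1)
    {x y a b : G} (hp : Pre T x y a) (haQ : a ∈ Q) (hbQ : b ∈ Q) (ha1 : a ≠ 1) (hb1 : b ≠ 1)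
    (hba : b ≠ a) (hbx : b * x * b⁻¹ = x⁻¹) (hby : b * y * b⁻¹ = y) : Data T x y a b := by
  classical
  have hainv : a⁻¹ = a := inv_eq_of_mul_eq_one_right (hinv a haQ)
  have hbinv : b⁻¹ = b := inv_eq_of_mul_eq_one_right (hinv b hbQ)
  refine ⟨h, hp.xT, hp.yT, hp.x1, hp.y1, ha1, hb1, hQN haQ, hQN hbQ, hinv a haQ, hinv b hbQ,
    hcomm a haQ b hbQ, hp.ax, hp.ay, hbx, hby, hp.nfT, ?_⟩
  -- `Q = {1, a, b, a * b}`
  have hQset : ∀ q ∈ Q, q = 1 ∨ q = a ∨ q = b ∨ q = a * b := by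
    let S : Finset G := {1, a, b, a * b}
    have hScard : S.card = 4 := by
      have n1 : a ≠ a * b := by
        intro he
        apply hb1
        have := mul_left_cancel (a := a) (b := 1) (c := b) (by rw [mul_one]; exact he)
        exact this.symm
      have n2 : b ≠ a * b := by
        intro he
        apply ha1
        have := mul_right_cancel (a := 1) (b := b) (c := a) (by rw [one_mul]; exact he)
        exact this.symm
      have n3 : (1 : G) ≠ a * b := by
        intro he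
        apply hba
        have e1 : b = a⁻¹ := eq_inv_of_mul_eq_one_right he.symm
        rw [e1, hainv]
      have n4 : (1 : G) ≠ a := fun he => ha1 he.symm
      have n5 : (1 : G) ≠ b := fun he => hb1 he.symm
      have n6 : a ≠ b := fun he => hba he.symm
      show ({1, a, b, a * b} : Finset G).card = 4
      rw [Finset.card_insert_of_notMem, Finset.card_insert_of_notMem, Finset.card_insert_of_notMem,
        Finset.card_singleton]
      · simp only [Finset.mem_singleton]; exact n2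
      · simp only [Finset.mem_insert, Finset.mem_singleton, not_or]; exact ⟨n6, n1⟩
      · simp only [Finset.mem_insert, Finset.mem_singleton, not_or]; exact ⟨n4, n5, n3⟩
    have hsub : (↑S : Set G) ⊆ (Q : Set G) := by
      intro q hq
      simp only [S, Finset.coe_insert, Finset.coe_singleton, Set.mem_insert_iff,
        Set.mem_singleton_iff] at hq
      rcases hq with rfl | rfl | rfl | rfl
      · exact Q.one_mem
      · exact haQ
      · exact hbQ
      · exact Q.mul_mem haQ hbQ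
    have hQn : (Q : Set G).ncard = 4 := by
      rw [← hQcard]; rfl
    have heq : (↑S : Set G) = (Q : Set G) := by
      apply Set.eq_of_subset_of_ncard_le hsub _ (Set.toFinite _)
      rw [Set.ncard_coe_finset, hScard, hQn]
    intro q hq
    have : q ∈ (↑S : Set G) := by rw [heq]; exact hq
    simpa [S] using this
  -- `N = T Q`
  let f : ↥T × ↥Q → ↥(Subgroup.normalizer (T : Set G)) := fun p =>
    ⟨(p.1 : G) * (p.2 : G), Subgroup.mul_mem _ (Subgroup.le_normalizer p.1.2) (hQN p.2.2)⟩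
  have hinj : Function.Injective f := by
    rintro ⟨⟨t, ht⟩, ⟨q, hq⟩⟩ ⟨⟨t', ht'⟩, ⟨q', hq'⟩⟩ he
    have he' : t * q = t' * q' := congrArg Subtype.val he
    have h1 : t'⁻¹ * t = q' * q⁻¹ := by
      calc t'⁻¹ * t = t'⁻¹ * (t * q) * q⁻¹ := by group
        _ = t'⁻¹ * (t' * q') * q⁻¹ := by rw [he']
        _ = q' * q⁻¹ := by group
    have h2 : q' * q⁻¹ = 1 := by
      apply hTQ _ (Q.mul_mem hq' (Q.inv_mem hq))
      rw [← h1]
      exact T.mul_mem (T.inv_mem ht') ht
    have h3 : q' = q := by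
      have := eq_of_mul_inv_eq_one h2
      exact this
    have h4 : t = t' := by
      rw [h2] at h1
      have := eq_of_inv_mul_eq_one h1
      exact this.symm
    subst h3 h4
    rfl
  have hbij : Function.Bijective f := by
    apply hinj.bijective_of_nat_card_le
    rw [h.cardN, Nat.card_prod, h.card, hQcard]
  intro n hn
  obtain ⟨⟨⟨t, ht⟩, ⟨q, hq⟩⟩, hfe⟩ := hbij.2 ⟨n, hn⟩
  have hn' : t * q = n := congrArg Subtype.val hfe
  refine ⟨t, ht, ?_⟩
  rcases hQset q hq with rfl | rfl | rfl | rfl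
  · left; rw [← hn', mul_one]
  · right; left; exact hn'.symm
  · right; right; left; exact hn'.symm
  · right; right; right; exact hn'.symm

theorem exists_data [Finite G] {T : Subgroup G} (h : Hyp T) : ∃ x y a b : G, Data T x y a b := by
  classical
  obtain ⟨Q, hQcard, hQN, hinv, hcomm, hnc, hTQ⟩ := exists_four h
  -- two distinct involutions
  have h1 : ∃ a ∈ Q, a ≠ 1 := by
    by_contra hcon
    push Not at hcon
    have : Q = ⊥ := (Subgroup.eq_bot_iff_forall Q).mpr hcon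
    rw [this, Subgroup.card_bot] at hQcard
    omega
  obtain ⟨a', ha'Q, ha'1⟩ := h1
  have h2 : ∃ v ∈ Q, v ≠ 1 ∧ v ≠ a' := by
    by_contra hcon
    push Not at hcon
    have hsub : (Q : Set G) ⊆ {1, a'} := by
      intro v hv
      by_cases hv1 : v = 1
      · left; exact hv1
      · right; exact hcon v hv hv1
    have h3 := Set.ncard_le_ncard hsub (Set.toFinite _)
    have h4 : ({1, a'} : Set G).ncard ≤ 2 := by
      calc ({1, a'} : Set G).ncard ≤ ({a'} : Set G).ncard + 1 := Set.ncard_insert_le _ _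
        _ = 2 := by rw [Set.ncard_singleton]
    have h5 : (Q : Set G).ncard = 4 := by rw [← hQcard]; rfl
    omega
  obtain ⟨v', hv'Q, hv'1, hv'a⟩ := h2
  -- an involution that does not invert `T`
  have h3 : ∃ a ∈ Q, ∃ v ∈ Q, a ≠ 1 ∧ v ≠ 1 ∧ v ≠ a ∧ ¬ (∀ t ∈ T, a * t * a⁻¹ = t⁻¹) := by
    by_cases hai : ∀ t ∈ T, a' * t * a'⁻¹ = t⁻¹
    · refine ⟨v', hv'Q, a', ha'Q, hv'1, ha'1, hv'a.symm, ?_⟩
      intro hvi
      apply hnc (a' * v') (Q.mul_mem ha'Q hv'Q)
      · intro he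
        apply hv'a
        have e1 : v' = a'⁻¹ := eq_inv_of_mul_eq_one_right he
        rw [e1]; exact inv_eq_of_mul_eq_one_right (hinv a' ha'Q)
      · intro t ht
        have e1 : v' * t * v'⁻¹ = t⁻¹ := hvi t ht
        have e2 : a' * t⁻¹ * a'⁻¹ = t⁻¹⁻¹ := hai t⁻¹ (T.inv_mem ht)
        rw [inv_inv] at e2
        have e3 : (a' * v') * t * (a' * v')⁻¹ = t := by
          calc (a' * v') * t * (a' * v')⁻¹ = a' * (v' * t * v'⁻¹) * a'⁻¹ := by group
            _ = t := by rw [e1, e2]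
        calc a' * v' * t = (a' * v') * t * (a' * v')⁻¹ * (a' * v') := by group
          _ = t * (a' * v') := by rw [e3]
    · exact ⟨a', ha'Q, v', hv'Q, ha'1, hv'1, hv'a, hai⟩
  obtain ⟨a, haQ, v, hvQ, ha1, hv1, hva, hni⟩ := h3
  obtain ⟨x, y, hp⟩ := exists_pre h a (hQN haQ) (hinv a haQ) (hnc a haQ ha1) hni
  have hav : a * v = v * a := hcomm a haQ v hvQ
  have hvN := hQN hvQ
  have hv2 := hinv v hvQ
  have hx2 : x ^ 2 = x⁻¹ := by
    apply eq_inv_of_mul_eq_one_left
    rw [← pow_succ]; exact hp.x3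
  have hy2 : y ^ 2 = y⁻¹ := by
    apply eq_inv_of_mul_eq_one_left
    rw [← pow_succ]; exact hp.y3
  have hvx : v * x * v⁻¹ = x ∨ v * x * v⁻¹ = x⁻¹ := by
    have hm : v * x * v⁻¹ ∈ T := conj_mem_of_mem_normalizer hvN hp.xT
    have hfix : a * (v * x * v⁻¹) * a⁻¹ = v * x * v⁻¹ := by
      calc a * (v * x * v⁻¹) * a⁻¹ = (a * v) * x * (a * v)⁻¹ := by group
        _ = (v * a) * x * (v * a)⁻¹ := by rw [hav]
        _ = v * (a * x * a⁻¹) * v⁻¹ := by group
        _ = v * x * v⁻¹ := by rw [hp.ax]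
    obtain ⟨i, hi, he⟩ := hp.fixed_form _ hm hfix
    interval_cases i
    · exfalso; apply hp.x1
      rw [pow_zero] at he
      have : x = v⁻¹ * (v * x * v⁻¹) * v := by group
      rw [this, he]; group
    · left; rw [he, pow_one]
    · right; rw [he, hx2]
  have hvy : v * y * v⁻¹ = y ∨ v * y * v⁻¹ = y⁻¹ := by
    have hm : v * y * v⁻¹ ∈ T := conj_mem_of_mem_normalizer hvN hp.yT
    have hfix : a * (v * y * v⁻¹) * a⁻¹ = (v * y * v⁻¹)⁻¹ := by
      calc a * (v * y * v⁻¹) * a⁻¹ = (a * v) * y * (a * v)⁻¹ := by group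
        _ = (v * a) * y * (v * a)⁻¹ := by rw [hav]
        _ = v * (a * y * a⁻¹) * v⁻¹ := by group
        _ = v * y⁻¹ * v⁻¹ := by rw [hp.ay]
        _ = (v * y * v⁻¹)⁻¹ := by group
    obtain ⟨j, hj, he⟩ := hp.inverted_form _ hm hfix
    interval_cases j
    · exfalso; apply hp.y1
      rw [pow_zero] at he
      have : y = v⁻¹ * (v * y * v⁻¹) * v := by group
      rw [this, he]; group
    · left; rw [he, pow_one]
    · right; rw [he, hy2]
  have hav1 : a * v ≠ 1 := by
    intro he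
    apply hva
    have e1 : v = a⁻¹ := eq_inv_of_mul_eq_one_right he
    rw [e1]; exact inv_eq_of_mul_eq_one_right (hinv a haQ)
  have hava : a * v ≠ a := by
    intro he
    apply hv1
    exact mul_left_cancel (a := a) (by rw [mul_one]; exact he)
  rcases hvx with hvx | hvx <;> rcases hvy with hvy | hvy
  · exact absurd (hp.centralizes v hvx hvy) (hnc v hvQ hv1)
  · exfalso
    apply hnc (a * v) (Q.mul_mem haQ hvQ) hav1
    apply hp.centralizes
    · calc a * v * x * (a * v)⁻¹ = a * (v * x * v⁻¹) * a⁻¹ := by group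
        _ = x := by rw [hvx, hp.ax]
    · calc a * v * y * (a * v)⁻¹ = a * (v * y * v⁻¹) * a⁻¹ := by group
        _ = a * y⁻¹ * a⁻¹ := by rw [hvy]
        _ = (a * y * a⁻¹)⁻¹ := by group
        _ = y := by rw [hp.ay, inv_inv]
  · exact ⟨x, y, a, v, data_of h Q hQcard hQN hinv hcomm hTQ hp haQ hvQ ha1 hv1 hva hvx hvy⟩
  · refine ⟨x, y, a, a * v, data_of h Q hQcard hQN hinv hcomm hTQ hp haQ (Q.mul_mem haQ hvQ) ha1
      hav1 hava ?_ ?_⟩
    · calc a * v * x * (a * v)⁻¹ = a * (v * x * v⁻¹) * a⁻¹ := by group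
        _ = a * x⁻¹ * a⁻¹ := by rw [hvx]
        _ = (a * x * a⁻¹)⁻¹ := by group
        _ = x⁻¹ := by rw [hp.ax]
    · calc a * v * y * (a * v)⁻¹ = a * (v * y * v⁻¹) * a⁻¹ := by group
        _ = a * y⁻¹ * a⁻¹ := by rw [hvy]
        _ = (a * y * a⁻¹)⁻¹ := by group
        _ = y := by rw [hp.ay, inv_inv]

end Cfsg.Agent.Lib.Helper13.S3805Loc
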