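import Mathlib
import Cfsg.Agent.Lib.Helper13.S3805LocC

/-!
helper13: S3805 (helper8), Part A, file D: consequences of `Data`: orders, symmetry, the action of
`N(T)` on `x`, `y`, the TI property, centralizer orders.
-/

set_option autoImplicit false
set_option linter.style.haveILetI false

namespace Cfsg.Agent.Lib.Helper13.S3805Loc

variable {G : Type*} [Group G]

namespace Data

variable {T : Subgroup G} {x y a b : G}

theorem toPre (h : Data T x y a b) : Pre T x y a :=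
  ⟨h.hyp, h.xT, h.yT, h.x1, h.y1, h.aN, h.a2, h.ax, h.ay⟩

theorem xy (h : Data T x y a b) : x * y = y * x := h.toPre.xy
theorem x3 (h : Data T x y a b) : x ^ 3 = 1 := h.toPre.x3
theorem y3 (h : Data T x y a b) : y ^ 3 = 1 := h.toPre.y3
theorem orderOf_x (h : Data T x y a b) : orderOf x = 3 := h.toPre.orderOf_x
theorem orderOf_y (h : Data T x y a b) : orderOf y = 3 := h.toPre.orderOf_y

theorem orderOf_a (h : Data T x y a b) : orderOf a = 2 := by
  haveI : Fact (Nat.Prime 2) := ⟨Nat.prime_two⟩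
  exact orderOf_eq_prime (by rw [pow_two]; exact h.a2) h.a1

theorem orderOf_b (h : Data T x y a b) : orderOf b = 2 := by
  haveI : Fact (Nat.Prime 2) := ⟨Nat.prime_two⟩
  exact orderOf_eq_prime (by rw [pow_two]; exact h.b2) h.b1

theorem a_inv (h : Data T x y a b) : a⁻¹ = a := inv_eq_of_mul_eq_one_right h.a2
theorem b_inv (h : Data T x y a b) : b⁻¹ = b := inv_eq_of_mul_eq_one_right h.b2

theorem ax' (h : Data T x y a b) : a * x = x * a := by
  calc a * x = a * x * a⁻¹ * a := by group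
    _ = x * a := by rw [h.ax]

theorem by'' (h : Data T x y a b) : b * y = y * b := by
  calc b * y = b * y * b⁻¹ * b := by group
    _ = y * b := by rw [h.by']

/-- the symmetry `(x, a) ↔ (y, b)` -/
theorem symm (h : Data T x y a b) : Data T y x b a := by
  refine ⟨h.hyp, h.yT, h.xT, h.y1, h.x1, h.b1, h.a1, h.bN, h.aN, h.b2, h.a2, h.ab.symm, h.by', h.bx,
    h.ay, h.ax, ?_, ?_⟩
  · intro t ht
    obtain ⟨i, j, hi, hj, rfl⟩ := h.nfT t ht
    exact ⟨j, i, hj, hi, (Commute.pow_pow h.xy i j).eq⟩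
  · intro n hn
    obtain ⟨t, ht, hcase⟩ := h.nfN n hn
    refine ⟨t, ht, ?_⟩
    rcases hcase with h1 | h1 | h1 | h1
    · left; exact h1
    · right; right; left; exact h1
    · right; left; exact h1
    · right; right; right; rw [h1, h.ab]

theorem x_inv_ne (h : Data T x y a b) : x⁻¹ ≠ x := by
  intro he
  apply h.x1
  apply eq_one_of_sq_of_cube _ h.x3
  nth_rewrite 1 [← he]
  exact inv_mul_cancel x

theorem y_inv_ne (h : Data T x y a b) : y⁻¹ ≠ y := h.symm.x_inv_ne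

/-- `T` centralizes `T` -/
theorem conj_T (h : Data T x y a b) {t s : G} (ht : t ∈ T) (hs : s ∈ T) : t * s * t⁻¹ = s := by
  rw [h.hyp.comm t ht s hs]; group

/-- the action of `N(T)` on `x` and `y` -/
theorem act (h : Data T x y a b) (n : G) (hn : n ∈ Subgroup.normalizer (T : Set G)) :
    (n * x * n⁻¹ = x ∧ n * y * n⁻¹ = y ∧ n ∈ T) ∨
    (n * x * n⁻¹ = x ∧ n * y * n⁻¹ = y⁻¹ ∧ ∃ t ∈ T, n = t * a) ∨
    (n * x * n⁻¹ = x⁻¹ ∧ n * y * n⁻¹ = y ∧ ∃ t ∈ T, n = t * b) ∨
    (n * x * n⁻¹ = x⁻¹ ∧ n * y * n⁻¹ = y⁻¹ ∧ ∃ t ∈ T, n = t * (a * b)) := by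
  obtain ⟨t, ht, hcase⟩ := h.nfN n hn
  have hxi : x⁻¹ ∈ T := T.inv_mem h.xT
  have hyi : y⁻¹ ∈ T := T.inv_mem h.yT
  rcases hcase with rfl | rfl | rfl | rfl
  · left
    exact ⟨h.conj_T ht h.xT, h.conj_T ht h.yT, ht⟩
  · right; left
    refine ⟨?_, ?_, t, ht, rfl⟩
    · calc t * a * x * (t * a)⁻¹ = t * (a * x * a⁻¹) * t⁻¹ := by group
        _ = x := by rw [h.ax, h.conj_T ht h.xT]
    · calc t * a * y * (t * a)⁻¹ = t * (a * y * a⁻¹) * t⁻¹ := by group
        _ = y⁻¹ := by rw [h.ay, h.conj_T ht hyi]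
  · right; right; left
    refine ⟨?_, ?_, t, ht, rfl⟩
    · calc t * b * x * (t * b)⁻¹ = t * (b * x * b⁻¹) * t⁻¹ := by group
        _ = x⁻¹ := by rw [h.bx, h.conj_T ht hxi]
    · calc t * b * y * (t * b)⁻¹ = t * (b * y * b⁻¹) * t⁻¹ := by group
        _ = y := by rw [h.by', h.conj_T ht h.yT]
  · right; right; right
    refine ⟨?_, ?_, t, ht, rfl⟩
    · calc t * (a * b) * x * (t * (a * b))⁻¹ = t * (a * (b * x * b⁻¹) * a⁻¹) * t⁻¹ := by group
        _ = t * (a * x * a⁻¹)⁻¹ * t⁻¹ := by rw [h.bx]; group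
        _ = x⁻¹ := by rw [h.ax, h.conj_T ht hxi]
    · calc t * (a * b) * y * (t * (a * b))⁻¹ = t * (a * (b * y * b⁻¹) * a⁻¹) * t⁻¹ := by group
        _ = y⁻¹ := by rw [h.by', h.ay, h.conj_T ht hyi]

/-- elements of order dividing 3 in `N(T)` lie in `T` -/
theorem mem_of_cube (h : Data T x y a b) (n : G) (hn : n ∈ Subgroup.normalizer (T : Set G))
    (h3 : n ^ 3 = 1) : n ∈ T := by
  have h2 := h.hyp.sq n hn
  have : n = (n ^ 2)⁻¹ := by
    apply eq_inv_of_mul_eq_one_left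
    rw [← pow_succ']; exact h3
  rw [this]
  exact T.inv_mem h2

/-- the TI property of `T` -/
theorem ti [Finite G] (h : Data T x y a b) (g t : G) (ht : t ∈ T) (ht1 : t ≠ 1)
    (hgt : g * t * g⁻¹ ∈ T) : g ∈ Subgroup.normalizer (T : Set G) := by
  have ht1' : g * t * g⁻¹ ≠ 1 := by
    intro he
    apply ht1
    have : t = g⁻¹ * (g * t * g⁻¹) * g := by group
    rw [this, he]; group
  have hloc := h.hyp.loc _ hgt ht1'
  -- `g T g⁻¹ ⊆ T`
  have hsub : ∀ s ∈ T, g * s * g⁻¹ ∈ T := by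
    intro s hs
    apply h.mem_of_cube
    · apply hloc
      rw [Subgroup.mem_centralizer_singleton_iff]
      have hc := h.hyp.comm s hs t ht
      calc g * s * g⁻¹ * (g * t * g⁻¹) = g * (s * t) * g⁻¹ := by group
        _ = g * (t * s) * g⁻¹ := by rw [hc]
        _ = g * t * g⁻¹ * (g * s * g⁻¹) := by group
    · have := map_pow (MulAut.conj g) s 3
      simp only [MulAut.conj_apply] at this
      rw [← this, h.hyp.cube s hs]; group
  rw [Subgroup.mem_normalizer_iff]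
  intro s
  refine ⟨hsub s, ?_⟩
  intro hs
  -- the injective map `s ↦ g s g⁻¹` of `T` is surjective
  let f : ↥T → ↥T := fun s => ⟨g * s.1 * g⁻¹, hsub s.1 s.2⟩
  have hinj : Function.Injective f := by
    intro s1 s2 he
    have he' : g * s1.1 * g⁻¹ = g * s2.1 * g⁻¹ := congrArg Subtype.val he
    apply Subtype.ext
    exact mul_left_cancel (mul_right_cancel he')
  have hsurj : Function.Surjective f := Finite.surjective_of_injective hinj
  obtain ⟨s', hs'⟩ := hsurj ⟨g * s * g⁻¹, hs⟩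
  have he' : g * s'.1 * g⁻¹ = g * s * g⁻¹ := congrArg Subtype.val hs'
  have : s'.1 = s := mul_left_cancel (mul_right_cancel he')
  rw [← this]
  exact s'.2

end Data

end Cfsg.Agent.Lib.Helper13.S3805Loc
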