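import Mathlib
import Cfsg.Agent.Lib.Helper13.S3805LocD

/-!
helper13: S3805 (helper8), Part A, file E: centralizer orders and fusion in `T`.
-/

set_option autoImplicit false
set_option linter.style.haveILetI false
set_option linter.unusedSectionVars false

namespace Cfsg.Agent.Lib.Helper13.S3805Loc

variable {G : Type*} [Group G]

namespace Data

variable {T : Subgroup G} {x y a b : G}

/-- uniqueness of the normal form, integer exponents -/
theorem zpow_nf (h : Data T x y a b) (i j k l : ℤ) (he : x ^ i * y ^ j = x ^ k * y ^ l) :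
    (3 : ℤ) ∣ i - k ∧ (3 : ℤ) ∣ j - l := by
  have hc : Commute x y := h.xy
  have h1 : x ^ (i - k) * y ^ (j - l) = 1 := by
    have e1 : x ^ (i - k) * y ^ (j - l) = (x ^ k * y ^ l)⁻¹ * (x ^ i * y ^ j) := by
      rw [zpow_sub, zpow_sub, mul_inv_rev]
      have c1 : Commute (x ^ i) (x ^ k)⁻¹ := ((Commute.refl x).zpow_zpow i k).inv_right
      have c2 : Commute (x ^ i) (y ^ l)⁻¹ := (hc.zpow_zpow i l).inv_right
      have c3 : Commute (y ^ j) (y ^ l)⁻¹ := ((Commute.refl y).zpow_zpow j l).inv_right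
      have c4 : Commute (x ^ k)⁻¹ (y ^ l)⁻¹ := ((hc.zpow_zpow k l).inv_left).inv_right
      calc x ^ i * (x ^ k)⁻¹ * (y ^ j * (y ^ l)⁻¹)
          = x ^ i * (x ^ k)⁻¹ * ((y ^ l)⁻¹ * y ^ j) := by rw [c3.eq]
        _ = (x ^ k)⁻¹ * (x ^ i * (y ^ l)⁻¹) * y ^ j := by rw [c1.eq]; group
        _ = (x ^ k)⁻¹ * ((y ^ l)⁻¹ * x ^ i) * y ^ j := by rw [c2.eq]
        _ = (y ^ l)⁻¹ * (x ^ k)⁻¹ * (x ^ i * y ^ j) := by
          rw [← mul_assoc (x ^ k)⁻¹, c4.eq]; group
    rw [e1, he, inv_mul_cancel]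
  obtain ⟨h2, h3⟩ := h.toPre.indep _ _ h1
  exact ⟨h.toPre.dvd_of_x_zpow _ h2, h.toPre.dvd_of_y_zpow _ h3⟩

/-- a convenient form: an equation between monomials is impossible unless exponents agree mod 3 -/
theorem zpow_nf' (h : Data T x y a b) (i j k l : ℤ) (hne : ¬ ((3 : ℤ) ∣ i - k ∧ (3 : ℤ) ∣ j - l)) :
    x ^ i * y ^ j ≠ x ^ k * y ^ l := fun he => hne (h.zpow_nf i j k l he)

theorem xy_mem (h : Data T x y a b) : x * y ∈ T := T.mul_mem h.xT h.yT

theorem xy_ne_one (h : Data T x y a b) : x * y ≠ 1 := by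
  have := h.zpow_nf' 1 1 0 0 (by norm_num)
  simpa using this

variable [Finite G]

/-- fusion of `x` in `T` -/
theorem conj_x_mem (h : Data T x y a b) (s : G) (hs : IsConj x s) (hsT : s ∈ T) :
    s = x ∨ s = x⁻¹ := by
  obtain ⟨g, hg⟩ := isConj_iff.mp hs
  have hgN := h.ti g x h.xT h.x1 (by rw [hg]; exact hsT)
  rcases h.act g hgN with ⟨h1, -, -⟩ | ⟨h1, -, -⟩ | ⟨h1, -, -⟩ | ⟨h1, -, -⟩
  · left; rw [← hg, h1]
  · left; rw [← hg, h1]
  · right; rw [← hg, h1]
  · right; rw [← hg, h1]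

theorem conj_y_mem (h : Data T x y a b) (s : G) (hs : IsConj y s) (hsT : s ∈ T) :
    s = y ∨ s = y⁻¹ := h.symm.conj_x_mem s hs hsT

theorem conj_xy_mem (h : Data T x y a b) (s : G) (hs : IsConj (x * y) s) (hsT : s ∈ T) :
    s = x * y ∨ s = x * y⁻¹ ∨ s = x⁻¹ * y ∨ s = x⁻¹ * y⁻¹ := by
  obtain ⟨g, hg⟩ := isConj_iff.mp hs
  have hgN := h.ti g (x * y) h.xy_mem h.xy_ne_one (by rw [hg]; exact hsT)
  have e : g * (x * y) * g⁻¹ = (g * x * g⁻¹) * (g * y * g⁻¹) := by group
  rw [e] at hg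
  rcases h.act g hgN with ⟨h1, h2, -⟩ | ⟨h1, h2, -⟩ | ⟨h1, h2, -⟩ | ⟨h1, h2, -⟩
  · left; rw [← hg, h1, h2]
  · right; left; rw [← hg, h1, h2]
  · right; right; left; rw [← hg, h1, h2]
  · right; right; right; rw [← hg, h1, h2]

theorem not_conj_x_y (h : Data T x y a b) : ¬ IsConj x y := by
  intro hc
  rcases h.conj_x_mem y hc h.yT with he | he
  · have := h.zpow_nf' 0 1 1 0 (by norm_num)
    apply this; simpa using he
  · have := h.zpow_nf' 0 1 (-1) 0 (by norm_num)
    apply this; simpa using he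

theorem not_conj_x_y_inv (h : Data T x y a b) : ¬ IsConj x y⁻¹ := by
  intro hc
  rcases h.conj_x_mem y⁻¹ hc (T.inv_mem h.yT) with he | he
  · have := h.zpow_nf' 0 (-1) 1 0 (by norm_num)
    apply this; simpa using he
  · have := h.zpow_nf' 0 (-1) (-1) 0 (by norm_num)
    apply this; simpa using he

theorem not_conj_x_xy (h : Data T x y a b) : ¬ IsConj x (x * y) := by
  intro hc
  rcases h.conj_x_mem (x * y) hc h.xy_mem with he | he
  · have := h.zpow_nf' 1 1 1 0 (by norm_num)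
    apply this; simpa using he
  · have := h.zpow_nf' 1 1 (-1) 0 (by norm_num)
    apply this; simpa using he

theorem not_conj_x_xy_inv (h : Data T x y a b) : ¬ IsConj x (x * y)⁻¹ := by
  intro hc
  have e : (x * y)⁻¹ = x ^ (-1 : ℤ) * y ^ (-1 : ℤ) := by
    rw [mul_inv_rev, zpow_neg_one, zpow_neg_one]
    have hc : Commute x y := h.xy
    exact (hc.inv_inv).symm.eq
  rcases h.conj_x_mem _ hc (T.inv_mem h.xy_mem) with he | he
  · have := h.zpow_nf' (-1) (-1) 1 0 (by norm_num)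
    apply this; rw [← e, he]; simp
  · have := h.zpow_nf' (-1) (-1) (-1) 0 (by norm_num)
    apply this; rw [← e, he]; simp

theorem not_conj_y_x (h : Data T x y a b) : ¬ IsConj y x := h.symm.not_conj_x_y
theorem not_conj_y_x_inv (h : Data T x y a b) : ¬ IsConj y x⁻¹ := h.symm.not_conj_x_y_inv
theorem not_conj_y_xy (h : Data T x y a b) : ¬ IsConj y (x * y) := by
  rw [h.xy]; exact h.symm.not_conj_x_xy
theorem not_conj_y_xy_inv (h : Data T x y a b) : ¬ IsConj y (x * y)⁻¹ := by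
  rw [h.xy]; exact h.symm.not_conj_x_xy_inv

/-- `|C_G(x)| = 18` -/
theorem card_centralizer_x (h : Data T x y a b) :
    Nat.card ↥(Subgroup.centralizer ({x} : Set G)) = 18 := by
  have hCN : Subgroup.centralizer ({x} : Set G) ≤ Subgroup.normalizer (T : Set G) :=
    h.hyp.loc x h.xT h.x1
  have hTC : T ≤ Subgroup.centralizer ({x} : Set G) := by
    intro t ht
    rw [Subgroup.mem_centralizer_singleton_iff]
    exact h.hyp.comm t ht x h.xT
  have haC : a ∈ Subgroup.centralizer ({x} : Set G) := by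
    rw [Subgroup.mem_centralizer_singleton_iff]
    exact h.ax'
  have hbC : b ∉ Subgroup.centralizer ({x} : Set G) := by
    rw [Subgroup.mem_centralizer_singleton_iff]
    intro hb
    apply h.x_inv_ne
    rw [← h.bx, hb]; group
  have d1 : 9 ∣ Nat.card ↥(Subgroup.centralizer ({x} : Set G)) := by
    rw [← h.hyp.card]; exact Subgroup.card_dvd_of_le hTC
  have d2 : 2 ∣ Nat.card ↥(Subgroup.centralizer ({x} : Set G)) := by
    have := orderOf_dvd_natCard (⟨a, haC⟩ : ↥(Subgroup.centralizer ({x} : Set G)))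
    rwa [Subgroup.orderOf_mk, h.orderOf_a] at this
  have d3 : Nat.card ↥(Subgroup.centralizer ({x} : Set G)) ∣ 36 := by
    rw [← h.hyp.cardN]; exact Subgroup.card_dvd_of_le hCN
  have d4 : Nat.card ↥(Subgroup.centralizer ({x} : Set G)) ≠ 36 := by
    intro he
    have : Subgroup.centralizer ({x} : Set G) = Subgroup.normalizer (T : Set G) :=
      Subgroup.eq_of_le_of_card_ge hCN (by rw [he, h.hyp.cardN])
    apply hbC; rw [this]; exact h.bN
  have d5 : 9 * 2 ∣ Nat.card ↥(Subgroup.centralizer ({x} : Set G)) :=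
    Nat.Coprime.mul_dvd_of_dvd_of_dvd (by norm_num) d1 d2
  obtain ⟨c, hc⟩ := d5
  rw [hc] at d3 d4 ⊢
  have hc2 : c ∣ 2 := by
    have : 9 * 2 * c ∣ 9 * 2 * 2 := by simpa using d3
    exact Nat.dvd_of_mul_dvd_mul_left (by norm_num) this
  have hcle : c ≤ 2 := Nat.le_of_dvd (by norm_num) hc2
  interval_cases c
  · simp at hc2
  · rfl
  · exact absurd rfl d4

theorem card_centralizer_y (h : Data T x y a b) :
    Nat.card ↥(Subgroup.centralizer ({y} : Set G)) = 18 := h.symm.card_centralizer_x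

/-- `C_G(xy) = T` -/
theorem centralizer_xy (h : Data T x y a b) : Subgroup.centralizer ({x * y} : Set G) = T := by
  apply le_antisymm
  · intro n hn
    have hnN : n ∈ Subgroup.normalizer (T : Set G) := h.hyp.loc _ h.xy_mem h.xy_ne_one hn
    rw [Subgroup.mem_centralizer_singleton_iff] at hn
    have e : (n * x * n⁻¹) * (n * y * n⁻¹) = x * y := by
      calc (n * x * n⁻¹) * (n * y * n⁻¹) = n * (x * y) * n⁻¹ := by group
        _ = x * y * n * n⁻¹ := by rw [hn]
        _ = x * y := by group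
    rcases h.act n hnN with ⟨-, -, h3⟩ | ⟨h1, h2, -⟩ | ⟨h1, h2, -⟩ | ⟨h1, h2, -⟩
    · exact h3
    · exfalso
      rw [h1, h2] at e
      have := h.zpow_nf' 1 (-1) 1 1 (by norm_num)
      apply this; simpa using e
    · exfalso
      rw [h1, h2] at e
      have := h.zpow_nf' (-1) 1 1 1 (by norm_num)
      apply this; simpa using e
    · exfalso
      rw [h1, h2] at e
      have := h.zpow_nf' (-1) (-1) 1 1 (by norm_num)
      apply this; simpa using e
  · intro t ht
    rw [Subgroup.mem_centralizer_singleton_iff]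
    exact h.hyp.comm t ht _ h.xy_mem

theorem card_centralizer_xy (h : Data T x y a b) :
    Nat.card ↥(Subgroup.centralizer ({x * y} : Set G)) = 9 := by
  rw [h.centralizer_xy, h.hyp.card]

end Data

end Cfsg.Agent.Lib.Helper13.S3805Loc
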