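import Mathlib
import Cfsg.Agent.Lib.Helper13.S3805LocE

/-!
helper13: S3805 (helper8), Part A, file F: `|C_G(xa)| = |C_G(by)| = 6`.
-/

set_option autoImplicit false
set_option linter.style.haveILetI false
set_option linter.unusedSectionVars false

namespace Cfsg.Agent.Lib.Helper13.S3805Loc

variable {G : Type*} [Group G]

namespace Data

variable {T : Subgroup G} {x y a b : G}

variable [Finite G]

/-- `|C_G(xa)| = 6` -/
theorem card_centralizer_xa (h : Data T x y a b) :
    Nat.card ↥(Subgroup.centralizer ({x * a} : Set G)) = 6 := by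
  classical
  have hxa : Commute x a := h.ax'.symm
  have ha3 : a ^ 3 = a := by rw [pow_succ, pow_two, h.a2, one_mul]
  have ha4 : a ^ 4 = 1 := by rw [pow_succ, ha3, h.a2]
  have hx4 : x ^ 4 = x := by rw [pow_succ, h.x3, one_mul]
  have e4 : (x * a) ^ 4 = x := by rw [hxa.mul_pow, hx4, ha4, mul_one]
  have e3 : (x * a) ^ 3 = a := by rw [hxa.mul_pow, h.x3, one_mul, ha3]
  have hmem : ∀ n ∈ Subgroup.centralizer ({x * a} : Set G),
      ∃ i : Fin 3, ∃ k : Fin 2, n = x ^ (i : ℕ) * a ^ (k : ℕ) := by
    intro n hn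
    rw [Subgroup.mem_centralizer_singleton_iff] at hn
    have hc : Commute n (x * a) := hn
    have hnx : n * x = x * n := by
      have := hc.pow_right 4
      rwa [e4] at this
    have hna : n * a = a * n := by
      have := hc.pow_right 3
      rwa [e3] at this
    have hnN : n ∈ Subgroup.normalizer (T : Set G) :=
      h.hyp.loc x h.xT h.x1 (by rw [Subgroup.mem_centralizer_singleton_iff]; exact hnx)
    have hx' : n * x * n⁻¹ = x := by rw [hnx]; group
    rcases h.act n hnN with ⟨-, -, h3⟩ | ⟨-, -, t, ht, rfl⟩ | ⟨h1, -, -⟩ | ⟨h1, -, -⟩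
    · have hfix : a * n * a⁻¹ = n := by rw [← hna]; group
      obtain ⟨i, hi, rfl⟩ := h.toPre.fixed_form n h3 hfix
      exact ⟨⟨i, hi⟩, 0, by simp⟩
    · have hta : t * a = a * t := by
        have e1 : t * a * a = a * (t * a) := hna
        calc t * a = t * a * a * a⁻¹ := by group
          _ = a * (t * a) * a⁻¹ := by rw [e1]
          _ = a * t := by group
      have hfix : a * t * a⁻¹ = t := by rw [← hta]; group
      obtain ⟨i, hi, rfl⟩ := h.toPre.fixed_form t ht hfix
      exact ⟨⟨i, hi⟩, 1, by simp⟩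
    · exfalso; apply h.x_inv_ne; rw [← h1, hx']
    · exfalso; apply h.x_inv_ne; rw [← h1, hx']
  let f : Fin 3 × Fin 2 → G := fun p => x ^ (p.1 : ℕ) * a ^ (p.2 : ℕ)
  have hle : Nat.card ↥(Subgroup.centralizer ({x * a} : Set G)) ≤ 6 := by
    have hsub : ((Subgroup.centralizer ({x * a} : Set G) : Subgroup G) : Set G) ⊆ f '' Set.univ := by
      intro n hn
      obtain ⟨i, k, rfl⟩ := hmem n hn
      exact ⟨(i, k), Set.mem_univ _, rfl⟩
    calc Nat.card ↥(Subgroup.centralizer ({x * a} : Set G))
        = ((Subgroup.centralizer ({x * a} : Set G) : Subgroup G) : Set G).ncard := rfl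
      _ ≤ (f '' Set.univ).ncard := Set.ncard_le_ncard hsub (Set.toFinite _)
      _ ≤ (Set.univ : Set (Fin 3 × Fin 2)).ncard := Set.ncard_image_le (Set.toFinite _)
      _ = 6 := by rw [Set.ncard_univ, Nat.card_prod, Nat.card_eq_fintype_card,
          Nat.card_eq_fintype_card, Fintype.card_fin, Fintype.card_fin]
  have hxC : x ∈ Subgroup.centralizer ({x * a} : Set G) := by
    rw [Subgroup.mem_centralizer_singleton_iff]
    calc x * (x * a) = x * x * a := by group
      _ = x * (a * x) := by rw [h.ax']; group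
      _ = x * a * x := by group
  have haC : a ∈ Subgroup.centralizer ({x * a} : Set G) := by
    rw [Subgroup.mem_centralizer_singleton_iff]
    calc a * (x * a) = a * x * a := by group
      _ = x * a * a := by rw [h.ax']
  have d1 : 3 ∣ Nat.card ↥(Subgroup.centralizer ({x * a} : Set G)) := by
    have := orderOf_dvd_natCard (⟨x, hxC⟩ : ↥(Subgroup.centralizer ({x * a} : Set G)))
    rwa [Subgroup.orderOf_mk, h.orderOf_x] at this
  have d2 : 2 ∣ Nat.card ↥(Subgroup.centralizer ({x * a} : Set G)) := by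
    have := orderOf_dvd_natCard (⟨a, haC⟩ : ↥(Subgroup.centralizer ({x * a} : Set G)))
    rwa [Subgroup.orderOf_mk, h.orderOf_a] at this
  have d5 : 3 * 2 ∣ Nat.card ↥(Subgroup.centralizer ({x * a} : Set G)) :=
    Nat.Coprime.mul_dvd_of_dvd_of_dvd (by norm_num) d1 d2
  have hpos : 0 < Nat.card ↥(Subgroup.centralizer ({x * a} : Set G)) := Nat.card_pos
  obtain ⟨c, hc⟩ := d5
  rw [hc] at hle hpos ⊢
  have : c = 1 := by omega
  rw [this]

/-- `|C_G(by)| = 6` -/
theorem card_centralizer_by (h : Data T x y a b) :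
    Nat.card ↥(Subgroup.centralizer ({b * y} : Set G)) = 6 := by
  rw [h.by'']
  exact h.symm.card_centralizer_xa

end Data

end Cfsg.Agent.Lib.Helper13.S3805Loc
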