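import Mathlib
import Cfsg.Agent.Lib.Helper13.S3805LocF
import Cfsg.Agent.Lib.Helper13.S3805LocG

/-!
helper13: S3805 (helper8), Part A, file H: Lemma Delta.
If `p ^ 3 = q ^ 3 = 1` and `p q = z ∈ T^#` then `p, q ∈ T` or `p` is conjugate to `z⁻¹`.
-/

set_option autoImplicit false
set_option linter.style.haveILetI false
set_option linter.unusedSectionVars false

namespace Cfsg.Agent.Lib.Helper13.S3805Loc

variable {G : Type*} [Group G]

namespace Data

variable {T : Subgroup G} {x y a b : G}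

variable [Finite G]

/-- Lemma Delta, strong form -/
theorem delta' (h : Data T x y a b) (p q z : G) (hp : p ^ 3 = 1) (hq : q ^ 3 = 1)
    (hpq : p * q = z) (hz : z ∈ T) (hz1 : z ≠ 1) : (p ∈ T ∧ q ∈ T) ∨ IsConj p z⁻¹ := by
  classical
  subst hpq
  have htri : Tri p q := ⟨hp, hq, h.hyp.cube _ hz⟩
  -- `z` acts on `K` as `τ`
  have hzact : ∀ k ∈ Tri.K p q, (p * q) * k * (p * q)⁻¹ = p⁻¹ * k * p := by
    intro k hk
    have hc := htri.comm _ htri.kappa_mem _ (htri.tau_mem k hk)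
    calc (p * q) * k * (p * q)⁻¹ = (p * q * p) * (p⁻¹ * k * p) * (p * q * p)⁻¹ := by group
      _ = (p⁻¹ * k * p) * (p * q * p) * (p * q * p)⁻¹ := by rw [hc]
      _ = p⁻¹ * k * p := by group
  have htau2 : ∀ k : G, p⁻¹ * (p⁻¹ * k * p) * p = p * k * p⁻¹ := by
    intro k
    rw [htri.tau_eq (p⁻¹ * k * p)]; group
  by_cases hex : ∃ k ∈ Tri.K p q, k ≠ 1 ∧ k ^ 3 = 1
  · left
    obtain ⟨k, hk, hk1, hk3⟩ := hex
    -- an element of order 3 of `K` centralized by `z`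
    have hk0 : ∃ k0 ∈ Tri.K p q, k0 ≠ 1 ∧ k0 ^ 3 = 1 ∧ p⁻¹ * k0 * p = k0 := by
      by_cases hfix : p⁻¹ * k * p = k
      · exact ⟨k, hk, hk1, hk3, hfix⟩
      · have hu := htri.tau_mem k hk
        have hu3 : (p⁻¹ * k * p) ^ 3 = 1 := by
          have : (p⁻¹ * k * p) ^ 3 = p⁻¹ * k ^ 3 * p := by
            rw [pow_succ, pow_two, pow_succ, pow_two]; group
          rw [this, hk3]; group
        have hc : Commute k⁻¹ (p⁻¹ * k * p) := htri.comm _ ((Tri.K p q).inv_mem hk) _ hu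
        refine ⟨k⁻¹ * (p⁻¹ * k * p), (Tri.K p q).mul_mem ((Tri.K p q).inv_mem hk) hu, ?_, ?_, ?_⟩
        · intro he
          apply hfix
          exact (eq_of_inv_mul_eq_one he).symm
        · rw [hc.mul_pow, inv_pow, hk3, inv_one, one_mul, hu3]
        · -- `τ(k⁻¹ u) = u⁻¹ w = k⁻¹ u`
          have hn := htri.norm k hk
          have hw : p * k * p⁻¹ = (p⁻¹ * k * p)⁻¹ * k⁻¹ := by
            have := eq_inv_of_mul_eq_one_right hn
            rw [this, mul_inv_rev]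
          have huu : (p⁻¹ * k * p)⁻¹ * (p⁻¹ * k * p)⁻¹ = p⁻¹ * k * p := by
            have e1 : (p⁻¹ * k * p) * (p⁻¹ * k * p) * (p⁻¹ * k * p) = 1 := by
              rw [← hu3, pow_succ, pow_two]
            have e2 := eq_inv_of_mul_eq_one_left e1
            rw [← mul_inv_rev, ← inv_inv (p⁻¹ * k * p * (p⁻¹ * k * p))]
            rw [e2, inv_inv, inv_inv]
          calc p⁻¹ * (k⁻¹ * (p⁻¹ * k * p)) * p
              = (p⁻¹ * k * p)⁻¹ * (p⁻¹ * (p⁻¹ * k * p) * p) := by group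
            _ = (p⁻¹ * k * p)⁻¹ * ((p⁻¹ * k * p)⁻¹ * k⁻¹) := by rw [htau2, hw]
            _ = ((p⁻¹ * k * p)⁻¹ * (p⁻¹ * k * p)⁻¹) * k⁻¹ := by group
            _ = (p⁻¹ * k * p) * k⁻¹ := by rw [huu]
            _ = k⁻¹ * (p⁻¹ * k * p) := hc.eq.symm
    obtain ⟨k0, hk0K, hk01, hk03, hk0fix⟩ := hk0
    have hk0z : (p * q) * k0 * (p * q)⁻¹ = k0 := by rw [hzact k0 hk0K, hk0fix]
    have hk0N : k0 ∈ Subgroup.normalizer (T : Set G) := by
      apply h.hyp.loc _ hz hz1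
      rw [Subgroup.mem_centralizer_singleton_iff]
      calc k0 * (p * q) = (p * q) * k0 * (p * q)⁻¹ * (p * q) := by rw [hk0z]
        _ = (p * q) * k0 := by group
    have hk0T : k0 ∈ T := h.mem_of_cube k0 hk0N hk03
    have hKN : ∀ k ∈ Tri.K p q, k ∈ Subgroup.normalizer (T : Set G) := by
      intro k' hk'
      apply h.hyp.loc k0 hk0T hk01
      rw [Subgroup.mem_centralizer_singleton_iff]
      exact htri.comm k' hk' k0 hk0K
    have hKT : ∀ k ∈ Tri.K p q, k ∈ T := by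
      intro k' hk'
      have hkN := hKN k' hk'
      have huK := htri.tau_mem k' hk'
      have huN := hKN _ huK
      have hzi : (p * q)⁻¹ ∈ T := T.inv_mem hz
      -- `u = c₁ k`, `w = c₂ u`
      have hc1 : (p * q) * (k' * (p * q)⁻¹ * k'⁻¹) ∈ T :=
        T.mul_mem hz (conj_mem_of_mem_normalizer hkN hzi)
      have hc2 : (p * q) * ((p⁻¹ * k' * p) * (p * q)⁻¹ * (p⁻¹ * k' * p)⁻¹) ∈ T :=
        T.mul_mem hz (conj_mem_of_mem_normalizer huN hzi)
      have hu : p⁻¹ * k' * p = (p * q) * (k' * (p * q)⁻¹ * k'⁻¹) * k' := by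
        rw [← hzact k' hk']; group
      have hw : p * k' * p⁻¹ =
          (p * q) * ((p⁻¹ * k' * p) * (p * q)⁻¹ * (p⁻¹ * k' * p)⁻¹) * (p⁻¹ * k' * p) := by
        rw [← htau2 k', ← hzact _ huK]; group
      set c1 := (p * q) * (k' * (p * q)⁻¹ * k'⁻¹) with hc1def
      set c2 := (p * q) * ((p⁻¹ * k' * p) * (p * q)⁻¹ * (p⁻¹ * k' * p)⁻¹) with hc2def
      have hn := htri.norm k' hk'
      rw [hw, hu] at hn
      -- `d₁ d₂ k³ = 1`
      have hkk : k' * k' ∈ Subgroup.normalizer (T : Set G) := Subgroup.mul_mem _ hkN hkN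
      have hd1 : k' * c1 * k'⁻¹ ∈ T := conj_mem_of_mem_normalizer hkN hc1
      have hd2 : (k' * k') * (c2 * c1) * (k' * k')⁻¹ ∈ T :=
        conj_mem_of_mem_normalizer hkk (T.mul_mem hc2 hc1)
      have hid : (k' * c1 * k'⁻¹) * ((k' * k') * (c2 * c1) * (k' * k')⁻¹) * (k' * k' * k') =
          k' * (c1 * k') * (c2 * (c1 * k')) := by group
      rw [hn] at hid
      have hk3 : k' * k' * k' ∈ T := by
        have := eq_inv_of_mul_eq_one_right hid
        rw [this]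
        exact T.inv_mem (T.mul_mem hd1 hd2)
      have hk2 : k' * k' ∈ T := by
        have := h.hyp.sq k' hkN
        rwa [pow_two] at this
      have : k' = (k' * k' * k') * (k' * k')⁻¹ := by group
      rw [this]
      exact T.mul_mem hk3 (T.inv_mem hk2)
    have ht2 : q⁻¹ * p ∈ T := hKT _ Tri.t2_mem
    have hpp : p * p ∈ T := by
      have : p * p = (p * q) * (q⁻¹ * p) := by group
      rw [this]
      exact T.mul_mem hz ht2
    have hpT : p ∈ T := by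
      have : p = (p * p)⁻¹ := by rw [htri.pp, inv_inv]
      rw [this]
      exact T.inv_mem hpp
    refine ⟨hpT, ?_⟩
    have : q = p⁻¹ * (p * q) := by group
    rw [this]
    exact T.mul_mem (T.inv_mem hpT) hz
  · right
    push Not at hex
    have hex' : ∀ k ∈ Tri.K p q, k ^ 3 = 1 → k = 1 := by
      intro k hk hk3
      by_contra hne
      exact hex k hk hne hk3
    let φ : ↥(Tri.K p q) → ↥(Tri.K p q) := fun k =>
      ⟨k.1 * (p⁻¹ * k.1⁻¹ * p), (Tri.K p q).mul_mem k.2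
        (htri.tau_mem _ ((Tri.K p q).inv_mem k.2))⟩
    have hinj : Function.Injective φ := by
      rintro ⟨h1, hh1⟩ ⟨h2, hh2⟩ he
      have he' : h1 * (p⁻¹ * h1⁻¹ * p) = h2 * (p⁻¹ * h2⁻¹ * p) := congrArg Subtype.val he
      -- `d = h2⁻¹ h1` is fixed by `τ`
      have hd : h2⁻¹ * h1 ∈ Tri.K p q := (Tri.K p q).mul_mem ((Tri.K p q).inv_mem hh2) hh1
      have hfix : p⁻¹ * (h2⁻¹ * h1) * p = h2⁻¹ * h1 := by
        calc p⁻¹ * (h2⁻¹ * h1) * p = (p⁻¹ * h2⁻¹ * p) * (p⁻¹ * h1⁻¹ * p)⁻¹ := by group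
          _ = h2⁻¹ * (h2 * (p⁻¹ * h2⁻¹ * p)) * (p⁻¹ * h1⁻¹ * p)⁻¹ := by group
          _ = h2⁻¹ * (h1 * (p⁻¹ * h1⁻¹ * p)) * (p⁻¹ * h1⁻¹ * p)⁻¹ := by rw [he']
          _ = h2⁻¹ * h1 := by group
      have hfix' : p * (h2⁻¹ * h1) * p⁻¹ = h2⁻¹ * h1 := by
        nth_rewrite 1 [← hfix]; group
      have hn := htri.norm _ hd
      rw [hfix, hfix'] at hn
      have hd3 : (h2⁻¹ * h1) ^ 3 = 1 := by rw [pow_succ, pow_two]; exact hn
      have hd1 := hex' _ hd hd3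
      apply Subtype.ext
      exact (eq_of_inv_mul_eq_one hd1).symm
    have hsurj : Function.Surjective φ := Finite.surjective_of_injective hinj
    obtain ⟨⟨h', hh'⟩, hφ⟩ := hsurj ⟨p * q * p, htri.kappa_mem⟩
    have hφ' : h' * (p⁻¹ * h'⁻¹ * p) = p * q * p := congrArg Subtype.val hφ
    rw [isConj_iff]
    refine ⟨h', ?_⟩
    have e1 : p * q = h' * p⁻¹ * h'⁻¹ := by
      calc p * q = (p * q * p) * p⁻¹ := by group
        _ = h' * (p⁻¹ * h'⁻¹ * p) * p⁻¹ := by rw [hφ']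
        _ = h' * p⁻¹ * h'⁻¹ := by group
    rw [e1]; group

/-- Lemma Delta in helper8's form -/
theorem delta (h : Data T x y a b) (p q z : G) (hp : p ^ 3 = 1) (hq : q ^ 3 = 1)
    (hpq : p * q = z) (hz : z ∈ T) (hz1 : z ≠ 1) :
    (p ∈ T ∧ q ∈ T) ∨ IsConj p z ∨ IsConj p z⁻¹ := by
  rcases h.delta' p q z hp hq hpq hz hz1 with h1 | h1
  · exact Or.inl h1
  · exact Or.inr (Or.inr h1)

end Data

end Cfsg.Agent.Lib.Helper13.S3805Loc
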