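import Mathlib
import Cfsg.Agent.Lib.Helper13.S3805LocH

/-!
helper13: S3805 (helper8), Part A, file I: the local class multiplication counts and the final
existence statement from the exact hypotheses of `Cfsg/Statements/S3805.lean`.
-/

set_option autoImplicit false
set_option linter.style.haveILetI false
set_option linter.unusedSectionVars false

namespace Cfsg.Agent.Lib.Helper13.S3805Loc

variable {G : Type*} [Group G]

theorem cube_of_isConj {c s : G} (hc : c ^ 3 = 1) (hs : IsConj c s) : s ^ 3 = 1 := by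
  obtain ⟨g, rfl⟩ := isConj_iff.mp hs
  have : (g * c * g⁻¹) ^ 3 = g * c ^ 3 * g⁻¹ := by
    rw [pow_succ, pow_two, pow_succ, pow_two]; group
  rw [this, hc]; group

namespace Data

variable {T : Subgroup G} {x y a b : G}

variable [Finite G]

/-- a factorization of `z ∈ T^#` into conjugates of elements of order 3 is inside `T` -/
theorem pair_in_T (h : Data T x y a b) (c d z s : G) (hc3 : c ^ 3 = 1) (hd3 : d ^ 3 = 1)
    (hs : IsConj c s) (hs' : IsConj d (s⁻¹ * z)) (hz : z ∈ T) (hz1 : z ≠ 1)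
    (hnc : ¬ IsConj c z⁻¹) : s ∈ T ∧ s⁻¹ * z ∈ T := by
  have hp := cube_of_isConj hc3 hs
  have hq := cube_of_isConj hd3 hs'
  rcases h.delta' s (s⁻¹ * z) z hp hq (by group) hz hz1 with h1 | h1
  · exact h1
  · exact absurd (hs.trans h1) hnc

theorem count_xx_y (h : Data T x y a b) :
    Nat.card {s : G // IsConj x s ∧ IsConj x (s⁻¹ * y)} = 0 := by
  haveI : IsEmpty {s : G // IsConj x s ∧ IsConj x (s⁻¹ * y)} := by
    refine ⟨?_⟩
    rintro ⟨s, hs1, hs2⟩
    obtain ⟨hsT, hqT⟩ := h.pair_in_T x x y s h.x3 h.x3 hs1 hs2 h.yT h.y1 h.not_conj_x_y_inv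
    have e : y = s * (s⁻¹ * y) := by group
    rcases h.conj_x_mem s hs1 hsT with h1 | h1 <;>
      rcases h.conj_x_mem _ hs2 hqT with h2 | h2
    · rw [h2, h1] at e
      apply h.zpow_nf' 0 1 2 0 (by norm_num)
      simp only [zpow_zero, zpow_one, one_mul, mul_one]
      rw [zpow_two]; exact e
    · rw [h2, h1] at e
      apply h.zpow_nf' 0 1 0 0 (by norm_num)
      simp only [zpow_zero, zpow_one, one_mul, mul_one]
      rw [e, mul_inv_cancel]
    · rw [h2, h1] at e
      apply h.zpow_nf' 0 1 0 0 (by norm_num)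
      simp only [zpow_zero, zpow_one, one_mul, mul_one]
      rw [e, inv_mul_cancel]
    · rw [h2, h1] at e
      apply h.zpow_nf' 0 1 (-2) 0 (by norm_num)
      simp only [zpow_zero, zpow_one, one_mul, mul_one]
      rw [zpow_neg, zpow_two, mul_inv_rev]; exact e
  exact Nat.card_of_isEmpty

theorem count_xx_xy (h : Data T x y a b) :
    Nat.card {s : G // IsConj x s ∧ IsConj x (s⁻¹ * (x * y))} = 0 := by
  haveI : IsEmpty {s : G // IsConj x s ∧ IsConj x (s⁻¹ * (x * y))} := by
    refine ⟨?_⟩
    rintro ⟨s, hs1, hs2⟩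
    obtain ⟨hsT, hqT⟩ := h.pair_in_T x x (x * y) s h.x3 h.x3 hs1 hs2 h.xy_mem h.xy_ne_one
      h.not_conj_x_xy_inv
    have e : x * y = s * (s⁻¹ * (x * y)) := by group
    rcases h.conj_x_mem s hs1 hsT with h1 | h1 <;>
      rcases h.conj_x_mem _ hs2 hqT with h2 | h2
    · rw [h2, h1] at e
      apply h.zpow_nf' 1 1 2 0 (by norm_num)
      simp only [zpow_zero, zpow_one, one_mul, mul_one]
      rw [zpow_two]; exact e
    · rw [h2, h1] at e
      apply h.zpow_nf' 1 1 0 0 (by norm_num)
      simp only [zpow_zero, zpow_one, one_mul, mul_one]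
      rw [e, mul_inv_cancel]
    · rw [h2, h1] at e
      apply h.zpow_nf' 1 1 0 0 (by norm_num)
      simp only [zpow_zero, zpow_one, one_mul, mul_one]
      rw [e, inv_mul_cancel]
    · rw [h2, h1] at e
      apply h.zpow_nf' 1 1 (-2) 0 (by norm_num)
      simp only [zpow_zero, zpow_one, one_mul, mul_one]
      rw [zpow_neg, zpow_two, mul_inv_rev]; exact e
  exact Nat.card_of_isEmpty

theorem count_yy_x (h : Data T x y a b) :
    Nat.card {s : G // IsConj y s ∧ IsConj y (s⁻¹ * x)} = 0 := h.symm.count_xx_y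

theorem count_yy_xy (h : Data T x y a b) :
    Nat.card {s : G // IsConj y s ∧ IsConj y (s⁻¹ * (x * y))} = 0 := by
  rw [h.xy]; exact h.symm.count_xx_xy

theorem count_xy_xy (h : Data T x y a b) :
    Nat.card {s : G // IsConj x s ∧ IsConj y (s⁻¹ * (x * y))} = 1 := by
  rw [Nat.card_eq_one_iff_unique]
  constructor
  · refine ⟨?_⟩
    have key : ∀ s : G, IsConj x s → IsConj y (s⁻¹ * (x * y)) → s = x := by
      intro s hs1 hs2
      obtain ⟨hsT, hqT⟩ := h.pair_in_T x y (x * y) s h.x3 h.y3 hs1 hs2 h.xy_mem h.xy_ne_one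
        h.not_conj_x_xy_inv
      have e : x * y = s * (s⁻¹ * (x * y)) := by group
      rcases h.conj_x_mem s hs1 hsT with h1 | h1 <;>
        rcases h.conj_y_mem _ hs2 hqT with h2 | h2
      · exact h1
      · exact h1
      · exfalso
        rw [h2, h1] at e
        apply h.zpow_nf' 1 1 (-1) 1 (by norm_num)
        simp only [zpow_one, zpow_neg_one]
        exact e
      · exfalso
        rw [h2, h1] at e
        apply h.zpow_nf' 1 1 (-1) (-1) (by norm_num)
        simp only [zpow_one, zpow_neg_one]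
        exact e
    rintro ⟨s, hs1, hs2⟩ ⟨s', hs1', hs2'⟩
    apply Subtype.ext
    show s = s'
    rw [key s hs1 hs2, key s' hs1' hs2']
  · refine ⟨⟨x, IsConj.refl x, ?_⟩⟩
    rw [inv_mul_cancel_left]

end Data

/-- Part A from the exact hypotheses of S3805 -/
theorem exists_data_of_statement [Finite G]
    (T : Sylow 3 G) (hT : Cfsg.IsElementaryAbelian 3 (T : Subgroup G)) (hcard : Nat.card T = 9)
    (hC : Subgroup.centralizer ((T : Subgroup G) : Set G) = T)
    [hn : ((T : Subgroup G).subgroupOf (Subgroup.normalizer ((T : Subgroup G) : Set G))).Normal]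
    (hK : IsKleinFour (↥(Subgroup.normalizer ((T : Subgroup G) : Set G)) ⧸
      (T : Subgroup G).subgroupOf (Subgroup.normalizer ((T : Subgroup G) : Set G))))
    (hloc : ∀ t ∈ (T : Subgroup G), t ≠ 1 →
      Subgroup.centralizer ({t} : Set G) ≤ Subgroup.normalizer ((T : Subgroup G) : Set G)) :
    ∃ x y a b : G, Data (T : Subgroup G) x y a b :=
  exists_data (hyp_of_statement T hT hcard hC hK hloc)

end Cfsg.Agent.Lib.Helper13.S3805Loc
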