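import Mathlib
import Cfsg.Agent.Lib.Helper13.S3805LocI

/-!
helper13: S3805 (helper8), Part A, file J: extras for the character-theoretic half:
real classes, orders of `x y`, `x a`, `b y`, and non-conjugacy of the six column representatives
`1, x, y, x y, x a, b y`.
-/

set_option autoImplicit false
set_option linter.style.haveILetI false
set_option linter.unusedSectionVars false

namespace Cfsg.Agent.Lib.Helper13.S3805Loc

variable {G : Type*} [Group G]

namespace Data

variable {T : Subgroup G} {x y a b : G}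

theorem conj_x_inv (h : Data T x y a b) : IsConj x x⁻¹ := isConj_iff.mpr ⟨b, h.bx⟩
theorem conj_y_inv (h : Data T x y a b) : IsConj y y⁻¹ := isConj_iff.mpr ⟨a, h.ay⟩

theorem conj_xy_inv (h : Data T x y a b) : IsConj (x * y) (x * y)⁻¹ := by
  refine isConj_iff.mpr ⟨a * b, ?_⟩
  have hc : Commute x y := h.xy
  calc a * b * (x * y) * (a * b)⁻¹ = a * ((b * x * b⁻¹) * (b * y * b⁻¹)) * a⁻¹ := by group
    _ = a * (x⁻¹ * y) * a⁻¹ := by rw [h.bx, h.by']
    _ = (a * x * a⁻¹)⁻¹ * (a * y * a⁻¹) := by group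
    _ = x⁻¹ * y⁻¹ := by rw [h.ax, h.ay]
    _ = (x * y)⁻¹ := by rw [mul_inv_rev]; exact (hc.inv_inv).eq

theorem conj_xa_inv (h : Data T x y a b) : IsConj (x * a) (x * a)⁻¹ := by
  refine isConj_iff.mpr ⟨b, ?_⟩
  have hba : b * a * b⁻¹ = a := by rw [← h.ab]; group
  calc b * (x * a) * b⁻¹ = (b * x * b⁻¹) * (b * a * b⁻¹) := by group
    _ = x⁻¹ * a := by rw [h.bx, hba]
    _ = x⁻¹ * a⁻¹ := by rw [h.a_inv]
    _ = (a * x)⁻¹ := by rw [mul_inv_rev]
    _ = (x * a)⁻¹ := by rw [h.ax']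

theorem conj_by_inv (h : Data T x y a b) : IsConj (b * y) (b * y)⁻¹ := by
  have := h.symm.conj_xa_inv
  rwa [← h.by''] at this

theorem orderOf_xy (h : Data T x y a b) : orderOf (x * y) = 3 := by
  haveI : Fact (Nat.Prime 3) := ⟨by norm_num⟩
  exact orderOf_eq_prime (h.hyp.cube _ h.xy_mem) h.xy_ne_one

theorem orderOf_xa (h : Data T x y a b) : orderOf (x * a) = 6 := by
  have hc : Commute x a := h.ax'.symm
  have := hc.orderOf_mul_eq_mul_orderOf_of_coprime (by rw [h.orderOf_x, h.orderOf_a]; norm_num)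
  rw [this, h.orderOf_x, h.orderOf_a]

theorem orderOf_by (h : Data T x y a b) : orderOf (b * y) = 6 := by
  rw [h.by'']; exact h.symm.orderOf_xa

/-- `(x a)² = x⁻¹` -/
theorem xa_sq (h : Data T x y a b) : (x * a) * (x * a) = x⁻¹ := by
  have hxx : x * x = x⁻¹ := by
    apply eq_inv_of_mul_eq_one_left
    rw [← pow_two, ← pow_succ]; exact h.x3
  calc (x * a) * (x * a) = x * (a * x) * a := by group
    _ = x * (x * a) * a := by rw [h.ax']
    _ = (x * x) * (a * a) := by group
    _ = x⁻¹ := by rw [hxx, h.a2, mul_one]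

theorem by_sq (h : Data T x y a b) : (b * y) * (b * y) = y⁻¹ := by
  rw [h.by'']; exact h.symm.xa_sq

variable [Finite G]

theorem not_conj_xa_by (h : Data T x y a b) : ¬ IsConj (x * a) (b * y) := by
  intro hc
  obtain ⟨g, hg⟩ := isConj_iff.mp hc
  -- squares are conjugate: `x⁻¹ ~ y⁻¹`
  have h1 : g * x⁻¹ * g⁻¹ = y⁻¹ := by
    rw [← h.xa_sq, ← h.by_sq, ← hg]; group
  apply h.not_conj_x_y
  refine isConj_iff.mpr ⟨g, ?_⟩
  have : g * x * g⁻¹ = (g * x⁻¹ * g⁻¹)⁻¹ := by group
  rw [this, h1, inv_inv]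

theorem not_conj_by_xa (h : Data T x y a b) : ¬ IsConj (b * y) (x * a) :=
  fun hc => h.not_conj_xa_by hc.symm

/-- elements of different orders are not conjugate -/
theorem not_conj_of_orderOf_ne {u v : G} (hne : orderOf u ≠ orderOf v) : ¬ IsConj u v := by
  intro hc
  obtain ⟨g, rfl⟩ := isConj_iff.mp hc
  apply hne
  have := orderOf_injective (MulAut.conj g).toMonoidHom (MulAut.conj g).injective u
  simpa [MulAut.conj_apply] using this.symm

end Data

end Cfsg.Agent.Lib.Helper13.S3805Loc
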