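import Mathlib
import Cfsg.Agent.Lib.Helper13.S3805LocJ
import Cfsg.Agent.Lib.Helper24.Ord4320Cnt

/-!
helper13: S3805 (helper8), bridge leaf B4: the five class-multiplication equations in complex
form, from the local counts of `S3805LocI` and helper24's class multiplication formula.
-/

set_option autoImplicit false
set_option linter.style.haveILetI false
set_option linter.unusedSectionVars false

namespace Cfsg.Agent.Lib.Helper13.S3805Loc

open Cfsg
open Cfsg.Agent.Lib.Helper24 Cfsg.Agent.Lib.Helper24.Ord4320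

universe u

variable {G : Type u} [Group G]

theorem irr_eq_of_isConj (χ : IrrCharacter G) {u v : G} (h : IsConj u v) :
    (χ : G → ℂ) u = (χ : G → ℂ) v := by
  obtain ⟨g, rfl⟩ := isConj_iff.mp h
  exact (irr_conj χ u g).symm

/-- generic form: the class-multiplication sum from the local count -/
theorem class_sum_of_count [Fintype G] [Fintype (IrrCharacter G)] (c d z : G) (hz : IsConj z z⁻¹)
    (n m k : ℕ) (hn : Nat.card {s : G // IsConj c s ∧ IsConj d (s⁻¹ * z)} = n)
    (hc : Nat.card ↥(Subgroup.centralizer ({c} : Set G)) = m)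
    (hd : Nat.card ↥(Subgroup.centralizer ({d} : Set G)) = k) :
    (Fintype.card G : ℂ) * ∑ χ : IrrCharacter G,
      (χ : G → ℂ) c * (χ : G → ℂ) d * (χ : G → ℂ) z / (χ : G → ℂ) 1 = ((n * (m * k) : ℕ) : ℂ) := by
  have h1 := class_mul_count (G := G) c d z
  rw [card_pairs_conj, hn, hc, hd] at h1
  rw [h1]
  congr 1
  apply Finset.sum_congr rfl
  intro χ _
  rw [irr_eq_of_isConj χ hz]

theorem eqs [Fintype G] [Fintype (IrrCharacter G)] {T : Subgroup G} {x y a b : G}
    (h : Data T x y a b) :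
    (∑ χ : IrrCharacter G, (χ : G → ℂ) x * (χ : G → ℂ) x * (χ : G → ℂ) y / (χ : G → ℂ) 1 = 0) ∧
    (∑ χ : IrrCharacter G, (χ : G → ℂ) x * (χ : G → ℂ) x * (χ : G → ℂ) (x * y) / (χ : G → ℂ) 1 = 0) ∧
    (∑ χ : IrrCharacter G, (χ : G → ℂ) y * (χ : G → ℂ) y * (χ : G → ℂ) x / (χ : G → ℂ) 1 = 0) ∧
    (∑ χ : IrrCharacter G, (χ : G → ℂ) y * (χ : G → ℂ) y * (χ : G → ℂ) (x * y) / (χ : G → ℂ) 1 = 0) ∧
    ((Fintype.card G : ℂ) * ∑ χ : IrrCharacter G,
      (χ : G → ℂ) x * (χ : G → ℂ) y * (χ : G → ℂ) (x * y) / (χ : G → ℂ) 1 = 324) := by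
  have hG : (Fintype.card G : ℂ) ≠ 0 := by
    have : 0 < Fintype.card G := Fintype.card_pos
    exact_mod_cast this.ne'
  have zero : ∀ S : ℂ, (Fintype.card G : ℂ) * S = ((0 * (18 * 18) : ℕ) : ℂ) → S = 0 := by
    intro S hS
    have : (Fintype.card G : ℂ) * S = 0 := by rw [hS]; norm_num
    rcases mul_eq_zero.mp this with h0 | h0
    · exact absurd h0 hG
    · exact h0
  refine ⟨?_, ?_, ?_, ?_, ?_⟩
  · exact zero _ (class_sum_of_count x x y h.conj_y_inv 0 18 18 h.count_xx_y
      h.card_centralizer_x h.card_centralizer_x)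
  · exact zero _ (class_sum_of_count x x (x * y) h.conj_xy_inv 0 18 18 h.count_xx_xy
      h.card_centralizer_x h.card_centralizer_x)
  · exact zero _ (class_sum_of_count y y x h.conj_x_inv 0 18 18 h.count_yy_x
      h.card_centralizer_y h.card_centralizer_y)
  · exact zero _ (class_sum_of_count y y (x * y) h.conj_xy_inv 0 18 18 h.count_yy_xy
      h.card_centralizer_y h.card_centralizer_y)
  · have := class_sum_of_count x y (x * y) h.conj_xy_inv 1 18 18 h.count_xy_xy
      h.card_centralizer_x h.card_centralizer_y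
    rw [this]; norm_num

end Cfsg.Agent.Lib.Helper13.S3805Loc
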