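import Mathlib

/-!
# SIMS2 leaf G24: a group of order 24 with a self-centralizing normal subgroup of order 4 is `S₄`
-/

set_option autoImplicit false

namespace Cfsg.Agent.Lib.Helper13.SIMS2G24

open Subgroup

section abstract

variable {G : Type*} [Group G]

/-- an element of order 3 commutes with no non-identity element of `K` -/
theorem no_fix [Finite G] (K : Subgroup G) [hKn : K.Normal] (hK : Nat.card ↥K = 4)
    (hC : ∀ y : G, (∀ k ∈ K, y * k = k * y) → y ∈ K)
    (h : G) (h3 : h ^ 3 = 1) (h1 : h ≠ 1) (k : G) (hk : k ∈ K) (hk1 : k ≠ 1)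
    (hkh : h * k = k * h) : False := by
  classical
  have hnK : h ∉ K := by
    intro hh
    have h4' : (⟨h, hh⟩ : K) ^ 4 = 1 := by rw [← hK]; exact pow_card_eq_one'
    have h4 : h ^ 4 = 1 := by simpa using congrArg Subtype.val h4'
    apply h1
    calc h = h ^ 4 * (h ^ 3)⁻¹ := by group
      _ = 1 := by rw [h4, h3]; simp
  have hex : ∃ a ∈ K, h * a ≠ a * h := by
    by_contra hcon
    push Not at hcon
    exact hnK (hC h hcon)
  obtain ⟨a, ha, hah⟩ := hex
  have hbK : h * a * h⁻¹ ∈ K := hKn.conj_mem a ha h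
  have hcK : h * (h * a * h⁻¹) * h⁻¹ ∈ K := hKn.conj_mem _ hbK h
  have hca : h * (h * (h * a * h⁻¹) * h⁻¹) * h⁻¹ = a := by
    have e3 : h * h * h = 1 := by rw [← h3]; simp [pow_succ]
    have e3' : h⁻¹ * h⁻¹ * h⁻¹ = 1 := by
      rw [← inv_inj]; simp only [mul_inv_rev, inv_inv, inv_one, ← mul_assoc]; exact e3
    calc h * (h * (h * a * h⁻¹) * h⁻¹) * h⁻¹ = (h * h * h) * a * (h⁻¹ * h⁻¹ * h⁻¹) := by
          simp only [mul_assoc]
      _ = a := by rw [e3, e3']; simp
  have hk' : h * k * h⁻¹ = k := by rw [hkh]; group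
  -- the inequalities
  have e_ab : a ≠ h * a * h⁻¹ := by
    intro e; apply hah
    calc h * a = (h * a * h⁻¹) * h := by group
      _ = a * h := by rw [← e]
  have e_bc : h * a * h⁻¹ ≠ h * (h * a * h⁻¹) * h⁻¹ := by
    intro e; apply e_ab
    have := congrArg (fun x => h⁻¹ * x * h) e
    calc a = h⁻¹ * (h * a * h⁻¹) * h := by group
      _ = h⁻¹ * (h * (h * a * h⁻¹) * h⁻¹) * h := this
      _ = h * a * h⁻¹ := by group
  have e_ca : h * (h * a * h⁻¹) * h⁻¹ ≠ a := by
    intro e; apply e_ab
    calc a = h * (h * (h * a * h⁻¹) * h⁻¹) * h⁻¹ := hca.symm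
      _ = h * a * h⁻¹ := by rw [e]
  have e_a1 : a ≠ 1 := by
    intro e; apply hah; rw [e]; simp
  have e_b1 : h * a * h⁻¹ ≠ 1 := by
    intro e; apply e_a1
    calc a = h⁻¹ * (h * a * h⁻¹) * h := by group
      _ = 1 := by rw [e]; group
  have e_c1 : h * (h * a * h⁻¹) * h⁻¹ ≠ 1 := by
    intro e; apply e_b1
    calc h * a * h⁻¹ = h⁻¹ * (h * (h * a * h⁻¹) * h⁻¹) * h := by group
      _ = 1 := by rw [e]; group
  have e_ka : k ≠ a := by
    intro e; apply hah; rw [← e]; exact hkh
  have e_kb : k ≠ h * a * h⁻¹ := by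
    intro e; apply e_ka
    calc k = h⁻¹ * k * h := by
          calc k = h⁻¹ * (h * k) := by group
            _ = h⁻¹ * k * h := by rw [hkh]; group
      _ = h⁻¹ * (h * a * h⁻¹) * h := by rw [← e]
      _ = a := by group
  have e_kc : k ≠ h * (h * a * h⁻¹) * h⁻¹ := by
    intro e; apply e_kb
    calc k = h⁻¹ * k * h := by
          calc k = h⁻¹ * (h * k) := by group
            _ = h⁻¹ * k * h := by rw [hkh]; group
      _ = h⁻¹ * (h * (h * a * h⁻¹) * h⁻¹) * h := by rw [← e]
      _ = h * a * h⁻¹ := by group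
  let _ : Fintype ↥K := Fintype.ofFinite ↥K
  have hnd : ([1, ⟨k, hk⟩, ⟨a, ha⟩, ⟨_, hbK⟩, ⟨_, hcK⟩] : List ↥K).Nodup := by
    simp only [List.nodup_cons, List.mem_cons, List.not_mem_nil, or_false, not_or,
      List.nodup_nil, and_true, not_false_eq_true]
    refine ⟨⟨?_, ?_, ?_, ?_⟩, ⟨?_, ?_, ?_⟩, ⟨?_, ?_⟩, ?_⟩
    · intro e; exact hk1 (congrArg Subtype.val e).symm
    · intro e; exact e_a1 (congrArg Subtype.val e).symm
    · intro e; exact e_b1 (congrArg Subtype.val e).symm
    · intro e; exact e_c1 (congrArg Subtype.val e).symm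
    · intro e; exact e_ka (congrArg Subtype.val e)
    · intro e; exact e_kb (congrArg Subtype.val e)
    · intro e; exact e_kc (congrArg Subtype.val e)
    · intro e; exact e_ab (congrArg Subtype.val e)
    · intro e; exact e_ca (congrArg Subtype.val e).symm
    · intro e; exact e_bc (congrArg Subtype.val e)
  have := hnd.length_le_card
  rw [← Nat.card_eq_fintype_card, hK] at this
  simp at this

/-- the abstract form: order 24, normal self-centralizing `K` of order 4 -/
theorem perm_four_abstract [Finite G] (hcard : Nat.card G = 24) (K : Subgroup G) [hKn : K.Normal]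
    (hK : Nat.card ↥K = 4) (hC : ∀ y : G, (∀ k ∈ K, y * k = k * y) → y ∈ K) :
    Nonempty (G ≃* Equiv.Perm (Fin 4)) := by
  classical
  have : Fact (Nat.Prime 3) := ⟨Nat.prime_three⟩
  have hfac : Nat.factorization 24 3 = 1 := by
    have : (24 : ℕ) = 3 * 8 := by norm_num
    rw [this, Nat.factorization_mul (by norm_num) (by norm_num), Finsupp.add_apply,
      Nat.Prime.factorization_self Nat.prime_three,
      Nat.factorization_eq_zero_of_not_dvd (by norm_num)]
  obtain P : Sylow 3 G := default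
  have hP : Nat.card ↥(P : Subgroup G) = 3 := by
    rw [Sylow.card_eq_multiplicity P, hcard, hfac, pow_one]
  have hPidx : (P : Subgroup G).index = 8 := by
    have := Subgroup.card_mul_index (P : Subgroup G)
    rw [hP, hcard] at this
    omega
  -- a generator of `P`
  obtain ⟨h, hhP, hh1⟩ : ∃ h ∈ (P : Subgroup G), h ≠ 1 := by
    by_contra hcon
    push Not at hcon
    have : (P : Subgroup G) = ⊥ := (Subgroup.eq_bot_iff_forall _).2 hcon
    rw [← Subgroup.card_eq_one, hP] at this
    omega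
  have hh3 : h ^ 3 = 1 := by
    have h3' := pow_card_eq_one' (x := (⟨h, hhP⟩ : (P : Subgroup G)))
    rw [hP] at h3'
    simpa using congrArg Subtype.val h3'
  -- `P` is not contained in `K`
  have hPK : Disjoint (P : Subgroup G) K := by
    apply Subgroup.disjoint_of_coprime_natCard
    rw [hP, hK]; norm_num
  -- the number of Sylow 3-subgroups
  have hn3 : Nat.card (Sylow 3 G) = 4 := by
    have h1 := card_sylow_modEq_one 3 G
    have h2 := Sylow.card_dvd_index P
    rw [hPidx] at h2
    have hle : Nat.card (Sylow 3 G) ≤ 8 := Nat.le_of_dvd (by norm_num) h2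
    have hne1 : Nat.card (Sylow 3 G) ≠ 1 := by
      intro h1'
      have hnorm : (P : Subgroup G).Normal := by
        rw [← Subgroup.normalizer_eq_top_iff, ← Subgroup.index_eq_one]
        have := Sylow.card_eq_index_normalizer P
        rw [h1'] at this
        exact this.symm
      have hcomm := Subgroup.commute_of_normal_of_disjoint (P : Subgroup G) K hnorm hKn hPK
      have : h ∈ K := hC h (fun k hk => (hcomm h k hhP hk).eq)
      exact hh1 ((Subgroup.disjoint_def.1 hPK) hhP this)
    unfold Nat.ModEq at h1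
    interval_cases hn : Nat.card (Sylow 3 G) <;> simp_all
  set Y : Subgroup G := Subgroup.normalizer ((P : Subgroup G) : Set G) with hYdef
  have hYidx : Y.index = 4 := by
    have := Sylow.card_eq_index_normalizer P
    rw [hn3] at this
    exact this.symm
  have hY : Nat.card ↥Y = 6 := by
    have := Subgroup.card_mul_index Y
    rw [hYidx, hcard] at this
    omega
  set N : Subgroup G := Y.normalCore with hNdef
  have hNn : N.Normal := Subgroup.normalCore_normal Y
  have hNKn : (N ⊓ K).Normal := inferInstance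
  have hNK : N ⊓ K = ⊥ := by
    by_contra hne
    have hd4 : Nat.card ↥(N ⊓ K) ∣ 4 := hK ▸ Subgroup.card_dvd_of_le inf_le_right
    have hd6 : Nat.card ↥(N ⊓ K) ∣ 6 :=
      hY ▸ Subgroup.card_dvd_of_le (inf_le_left.trans (Subgroup.normalCore_le Y))
    have hd2 : Nat.card ↥(N ⊓ K) ∣ 2 := by simpa using Nat.dvd_gcd hd4 hd6
    have h2 : Nat.card ↥(N ⊓ K) = 2 := by
      rcases (Nat.dvd_prime Nat.prime_two).1 hd2 with h' | h'
      · exact absurd (Subgroup.card_eq_one.1 h') hne
      · exact h'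
    obtain ⟨t, ht1, htu⟩ := (Nat.card_eq_two_iff' (1 : ↥(N ⊓ K))).1 h2
    have hconj : (⟨h * (t : G) * h⁻¹, hNKn.conj_mem t t.2 h⟩ : ↥(N ⊓ K)) = t := by
      apply htu
      intro e
      apply ht1
      have e' : h * (t : G) * h⁻¹ = 1 := by simpa using congrArg Subtype.val e
      have : (t : G) = 1 := by
        calc (t : G) = h⁻¹ * (h * (t : G) * h⁻¹) * h := by group
          _ = 1 := by rw [e']; group
      exact Subtype.ext this
    have hconj' : h * (t : G) * h⁻¹ = (t : G) := congrArg Subtype.val hconj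
    refine no_fix K hK hC h hh3 hh1 (t : G) t.2.2 (fun e => ht1 (Subtype.ext e)) ?_
    calc h * (t : G) = (h * (t : G) * h⁻¹) * h := by group
      _ = (t : G) * h := by rw [hconj']
  have hNbot : N = ⊥ := by
    rw [eq_bot_iff]
    intro n hn
    have hnK : n ∈ K := hC n (fun k hk =>
      (Subgroup.commute_of_normal_of_disjoint N K hNn hKn (disjoint_iff.2 hNK) n k hn hk).eq)
    have : n ∈ N ⊓ K := ⟨hn, hnK⟩
    rwa [hNK] at this
  -- the action on the cosets of `Y`
  have hcardQ : Nat.card (G ⧸ Y) = 4 := hYidx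
  have e : (G ⧸ Y) ≃ Fin 4 := Finite.equivFinOfCardEq hcardQ
  let φ : G →* Equiv.Perm (G ⧸ Y) := MulAction.toPermHom G (G ⧸ Y)
  have hφ : Function.Injective φ := by
    rw [← MonoidHom.ker_eq_bot_iff, ← Subgroup.normalCore_eq_ker]
    exact hNbot
  let ψ : G →* Equiv.Perm (Fin 4) := (e.permCongrHom).toMonoidHom.comp φ
  have hψ : Function.Injective ψ := (e.permCongrHom).injective.comp hφ
  have hbij : Function.Bijective ψ := by
    rw [Nat.bijective_iff_injective_and_card]
    refine ⟨hψ, ?_⟩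
    rw [hcard, Nat.card_perm, Nat.card_fin]
    rfl
  exact ⟨MulEquiv.ofBijective ψ hbij⟩

end abstract

variable {G : Type*} [Group G]

/-- LEAF G24. -/
theorem perm_four_of_card [Finite G] (H K : Subgroup G) (hKH : K ≤ H)
    (hN : H ≤ Subgroup.normalizer (K : Set G)) (hcard : Nat.card ↥H = 24) (hK : Nat.card ↥K = 4)
    (hC : ∀ y ∈ H, (∀ k ∈ K, y * k = k * y) → y ∈ K) :
    Nonempty (↥H ≃* Equiv.Perm (Fin 4)) := by
  have hKn : (K.subgroupOf H).Normal := (Subgroup.normal_subgroupOf_iff_le_normalizer hKH).2 hN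
  have hK' : Nat.card ↥(K.subgroupOf H) = 4 := by
    rw [← hK]
    exact Nat.card_congr (Subgroup.subgroupOfEquivOfLe hKH).toEquiv
  refine perm_four_abstract hcard (K.subgroupOf H) hK' ?_
  intro y hy
  rw [Subgroup.mem_subgroupOf]
  refine hC y y.2 (fun k hk => ?_)
  have := hy ⟨k, hKH hk⟩ (by rw [Subgroup.mem_subgroupOf]; exact hk)
  simpa using congrArg Subtype.val this

end Cfsg.Agent.Lib.Helper13.SIMS2G24
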