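/-
helper13: subgroups isomorphic to `SL₂(F)` (`q` odd) and their central products: involutions.
-/
import Mathlib
import Cfsg.Agent.Lib.Helper13.PSL2KleinCount

set_option autoImplicit false

namespace Cfsg.Agent.Lib.Helper13

open Matrix

section general

variable {G : Type*} [Group G]

theorem mem_zpowers_of_mul_self_eq_one (j c : G) (hjj : j * j = 1)
    (hc : c ∈ Subgroup.zpowers j) : c = 1 ∨ c = j := by
  obtain ⟨k, rfl⟩ := hc
  have h2 : j ^ (2 : ℤ) = 1 := by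
    rw [show (2 : ℤ) = 1 + 1 by norm_num, _root_.zpow_add, zpow_one]; exact hjj
  rcases Int.even_or_odd' k with ⟨m, rfl | rfl⟩
  · left
    change j ^ (2 * m) = 1
    rw [_root_.zpow_mul, h2, _root_.one_zpow]
  · right
    change j ^ (2 * m + 1) = j
    rw [_root_.zpow_add, _root_.zpow_mul, h2, _root_.one_zpow, one_mul, zpow_one]

/-- If `L₁` and `L₂` commute elementwise then `L₁ ⊔ L₂ = L₁ L₂`. -/
theorem exists_mul_of_mem_sup_of_commute (L₁ L₂ : Subgroup G)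
    (hc : ∀ x ∈ L₁, ∀ y ∈ L₂, x * y = y * x) (y : G) (hy : y ∈ L₁ ⊔ L₂) :
    ∃ b₁ ∈ L₁, ∃ b₂ ∈ L₂, y = b₁ * b₂ := by
  let M : Subgroup G :=
    { carrier := {y | ∃ b₁ ∈ L₁, ∃ b₂ ∈ L₂, y = b₁ * b₂}
      one_mem' := ⟨1, one_mem _, 1, one_mem _, (mul_one 1).symm⟩
      mul_mem' := by
        rintro _ _ ⟨b₁, hb₁, b₂, hb₂, rfl⟩ ⟨c₁, hc₁, c₂, hc₂, rfl⟩
        refine ⟨b₁ * c₁, mul_mem hb₁ hc₁, b₂ * c₂, mul_mem hb₂ hc₂, ?_⟩
        have : Commute b₂ c₁ := (hc c₁ hc₁ b₂ hb₂).symm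
        exact this.mul_mul_mul_comm b₁ c₂
      inv_mem' := by
        rintro _ ⟨b₁, hb₁, b₂, hb₂, rfl⟩
        refine ⟨b₁⁻¹, inv_mem hb₁, b₂⁻¹, inv_mem hb₂, ?_⟩
        rw [_root_.mul_inv_rev]
        exact (hc b₁⁻¹ (inv_mem hb₁) b₂⁻¹ (inv_mem hb₂)).symm }
  have h1 : L₁ ≤ M := fun x hx => ⟨x, hx, 1, one_mem _, (mul_one x).symm⟩
  have h2 : L₂ ≤ M := fun x hx => ⟨1, one_mem _, x, hx, (one_mul x).symm⟩
  exact (sup_le h1 h2) hy

end general

section sl2

variable {G : Type*} [Group G] {F : Type*} [Field F] [Fintype F]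
  (h2 : (2 : F) ≠ 0) (L : Subgroup G) (e : ↥L ≃* SpecialLinearGroup (Fin 2) F)
  (j : G) (hjL : j ∈ L) (hjj : j * j = 1) (hj1 : j ≠ 1)

omit [Fintype F] in
include h2 hjj hj1 in
theorem equiv_involution_eq_zSL : e ⟨j, hjL⟩ = zSL F := by
  have hsq : e ⟨j, hjL⟩ * e ⟨j, hjL⟩ = 1 := by
    rw [← map_mul]
    have : (⟨j, hjL⟩ : L) * ⟨j, hjL⟩ = 1 := Subtype.ext hjj
    rw [this, map_one]
  rcases sq_eq_one_cases h2 _ hsq with h | h
  · exfalso
    apply hj1
    have := e.injective (h.trans (map_one e).symm)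
    exact congrArg Subtype.val this
  · exact h

omit [Fintype F] in
include h2 hjj hj1 e hjL in
theorem exists_sqrt_involution : ∃ a ∈ L, a * a = j := by
  have hz := equiv_involution_eq_zSL h2 L e j hjL hjj hj1
  refine ⟨(e.symm (traceSL 0) : G), (e.symm (traceSL 0)).2, ?_⟩
  have h1 : e.symm (traceSL 0) * e.symm (traceSL 0) = (⟨j, hjL⟩ : L) := by
    apply e.injective
    rw [map_mul, e.apply_symm_apply, hz]
    exact mul_self_of_trace_eq_zero _ (trace_traceSL 0)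
  exact congrArg Subtype.val h1

omit [Fintype F] in
include h2 hjj hj1 e hjL in
theorem eq_one_or_eq_involution (b : G) (hb : b ∈ L) (hbb : b * b = 1) : b = 1 ∨ b = j := by
  have hz := equiv_involution_eq_zSL h2 L e j hjL hjj hj1
  have hsq : e ⟨b, hb⟩ * e ⟨b, hb⟩ = 1 := by
    rw [← map_mul]
    have : (⟨b, hb⟩ : L) * ⟨b, hb⟩ = 1 := Subtype.ext hbb
    rw [this, map_one]
  rcases sq_eq_one_cases h2 _ hsq with h | h
  · left
    have := e.injective (h.trans (map_one e).symm)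
    exact congrArg Subtype.val this
  · right
    have := e.injective (h.trans hz.symm)
    exact congrArg Subtype.val this

include h2 hjj hj1 e hjL in
theorem conj_of_sqrt_involution (a b : G) (ha : a ∈ L) (hb : b ∈ L) (haa : a * a = j)
    (hbb : b * b = j) : ∃ g ∈ L, g * a * g⁻¹ = b := by
  have hz := equiv_involution_eq_zSL h2 L e j hjL hjj hj1
  have hsqa : e ⟨a, ha⟩ * e ⟨a, ha⟩ = zSL F := by
    rw [← map_mul, ← hz]
    congr 1
    exact Subtype.ext haa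
  have hsqb : e ⟨b, hb⟩ * e ⟨b, hb⟩ = zSL F := by
    rw [← map_mul, ← hz]
    congr 1
    exact Subtype.ext hbb
  have hta := trace_eq_zero_of_mul_self _ hsqa
  have htb := trace_eq_zero_of_mul_self _ hsqb
  have hconj : IsConj (e ⟨a, ha⟩) (e ⟨b, hb⟩) :=
    isConj_of_trace_eq _ _ (by rw [hta, htb]) (trace_zero_sq_ne_four h2 _ hta)
  obtain ⟨g', hg'⟩ := isConj_iff.mp hconj
  refine ⟨(e.symm g' : G), (e.symm g').2, ?_⟩
  have h1 : e.symm g' * ⟨a, ha⟩ * (e.symm g')⁻¹ = (⟨b, hb⟩ : L) := by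
    apply e.injective
    rw [map_mul, map_mul, map_inv, e.apply_symm_apply]
    exact hg'
  exact congrArg Subtype.val h1

end sl2

end Cfsg.Agent.Lib.Helper13
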