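/-
helper13: induced class functions from tori of `SL₂(F)`; structure of a cyclic subgroup of order
`q + 1`.
-/
import Mathlib
import Cfsg.Agent.Lib.Helper13.SL2TorusClasses
import Cfsg.Agent.Lib.Helper13.SL2SylowOdd
import Cfsg.Agent.Lib.Helper13.SL2OrderFour
import Cfsg.Agent.Lib.Helper13.SL2ClassSize
import Cfsg.Agent.Lib.Helper13.PSBasic
import Cfsg.Agent.Lib.Lead.CharInd
import Cfsg.Agent.Lib.Lead.FrobThm1
import Cfsg.Agent.Lib.Lead.Taketa

set_option autoImplicit false

namespace Cfsg.Agent.Lib.Helper13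

open Matrix Cfsg Cfsg.Agent.CharLib
open scoped ComplexConjugate

section general

variable {G : Type*} [Group G] [Fintype G]

/-- Induced functions at central elements. -/
theorem indFun_apply_central (H : Subgroup G) (f : H → ℂ) (z : G)
    (hz : z ∈ Subgroup.center G) (hzH : z ∈ H) :
    indFun H f z = (Nat.card H : ℂ)⁻¹ * (Nat.card G : ℂ) * f ⟨z, hzH⟩ := by
  unfold indFun
  have h1 : ∀ x : G, extendByZero H f (x⁻¹ * z * x) = f ⟨z, hzH⟩ := by
    intro x
    have e : x⁻¹ * z * x = ((⟨z, hzH⟩ : H) : G) := by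
      rw [Subgroup.mem_center_iff.mp hz x⁻¹, inv_mul_cancel_right]
    rw [e, extendByZero_apply_coe]
  rw [Finset.sum_congr rfl (fun x _ => h1 x), Finset.sum_const, Finset.card_univ, nsmul_eq_mul,
    ← Nat.card_eq_fintype_card (α := G)]
  ring

/-- Central twist of induced functions. -/
theorem indFun_central_mul (H : Subgroup G) (f : H → ℂ) (z : G)
    (hz : z ∈ Subgroup.center G) (hzH : z ∈ H) (ε : ℂ)
    (hf : ∀ h : H, f (⟨z, hzH⟩ * h) = ε * f h) (g : G) :
    indFun H f (z * g) = ε * indFun H f g := by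
  unfold indFun
  have h1 : ∀ x : G, extendByZero H f (x⁻¹ * (z * g) * x) =
      ε * extendByZero H f (x⁻¹ * g * x) := by
    intro x
    have e : x⁻¹ * (z * g) * x = z * (x⁻¹ * g * x) := by
      rw [← mul_assoc, Subgroup.mem_center_iff.mp hz x⁻¹]
      group
    rw [e]
    by_cases hm : x⁻¹ * g * x ∈ H
    · have e1 : z * (x⁻¹ * g * x) = ((⟨z, hzH⟩ * ⟨_, hm⟩ : H) : G) := rfl
      have e2 : x⁻¹ * g * x = ((⟨_, hm⟩ : H) : G) := rfl
      rw [e1, extendByZero_apply_coe, hf]
      nth_rewrite 2 [e2]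
      rw [extendByZero_apply_coe]
    · rw [extendByZero_apply_of_not_mem H f hm, extendByZero_apply_of_not_mem, mul_zero]
      intro h
      apply hm
      have := H.mul_mem (H.inv_mem hzH) h
      simpa using this
  rw [Finset.sum_congr rfl (fun x _ => h1 x), ← Finset.mul_sum]
  ring

end general

variable {F : Type*} [Field F] [Fintype F] [DecidableEq F]

/-- An induced function from a torus `A = C(a)`, at `a`. -/
theorem indFun_torus_apply (A : Subgroup (SpecialLinearGroup (Fin 2) F))
    (a : SpecialLinearGroup (Fin 2) F)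
    (hta : (a : Matrix (Fin 2) (Fin 2) F).trace ^ 2 ≠ 4)
    (hA : A = Subgroup.centralizer ({a} : Set (SpecialLinearGroup (Fin 2) F)))
    (f : A → ℂ) (ha : a ∈ A) (ha' : a⁻¹ ∈ A) :
    indFun A f a = f ⟨a, ha⟩ + f ⟨a⁻¹, ha'⟩ := by
  classical
  subst hA
  have hne : a ≠ a⁻¹ := by
    intro h
    apply hta
    have h1 : a * a = 1 := by
      nth_rewrite 2 [h]
      exact mul_inv_cancel a
    have h2 : (a : Matrix (Fin 2) (Fin 2) F) * (a : Matrix (Fin 2) (Fin 2) F) = 1 :=
      congrArg (fun k : SpecialLinearGroup (Fin 2) F => (k : Matrix (Fin 2) (Fin 2) F)) h1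
    have hch := cayley_hamilton_two (a : Matrix (Fin 2) (Fin 2) F) a.2
    rw [h2, ← Matrix.trace_fin_two] at hch
    -- 1 = tr • a - 1
    have h00 := congr_fun (congr_fun hch 0) 0
    have h01 := congr_fun (congr_fun hch 0) 1
    have h10 := congr_fun (congr_fun hch 1) 0
    have h11 := congr_fun (congr_fun hch 1) 1
    simp only [Matrix.sub_apply, Matrix.smul_apply, smul_eq_mul, Matrix.one_apply_eq,
      Matrix.one_apply_ne (show (0 : Fin 2) ≠ 1 by decide),
      Matrix.one_apply_ne (show (1 : Fin 2) ≠ 0 by decide)] at h00 h01 h10 h11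
    rw [Matrix.trace_fin_two] at h00 h01 h10 h11 ⊢
    have hd := a.2
    rw [Matrix.det_fin_two] at hd
    set p := (a : Matrix (Fin 2) (Fin 2) F) 0 0
    set s := (a : Matrix (Fin 2) (Fin 2) F) 1 1
    set u := (a : Matrix (Fin 2) (Fin 2) F) 0 1
    set v := (a : Matrix (Fin 2) (Fin 2) F) 1 0
    linear_combination -h00 - h11
  unfold indFun
  rw [← Equiv.sum_comp (Equiv.inv (SpecialLinearGroup (Fin 2) F))
    (fun x => extendByZero _ f (x⁻¹ * a * x))]
  simp only [Equiv.inv_apply, inv_inv]
  have hterm : ∀ x : SpecialLinearGroup (Fin 2) F,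
      extendByZero (Subgroup.centralizer ({a} : Set (SpecialLinearGroup (Fin 2) F))) f
        (x * a * x⁻¹) =
      (if x ∈ Subgroup.normalizer ((Subgroup.centralizer
        ({a} : Set (SpecialLinearGroup (Fin 2) F)) : Subgroup (SpecialLinearGroup (Fin 2) F)) :
        Set (SpecialLinearGroup (Fin 2) F)) then f ⟨a⁻¹, ha'⟩ else 0) +
      (if x ∈ Subgroup.centralizer ({a} : Set (SpecialLinearGroup (Fin 2) F)) then
        f ⟨a, ha⟩ - f ⟨a⁻¹, ha'⟩ else 0) := by
    intro x
    by_cases hxA : x ∈ Subgroup.centralizer ({a} : Set (SpecialLinearGroup (Fin 2) F))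
    · have hxN : x ∈ Subgroup.normalizer ((Subgroup.centralizer
          ({a} : Set (SpecialLinearGroup (Fin 2) F)) : Subgroup (SpecialLinearGroup (Fin 2) F)) :
          Set (SpecialLinearGroup (Fin 2) F)) := Subgroup.le_normalizer hxA
      rw [if_pos hxN, if_pos hxA]
      have e : x * a * x⁻¹ = ((⟨a, ha⟩ : Subgroup.centralizer
          ({a} : Set (SpecialLinearGroup (Fin 2) F))) : SpecialLinearGroup (Fin 2) F) :=
        (mem_centralizer_singleton_iff' a x).mp hxA
      rw [e, extendByZero_apply_coe]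
      ring
    · rw [if_neg hxA, add_zero]
      by_cases hxN : x ∈ Subgroup.normalizer ((Subgroup.centralizer
          ({a} : Set (SpecialLinearGroup (Fin 2) F)) : Subgroup (SpecialLinearGroup (Fin 2) F)) :
          Set (SpecialLinearGroup (Fin 2) F))
      · rw [if_pos hxN]
        have e : x * a * x⁻¹ = ((⟨a⁻¹, ha'⟩ : Subgroup.centralizer
            ({a} : Set (SpecialLinearGroup (Fin 2) F))) : SpecialLinearGroup (Fin 2) F) :=
          inverts_of_mem_normalizer_not_mem a hta x hxN hxA
        rw [e, extendByZero_apply_coe]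
      · rw [if_neg hxN]
        apply extendByZero_apply_of_not_mem
        intro hc
        apply hxN
        rw [mem_normalizer_centralizer_iff a hta]
        exact conj_eq_cases a hta x hc
  rw [Finset.sum_congr rfl (fun x _ => hterm x), Finset.sum_add_distrib, sum_ite_mem_subgroup,
    sum_ite_mem_subgroup, card_normalizer_centralizer a hta hne]
  have hA0 : (Nat.card (Subgroup.centralizer ({a} : Set (SpecialLinearGroup (Fin 2) F))) : ℂ) ≠ 0 := by
    exact_mod_cast Nat.card_pos.ne'
  push_cast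
  field_simp
  ring

section cyclicTorus

omit [DecidableEq F] in
/-- An element with `tr² = 4` and `x ^ (q + 1) = 1` is an involution or trivial. -/
theorem mul_self_eq_one_of_trace_sq (hodd : Odd (Fintype.card F))
    (x : SpecialLinearGroup (Fin 2) F)
    (h4 : (x : Matrix (Fin 2) (Fin 2) F).trace ^ 2 = 4)
    (hx : x ^ (Fintype.card F + 1) = 1) : x * x = 1 := by
  obtain ⟨p, hp⟩ := CharP.exists F
  have hpp : p.Prime := CharP.char_is_prime F p
  have : Fact p.Prime := ⟨hpp⟩
  obtain ⟨n, -, hn⟩ := FiniteField.card F p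
  have hpq : p ∣ Fintype.card F := by
    rw [hn]
    exact dvd_pow_self p n.ne_zero
  have h2p := pow_char_mul_two_of_trace_sq p x h4
  have hcop : Nat.Coprime p (Fintype.card F + 1) := by
    rw [Nat.coprime_comm]
    have : Nat.Coprime (Fintype.card F + 1) (Fintype.card F) := by simp
    exact Nat.Coprime.coprime_dvd_right hpq this
  have hgcd : Nat.gcd (p * 2) (Fintype.card F + 1) = 2 := by
    rw [Nat.Coprime.gcd_mul_left_cancel 2 hcop]
    obtain ⟨r, hr⟩ := hodd
    rw [hr, show 2 * r + 1 + 1 = 2 * (r + 1) by ring]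
    exact Nat.gcd_mul_right_right (r + 1) 2 |>.symm ▸ rfl
  have := pow_gcd_eq_one.mpr ⟨h2p, hx⟩
  rw [hgcd, pow_two] at this
  exact this

/-- Structure of a cyclic subgroup of order `q + 1`: it contains the centre, and it is the
centralizer of each of its non-central elements, which have `tr² ≠ 4`. -/
theorem cyclicTorus_props (hodd : Odd (Fintype.card F))
    (C : Subgroup (SpecialLinearGroup (Fin 2) F)) (hC : IsCyclic C)
    (hcard : Nat.card C = Fintype.card F + 1) :
    Subgroup.center (SpecialLinearGroup (Fin 2) F) ≤ C ∧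
    ∀ c ∈ C, c ∉ Subgroup.center (SpecialLinearGroup (Fin 2) F) →
      (c : Matrix (Fin 2) (Fin 2) F).trace ^ 2 ≠ 4 ∧
      C = Subgroup.centralizer ({c} : Set (SpecialLinearGroup (Fin 2) F)) := by
  classical
  have h2 : (2 : F) ≠ 0 := two_ne_zero_of_odd_card hodd
  have hq : 2 ≤ Fintype.card F := Fintype.one_lt_card
  obtain ⟨c₀, hc₀C, hgen⟩ : ∃ c₀ ∈ C, ∀ t ∈ C, t ∈ Subgroup.zpowers c₀ := by
    obtain ⟨b₀, hb₀⟩ := hC.exists_generator
    refine ⟨(b₀ : SpecialLinearGroup (Fin 2) F), b₀.2, ?_⟩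
    intro t ht
    obtain ⟨k, hk⟩ := Subgroup.mem_zpowers_iff.mp (hb₀ ⟨t, ht⟩)
    rw [Subgroup.mem_zpowers_iff]
    refine ⟨k, ?_⟩
    have := congrArg Subtype.val hk
    simpa using this
  have hCeq : C = Subgroup.zpowers c₀ :=
    le_antisymm hgen (by rw [Subgroup.zpowers_le]; exact hc₀C)
  have hord : orderOf c₀ = Fintype.card F + 1 := by
    rw [← hcard, ← Nat.card_zpowers]
    exact congrArg (fun H : Subgroup (SpecialLinearGroup (Fin 2) F) => Nat.card H) hCeq.symm
  have hpowC : ∀ c ∈ C, c ^ (Fintype.card F + 1) = 1 := by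
    intro c hc
    have := Subgroup.orderOf_dvd_natCard C hc
    rw [hcard] at this
    exact orderOf_dvd_iff_pow_eq_one.mp this
  have hnc : ∀ c ∈ C, c ∉ Subgroup.center (SpecialLinearGroup (Fin 2) F) →
      (c : Matrix (Fin 2) (Fin 2) F).trace ^ 2 ≠ 4 := by
    intro c hc hcz h4
    apply hcz
    rcases sq_eq_one_cases h2 c (mul_self_eq_one_of_trace_sq hodd c h4 (hpowC c hc)) with h | h
    · rw [h]; exact one_mem _
    · rw [h]; exact zSL_mem_center
  have hc₀z : c₀ ∉ Subgroup.center (SpecialLinearGroup (Fin 2) F) := by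
    intro hz
    have h1 : c₀ * c₀ = 1 := by
      rcases center_cases c₀ hz with h | h
      · rw [h, mul_one]
      · rw [h, zSL_mul_self]
    have : orderOf c₀ ∣ 2 := orderOf_dvd_of_pow_eq_one (by rw [pow_two, h1])
    rw [hord] at this
    have := Nat.le_of_dvd (by norm_num) this
    omega
  have hg₀ := hnc c₀ hc₀C hc₀z
  have hle : C ≤ Subgroup.centralizer ({c₀} : Set (SpecialLinearGroup (Fin 2) F)) := by
    rw [hCeq]
    exact zpowers_le_centralizer c₀
  have hcardC₀ : Nat.card (Subgroup.centralizer ({c₀} : Set (SpecialLinearGroup (Fin 2) F))) =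
      Fintype.card F + 1 := by
    have hdvd := Subgroup.card_dvd_of_le hle
    rw [hcard] at hdvd
    rcases card_centralizer_cases c₀ hg₀ with h | h
    · rw [h] at hdvd
      have := Nat.le_of_dvd (by omega) hdvd
      omega
    · exact h
  have hC₀ : C = Subgroup.centralizer ({c₀} : Set (SpecialLinearGroup (Fin 2) F)) :=
    Subgroup.eq_of_le_of_card_ge hle (by rw [hcardC₀, hcard])
  refine ⟨?_, ?_⟩
  · rw [hC₀]
    exact Subgroup.center_le_centralizer _
  · intro c hc hcz
    have htc := hnc c hc hcz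
    refine ⟨htc, ?_⟩
    rw [hC₀]
    rw [hC₀] at hc
    exact (centralizer_eq_of_mem c₀ hg₀ c hc (nonscalar_of_trace_sq c htc)).symm

end cyclicTorus

end Cfsg.Agent.Lib.Helper13
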