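/-
helper13: the subgroup `Z·U` of `SL₂(F)`, its linear characters, and the values of the
characters induced from them (Gelfand–Graev type characters with a central character).
-/
import Mathlib
import Cfsg.Agent.Lib.Helper13.SL2CuspA
import Cfsg.Agent.Lib.Helper13.PSSL
import Cfsg.Agent.Lib.Helper13.SL2Redundant
import Cfsg.Agent.Lib.Helper6.LinChar

set_option autoImplicit false

namespace Cfsg.Agent.Lib.Helper13

open Matrix Cfsg Cfsg.Agent.CharLib
open scoped ComplexConjugate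

variable {F : Type*} [Field F]

/-- The subgroup `Z·U` of `SL₂(F)`: upper triangular matrices with equal diagonal entries. -/
def zuSL (F : Type*) [Field F] : Subgroup (SpecialLinearGroup (Fin 2) F) where
  carrier := {g | (g : Matrix (Fin 2) (Fin 2) F) 1 0 = 0 ∧
    (g : Matrix (Fin 2) (Fin 2) F) 0 0 = (g : Matrix (Fin 2) (Fin 2) F) 1 1}
  mul_mem' := by
    rintro a b ⟨ha, ha'⟩ ⟨hb, hb'⟩
    simp only [Set.mem_ofPred_eq, coe_mul_SL, Matrix.mul_apply, Fin.sum_univ_two]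
    refine ⟨by rw [ha, hb]; ring, by rw [ha, hb, ha', hb']; ring⟩
  one_mem' := by simp
  inv_mem' := by
    rintro a ⟨ha, ha'⟩
    simp only [Set.mem_ofPred_eq, Matrix.SpecialLinearGroup.coe_inv, Matrix.adjugate_fin_two,
      Matrix.of_apply, Matrix.cons_val', Matrix.cons_val_zero, Matrix.cons_val_one,
      Matrix.empty_val', Matrix.cons_val_fin_one]
    refine ⟨by rw [ha]; ring, ha'.symm⟩

theorem mem_zuSL {g : SpecialLinearGroup (Fin 2) F} :
    g ∈ zuSL F ↔ (g : Matrix (Fin 2) (Fin 2) F) 1 0 = 0 ∧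
      (g : Matrix (Fin 2) (Fin 2) F) 0 0 = (g : Matrix (Fin 2) (Fin 2) F) 1 1 := Iff.rfl

theorem zu_diag {g : SpecialLinearGroup (Fin 2) F} (hg : g ∈ zuSL F) :
    (g : Matrix (Fin 2) (Fin 2) F) 0 0 = 1 ∨ (g : Matrix (Fin 2) (Fin 2) F) 0 0 = -1 := by
  obtain ⟨h1, h2⟩ := hg
  have hd := g.2
  rw [Matrix.det_fin_two, h1, mul_zero, sub_zero, ← h2] at hd
  have : ((g : Matrix (Fin 2) (Fin 2) F) 0 0 - 1) * ((g : Matrix (Fin 2) (Fin 2) F) 0 0 + 1) = 0 := by
    linear_combination hd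
  rcases mul_eq_zero.mp this with h | h
  · left; linear_combination h
  · right; linear_combination h

theorem zu_trace_sq {g : SpecialLinearGroup (Fin 2) F} (hg : g ∈ zuSL F) :
    (g : Matrix (Fin 2) (Fin 2) F).trace ^ 2 = 4 := by
  rw [Matrix.trace_fin_two, ← hg.2]
  rcases zu_diag hg with h | h <;> rw [h] <;> ring

theorem tSL_mem_zuSL (t : F) : tSL t ∈ zuSL F := by
  rw [mem_zuSL, tSL_coe]
  simp

theorem zSL_mem_zuSL : zSL F ∈ zuSL F := by
  rw [mem_zuSL, zSL_coe]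
  simp

theorem zuSL_le_borelSL : zuSL F ≤ borelSL F := fun _ hg => mem_borelSL.mpr hg.1

/-- An element of `Z·U` with trace `2` (and `2 ≠ 0`) is a transvection. -/
theorem eq_tSL_of_mem_zuSL (h2 : (2 : F) ≠ 0) {g : SpecialLinearGroup (Fin 2) F}
    (hg : g ∈ zuSL F) (htr : (g : Matrix (Fin 2) (Fin 2) F).trace = 2) :
    g = tSL ((g : Matrix (Fin 2) (Fin 2) F) 0 1) := by
  have h00 : (g : Matrix (Fin 2) (Fin 2) F) 0 0 = 1 := by
    rw [Matrix.trace_fin_two, ← hg.2] at htr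
    have : (2 : F) * ((g : Matrix (Fin 2) (Fin 2) F) 0 0 - 1) = 0 := by linear_combination htr
    rcases mul_eq_zero.mp this with h | h
    · exact absurd h h2
    · linear_combination h
  apply Subtype.ext
  rw [tSL_coe]
  ext i j
  fin_cases i <;> fin_cases j
  · exact h00
  · rfl
  · exact hg.1
  · change (g : Matrix (Fin 2) (Fin 2) F) 1 1 = 1
    rw [← hg.2, h00]

theorem zSL_mul_tSL_coe (s : F) :
    ((zSL F * tSL s : SpecialLinearGroup (Fin 2) F) : Matrix (Fin 2) (Fin 2) F) =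
      !![-1, -s; 0, -1] := by
  rw [coe_mul_SL, zSL_coe, tSL_coe]
  ext i j
  fin_cases i <;> fin_cases j <;> simp [Matrix.mul_apply, Fin.sum_univ_two]

section dec

variable [DecidableEq F]

/-- The function `g ↦ sgn_ε(g₀₀) ψ(g₀₀ g₀₁)`; on `Z·U` it is a linear character when `ε² = 1`. -/
noncomputable def zuFun (ε : ℂ) (ψ : AddChar F ℂ) (g : SpecialLinearGroup (Fin 2) F) : ℂ :=
  (if (g : Matrix (Fin 2) (Fin 2) F) 0 0 = 1 then 1 else ε) *
    ψ ((g : Matrix (Fin 2) (Fin 2) F) 0 0 * (g : Matrix (Fin 2) (Fin 2) F) 0 1)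

theorem zuFun_one (ε : ℂ) (ψ : AddChar F ℂ) : zuFun ε ψ 1 = 1 := by
  simp [zuFun]

theorem zuFun_tSL (ε : ℂ) (ψ : AddChar F ℂ) (t : F) : zuFun ε ψ (tSL t) = ψ t := by
  simp [zuFun]

theorem zuFun_zSL (h2 : (2 : F) ≠ 0) (ε : ℂ) (ψ : AddChar F ℂ) : zuFun ε ψ (zSL F) = ε := by
  have h11 : (-1 : F) ≠ 1 := fun h => h2 (by linear_combination -h)
  simp [zuFun, zSL_coe, h11]

theorem zuFun_mul (h2 : (2 : F) ≠ 0) (ε : ℂ) (hε : ε * ε = 1) (ψ : AddChar F ℂ)
    {a b : SpecialLinearGroup (Fin 2) F} (ha : a ∈ zuSL F) (hb : b ∈ zuSL F) :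
    zuFun ε ψ (a * b) = zuFun ε ψ a * zuFun ε ψ b := by
  have h11 : (-1 : F) ≠ 1 := fun h => h2 (by linear_combination -h)
  have e00 : ((a * b : SpecialLinearGroup (Fin 2) F) : Matrix (Fin 2) (Fin 2) F) 0 0 =
      (a : Matrix (Fin 2) (Fin 2) F) 0 0 * (b : Matrix (Fin 2) (Fin 2) F) 0 0 := by
    rw [coe_mul_SL, Matrix.mul_apply, Fin.sum_univ_two, hb.1]; ring
  have e01 : ((a * b : SpecialLinearGroup (Fin 2) F) : Matrix (Fin 2) (Fin 2) F) 0 1 =
      (a : Matrix (Fin 2) (Fin 2) F) 0 0 * (b : Matrix (Fin 2) (Fin 2) F) 0 1 +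
      (a : Matrix (Fin 2) (Fin 2) F) 0 1 * (b : Matrix (Fin 2) (Fin 2) F) 0 0 := by
    rw [coe_mul_SL, Matrix.mul_apply, Fin.sum_univ_two, ← hb.2]
  have ha2 : (a : Matrix (Fin 2) (Fin 2) F) 0 0 * (a : Matrix (Fin 2) (Fin 2) F) 0 0 = 1 := by
    rcases zu_diag ha with h | h <;> rw [h] <;> ring
  have hb2 : (b : Matrix (Fin 2) (Fin 2) F) 0 0 * (b : Matrix (Fin 2) (Fin 2) F) 0 0 = 1 := by
    rcases zu_diag hb with h | h <;> rw [h] <;> ring
  have harg : (a : Matrix (Fin 2) (Fin 2) F) 0 0 * (b : Matrix (Fin 2) (Fin 2) F) 0 0 *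
      ((a : Matrix (Fin 2) (Fin 2) F) 0 0 * (b : Matrix (Fin 2) (Fin 2) F) 0 1 +
      (a : Matrix (Fin 2) (Fin 2) F) 0 1 * (b : Matrix (Fin 2) (Fin 2) F) 0 0) =
      (a : Matrix (Fin 2) (Fin 2) F) 0 0 * (a : Matrix (Fin 2) (Fin 2) F) 0 1 +
      (b : Matrix (Fin 2) (Fin 2) F) 0 0 * (b : Matrix (Fin 2) (Fin 2) F) 0 1 := by
    linear_combination ((b : Matrix (Fin 2) (Fin 2) F) 0 0 * (b : Matrix (Fin 2) (Fin 2) F) 0 1) * ha2 +
      ((a : Matrix (Fin 2) (Fin 2) F) 0 0 * (a : Matrix (Fin 2) (Fin 2) F) 0 1) * hb2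
  have hsg : (if (a : Matrix (Fin 2) (Fin 2) F) 0 0 * (b : Matrix (Fin 2) (Fin 2) F) 0 0 = 1 then
      (1 : ℂ) else ε) =
      (if (a : Matrix (Fin 2) (Fin 2) F) 0 0 = 1 then 1 else ε) *
      (if (b : Matrix (Fin 2) (Fin 2) F) 0 0 = 1 then 1 else ε) := by
    rcases zu_diag ha with h | h <;> rcases zu_diag hb with h' | h' <;> rw [h, h'] <;>
      simp [h11, hε]
  unfold zuFun
  rw [e00, e01, harg, AddChar.map_add_eq_mul, hsg]
  ring

/-- `zuFun` as a homomorphism on `Z·U`. -/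
noncomputable def zuHom (h2 : (2 : F) ≠ 0) (ε : ℂ) (hε : ε * ε = 1) (ψ : AddChar F ℂ) :
    ↥(zuSL F) →* ℂ where
  toFun h := zuFun ε ψ (h : SpecialLinearGroup (Fin 2) F)
  map_one' := zuFun_one ε ψ
  map_mul' a b := zuFun_mul h2 ε hε ψ a.2 b.2

theorem isIrrCharacter_zuFun (h2 : (2 : F) ≠ 0) (ε : ℂ) (hε : ε * ε = 1) (ψ : AddChar F ℂ) :
    IsIrrCharacter ↥(zuSL F) (fun h => zuFun ε ψ (h : SpecialLinearGroup (Fin 2) F)) :=
  Cfsg.Agent.Lib.Helper6.isIrrCharacter_of_hom (zuHom h2 ε hε ψ).toHomUnits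

theorem isCharacter_zuFun (h2 : (2 : F) ≠ 0) (ε : ℂ) (hε : ε * ε = 1) (ψ : AddChar F ℂ) :
    IsCharacter ↥(zuSL F) (fun h => zuFun ε ψ (h : SpecialLinearGroup (Fin 2) F)) :=
  IsIrrCharacter.isCharacter (isIrrCharacter_zuFun h2 ε hε ψ)

/-- Parametrization of `Z·U` by a sign and an element of `F`. -/
noncomputable def zuEquiv (h2 : (2 : F) ≠ 0) : Bool × F ≃ ↥(zuSL F) where
  toFun p := ⟨(if p.1 then zSL F else 1) * tSL p.2,
    (zuSL F).mul_mem (by split_ifs; exact zSL_mem_zuSL; exact one_mem _) (tSL_mem_zuSL _)⟩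
  invFun g := (decide (((g : SpecialLinearGroup (Fin 2) F) : Matrix (Fin 2) (Fin 2) F) 0 0 ≠ 1),
    ((g : SpecialLinearGroup (Fin 2) F) : Matrix (Fin 2) (Fin 2) F) 0 0 *
    ((g : SpecialLinearGroup (Fin 2) F) : Matrix (Fin 2) (Fin 2) F) 0 1)
  left_inv := by
    have h11 : (-1 : F) ≠ 1 := fun h => h2 (by linear_combination -h)
    rintro ⟨b, s⟩
    cases b
    · simp
    · simp [zSL_coe, Matrix.mul_apply, Fin.sum_univ_two, h11]
  right_inv := by
    have h11 : (-1 : F) ≠ 1 := fun h => h2 (by linear_combination -h)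
    rintro ⟨g, hg⟩
    apply Subtype.ext
    apply Subtype.ext
    rcases zu_diag hg with h | h
    · have h1 : (g : Matrix (Fin 2) (Fin 2) F) 1 1 = 1 := by rw [← hg.2, h]
      simp only [h, ne_eq, not_true_eq_false, decide_false, Bool.false_eq_true, if_false, one_mul,
        tSL_coe]
      ext i j
      fin_cases i <;> fin_cases j <;> simp [h, h1, hg.1]
    · have h1 : (g : Matrix (Fin 2) (Fin 2) F) 1 1 = -1 := by rw [← hg.2, h]
      simp only [h, ne_eq, h11, not_false_eq_true, decide_true, if_true, zSL_mul_tSL_coe]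
      ext i j
      fin_cases i <;> fin_cases j <;> simp [h, h1, hg.1]

theorem zuEquiv_apply_false (h2 : (2 : F) ≠ 0) (s : F) :
    ((zuEquiv h2 (false, s) : ↥(zuSL F)) : SpecialLinearGroup (Fin 2) F) = tSL s := by
  simp [zuEquiv]

theorem zuEquiv_apply_true (h2 : (2 : F) ≠ 0) (s : F) :
    ((zuEquiv h2 (true, s) : ↥(zuSL F)) : SpecialLinearGroup (Fin 2) F) = zSL F * tSL s := by
  simp [zuEquiv]

theorem sum_zuSL [Fintype F] [Fintype ↥(zuSL F)] (h2 : (2 : F) ≠ 0) (f : ↥(zuSL F) → ℂ) :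
    ∑ h : ↥(zuSL F), f h = ∑ s : F, (f (zuEquiv h2 (false, s)) + f (zuEquiv h2 (true, s))) := by
  rw [← Equiv.sum_comp (zuEquiv h2) f, Fintype.sum_prod_type, Fintype.sum_bool,
    Finset.sum_add_distrib, add_comm]

theorem card_zuSL [Fintype F] (h2 : (2 : F) ≠ 0) : Nat.card ↥(zuSL F) = 2 * Fintype.card F := by
  rw [← Nat.card_congr (zuEquiv h2), Nat.card_prod, Nat.card_eq_fintype_card,
    Nat.card_eq_fintype_card, Fintype.card_bool]

end dec

section gg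

variable [Fintype F] [DecidableEq F]

/-- The induced character `Γ_{ε,ψ}` from `Z·U`. -/
noncomputable def ggChar (ε : ℂ) (ψ : AddChar F ℂ) : SpecialLinearGroup (Fin 2) F → ℂ :=
  indFun (zuSL F) (fun h => zuFun ε ψ (h : SpecialLinearGroup (Fin 2) F))

theorem isCharacter_ggChar (h2 : (2 : F) ≠ 0) (ε : ℂ) (hε : ε * ε = 1) (ψ : AddChar F ℂ) :
    IsCharacter (SpecialLinearGroup (Fin 2) F) (ggChar ε ψ) :=
  IsCharacter.indFun _ (isCharacter_zuFun h2 ε hε ψ)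

theorem ggChar_one (h2 : (2 : F) ≠ 0) (ε : ℂ) (ψ : AddChar F ℂ) :
    ggChar ε ψ 1 = ((Fintype.card F : ℂ) ^ 2 - 1) / 2 := by
  have hq0 : (Fintype.card F : ℂ) ≠ 0 := by
    exact_mod_cast (Fintype.card_pos (α := F)).ne'
  unfold ggChar
  rw [indFun_apply_one, card_zuSL h2, card_SL2_complex]
  have : zuFun ε ψ (((1 : ↥(zuSL F)) : SpecialLinearGroup (Fin 2) F)) = 1 := zuFun_one ε ψ
  rw [this]
  push_cast
  field_simp
  ring

theorem ggChar_central_mul (h2 : (2 : F) ≠ 0) (ε : ℂ) (hε : ε * ε = 1) (ψ : AddChar F ℂ)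
    (g : SpecialLinearGroup (Fin 2) F) :
    ggChar ε ψ (zSL F * g) = ε * ggChar ε ψ g := by
  unfold ggChar
  apply indFun_central_mul (zuSL F) _ (zSL F) zSL_mem_center zSL_mem_zuSL ε
  intro h
  change zuFun ε ψ (zSL F * (h : SpecialLinearGroup (Fin 2) F)) = _
  rw [zuFun_mul h2 ε hε ψ zSL_mem_zuSL h.2, zuFun_zSL h2]

theorem ggChar_eq_zero (ε : ℂ) (ψ : AddChar F ℂ) (g : SpecialLinearGroup (Fin 2) F)
    (hg : (g : Matrix (Fin 2) (Fin 2) F).trace ^ 2 ≠ 4) : ggChar ε ψ g = 0 := by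
  unfold ggChar
  apply indFun_apply_of_forall_not_mem
  intro x hx
  apply hg
  have := zu_trace_sq hx
  have e : x⁻¹ * g * x = x⁻¹ * g * (x⁻¹)⁻¹ := by rw [inv_inv]
  rw [e, trace_conj_SL] at this
  exact this

theorem ggChar_tSL (h2 : (2 : F) ≠ 0) (ε : ℂ) (ψ : AddChar F ℂ) (t : F) (ht : t ≠ 0) :
    ggChar ε ψ (tSL t) = 2⁻¹ * ∑ a : Fˣ, ψ ((a : F) ^ 2 * t) := by
  classical
  have : Fintype ↥(borelSL F) := Fintype.ofFinite _
  have hq0 : (Fintype.card F : ℂ) ≠ 0 := by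
    exact_mod_cast (Fintype.card_pos (α := F)).ne'
  unfold ggChar indFun
  rw [← Equiv.sum_comp (Equiv.inv (SpecialLinearGroup (Fin 2) F))
    (fun x => extendByZero _ _ (x⁻¹ * tSL t * x))]
  simp only [Equiv.inv_apply, inv_inv]
  have hterm : ∀ x : SpecialLinearGroup (Fin 2) F,
      extendByZero (zuSL F) (fun h => zuFun ε ψ (h : SpecialLinearGroup (Fin 2) F))
        (x * tSL t * x⁻¹) =
      extendByZero (borelSL F) (fun b => ψ (((b : SpecialLinearGroup (Fin 2) F) :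
        Matrix (Fin 2) (Fin 2) F) 0 0 ^ 2 * t)) x := by
    intro x
    by_cases hx : x ∈ borelSL F
    · have e1 := conj_tSL_of_upper x (mem_borelSL.mp hx) t
      have e2 : x * tSL t * x⁻¹ = ((⟨tSL ((x : Matrix (Fin 2) (Fin 2) F) 0 0 ^ 2 * t),
          tSL_mem_zuSL _⟩ : ↥(zuSL F)) : SpecialLinearGroup (Fin 2) F) := e1
      rw [e2, extendByZero_apply_coe, Cfsg.Agent.Lib.Helper10.extendByZero_apply_mem _ _ hx]
      exact zuFun_tSL ε ψ _
    · rw [extendByZero_apply_of_not_mem _ _ hx, extendByZero_apply_of_not_mem]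
      intro hc
      apply hx
      rw [mem_borelSL]
      have htr : ((x * tSL t * x⁻¹ : SpecialLinearGroup (Fin 2) F) :
          Matrix (Fin 2) (Fin 2) F).trace = 2 := by
        rw [trace_conj_SL, tSL_coe, Matrix.trace_fin_two]
        simp
        norm_num
      have := eq_tSL_of_mem_zuSL h2 hc htr
      apply upper_of_conj_tSL_mem x t ht
      rw [this]
      exact ⟨Multiplicative.ofAdd _, rfl⟩
  rw [Finset.sum_congr rfl (fun x _ => hterm x)]
  have hsum := Cfsg.Agent.Lib.Helper10.sum_extendByZero (borelSL F)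
    (fun b => ψ (((b : SpecialLinearGroup (Fin 2) F) : Matrix (Fin 2) (Fin 2) F) 0 0 ^ 2 * t))
    (fun _ c => c) (fun _ => rfl)
  rw [hsum]
  have h3 := sum_sl (F := F) (fun p : Fˣ × F => ψ ((p.1 : F) ^ 2 * t))
  simp only [slEquiv_fst] at h3
  rw [h3, card_zuSL h2]
  simp only [Finset.sum_const, Finset.card_univ, nsmul_eq_mul]
  rw [← Finset.mul_sum]
  push_cast
  field_simp
  apply Finset.sum_congr rfl
  intro a _
  rw [mul_comm]


theorem sum_units_eq_sum_sub (g : F → ℂ) : ∑ a : Fˣ, g (a : F) = ∑ a : F, g a - g 0 := by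
  have h1 : ∑ a : Fˣ, g (a : F) = ∑ a : Fˣ, (fun a : F => if a = 0 then 0 else g a) (a : F) := by
    apply Finset.sum_congr rfl
    intro a _
    simp [a.ne_zero]
  rw [h1, sum_units_eq_sum (fun a : F => if a = 0 then 0 else g a) (by simp)]
  have h2 : ∀ a : F, (if a = 0 then 0 else g a) = g a - (if a = 0 then g a else 0) := by
    intro a
    split_ifs <;> ring
  rw [Finset.sum_congr rfl (fun a _ => h2 a), Finset.sum_sub_distrib, Finset.sum_ite_eq',
    if_pos (Finset.mem_univ _)]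

theorem sum_comp_sq (hF : ringChar F ≠ 2) (f : F → ℂ) :
    ∑ a : F, f (a ^ 2) = ∑ y : F, ((quadraticChar F y : ℤ) + 1 : ℂ) * f y := by
  rw [← Finset.sum_fiberwise Finset.univ (fun a : F => a ^ 2) (fun a => f (a ^ 2))]
  apply Finset.sum_congr rfl
  intro y _
  have h1 : ∀ a ∈ Finset.univ.filter (fun a : F => a ^ 2 = y), f (a ^ 2) = f y := by
    intro a ha
    rw [(Finset.mem_filter.mp ha).2]
  rw [Finset.sum_congr rfl h1, Finset.sum_const, nsmul_eq_mul]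
  congr 1
  have h2 := quadraticChar_card_sqrts hF y
  have h3 : ({x : F | x ^ 2 = y} : Set F).toFinset = Finset.univ.filter (fun a : F => a ^ 2 = y) := by
    ext a
    simp
  rw [h3] at h2
  have : (((Finset.univ.filter (fun a : F => a ^ 2 = y)).card : ℤ) : ℂ) =
      ((quadraticChar F y + 1 : ℤ) : ℂ) := by rw [h2]
  push_cast at this
  exact this

theorem sum_sq_add_nonsq (hF : ringChar F ≠ 2) {ν : F} (hν : ¬ IsSquare ν) (f : F → ℂ) :
    ∑ a : F, f (a ^ 2) + ∑ a : F, f (ν * a ^ 2) = 2 * ∑ y : F, f y := by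
  have hν0 : ν ≠ 0 := by rintro rfl; exact hν IsSquare.zero
  have hχ : quadraticChar F ν = -1 := quadraticChar_neg_one_iff_not_isSquare.mpr hν
  rw [sum_comp_sq hF f, sum_comp_sq hF (fun s => f (ν * s))]
  have e := Equiv.sum_comp (Equiv.mulLeft₀ ν hν0) (fun y => ((quadraticChar F y : ℤ) + 1 : ℂ) * f y)
  have e' := Equiv.sum_comp (Equiv.mulLeft₀ ν hν0) f
  simp only [Equiv.mulLeft₀_apply] at e e'
  rw [← e, ← e', ← Finset.sum_add_distrib, Finset.mul_sum]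
  apply Finset.sum_congr rfl
  intro s _
  rw [map_mul, hχ]
  push_cast
  ring

theorem sum_units_sq_add_nonsq (hF : ringChar F ≠ 2) {ν : F} (hν : ¬ IsSquare ν)
    (ψ : AddChar F ℂ) (hψ : ψ ≠ 1) (t : F) (ht : t ≠ 0) :
    ∑ a : Fˣ, ψ ((a : F) ^ 2 * t) + ∑ a : Fˣ, ψ (ν * ((a : F) ^ 2 * t)) = -2 := by
  rw [sum_units_eq_sum_sub (fun a => ψ (a ^ 2 * t)),
    sum_units_eq_sum_sub (fun a => ψ (ν * (a ^ 2 * t)))]
  have h1 := sum_sq_add_nonsq hF hν (fun y => ψ (y * t))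
  have h2 : ∑ y : F, ψ (y * t) = 0 := by
    have e := Equiv.sum_comp (Equiv.mulRight₀ t ht) (fun y => ψ y)
    simp only [Equiv.mulRight₀_apply] at e
    rw [e]
    exact AddChar.sum_eq_zero_of_ne_one hψ
  rw [h2, mul_zero] at h1
  simp only [mul_assoc] at h1
  simp only [ne_eq, OfNat.ofNat_ne_zero, not_false_eq_true, zero_pow, zero_mul, mul_zero,
    AddChar.map_zero_eq_one]
  linear_combination h1


theorem ggChar_pair_tSL (h2 : (2 : F) ≠ 0) (hF : ringChar F ≠ 2) (ε : ℂ) {ν : F}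
    (hν : ¬ IsSquare ν) (ψ : AddChar F ℂ) (hψ : ψ ≠ 1) (t : F) (ht : t ≠ 0) :
    ggChar ε ψ (tSL t) + ggChar ε (AddChar.mulShift ψ ν) (tSL t) = -1 := by
  rw [ggChar_tSL h2 ε ψ t ht, ggChar_tSL h2 ε _ t ht]
  simp only [AddChar.mulShift_apply]
  rw [← mul_add, sum_units_sq_add_nonsq hF hν ψ hψ t ht]
  norm_num

end gg

end Cfsg.Agent.Lib.Helper13
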