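/-
helper13: the generalized characters `R_θ = Γ_ψ + Γ_{ψν} - Ind_C θ` of `SL₂(F)`, `q` odd, attached to a
character `θ` of a cyclic subgroup `C` of order `q + 1`: values and norms.
-/
import Mathlib
import Cfsg.Agent.Lib.Helper13.SL2CuspB
import Cfsg.Agent.Lib.Helper10.GenChar

set_option autoImplicit false

namespace Cfsg.Agent.Lib.Helper13

open Matrix Cfsg Cfsg.Agent.CharLib
open scoped ComplexConjugate

variable {F : Type*} [Field F] [Fintype F] [DecidableEq F]

/-- Summing over the central elements of a subgroup containing the centre. -/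
theorem sum_ite_center (h2 : (2 : F) ≠ 0) (H : Subgroup (SpecialLinearGroup (Fin 2) F))
    [Fintype H] (hz : zSL F ∈ H) (f : H → ℂ) :
    ∑ h : H, (if (h : SpecialLinearGroup (Fin 2) F) ∈
      Subgroup.center (SpecialLinearGroup (Fin 2) F) then f h else 0) = f 1 + f ⟨zSL F, hz⟩ := by
  classical
  rw [← Finset.sum_filter]
  have hne : (1 : H) ≠ ⟨zSL F, hz⟩ := by
    intro h
    exact zSL_ne_one h2 (congrArg Subtype.val h).symm
  have : Finset.univ.filter (fun h : H => (h : SpecialLinearGroup (Fin 2) F) ∈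
      Subgroup.center (SpecialLinearGroup (Fin 2) F)) = {1, ⟨zSL F, hz⟩} := by
    ext h
    simp only [Finset.mem_filter, Finset.mem_univ, true_and, Finset.mem_insert,
      Finset.mem_singleton]
    constructor
    · intro hh
      rcases center_cases _ hh with h1 | h1
      · left; exact Subtype.ext h1
      · right; exact Subtype.ext h1
    · rintro (rfl | rfl)
      · exact one_mem _
      · exact zSL_mem_center
  rw [this, Finset.sum_pair hne]

/-- A non-central element of trace `±2` is not conjugate into a cyclic subgroup of order `q + 1`. -/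
theorem indFun_cyclicTorus_of_trace_sq (hodd : Odd (Fintype.card F))
    (C : Subgroup (SpecialLinearGroup (Fin 2) F)) (hC : IsCyclic C)
    (hcard : Nat.card C = Fintype.card F + 1) (f : C → ℂ) (g : SpecialLinearGroup (Fin 2) F)
    (hg : g ∉ Subgroup.center (SpecialLinearGroup (Fin 2) F))
    (h4 : (g : Matrix (Fin 2) (Fin 2) F).trace ^ 2 = 4) : indFun C f g = 0 := by
  obtain ⟨-, hprop⟩ := cyclicTorus_props hodd C hC hcard
  apply indFun_apply_of_forall_not_mem
  intro x hx
  have hnc : x⁻¹ * g * x ∉ Subgroup.center (SpecialLinearGroup (Fin 2) F) := by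
    intro hc
    apply hg
    have := (Subgroup.center (SpecialLinearGroup (Fin 2) F)).normal_of_characteristic.conj_mem _ hc x
    simpa [mul_assoc] using this
  obtain ⟨h5, -⟩ := hprop _ hx hnc
  apply h5
  have e : x⁻¹ * g * x = x⁻¹ * g * (x⁻¹)⁻¹ := by rw [inv_inv]
  rw [e, trace_conj_SL]
  exact h4

/-- A split semisimple element is not conjugate into a cyclic subgroup of order `q + 1`. -/
theorem indFun_cyclicTorus_of_split (hodd : Odd (Fintype.card F))
    (C : Subgroup (SpecialLinearGroup (Fin 2) F)) (hC : IsCyclic C)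
    (hcard : Nat.card C = Fintype.card F + 1) (f : C → ℂ) (g : SpecialLinearGroup (Fin 2) F)
    (h4 : (g : Matrix (Fin 2) (Fin 2) F).trace ^ 2 ≠ 4) (a : F)
    (ha : a * ((g : Matrix (Fin 2) (Fin 2) F).trace - a) = 1) : indFun C f g = 0 := by
  obtain ⟨-, hprop⟩ := cyclicTorus_props hodd C hC hcard
  apply indFun_apply_of_forall_not_mem
  intro x hx
  have e : x⁻¹ * g * x = x⁻¹ * g * (x⁻¹)⁻¹ := by rw [inv_inv]
  have htr : ((x⁻¹ * g * x : SpecialLinearGroup (Fin 2) F) : Matrix (Fin 2) (Fin 2) F).trace =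
      (g : Matrix (Fin 2) (Fin 2) F).trace := by rw [e, trace_conj_SL]
  have h4' : ((x⁻¹ * g * x : SpecialLinearGroup (Fin 2) F) : Matrix (Fin 2) (Fin 2) F).trace ^ 2 ≠ 4 := by
    rw [htr]; exact h4
  have hnc : x⁻¹ * g * x ∉ Subgroup.center (SpecialLinearGroup (Fin 2) F) := by
    intro hc
    apply h4'
    rcases center_cases _ hc with h | h
    · rw [h]; simp; norm_num
    · rw [h, zSL_coe]; simp [Matrix.trace_fin_two]; norm_num
  obtain ⟨-, h6⟩ := hprop _ hx hnc
  have h7 := card_centralizer_split (x⁻¹ * g * x) h4' a (by rw [htr]; exact ha)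
  rw [← h6, hcard] at h7
  have : 1 ≤ Fintype.card F := Fintype.card_pos
  omega

/-- Values of a linear character of a finite group: the conjugate is the inverse. -/
theorem hom_conj {H : Type*} [Group H] [Finite H] (θ : H →* ℂˣ) (h : H) :
    conj ((θ h : ℂˣ) : ℂ) = (((θ h)⁻¹ : ℂˣ) : ℂ) := by
  have hpow : ((θ h : ℂˣ) : ℂ) ^ (orderOf h) = 1 := by
    rw [← Units.val_pow_eq_pow_val, ← map_pow, pow_orderOf_eq_one, map_one, Units.val_one]
  have hn : ‖((θ h : ℂˣ) : ℂ)‖ = 1 :=
    Complex.norm_eq_one_of_pow_eq_one hpow (orderOf_pos h).ne'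
  rw [Units.val_inv_eq_inv_val, Complex.inv_eq_conj hn]

/-- The inner product on `Z·U` of `λ_{ε,ψ}` with a function having the values of `R_θ`. -/
theorem classInner_zuFun_restrict (h2 : (2 : F) ≠ 0) (ε : ℂ) (hε : ε = 1 ∨ ε = -1)
    (ψ : AddChar F ℂ) (hψ : ψ ≠ 1) (R : SpecialLinearGroup (Fin 2) F → ℂ)
    (hR1 : R 1 = (Fintype.card F : ℂ) - 1) (hRz : ∀ g, R (zSL F * g) = ε * R g)
    (hRu : ∀ t : F, t ≠ 0 → R (tSL t) = -1) [Fintype ↥(zuSL F)] :
    classInner (fun h : ↥(zuSL F) => zuFun ε ψ (h : SpecialLinearGroup (Fin 2) F))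
      (fun h : ↥(zuSL F) => R (h : SpecialLinearGroup (Fin 2) F)) = 1 := by
  have hq0 : (Fintype.card F : ℂ) ≠ 0 := by
    exact_mod_cast (Fintype.card_pos (α := F)).ne'
  have hε2 : ε * ε = 1 := by rcases hε with h | h <;> rw [h] <;> ring
  have hεc : conj ε = ε := by rcases hε with h | h <;> rw [h] <;> simp
  have hRt : ∀ s : F, R (tSL s) = -1 + (if s = 0 then (Fintype.card F : ℂ) else 0) := by
    intro s
    split_ifs with h
    · rw [h, tSL_zero, hR1]; ring
    · rw [hRu s h]; ring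
  unfold classInner
  rw [sum_zuSL h2, card_zuSL h2]
  have hterm : ∀ s : F,
      zuFun ε ψ ((zuEquiv h2 (false, s) : ↥(zuSL F)) : SpecialLinearGroup (Fin 2) F) *
        conj (R ((zuEquiv h2 (false, s) : ↥(zuSL F)) : SpecialLinearGroup (Fin 2) F)) +
      zuFun ε ψ ((zuEquiv h2 (true, s) : ↥(zuSL F)) : SpecialLinearGroup (Fin 2) F) *
        conj (R ((zuEquiv h2 (true, s) : ↥(zuSL F)) : SpecialLinearGroup (Fin 2) F)) =
      2 * (-ψ s + (if s = 0 then ψ s * (Fintype.card F : ℂ) else 0)) := by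
    intro s
    rw [zuEquiv_apply_false, zuEquiv_apply_true, zuFun_tSL,
      zuFun_mul h2 ε hε2 ψ zSL_mem_zuSL (tSL_mem_zuSL s), zuFun_zSL h2, zuFun_tSL, hRz, hRt,
      map_mul, hεc]
    have hc : conj (-1 + (if s = 0 then (Fintype.card F : ℂ) else 0)) =
        -1 + (if s = 0 then (Fintype.card F : ℂ) else 0) := by
      split_ifs <;> simp
    rw [hc]
    split_ifs
    · linear_combination (ψ s * (-1 + (Fintype.card F : ℂ))) * hε2
    · linear_combination (ψ s * (-1 + 0)) * hε2
  rw [Finset.sum_congr rfl (fun s _ => hterm s), ← Finset.mul_sum, Finset.sum_add_distrib,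
    Finset.sum_neg_distrib, AddChar.sum_eq_zero_of_ne_one hψ, Finset.sum_ite_eq',
    if_pos (Finset.mem_univ _), AddChar.map_zero_eq_one]
  push_cast
  field_simp
  ring

/-- The inner product on `Z·U` of `λ_{ε,ψ}` with the trivial character. -/
theorem classInner_zuFun_one (h2 : (2 : F) ≠ 0) (ε : ℂ) (hε : ε = 1 ∨ ε = -1)
    (ψ : AddChar F ℂ) (hψ : ψ ≠ 1) [Fintype ↥(zuSL F)] :
    classInner (fun h : ↥(zuSL F) => zuFun ε ψ (h : SpecialLinearGroup (Fin 2) F))
      (fun _ : ↥(zuSL F) => (1 : ℂ)) = 0 := by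
  have hε2 : ε * ε = 1 := by rcases hε with h | h <;> rw [h] <;> ring
  unfold classInner
  rw [sum_zuSL h2]
  have hterm : ∀ s : F,
      zuFun ε ψ ((zuEquiv h2 (false, s) : ↥(zuSL F)) : SpecialLinearGroup (Fin 2) F) *
        conj (1 : ℂ) +
      zuFun ε ψ ((zuEquiv h2 (true, s) : ↥(zuSL F)) : SpecialLinearGroup (Fin 2) F) *
        conj (1 : ℂ) = (1 + ε) * ψ s := by
    intro s
    rw [zuEquiv_apply_false, zuEquiv_apply_true, zuFun_tSL,
      zuFun_mul h2 ε hε2 ψ zSL_mem_zuSL (tSL_mem_zuSL s), zuFun_zSL h2, zuFun_tSL, map_one]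
    ring
  rw [Finset.sum_congr rfl (fun s _ => hterm s), ← Finset.mul_sum,
    AddChar.sum_eq_zero_of_ne_one hψ, mul_zero, mul_zero]

open Classical in
/-- The sum of the squares of the values of a linear character. -/
theorem sum_hom_sq {H : Type*} [Group H] [Fintype H] (θ : H →* ℂˣ) :
    ∑ c : H, ((θ c : ℂˣ) : ℂ) ^ 2 = if ∃ c : H, θ c ^ 2 ≠ 1 then 0 else (Fintype.card H : ℂ) := by
  split_ifs with h
  · have hne : (Units.coeHom ℂ).comp (θ ^ 2) ≠ 1 := by
      obtain ⟨c, hc⟩ := h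
      intro h1
      apply hc
      have := DFunLike.congr_fun h1 c
      simp only [MonoidHom.coe_comp, Function.comp_apply, MonoidHom.pow_apply, Units.coeHom_apply,
        MonoidHom.one_apply] at this
      exact Units.ext this
    have := sum_hom_units_eq_zero _ hne
    simp only [MonoidHom.coe_comp, Function.comp_apply, MonoidHom.pow_apply, Units.coeHom_apply,
      Units.val_pow_eq_pow_val] at this
    exact this
  · push Not at h
    have : ∀ c : H, ((θ c : ℂˣ) : ℂ) ^ 2 = 1 := by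
      intro c
      rw [← Units.val_pow_eq_pow_val, h c, Units.val_one]
    rw [Finset.sum_congr rfl (fun c _ => this c), Finset.sum_const, Finset.card_univ, nsmul_eq_mul,
      mul_one]

open Classical in
/-- The inner product on `C` of `θ` with a function having the values of `R_θ`. -/
theorem classInner_hom_restrict (h2 : (2 : F) ≠ 0)
    (C : Subgroup (SpecialLinearGroup (Fin 2) F)) [Fintype C] (hz : zSL F ∈ C)
    (hcard : Nat.card C = Fintype.card F + 1) (θ : C →* ℂˣ)
    (R : SpecialLinearGroup (Fin 2) F → ℂ)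
    (hRC : ∀ c : C, R (c : SpecialLinearGroup (Fin 2) F) =
      -(((θ c : ℂˣ) : ℂ) + (((θ c)⁻¹ : ℂˣ) : ℂ)) +
      (if (c : SpecialLinearGroup (Fin 2) F) ∈ Subgroup.center (SpecialLinearGroup (Fin 2) F) then
        ((Fintype.card F : ℂ) + 1) * ((θ c : ℂˣ) : ℂ) else 0)) :
    classInner (fun c : C => ((θ c : ℂˣ) : ℂ))
      (fun c : C => R (c : SpecialLinearGroup (Fin 2) F)) =
      1 - (if ∃ c : C, θ c ^ 2 ≠ 1 then 0 else 1) := by
  have hq1 : (Fintype.card F : ℂ) + 1 ≠ 0 := by
    have : ((Fintype.card F + 1 : ℕ) : ℂ) ≠ 0 := Nat.cast_ne_zero.mpr (Nat.succ_ne_zero _)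
    push_cast at this
    exact this
  have hcardC : (Fintype.card ↥C : ℂ) = (Fintype.card F : ℂ) + 1 := by
    rw [← Nat.card_eq_fintype_card, hcard]
    push_cast
    ring
  unfold classInner
  have hterm : ∀ c : C, ((θ c : ℂˣ) : ℂ) * conj (R (c : SpecialLinearGroup (Fin 2) F)) =
      -(1 + ((θ c : ℂˣ) : ℂ) ^ 2) +
      (if (c : SpecialLinearGroup (Fin 2) F) ∈ Subgroup.center (SpecialLinearGroup (Fin 2) F) then
        ((Fintype.card F : ℂ) + 1) else 0) := by
    intro c
    have hinv : ((θ c : ℂˣ) : ℂ) * (((θ c)⁻¹ : ℂˣ) : ℂ) = 1 := by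
      rw [← Units.val_mul, mul_inv_cancel, Units.val_one]
    have hc1 : conj (((θ c)⁻¹ : ℂˣ) : ℂ) = ((θ c : ℂˣ) : ℂ) := by
      rw [← hom_conj, Complex.conj_conj]
    rw [hRC c]
    split_ifs
    · rw [map_add, map_neg, map_add, hom_conj, hc1, map_mul, hom_conj, map_add, map_one,
        Complex.conj_natCast]
      linear_combination (-1 + ((Fintype.card F : ℂ) + 1)) * hinv
    · rw [add_zero, map_neg, map_add, hom_conj, hc1]
      linear_combination (-1 : ℂ) * hinv
  rw [Finset.sum_congr rfl (fun c _ => hterm c), Finset.sum_add_distrib,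
    sum_ite_center h2 C hz (fun _ => (Fintype.card F : ℂ) + 1), Finset.sum_neg_distrib,
    Finset.sum_add_distrib, sum_hom_sq, Finset.sum_const, Finset.card_univ, nsmul_eq_mul, mul_one,
    hcard, hcardC]
  push_cast
  split_ifs
  · field_simp
    ring
  · field_simp
    ring

/-- The inner product on `C` of `θ ≠ 1` with the trivial character. -/
theorem classInner_hom_one {H : Type*} [Group H] [Fintype H] (θ : H →* ℂˣ) (hθ : θ ≠ 1) :
    classInner (fun c : H => ((θ c : ℂˣ) : ℂ)) (fun _ : H => (1 : ℂ)) = 0 := by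
  unfold classInner
  have hne : (Units.coeHom ℂ).comp θ ≠ 1 := by
    intro h1
    apply hθ
    ext c
    have := DFunLike.congr_fun h1 c
    simpa using this
  have := sum_hom_units_eq_zero _ hne
  simp only [MonoidHom.coe_comp, Function.comp_apply, Units.coeHom_apply] at this
  simp only [map_one, mul_one]
  rw [this, mul_zero]

omit [Fintype F] [DecidableEq F] in
theorem ringChar_ne_two_of_two_ne_zero (h2 : (2 : F) ≠ 0) : ringChar F ≠ 2 := by
  intro h
  apply h2
  have := ringChar.Nat.cast_ringChar (R := F)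
  rw [h] at this
  exact_mod_cast this

omit [Fintype F] [DecidableEq F] in
theorem tSL_not_mem_center (h2 : (2 : F) ≠ 0) (t : F) (ht : t ≠ 0) :
    tSL t ∉ Subgroup.center (SpecialLinearGroup (Fin 2) F) := by
  intro hc
  rcases center_cases _ hc with h | h
  · apply ht
    have := congrArg (fun g : SpecialLinearGroup (Fin 2) F => (g : Matrix (Fin 2) (Fin 2) F) 0 1) h
    simpa using this
  · apply h2
    have := congrArg (fun g : SpecialLinearGroup (Fin 2) F => (g : Matrix (Fin 2) (Fin 2) F) 0 0) h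
    simp only [tSL_coe, zSL_coe] at this
    have h3 : (1 : F) = -1 := by simpa using this
    linear_combination h3

open Classical in
/-- **The generalized character `R_θ`** attached to a character `θ` of a cyclic subgroup `C` of
order `q + 1` of `SL₂(F)`, `q` odd. -/
theorem exists_cuspR (hodd : Odd (Fintype.card F))
    (C : Subgroup (SpecialLinearGroup (Fin 2) F)) (hC : IsCyclic C)
    (hcard : Nat.card C = Fintype.card F + 1) (θ : C →* ℂˣ) :
    ∃ R : SpecialLinearGroup (Fin 2) F → ℂ,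
      IsGeneralizedCharacter (SpecialLinearGroup (Fin 2) F) R ∧
      R 1 = (Fintype.card F : ℂ) - 1 ∧
      (∀ c : C, (c : SpecialLinearGroup (Fin 2) F) ∉
        Subgroup.center (SpecialLinearGroup (Fin 2) F) →
        R c = -(((θ c : ℂˣ) : ℂ) + (((θ c)⁻¹ : ℂˣ) : ℂ))) ∧
      (∀ c : C, (c : SpecialLinearGroup (Fin 2) F) ∈
        Subgroup.center (SpecialLinearGroup (Fin 2) F) →
        ∀ g : SpecialLinearGroup (Fin 2) F,
          R ((c : SpecialLinearGroup (Fin 2) F) * g) = ((θ c : ℂˣ) : ℂ) * R g) ∧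
      (∀ g : SpecialLinearGroup (Fin 2) F, (g : Matrix (Fin 2) (Fin 2) F).trace ^ 2 ≠ 4 →
        ∀ a : F, a * ((g : Matrix (Fin 2) (Fin 2) F).trace - a) = 1 → R g = 0) ∧
      (∀ t : F, t ≠ 0 → R (tSL t) = -1) ∧
      classInner R R = 1 + (if ∃ c : C, θ c ^ 2 ≠ 1 then 0 else 1) ∧
      (θ ≠ 1 → classInner R (1 : SpecialLinearGroup (Fin 2) F → ℂ) = 0) := by
  classical
  have h2 : (2 : F) ≠ 0 := two_ne_zero_of_odd_card hodd
  have hF : ringChar F ≠ 2 := ringChar_ne_two_of_two_ne_zero h2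
  have hq0 : (Fintype.card F : ℂ) ≠ 0 := by
    exact_mod_cast (Fintype.card_pos (α := F)).ne'
  have hq1 : (Fintype.card F : ℂ) + 1 ≠ 0 := by
    have : ((Fintype.card F + 1 : ℕ) : ℂ) ≠ 0 := Nat.cast_ne_zero.mpr (Nat.succ_ne_zero _)
    push_cast at this
    exact this
  obtain ⟨hZC, hprop⟩ := cyclicTorus_props hodd C hC hcard
  have hzC : zSL F ∈ C := hZC zSL_mem_center
  obtain ⟨ν, hν⟩ := FiniteField.exists_nonsquare hF
  have hν0 : ν ≠ 0 := by rintro rfl; exact hν IsSquare.zero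
  obtain ⟨ψ, hψ1⟩ := (AddChar.exists_apply_ne_zero (α := F) (a := 1)).mpr one_ne_zero
  have hψ : ψ ≠ 1 := by
    rintro rfl
    exact hψ1 rfl
  have hψν : AddChar.mulShift ψ ν ≠ 1 := (AddChar.IsPrimitive.of_ne_one hψ) hν0
  obtain ⟨ε, hεdef⟩ : ∃ ε : ℂ, ε = ((θ ⟨zSL F, hzC⟩ : ℂˣ) : ℂ) := ⟨_, rfl⟩
  have hε2 : ε * ε = 1 := by
    have h1 : (⟨zSL F, hzC⟩ : C) * ⟨zSL F, hzC⟩ = 1 := Subtype.ext zSL_mul_self
    rw [hεdef, ← Units.val_mul, ← map_mul, h1, map_one, Units.val_one]
  have hε : ε = 1 ∨ ε = -1 := by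
    have : (ε - 1) * (ε + 1) = 0 := by linear_combination hε2
    rcases mul_eq_zero.mp this with h | h
    · left; linear_combination h
    · right; linear_combination h
  obtain ⟨θ', hθ'⟩ : ∃ θ' : C → ℂ, θ' = fun c => ((θ c : ℂˣ) : ℂ) := ⟨_, rfl⟩
  have hθ'char : IsCharacter C θ' := by
    rw [hθ']
    exact Cfsg.Agent.Lib.Helper6.isCharacter_of_hom θ
  obtain ⟨R, hRdef⟩ : ∃ R : SpecialLinearGroup (Fin 2) F → ℂ,
      R = ggChar ε ψ + ggChar ε (AddChar.mulShift ψ ν) - indFun C θ' := ⟨_, rfl⟩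
  have hRapp : ∀ g, R g = ggChar ε ψ g + ggChar ε (AddChar.mulShift ψ ν) g - indFun C θ' g := by
    intro g
    rw [hRdef]
    rfl
  have hgen : IsGeneralizedCharacter (SpecialLinearGroup (Fin 2) F) R :=
    ⟨ggChar ε ψ + ggChar ε (AddChar.mulShift ψ ν), indFun C θ',
      IsCharacter.add (isCharacter_ggChar h2 ε hε2 ψ) (isCharacter_ggChar h2 ε hε2 _),
      IsCharacter.indFun C hθ'char, hRdef⟩
  have hcl : IsClassFunction (SpecialLinearGroup (Fin 2) F) R :=
    Cfsg.Agent.Lib.Helper10.genChar_isClassFunction hgen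
  have hR1 : R 1 = (Fintype.card F : ℂ) - 1 := by
    rw [hRapp, ggChar_one h2, ggChar_one h2, indFun_apply_one, hcard, card_SL2_complex, hθ']
    simp only [map_one, Units.val_one]
    push_cast
    field_simp
    ring
  have hRz : ∀ g, R (zSL F * g) = ε * R g := by
    intro g
    rw [hRapp, hRapp, ggChar_central_mul h2 ε hε2, ggChar_central_mul h2 ε hε2,
      indFun_central_mul C θ' (zSL F) zSL_mem_center hzC ε (fun h => by
        rw [hθ']
        change ((θ (⟨zSL F, hzC⟩ * h) : ℂˣ) : ℂ) = ε * ((θ h : ℂˣ) : ℂ)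
        rw [map_mul, Units.val_mul, hεdef])]
    ring
  have hRu : ∀ t : F, t ≠ 0 → R (tSL t) = -1 := by
    intro t ht
    rw [hRapp, ggChar_pair_tSL h2 hF ε hν ψ hψ t ht,
      indFun_cyclicTorus_of_trace_sq hodd C hC hcard θ' (tSL t) (tSL_not_mem_center h2 t ht)
        (by rw [tSL_coe, Matrix.trace_fin_two]; simp; norm_num), sub_zero]
  have hRc : ∀ c : C, (c : SpecialLinearGroup (Fin 2) F) ∉
      Subgroup.center (SpecialLinearGroup (Fin 2) F) →
      R c = -(((θ c : ℂˣ) : ℂ) + (((θ c)⁻¹ : ℂˣ) : ℂ)) := by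
    intro c hc
    obtain ⟨h4, hCeq⟩ := hprop c c.2 hc
    rw [hRapp, ggChar_eq_zero ε ψ (c : SpecialLinearGroup (Fin 2) F) h4,
      ggChar_eq_zero ε (AddChar.mulShift ψ ν) (c : SpecialLinearGroup (Fin 2) F) h4,
      indFun_torus_apply C c h4 hCeq θ' c.2 (C.inv_mem c.2), hθ']
    have e1 : (⟨(c : SpecialLinearGroup (Fin 2) F)⁻¹, C.inv_mem c.2⟩ : C) = c⁻¹ := rfl
    simp only [Subtype.coe_eta, e1, map_inv]
    ring
  have hRs : ∀ g : SpecialLinearGroup (Fin 2) F, (g : Matrix (Fin 2) (Fin 2) F).trace ^ 2 ≠ 4 →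
      ∀ a : F, a * ((g : Matrix (Fin 2) (Fin 2) F).trace - a) = 1 → R g = 0 := by
    intro g h4 a ha
    rw [hRapp, ggChar_eq_zero ε ψ g h4, ggChar_eq_zero ε (AddChar.mulShift ψ ν) g h4,
      indFun_cyclicTorus_of_split hodd C hC hcard θ' g h4 a ha]
    ring
  have hRC : ∀ c : C, R (c : SpecialLinearGroup (Fin 2) F) =
      -(((θ c : ℂˣ) : ℂ) + (((θ c)⁻¹ : ℂˣ) : ℂ)) +
      (if (c : SpecialLinearGroup (Fin 2) F) ∈ Subgroup.center (SpecialLinearGroup (Fin 2) F) then
        ((Fintype.card F : ℂ) + 1) * ((θ c : ℂˣ) : ℂ) else 0) := by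
    intro c
    split_ifs with hc
    · rcases center_cases _ hc with h | h
      · have hc1 : c = 1 := Subtype.ext h
        rw [hc1]
        simp only [OneMemClass.coe_one, map_one, inv_one, Units.val_one]
        rw [hR1]
        ring
      · have hcz : c = ⟨zSL F, hzC⟩ := Subtype.ext h
        rw [hcz]
        have h3 := hRz 1
        rw [mul_one, hR1] at h3
        change R (zSL F) = _
        rw [h3, Units.val_inv_eq_inv_val, ← hεdef, inv_eq_of_mul_eq_one_right hε2]
        ring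
    · rw [hRc c hc, add_zero]
  have : Fintype ↥(zuSL F) := Fintype.ofFinite _
  have : Fintype ↥C := Fintype.ofFinite _
  refine ⟨R, hgen, hR1, hRc, ?_, hRs, hRu, ?_, ?_⟩
  · intro c hc g
    rcases center_cases _ hc with h | h
    · have hc1 : c = 1 := Subtype.ext h
      rw [hc1]
      simp
    · have hcz : c = ⟨zSL F, hzC⟩ := Subtype.ext h
      rw [hcz, ← hεdef]
      exact hRz g
  · nth_rewrite 1 [hRdef]
    rw [classInner_sub_left, classInner_add_left]
    unfold ggChar
    rw [frobenius_reciprocity _ _ hcl, frobenius_reciprocity _ _ hcl,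
      frobenius_reciprocity _ _ hcl,
      classInner_zuFun_restrict h2 ε hε ψ hψ R hR1 hRz hRu,
      classInner_zuFun_restrict h2 ε hε _ hψν R hR1 hRz hRu, hθ',
      classInner_hom_restrict h2 C hzC hcard θ R hRC]
    by_cases h : ∃ c : C, θ c ^ 2 ≠ 1
    · rw [if_pos h, if_pos h]; ring
    · rw [if_neg h, if_neg h]; ring
  · intro hθ1
    have hcl1 : IsClassFunction (SpecialLinearGroup (Fin 2) F)
        (1 : SpecialLinearGroup (Fin 2) F → ℂ) := fun _ _ => rfl
    rw [hRdef, classInner_sub_left, classInner_add_left]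
    unfold ggChar
    rw [frobenius_reciprocity _ _ hcl1, frobenius_reciprocity _ _ hcl1,
      frobenius_reciprocity _ _ hcl1, hθ']
    have e1 := classInner_zuFun_one h2 ε hε ψ hψ
    have e2 := classInner_zuFun_one h2 ε hε _ hψν
    have e3 := classInner_hom_one θ hθ1
    simp only [Pi.one_apply]
    rw [e1, e2, e3]
    ring

end Cfsg.Agent.Lib.Helper13
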