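/-
helper13: the cuspidal characters of degree `q - 1` of `SL₂(F)`, `q` odd: existence, and (for
`q ≥ 5`) exhaustion by counting.
-/
import Mathlib
import Cfsg.Agent.Lib.Helper13.SL2CuspC
import Cfsg.Agent.Lib.Helper13.SL2OddCount

set_option autoImplicit false

namespace Cfsg.Agent.Lib.Helper13

open Matrix Cfsg Cfsg.Agent.CharLib
open scoped ComplexConjugate

variable {F : Type*} [Field F] [Fintype F] [DecidableEq F]

/-- **Cuspidal characters of degree `q - 1`.** -/
theorem exists_cusp_irr (hodd : Odd (Fintype.card F))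
    (C : Subgroup (SpecialLinearGroup (Fin 2) F)) (hC : IsCyclic C)
    (hcard : Nat.card C = Fintype.card F + 1) (θ : C →* ℂˣ) (hθ : ∃ c : C, θ c ^ 2 ≠ 1) :
    ∃ R : SpecialLinearGroup (Fin 2) F → ℂ,
      IsIrrCharacter (SpecialLinearGroup (Fin 2) F) R ∧
      R 1 = (Fintype.card F : ℂ) - 1 ∧
      (∀ c : C, (c : SpecialLinearGroup (Fin 2) F) ∉
        Subgroup.center (SpecialLinearGroup (Fin 2) F) →
        R c = -(((θ c : ℂˣ) : ℂ) + (((θ c)⁻¹ : ℂˣ) : ℂ))) ∧
      (∀ c : C, (c : SpecialLinearGroup (Fin 2) F) ∈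
        Subgroup.center (SpecialLinearGroup (Fin 2) F) →
        ∀ g : SpecialLinearGroup (Fin 2) F,
          R ((c : SpecialLinearGroup (Fin 2) F) * g) = ((θ c : ℂˣ) : ℂ) * R g) ∧
      (∀ g : SpecialLinearGroup (Fin 2) F, (g : Matrix (Fin 2) (Fin 2) F).trace ^ 2 ≠ 4 →
        ∀ a : F, a * ((g : Matrix (Fin 2) (Fin 2) F).trace - a) = 1 → R g = 0) ∧
      (∀ t : F, t ≠ 0 → R (tSL t) = -1) := by
  obtain ⟨R, hgen, hR1, hRc, hRz, hRs, hRu, hnorm, -⟩ := exists_cuspR hodd C hC hcard θ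
  rw [if_pos hθ, add_zero] at hnorm
  obtain ⟨ε, hε, hirr⟩ := Cfsg.Agent.Lib.Helper10.genChar_norm_one hgen hnorm
  have hq : 3 ≤ Fintype.card F := by
    have h1 : 2 ≤ Fintype.card F := Fintype.one_lt_card
    obtain ⟨r, hr⟩ := hodd
    omega
  have hε1 : ε = 1 := by
    rcases hε with h | h
    · exact h
    · exfalso
      obtain ⟨d, hd0, hd⟩ := IsIrrCharacter.apply_one_pos hirr
      rw [h, Pi.smul_apply, hR1, smul_eq_mul] at hd
      have h3 : ((d + Fintype.card F : ℕ) : ℂ) = ((1 : ℕ) : ℂ) := by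
        push_cast
        linear_combination -hd
      have : d + Fintype.card F = 1 := by exact_mod_cast h3
      omega
  rw [hε1, one_smul] at hirr
  exact ⟨R, hirr, hR1, hRc, hRz, hRs, hRu⟩

/-- A homomorphism from a cyclic group is determined by its value at a generator. -/
theorem hom_eq_of_generator {H K : Type*} [Group H] [Group K] (c₀ : H)
    (hgen : ∀ t : H, t ∈ Subgroup.zpowers c₀) (θ₁ θ₂ : H →* K) (h : θ₁ c₀ = θ₂ c₀) : θ₁ = θ₂ := by
  apply MonoidHom.ext
  intro t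
  obtain ⟨k, rfl⟩ := Subgroup.mem_zpowers_iff.mp (hgen t)
  rw [map_zpow, map_zpow, h]

theorem units_eq_or_eq_inv (u v : ℂˣ)
    (h : (u : ℂ) + ((u⁻¹ : ℂˣ) : ℂ) = (v : ℂ) + ((v⁻¹ : ℂˣ) : ℂ)) : v = u ∨ v = u⁻¹ := by
  have hua : (u : ℂ) * ((u⁻¹ : ℂˣ) : ℂ) = 1 := by rw [← Units.val_mul, mul_inv_cancel, Units.val_one]
  have hvb : (v : ℂ) * ((v⁻¹ : ℂˣ) : ℂ) = 1 := by rw [← Units.val_mul, mul_inv_cancel, Units.val_one]
  have h0 : ((u : ℂ) - v) * ((u : ℂ) * v - 1) = 0 := by
    linear_combination ((u : ℂ) * v) * h - (v : ℂ) * hua + (u : ℂ) * hvb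
  rcases mul_eq_zero.mp h0 with h1 | h1
  · left
    apply Units.ext
    linear_combination -h1
  · right
    rw [eq_comm, inv_eq_iff_mul_eq_one]
    apply Units.ext
    rw [Units.val_mul, Units.val_one]
    linear_combination h1

/-- The number of characters of a cyclic subgroup. -/
theorem card_hom_cyclic {G : Type*} [Group G] (C : Subgroup G) [Finite C] (hC : IsCyclic C) :
    Nat.card (C →* ℂˣ) = Nat.card C := by
  rw [Cfsg.Agent.Lib.Helper6.card_hom_units]
  have : commutator C = ⊥ := by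
    rw [commutator_def, Subgroup.commutator_eq_bot_iff_le_centralizer]
    intro a _
    rw [Subgroup.mem_centralizer_iff]
    intro b _
    exact (IsCyclic.commGroup (α := ↥C)).mul_comm b a
  rw [this, Subgroup.index_bot]

omit [DecidableEq F] in
/-- A generator of a cyclic subgroup of order `q + 1` is not central. -/
theorem generator_not_mem_center (C : Subgroup (SpecialLinearGroup (Fin 2) F))
    (hcard : Nat.card C = Fintype.card F + 1) (b₀ : C) (hb₀ : ∀ t : C, t ∈ Subgroup.zpowers b₀) :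
    (b₀ : SpecialLinearGroup (Fin 2) F) ∉ Subgroup.center (SpecialLinearGroup (Fin 2) F) := by
  intro hz
  have h1 : b₀ * b₀ = 1 := by
    apply Subtype.ext
    rcases center_cases _ hz with h | h
    · rw [Subgroup.coe_mul, h, mul_one, Subgroup.coe_one]
    · rw [Subgroup.coe_mul, h, zSL_mul_self, Subgroup.coe_one]
  have hord : orderOf b₀ = Nat.card C := orderOf_eq_card_of_forall_mem_zpowers hb₀
  have hdvd : orderOf b₀ ∣ 2 := orderOf_dvd_of_pow_eq_one (by rw [pow_two, h1])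
  rw [hord, hcard] at hdvd
  have := Nat.le_of_dvd (by norm_num) hdvd
  have h2 : 2 ≤ Fintype.card F := Fintype.one_lt_card
  omega

open Classical in
/-- At most two characters of a cyclic group have trivial square. -/
theorem card_hom_le {H : Type*} [Group H] (b₀ : H) (hb₀ : ∀ t : H, t ∈ Subgroup.zpowers b₀)
    [Finite (H →* ℂˣ)] :
    Nat.card (H →* ℂˣ) ≤ Nat.card {θ : H →* ℂˣ // ∃ c : H, θ c ^ 2 ≠ 1} + 2 := by
  let _ : Fintype (H →* ℂˣ) := Fintype.ofFinite _
  rw [Nat.card_eq_fintype_card, Nat.card_eq_fintype_card]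
  have hbad : Fintype.card {θ : H →* ℂˣ // ¬ ∃ c : H, θ c ^ 2 ≠ 1} ≤ 2 := by
    rw [Fintype.card_subtype]
    calc (Finset.univ.filter (fun θ : H →* ℂˣ => ¬ ∃ c : H, θ c ^ 2 ≠ 1)).card
        ≤ ({1, -1} : Finset ℂˣ).card := by
          apply Finset.card_le_card_of_injOn (fun θ => θ b₀)
          · intro θ hθ
            simp only [Finset.coe_filter, Finset.mem_univ, true_and, Set.mem_ofPred_eq, not_exists,
              not_not] at hθ
            have h3 := hθ b₀
            simp only [Finset.coe_insert, Finset.coe_singleton, Set.mem_insert_iff,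
              Set.mem_singleton_iff]
            have h4 : ((θ b₀ : ℂˣ) : ℂ) * ((θ b₀ : ℂˣ) : ℂ) = 1 := by
              rw [← Units.val_mul, ← pow_two, h3, Units.val_one]
            rcases mul_self_eq_one_iff.mp h4 with h5 | h5
            · left; exact Units.ext h5
            · right; apply Units.ext; rw [h5]; simp
          · intro θ₁ _ θ₂ _ h
            exact hom_eq_of_generator b₀ hb₀ θ₁ θ₂ h
      _ ≤ 2 := Finset.card_le_two
  have := Fintype.card_subtype_compl (fun θ : H →* ℂˣ => ∃ c : H, θ c ^ 2 ≠ 1)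
  omega

open Classical in
/-- For `q ≥ 5`, every irreducible character of degree `q - 1` is one of the `R_θ`. -/
theorem exists_hom_of_degree (hodd : Odd (Fintype.card F)) (hq : 5 ≤ Fintype.card F)
    (C : Subgroup (SpecialLinearGroup (Fin 2) F)) (hC : IsCyclic C)
    (hcard : Nat.card C = Fintype.card F + 1)
    (χ : SpecialLinearGroup (Fin 2) F → ℂ) (hχ : IsIrrCharacter (SpecialLinearGroup (Fin 2) F) χ)
    (h1 : χ 1 = (Fintype.card F : ℂ) - 1) :
    ∃ θ : C →* ℂˣ, (∃ c : C, θ c ^ 2 ≠ 1) ∧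
      ∀ c : C, (c : SpecialLinearGroup (Fin 2) F) ∉
        Subgroup.center (SpecialLinearGroup (Fin 2) F) →
        χ c = -(((θ c : ℂˣ) : ℂ) + (((θ c)⁻¹ : ℂˣ) : ℂ)) := by
  let _ := fintypeIrr (SpecialLinearGroup (Fin 2) F)
  obtain ⟨r, hr⟩ := hodd
  have hr2 : 2 ≤ r := by omega
  have hodd : Odd (Fintype.card F) := ⟨r, hr⟩
  obtain ⟨-, -, -, hN, -, -⟩ := card_by_degree_SL2_odd r hr hr2
  obtain ⟨b₀, hb₀⟩ := hC.exists_generator
  have hb₀z := generator_not_mem_center C hcard b₀ hb₀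
  have hfinΘ : Finite (C →* ℂˣ) :=
    Nat.finite_of_card_ne_zero (by rw [card_hom_cyclic C hC, hcard]; omega)
  let _ : Fintype (C →* ℂˣ) := Fintype.ofFinite _
  have hcardΘ : Fintype.card (C →* ℂˣ) = Fintype.card F + 1 := by
    rw [← Nat.card_eq_fintype_card, card_hom_cyclic C hC, hcard]
  have hgood : 2 * r ≤ Fintype.card {θ : C →* ℂˣ // ∃ c : C, θ c ^ 2 ≠ 1} := by
    have := card_hom_le b₀ hb₀
    rw [Nat.card_eq_fintype_card, Nat.card_eq_fintype_card, hcardΘ] at this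
    omega
  -- the map `θ ↦ R_θ`
  have hA := fun θ : {θ : C →* ℂˣ // ∃ c : C, θ c ^ 2 ≠ 1} =>
    exists_cusp_irr hodd C hC hcard θ.1 θ.2
  choose Rf hRirr hR1 hRc hRrest using hA
  have hdeg : ∀ θ, charDegree (Rf θ) = 2 * r := by
    intro θ
    have h3 := Cfsg.Agent.Lib.Helper24.irr_apply_one ⟨Rf θ, hRirr θ⟩
    change Rf θ 1 = _ at h3
    rw [hR1 θ, hr] at h3
    have h4 : ((2 * r : ℕ) : ℂ) = (charDegree (Rf θ) : ℂ) := by
      push_cast at h3 ⊢
      linear_combination h3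
    exact_mod_cast h4.symm
  have hcardT : Fintype.card {ξ : IrrCharacter (SpecialLinearGroup (Fin 2) F) //
      charDegree (ξ : SpecialLinearGroup (Fin 2) F → ℂ) = 2 * r} = r := by
    rw [← Nat.card_eq_fintype_card]; exact hN
  obtain ⟨f, hf⟩ : ∃ f : {θ : C →* ℂˣ // ∃ c : C, θ c ^ 2 ≠ 1} →
      {ξ : IrrCharacter (SpecialLinearGroup (Fin 2) F) //
        charDegree (ξ : SpecialLinearGroup (Fin 2) F → ℂ) = 2 * r},
      ∀ θ, ((f θ : IrrCharacter (SpecialLinearGroup (Fin 2) F)) :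
        SpecialLinearGroup (Fin 2) F → ℂ) = Rf θ :=
    ⟨fun θ => ⟨⟨Rf θ, hRirr θ⟩, hdeg θ⟩, fun _ => rfl⟩
  have hfib : ∀ a ∈ Finset.univ.image f,
      (Finset.univ.filter (fun θ => f θ = a)).card ≤ 2 := by
    intro a ha
    obtain ⟨θ₁, -, rfl⟩ := Finset.mem_image.mp ha
    have hsub : (Finset.univ.filter (fun θ => f θ = f θ₁)).image Subtype.val ⊆
        {θ₁.1, θ₁.1⁻¹} := by
      intro θ' hθ'
      obtain ⟨θ₂, h2, rfl⟩ := Finset.mem_image.mp hθ'
      have heq : f θ₂ = f θ₁ := (Finset.mem_filter.mp h2).2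
      have hfun : Rf θ₂ = Rf θ₁ := by rw [← hf, ← hf, heq]
      have h3 := hRc θ₂ b₀ hb₀z
      have h4 := hRc θ₁ b₀ hb₀z
      rw [hfun, h4] at h3
      simp only [Finset.mem_insert, Finset.mem_singleton]
      rcases units_eq_or_eq_inv (θ₁.1 b₀) (θ₂.1 b₀) (by linear_combination -h3) with h | h
      · left; exact hom_eq_of_generator b₀ hb₀ _ _ h
      · right
        exact hom_eq_of_generator b₀ hb₀ _ _ (by rw [MonoidHom.inv_apply]; exact h)
    calc (Finset.univ.filter (fun θ => f θ = f θ₁)).card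
        = ((Finset.univ.filter (fun θ => f θ = f θ₁)).image Subtype.val).card :=
          (Finset.card_image_of_injective _ Subtype.val_injective).symm
      _ ≤ ({θ₁.1, θ₁.1⁻¹} : Finset (C →* ℂˣ)).card := Finset.card_le_card hsub
      _ ≤ 2 := Finset.card_le_two
  have h5 := Finset.card_le_mul_card_image
    (Finset.univ : Finset {θ : C →* ℂˣ // ∃ c : C, θ c ^ 2 ≠ 1}) 2 hfib
  rw [Finset.card_univ] at h5
  have h6 : (Finset.univ.image f).card ≤ Fintype.card {ξ : IrrCharacter (SpecialLinearGroup (Fin 2) F) //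
      charDegree (ξ : SpecialLinearGroup (Fin 2) F → ℂ) = 2 * r} := Finset.card_le_univ _
  have h7 : Finset.univ.image f = Finset.univ := Finset.eq_univ_of_card _ (by omega)
  have hχdeg : charDegree χ = 2 * r := by
    have h3 := Cfsg.Agent.Lib.Helper24.irr_apply_one ⟨χ, hχ⟩
    change χ 1 = _ at h3
    rw [h1, hr] at h3
    have h4 : ((2 * r : ℕ) : ℂ) = (charDegree χ : ℂ) := by
      push_cast at h3 ⊢
      linear_combination h3
    exact_mod_cast h4.symm
  have hmem : (⟨⟨χ, hχ⟩, hχdeg⟩ : {ξ : IrrCharacter (SpecialLinearGroup (Fin 2) F) //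
      charDegree (ξ : SpecialLinearGroup (Fin 2) F → ℂ) = 2 * r}) ∈ Finset.univ.image f := by
    rw [h7]; exact Finset.mem_univ _
  obtain ⟨θ, -, hθ⟩ := Finset.mem_image.mp hmem
  refine ⟨θ.1, θ.2, ?_⟩
  have h8 : Rf θ = χ := by rw [← hf, hθ]
  intro c hc
  rw [← h8]
  exact hRc θ c hc

end Cfsg.Agent.Lib.Helper13
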