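/-
helper13: the irreducible characters of degree `2` of `SL₂(3)` vanish at the elements of order `4`.
-/
import Mathlib
import Cfsg.Agent.Lib.Helper13.SL2CuspD
import Cfsg.Agent.Lib.Helper13.SL2Blocks
import Cfsg.Agent.Lib.Helper13.SL2Conj

set_option autoImplicit false

namespace Cfsg.Agent.Lib.Helper13

open Matrix Cfsg Cfsg.Agent.CharLib
open scoped ComplexConjugate

variable {F : Type*} [Field F] [Fintype F] [DecidableEq F]

/-- The inner product on a subgroup `C ⊇ Z` of order `4` of a function which is constant on `C ∖ Z`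
with a linear character which is trivial on `Z` and constant on `C ∖ Z`. -/
theorem classInner_restrict_card_four (h2 : (2 : F) ≠ 0)
    (C : Subgroup (SpecialLinearGroup (Fin 2) F)) [Fintype C] (hz : zSL F ∈ C)
    (hcard : Nat.card C = 4) (χ : SpecialLinearGroup (Fin 2) F → ℂ) (x : ℂ)
    (hx : ∀ h : C, (h : SpecialLinearGroup (Fin 2) F) ∉
      Subgroup.center (SpecialLinearGroup (Fin 2) F) → χ h = x)
    (μ : C →* ℂˣ) (hμz : μ ⟨zSL F, hz⟩ = 1) (s : ℂ) (hs : conj s = s)
    (hμ : ∀ h : C, (h : SpecialLinearGroup (Fin 2) F) ∉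
      Subgroup.center (SpecialLinearGroup (Fin 2) F) → ((μ h : ℂˣ) : ℂ) = s) :
    classInner (fun h : C => χ (h : SpecialLinearGroup (Fin 2) F))
      (fun h : C => ((μ h : ℂˣ) : ℂ)) = (χ 1 + χ (zSL F) + 2 * x * s) / 4 := by
  classical
  unfold classInner
  have hterm : ∀ h : C, χ (h : SpecialLinearGroup (Fin 2) F) * conj ((μ h : ℂˣ) : ℂ) =
      (if (h : SpecialLinearGroup (Fin 2) F) ∈ Subgroup.center (SpecialLinearGroup (Fin 2) F) then
        χ (h : SpecialLinearGroup (Fin 2) F) * conj ((μ h : ℂˣ) : ℂ) - x * s else 0) + x * s := by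
    intro h
    split_ifs with hh
    · ring
    · rw [hx h hh, hμ h hh, hs]; ring
  rw [Finset.sum_congr rfl (fun h _ => hterm h), Finset.sum_add_distrib,
    sum_ite_center h2 C hz (fun h => χ (h : SpecialLinearGroup (Fin 2) F) *
      conj ((μ h : ℂˣ) : ℂ) - x * s), Finset.sum_const, Finset.card_univ, nsmul_eq_mul,
    ← Nat.card_eq_fintype_card, hcard, hμz]
  simp only [OneMemClass.coe_one, map_one, Units.val_one]
  push_cast
  ring

/-- For `q = 3`: the irreducible characters of degree `2` vanish on `C ∖ Z`, where they agree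
with `-(θ + θ⁻¹)` for every `θ` of order `4`. -/
theorem exists_hom_of_degree_three (hq : Fintype.card F = 3)
    (C : Subgroup (SpecialLinearGroup (Fin 2) F)) (hC : IsCyclic C)
    (hcard : Nat.card C = Fintype.card F + 1)
    (χ : SpecialLinearGroup (Fin 2) F → ℂ) (hχ : IsIrrCharacter (SpecialLinearGroup (Fin 2) F) χ)
    (h1 : χ 1 = (Fintype.card F : ℂ) - 1) :
    ∃ θ : C →* ℂˣ, (∃ c : C, θ c ^ 2 ≠ 1) ∧
      ∀ c : C, (c : SpecialLinearGroup (Fin 2) F) ∉
        Subgroup.center (SpecialLinearGroup (Fin 2) F) →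
        χ c = -(((θ c : ℂˣ) : ℂ) + (((θ c)⁻¹ : ℂˣ) : ℂ)) := by
  classical
  let _ := fintypeIrr (SpecialLinearGroup (Fin 2) F)
  have hodd : Odd (Fintype.card F) := by rw [hq]; exact ⟨1, rfl⟩
  have h2 : (2 : F) ≠ 0 := two_ne_zero_of_odd_card hodd
  have h4F : (4 : F) ≠ 0 := by
    have : (4 : F) = 2 * 2 := by norm_num
    rw [this]
    exact mul_ne_zero h2 h2
  have hcard4 : Nat.card C = 4 := by rw [hcard, hq]
  have hχ1 : χ 1 = 2 := by rw [h1, hq]; norm_num
  obtain ⟨hZC, hprop⟩ := cyclicTorus_props hodd C hC hcard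
  have hzC : zSL F ∈ C := hZC zSL_mem_center
  have : Fintype ↥C := Fintype.ofFinite _
  -- squares of non-central elements
  have hsq : ∀ h : C, (h : SpecialLinearGroup (Fin 2) F) ∉
      Subgroup.center (SpecialLinearGroup (Fin 2) F) →
      (h : SpecialLinearGroup (Fin 2) F) * h = zSL F := by
    intro h hh
    have h4 : (h : SpecialLinearGroup (Fin 2) F) ^ 4 = 1 := by
      have e : h ^ Nat.card C = 1 := pow_card_eq_one'
      rw [hcard4] at e
      have := congrArg Subtype.val e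
      simpa using this
    have h5 : ((h : SpecialLinearGroup (Fin 2) F) * h) * ((h : SpecialLinearGroup (Fin 2) F) * h) = 1 := by
      have : ((h : SpecialLinearGroup (Fin 2) F) * h) * ((h : SpecialLinearGroup (Fin 2) F) * h) =
          (h : SpecialLinearGroup (Fin 2) F) ^ 4 := by
        rw [show (4 : ℕ) = 2 + 2 from rfl, pow_add, pow_two]
      rw [this, h4]
    rcases sq_eq_one_cases h2 _ h5 with h6 | h6
    · exfalso
      apply hh
      rcases sq_eq_one_cases h2 _ h6 with h7 | h7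
      · rw [h7]; exact one_mem _
      · rw [h7]; exact zSL_mem_center
    · exact h6
  -- traces of non-central elements
  have htr : ∀ h : C, (h : SpecialLinearGroup (Fin 2) F) ∉
      Subgroup.center (SpecialLinearGroup (Fin 2) F) →
      ((h : SpecialLinearGroup (Fin 2) F) : Matrix (Fin 2) (Fin 2) F).trace = 0 := by
    intro h hh
    have e := hsq h hh
    have hm : ((h : SpecialLinearGroup (Fin 2) F) : Matrix (Fin 2) (Fin 2) F) *
        ((h : SpecialLinearGroup (Fin 2) F) : Matrix (Fin 2) (Fin 2) F) = -1 := by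
      have := congrArg (fun k : SpecialLinearGroup (Fin 2) F => (k : Matrix (Fin 2) (Fin 2) F)) e
      simp only [coe_mul_SL, zSL_coe] at this
      rw [this]
      ext i j
      fin_cases i <;> fin_cases j <;> simp
    have hch := cayley_hamilton_two ((h : SpecialLinearGroup (Fin 2) F) : Matrix (Fin 2) (Fin 2) F)
      (h : SpecialLinearGroup (Fin 2) F).2
    rw [hm, ← Matrix.trace_fin_two] at hch
    have hsm : ((h : SpecialLinearGroup (Fin 2) F) : Matrix (Fin 2) (Fin 2) F).trace •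
        ((h : SpecialLinearGroup (Fin 2) F) : Matrix (Fin 2) (Fin 2) F) = 0 := by
      have := eq_sub_iff_add_eq.mp hch
      rw [← this]
      simp
    rcases smul_eq_zero.mp hsm with h0 | h0
    · exact h0
    · exfalso
      have hd := (h : SpecialLinearGroup (Fin 2) F).2
      rw [h0, Matrix.det_zero] at hd
      exact zero_ne_one hd
  -- a character `θ` with `θ² ≠ 1`
  obtain ⟨b₀, hb₀⟩ := hC.exists_generator
  have hfinΘ : Finite (C →* ℂˣ) :=
    Nat.finite_of_card_ne_zero (by rw [card_hom_cyclic C hC, hcard4]; norm_num)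
  have hgood := card_hom_le b₀ hb₀
  rw [card_hom_cyclic C hC, hcard4] at hgood
  have hne : Nonempty {θ : C →* ℂˣ // ∃ c : C, θ c ^ 2 ≠ 1} := by
    by_contra hemp
    rw [not_nonempty_iff] at hemp
    rw [Nat.card_of_isEmpty] at hgood
    omega
  obtain ⟨⟨θ, c', hc'⟩⟩ := hne
  have hc'z : (c' : SpecialLinearGroup (Fin 2) F) ∉
      Subgroup.center (SpecialLinearGroup (Fin 2) F) := by
    intro hcz
    apply hc'
    have : c' * c' = 1 := by
      apply Subtype.ext
      rcases center_cases _ hcz with h | h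
      · rw [Subgroup.coe_mul, h, mul_one, Subgroup.coe_one]
      · rw [Subgroup.coe_mul, h, zSL_mul_self, Subgroup.coe_one]
    rw [pow_two, ← map_mul, this, map_one]
  have hθz2 : θ ⟨zSL F, hzC⟩ * θ ⟨zSL F, hzC⟩ = 1 := by
    have : (⟨zSL F, hzC⟩ : C) * ⟨zSL F, hzC⟩ = 1 := Subtype.ext zSL_mul_self
    rw [← map_mul, this, map_one]
  have hθsq : ∀ h : C, (h : SpecialLinearGroup (Fin 2) F) ∉
      Subgroup.center (SpecialLinearGroup (Fin 2) F) → θ h * θ h = θ ⟨zSL F, hzC⟩ := by
    intro h hh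
    have : h * h = ⟨zSL F, hzC⟩ := Subtype.ext (hsq h hh)
    rw [← map_mul, this]
  have hθz : ((θ ⟨zSL F, hzC⟩ : ℂˣ) : ℂ) = -1 := by
    have h3 : ((θ ⟨zSL F, hzC⟩ : ℂˣ) : ℂ) * ((θ ⟨zSL F, hzC⟩ : ℂˣ) : ℂ) = 1 := by
      rw [← Units.val_mul, hθz2, Units.val_one]
    rcases mul_self_eq_one_iff.mp h3 with h5 | h5
    · exfalso
      apply hc'
      rw [pow_two, hθsq c' hc'z]
      exact Units.ext h5
    · exact h5
  refine ⟨θ, ⟨c', hc'⟩, ?_⟩
  intro c hc
  -- the right hand side vanishes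
  have hrhs : ((θ c : ℂˣ) : ℂ) + (((θ c)⁻¹ : ℂˣ) : ℂ) = 0 := by
    have h3 : ((θ c : ℂˣ) : ℂ) * ((θ c : ℂˣ) : ℂ) = -1 := by
      rw [← Units.val_mul, hθsq c hc, hθz]
    have h4 : ((θ c : ℂˣ) : ℂ) * (((θ c)⁻¹ : ℂˣ) : ℂ) = 1 := by
      rw [← Units.val_mul, mul_inv_cancel, Units.val_one]
    have h5 : (((θ c)⁻¹ : ℂˣ) : ℂ) = -((θ c : ℂˣ) : ℂ) := by
      linear_combination (((θ c)⁻¹ : ℂˣ) : ℂ) * h3 - ((θ c : ℂˣ) : ℂ) * h4
    rw [h5]; ring
  rw [hrhs, neg_zero]
  -- all non-central elements of `C` are conjugate to `c`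
  have hx : ∀ h : C, (h : SpecialLinearGroup (Fin 2) F) ∉
      Subgroup.center (SpecialLinearGroup (Fin 2) F) → χ h = χ c := by
    intro h hh
    have hconj : IsConj (h : SpecialLinearGroup (Fin 2) F) (c : SpecialLinearGroup (Fin 2) F) := by
      apply isConj_of_trace_eq
      · rw [htr h hh, htr c hc]
      · rw [htr h hh]
        intro h0
        apply h4F
        rw [← h0]; ring
    exact IsClassFunction.of_isConj (IsCharacter.isClassFunction (IsIrrCharacter.isCharacter hχ)) hconj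
  -- the two inner products
  have hχC : IsCharacter C (fun h : C => χ (h : SpecialLinearGroup (Fin 2) F)) :=
    IsCharacter.restrict (IsIrrCharacter.isCharacter hχ) C
  obtain ⟨n₀, hn₀⟩ := IsCharacter.classInner_nat hχC
    (Cfsg.Agent.Lib.Helper6.isCharacter_of_hom (1 : C →* ℂˣ))
  obtain ⟨n₂, hn₂⟩ := IsCharacter.classInner_nat hχC
    (Cfsg.Agent.Lib.Helper6.isCharacter_of_hom (θ ^ 2))
  rw [classInner_restrict_card_four h2 C hzC hcard4 χ (χ c) hx (1 : C →* ℂˣ) rfl 1 (map_one _)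
    (fun _ _ => rfl)] at hn₀
  rw [classInner_restrict_card_four h2 C hzC hcard4 χ (χ c) hx (θ ^ 2)
    (by rw [MonoidHom.pow_apply, pow_two, hθz2]) (-1) (by simp)
    (fun h hh => by rw [MonoidHom.pow_apply, pow_two, hθsq h hh, hθz])] at hn₂
  -- the value at `z`
  have hzc : ∀ h : SpecialLinearGroup (Fin 2) F, h * zSL F = zSL F * h :=
    fun h => Subgroup.mem_center_iff.mp zSL_mem_center h
  have hy := irr_central_involution (⟨χ, hχ⟩ : IrrCharacter (SpecialLinearGroup (Fin 2) F))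
    (zSL F) hzc zSL_mul_self
  change χ (zSL F) = χ 1 ∨ χ (zSL F) = -χ 1 at hy
  rw [hχ1] at hy hn₀ hn₂
  -- second orthogonality at `c`
  have hso := sum_irr_mul_conj (G := SpecialLinearGroup (Fin 2) F)
    (c : SpecialLinearGroup (Fin 2) F) (c : SpecialLinearGroup (Fin 2) F)
  have hcent : Nat.card (Subgroup.centralizer
      ({(c : SpecialLinearGroup (Fin 2) F)} : Set (SpecialLinearGroup (Fin 2) F))) = 4 := by
    rw [← (hprop c c.2 hc).2, hcard4]
  have hind : classIndicator (c : SpecialLinearGroup (Fin 2) F)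
      (c : SpecialLinearGroup (Fin 2) F) = 1 := by
    unfold classIndicator
    exact if_pos (IsConj.refl _)
  rw [hind, hcent, one_mul] at hso
  have hreal : ∑ ξ : IrrCharacter (SpecialLinearGroup (Fin 2) F),
      Complex.normSq ((ξ : SpecialLinearGroup (Fin 2) F → ℂ) c) = 4 := by
    have h3 : ∀ ξ : IrrCharacter (SpecialLinearGroup (Fin 2) F),
        (ξ : SpecialLinearGroup (Fin 2) F → ℂ) c * conj ((ξ : SpecialLinearGroup (Fin 2) F → ℂ) c) =
        ((Complex.normSq ((ξ : SpecialLinearGroup (Fin 2) F → ℂ) c) : ℝ) : ℂ) :=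
      fun ξ => Complex.mul_conj _
    rw [Finset.sum_congr rfl (fun ξ _ => h3 ξ), ← Complex.ofReal_sum] at hso
    exact_mod_cast hso
  have hne1 : (⟨χ, hχ⟩ : IrrCharacter (SpecialLinearGroup (Fin 2) F)) ≠
      ⟨1, isIrrCharacter_one⟩ := by
    intro h
    have := congrArg (fun ξ : IrrCharacter (SpecialLinearGroup (Fin 2) F) =>
      (ξ : SpecialLinearGroup (Fin 2) F → ℂ) 1) h
    simp only [Pi.one_apply] at this
    rw [hχ1] at this
    norm_num at this
  have hle := Finset.add_le_sum (s := Finset.univ)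
    (f := fun ξ : IrrCharacter (SpecialLinearGroup (Fin 2) F) =>
      Complex.normSq ((ξ : SpecialLinearGroup (Fin 2) F → ℂ) c))
    (fun ξ _ => Complex.normSq_nonneg _) (Finset.mem_univ _) (Finset.mem_univ _) hne1
  rw [hreal] at hle
  simp only [Pi.one_apply, map_one] at hle
  -- arithmetic
  have hxn : χ c = (n₀ : ℂ) - (n₂ : ℂ) := by
    rw [← hn₀, ← hn₂]; ring
  rcases hy with hy | hy
  · have hsum : ((n₀ + n₂ : ℕ) : ℂ) = ((2 : ℕ) : ℂ) := by
      push_cast
      rw [← hn₀, ← hn₂, hy]; ring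
    have hsum' : n₀ + n₂ = 2 := by exact_mod_cast hsum
    have hcases : (n₀ = 2 ∧ n₂ = 0) ∨ (n₀ = 1 ∧ n₂ = 1) ∨ (n₀ = 0 ∧ n₂ = 2) := by omega
    rcases hcases with ⟨ha, hb⟩ | ⟨ha, hb⟩ | ⟨ha, hb⟩
    · exfalso
      rw [hxn, ha, hb] at hle
      norm_num at hle
    · rw [hxn, ha, hb]; ring
    · exfalso
      rw [hxn, ha, hb] at hle
      norm_num at hle
  · have hsum : ((n₀ + n₂ : ℕ) : ℂ) = ((0 : ℕ) : ℂ) := by
      push_cast
      rw [← hn₀, ← hn₂, hy]; ring
    have hsum' : n₀ + n₂ = 0 := by exact_mod_cast hsum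
    have ha : n₀ = 0 := by omega
    have hb : n₂ = 0 := by omega
    rw [hxn, ha, hb]; ring

end Cfsg.Agent.Lib.Helper13
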