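/-
helper13: values of the irreducible characters of `SL₂(F)` of degree `(q ± 1) / 2` at the
unipotent elements, `q` odd (Gauss sum argument).
-/
import Mathlib
import Cfsg.Agent.Lib.Helper13.SL2OddCount

set_option autoImplicit false

namespace Cfsg.Agent.Lib.Helper13

open Matrix Cfsg Cfsg.Agent.CharLib Cfsg.Agent.Lib.Helper6
open scoped ComplexConjugate

variable {F : Type*} [Field F] [Fintype F] [DecidableEq F]

omit [Fintype F] [DecidableEq F] in
/-- An additive character of `F`, as a character of `Multiplicative F`. -/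
theorem isCharacter_addChar (φ : AddChar F ℂ) :
    IsCharacter (Multiplicative F) (fun t => φ (Multiplicative.toAdd t)) :=
  Cfsg.Agent.Lib.Helper6.isCharacter_of_hom (φ.toMonoidHom).toHomUnits

omit [DecidableEq F] in
/-- For a character `ρ` of the additive group of `F`, the sum `∑ ρ t φ t` against an additive
character is `q` times a natural number. -/
theorem sum_mul_addChar_nat {ρ : F → ℂ}
    (hρ : IsCharacter (Multiplicative F) (fun t => ρ (Multiplicative.toAdd t)))
    (φ : AddChar F ℂ) : ∃ m : ℕ, ∑ t : F, ρ t * φ t = (Fintype.card F : ℂ) * m := by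
  obtain ⟨m, hm⟩ := IsCharacter.classInner_nat hρ (isCharacter_addChar φ⁻¹)
  refine ⟨m, ?_⟩
  unfold classInner at hm
  have hq0 : (Fintype.card F : ℂ) ≠ 0 := by
    exact_mod_cast (Fintype.card_pos (α := F)).ne'
  have hcard : (Nat.card (Multiplicative F) : ℂ) = (Fintype.card F : ℂ) := by
    rw [Nat.card_congr Multiplicative.toAdd, Nat.card_eq_fintype_card]
  rw [hcard] at hm
  have h2 : ∑ t : Multiplicative F, ρ (Multiplicative.toAdd t) *
      conj (φ⁻¹ (Multiplicative.toAdd t)) = ∑ t : F, ρ t * φ t := by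
    apply Fintype.sum_equiv Multiplicative.toAdd
    intro t
    rw [AddChar.inv_apply, AddChar.map_neg_eq_conj, Complex.conj_conj]
  rw [h2] at hm
  rw [← hm]
  field_simp

/-- **Gauss sum argument**: a character of `(F, +)` constant on non-zero squares (value `a`) and on
non-squares (value `b`) with `2 ρ(0) - (a + b) = q` satisfies `(a - b)² = χ(-1) q`. -/
theorem sq_of_additive_character (h2 : (2 : F) ≠ 0) {ρ : F → ℂ}
    (hρ : IsCharacter (Multiplicative F) (fun t => ρ (Multiplicative.toAdd t)))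
    (a b d : ℂ) (h0 : ρ 0 = d) (hsq : ∀ t : F, t ≠ 0 → IsSquare t → ρ t = a)
    (hnsq : ∀ t : F, ¬ IsSquare t → ρ t = b) (hrel : 2 * d - (a + b) = (Fintype.card F : ℂ)) :
    (a - b) ^ 2 = quadC F (-1) * (Fintype.card F : ℂ) := by
  have hq0 : (Fintype.card F : ℂ) ≠ 0 := by
    exact_mod_cast (Fintype.card_pos (α := F)).ne'
  have hρeq : ∀ t : F, ρ t = (a + b) / 2 + (a - b) / 2 * quadC F t +
      (if t = 0 then d - (a + b) / 2 else 0) := by
    intro t
    by_cases ht : t = 0
    · rw [ht, if_pos rfl, MulChar.map_zero, h0]; ring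
    · rw [if_neg ht, add_zero]
      by_cases hs : IsSquare t
      · rw [hsq t ht hs, quadC_of_isSquare ht hs]; ring
      · rw [hnsq t hs, quadC_of_not_isSquare hs]; ring
  have hsum : ∀ φ : AddChar F ℂ, φ ≠ 1 → ∑ t : F, ρ t * φ t =
      (a - b) / 2 * gaussSum (quadC F) φ + (Fintype.card F : ℂ) / 2 := by
    intro φ hφ
    have h1 : ∀ t : F, ρ t * φ t = (a + b) / 2 * φ t + (a - b) / 2 * (quadC F t * φ t) +
        (if t = 0 then (d - (a + b) / 2) else 0) := by
      intro t
      rw [hρeq t]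
      by_cases ht : t = 0
      · rw [ht, if_pos rfl, AddChar.map_zero_eq_one]; ring
      · rw [if_neg ht]; ring
    rw [Finset.sum_congr rfl (fun t _ => h1 t), Finset.sum_add_distrib, Finset.sum_add_distrib,
      ← Finset.mul_sum, ← Finset.mul_sum, Finset.sum_ite_eq' Finset.univ (0 : F), if_pos (Finset.mem_univ _)]
    have hz : ∑ t : F, φ t = 0 := AddChar.sum_eq_zero_iff_ne_zero.mpr hφ
    rw [hz, mul_zero, zero_add]
    unfold gaussSum
    linear_combination (1 / 2 : ℂ) * hrel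
  -- a nontrivial additive character
  obtain ⟨ψ, hψ⟩ := (AddChar.exists_apply_ne_zero (α := F) (a := 1)).mpr one_ne_zero
  have hψ1 : ψ ≠ 1 := by
    intro h
    rw [h] at hψ
    exact hψ rfl
  have hprim : ψ.IsPrimitive := AddChar.IsPrimitive.of_ne_one hψ1
  have hF : ringChar F ≠ 2 := by
    intro h
    apply h2
    have := ringChar.Nat.cast_ringChar (R := F)
    rw [h] at this
    exact_mod_cast this
  obtain ⟨ε, hε⟩ := FiniteField.exists_nonsquare hF
  have hε0 : ε ≠ 0 := by
    rintro rfl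
    exact hε IsSquare.zero
  have hψε : AddChar.mulShift ψ ε ≠ 1 := hprim hε0
  obtain ⟨m₁, hm₁⟩ := sum_mul_addChar_nat hρ ψ
  obtain ⟨m₂, hm₂⟩ := sum_mul_addChar_nat hρ (AddChar.mulShift ψ ε)
  rw [hsum ψ hψ1] at hm₁
  rw [hsum _ hψε] at hm₂
  have hG2 : gaussSum (quadC F) (AddChar.mulShift ψ ε) = -gaussSum (quadC F) ψ := by
    have := gaussSum_mulShift_eq (quadC F) ψ (Units.mk0 ε hε0)
    rw [Units.val_mk0, quadC_inv, quadC_of_not_isSquare hε] at this
    rw [this]; ring
  rw [hG2] at hm₂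
  have hGsq : gaussSum (quadC F) ψ ^ 2 = quadC F (-1) * (Fintype.card F : ℂ) :=
    gaussSum_sq (quadC_ne_one h2) ((quadraticChar_isQuadratic F).comp _) hprim
  have hm12 : m₁ + m₂ = 1 := by
    have : (Fintype.card F : ℂ) * ((m₁ + m₂ : ℕ) : ℂ) = (Fintype.card F : ℂ) * ((1 : ℕ) : ℂ) := by
      push_cast
      linear_combination -hm₁ - hm₂
    have := mul_left_cancel₀ hq0 this
    exact_mod_cast this
  have hχ2 : quadC F (-1) * quadC F (-1) = 1 := by
    rw [← MulChar.mul_apply, quadC_mul_self, MulChar.one_apply (by simp : IsUnit (-1 : F))]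
  have hkey : ((a - b) * gaussSum (quadC F) ψ) ^ 2 = (Fintype.card F : ℂ) ^ 2 := by
    have hcases : m₁ = 0 ∧ m₂ = 1 ∨ m₁ = 1 ∧ m₂ = 0 := by omega
    rcases hcases with ⟨h, -⟩ | ⟨h, -⟩
    · rw [h] at hm₁
      have : (a - b) * gaussSum (quadC F) ψ = -(Fintype.card F : ℂ) := by
        push_cast at hm₁
        linear_combination 2 * hm₁
      rw [this]; ring
    · rw [h] at hm₁
      have : (a - b) * gaussSum (quadC F) ψ = (Fintype.card F : ℂ) := by
        push_cast at hm₁
        linear_combination 2 * hm₁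
      rw [this]
  rw [mul_pow, hGsq] at hkey
  have h3 : (a - b) ^ 2 * quadC F (-1) = (Fintype.card F : ℂ) := by
    have : (Fintype.card F : ℂ) * ((a - b) ^ 2 * quadC F (-1)) =
        (Fintype.card F : ℂ) * (Fintype.card F : ℂ) := by
      linear_combination hkey
    exact mul_left_cancel₀ hq0 this
  calc (a - b) ^ 2 = (a - b) ^ 2 * (quadC F (-1) * quadC F (-1)) := by rw [hχ2, mul_one]
    _ = quadC F (-1) * ((a - b) ^ 2 * quadC F (-1)) := by ring
    _ = quadC F (-1) * (Fintype.card F : ℂ) := by rw [h3]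


/-- The sum of a function constant on non-zero squares and on non-squares. -/
theorem sum_of_sq_nsq (h2 : (2 : F) ≠ 0) {ρ : F → ℂ} (a b d : ℂ) (h0 : ρ 0 = d)
    (hsq : ∀ t : F, t ≠ 0 → IsSquare t → ρ t = a) (hnsq : ∀ t : F, ¬ IsSquare t → ρ t = b) :
    ∑ t : F, ρ t = (Fintype.card F : ℂ) * ((a + b) / 2) + (d - (a + b) / 2) := by
  have hρeq : ∀ t : F, ρ t = (a + b) / 2 + (a - b) / 2 * quadC F t +
      (if t = 0 then d - (a + b) / 2 else 0) := by
    intro t
    by_cases ht : t = 0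
    · rw [ht, if_pos rfl, MulChar.map_zero, h0]; ring
    · rw [if_neg ht, add_zero]
      by_cases hs : IsSquare t
      · rw [hsq t ht hs, quadC_of_isSquare ht hs]; ring
      · rw [hnsq t hs, quadC_of_not_isSquare hs]; ring
  rw [Finset.sum_congr rfl (fun t _ => hρeq t), Finset.sum_add_distrib, Finset.sum_add_distrib,
    ← Finset.mul_sum, Finset.sum_ite_eq' Finset.univ (0 : F), if_pos (Finset.mem_univ _),
    MulChar.sum_eq_zero_of_ne_one (quadC_ne_one h2), mul_zero, add_zero, Finset.sum_const,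
    Finset.card_univ, nsmul_eq_mul]

omit [Fintype F] [DecidableEq F] in
theorem upSL_eq_tSL (t : F) : upSL t = tSL t := rfl

omit [Fintype F] [DecidableEq F] in
/-- A class function of `SL₂` takes the same value at `upSL t`, `upSL t'` when `t t'` is a
non-zero square. -/
theorem classFunction_upSL {θ : SpecialLinearGroup (Fin 2) F → ℂ}
    (hθ : IsClassFunction (SpecialLinearGroup (Fin 2) F) θ) {t t' : F} (ht : t ≠ 0) (ht' : t' ≠ 0)
    (h : IsSquare (t * t')) : θ (upSL t) = θ (upSL t') := by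
  rw [upSL_eq_tSL, upSL_eq_tSL]
  exact IsClassFunction.of_isConj hθ ((isConj_tSL_iff t t' ht ht').mpr h)

omit [DecidableEq F] in
theorem isSquare_mul_of_not_isSquare {s t : F} (hs : ¬ IsSquare s) (ht : ¬ IsSquare t) :
    IsSquare (s * t) := by
  classical
  have hs0 : s ≠ 0 := by rintro rfl; exact hs IsSquare.zero
  have ht0 : t ≠ 0 := by rintro rfl; exact ht IsSquare.zero
  rw [← quadraticChar_one_iff_isSquare (mul_ne_zero hs0 ht0), map_mul,
    quadraticChar_neg_one_iff_not_isSquare.mpr hs, quadraticChar_neg_one_iff_not_isSquare.mpr ht]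
  norm_num

/-- **Values at unipotent elements**: for an irreducible character `θ` of `SL₂(F)` whose
unipotent sum is `q k` with `2 θ 1 - q = 2 k - 1 = ±1`. -/
theorem half_values_aux (h2 : (2 : F) ≠ 0) {θ : SpecialLinearGroup (Fin 2) F → ℂ}
    (hθ : IsCharacter (SpecialLinearGroup (Fin 2) F) θ) {ε : F} (hε : ¬ IsSquare ε) (s : ℂ)
    (hsum : ∑ t : F, θ (upSL t) = (Fintype.card F : ℂ) * ((1 + s) / 2))
    (hdeg : 2 * θ 1 = (Fintype.card F : ℂ) + s) (hq1 : (Fintype.card F : ℂ) ≠ 1) :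
    θ (upSL 1) + θ (upSL ε) = s ∧
      (2 * θ (upSL 1) - s) ^ 2 = quadC F (-1) * (Fintype.card F : ℂ) := by
  have hcf := IsCharacter.isClassFunction hθ
  have hε0 : ε ≠ 0 := by rintro rfl; exact hε IsSquare.zero
  have h0 : θ (upSL (0 : F)) = θ 1 := by rw [upSL_zero]
  have hsq : ∀ t : F, t ≠ 0 → IsSquare t → θ (upSL t) = θ (upSL 1) := by
    intro t ht hs
    exact (classFunction_upSL hcf one_ne_zero ht (by rwa [one_mul])).symm
  have hnsq : ∀ t : F, ¬ IsSquare t → θ (upSL t) = θ (upSL ε) := by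
    intro t hs
    have ht0 : t ≠ 0 := by rintro rfl; exact hs IsSquare.zero
    exact (classFunction_upSL hcf hε0 ht0 (isSquare_mul_of_not_isSquare hε hs)).symm
  have hS := sum_of_sq_nsq h2 (ρ := fun t => θ (upSL t)) (θ (upSL 1)) (θ (upSL ε)) (θ 1) h0 hsq hnsq
  rw [hsum] at hS
  have hq1' : (Fintype.card F : ℂ) - 1 ≠ 0 := sub_ne_zero.mpr hq1
  have hab : θ (upSL 1) + θ (upSL ε) = s := by
    have : ((Fintype.card F : ℂ) - 1) * (θ (upSL 1) + θ (upSL ε) - s) = 0 := by
      linear_combination -2 * hS - hdeg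
    rcases mul_eq_zero.mp this with h | h
    · exact absurd h hq1'
    · linear_combination h
  refine ⟨hab, ?_⟩
  have hρ : IsCharacter (Multiplicative F) (fun t => θ (upSL (Multiplicative.toAdd t))) :=
    IsCharacter.comp_hom hθ upSLHom
  have := sq_of_additive_character h2 (ρ := fun t => θ (upSL t)) hρ (θ (upSL 1)) (θ (upSL ε)) (θ 1)
    h0 hsq hnsq (by rw [hab]; linear_combination hdeg)
  rw [← this]
  have : 2 * θ (upSL 1) - s = θ (upSL 1) - θ (upSL ε) := by linear_combination hab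
  rw [this]


/-- Characters of degree `(q + 1) / 2` at the unipotent elements. -/
theorem half_values_plus (hodd : Odd (Fintype.card F)) (hq : 5 ≤ Fintype.card F)
    {θ : SpecialLinearGroup (Fin 2) F → ℂ}
    (hθ : IsIrrCharacter (SpecialLinearGroup (Fin 2) F) θ)
    (h1 : 2 * θ 1 = (Fintype.card F : ℂ) + 1) {ε : F} (hε : ¬ IsSquare ε) :
    θ (upSL 1) + θ (upSL ε) = 1 ∧
      (2 * θ (upSL 1) - 1) ^ 2 = quadC F (-1) * (Fintype.card F : ℂ) := by
  have h2 : (2 : F) ≠ 0 := two_ne_zero_of_odd_card' hodd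
  have hq0 : (Fintype.card F : ℂ) ≠ 0 := by
    exact_mod_cast (Fintype.card_pos (α := F)).ne'
  have hq1 : (Fintype.card F : ℂ) ≠ 1 := by
    intro h
    have : Fintype.card F = 1 := by exact_mod_cast h
    omega
  obtain ⟨X, d, hX, hc, hd, htype⟩ := under_types hodd hθ
  have hd1 : 2 * d = Fintype.card F + 1 := by
    rw [hd] at h1
    have : ((2 * d : ℕ) : ℂ) = ((Fintype.card F + 1 : ℕ) : ℂ) := by push_cast; exact h1
    exact_mod_cast this
  have hθ1 : θ 1 ≠ 0 := by
    rw [hd]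
    have : d ≠ 0 := by omega
    exact_mod_cast this
  rcases htype with ⟨-, h⟩ | ⟨-, h⟩ | ⟨⟨α, β, hαβ, rfl⟩, -⟩ | ⟨-, h⟩
  · exfalso; omega
  · exfalso; omega
  · obtain ⟨m, k, hm0, hm, hk, hσ⟩ := unip_sum_prop hX hθ hc
    rw [indFun_psChar_one] at hm hσ
    rw [indFun_psChar_unip α β (tGL 1) 1 one_ne_zero (tGL_coe 1)] at hσ
    have hm2 : (m : ℂ) = 2 := by
      have : ((m : ℂ) - 2) * θ 1 = 0 := by linear_combination -hm - h1
      rcases mul_eq_zero.mp this with h | h
      · linear_combination h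
      · exact absurd h hθ1
    have hk1 : (k : ℂ) = 1 := by
      rw [hm2] at hσ
      have : (Fintype.card F : ℂ) * ((k : ℂ) - 1) = 0 := by linear_combination -(1 / 2 : ℂ) * hσ
      rcases mul_eq_zero.mp this with h | h
      · exact absurd h hq0
      · linear_combination h
    have hsum : ∑ t : F, θ (upSL t) = (Fintype.card F : ℂ) * ((1 + 1) / 2) := by
      rw [hk, hk1]; ring
    exact half_values_aux h2 (IsIrrCharacter.isCharacter hθ) hε 1 hsum h1 hq1
  · exfalso; omega

/-- Characters of degree `(q - 1) / 2` at the unipotent elements. -/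
theorem half_values_minus (hodd : Odd (Fintype.card F)) (hq : 5 ≤ Fintype.card F)
    {θ : SpecialLinearGroup (Fin 2) F → ℂ}
    (hθ : IsIrrCharacter (SpecialLinearGroup (Fin 2) F) θ)
    (h1 : 2 * θ 1 + 1 = (Fintype.card F : ℂ)) {ε : F} (hε : ¬ IsSquare ε) :
    θ (upSL 1) + θ (upSL ε) = -1 ∧
      (2 * θ (upSL 1) + 1) ^ 2 = quadC F (-1) * (Fintype.card F : ℂ) := by
  have h2 : (2 : F) ≠ 0 := two_ne_zero_of_odd_card' hodd
  have hq0 : (Fintype.card F : ℂ) ≠ 0 := by
    exact_mod_cast (Fintype.card_pos (α := F)).ne'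
  have hq1 : (Fintype.card F : ℂ) ≠ 1 := by
    intro h
    have : Fintype.card F = 1 := by exact_mod_cast h
    omega
  obtain ⟨X, d, hX, hc, hd, htype⟩ := under_types hodd hθ
  have hd1 : 2 * d + 1 = Fintype.card F := by
    rw [hd] at h1
    have : ((2 * d + 1 : ℕ) : ℂ) = ((Fintype.card F : ℕ) : ℂ) := by push_cast; exact h1
    exact_mod_cast this
  rcases htype with ⟨-, h⟩ | ⟨-, h⟩ | ⟨-, h⟩ | ⟨⟨hX1, hXu⟩, -⟩
  · exfalso; omega
  · exfalso; omega
  · exfalso; omega
  · obtain ⟨m, k, hm0, hm, hk, hσ⟩ := unip_sum_prop hX hθ hc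
    rw [hX1, hXu] at hσ
    have hk0 : (k : ℂ) = 0 := by
      have : (m : ℂ) * ((Fintype.card F : ℂ) * k) = 0 := by linear_combination -hσ
      rcases mul_eq_zero.mp this with h | h
      · exact absurd (by exact_mod_cast h) hm0
      · rcases mul_eq_zero.mp h with h | h
        · exact absurd h hq0
        · exact h
    have hsum : ∑ t : F, θ (upSL t) = (Fintype.card F : ℂ) * ((1 + (-1)) / 2) := by
      rw [hk, hk0]; ring
    have := half_values_aux h2 (IsIrrCharacter.isCharacter hθ) hε (-1) hsum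
      (by linear_combination h1) hq1
    refine ⟨this.1, ?_⟩
    rw [← this.2]
    ring

/-- The value of the principal series `Ind γ` of `SL₂` at `upSL 1`. -/
theorem indFun_psCharSL_upSL_one (γ : MulChar F ℂ) :
    indFun (borelSL F) (psCharSL γ) (upSL 1) = 1 := by
  rw [← resSL_indFun_psChar γ, resSL_apply, toGL_upSL,
    indFun_psChar_unip γ 1 (tGL 1) 1 one_ne_zero (tGL_coe 1)]

/-- Two distinct characters of degree `(q + 1) / 2` have values at `upSL 1` adding up to `1`. -/
theorem half_plus_sum (hodd : Odd (Fintype.card F)) (hq : 5 ≤ Fintype.card F)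
    {χ₁ χ₂ : SpecialLinearGroup (Fin 2) F → ℂ}
    (h₁ : IsIrrCharacter (SpecialLinearGroup (Fin 2) F) χ₁)
    (h₂ : IsIrrCharacter (SpecialLinearGroup (Fin 2) F) χ₂) (hne : χ₁ ≠ χ₂)
    (hd₁ : 2 * χ₁ 1 = (Fintype.card F : ℂ) + 1) (hd₂ : 2 * χ₂ 1 = (Fintype.card F : ℂ) + 1) :
    χ₁ (upSL 1) + χ₂ (upSL 1) = 1 := by
  obtain ⟨ξ₁, ξ₂, -, -, -, hsum, -, -, hall⟩ := exists_half_ps hodd hq
  have hval : ξ₁ (upSL 1) + ξ₂ (upSL 1) = 1 := by
    have := indFun_psCharSL_upSL_one (quadC F)
    rw [hsum] at this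
    exact this
  rcases hall χ₁ h₁ hd₁ with rfl | rfl <;> rcases hall χ₂ h₂ hd₂ with rfl | rfl
  · exact absurd rfl hne
  · exact hval
  · rw [add_comm]; exact hval
  · exact absurd rfl hne

/-- The norm of the restriction to `SL₂` of an irreducible character of `GL₂` is at most two. -/
theorem classInner_resSL_self_le {X : GL (Fin 2) F → ℂ} (hX : IsIrrCharacter (GL (Fin 2) F) X)
    (n : ℕ) (hn : classInner (resSL X) (resSL X) = n) : n ≤ 2 := by
  have hb := norm_resSL_le_two hX
  have hGpos : (0 : ℝ) < (Nat.card (SpecialLinearGroup (Fin 2) F) : ℝ) := by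
    exact_mod_cast Nat.card_pos
  have hsum : ∑ s : SpecialLinearGroup (Fin 2) F,
      X (SpecialLinearGroup.toGL s) * conj (X (SpecialLinearGroup.toGL s)) =
      ((∑ s : SpecialLinearGroup (Fin 2) F, ‖X (SpecialLinearGroup.toGL s)‖ ^ 2 : ℝ) : ℂ) := by
    rw [Complex.ofReal_sum]
    apply Finset.sum_congr rfl
    intro s _
    rw [Complex.mul_conj, Complex.normSq_eq_norm_sq]
  unfold classInner at hn
  change (Nat.card (SpecialLinearGroup (Fin 2) F) : ℂ)⁻¹ * ∑ s : SpecialLinearGroup (Fin 2) F,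
      X (SpecialLinearGroup.toGL s) * conj (X (SpecialLinearGroup.toGL s)) = n at hn
  rw [hsum] at hn
  have hreal : (∑ s : SpecialLinearGroup (Fin 2) F, ‖X (SpecialLinearGroup.toGL s)‖ ^ 2 : ℝ) =
      (n : ℝ) * (Nat.card (SpecialLinearGroup (Fin 2) F) : ℝ) := by
    have hGc : (Nat.card (SpecialLinearGroup (Fin 2) F) : ℂ) ≠ 0 := by
      exact_mod_cast Nat.card_pos.ne'
    have : ((∑ s : SpecialLinearGroup (Fin 2) F, ‖X (SpecialLinearGroup.toGL s)‖ ^ 2 : ℝ) : ℂ) =
        (((n : ℝ) * (Nat.card (SpecialLinearGroup (Fin 2) F) : ℝ) : ℝ) : ℂ) := by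
      rw [Complex.ofReal_mul, Complex.ofReal_natCast, Complex.ofReal_natCast, ← hn]
      field_simp
    exact_mod_cast this
  rw [hreal] at hb
  have hle : (n : ℝ) ≤ 2 := by
    by_contra hlt
    push Not at hlt
    have := mul_lt_mul_of_pos_right hlt hGpos
    linarith
  exact_mod_cast hle

/-- Two distinct characters of degree `(q - 1) / 2` have values at `upSL 1` adding up to `-1`. -/
theorem half_minus_sum (hodd : Odd (Fintype.card F)) (hq : 5 ≤ Fintype.card F)
    {χ₁ χ₂ : SpecialLinearGroup (Fin 2) F → ℂ}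
    (h₁ : IsIrrCharacter (SpecialLinearGroup (Fin 2) F) χ₁)
    (h₂ : IsIrrCharacter (SpecialLinearGroup (Fin 2) F) χ₂) (hne : χ₁ ≠ χ₂)
    (hd₁ : 2 * χ₁ 1 + 1 = (Fintype.card F : ℂ)) (hd₂ : 2 * χ₂ 1 + 1 = (Fintype.card F : ℂ)) :
    χ₁ (upSL 1) + χ₂ (upSL 1) = -1 := by
  obtain ⟨r, hr⟩ := hodd
  have hodd : Odd (Fintype.card F) := ⟨r, hr⟩
  have hr2 : 2 ≤ r := by omega
  obtain ⟨X, d, hX, hc, hd, htype⟩ := under_types hodd h₁
  have hd1 : 2 * d + 1 = Fintype.card F := by
    rw [hd] at hd₁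
    have : ((2 * d + 1 : ℕ) : ℂ) = ((Fintype.card F : ℕ) : ℂ) := by push_cast; exact hd₁
    exact_mod_cast this
  rcases htype with ⟨-, h⟩ | ⟨-, h⟩ | ⟨-, h⟩ | ⟨⟨hX1, hXu⟩, -⟩
  · exfalso; omega
  · exfalso; omega
  · exfalso; omega
  · -- `resSL X - χ₁` is an irreducible character `φ ≠ χ₁` of the same degree
    have hres := isCharacter_resSL (IsIrrCharacter.isCharacter hX)
    obtain ⟨hsub, n, hn, -⟩ := constituent_degree hres h₁ hc
    have hΨ : resSL X - χ₁ ≠ 0 := by
      intro h0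
      have h3 := congrFun h0 1
      rw [Pi.sub_apply, resSL_one, hX1, Pi.zero_apply] at h3
      have : (Fintype.card F : ℂ) = 1 := by linear_combination 2 * h3 + hd₁
      have : Fintype.card F = 1 := by exact_mod_cast this
      omega
    obtain ⟨φ, hφ, hφ1⟩ := IsCharacter.exists_constituent hsub hΨ
    obtain ⟨a, ha⟩ := IsCharacter.classInner_nat hsub (IsIrrCharacter.isCharacter hφ)
    have ha0 : a ≠ 0 := by
      intro h0
      apply hφ1
      rw [ha, h0, Nat.cast_zero]
    have hcφ : classInner (resSL X) φ ≠ 0 := by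
      have e1 : resSL X = (resSL X - χ₁) + χ₁ := by ring
      rw [e1, Cfsg.Agent.Lib.Helper10.classInner_add_left, ha, classInner_irr h₁ hφ]
      split_ifs
      · have : ((a + 1 : ℕ) : ℂ) ≠ 0 := Nat.cast_ne_zero.mpr (by omega)
        simpa using this
      · simpa using ha0
    have hdegφ := degree_eq_of_constituents_SL hX h₁ hφ hc hcφ
    obtain ⟨hsub2, n2, hn2, hn20⟩ := constituent_degree hsub hφ hφ1
    have hn2' : n2 = 0 := by
      rw [Pi.sub_apply, resSL_one, hX1] at hn2
      have : (n2 : ℂ) = 0 := by linear_combination -hn2 + hdegφ - hd₁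
      exact_mod_cast this
    have hΨφ : resSL X - χ₁ = φ := hn20 hn2'
    have hXsum : resSL X = χ₁ + φ := by rw [← hΨφ]; ring
    have hφne : φ ≠ χ₁ := by
      intro h
      have hnorm : classInner (resSL X) (resSL X) = ((4 : ℕ) : ℂ) := by
        rw [hXsum, h, Cfsg.Agent.Lib.Helper10.classInner_add_left,
          Cfsg.Agent.Lib.Helper10.classInner_add_right, classInner_irr h₁ h₁, if_pos rfl]
        norm_num
      have := classInner_resSL_self_le hX 4 hnorm
      omega
    -- `φ = χ₂` since there are only two characters of that degree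
    have hcount := (card_by_degree_SL2_odd (F := F) r hr hr2).2.2.2.2.2
    have hdeg : ∀ χ : IrrCharacter (SpecialLinearGroup (Fin 2) F),
        (χ : SpecialLinearGroup (Fin 2) F → ℂ) 1 =
          (charDegree (χ : SpecialLinearGroup (Fin 2) F → ℂ) : ℂ) :=
      fun χ => Cfsg.Agent.Lib.Helper24.irr_apply_one χ
    have hconv : ∀ ψ : SpecialLinearGroup (Fin 2) F → ℂ,
        ∀ hψ : IsIrrCharacter (SpecialLinearGroup (Fin 2) F) ψ,
        2 * ψ 1 + 1 = (Fintype.card F : ℂ) →
        charDegree ((⟨ψ, hψ⟩ : IrrCharacter (SpecialLinearGroup (Fin 2) F)) :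
          SpecialLinearGroup (Fin 2) F → ℂ) = r := by
      intro ψ hψ h
      have h3 := hdeg ⟨ψ, hψ⟩
      change ψ 1 = _ at h3
      rw [h3, hr] at h
      have : ((2 * charDegree ψ + 1 : ℕ) : ℂ) = ((2 * r + 1 : ℕ) : ℂ) := by
        push_cast at h ⊢; exact h
      have : 2 * charDegree ψ + 1 = 2 * r + 1 := by exact_mod_cast this
      change charDegree ψ = r
      omega
    have hφd : 2 * φ 1 + 1 = (Fintype.card F : ℂ) := by rw [← hdegφ]; exact hd₁
    obtain ⟨x, y, hxy, huniv⟩ := Nat.card_eq_two_iff.mp hcount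
    let e₁ : {χ : IrrCharacter (SpecialLinearGroup (Fin 2) F) //
        charDegree (χ : SpecialLinearGroup (Fin 2) F → ℂ) = r} := ⟨⟨χ₁, h₁⟩, hconv χ₁ h₁ hd₁⟩
    let e₂ : {χ : IrrCharacter (SpecialLinearGroup (Fin 2) F) //
        charDegree (χ : SpecialLinearGroup (Fin 2) F → ℂ) = r} := ⟨⟨χ₂, h₂⟩, hconv χ₂ h₂ hd₂⟩
    let e₃ : {χ : IrrCharacter (SpecialLinearGroup (Fin 2) F) //
        charDegree (χ : SpecialLinearGroup (Fin 2) F → ℂ) = r} := ⟨⟨φ, hφ⟩, hconv φ hφ hφd⟩
    have hmem : ∀ e : {χ : IrrCharacter (SpecialLinearGroup (Fin 2) F) //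
        charDegree (χ : SpecialLinearGroup (Fin 2) F → ℂ) = r}, e = x ∨ e = y := by
      intro e
      have : e ∈ ({x, y} : Set _) := by rw [huniv]; exact Set.mem_univ _
      simpa using this
    have h12 : e₁ ≠ e₂ := fun h => hne (congrArg (fun e => e.1.1) h)
    have h31 : e₃ ≠ e₁ := fun h => hφne (congrArg (fun e => e.1.1) h)
    have h32 : e₃ = e₂ := by
      rcases hmem e₁ with a1 | a1 <;> rcases hmem e₂ with a2 | a2 <;> rcases hmem e₃ with a3 | a3
      · exact absurd (a1.trans a2.symm) h12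
      · exact absurd (a1.trans a2.symm) h12
      · exact absurd (a3.trans a1.symm) h31
      · exact a3.trans a2.symm
      · exact a3.trans a2.symm
      · exact absurd (a3.trans a1.symm) h31
      · exact absurd (a1.trans a2.symm) h12
      · exact absurd (a1.trans a2.symm) h12
    have hφ2 : φ = χ₂ := congrArg (fun e => e.1.1) h32
    have hval := congrFun hXsum (upSL 1)
    rw [resSL_apply, toGL_upSL, hXu, Pi.add_apply, hφ2] at hval
    exact hval.symm

/-- The sign `χ(-1)` of the quadratic character. -/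
theorem quadC_neg_one (hodd : Odd (Fintype.card F)) :
    quadC F (-1) = (-1 : ℂ) ^ ((Fintype.card F - 1) / 2) := by
  have h2 : (2 : F) ≠ 0 := two_ne_zero_of_odd_card' hodd
  have hF : ringChar F ≠ 2 := by
    intro h
    apply h2
    have := ringChar.Nat.cast_ringChar (R := F)
    rw [h] at this
    exact_mod_cast this
  rw [quadC_apply, quadraticChar_neg_one hF, ZMod.χ₄_eq_neg_one_pow (Nat.odd_iff.mp hodd)]
  have : (Fintype.card F - 1) / 2 = Fintype.card F / 2 := by
    obtain ⟨r, hr⟩ := hodd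
    omega
  rw [this]
  push_cast
  rfl

end Cfsg.Agent.Lib.Helper13
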