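/-
helper13: values of the characters of degree `(q ± 1)/2` of `SL₂(F)` at semisimple elements.
-/
import Mathlib
import Cfsg.Agent.Lib.Helper13.SL2CuspD
import Cfsg.Agent.Lib.Helper13.SL2HalfValues
import Cfsg.Agent.Lib.Helper13.McKaySL2
import Cfsg.Agent.Lib.Lead.CharMore
import Cfsg.Agent.S2433

set_option autoImplicit false

namespace Cfsg.Agent.Lib.Helper13

open Matrix Cfsg Cfsg.Agent.CharLib
open scoped ComplexConjugate

variable {F : Type*} [Field F]

theorem conjSL_mul_right (x : GL (Fin 2) F) (s s' : SpecialLinearGroup (Fin 2) F) :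
    conjSL x (s * s') = conjSL x s * conjSL x s' := by
  apply SpecialLinearGroup.toGL_injective
  rw [map_mul, toGL_conjSL, toGL_conjSL, toGL_conjSL, map_mul]
  group

/-- Conjugation by an element of `GL₂`, as an automorphism of `SL₂`. -/
def conjSLMulEquiv (x : GL (Fin 2) F) :
    SpecialLinearGroup (Fin 2) F ≃* SpecialLinearGroup (Fin 2) F :=
  { conjSLEquiv x with map_mul' := conjSL_mul_right x }

theorem conjSLMulEquiv_apply (x : GL (Fin 2) F) (s : SpecialLinearGroup (Fin 2) F) :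
    conjSLMulEquiv x s = conjSL x s := rfl

variable [Fintype F] [DecidableEq F]

/-- If `ξ₁, ξ₂` are the only irreducible characters of their degree and `ξ₁` separates the two
classes of transvections, then conjugation by `diag(ν, 1)`, `ν` a non-square, swaps them. -/
theorem half_swap (hodd : Odd (Fintype.card F))
    {ξ₁ ξ₂ : SpecialLinearGroup (Fin 2) F → ℂ}
    (h₁ : IsIrrCharacter (SpecialLinearGroup (Fin 2) F) ξ₁)
    (hall : ∀ θ : SpecialLinearGroup (Fin 2) F → ℂ,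
      IsIrrCharacter (SpecialLinearGroup (Fin 2) F) θ → θ 1 = ξ₁ 1 → θ = ξ₁ ∨ θ = ξ₂)
    (hval : ∀ ν : F, ¬ IsSquare ν → ξ₁ (upSL 1) ≠ ξ₁ (upSL ν)) :
    ∃ t : Fˣ, ∀ s : SpecialLinearGroup (Fin 2) F, ξ₂ s = ξ₁ (conjSL (dGL t) s) := by
  have h2 : (2 : F) ≠ 0 := two_ne_zero_of_odd_card hodd
  obtain ⟨ν, hν⟩ := FiniteField.exists_nonsquare (ringChar_ne_two_of_two_ne_zero h2)
  have hν0 : ν ≠ 0 := by rintro rfl; exact hν IsSquare.zero
  refine ⟨Units.mk0 ν hν0, ?_⟩
  have hirr := IsIrrCharacter.comp_mulEquiv h₁ (conjSLMulEquiv (dGL (Units.mk0 ν hν0)))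
  have h1 : (ξ₁ ∘ (conjSLMulEquiv (dGL (Units.mk0 ν hν0)))) 1 = ξ₁ 1 := by
    rw [Function.comp_apply, map_one]
  rcases hall _ hirr h1 with h | h
  · exfalso
    apply hval ν hν
    have := congrFun h (upSL 1)
    rw [Function.comp_apply, conjSLMulEquiv_apply, conjSL_dGL_upSL, Units.val_mk0, mul_one] at this
    exact this.symm
  · intro s
    have := congrFun h s
    rw [Function.comp_apply, conjSLMulEquiv_apply] at this
    exact this.symm

theorem quadC_neg_one_ne_zero (hodd : Odd (Fintype.card F)) : quadC F (-1) ≠ 0 := by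
  rw [quadC_neg_one hodd]
  exact pow_ne_zero _ (by norm_num)

/-- Characters of degree `(q + 1)/2` at split semisimple elements. -/
theorem half_plus_split (hodd : Odd (Fintype.card F)) (hq : 5 ≤ Fintype.card F)
    {χ : SpecialLinearGroup (Fin 2) F → ℂ}
    (hχ : IsIrrCharacter (SpecialLinearGroup (Fin 2) F) χ)
    (h1 : 2 * χ 1 = (Fintype.card F : ℂ) + 1) (g : SpecialLinearGroup (Fin 2) F)
    (h01 : (g : Matrix (Fin 2) (Fin 2) F) 0 1 = 0) (h10 : (g : Matrix (Fin 2) (Fin 2) F) 1 0 = 0)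
    (ha : (g : Matrix (Fin 2) (Fin 2) F) 0 0 ^ 2 ≠ 1) :
    χ g = quadC F ((g : Matrix (Fin 2) (Fin 2) F) 0 0) := by
  have hq0 : (Fintype.card F : ℂ) ≠ 0 := by
    exact_mod_cast (Fintype.card_pos (α := F)).ne'
  obtain ⟨ξ₁, ξ₂, hi₁, hi₂, hne, hsum, hd₁, hd₂, hall⟩ := exists_half_ps hodd hq
  have hall' : ∀ θ : SpecialLinearGroup (Fin 2) F → ℂ,
      IsIrrCharacter (SpecialLinearGroup (Fin 2) F) θ → θ 1 = ξ₁ 1 → θ = ξ₁ ∨ θ = ξ₂ := by
    intro θ hθ h
    exact hall θ hθ (by rw [h, hd₁])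
  have hval : ∀ ν : F, ¬ IsSquare ν → ξ₁ (upSL 1) ≠ ξ₁ (upSL ν) := by
    intro ν hν heq
    obtain ⟨e1, e2⟩ := half_values_plus hodd hq hi₁ hd₁ hν
    rw [← heq] at e1
    have h3 : 2 * ξ₁ (upSL 1) - 1 = 0 := by linear_combination e1
    rw [h3] at e2
    have h4 : quadC F (-1) * (Fintype.card F : ℂ) ≠ 0 :=
      mul_ne_zero (quadC_neg_one_ne_zero hodd) hq0
    apply h4
    rw [← e2]; ring
  obtain ⟨t, ht⟩ := half_swap hodd hi₁ hall' hval
  have hd := g.2
  rw [Matrix.det_fin_two, h01, zero_mul, sub_zero] at hd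
  have hfix : conjSL (dGL t) g = g := by
    apply Subtype.ext
    rw [conjSL_dGL_coe, h01, h10, mul_zero, mul_zero]
    ext i j
    fin_cases i <;> fin_cases j
    · rfl
    · exact h01.symm
    · exact h10.symm
    · rfl
  have heq : ξ₂ g = ξ₁ g := by rw [ht g, hfix]
  have hval2 : ξ₁ g + ξ₂ g = quadC F ((g : Matrix (Fin 2) (Fin 2) F) 0 0) +
      quadC F ((g : Matrix (Fin 2) (Fin 2) F) 1 1) := by
    have := (Cfsg.Agent.S2433.result hodd (quadC F) g).1 h01 h10 ha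
    have h5 : indFun (borelSL F) (psCharSL (quadC F)) g = ξ₁ g + ξ₂ g := by rw [hsum]; rfl
    rw [← h5]
    exact this
  have h00 : (g : Matrix (Fin 2) (Fin 2) F) 0 0 ≠ 0 := left_ne_zero_of_mul_eq_one hd
  have h11 : (g : Matrix (Fin 2) (Fin 2) F) 1 1 = ((g : Matrix (Fin 2) (Fin 2) F) 0 0)⁻¹ :=
    eq_inv_of_mul_eq_one_right hd
  have hq11 : quadC F ((g : Matrix (Fin 2) (Fin 2) F) 1 1) =
      quadC F ((g : Matrix (Fin 2) (Fin 2) F) 0 0) := by
    by_cases hs : IsSquare ((g : Matrix (Fin 2) (Fin 2) F) 0 0)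
    · rw [quadC_of_isSquare h00 hs, h11, quadC_of_isSquare (inv_ne_zero h00) (isSquare_inv.mpr hs)]
    · rw [quadC_of_not_isSquare hs, h11, quadC_of_not_isSquare (fun h => hs (isSquare_inv.mp h))]
  rw [hq11, heq] at hval2
  have hξ₁ : ξ₁ g = quadC F ((g : Matrix (Fin 2) (Fin 2) F) 0 0) := by linear_combination hval2 / 2
  rcases hall χ hχ h1 with rfl | rfl
  · exact hξ₁
  · rw [heq]; exact hξ₁

/-- The character of order two of a cyclic subgroup of order `q + 1`. -/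
theorem exists_hom_order_two (hodd : Odd (Fintype.card F))
    (C : Subgroup (SpecialLinearGroup (Fin 2) F)) (hC : IsCyclic C)
    (hcard : Nat.card C = Fintype.card F + 1) :
    ∃ θ₀ : C →* ℂˣ,
      (∀ c : C, (c : SpecialLinearGroup (Fin 2) F) ^ ((Fintype.card F + 1) / 2) = 1 → θ₀ c = 1) ∧
      (∀ c : C, (c : SpecialLinearGroup (Fin 2) F) ^ ((Fintype.card F + 1) / 2) ≠ 1 → θ₀ c = -1) ∧
      θ₀ ≠ 1 := by
  classical
  have h2 : (2 : F) ≠ 0 := two_ne_zero_of_odd_card hodd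
  obtain ⟨m, hm⟩ : ∃ m, m = (Fintype.card F + 1) / 2 := ⟨_, rfl⟩
  have hm2 : m * 2 = Fintype.card F + 1 := by
    obtain ⟨r, hr⟩ := hodd
    omega
  rw [← hm]
  have hpowC : ∀ c : C, (c : SpecialLinearGroup (Fin 2) F) ^ (Fintype.card F + 1) = 1 := by
    intro c
    have e : c ^ Nat.card C = 1 := pow_card_eq_one'
    rw [hcard] at e
    have := congrArg Subtype.val e
    simpa using this
  have hpow : ∀ c : C, (c : SpecialLinearGroup (Fin 2) F) ^ m = 1 ∨
      (c : SpecialLinearGroup (Fin 2) F) ^ m = zSL F := by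
    intro c
    apply sq_eq_one_cases h2
    rw [← pow_two, ← pow_mul, hm2, hpowC]
  have hcomm : ∀ a b : C, Commute (a : SpecialLinearGroup (Fin 2) F)
      (b : SpecialLinearGroup (Fin 2) F) := by
    intro a b
    have := (IsCyclic.commGroup (α := ↥C)).mul_comm a b
    exact congrArg Subtype.val this
  have hmul : ∀ a b : C,
      (if ((a * b : C) : SpecialLinearGroup (Fin 2) F) ^ m = 1 then (1 : ℂˣ) else -1) =
      (if (a : SpecialLinearGroup (Fin 2) F) ^ m = 1 then (1 : ℂˣ) else -1) *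
      (if (b : SpecialLinearGroup (Fin 2) F) ^ m = 1 then (1 : ℂˣ) else -1) := by
    intro a b
    rw [Subgroup.coe_mul, (hcomm a b).mul_pow]
    rcases hpow a with ha | ha <;> rcases hpow b with hb | hb <;> rw [ha, hb] <;>
      simp [zSL_ne_one h2, zSL_mul_self]
  refine ⟨MonoidHom.mk' (fun c : C =>
    if (c : SpecialLinearGroup (Fin 2) F) ^ m = 1 then (1 : ℂˣ) else -1) hmul, ?_, ?_, ?_⟩
  · intro c hc
    rw [MonoidHom.mk'_apply, if_pos hc]
  · intro c hc
    rw [MonoidHom.mk'_apply, if_neg hc]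
  · obtain ⟨b₀, hb₀⟩ := hC.exists_generator
    intro h1
    have h3 := DFunLike.congr_fun h1 b₀
    rw [MonoidHom.mk'_apply, MonoidHom.one_apply] at h3
    have hb : (b₀ : SpecialLinearGroup (Fin 2) F) ^ m = 1 := by
      by_contra hne
      rw [if_neg hne] at h3
      have := congrArg Units.val h3
      norm_num at this
    have hb' : b₀ ^ m = 1 := Subtype.ext (by rw [Subgroup.coe_pow, hb, Subgroup.coe_one])
    have hord : orderOf b₀ = Nat.card C := orderOf_eq_card_of_forall_mem_zpowers hb₀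
    have hdvd := orderOf_dvd_of_pow_eq_one hb'
    rw [hord, hcard] at hdvd
    have hmpos : 0 < m := by omega
    have := Nat.le_of_dvd hmpos hdvd
    omega

/-- Characters of degree `(q - 1)/2` at elliptic elements. -/
theorem half_minus_elliptic (hodd : Odd (Fintype.card F)) (hq : 5 ≤ Fintype.card F)
    {χ : SpecialLinearGroup (Fin 2) F → ℂ}
    (hχ : IsIrrCharacter (SpecialLinearGroup (Fin 2) F) χ)
    (h1 : 2 * χ 1 + 1 = (Fintype.card F : ℂ)) (g : SpecialLinearGroup (Fin 2) F)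
    (hg : ∀ (c : F) (v : Fin 2 → F), v ≠ 0 → (g : Matrix (Fin 2) (Fin 2) F).mulVec v ≠ c • v) :
    (g ^ ((Fintype.card F + 1) / 2) = 1 → χ g = -1) ∧
    (g ^ ((Fintype.card F + 1) / 2) ≠ 1 → χ g = 1) := by
  classical
  let _ := fintypeIrr (SpecialLinearGroup (Fin 2) F)
  obtain ⟨r, hr⟩ := hodd
  have hodd : Odd (Fintype.card F) := ⟨r, hr⟩
  have hr2 : 2 ≤ r := by omega
  have h2 : (2 : F) ≠ 0 := two_ne_zero_of_odd_card hodd
  have hqC : (Fintype.card F : ℂ) = 2 * (r : ℂ) + 1 := by rw [hr]; push_cast; ring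
  have hq0 : (Fintype.card F : ℂ) ≠ 0 := by
    exact_mod_cast (Fintype.card_pos (α := F)).ne'
  -- the torus
  have h4 := trace_sq_ne_four_of_elliptic g hg
  have hns := nonsplit_of_no_eigenvector g hg
  obtain ⟨C, hCdef⟩ : ∃ C : Subgroup (SpecialLinearGroup (Fin 2) F),
      C = Subgroup.centralizer ({g} : Set (SpecialLinearGroup (Fin 2) F)) := ⟨_, rfl⟩
  have hC : IsCyclic C := by rw [hCdef]; exact isCyclic_centralizer g h4
  have hcard : Nat.card C = Fintype.card F + 1 := by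
    rw [hCdef]; exact card_centralizer_nonsplit g h4 hns
  have hgC : g ∈ C := by rw [hCdef]; exact self_mem_centralizer g
  have hgz : g ∉ Subgroup.center (SpecialLinearGroup (Fin 2) F) := by
    intro hc
    apply h4
    rcases center_cases _ hc with h | h
    · rw [h]; simp; norm_num
    · rw [h, zSL_coe]; simp [Matrix.trace_fin_two]; norm_num
  obtain ⟨θ₀, hθ1, hθ2, hθne⟩ := exists_hom_order_two hodd C hC hcard
  have hθsq : ¬ ∃ c : C, θ₀ c ^ 2 ≠ 1 := by
    push Not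
    intro c
    by_cases h : (c : SpecialLinearGroup (Fin 2) F) ^ ((Fintype.card F + 1) / 2) = 1
    · rw [hθ1 c h]; simp
    · rw [hθ2 c h]; simp
  obtain ⟨R, hgen, hR1, hRc, -, -, hRu, hnorm, hR1inner⟩ := exists_cuspR hodd C hC hcard θ₀
  rw [if_neg hθsq] at hnorm
  have hnorm2 : classInner R R = 2 := by rw [hnorm]; norm_num
  have hRone := hR1inner hθne
  obtain ⟨ξ₁, ξ₂, hi₁, hi₂, hne, ε₁, ε₂, hε₁, hε₂, hReq⟩ :=
    Cfsg.Agent.Lib.Helper10.genChar_norm_two hgen hnorm2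
  have hRapp : ∀ s, R s = ε₁ * ξ₁ s + ε₂ * ξ₂ s := by
    intro s
    rw [hReq]
    simp only [Pi.add_apply, Pi.smul_apply, smul_eq_mul]
  -- degrees
  have hd₁ := Cfsg.Agent.Lib.Helper24.irr_apply_one ⟨ξ₁, hi₁⟩
  have hd₂ := Cfsg.Agent.Lib.Helper24.irr_apply_one ⟨ξ₂, hi₂⟩
  change ξ₁ 1 = _ at hd₁
  change ξ₂ 1 = _ at hd₂
  have hm₁ := charDegree_mem_six r hr ⟨ξ₁, hi₁⟩
  have hm₂ := charDegree_mem_six r hr ⟨ξ₂, hi₂⟩
  change charDegree ξ₁ ∈ _ at hm₁
  change charDegree ξ₂ ∈ _ at hm₂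
  simp only [Finset.mem_insert, Finset.mem_singleton] at hm₁ hm₂
  obtain ⟨d₁, hdd₁⟩ : ∃ d₁, d₁ = charDegree ξ₁ := ⟨_, rfl⟩
  obtain ⟨d₂, hdd₂⟩ : ∃ d₂, d₂ = charDegree ξ₂ := ⟨_, rfl⟩
  rw [← hdd₁] at hd₁ hm₁
  rw [← hdd₂] at hd₂ hm₂
  have hdeg : ε₁ * (d₁ : ℂ) + ε₂ * (d₂ : ℂ) = 2 * (r : ℂ) := by
    rw [← hd₁, ← hd₂, ← hRapp, hR1, hqC]; ring
  -- inner products with the trivial character
  have hin : ε₁ * classInner ξ₁ 1 + ε₂ * classInner ξ₂ 1 = 0 := by
    rw [← hRone, hReq, classInner_add_left, classInner_smul_left, classInner_smul_left]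
  rw [classInner_irr hi₁ isIrrCharacter_one, classInner_irr hi₂ isIrrCharacter_one] at hin
  have hone₁ : d₁ = 1 → ξ₁ = 1 := fun h =>
    eq_one_of_degree_one hodd hq hi₁ (by rw [hd₁, h, Nat.cast_one])
  have hone₂ : d₂ = 1 → ξ₂ = 1 := fun h =>
    eq_one_of_degree_one hodd hq hi₂ (by rw [hd₂, h, Nat.cast_one])
  -- the exceptional configuration for `q = 5`
  have hexc : ∀ η₁ η₂ : SpecialLinearGroup (Fin 2) F → ℂ,
      IsIrrCharacter (SpecialLinearGroup (Fin 2) F) η₁ →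
      IsIrrCharacter (SpecialLinearGroup (Fin 2) F) η₂ → r = 2 →
      η₁ 1 = (Fintype.card F : ℂ) + 1 → η₂ 1 = 2 → η₁ (tSL 1) - η₂ (tSL 1) = -1 → False := by
    intro η₁ η₂ hη₁ hη₂ hr2' he₁ he₂ hu
    obtain ⟨γ, -, rfl⟩ := exists_ps_of_degree_q_add_one hodd hq hη₁ he₁
    have h5 := indFun_psCharSL_upSL_one γ
    rw [upSL_eq_tSL] at h5
    rw [h5] at hu
    have h6 : η₂ (tSL 1) = 2 := by linear_combination -hu
    obtain ⟨ν, hν⟩ := FiniteField.exists_nonsquare (ringChar_ne_two_of_two_ne_zero h2)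
    obtain ⟨-, e2⟩ := half_values_minus hodd hq hη₂ (by rw [he₂, hqC, hr2']; norm_num) hν
    rw [upSL_eq_tSL, h6, quadC_neg_one hodd, hqC, hr2'] at e2
    have h7 : (Fintype.card F - 1) / 2 = 2 := by omega
    rw [h7] at e2
    norm_num at e2
  -- signs and degrees
  have hmain : ε₁ = 1 ∧ ε₂ = 1 ∧ d₁ = r ∧ d₂ = r := by
    rcases hε₁ with rfl | rfl <;> rcases hε₂ with rfl | rfl
    · -- (+, +)
      have hsum : d₁ + d₂ = 2 * r := by
        have : ((d₁ + d₂ : ℕ) : ℂ) = ((2 * r : ℕ) : ℂ) := by push_cast; linear_combination hdeg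
        exact_mod_cast this
      have hn1 : d₁ ≠ 1 := by
        intro h
        have e := hone₁ h
        rw [if_pos e, if_neg (fun h' => hne (e.trans h'.symm))] at hin
        norm_num at hin
      have hn2 : d₂ ≠ 1 := by
        intro h
        have e := hone₂ h
        rw [if_pos e, if_neg (fun h' => hne (h'.trans e.symm))] at hin
        norm_num at hin
      refine ⟨rfl, rfl, ?_, ?_⟩ <;> omega
    · -- (+, -)
      exfalso
      have hsum : d₁ = d₂ + 2 * r := by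
        have : ((d₁ : ℕ) : ℂ) = ((d₂ + 2 * r : ℕ) : ℂ) := by push_cast; linear_combination hdeg
        exact_mod_cast this
      have hn2 : d₂ ≠ 1 := by
        intro h
        have e := hone₂ h
        rw [if_pos e, if_neg (fun h' => hne (h'.trans e.symm))] at hin
        norm_num at hin
      have hr' : r = 2 := by omega
      have hd1' : d₁ = 2 * r + 2 := by omega
      have hd2' : d₂ = 2 := by omega
      apply hexc ξ₁ ξ₂ hi₁ hi₂ hr' (by rw [hd₁, hd1', hqC]; push_cast; ring)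
        (by rw [hd₂, hd2']; norm_num)
      have := hRapp (tSL 1)
      rw [hRu 1 one_ne_zero] at this
      linear_combination -this
    · -- (-, +)
      exfalso
      have hsum : d₂ = d₁ + 2 * r := by
        have : ((d₂ : ℕ) : ℂ) = ((d₁ + 2 * r : ℕ) : ℂ) := by push_cast; linear_combination hdeg
        exact_mod_cast this
      have hn1 : d₁ ≠ 1 := by
        intro h
        have e := hone₁ h
        rw [if_pos e, if_neg (fun h' => hne (e.trans h'.symm))] at hin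
        norm_num at hin
      have hr' : r = 2 := by omega
      have hd2' : d₂ = 2 * r + 2 := by omega
      have hd1' : d₁ = 2 := by omega
      apply hexc ξ₂ ξ₁ hi₂ hi₁ hr' (by rw [hd₂, hd2', hqC]; push_cast; ring)
        (by rw [hd₁, hd1']; norm_num)
      have := hRapp (tSL 1)
      rw [hRu 1 one_ne_zero] at this
      linear_combination -this
    · -- (-, -)
      exfalso
      have : ((d₁ + d₂ + 2 * r : ℕ) : ℂ) = ((0 : ℕ) : ℂ) := by push_cast; linear_combination -hdeg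
      have : d₁ + d₂ + 2 * r = 0 := by exact_mod_cast this
      omega
  obtain ⟨rfl, rfl, hdr₁, hdr₂⟩ := hmain
  rw [hdr₁] at hd₁
  rw [hdr₂] at hd₂
  -- the census
  obtain ⟨-, -, -, -, -, hN⟩ := card_by_degree_SL2_odd r hr hr2
  have hall : ∀ θ : SpecialLinearGroup (Fin 2) F → ℂ,
      IsIrrCharacter (SpecialLinearGroup (Fin 2) F) θ → θ 1 = ξ₁ 1 → θ = ξ₁ ∨ θ = ξ₂ := by
    intro θ hθ hθ1
    by_contra hcon
    push Not at hcon
    have hdegθ : ∀ η : SpecialLinearGroup (Fin 2) F → ℂ,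
        ∀ hη : IsIrrCharacter (SpecialLinearGroup (Fin 2) F) η, η 1 = (r : ℂ) →
        charDegree ((⟨η, hη⟩ : IrrCharacter (SpecialLinearGroup (Fin 2) F)) :
          SpecialLinearGroup (Fin 2) F → ℂ) = r := by
      intro η hη h
      have h3 := Cfsg.Agent.Lib.Helper24.irr_apply_one ⟨η, hη⟩
      change η 1 = _ at h3
      rw [h] at h3
      exact_mod_cast h3.symm
    have hcardT : Fintype.card {ξ : IrrCharacter (SpecialLinearGroup (Fin 2) F) //
        charDegree (ξ : SpecialLinearGroup (Fin 2) F → ℂ) = r} = 2 := by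
      rw [← Nat.card_eq_fintype_card]; exact hN
    have h3 : ({⟨⟨θ, hθ⟩, hdegθ θ hθ (by rw [hθ1, hd₁])⟩, ⟨⟨ξ₁, hi₁⟩, hdegθ ξ₁ hi₁ hd₁⟩,
        ⟨⟨ξ₂, hi₂⟩, hdegθ ξ₂ hi₂ hd₂⟩} :
        Finset {ξ : IrrCharacter (SpecialLinearGroup (Fin 2) F) //
          charDegree (ξ : SpecialLinearGroup (Fin 2) F → ℂ) = r}).card = 3 := by
      rw [Finset.card_eq_three]
      refine ⟨_, _, _, ?_, ?_, ?_, rfl⟩
      · intro h; exact hcon.1 (congrArg (fun t : {ξ : IrrCharacter (SpecialLinearGroup (Fin 2) F) //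
          charDegree (ξ : SpecialLinearGroup (Fin 2) F → ℂ) = r} =>
          ((t : IrrCharacter (SpecialLinearGroup (Fin 2) F)) : SpecialLinearGroup (Fin 2) F → ℂ)) h)
      · intro h; exact hcon.2 (congrArg (fun t : {ξ : IrrCharacter (SpecialLinearGroup (Fin 2) F) //
          charDegree (ξ : SpecialLinearGroup (Fin 2) F → ℂ) = r} =>
          ((t : IrrCharacter (SpecialLinearGroup (Fin 2) F)) : SpecialLinearGroup (Fin 2) F → ℂ)) h)
      · intro h; exact hne (congrArg (fun t : {ξ : IrrCharacter (SpecialLinearGroup (Fin 2) F) //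
          charDegree (ξ : SpecialLinearGroup (Fin 2) F → ℂ) = r} =>
          ((t : IrrCharacter (SpecialLinearGroup (Fin 2) F)) : SpecialLinearGroup (Fin 2) F → ℂ)) h)
    have h5 := Finset.card_le_univ ({⟨⟨θ, hθ⟩, hdegθ θ hθ (by rw [hθ1, hd₁])⟩,
        ⟨⟨ξ₁, hi₁⟩, hdegθ ξ₁ hi₁ hd₁⟩, ⟨⟨ξ₂, hi₂⟩, hdegθ ξ₂ hi₂ hd₂⟩} :
        Finset {ξ : IrrCharacter (SpecialLinearGroup (Fin 2) F) //
          charDegree (ξ : SpecialLinearGroup (Fin 2) F → ℂ) = r})
    rw [h3, hcardT] at h5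
    omega
  have hval : ∀ ν : F, ¬ IsSquare ν → ξ₁ (upSL 1) ≠ ξ₁ (upSL ν) := by
    intro ν hν heq
    obtain ⟨e1, e2⟩ := half_values_minus hodd hq hi₁ (by rw [hd₁, hqC]) hν
    rw [← heq] at e1
    have h3 : 2 * ξ₁ (upSL 1) + 1 = 0 := by linear_combination e1
    rw [h3] at e2
    have h5 : quadC F (-1) * (Fintype.card F : ℂ) ≠ 0 :=
      mul_ne_zero (quadC_neg_one_ne_zero hodd) hq0
    apply h5
    rw [← e2]; ring
  obtain ⟨t, ht⟩ := half_swap hodd hi₁ hall hval
  have heq : ξ₂ g = ξ₁ g := by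
    rw [ht g]
    exact elliptic_stable hodd (IsCharacter.isClassFunction (IsIrrCharacter.isCharacter hi₁)) g hg _
  have hRg := hRc ⟨g, hgC⟩ hgz
  change R g = _ at hRg
  rw [hRapp, one_mul, one_mul, heq] at hRg
  have hχ1 : χ 1 = ξ₁ 1 := by
    rw [hd₁]
    linear_combination (h1 + hqC) / 2
  have hχeq : χ g = ξ₁ g := by
    rcases hall χ hχ hχ1 with rfl | rfl
    · rfl
    · exact heq
  constructor
  · intro hgm
    have := hθ1 ⟨g, hgC⟩ hgm
    rw [this] at hRg
    rw [hχeq]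
    simp only [inv_one, Units.val_one] at hRg
    linear_combination hRg / 2
  · intro hgm
    have := hθ2 ⟨g, hgC⟩ hgm
    rw [this] at hRg
    rw [hχeq]
    simp only [inv_neg, inv_one, Units.val_neg, Units.val_one] at hRg
    linear_combination hRg / 2

end Cfsg.Agent.Lib.Helper13
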