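import Mathlib
import Cfsg.Agent.S0494
import Cfsg.Agent.Lib.Lead.CharBurnside
import Cfsg.Agent.Lib.Helper13.SL2FiveCover

/-!
Helper lemmas (helper13): recognition of `SL₂(5)` among the nonsolvable groups of order `120`
by its quaternion Sylow `2`-subgroups.
-/

set_option autoImplicit false

namespace Cfsg.Agent.Lib.Helper13

universe u

section solvable

theorem squarefree_thirty : Squarefree 30 := by
  have : (30 : ℕ) = 2 * (3 * 5) := by norm_num
  rw [this, Nat.squarefree_mul_iff, Nat.squarefree_mul_iff]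
  exact ⟨by norm_num, Nat.prime_two.prime.squarefree, by norm_num,
    Nat.prime_three.prime.squarefree, Nat.prime_five.prime.squarefree⟩

/-- Groups whose order divides `120` but is not `60` or `120` are solvable. -/
theorem isSolvable_of_card_dvd_one_twenty {H : Type u} [Group H] [Finite H]
    (hd : Nat.card H ∣ 120) (h60 : Nat.card H ≠ 60) (h120 : Nat.card H ≠ 120) :
    Group.IsSolvable H := by
  have hmem : Nat.card H ∈ Nat.divisors 120 := Nat.mem_divisors.mpr ⟨hd, by norm_num⟩
  have hdiv : Nat.divisors 120 = {1, 2, 3, 4, 5, 6, 8, 10, 12, 15, 20, 24, 30, 40, 60, 120} := by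
    decide
  rw [hdiv] at hmem
  simp only [Finset.mem_insert, Finset.mem_singleton] at hmem
  have h2 := Nat.prime_two
  have h3 := Nat.prime_three
  have h5 := Nat.prime_five
  rcases hmem with h | h | h | h | h | h | h | h | h | h | h | h | h | h | h | h
  · exact Cfsg.Agent.CharLib.isSolvable_of_card_pq 2 3 0 0 h2 h3 (by rw [h]; norm_num)
  · exact Cfsg.Agent.CharLib.isSolvable_of_card_pq 2 3 1 0 h2 h3 (by rw [h]; norm_num)
  · exact Cfsg.Agent.CharLib.isSolvable_of_card_pq 2 3 0 1 h2 h3 (by rw [h]; norm_num)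
  · exact Cfsg.Agent.CharLib.isSolvable_of_card_pq 2 3 2 0 h2 h3 (by rw [h]; norm_num)
  · exact Cfsg.Agent.CharLib.isSolvable_of_card_pq 2 5 0 1 h2 h5 (by rw [h]; norm_num)
  · exact Cfsg.Agent.CharLib.isSolvable_of_card_pq 2 3 1 1 h2 h3 (by rw [h]; norm_num)
  · exact Cfsg.Agent.CharLib.isSolvable_of_card_pq 2 3 3 0 h2 h3 (by rw [h]; norm_num)
  · exact Cfsg.Agent.CharLib.isSolvable_of_card_pq 2 5 1 1 h2 h5 (by rw [h]; norm_num)
  · exact Cfsg.Agent.CharLib.isSolvable_of_card_pq 2 3 2 1 h2 h3 (by rw [h]; norm_num)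
  · exact Cfsg.Agent.CharLib.isSolvable_of_card_pq 3 5 1 1 h3 h5 (by rw [h]; norm_num)
  · exact Cfsg.Agent.CharLib.isSolvable_of_card_pq 2 5 2 1 h2 h5 (by rw [h]; norm_num)
  · exact Cfsg.Agent.CharLib.isSolvable_of_card_pq 2 3 3 1 h2 h3 (by rw [h]; norm_num)
  · have hz : IsZGroup H := IsZGroup.of_squarefree (by rw [h]; exact squarefree_thirty)
    infer_instance
  · exact Cfsg.Agent.CharLib.isSolvable_of_card_pq 2 5 3 1 h2 h5 (by rw [h]; norm_num)
  · exact absurd h h60
  · exact absurd h h120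

/-- A nonsolvable group of order `60` is simple. -/
theorem isSimpleGroup_of_card_sixty {H : Type u} [Group H] [Finite H] (hc : Nat.card H = 60)
    (hns : ¬ Group.IsSolvable H) : IsSimpleGroup H := by
  have : Nontrivial H := by
    rw [← Finite.one_lt_card_iff_nontrivial, hc]; norm_num
  refine ⟨fun N hN => ?_⟩
  by_contra hcon
  push Not at hcon
  apply hns
  have hNd : Nat.card N ∣ 60 := hc ▸ Subgroup.card_subgroup_dvd_card N
  have hN1 : Nat.card N ≠ 1 := fun h => hcon.1 (Subgroup.card_eq_one.mp h)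
  have hN60 : Nat.card N ≠ 60 :=
    fun h => hcon.2 (Subgroup.eq_top_of_card_eq N (by rw [h, hc]))
  have hmul := Subgroup.card_eq_card_quotient_mul_card_subgroup N
  rw [hc] at hmul
  have hNpos : 0 < Nat.card N := Nat.card_pos
  have s1 : Group.IsSolvable N :=
    isSolvable_of_card_dvd_one_twenty (dvd_trans hNd (by norm_num)) hN60
      (by intro h; rw [h] at hNd; norm_num at hNd)
  have hQd : Nat.card (H ⧸ N) ∣ 60 := ⟨Nat.card N, hmul⟩
  have s2 : Group.IsSolvable (H ⧸ N) :=
    isSolvable_of_card_dvd_one_twenty (dvd_trans hQd (by norm_num))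
      (by intro h; rw [h] at hmul; apply hN1; omega)
      (by intro h; rw [h] at hQd; norm_num at hQd)
  exact (Group.isSolvable_iff_subgroup_quotient N).mpr ⟨s1, s2⟩

end solvable

section quaternion

theorem quat_cases (g : QuaternionGroup 2) (hg : g ≠ 1) :
    g = QuaternionGroup.a 2 ∨ g ^ 2 = QuaternionGroup.a 2 := by
  revert g
  decide

theorem quat_a_one_sq : (QuaternionGroup.a 1 : QuaternionGroup 2) ^ 2 = QuaternionGroup.a 2 := by
  decide

theorem quat_a_two_ne : (QuaternionGroup.a 2 : QuaternionGroup 2) ≠ 1 := by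
  decide

theorem quat_a_two_sq : (QuaternionGroup.a 2 : QuaternionGroup 2) ^ 2 = 1 := by
  decide

/-- The involution of a quaternion subgroup. -/
theorem exists_quat_involution {G : Type*} [Group G] (Q : Subgroup G)
    (e : Q ≃* QuaternionGroup 2) :
    ∃ z g : G, z ∈ Q ∧ g ∈ Q ∧ g ^ 2 = z ∧ z ≠ 1 ∧ z ^ 2 = 1 ∧
      ∀ h ∈ Q, h ≠ 1 → h = z ∨ h ^ 2 = z := by
  refine ⟨(e.symm (QuaternionGroup.a 2) : G), (e.symm (QuaternionGroup.a 1) : G),
    (e.symm (QuaternionGroup.a 2)).2, (e.symm (QuaternionGroup.a 1)).2, ?_, ?_, ?_, ?_⟩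
  · rw [← Subgroup.coe_pow, ← map_pow, quat_a_one_sq]
  · intro h
    have h1 : e.symm (QuaternionGroup.a 2) = 1 := Subtype.ext h
    rw [MulEquiv.map_eq_one_iff] at h1
    exact quat_a_two_ne h1
  · rw [← Subgroup.coe_pow, ← map_pow, quat_a_two_sq, map_one]; rfl
  · intro h hh hne
    have hne' : e ⟨h, hh⟩ ≠ 1 := by
      intro h1
      rw [MulEquiv.map_eq_one_iff] at h1
      exact hne (congrArg Subtype.val h1)
    rcases quat_cases _ hne' with h1 | h1
    · left
      rw [← h1, MulEquiv.symm_apply_apply]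
    · right
      rw [← h1, ← map_pow, MulEquiv.symm_apply_apply]
      rfl

end quaternion

section sylow

variable {G : Type u} [Group G] [Finite G]

/-- A nonsolvable group of order `120` has six Sylow `5`-subgroups. -/
theorem card_sylow_five (hG : Nat.card G = 120) (hns : ¬ Group.IsSolvable G) :
    Nat.card (Sylow 5 G) = 6 := by
  have : Fact (Nat.Prime 5) := ⟨Nat.prime_five⟩
  obtain ⟨P⟩ : Nonempty (Sylow 5 G) := inferInstance
  have hPc : Nat.card (P : Subgroup G) = 5 := by
    obtain ⟨n, hn⟩ := IsPGroup.iff_card.mp P.isPGroup'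
    have h5 : 5 ∣ Nat.card (P : Subgroup G) :=
      P.dvd_card_of_dvd_card (by rw [hG]; norm_num)
    have hd : Nat.card (P : Subgroup G) ∣ 120 := hG ▸ Subgroup.card_subgroup_dvd_card _
    rw [hn] at hd h5 ⊢
    have hn1 : n ≠ 0 := by
      rintro rfl
      norm_num at h5
    have hn2 : n < 2 := by
      by_contra hcon
      push Not at hcon
      have : 5 ^ 2 ∣ 120 := dvd_trans (pow_dvd_pow 5 hcon) hd
      norm_num at this
    have : n = 1 := by omega
    rw [this]; norm_num
  have hmod : Nat.card (Sylow 5 G) ≡ 1 [MOD 5] := card_sylow_modEq_one 5 G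
  have hdvd : Nat.card (Sylow 5 G) ∣ (P : Subgroup G).index := Sylow.card_dvd_index P
  have hidx : (P : Subgroup G).index = 24 := by
    have := Subgroup.card_mul_index (P : Subgroup G)
    rw [hPc, hG] at this; omega
  rw [hidx] at hdvd
  have hle : Nat.card (Sylow 5 G) ≤ 24 := Nat.le_of_dvd (by norm_num) hdvd
  have h16 : Nat.card (Sylow 5 G) = 1 ∨ Nat.card (Sylow 5 G) = 6 := by
    generalize Nat.card (Sylow 5 G) = n at *
    unfold Nat.ModEq at hmod
    interval_cases n <;> simp_all
  rcases h16 with h1 | h6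
  · exfalso
    apply hns
    have : Subsingleton (Sylow 5 G) := (Nat.card_eq_one_iff_unique.mp h1).1
    have hn : (P : Subgroup G).Normal := Sylow.normal_of_subsingleton P
    have hmul := Subgroup.card_eq_card_quotient_mul_card_subgroup (P : Subgroup G)
    rw [hPc, hG] at hmul
    have s1 : Group.IsSolvable (P : Subgroup G) :=
      isSolvable_of_card_dvd_one_twenty (by rw [hPc]; norm_num) (by rw [hPc]; norm_num)
        (by rw [hPc]; norm_num)
    have hq : Nat.card (G ⧸ (P : Subgroup G)) = 24 := by omega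
    have s2 : Group.IsSolvable (G ⧸ (P : Subgroup G)) :=
      isSolvable_of_card_dvd_one_twenty (by rw [hq]; norm_num) (by rw [hq]; norm_num)
        (by rw [hq]; norm_num)
    exact (Group.isSolvable_iff_subgroup_quotient (P : Subgroup G)).mpr ⟨s1, s2⟩
  · exact h6

omit [Finite G] in
/-- The involution of a quaternion Sylow `2`-subgroup fixes every Sylow `5`-subgroup. -/
theorem smul_sylow_five_eq (h6 : Nat.card (Sylow 5 G) = 6) (Q : Subgroup G)
    (hQ : Nat.card Q = 8) (z : G) (hz : ∀ h ∈ Q, h ≠ 1 → h = z ∨ h ^ 2 = z)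
    (P : Sylow 5 G) : z • P = P := by
  have : Finite (Sylow 5 G) := Nat.finite_of_card_ne_zero (by rw [h6]; norm_num)
  set S := MulAction.stabilizer Q P with hS
  have hidx : S.index = (MulAction.orbit Q P).ncard := MulAction.index_stabilizer Q P
  have hle : (MulAction.orbit Q P).ncard ≤ 6 := by
    rw [← h6]
    exact Set.ncard_le_card _
  have hmul := Subgroup.card_mul_index S
  rw [hQ] at hmul
  have hne : S ≠ ⊥ := by
    intro hbot
    rw [hidx, hbot, Subgroup.card_bot, one_mul] at hmul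
    omega
  obtain ⟨⟨h, hhS⟩, hh1⟩ := (Subgroup.ne_bot_iff_exists_ne_one).mp hne
  have hh1' : h ≠ 1 := fun h1 => hh1 (Subtype.ext h1)
  have hfix : (h : G) • P = P := MulAction.mem_stabilizer_iff.mp hhS
  have hne1 : (h : G) ≠ 1 := fun h1 => hh1' (Subtype.ext h1)
  rcases hz (h : G) h.2 hne1 with h1 | h1
  · rw [← h1]; exact hfix
  · rw [← h1, pow_two, mul_smul, hfix, hfix]

/-- The kernel of the action on the Sylow `5`-subgroups is generated by the involution of a
quaternion Sylow `2`-subgroup, and the quotient is nonsolvable of order `60`. -/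
theorem exists_kernel (hG : Nat.card G = 120) (hns : ¬ Group.IsSolvable G)
    (Q : Subgroup G) (hQ : Nat.card Q = 8) (z : G) (hz1 : z ≠ 1)
    (hz : ∀ h ∈ Q, h ≠ 1 → h = z ∨ h ^ 2 = z) :
    ∃ (K : Subgroup G) (_ : K.Normal), (∀ k, k ∈ K ↔ k = 1 ∨ k = z) ∧ Nat.card (G ⧸ K) = 60 ∧
      ¬ Group.IsSolvable (G ⧸ K) := by
  have h6 := card_sylow_five hG hns
  have : Fact (Nat.Prime 5) := ⟨Nat.prime_five⟩
  have : Finite (Sylow 5 G) := Nat.finite_of_card_ne_zero (by rw [h6]; norm_num)
  set φ := MulAction.toPermHom G (Sylow 5 G) with hφ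
  set K := φ.ker with hK
  have hKn : K.Normal := φ.normal_ker
  have hzK : z ∈ K := by
    rw [hK, MonoidHom.mem_ker]
    ext P
    rw [hφ, MulAction.toPermHom_apply, MulAction.toPerm_apply,
      smul_sylow_five_eq h6 Q hQ z hz P]
    rfl
  obtain ⟨P⟩ : Nonempty (Sylow 5 G) := inferInstance
  have hKN : K ≤ Subgroup.normalizer (P : Set G) := by
    intro k hk
    rw [← Sylow.smul_eq_iff_mem_normalizer]
    have := congrArg (fun σ => σ P) (MonoidHom.mem_ker.mp hk)
    simpa [hφ] using this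
  have hN20 : Nat.card (Subgroup.normalizer (P : Set G)) = 20 := by
    have h1 := Sylow.card_eq_index_normalizer P
    have h2 := Subgroup.card_mul_index (Subgroup.normalizer (P : Set G))
    rw [← h1, h6, hG] at h2
    omega
  have hKd : Nat.card K ∣ 20 := hN20 ▸ Subgroup.card_dvd_of_le hKN
  have sK : Group.IsSolvable K :=
    isSolvable_of_card_dvd_one_twenty (dvd_trans hKd (by norm_num))
      (fun h => by rw [h] at hKd; norm_num at hKd) (fun h => by rw [h] at hKd; norm_num at hKd)
  have nsQ : ¬ Group.IsSolvable (G ⧸ K) :=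
    fun s => hns ((Group.isSolvable_iff_subgroup_quotient K).mpr ⟨sK, s⟩)
  have hmul := Subgroup.card_eq_card_quotient_mul_card_subgroup K
  rw [hG] at hmul
  have hQd : Nat.card (G ⧸ K) ∣ 120 := ⟨_, hmul⟩
  have hQ' : Nat.card (G ⧸ K) = 60 ∨ Nat.card (G ⧸ K) = 120 := by
    by_contra hcon
    push Not at hcon
    exact nsQ (isSolvable_of_card_dvd_one_twenty hQd hcon.1 hcon.2)
  have hK1 : Nat.card K ≠ 1 := by
    intro h
    have := Subgroup.card_eq_one.mp h
    rw [this, Subgroup.mem_bot] at hzK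
    exact hz1 hzK
  have hK2 : Nat.card K = 2 := by
    rcases hQ' with h | h <;> rw [h] at hmul <;> omega
  have hQ60 : Nat.card (G ⧸ K) = 60 := by
    rw [hK2] at hmul; omega
  refine ⟨K, hKn, ?_, hQ60, nsQ⟩
  intro k
  constructor
  · intro hk
    by_contra hcon
    push Not at hcon
    obtain ⟨y, hy, huniq⟩ := (Nat.card_eq_two_iff' (1 : K)).mp hK2
    have e1 : (⟨z, hzK⟩ : K) = y := huniq _ (fun h => hz1 (congrArg Subtype.val h))
    have e2 : (⟨k, hk⟩ : K) = y := huniq _ (fun h => hcon.1 (congrArg Subtype.val h))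
    exact hcon.2 (congrArg Subtype.val (e2.trans e1.symm))
  · rintro (rfl | rfl)
    · exact K.one_mem
    · exact hzK

end sylow

section lift

/-- Generators of a group isomorphic to `Alt(5)`. -/
theorem exists_gens_of_equiv_alt_five {H : Type*} [Group H]
    (e : H ≃* alternatingGroup (Fin 5)) :
    ∃ a b : H, a ^ 3 = 1 ∧ b ^ 5 = 1 ∧ (a * b) ^ 2 = 1 ∧
      Subgroup.closure ({a, b} : Set H) = ⊤ := by
  obtain ⟨e₂⟩ := Cfsg.Agent.S3377.result
  have r1 : (PresentedGroup.of 0 : PresentedGroup rels235) ^ 3 = 1 := by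
    have := PresentedGroup.one_of_mem (rels := rels235) (x := FreeGroup.of (0 : Fin 2) ^ 3)
      (by simp)
    simp only [map_pow] at this
    exact this
  have r2 : (PresentedGroup.of 1 : PresentedGroup rels235) ^ 5 = 1 := by
    have := PresentedGroup.one_of_mem (rels := rels235) (x := FreeGroup.of (1 : Fin 2) ^ 5)
      (by simp)
    simp only [map_pow] at this
    exact this
  have r3 : ((PresentedGroup.of 0 : PresentedGroup rels235) * PresentedGroup.of 1) ^ 2 = 1 := by
    have := PresentedGroup.one_of_mem (rels := rels235)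
      (x := (FreeGroup.of (0 : Fin 2) * FreeGroup.of 1) ^ 2) (by simp)
    simp only [map_pow, map_mul] at this
    exact this
  set f : PresentedGroup rels235 ≃* H := e₂.trans e.symm with hf
  refine ⟨f (PresentedGroup.of 0), f (PresentedGroup.of 1), ?_, ?_, ?_, ?_⟩
  · rw [← map_pow, r1, map_one]
  · rw [← map_pow, r2, map_one]
  · rw [← map_mul, ← map_pow, r3, map_one]
  · have h1 := PresentedGroup.closure_range_of rels235
    have h2 : Subgroup.map f.toMonoidHom
        (Subgroup.closure (Set.range (PresentedGroup.of (rels := rels235)))) = ⊤ := by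
      rw [h1, ← MonoidHom.range_eq_map]
      exact MonoidHom.range_eq_top.mpr f.surjective
    rw [MonoidHom.map_closure] at h2
    rw [← h2]
    congr 1
    ext g
    simp only [Set.mem_image, Set.mem_range, Set.mem_insert_iff, Set.mem_singleton_iff]
    constructor
    · rintro (h | h)
      · exact ⟨_, ⟨0, rfl⟩, h.symm⟩
      · exact ⟨_, ⟨1, rfl⟩, h.symm⟩
    · rintro ⟨_, ⟨i, rfl⟩, h⟩
      fin_cases i
      · exact Or.inl h.symm
      · exact Or.inr h.symm

variable {G : Type*} [Group G]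

/-- Lifting generators of orders `3` and `5` through a central extension by an involution. -/
theorem exists_lift_gens (K : Subgroup G) [K.Normal] (z : G) (hz2 : z ^ 2 = 1)
    (hzc : ∀ g, z * g = g * z) (hK : ∀ k, k ∈ K ↔ k = 1 ∨ k = z)
    (a b : G ⧸ K) (ha : a ^ 3 = 1) (hb : b ^ 5 = 1) (hab : (a * b) ^ 2 = 1) :
    ∃ x y : G, x ^ 3 = 1 ∧ y ^ 5 = 1 ∧ ((x * y) ^ 2 = 1 ∨ (x * y) ^ 2 = z) ∧
      (QuotientGroup.mk x : G ⧸ K) = a ∧ (QuotientGroup.mk y : G ⧸ K) = b := by
  have hzK : z ∈ K := (hK z).mpr (Or.inr rfl)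
  have hmkz : (QuotientGroup.mk z : G ⧸ K) = 1 := (QuotientGroup.eq_one_iff _).mpr hzK
  have key : ∀ (n : ℕ) (c : G ⧸ K), Odd n → c ^ n = 1 →
      ∃ x : G, x ^ n = 1 ∧ (QuotientGroup.mk x : G ⧸ K) = c := by
    intro n c hn hc
    obtain ⟨x₀, rfl⟩ := QuotientGroup.mk_surjective c
    have h1 : x₀ ^ n ∈ K := by
      rw [← QuotientGroup.eq_one_iff, QuotientGroup.mk_pow]; exact hc
    rcases (hK _).mp h1 with h | h
    · exact ⟨x₀, h, rfl⟩
    · refine ⟨x₀ * z, ?_, ?_⟩
      · have hcomm : Commute x₀ z := (hzc x₀).symm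
        rw [hcomm.mul_pow, h]
        obtain ⟨m, rfl⟩ := hn
        rw [← pow_succ', show 2 * m + 1 + 1 = 2 * (m + 1) by ring, pow_mul, hz2, one_pow]
      · rw [QuotientGroup.mk_mul, hmkz, mul_one]
  obtain ⟨x, hx, rfl⟩ := key 3 a (by decide) ha
  obtain ⟨y, hy, rfl⟩ := key 5 b (by decide) hb
  refine ⟨x, y, hx, hy, ?_, rfl, rfl⟩
  have h1 : (x * y) ^ 2 ∈ K := by
    rw [← QuotientGroup.eq_one_iff, QuotientGroup.mk_pow, QuotientGroup.mk_mul]; exact hab
  exact (hK _).mp h1

/-- A group of order `120` which is a central extension of `Alt(5)` by an involution having a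
square root is presented by the relations of `SL₂(5)`. -/
theorem nonempty_presented_equiv_of_cover [Finite G] (hG : Nat.card G = 120) (K : Subgroup G)
    [hKn : K.Normal] (z : G) (hz1 : z ≠ 1) (hz2 : z ^ 2 = 1)
    (hK : ∀ k, k ∈ K ↔ k = 1 ∨ k = z) (g₀ : G) (hg₀ : g₀ ^ 2 = z)
    (e : G ⧸ K ≃* alternatingGroup (Fin 5)) : Nonempty (PresentedGroup rels5 ≃* G) := by
  have hzK : z ∈ K := (hK z).mpr (Or.inr rfl)
  have hzc : ∀ g, z * g = g * z := by
    intro g
    have h1 : g * z * g⁻¹ ∈ K := hKn.conj_mem z hzK g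
    rcases (hK _).mp h1 with h | h
    · exfalso
      apply hz1
      have : z = g⁻¹ * (g * z * g⁻¹) * g := by group
      rw [this, h]; group
    · calc z * g = (g * z * g⁻¹) * g := by rw [h]
        _ = g * z := by group
  obtain ⟨a, b, ha, hb, hab, hgen⟩ := exists_gens_of_equiv_alt_five e
  obtain ⟨x, y, hx, hy, hxy, rfl, rfl⟩ := exists_lift_gens K z hz2 hzc hK a b ha hb hab
  have hcover : ∀ g : G, ∃ h ∈ Subgroup.closure ({x, y} : Set G), g = h ∨ g = h * z := by
    intro g
    have hmap : (Subgroup.closure ({x, y} : Set G)).map (QuotientGroup.mk' K) = ⊤ := by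
      rw [MonoidHom.map_closure, Set.image_pair]; exact hgen
    have hg : QuotientGroup.mk' K g ∈
        (Subgroup.closure ({x, y} : Set G)).map (QuotientGroup.mk' K) := by
      rw [hmap]; trivial
    obtain ⟨h, hh, hhg⟩ := hg
    refine ⟨h, hh, ?_⟩
    have hc : h⁻¹ * g ∈ K := by
      rw [← QuotientGroup.eq_one_iff]
      change QuotientGroup.mk' K (h⁻¹ * g) = 1
      rw [map_mul, map_inv, hhg, inv_mul_cancel]
    rcases (hK _).mp hc with h1 | h1
    · left
      have := congrArg (fun t => h * t) h1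
      simpa using this
    · right
      have := congrArg (fun t => h * t) h1
      simpa using this
  rcases hxy with hxy | hxy
  · exfalso
    obtain ⟨θ, hθ⟩ := exists_hom_alt_five x y hx hy hxy
    have hzH : z ∈ Subgroup.closure ({x, y} : Set G) := by
      obtain ⟨h, hh, h1 | h1⟩ := hcover g₀
      · rw [← hg₀, h1]; exact Subgroup.pow_mem _ hh 2
      · rw [← hg₀, h1, (show Commute h z from (hzc h).symm).mul_pow, hz2, mul_one]
        exact Subgroup.pow_mem _ hh 2
    have htop : Subgroup.closure ({x, y} : Set G) = ⊤ := by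
      rw [eq_top_iff]
      intro g _
      obtain ⟨h, hh, h1 | h1⟩ := hcover g
      · rw [h1]; exact hh
      · rw [h1]; exact Subgroup.mul_mem _ hh hzH
    rw [htop] at hθ
    have hsurj : Function.Surjective θ := MonoidHom.range_eq_top.mp hθ
    have := Nat.card_le_card_of_surjective θ hsurj
    rw [hG, card_alt_five] at this
    omega
  · apply nonempty_presented_equiv x y z hx hy hz2 (hzc x) (hzc y) hxy _ (by rw [hG])
    rw [eq_top_iff]
    intro g _
    have hle : Subgroup.closure ({x, y} : Set G) ≤ Subgroup.closure ({x, y, z} : Set G) :=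
      Subgroup.closure_mono (by intro t ht; rcases ht with rfl | rfl <;> simp)
    obtain ⟨h, hh, h1 | h1⟩ := hcover g
    · rw [h1]; exact hle hh
    · rw [h1]; exact Subgroup.mul_mem _ (hle hh) (Subgroup.subset_closure (by simp))

end lift

section main

/-- Recognition of `SL₂(5)`. -/
theorem nonempty_equiv_SL2_five {G : Type u} [Group G] [Finite G] (hG : Nat.card G = 120)
    (hns : ¬ Group.IsSolvable G)
    (hQ : ∀ P : Sylow 2 G, Nonempty ((P : Subgroup G) ≃* QuaternionGroup 2)) :
    Nonempty (G ≃* Matrix.SpecialLinearGroup (Fin 2) (ZMod 5)) := by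
  have : Fact (Nat.Prime 2) := ⟨Nat.prime_two⟩
  obtain ⟨Q⟩ : Nonempty (Sylow 2 G) := inferInstance
  obtain ⟨e⟩ := hQ Q
  have hQc : Nat.card (Q : Subgroup G) = 8 := by
    rw [Nat.card_congr e.toEquiv, Nat.card_eq_fintype_card, QuaternionGroup.card]
  obtain ⟨z, g₀, hzQ, hgQ, hg₀, hz1, hz2, hz⟩ := exists_quat_involution (Q : Subgroup G) e
  obtain ⟨K, hKn, hK, hK60, hKns⟩ := exists_kernel hG hns (Q : Subgroup G) hQc z hz1 hz
  have := isSimpleGroup_of_card_sixty hK60 hKns
  obtain ⟨e₁⟩ := Cfsg.Agent.S0494.result hK60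
  obtain ⟨f₁⟩ := nonempty_presented_equiv_of_cover hG K z hz1 hz2 hK g₀ hg₀ e₁
  obtain ⟨f₂⟩ := nonempty_presented_equiv_SL2_five
  exact ⟨f₁.symm.trans f₂⟩

end main

end Cfsg.Agent.Lib.Helper13
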