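/-
helper13: weights of the irreducible characters of `SL₂(F)`, `q` odd (all odd `q`, `q = 3`
included), with respect to the upper unitriangular subgroup `U = {upSL t}`.

For a non-trivial additive character `ψ` of `F` the multiplicity of the character
`t ↦ ψ (d t)` of `U` in a class function `θ` is `uWeight ψ θ d`.

* `uWeight_irr_zero_or_one`: every non-zero weight of an irreducible character has
  multiplicity `0` or `1`.
* `irr_eq_of_common_uWeight`: two irreducible characters with the same central sign, a common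
  non-zero weight `d`, and each missing some non-zero weight (a "single-class" character),
  are equal.
-/
import Mathlib
import Cfsg.Agent.Lib.Helper13.SL2HalfValues
import Cfsg.Agent.Lib.Helper13.SL2CuspC
import Cfsg.Agent.Lib.Lead.CharMain

set_option autoImplicit false

namespace Cfsg.Agent.Lib.Helper13

open Matrix Cfsg Cfsg.Agent.CharLib Cfsg.Agent.Lib.Helper6
open scoped ComplexConjugate

variable {F : Type*} [Field F] [Fintype F] [DecidableEq F]

/-- The multiplicity of the character `t ↦ ψ (d t)` of the unitriangular subgroup in `θ`. -/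
noncomputable def uWeight (ψ : AddChar F ℂ) (θ : SpecialLinearGroup (Fin 2) F → ℂ) (d : F) : ℂ :=
  (Fintype.card F : ℂ)⁻¹ * ∑ t : F, θ (upSL t) * conj (ψ (d * t))

omit [DecidableEq F] in
theorem uWeight_add (ψ : AddChar F ℂ) (θ φ : SpecialLinearGroup (Fin 2) F → ℂ) (d : F) :
    uWeight ψ (θ + φ) d = uWeight ψ θ d + uWeight ψ φ d := by
  unfold uWeight
  rw [← mul_add, ← Finset.sum_add_distrib]
  congr 1
  apply Finset.sum_congr rfl
  intro t _
  rw [Pi.add_apply]
  ring

omit [DecidableEq F] in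
theorem uWeight_sub (ψ : AddChar F ℂ) (θ φ : SpecialLinearGroup (Fin 2) F → ℂ) (d : F) :
    uWeight ψ (θ - φ) d = uWeight ψ θ d - uWeight ψ φ d := by
  unfold uWeight
  rw [← mul_sub, ← Finset.sum_sub_distrib]
  congr 1
  apply Finset.sum_congr rfl
  intro t _
  rw [Pi.sub_apply]
  ring

omit [DecidableEq F] in
/-- The weights of a character are natural numbers. -/
theorem uWeight_nat (ψ : AddChar F ℂ) {θ : SpecialLinearGroup (Fin 2) F → ℂ}
    (hθ : IsCharacter (SpecialLinearGroup (Fin 2) F) θ) (d : F) :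
    ∃ m : ℕ, uWeight ψ θ d = m := by
  have hρ : IsCharacter (Multiplicative F) (fun t => θ (upSL (Multiplicative.toAdd t))) :=
    IsCharacter.comp_hom hθ upSLHom
  obtain ⟨m, hm⟩ := sum_mul_addChar_nat (ρ := fun t => θ (upSL t)) hρ (AddChar.mulShift ψ (-d))
  refine ⟨m, ?_⟩
  have hq0 : (Fintype.card F : ℂ) ≠ 0 := by
    exact_mod_cast (Fintype.card_pos (α := F)).ne'
  unfold uWeight
  have : ∑ t : F, θ (upSL t) * conj (ψ (d * t)) =
      ∑ t : F, θ (upSL t) * (AddChar.mulShift ψ (-d)) t := by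
    apply Finset.sum_congr rfl
    intro t _
    rw [AddChar.mulShift_apply, neg_mul, AddChar.map_neg_eq_conj]
  rw [this, hm]
  field_simp

/-- Non-zero weights of the restriction of a class function of `GL₂`. -/
theorem uWeight_resSL {ψ : AddChar F ℂ} (hψ : ψ ≠ 1) {X : GL (Fin 2) F → ℂ}
    (hX : IsClassFunction (GL (Fin 2) F) X) {d : F} (hd : d ≠ 0) :
    (Fintype.card F : ℂ) * uWeight ψ (resSL X) d = X 1 - X (tGL 1) := by
  have hq0 : (Fintype.card F : ℂ) ≠ 0 := by
    exact_mod_cast (Fintype.card_pos (α := F)).ne'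
  have hψd : AddChar.mulShift ψ (-d) ≠ 1 :=
    (AddChar.IsPrimitive.of_ne_one hψ) (neg_ne_zero.mpr hd)
  unfold uWeight
  rw [← mul_assoc, mul_inv_cancel₀ hq0, one_mul]
  have h1 : ∀ t : F, resSL X (upSL t) * conj (ψ (d * t)) =
      X (tGL 1) * (AddChar.mulShift ψ (-d)) t + (if t = 0 then (X 1 - X (tGL 1)) else 0) := by
    intro t
    rw [resSL_apply, toGL_upSL, AddChar.mulShift_apply, neg_mul, AddChar.map_neg_eq_conj]
    split_ifs with ht
    · rw [ht, tGL_zero, mul_zero, AddChar.map_zero_eq_one, map_one]; ring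
    · rw [classFunction_tGL hX ht, add_zero]
  rw [Finset.sum_congr rfl (fun t _ => h1 t), Finset.sum_add_distrib, ← Finset.mul_sum,
    AddChar.sum_eq_zero_of_ne_one hψd, Finset.sum_ite_eq' Finset.univ (0 : F)]
  simp

omit [DecidableEq F] in
/-- The weights of a class function of `SL₂` depend only on the square class. -/
theorem uWeight_congr_of_isSquare (ψ : AddChar F ℂ) {θ : SpecialLinearGroup (Fin 2) F → ℂ}
    (hθ : IsClassFunction (SpecialLinearGroup (Fin 2) F) θ) {d d' : F} (hd : d ≠ 0) (hd' : d' ≠ 0)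
    (h : IsSquare (d * d')) : uWeight ψ θ d = uWeight ψ θ d' := by
  obtain ⟨s, hs⟩ := h
  have hs0 : s ≠ 0 := by
    rintro rfl
    rw [mul_zero] at hs
    exact (mul_ne_zero hd hd') hs
  -- `d' = d c²` with `c = s / d`
  obtain ⟨c, hc⟩ : ∃ c : F, c = s / d := ⟨_, rfl⟩
  have hc0 : c ≠ 0 := by rw [hc]; exact div_ne_zero hs0 hd
  have hd'eq : d' = d * (c * c) := by
    rw [hc]
    field_simp
    linear_combination hs
  unfold uWeight
  congr 1
  rw [← Equiv.sum_comp (Equiv.mulLeft₀ (c * c) (mul_ne_zero hc0 hc0))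
    (fun t => θ (upSL t) * conj (ψ (d * t)))]
  apply Finset.sum_congr rfl
  intro t _
  rw [Equiv.mulLeft₀_apply, hd'eq]
  beta_reduce
  have e1 : d * (c * c * t) = d * (c * c) * t := by ring
  rw [e1]
  congr 1
  by_cases ht : t = 0
  · rw [ht, mul_zero]
  · exact classFunction_upSL hθ (mul_ne_zero (mul_ne_zero hc0 hc0) ht) ht
      ⟨c * t, by ring⟩

/-- **Multiplicity one**: a non-zero weight of an irreducible character of `SL₂(F)` has
multiplicity `0` or `1`. -/
theorem uWeight_irr_zero_or_one {ψ : AddChar F ℂ} (hψ : ψ ≠ 1)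
    {θ : SpecialLinearGroup (Fin 2) F → ℂ}
    (hθ : IsIrrCharacter (SpecialLinearGroup (Fin 2) F) θ) {d : F} (hd : d ≠ 0) :
    uWeight ψ θ d = 0 ∨ uWeight ψ θ d = 1 := by
  have hq0 : (Fintype.card F : ℂ) ≠ 0 := by
    exact_mod_cast (Fintype.card_pos (α := F)).ne'
  have hq1 : (Fintype.card F : ℂ) - 1 ≠ 0 := by
    intro h
    have : (Fintype.card F : ℂ) = 1 := by linear_combination h
    have : Fintype.card F = 1 := by exact_mod_cast this
    have := Fintype.one_lt_card (α := F)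
    omega
  obtain ⟨X, hX, hc, -⟩ := under_data hθ
  have hXc := IsIrrCharacter.isCharacter hX
  have hres := isCharacter_resSL hXc
  obtain ⟨hsub, -⟩ := constituent_degree hres hθ hc
  obtain ⟨a, ha⟩ := uWeight_nat ψ (IsIrrCharacter.isCharacter hθ) d
  obtain ⟨b, hb⟩ := uWeight_nat ψ hsub d
  rw [uWeight_sub, ha] at hb
  have hw := uWeight_resSL hψ (IsCharacter.isClassFunction hXc) hd
  -- the weight of `X` is `0` or `1`
  have hX01 : uWeight ψ (resSL X) d = 0 ∨ uWeight ψ (resSL X) d = 1 := by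
    rcases irr_GL2_sigma hX with ⟨h1, h2⟩ | ⟨h1, h2⟩ | ⟨h1, h2⟩ | ⟨h1, h2⟩
    · left
      have h3 : ((Fintype.card F : ℂ) - 1) * (X (tGL 1) - 1) = 0 := by
        linear_combination h2 - h1
      have h4 : X (tGL 1) = 1 := by
        rcases mul_eq_zero.mp h3 with h | h
        · exact absurd h hq1
        · linear_combination h
      rw [h1, h4, sub_self] at hw
      rcases mul_eq_zero.mp hw with h | h
      · exact absurd h hq0
      · exact h
    · right
      have h3 : ((Fintype.card F : ℂ) - 1) * X (tGL 1) = 0 := by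
        linear_combination h2 - h1
      have h4 : X (tGL 1) = 0 := by
        rcases mul_eq_zero.mp h3 with h | h
        · exact absurd h hq1
        · exact h
      rw [h1, h4, sub_zero] at hw
      have : (Fintype.card F : ℂ) * (uWeight ψ (resSL X) d - 1) = 0 := by linear_combination hw
      rcases mul_eq_zero.mp this with h | h
      · exact absurd h hq0
      · linear_combination h
    · right
      have h3 : ((Fintype.card F : ℂ) - 1) * (X (tGL 1) - 1) = 0 := by
        linear_combination h2 - h1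
      have h4 : X (tGL 1) = 1 := by
        rcases mul_eq_zero.mp h3 with h | h
        · exact absurd h hq1
        · linear_combination h
      rw [h1, h4] at hw
      have : (Fintype.card F : ℂ) * (uWeight ψ (resSL X) d - 1) = 0 := by linear_combination hw
      rcases mul_eq_zero.mp this with h | h
      · exact absurd h hq0
      · linear_combination h
    · right
      have h3 : ((Fintype.card F : ℂ) - 1) * (X (tGL 1) + 1) = 0 := by
        linear_combination h2 - h1
      have h4 : X (tGL 1) = -1 := by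
        rcases mul_eq_zero.mp h3 with h | h
        · exact absurd h hq1
        · linear_combination h
      rw [h1, h4] at hw
      have : (Fintype.card F : ℂ) * (uWeight ψ (resSL X) d - 1) = 0 := by linear_combination hw
      rcases mul_eq_zero.mp this with h | h
      · exact absurd h hq0
      · linear_combination h
  rw [ha]
  rcases hX01 with h | h
  · rw [h] at hb
    have : ((a + b : ℕ) : ℂ) = ((0 : ℕ) : ℂ) := by push_cast; linear_combination -hb
    have : a + b = 0 := by exact_mod_cast this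
    left
    have : a = 0 := by omega
    rw [this, Nat.cast_zero]
  · rw [h] at hb
    have : ((a + b : ℕ) : ℂ) = ((1 : ℕ) : ℂ) := by push_cast; linear_combination -hb
    have : a + b = 1 := by exact_mod_cast this
    have : a = 0 ∨ a = 1 := by omega
    rcases this with h | h
    · left; rw [h, Nat.cast_zero]
    · right; rw [h, Nat.cast_one]


/-! ### The central sign -/

/-- The central element `-1` acts on an irreducible character by a sign. -/
theorem exists_central_sign {θ : SpecialLinearGroup (Fin 2) F → ℂ}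
    (hθ : IsIrrCharacter (SpecialLinearGroup (Fin 2) F) θ) :
    ∃ ε : ℂ, (ε = 1 ∨ ε = -1) ∧ ∀ g, θ (zSL F * g) = ε * θ g := by
  obtain ⟨c, hc1, -⟩ := Cfsg.Agent.Lib.Helper6.IsIrrCharacter.exists_central_hom hθ
  refine ⟨c ⟨zSL F, zSL_mem_center⟩, ?_, fun g => hc1 ⟨zSL F, zSL_mem_center⟩ g⟩
  have h1 : (⟨zSL F, zSL_mem_center⟩ : Subgroup.center (SpecialLinearGroup (Fin 2) F)) *
      ⟨zSL F, zSL_mem_center⟩ = 1 := Subtype.ext zSL_mul_self
  have h2 : c ⟨zSL F, zSL_mem_center⟩ * c ⟨zSL F, zSL_mem_center⟩ = 1 := by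
    rw [← map_mul, h1, map_one]
  have : (c ⟨zSL F, zSL_mem_center⟩ - 1) * (c ⟨zSL F, zSL_mem_center⟩ + 1) = 0 := by
    linear_combination h2
  rcases mul_eq_zero.mp this with h | h
  · left; linear_combination h
  · right; linear_combination h

/-! ### The characters induced from `Z·U` -/

/-- Frobenius reciprocity for `Γ_{ε, d} = Ind_{ZU} (ε ⊗ ψ_d)`. -/
theorem classInner_ggChar (h2 : (2 : F) ≠ 0) {ε ε' : ℂ} (hε : ε = 1 ∨ ε = -1)
    (ψ : AddChar F ℂ) (d : F) {θ : SpecialLinearGroup (Fin 2) F → ℂ}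
    (hθ : IsClassFunction (SpecialLinearGroup (Fin 2) F) θ)
    (hz : ∀ g, θ (zSL F * g) = ε' * θ g) :
    classInner θ (ggChar ε (AddChar.mulShift ψ d)) = (1 + ε' * ε) / 2 * uWeight ψ θ d := by
  classical
  let _ : Fintype ↥(zuSL F) := Fintype.ofFinite _
  have hq0 : (Fintype.card F : ℂ) ≠ 0 := by
    exact_mod_cast (Fintype.card_pos (α := F)).ne'
  have hε2 : ε * ε = 1 := by rcases hε with h | h <;> rw [h] <;> ring
  have hεc : conj ε = ε := by rcases hε with h | h <;> rw [h] <;> simp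
  unfold ggChar
  rw [Cfsg.Agent.Lib.Helper10.classInner_indFun_right _ _ _ hθ, sum_zuSL h2, card_zuSL h2]
  have hterm : ∀ s : F,
      θ ((zuEquiv h2 (false, s) : ↥(zuSL F)) : SpecialLinearGroup (Fin 2) F) *
        conj (zuFun ε (AddChar.mulShift ψ d)
          ((zuEquiv h2 (false, s) : ↥(zuSL F)) : SpecialLinearGroup (Fin 2) F)) +
      θ ((zuEquiv h2 (true, s) : ↥(zuSL F)) : SpecialLinearGroup (Fin 2) F) *
        conj (zuFun ε (AddChar.mulShift ψ d)
          ((zuEquiv h2 (true, s) : ↥(zuSL F)) : SpecialLinearGroup (Fin 2) F)) =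
      (1 + ε' * ε) * (θ (upSL s) * conj (ψ (d * s))) := by
    intro s
    rw [zuEquiv_apply_false, zuEquiv_apply_true, zuFun_tSL,
      zuFun_mul h2 ε hε2 _ zSL_mem_zuSL (tSL_mem_zuSL s), zuFun_zSL h2, zuFun_tSL, hz,
      map_mul, hεc, AddChar.mulShift_apply, upSL_eq_tSL]
    ring
  rw [Finset.sum_congr rfl (fun s _ => hterm s), ← Finset.mul_sum]
  unfold uWeight
  push_cast
  field_simp

omit [DecidableEq F] in
theorem sum_addChar_mul {ψ : AddChar F ℂ} (hψ : ψ ≠ 1) (c : F) [Decidable (c = 0)] :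
    ∑ t : F, ψ (c * t) = if c = 0 then (Fintype.card F : ℂ) else 0 := by
  split_ifs with hc
  · rw [hc]
    simp
  · have : AddChar.mulShift ψ c ≠ 1 := (AddChar.IsPrimitive.of_ne_one hψ) hc
    have h := AddChar.sum_eq_zero_of_ne_one this
    simpa [AddChar.mulShift_apply] using h

/-- The weights of `Γ_{ε, d₁}`. -/
theorem uWeight_ggChar (h2 : (2 : F) ≠ 0) {ψ : AddChar F ℂ} (hψ : ψ ≠ 1) (ε : ℂ) (d₁ d₂ : F) :
    uWeight ψ (ggChar ε (AddChar.mulShift ψ d₁)) d₂ =
      (((Fintype.card F : ℂ) - 1) +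
        ∑ a : Fˣ, (if d₁ * (a : F) ^ 2 = d₂ then (1 : ℂ) else 0)) / 2 := by
  have hq0 : (Fintype.card F : ℂ) ≠ 0 := by
    exact_mod_cast (Fintype.card_pos (α := F)).ne'
  unfold uWeight
  have hval : ∀ t : F, ggChar ε (AddChar.mulShift ψ d₁) (upSL t) * conj (ψ (d₂ * t)) =
      2⁻¹ * ∑ a : Fˣ, ψ ((d₁ * (a : F) ^ 2 - d₂) * t) +
      (if t = 0 then ((Fintype.card F : ℂ) ^ 2 - 1) / 2 - 2⁻¹ * ((Fintype.card F : ℂ) - 1)
        else 0) := by
    intro t
    by_cases ht : t = 0
    · rw [if_pos ht, ht, upSL_zero, ggChar_one h2, mul_zero, AddChar.map_zero_eq_one, map_one]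
      simp only [mul_zero, AddChar.map_zero_eq_one, Finset.sum_const, Finset.card_univ,
        nsmul_eq_mul, mul_one]
      rw [Fintype.card_units]
      have h1 : 1 ≤ Fintype.card F := Fintype.card_pos
      push_cast [Nat.cast_sub h1]
      ring
    · rw [if_neg ht, add_zero, upSL_eq_tSL, ggChar_tSL h2 ε _ t ht, mul_assoc, Finset.sum_mul]
      congr 1
      apply Finset.sum_congr rfl
      intro a _
      rw [AddChar.mulShift_apply, ← AddChar.map_neg_eq_conj, ← AddChar.map_add_eq_mul]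
      congr 1
      ring
  rw [Finset.sum_congr rfl (fun t _ => hval t), Finset.sum_add_distrib, ← Finset.mul_sum,
    Finset.sum_comm, Finset.sum_ite_eq' Finset.univ (0 : F), if_pos (Finset.mem_univ _)]
  have hin : ∀ a : Fˣ, ∑ t : F, ψ ((d₁ * (a : F) ^ 2 - d₂) * t) =
      (Fintype.card F : ℂ) * (if d₁ * (a : F) ^ 2 = d₂ then (1 : ℂ) else 0) := by
    intro a
    classical
    rw [sum_addChar_mul hψ]
    by_cases h : d₁ * (a : F) ^ 2 = d₂
    · rw [if_pos h, if_pos (sub_eq_zero.mpr h), mul_one]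
    · rw [if_neg h, if_neg (fun h' => h (sub_eq_zero.mp h')), mul_zero]
  rw [Finset.sum_congr rfl (fun a _ => hin a), ← Finset.mul_sum]
  field_simp
  ring

/-- Bilinear Parseval identity. -/
theorem classInner_eq_sum_irr' {X : Type*} [Group X] [Fintype X] [Fintype (IrrCharacter X)]
    {f : X → ℂ} (hf : IsClassFunction X f) (g : X → ℂ) :
    classInner f g = ∑ χ : IrrCharacter X,
      classInner f (χ : X → ℂ) * conj (classInner g (χ : X → ℂ)) := by
  conv_lhs => arg 1; rw [classFunction_eq_sum hf]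
  rw [classInner_finset_sum_left]
  apply Finset.sum_congr rfl
  intro χ _
  rw [Cfsg.Agent.Lib.Helper10.classInner_smul_left,
    Cfsg.Agent.Lib.Helper10.classInner_conj_symm g, Complex.conj_conj]


/-! ### Uniqueness by class and central sign -/

omit [Fintype F] in
theorem sum_units_sq_eq_one [Fintype Fˣ] (h2 : (2 : F) ≠ 0) {d : F} (hd : d ≠ 0) :
    ∑ a : Fˣ, (if d * (a : F) ^ 2 = d then (1 : ℂ) else 0) = 2 := by
  rw [Finset.sum_boole]
  have hne : (1 : Fˣ) ≠ -1 := by
    intro h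
    have h' := congrArg (fun u : Fˣ => (u : F)) h
    simp only [Units.val_one, Units.val_neg] at h'
    exact h2 (by linear_combination h')
  have : Finset.univ.filter (fun a : Fˣ => d * (a : F) ^ 2 = d) = {1, -1} := by
    ext a
    simp only [Finset.mem_filter, Finset.mem_univ, true_and, Finset.mem_insert,
      Finset.mem_singleton]
    constructor
    · intro h
      have h1 : d * (((a : F) - 1) * ((a : F) + 1)) = 0 := by linear_combination h
      rcases mul_eq_zero.mp h1 with h | h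
      · exact absurd h hd
      · rcases mul_eq_zero.mp h with h | h
        · left
          apply Units.ext
          rw [Units.val_one]
          linear_combination h
        · right
          apply Units.ext
          rw [Units.val_neg, Units.val_one]
          linear_combination h
    · rintro (rfl | rfl)
      · simp
      · simp
  rw [this, Finset.card_pair hne]
  norm_num

omit [Fintype F] [DecidableEq F] in
theorem sum_units_sq_eq_zero [Fintype Fˣ] [DecidableEq F] {d₁ d₂ : F}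
    (hns : ¬ IsSquare (d₁ * d₂)) :
    ∑ a : Fˣ, (if d₁ * (a : F) ^ 2 = d₂ then (1 : ℂ) else 0) = 0 := by
  apply Finset.sum_eq_zero
  intro a _
  rw [if_neg]
  intro h
  apply hns
  exact ⟨d₁ * (a : F), by rw [← h]; ring⟩

/-- **Uniqueness**: two irreducible characters of `SL₂(F)`, `q` odd, with the same central sign,
a common non-zero weight `d`, and both without the weight `d'` of the other square class,
are equal. -/
theorem irr_eq_of_common_uWeight (hodd : Odd (Fintype.card F)) {ψ : AddChar F ℂ} (hψ : ψ ≠ 1)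
    {θ₁ θ₂ : SpecialLinearGroup (Fin 2) F → ℂ}
    (h₁ : IsIrrCharacter (SpecialLinearGroup (Fin 2) F) θ₁)
    (h₂ : IsIrrCharacter (SpecialLinearGroup (Fin 2) F) θ₂)
    {ε : ℂ} (hz₁ : ∀ g, θ₁ (zSL F * g) = ε * θ₁ g) (hz₂ : ∀ g, θ₂ (zSL F * g) = ε * θ₂ g)
    {d d' : F} (hd : d ≠ 0) (hd' : d' ≠ 0) (hns : ¬ IsSquare (d * d'))
    (hw₁ : uWeight ψ θ₁ d ≠ 0) (hw₂ : uWeight ψ θ₂ d ≠ 0)
    (hn₁ : uWeight ψ θ₁ d' = 0) (hn₂ : uWeight ψ θ₂ d' = 0) : θ₁ = θ₂ := by
  classical
  let _ := fintypeIrr (SpecialLinearGroup (Fin 2) F)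
  have h2 : (2 : F) ≠ 0 := two_ne_zero_of_odd_card' hodd
  by_contra hne
  -- the sign
  have hsign : ∀ {θ : SpecialLinearGroup (Fin 2) F → ℂ},
      IsIrrCharacter (SpecialLinearGroup (Fin 2) F) θ → ∀ {η : ℂ},
      (∀ g, θ (zSL F * g) = η * θ g) → η = 1 ∨ η = -1 := by
    intro θ hθ η hη
    obtain ⟨η₁, hη₁, hz'⟩ := exists_central_sign hθ
    obtain ⟨n, hn0, hn⟩ := IsIrrCharacter.apply_one_pos hθ
    have hθ1 : θ 1 ≠ 0 := by
      rw [hn]
      exact Nat.cast_ne_zero.mpr hn0.ne'
    have a := hη 1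
    rw [hz' 1] at a
    have : η = η₁ := (mul_right_cancel₀ hθ1 a).symm
    rw [this]
    exact hη₁
  have hε : ε = 1 ∨ ε = -1 := hsign h₁ hz₁
  have hε2 : ε * ε = 1 := by rcases hε with h | h <;> rw [h] <;> ring
  obtain ⟨Γ, hΓ⟩ : ∃ Γ, Γ = ggChar ε (AddChar.mulShift ψ d) := ⟨_, rfl⟩
  obtain ⟨Γ', hΓ'⟩ : ∃ Γ', Γ' = ggChar ε (AddChar.mulShift ψ d') := ⟨_, rfl⟩
  have hΓc : IsClassFunction (SpecialLinearGroup (Fin 2) F) Γ := by
    rw [hΓ]
    exact Cfsg.Agent.Lib.Helper10.isClassFunction_indFun _ _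
  have hΓz : ∀ g, Γ (zSL F * g) = ε * Γ g := by
    intro g
    rw [hΓ]
    exact ggChar_central_mul h2 ε hε2 _ g
  have e1 : classInner Γ Γ = ((Fintype.card F : ℂ) - 1 + 2) / 2 := by
    conv_lhs => arg 2; rw [hΓ]
    rw [classInner_ggChar h2 hε ψ d hΓc hΓz, hΓ, uWeight_ggChar h2 hψ, sum_units_sq_eq_one h2 hd,
      hε2]
    ring
  have e2 : classInner Γ Γ' = ((Fintype.card F : ℂ) - 1) / 2 := by
    rw [hΓ', classInner_ggChar h2 hε ψ d' hΓc hΓz, hΓ, uWeight_ggChar h2 hψ,
      sum_units_sq_eq_zero hns, hε2]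
    ring
  have e3 : classInner Γ (Γ - Γ') = 1 := by
    rw [Cfsg.Agent.Lib.Helper10.classInner_sub_right, e1, e2]
    ring
  rw [classInner_eq_sum_irr' hΓc] at e3
  -- the terms
  have key : ∀ m m' : ℂ, (m = 0 ∨ m = 1) → (m' = 0 ∨ m' = 1) →
      conj m * (m - m') = 0 ∨ conj m * (m - m') = 1 := by
    rintro m m' (rfl | rfl) (rfl | rfl) <;> simp
  have hterm : ∀ χ : IrrCharacter (SpecialLinearGroup (Fin 2) F),
      (classInner Γ (χ : SpecialLinearGroup (Fin 2) F → ℂ) *
        conj (classInner (Γ - Γ') (χ : SpecialLinearGroup (Fin 2) F → ℂ)) = 0 ∨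
      classInner Γ (χ : SpecialLinearGroup (Fin 2) F → ℂ) *
        conj (classInner (Γ - Γ') (χ : SpecialLinearGroup (Fin 2) F → ℂ)) = 1) ∧
      ((∀ g, (χ : SpecialLinearGroup (Fin 2) F → ℂ) (zSL F * g) =
          ε * (χ : SpecialLinearGroup (Fin 2) F → ℂ) g) →
        uWeight ψ (χ : SpecialLinearGroup (Fin 2) F → ℂ) d ≠ 0 →
        uWeight ψ (χ : SpecialLinearGroup (Fin 2) F → ℂ) d' = 0 →
        classInner Γ (χ : SpecialLinearGroup (Fin 2) F → ℂ) *
          conj (classInner (Γ - Γ') (χ : SpecialLinearGroup (Fin 2) F → ℂ)) = 1) := by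
    intro χ
    obtain ⟨η₁, hη₁, hz'⟩ := exists_central_sign χ.2
    have hcl := IsCharacter.isClassFunction (IsIrrCharacter.isCharacter χ.2)
    have f1 : classInner (χ : SpecialLinearGroup (Fin 2) F → ℂ) Γ =
        (1 + η₁ * ε) / 2 * uWeight ψ (χ : SpecialLinearGroup (Fin 2) F → ℂ) d := by
      rw [hΓ]; exact classInner_ggChar h2 hε ψ d hcl hz'
    have f2 : classInner (χ : SpecialLinearGroup (Fin 2) F → ℂ) Γ' =
        (1 + η₁ * ε) / 2 * uWeight ψ (χ : SpecialLinearGroup (Fin 2) F → ℂ) d' := by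
      rw [hΓ']; exact classInner_ggChar h2 hε ψ d' hcl hz'
    have hs : (1 + η₁ * ε) / 2 = 0 ∨ (1 + η₁ * ε) / 2 = 1 := by
      rcases hη₁ with rfl | rfl <;> rcases hε with rfl | rfl <;> norm_num
    have hw := uWeight_irr_zero_or_one hψ χ.2 hd
    have hw' := uWeight_irr_zero_or_one hψ χ.2 hd'
    have g1 : classInner Γ (χ : SpecialLinearGroup (Fin 2) F → ℂ) =
        conj ((1 + η₁ * ε) / 2 * uWeight ψ (χ : SpecialLinearGroup (Fin 2) F → ℂ) d) := by
      rw [Cfsg.Agent.Lib.Helper10.classInner_conj_symm, f1]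
    have g2 : conj (classInner (Γ - Γ') (χ : SpecialLinearGroup (Fin 2) F → ℂ)) =
        (1 + η₁ * ε) / 2 * uWeight ψ (χ : SpecialLinearGroup (Fin 2) F → ℂ) d -
        (1 + η₁ * ε) / 2 * uWeight ψ (χ : SpecialLinearGroup (Fin 2) F → ℂ) d' := by
      rw [← Cfsg.Agent.Lib.Helper10.classInner_conj_symm,
        Cfsg.Agent.Lib.Helper10.classInner_sub_right, f1, f2]
    rw [g1, g2]
    have hm : (1 + η₁ * ε) / 2 * uWeight ψ (χ : SpecialLinearGroup (Fin 2) F → ℂ) d = 0 ∨
        (1 + η₁ * ε) / 2 * uWeight ψ (χ : SpecialLinearGroup (Fin 2) F → ℂ) d = 1 := by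
      rcases hs with h | h <;> rcases hw with h' | h' <;> rw [h, h'] <;> norm_num
    have hm' : (1 + η₁ * ε) / 2 * uWeight ψ (χ : SpecialLinearGroup (Fin 2) F → ℂ) d' = 0 ∨
        (1 + η₁ * ε) / 2 * uWeight ψ (χ : SpecialLinearGroup (Fin 2) F → ℂ) d' = 1 := by
      rcases hs with h | h <;> rcases hw' with h' | h' <;> rw [h, h'] <;> norm_num
    refine ⟨key _ _ hm hm', ?_⟩
    intro hχz hwd hwd'
    obtain ⟨n, hn0, hn⟩ := IsIrrCharacter.apply_one_pos χ.2
    have hθ1 : (χ : SpecialLinearGroup (Fin 2) F → ℂ) 1 ≠ 0 := by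
      rw [hn]
      exact Nat.cast_ne_zero.mpr hn0.ne'
    have a := hχz 1
    rw [hz' 1] at a
    have hηε : η₁ = ε := mul_right_cancel₀ hθ1 a
    have hw1 : uWeight ψ (χ : SpecialLinearGroup (Fin 2) F → ℂ) d = 1 := by
      rcases hw with h | h
      · exact absurd h hwd
      · exact h
    rw [hηε, hε2, hw1, hwd']
    norm_num
  -- natural multiplicities
  have hnat : ∀ χ : IrrCharacter (SpecialLinearGroup (Fin 2) F), ∃ n : ℕ,
      classInner Γ (χ : SpecialLinearGroup (Fin 2) F → ℂ) *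
        conj (classInner (Γ - Γ') (χ : SpecialLinearGroup (Fin 2) F → ℂ)) = n := by
    intro χ
    rcases (hterm χ).1 with h | h
    · exact ⟨0, by rw [h, Nat.cast_zero]⟩
    · exact ⟨1, by rw [h, Nat.cast_one]⟩
  choose n hn using hnat
  rw [Finset.sum_congr rfl (fun χ _ => hn χ)] at e3
  have e4 : ∑ χ : IrrCharacter (SpecialLinearGroup (Fin 2) F), n χ = 1 := by
    have : ((∑ χ : IrrCharacter (SpecialLinearGroup (Fin 2) F), n χ : ℕ) : ℂ) = ((1 : ℕ) : ℂ) := by
      push_cast
      exact e3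
    exact_mod_cast this
  have hn₁ : n ⟨θ₁, h₁⟩ = 1 := by
    have := (hterm ⟨θ₁, h₁⟩).2 hz₁ hw₁ hn₁
    rw [hn] at this
    exact_mod_cast this
  have hn₂ : n ⟨θ₂, h₂⟩ = 1 := by
    have := (hterm ⟨θ₂, h₂⟩).2 hz₂ hw₂ hn₂
    rw [hn] at this
    exact_mod_cast this
  have hne' : (⟨θ₁, h₁⟩ : IrrCharacter (SpecialLinearGroup (Fin 2) F)) ≠ ⟨θ₂, h₂⟩ := by
    intro h
    exact hne (congrArg Subtype.val h)
  have hle : ∑ χ ∈ ({⟨θ₁, h₁⟩, ⟨θ₂, h₂⟩} : Finset (IrrCharacter (SpecialLinearGroup (Fin 2) F))),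
      n χ ≤ ∑ χ : IrrCharacter (SpecialLinearGroup (Fin 2) F), n χ :=
    Finset.sum_le_sum_of_subset (Finset.subset_univ _)
  rw [Finset.sum_pair hne', hn₁, hn₂, e4] at hle
  omega

end Cfsg.Agent.Lib.Helper13
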