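/-
helper13 (S2332 leaf E): `SL_n(F)` (`n ≥ 2`) has an irreducible complex representation of degree
`(q^n - q)/(q - 1)`: the permutation character on the projective points minus the principal character
(Mathlib: `SL` is 2-transitive on `ℙ F (Fin n → F)`; S0157: 2-transitive ⟹ `π - 1` irreducible).
-/
import Mathlib
import Cfsg.Agent.S0157

set_option autoImplicit false

namespace Cfsg.Agent.Lib.Helper13.SLMinE

open scoped LinearAlgebra.Projectivization

variable {F : Type*} [Field F] [Fintype F]

/-- the number of projective points, minus one -/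
theorem card_proj_sub_one (n : ℕ) (hn : 1 ≤ n) :
    Nat.card (ℙ F (Fin n → F)) - 1 =
      (Fintype.card F ^ n - Fintype.card F) / (Fintype.card F - 1) := by
  have hq : 1 < Fintype.card F := Fintype.one_lt_card
  have h1 := Projectivization.card' F (Fin n → F)
  have hV : Nat.card (Fin n → F) = Fintype.card F ^ n := by
    rw [Nat.card_eq_fintype_card, Fintype.card_fun, Fintype.card_fin]
  rw [hV, Nat.card_eq_fintype_card (α := F)] at h1
  set P := Nat.card (ℙ F (Fin n → F)) with hP
  set q := Fintype.card F with hqdef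
  have hqn : q ≤ q ^ n := by
    calc q = q ^ 1 := (pow_one q).symm
      _ ≤ q ^ n := Nat.pow_le_pow_right (by omega) hn
  have hPpos : 1 ≤ P := by
    by_contra hcon
    have hP0 : P = 0 := by omega
    rw [hP0, zero_mul, zero_add] at h1
    omega
  have h2 : q ^ n - q = (P - 1) * (q - 1) := by
    have h3 : P * (q - 1) = (P - 1) * (q - 1) + (q - 1) := by
      have : P = (P - 1) + 1 := by omega
      conv_lhs => rw [this]
      rw [add_mul, one_mul]
    rw [h1, h3]
    omega
  rw [h2, Nat.mul_div_cancel _ (by omega : 0 < q - 1)]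

/-- **S2332, second conjunct** -/
theorem sl_exists [DecidableEq F] (n : ℕ) (hn : 2 ≤ n) :
    ∃ ρ : Representation ℂ (Matrix.SpecialLinearGroup (Fin n) F)
      (Fin ((Fintype.card F ^ n - Fintype.card F) / (Fintype.card F - 1)) → ℂ),
      ρ.IsIrreducible := by
  classical
  have hq : 1 < Fintype.card F := Fintype.one_lt_card
  have h2t : MulAction.IsMultiplyPretransitive (Matrix.SpecialLinearGroup (Fin n) F)
      (ℙ F (Fin n → F)) 2 := inferInstance
  have htr : MulAction.IsPretransitive (Matrix.SpecialLinearGroup (Fin n) F)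
      (ℙ F (Fin n → F)) := MulAction.isPretransitive_of_is_two_pretransitive
  have hcard := card_proj_sub_one (F := F) n (by omega)
  have hX : 2 ≤ Nat.card (ℙ F (Fin n → F)) := by
    -- (q^n - q)/(q-1) ≥ 1
    have h3 : 1 ≤ (Fintype.card F ^ n - Fintype.card F) / (Fintype.card F - 1) := by
      rw [Nat.one_le_div_iff (by omega)]
      have h5 : Fintype.card F ^ 2 ≤ Fintype.card F ^ n := Nat.pow_le_pow_right (by omega) hn
      have h4 : Fintype.card F ^ 2 = Fintype.card F * Fintype.card F := sq _
      have h6 : 2 * Fintype.card F ≤ Fintype.card F * Fintype.card F :=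
        Nat.mul_le_mul_right _ (by omega)
      omega
    omega
  have hirr := (Cfsg.Agent.S0157.result (G := Matrix.SpecialLinearGroup (Fin n) F)
    (ℙ F (Fin n → F)) hX).mpr h2t
  obtain ⟨k, ρ, hρ, hchar⟩ := hirr
  have hk : k = (Fintype.card F ^ n - Fintype.card F) / (Fintype.card F - 1) := by
    have h1 := congrFun hchar 1
    rw [Representation.char_one] at h1
    simp only [Module.finrank_fintype_fun_eq_card, Fintype.card_fin] at h1
    have hfix : Nat.card (MulAction.fixedBy (ℙ F (Fin n → F))
        (1 : Matrix.SpecialLinearGroup (Fin n) F)) = Nat.card (ℙ F (Fin n → F)) := by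
      rw [MulAction.fixedBy_one_eq_univ]
      exact Nat.card_congr (Equiv.Set.univ _)
    rw [hfix] at h1
    have h5 : ((k : ℕ) : ℂ) = ((Nat.card (ℙ F (Fin n → F)) - 1 : ℕ) : ℂ) := by
      rw [Nat.cast_sub (by omega), Nat.cast_one]
      exact h1
    have h6 : k = Nat.card (ℙ F (Fin n → F)) - 1 := by exact_mod_cast h5
    rw [h6, hcard]
  subst hk
  exact ⟨ρ, hρ⟩

end Cfsg.Agent.Lib.Helper13.SLMinE
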