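/-
helper13 (S2332, spine lemmas for helper16): the `m`-dichotomy (P1), the dimension count of the
fixed space of the radical (P2), the fixed space as a representation of `SL ι'` (P3).
-/
import Mathlib
import Cfsg.Agent.Lib.Helper16.SLMinDefs
import Cfsg.Agent.Lib.Helper13.SLMinW
import Cfsg.Agent.Lib.Helper29.SLMinC0
import Cfsg.Agent.Lib.Helper17.SLMinN

set_option autoImplicit false
set_option linter.unusedSectionVars false
set_option linter.unusedVariables false

namespace Cfsg.Agent.Lib.Helper13.SLMin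

open Matrix Module Cfsg.Agent.Lib.Helper16.SLMin

section Spine

variable {F : Type*} [Field F] [Fintype F] [DecidableEq F] {M : Type*} [AddCommGroup M]
  [Module ℂ M] [FiniteDimensional ℂ M]

/-- the dimension is the sum of the multiplicities of the weights of a root map -/
theorem finrank_eq_sum_wt {H : Type*} [Group H] (ρ : Representation ℂ H M) {I : Type*} [Fintype I]
    [DecidableEq I] (ι : (I → F) → H) (hι : ∀ r s, ι (r + s) = ι r * ι s) :
    finrank ℂ M = ∑ v : I → F, finrank ℂ ↥(wt ρ ι v) := by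
  have h := finrank_eq_sum_inf_wt ρ ι hι ⊤ (fun _ _ _ => Submodule.mem_top)
  rw [finrank_top] at h
  rw [h]
  apply Finset.sum_congr rfl
  intro v _
  rw [top_inf_eq]

/-- the number of non-zero vectors -/
theorem card_erase_zero {I : Type*} [Fintype I] [DecidableEq I] :
    ((Finset.univ : Finset (I → F)).erase 0).card = Fintype.card F ^ Fintype.card I - 1 := by
  rw [Finset.card_erase_of_mem (Finset.mem_univ _), Finset.card_univ, Fintype.card_fun]

/-- if all non-zero weights have multiplicity `m`, the dimension is `c + m (q^k - 1)` -/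
theorem finrank_eq_of_const {H : Type*} [Group H] (ρ : Representation ℂ H M) {I : Type*}
    [Fintype I] [DecidableEq I] (ι : (I → F) → H) (hι : ∀ r s, ι (r + s) = ι r * ι s) (m : ℕ)
    (hm : ∀ u : I → F, u ≠ 0 → finrank ℂ ↥(wt ρ ι u) = m) :
    finrank ℂ M = finrank ℂ ↥(wt ρ ι 0) + (Fintype.card F ^ Fintype.card I - 1) * m := by
  rw [finrank_eq_sum_wt ρ ι hι, ← Finset.add_sum_erase Finset.univ _ (Finset.mem_univ (0 : I → F))]
  congr 1
  rw [Finset.sum_congr rfl (fun u hu => hm u (Finset.ne_of_mem_erase hu)), Finset.sum_const,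
    card_erase_zero, smul_eq_mul]

/-- **P1**: the `m`-dichotomy. -/
theorem dichotomy {ι' : Type*} [Fintype ι'] [DecidableEq ι'] (h2 : 2 ≤ Fintype.card ι')
    (ρ : Representation ℂ (SpecialLinearGroup (Unit ⊕ ι') F) M) (hnt : ∃ g, ρ g ≠ 1) :
    tgt (Fintype.card F) (Fintype.card ι' + 1) ≤ finrank ℂ M ∨
      ((∀ u : ι' → F, u ≠ 0 → finrank ℂ ↥(wt ρ (rad (F := F) (ι' := ι')) u) = 1) ∧
        finrank ℂ M = finrank ℂ ↥(wt ρ (rad (F := F) (ι' := ι')) 0) +
          (Fintype.card F ^ Fintype.card ι' - 1)) := by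
  have hq : 2 ≤ Fintype.card F := Fintype.one_lt_card
  have hne : Nonempty ι' := Fintype.card_pos_iff.mp (by omega)
  obtain ⟨b⟩ := hne
  obtain ⟨u₀, hu₀⟩ : ∃ u₀ : ι' → F, u₀ ≠ 0 := by
    refine ⟨Pi.single b 1, fun h => ?_⟩
    have := congrFun h b
    simp at this
  obtain ⟨m, hmdef⟩ : ∃ m : ℕ, m = finrank ℂ ↥(wt ρ (rad (F := F) (ι' := ι')) u₀) := ⟨_, rfl⟩
  have hm : ∀ u : ι' → F, u ≠ 0 → finrank ℂ ↥(wt ρ (rad (F := F) (ι' := ι')) u) = m := by
    intro u hu
    rw [hmdef]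
    exact Cfsg.Agent.Lib.Helper29.SLMin.finrank_wt_rad_eq h2 ρ u u₀ hu hu₀
  have hd := finrank_eq_of_const ρ (rad (F := F) (ι' := ι')) rad_add m hm
  have hpow : 2 ≤ Fintype.card F ^ Fintype.card ι' := by
    calc 2 ≤ Fintype.card F := hq
      _ = Fintype.card F ^ 1 := (pow_one _).symm
      _ ≤ Fintype.card F ^ Fintype.card ι' := Nat.pow_le_pow_right (by omega) (by omega)
  rcases Nat.lt_or_ge m 1 with hm0 | hm1
  · -- `m = 0`: the radical acts trivially
    exfalso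
    have hm0' : m = 0 := by omega
    rw [hm0', mul_zero, add_zero] at hd
    have htop : wt ρ (rad (F := F) (ι' := ι')) 0 = ⊤ :=
      Submodule.eq_top_of_finrank_eq hd.symm
    have hrad : ∀ r : ι' → F, ρ (rad r) = 1 := by
      intro r
      apply LinearMap.ext
      intro x
      have hx : x ∈ wt ρ (rad (F := F) (ι' := ι')) 0 := by rw [htop]; exact Submodule.mem_top
      have := hx r
      rw [zero_dotProduct, AddChar.map_zero_eq_one, one_smul] at this
      rw [this]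
      rfl
    obtain ⟨g, hg⟩ := hnt
    exact hg (Cfsg.Agent.Lib.Helper29.SLMin.trivial_of_rad_trivial h2 ρ hrad g)
  · rcases Nat.lt_or_ge m 2 with hm2 | hm2
    · right
      have hm1' : m = 1 := by omega
      rw [hm1'] at hm hd
      rw [mul_one] at hd
      exact ⟨hm, hd⟩
    · left
      have h1 := Cfsg.Agent.Lib.Helper17.SLMin.arith_two (Fintype.card F) (Fintype.card ι' + 1) hq
        (by omega)
      rw [Nat.add_sub_cancel] at h1
      calc tgt (Fintype.card F) (Fintype.card ι' + 1)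
          ≤ 2 * (Fintype.card F ^ Fintype.card ι' - 1) := h1
        _ ≤ (Fintype.card F ^ Fintype.card ι' - 1) * m := by
            rw [mul_comm]
            exact Nat.mul_le_mul_left _ hm2
        _ ≤ finrank ℂ M := by rw [hd]; exact Nat.le_add_left _ _

/-! ### the fixed space of the radical -/

/-- `emb g` preserves the fixed space of the radical -/
theorem emb_mem_fixed {ι' : Type*} [Fintype ι'] [DecidableEq ι']
    (ρ : Representation ℂ (SpecialLinearGroup (Unit ⊕ ι') F) M) (g : SpecialLinearGroup ι' F)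
    (m : M) (hm : m ∈ wt ρ (rad (F := F) (ι' := ι')) 0) :
    ρ (emb g) m ∈ wt ρ (rad (F := F) (ι' := ι')) 0 := by
  have h := Cfsg.Agent.Lib.Helper29.SLMin.map_mem_wt ρ g 0 m hm
  rwa [mulVec_zero] at h

/-- `emb g` moves the weight spaces of `emb ∘ ι` like `g` moves those of `ι` (general form) -/
theorem emb_mem_wt_of_conj {ι' : Type*} [Fintype ι'] [DecidableEq ι']
    (ρ : Representation ℂ (SpecialLinearGroup (Unit ⊕ ι') F) M) {I : Type*} [Fintype I]
    (ι : (I → F) → SpecialLinearGroup ι' F) (g : SpecialLinearGroup ι' F)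
    (hg : ∀ r, g * ι r = ι r * g) (v : I → F) (m : M)
    (hm : m ∈ wt ρ (fun r => emb (ι r)) v) : ρ (emb g) m ∈ wt ρ (fun r => emb (ι r)) v := by
  intro r
  have h1 : ρ (emb (ι r)) (ρ (emb g) m) = ρ (emb g) (ρ (emb (ι r)) m) := by
    show (ρ (emb (ι r)) * ρ (emb g)) m = (ρ (emb g) * ρ (emb (ι r))) m
    rw [← map_mul, ← map_mul, ← map_mul, ← map_mul, hg r]
  rw [h1, hm r, map_smul]

theorem rb_add {J : Type*} [Fintype J] [DecidableEq J] (r s : J → F) :
    rb (F := F) (J := J) (r + s) = rb r * rb s := by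
  show emb (rad (r + s)) = emb (rad r) * emb (rad s)
  rw [rad_add, map_mul]

/-- **P2**: the dimension of the fixed space of the radical, given stage 0. -/
theorem finrank_fixed_eq {J : Type*} [Fintype J] [DecidableEq J]
    (ρ : Representation ℂ (SpecialLinearGroup (Unit ⊕ (Unit ⊕ J)) F) M)
    (h0 : ∀ w : J → F, w ≠ 0 →
      finrank ℂ ↥(wt ρ (rad (F := F) (ι' := Unit ⊕ J)) 0 ⊓ wt ρ (rb (F := F) (J := J)) w) = 1) :
    finrank ℂ ↥(wt ρ (rad (F := F) (ι' := Unit ⊕ J)) 0) =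
      finrank ℂ ↥(wt ρ (rad (F := F) (ι' := Unit ⊕ J)) 0 ⊓ wt ρ (rb (F := F) (J := J)) 0) +
        (Fintype.card F ^ Fintype.card J - 1) := by
  have h := finrank_eq_sum_inf_wt ρ (rb (F := F) (J := J)) rb_add
    (wt ρ (rad (F := F) (ι' := Unit ⊕ J)) 0) (fun r m hm => emb_mem_fixed ρ (rad r) m hm)
  rw [h, ← Finset.add_sum_erase Finset.univ _ (Finset.mem_univ (0 : J → F))]
  congr 1
  rw [Finset.sum_congr rfl (fun u hu => h0 u (Finset.ne_of_mem_erase hu)), Finset.sum_const,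
    card_erase_zero, smul_eq_mul, mul_one]

/-- the fixed space of the radical as a representation of `SL ι'` -/
noncomputable def fixedRep {ι' : Type*} [Fintype ι'] [DecidableEq ι']
    (ρ : Representation ℂ (SpecialLinearGroup (Unit ⊕ ι') F) M) :
    Representation ℂ (SpecialLinearGroup ι' F) ↥(wt ρ (rad (F := F) (ι' := ι')) 0) where
  toFun g := (ρ (emb g)).restrict (fun m hm => emb_mem_fixed ρ g m hm)
  map_one' := by
    apply LinearMap.ext
    intro m
    apply Subtype.ext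
    show ρ (emb 1) m.1 = m.1
    rw [map_one, map_one]
    rfl
  map_mul' g h := by
    apply LinearMap.ext
    intro m
    apply Subtype.ext
    show ρ (emb (g * h)) m.1 = ρ (emb g) (ρ (emb h) m.1)
    rw [map_mul, map_mul]
    rfl

theorem fixedRep_apply {ι' : Type*} [Fintype ι'] [DecidableEq ι']
    (ρ : Representation ℂ (SpecialLinearGroup (Unit ⊕ ι') F) M) (g : SpecialLinearGroup ι' F)
    (n : ↥(wt ρ (rad (F := F) (ι' := ι')) 0)) :
    ((fixedRep ρ g n : ↥(wt ρ (rad (F := F) (ι' := ι')) 0)) : M) = ρ (emb g) (n : M) := rfl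

/-- weight spaces of the fixed-space representation -/
theorem map_wt_fixedRep {ι' : Type*} [Fintype ι'] [DecidableEq ι']
    (ρ : Representation ℂ (SpecialLinearGroup (Unit ⊕ ι') F) M) {I : Type*} [Fintype I]
    (ι : (I → F) → SpecialLinearGroup ι' F) (w : I → F) :
    Submodule.map (wt ρ (rad (F := F) (ι' := ι')) 0).subtype (wt (fixedRep ρ) ι w) =
      wt ρ (rad (F := F) (ι' := ι')) 0 ⊓ wt ρ (fun r => emb (ι r)) w := by
  ext m
  constructor
  · rintro ⟨n, hn, rfl⟩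
    refine ⟨n.2, fun r => ?_⟩
    exact congrArg Subtype.val (hn r)
  · rintro ⟨hm0, hm⟩
    refine ⟨⟨m, hm0⟩, fun r => ?_, rfl⟩
    apply Subtype.ext
    exact hm r

theorem finrank_wt_fixedRep {ι' : Type*} [Fintype ι'] [DecidableEq ι']
    (ρ : Representation ℂ (SpecialLinearGroup (Unit ⊕ ι') F) M) {I : Type*} [Fintype I]
    (ι : (I → F) → SpecialLinearGroup ι' F) (w : I → F) :
    finrank ℂ ↥(wt (fixedRep ρ) ι w) =
      finrank ℂ ↥(wt ρ (rad (F := F) (ι' := ι')) 0 ⊓ wt ρ (fun r => emb (ι r)) w) := by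
  rw [← map_wt_fixedRep, Submodule.finrank_map_subtype_eq]

/-- the weights of the radical of `SL (Unit ⊕ J)` on the fixed space -/
theorem finrank_wt_fixedRep_rad {J : Type*} [Fintype J] [DecidableEq J]
    (ρ : Representation ℂ (SpecialLinearGroup (Unit ⊕ (Unit ⊕ J)) F) M) (w : J → F) :
    finrank ℂ ↥(wt (fixedRep ρ) (rad (F := F) (ι' := J)) w) =
      finrank ℂ ↥(wt ρ (rad (F := F) (ι' := Unit ⊕ J)) 0 ⊓ wt ρ (rb (F := F) (J := J)) w) :=
  finrank_wt_fixedRep ρ (rad (F := F) (ι' := J)) w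

/-- two weight conditions on the fixed space -/
theorem finrank_wt_inf_fixedRep {ι' : Type*} [Fintype ι'] [DecidableEq ι']
    (ρ : Representation ℂ (SpecialLinearGroup (Unit ⊕ ι') F) M) {I₁ I₂ : Type*} [Fintype I₁]
    [Fintype I₂] (ι₁ : (I₁ → F) → SpecialLinearGroup ι' F)
    (ι₂ : (I₂ → F) → SpecialLinearGroup ι' F) (w₁ : I₁ → F) (w₂ : I₂ → F) :
    finrank ℂ ↥(wt (fixedRep ρ) ι₁ w₁ ⊓ wt (fixedRep ρ) ι₂ w₂) =
      finrank ℂ ↥(wt ρ (rad (F := F) (ι' := ι')) 0 ⊓ wt ρ (fun r => emb (ι₁ r)) w₁ ⊓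
        wt ρ (fun r => emb (ι₂ r)) w₂) := by
  have h : Submodule.map (wt ρ (rad (F := F) (ι' := ι')) 0).subtype
      (wt (fixedRep ρ) ι₁ w₁ ⊓ wt (fixedRep ρ) ι₂ w₂) =
      wt ρ (rad (F := F) (ι' := ι')) 0 ⊓ wt ρ (fun r => emb (ι₁ r)) w₁ ⊓
        wt ρ (fun r => emb (ι₂ r)) w₂ := by
    rw [Submodule.map_inf _ (Submodule.injective_subtype _), map_wt_fixedRep, map_wt_fixedRep]
    ext m
    simp only [Submodule.mem_inf]
    tauto
  rw [← h, Submodule.finrank_map_subtype_eq]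

/-- **P3**: the fixed space is a non-trivial `SL ι'`-module as soon as it carries a non-zero
weight of `rb`. -/
theorem fixedRep_nontrivial {J : Type*} [Fintype J] [DecidableEq J]
    (ρ : Representation ℂ (SpecialLinearGroup (Unit ⊕ (Unit ⊕ J)) F) M)
    (w : J → F) (hw : w ≠ 0)
    (h0 : finrank ℂ ↥(wt ρ (rad (F := F) (ι' := Unit ⊕ J)) 0 ⊓ wt ρ (rb (F := F) (J := J)) w) ≠ 0) :
    ∃ g, fixedRep ρ g ≠ 1 := by
  have hne : wt ρ (rad (F := F) (ι' := Unit ⊕ J)) 0 ⊓ wt ρ (rb (F := F) (J := J)) w ≠ ⊥ := by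
    intro h
    rw [h, finrank_bot] at h0
    exact h0 rfl
  obtain ⟨m, hm, hm0⟩ := Submodule.exists_mem_ne_zero_of_ne_bot hne
  obtain ⟨r, hr⟩ := exists_eps_ne (F := F) hw
  rw [zero_dotProduct, AddChar.map_zero_eq_one] at hr
  refine ⟨rad r, fun h => ?_⟩
  have h1 : ρ (emb (rad r)) m = m := by
    have := congrArg (fun f => ((f ⟨m, hm.1⟩ : ↥(wt ρ (rad (F := F) (ι' := Unit ⊕ J)) 0)) : M)) h
    exact this
  have h2 : ρ (emb (rad r)) m = (eps F (w ⬝ᵥ r)) • m := hm.2 r
  rw [h1] at h2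
  have h3 : ((1 : ℂ) - eps F (w ⬝ᵥ r)) • m = 0 := by
    rw [sub_smul, one_smul, ← h2, sub_self]
  rcases smul_eq_zero.mp h3 with h4 | h4
  · exact hr (sub_eq_zero.mp h4).symm
  · exact hm0 h4

/-- **P4**: lower bound for the doubly fixed space, given stage 1. -/
theorem finrank_fixed2_ge {J : Type*} [Fintype J] [DecidableEq J]
    (ρ : Representation ℂ (SpecialLinearGroup (Unit ⊕ (Unit ⊕ (Unit ⊕ J))) F) M)
    (h1 : ∀ w : J → F, w ≠ 0 →
      finrank ℂ ↥(wt ρ (rad (F := F) (ι' := Unit ⊕ (Unit ⊕ J))) 0 ⊓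
        wt ρ (rb (F := F) (J := Unit ⊕ J)) 0 ⊓
        wt ρ (fun w : J → F => emb (rb (F := F) (J := J) w)) w) = 1) :
    Fintype.card F ^ Fintype.card J - 1 ≤
      finrank ℂ ↥(wt ρ (rad (F := F) (ι' := Unit ⊕ (Unit ⊕ J))) 0 ⊓
        wt ρ (rb (F := F) (J := Unit ⊕ J)) 0) := by
  have hinv : ∀ r : J → F, ∀ m ∈ wt ρ (rad (F := F) (ι' := Unit ⊕ (Unit ⊕ J))) 0 ⊓
      wt ρ (rb (F := F) (J := Unit ⊕ J)) 0,
      ρ (emb (rb (F := F) (J := J) r)) m ∈ wt ρ (rad (F := F) (ι' := Unit ⊕ (Unit ⊕ J))) 0 ⊓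
        wt ρ (rb (F := F) (J := Unit ⊕ J)) 0 := by
    rintro r m ⟨hm1, hm2⟩
    refine ⟨emb_mem_fixed ρ _ m hm1, ?_⟩
    -- `rb r = emb (rad r)` normalises the radical of `SL (Unit ⊕ (Unit ⊕ J))`
    intro s
    have hrel : rad (F := F) (ι' := Unit ⊕ J) s * rb (F := F) (J := J) r =
        rb (F := F) (J := J) r * rad (s ᵥ* ((rad (F := F) (ι' := J) r :
          SpecialLinearGroup (Unit ⊕ J) F) : Matrix (Unit ⊕ J) (Unit ⊕ J) F)) :=
      Cfsg.Agent.Lib.Helper29.SLMin.rad_mul_emb (rad r) s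
    have hc : ρ (rb (F := F) (J := Unit ⊕ J) s) (ρ (emb (rb (F := F) (J := J) r)) m) =
        ρ (emb (rb (F := F) (J := J) r)) (ρ (rb (F := F) (J := Unit ⊕ J)
          (s ᵥ* ((rad (F := F) (ι' := J) r :
          SpecialLinearGroup (Unit ⊕ J) F) : Matrix (Unit ⊕ J) (Unit ⊕ J) F))) m) := by
      show (ρ (emb (rad s)) * ρ (emb (rb (F := F) (J := J) r))) m =
        (ρ (emb (rb (F := F) (J := J) r)) * ρ (emb (rad _))) m
      rw [← map_mul, ← map_mul, ← map_mul, ← map_mul, hrel]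
    rw [hc, hm2 _, zero_dotProduct, zero_dotProduct]
    rw [map_smul]
  have hadd : ∀ r s : J → F, (fun w : J → F => emb (rb (F := F) (J := J) w)) (r + s) =
      (fun w : J → F => emb (rb (F := F) (J := J) w)) r *
        (fun w : J → F => emb (rb (F := F) (J := J) w)) s := by
    intro r s
    show emb (rb (r + s)) = emb (rb r) * emb (rb s)
    rw [rb_add, map_mul]
  have h := finrank_eq_sum_inf_wt ρ (fun w : J → F => emb (rb (F := F) (J := J) w)) hadd
    (wt ρ (rad (F := F) (ι' := Unit ⊕ (Unit ⊕ J))) 0 ⊓ wt ρ (rb (F := F) (J := Unit ⊕ J)) 0) hinv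
  rw [h, ← Finset.add_sum_erase Finset.univ _ (Finset.mem_univ (0 : J → F))]
  rw [Finset.sum_congr rfl (fun u hu => h1 u (Finset.ne_of_mem_erase hu)), Finset.sum_const,
    card_erase_zero, smul_eq_mul, mul_one]
  exact Nat.le_add_left _ _

end Spine

end Cfsg.Agent.Lib.Helper13.SLMin
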