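/-
helper13 (S2332, abstract stage lemma A2 of helper16's plan, step (v) = the mixing argument):
if every `N₀ ⊓ wt α 0 ⊓ wt β w` (`w ≠ 0`) is a line, then `x` acts trivially on it.
Same section-A context as `notes/S2332_leaves.lean`.
-/
import Mathlib
import Cfsg.Agent.Lib.Helper16.SLMinDefs
import Cfsg.Agent.Lib.Helper13.SLMinW

set_option autoImplicit false
set_option linter.unusedSectionVars false
set_option linter.unusedVariables false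

namespace Cfsg.Agent.Lib.Helper13.SLMin

open Matrix Module Cfsg.Agent.Lib.Helper16.SLMin

section A

variable {F : Type*} [Field F] [Fintype F] [DecidableEq F] {H : Type*} [Group H] {M : Type*}
  [AddCommGroup M] [Module ℂ M] [FiniteDimensional ℂ M] (ρ : Representation ℂ H M)
  {J : Type*} [Fintype J] [DecidableEq J]
  (x : (Unit → F) → H) (α β : (J → F) → H)
  (hx : ∀ s t, x (s + t) = x s * x t) (hα : ∀ r s, α (r + s) = α r * α s)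
  (hβ : ∀ r s, β (r + s) = β r * β s)
  (hxα : ∀ t v, x t * α v = α v * x t) (hαβ : ∀ v w, α v * β w = β w * α v)
  (hxβ : ∀ t w, x t * β w * (x t)⁻¹ = β w * α (t () • w))
  (N₀ : Submodule ℂ M) (hN₀x : ∀ t, ∀ m ∈ N₀, ρ (x t) m ∈ N₀)
  (hN₀α : ∀ v, ∀ m ∈ N₀, ρ (α v) m ∈ N₀) (hN₀β : ∀ w, ∀ m ∈ N₀, ρ (β w) m ∈ N₀)
  (hM1 : ∀ (a : Unit → F) (v : J → F), (a ≠ 0 ∨ v ≠ 0) →
    finrank ℂ ↥(N₀ ⊓ wt ρ x a ⊓ wt ρ α v) = 1)

include hx hα hβ hxα hαβ hxβ hN₀x hN₀α hN₀β hM1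

/-- `x t` preserves the `α`-weight spaces (they commute). -/
theorem x_mem_wt_alpha (t : Unit → F) (v : J → F) (m : M) (hm : m ∈ wt ρ α v) :
    ρ (x t) m ∈ wt ρ α v := by
  intro r
  have h1 : ρ (α r) (ρ (x t) m) = ρ (x t) (ρ (α r) m) := by
    show (ρ (α r) * ρ (x t)) m = (ρ (x t) * ρ (α r)) m
    rw [← map_mul, ← map_mul, hxα]
  rw [h1, hm r, map_smul]

/-- `x t` preserves `wt α 0 ⊓ wt β w`. -/
theorem x_mem_wt_beta (t : Unit → F) (w : J → F) (m : M) (hma : m ∈ wt ρ α (0 : J → F))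
    (hmb : m ∈ wt ρ β w) : ρ (x t) m ∈ wt ρ β w := by
  intro w'
  have hrel : β w' * α (t () • w') * x t = x t * β w' := by
    rw [← hxβ t w', inv_mul_cancel_right]
  have h1 : ρ (β w') (ρ (α (t () • w')) (ρ (x t) m)) = ρ (x t) (ρ (β w') m) := by
    show ((ρ (β w') * ρ (α (t () • w'))) * ρ (x t)) m = (ρ (x t) * ρ (β w')) m
    rw [← map_mul, ← map_mul, ← map_mul, hrel]
  have h2 : ρ (α (t () • w')) (ρ (x t) m) = ρ (x t) m := by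
    have h3 := x_mem_wt_alpha ρ x α β hx hα hβ hxα hαβ hxβ N₀ hN₀x hN₀α hN₀β hM1 t 0 m hma
      (t () • w')
    rw [zero_dotProduct, AddChar.map_zero_eq_one, one_smul] at h3
    exact h3
  rw [h2] at h1
  rw [h1, hmb w', map_smul]

/-- A2, step (v): the mixing argument. -/
theorem stage_step_v
    (hL : ∀ w : J → F, w ≠ 0 → finrank ℂ ↥(N₀ ⊓ wt ρ α 0 ⊓ wt ρ β w) = 1)
    (hMix : ∀ a : Unit → F, a ≠ 0 → ∀ w : J → F, w ≠ 0 → ∃ (g : H) (w' : J → F), w' ≠ w ∧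
      Submodule.map (ρ g) (N₀ ⊓ wt ρ x a ⊓ wt ρ α 0) = N₀ ⊓ wt ρ x a ⊓ wt ρ α 0 ∧
      Submodule.map (ρ g) (N₀ ⊓ wt ρ α 0 ⊓ wt ρ β w) = N₀ ⊓ wt ρ α 0 ⊓ wt ρ β w') :
    ∀ w : J → F, w ≠ 0 → finrank ℂ ↥(N₀ ⊓ wt ρ x 0 ⊓ wt ρ α 0 ⊓ wt ρ β w) = 1 := by
  intro w hw
  obtain ⟨L, hLdef⟩ : ∃ L : Submodule ℂ M, L = N₀ ⊓ wt ρ α 0 ⊓ wt ρ β w := ⟨_, rfl⟩
  have hL1 : finrank ℂ ↥L = 1 := by rw [hLdef]; exact hL w hw
  -- `L` is `x`-invariant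
  have hinv : ∀ t, ∀ m ∈ L, ρ (x t) m ∈ L := by
    intro t m hm
    rw [hLdef] at hm ⊢
    obtain ⟨⟨hm0, hma⟩, hmb⟩ := hm
    exact ⟨⟨hN₀x t m hm0,
      x_mem_wt_alpha ρ x α β hx hα hβ hxα hαβ hxβ N₀ hN₀x hN₀α hN₀β hM1 t 0 m hma⟩,
      x_mem_wt_beta ρ x α β hx hα hβ hxα hαβ hxβ N₀ hN₀x hN₀α hN₀β hM1 t w m hma hmb⟩
  -- the unique `x`-weight on the line `L`
  have hsum := finrank_eq_sum_inf_wt ρ x hx L hinv
  rw [hL1] at hsum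
  have hex : ∃ a₀ : Unit → F, finrank ℂ ↥(L ⊓ wt ρ x a₀) ≠ 0 := by
    by_contra hcon
    have h0 : ∀ a ∈ (Finset.univ : Finset (Unit → F)), finrank ℂ ↥(L ⊓ wt ρ x a) = 0 := by
      intro a _
      exact not_not.mp fun hne => hcon ⟨a, hne⟩
    rw [Finset.sum_eq_zero h0] at hsum
    exact one_ne_zero hsum
  obtain ⟨a₀, ha₀⟩ := hex
  have hle1 : finrank ℂ ↥(L ⊓ wt ρ x a₀) ≤ finrank ℂ ↥L := Submodule.finrank_mono inf_le_left
  have heq1 : L ⊓ wt ρ x a₀ = L :=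
    Submodule.eq_of_le_of_finrank_eq inf_le_left (by omega)
  have hLx : L ≤ wt ρ x a₀ := inf_eq_left.mp heq1
  have hLN : L ≤ N₀ := by rw [hLdef]; exact inf_le_left.trans inf_le_left
  have hLa : L ≤ wt ρ α (0 : J → F) := by rw [hLdef]; exact inf_le_left.trans inf_le_right
  have hLb : L ≤ wt ρ β w := by rw [hLdef]; exact inf_le_right
  -- `a₀ = 0`
  have ha0 : a₀ = 0 := by
    by_contra hne
    have hP1 : finrank ℂ ↥(N₀ ⊓ wt ρ x a₀ ⊓ wt ρ α (0 : J → F)) = 1 := hM1 a₀ 0 (Or.inl hne)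
    have hLP : L ≤ N₀ ⊓ wt ρ x a₀ ⊓ wt ρ α (0 : J → F) := le_inf (le_inf hLN hLx) hLa
    have hLP' : L = N₀ ⊓ wt ρ x a₀ ⊓ wt ρ α (0 : J → F) :=
      Submodule.eq_of_le_of_finrank_eq hLP (by rw [hL1, hP1])
    obtain ⟨g, w', hw', hg1, hg2⟩ := hMix a₀ hne w hw
    rw [← hLdef] at hg2
    rw [← hLP'] at hg1
    have hLL : L = N₀ ⊓ wt ρ α 0 ⊓ wt ρ β w' := by rw [← hg2, hg1]
    have hLb' : L ≤ wt ρ β w' := by
      conv_lhs => rw [hLL]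
      exact inf_le_right
    have hbot : L ≤ ⊥ := by
      rw [← wt_inf_wt_eq_bot ρ β (Ne.symm hw')]
      exact le_inf hLb hLb'
    have hLbot : L = ⊥ := eq_bot_iff.mpr hbot
    rw [hLbot, finrank_bot] at hL1
    exact zero_ne_one hL1
  rw [ha0] at hLx
  have hfin : N₀ ⊓ wt ρ x 0 ⊓ wt ρ α 0 ⊓ wt ρ β w = L := by
    apply le_antisymm
    · rw [hLdef]
      exact le_inf (le_inf (inf_le_left.trans (inf_le_left.trans inf_le_left))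
        (inf_le_left.trans inf_le_right)) inf_le_right
    · exact le_inf (le_inf (le_inf hLN hLx) hLa) hLb
  rw [hfin, hL1]

end A

end Cfsg.Agent.Lib.Helper13.SLMin
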