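/-
helper13: a norm estimate on `SL₂(F)` (`q` odd): central and `±`unipotent elements already account
for `4q(q-1)` in `∑ |θ|²` for the restriction of a cuspidal character of `GL₂`.
-/
import Mathlib
import Cfsg.Agent.Lib.Helper13.SLElliptic

set_option autoImplicit false

namespace Cfsg.Agent.Lib.Helper13

open Matrix Cfsg Cfsg.Agent.CharLib
open scoped ComplexConjugate

variable {F : Type*} [Field F]

/-- `±1` in `SL₂`. -/
def sgnSL (b : Bool) : SpecialLinearGroup (Fin 2) F :=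
  ⟨!![(if b then -1 else 1 : F), 0; 0, (if b then -1 else 1 : F)], by
    cases b <;> simp [Matrix.det_fin_two]⟩

theorem sgnSL_coe (b : Bool) : ((sgnSL b : SpecialLinearGroup (Fin 2) F) : Matrix (Fin 2) (Fin 2) F) =
    !![(if b then -1 else 1 : F), 0; 0, (if b then -1 else 1 : F)] := rfl

/-- The lower unitriangular elements of `SL₂`. -/
def lowSL (s : F) : SpecialLinearGroup (Fin 2) F :=
  ⟨!![1, 0; s, 1], by simp [Matrix.det_fin_two]⟩

theorem lowSL_coe (s : F) : ((lowSL s : SpecialLinearGroup (Fin 2) F) : Matrix (Fin 2) (Fin 2) F) =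
    !![1, 0; s, 1] := rfl

theorem toGL_lowSL (s : F) : SpecialLinearGroup.toGL (lowSL s) = lGL s := Units.ext rfl

/-- The unipotent elements of `SL₂`: `1`, the conjugates `l_s u_t l_s⁻¹` (`t ≠ 0`), and `l_s` (`s ≠ 0`). -/
def eSL : Unit ⊕ (F × Fˣ) ⊕ Fˣ → SpecialLinearGroup (Fin 2) F
  | Sum.inl _ => 1
  | Sum.inr (Sum.inl p) => lowSL p.1 * upSL (p.2 : F) * (lowSL p.1)⁻¹
  | Sum.inr (Sum.inr s) => lowSL (s : F)

theorem eSL_mid_coe (p : F × Fˣ) :
    ((eSL (Sum.inr (Sum.inl p)) : SpecialLinearGroup (Fin 2) F) : Matrix (Fin 2) (Fin 2) F) =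
      !![1 - p.1 * p.2, (p.2 : F); -(p.1 ^ 2 * p.2), 1 + p.1 * p.2] := by
  change ((lowSL p.1 * upSL (p.2 : F) * (lowSL p.1)⁻¹ : SpecialLinearGroup (Fin 2) F) :
    Matrix (Fin 2) (Fin 2) F) = _
  have hinv : (lowSL p.1)⁻¹ = lowSL (-p.1) := by
    rw [inv_eq_iff_mul_eq_one]
    apply Subtype.ext
    change (!![1, 0; p.1, 1] : Matrix (Fin 2) (Fin 2) F) * !![1, 0; -p.1, 1] = 1
    rw [Matrix.mul_fin_two]
    ext i j
    fin_cases i <;> fin_cases j <;> simp
  rw [hinv]
  change (!![1, 0; p.1, 1] : Matrix (Fin 2) (Fin 2) F) * !![1, (p.2 : F); 0, 1] * !![1, 0; -p.1, 1] = _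
  rw [Matrix.mul_fin_two, Matrix.mul_fin_two]
  ext i j
  fin_cases i <;> fin_cases j <;> simp <;> ring

/-- The elements `± e`. -/
def jSL (i : Bool × (Unit ⊕ (F × Fˣ) ⊕ Fˣ)) : SpecialLinearGroup (Fin 2) F :=
  sgnSL i.1 * eSL i.2

theorem eSL_trace (x : Unit ⊕ (F × Fˣ) ⊕ Fˣ) :
    ((eSL x : SpecialLinearGroup (Fin 2) F) : Matrix (Fin 2) (Fin 2) F).trace = 2 := by
  rcases x with _ | p | s
  · change (1 : Matrix (Fin 2) (Fin 2) F).trace = 2
    rw [Matrix.trace_fin_two]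
    simp
    norm_num
  · rw [eSL_mid_coe, Matrix.trace_fin_two]
    simp
    ring
  · change (!![1, 0; (s : F), 1] : Matrix (Fin 2) (Fin 2) F).trace = 2
    rw [Matrix.trace_fin_two]
    simp
    norm_num

theorem jSL_coe (i : Bool × (Unit ⊕ (F × Fˣ) ⊕ Fˣ)) :
    ((jSL i : SpecialLinearGroup (Fin 2) F) : Matrix (Fin 2) (Fin 2) F) =
      (if i.1 then -1 else 1 : F) • ((eSL i.2 : SpecialLinearGroup (Fin 2) F) : Matrix (Fin 2) (Fin 2) F) := by
  change (!![(if i.1 then -1 else 1 : F), 0; 0, (if i.1 then -1 else 1 : F)] : Matrix (Fin 2) (Fin 2) F) *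
    ((eSL i.2 : SpecialLinearGroup (Fin 2) F) : Matrix (Fin 2) (Fin 2) F) = _
  conv_lhs => rw [Matrix.eta_fin_two ((eSL i.2 : SpecialLinearGroup (Fin 2) F) : Matrix (Fin 2) (Fin 2) F)]
  rw [Matrix.mul_fin_two]
  ext a b
  fin_cases a <;> fin_cases b <;> simp

theorem jSL_trace (i : Bool × (Unit ⊕ (F × Fˣ) ⊕ Fˣ)) :
    ((jSL i : SpecialLinearGroup (Fin 2) F) : Matrix (Fin 2) (Fin 2) F).trace =
      (if i.1 then -1 else 1 : F) * 2 := by
  rw [jSL_coe, Matrix.trace_smul, eSL_trace, smul_eq_mul]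

theorem jSL_trace_sq (i : Bool × (Unit ⊕ (F × Fˣ) ⊕ Fˣ)) :
    ((jSL i : SpecialLinearGroup (Fin 2) F) : Matrix (Fin 2) (Fin 2) F).trace ^ 2 = 4 := by
  rw [jSL_trace]
  rcases i with ⟨b, x⟩
  cases b <;> simp <;> norm_num

theorem eSL_injective : Function.Injective (fun x : Unit ⊕ (F × Fˣ) ⊕ Fˣ =>
    ((eSL x : SpecialLinearGroup (Fin 2) F) : Matrix (Fin 2) (Fin 2) F)) := by
  intro x y h
  simp only at h
  rcases x with _ | p | s <;> rcases y with _ | p' | s'
  · rfl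
  · exfalso
    rw [eSL_mid_coe] at h
    have h01 := congr_fun (congr_fun h 0) 1
    change (1 : Matrix (Fin 2) (Fin 2) F) 0 1 = _ at h01
    simp at h01
    exact p'.2.ne_zero h01.symm
  · exfalso
    have h10 := congr_fun (congr_fun h 1) 0
    change (1 : Matrix (Fin 2) (Fin 2) F) 1 0 =
      (!![1, 0; (s' : F), 1] : Matrix (Fin 2) (Fin 2) F) 1 0 at h10
    simp at h10
    exact s'.ne_zero h10.symm
  · exfalso
    rw [eSL_mid_coe] at h
    have h01 := congr_fun (congr_fun h 0) 1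
    change _ = (1 : Matrix (Fin 2) (Fin 2) F) 0 1 at h01
    simp at h01
  · rw [eSL_mid_coe, eSL_mid_coe] at h
    have h01 := congr_fun (congr_fun h 0) 1
    have h00 := congr_fun (congr_fun h 0) 0
    simp at h01 h00
    have ht : p.2 = p'.2 := Units.ext h01
    have hs : p.1 = p'.1 := by
      rw [h01] at h00
      exact mul_right_cancel₀ p'.2.ne_zero h00
    rw [Prod.ext hs ht]
  · exfalso
    rw [eSL_mid_coe] at h
    have h01 := congr_fun (congr_fun h 0) 1
    change _ = (!![1, 0; (s' : F), 1] : Matrix (Fin 2) (Fin 2) F) 0 1 at h01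
    simp at h01
  · exfalso
    have h10 := congr_fun (congr_fun h 1) 0
    change (!![1, 0; (s : F), 1] : Matrix (Fin 2) (Fin 2) F) 1 0 =
      (1 : Matrix (Fin 2) (Fin 2) F) 1 0 at h10
    simp at h10
  · exfalso
    rw [eSL_mid_coe] at h
    have h01 := congr_fun (congr_fun h 0) 1
    change (!![1, 0; (s : F), 1] : Matrix (Fin 2) (Fin 2) F) 0 1 = _ at h01
    simp at h01
    exact p'.2.ne_zero h01.symm
  · have h10 := congr_fun (congr_fun h 1) 0
    change (!![1, 0; (s : F), 1] : Matrix (Fin 2) (Fin 2) F) 1 0 =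
      (!![1, 0; (s' : F), 1] : Matrix (Fin 2) (Fin 2) F) 1 0 at h10
    simp at h10
    rw [Units.ext h10]

theorem jSL_injective (h2 : (2 : F) ≠ 0) : Function.Injective (jSL (F := F)) := by
  rintro ⟨b, x⟩ ⟨b', x'⟩ h
  have hm : ((jSL (b, x) : SpecialLinearGroup (Fin 2) F) : Matrix (Fin 2) (Fin 2) F) =
      ((jSL (b', x') : SpecialLinearGroup (Fin 2) F) : Matrix (Fin 2) (Fin 2) F) := by rw [h]
  have htr := congrArg Matrix.trace hm
  rw [jSL_trace, jSL_trace] at htr
  have hb : b = b' := by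
    have := mul_right_cancel₀ h2 htr
    cases b <;> cases b'
    · rfl
    · exfalso
      simp at this
      apply h2
      linear_combination this
    · exfalso
      simp at this
      apply h2
      linear_combination -this
    · rfl
  subst hb
  rw [jSL_coe, jSL_coe] at hm
  have hε : (if b then -1 else 1 : F) ≠ 0 := by cases b <;> simp
  have hx : ((eSL x : SpecialLinearGroup (Fin 2) F) : Matrix (Fin 2) (Fin 2) F) =
      ((eSL x' : SpecialLinearGroup (Fin 2) F) : Matrix (Fin 2) (Fin 2) F) := by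
    have := congrArg (fun M : Matrix (Fin 2) (Fin 2) F => (if b then -1 else 1 : F)⁻¹ • M) hm
    simp only [smul_smul, inv_mul_cancel₀ hε, one_smul] at this
    exact this
  rw [eSL_injective hx]


theorem toGL_sgnSL_mem_center (b : Bool) :
    SpecialLinearGroup.toGL (sgnSL (F := F) b) ∈ Subgroup.center (GL (Fin 2) F) := by
  rw [Subgroup.mem_center_iff]
  intro g
  apply Units.ext
  rw [Units.val_mul, Units.val_mul]
  change (g : Matrix (Fin 2) (Fin 2) F) * !![(if b then -1 else 1 : F), 0; 0, (if b then -1 else 1 : F)] =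
    !![(if b then -1 else 1 : F), 0; 0, (if b then -1 else 1 : F)] * (g : Matrix (Fin 2) (Fin 2) F)
  ext i j
  fin_cases i <;> fin_cases j <;> simp [Matrix.mul_apply, Fin.sum_univ_two, mul_comm]

section finite

variable [Fintype F] [DecidableEq F]

/-- **Norm estimate**: if the restriction to `SL₂` of an irreducible character `χ` of `GL₂` with
`χ 1 = q - 1` and `χ (u) = -1` is irreducible, then at any `g` whose trace is not `±2` the value
satisfies `|χ g|² + 4 q (q-1) ≤ q (q² - 1)`. -/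
theorem cusp_elliptic_bound (h2 : (2 : F) ≠ 0) {χ : GL (Fin 2) F → ℂ}
    (hχ : IsIrrCharacter (GL (Fin 2) F) χ)
    (hd : χ 1 = (Fintype.card F : ℂ) - 1) (hu : χ (tGL 1) = -1)
    (hres : IsIrrCharacter (SpecialLinearGroup (Fin 2) F) (resSL χ))
    (g : SpecialLinearGroup (Fin 2) F)
    (hg : (g : Matrix (Fin 2) (Fin 2) F).trace ^ 2 ≠ 4) :
    ‖χ (SpecialLinearGroup.toGL g)‖ ^ 2 + 4 * (Fintype.card F : ℝ) * ((Fintype.card F : ℝ) - 1) ≤
      (Fintype.card F : ℝ) * ((Fintype.card F : ℝ) - 1) * ((Fintype.card F : ℝ) + 1) := by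
  have hcf := IsCharacter.isClassFunction (IsIrrCharacter.isCharacter hχ)
  obtain ⟨c, hc1, hc2⟩ := Cfsg.Agent.Lib.Helper6.IsIrrCharacter.exists_central_hom hχ
  have hq1 : (1 : ℝ) < (Fintype.card F : ℝ) := by exact_mod_cast Fintype.one_lt_card
  have hsgn : ∀ (b : Bool) (y : SpecialLinearGroup (Fin 2) F),
      ‖resSL χ (sgnSL b * y)‖ = ‖χ (SpecialLinearGroup.toGL y)‖ := by
    intro b y
    rw [resSL_apply, map_mul]
    have := hc1 ⟨SpecialLinearGroup.toGL (sgnSL b), toGL_sgnSL_mem_center b⟩ (SpecialLinearGroup.toGL y)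
    rw [this, norm_mul, hc2, one_mul]
  have hn1 : ‖χ 1‖ = (Fintype.card F : ℝ) - 1 := by
    rw [hd]
    have : ((Fintype.card F : ℂ) - 1) = (((Fintype.card F : ℝ) - 1 : ℝ) : ℂ) := by push_cast; ring
    rw [this, Complex.norm_real, Real.norm_of_nonneg (by linarith)]
  have hnu : ‖χ (tGL 1)‖ = 1 := by rw [hu, norm_neg, norm_one]
  have hval : ∀ x : Unit ⊕ (F × Fˣ) ⊕ Fˣ, ‖χ (SpecialLinearGroup.toGL (eSL x))‖ ^ 2 =
      Sum.elim (fun _ => ((Fintype.card F : ℝ) - 1) ^ 2) (fun _ => 1) x := by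
    intro x
    rcases x with _ | p | s
    · change ‖χ (SpecialLinearGroup.toGL 1)‖ ^ 2 = _
      rw [map_one, hn1]
      rfl
    · change ‖χ (SpecialLinearGroup.toGL (lowSL p.1 * upSL (p.2 : F) * (lowSL p.1)⁻¹))‖ ^ 2 = _
      rw [map_mul, map_mul, map_inv, hcf, toGL_upSL, classFunction_tGL hcf p.2.ne_zero, hnu]
      simp
    · change ‖χ (SpecialLinearGroup.toGL (lowSL (s : F)))‖ ^ 2 = _
      rw [toGL_lowSL, lGL_eq, hcf, classFunction_tGL hcf s.ne_zero, hnu]
      simp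
  have hnotin : g ∉ Finset.univ.image (jSL (F := F)) := by
    intro h
    obtain ⟨i, -, hi⟩ := Finset.mem_image.mp h
    apply hg
    rw [← hi, jSL_trace_sq]
  have hsub : Finset.univ.image (jSL (F := F)) ⊆ Finset.univ.erase g := by
    intro y hy
    rw [Finset.mem_erase]
    refine ⟨?_, Finset.mem_univ _⟩
    rintro rfl
    exact hnotin hy
  have hle : ∑ i : Bool × (Unit ⊕ (F × Fˣ) ⊕ Fˣ), ‖resSL χ (jSL i)‖ ^ 2 ≤
      ∑ y ∈ Finset.univ.erase g, ‖resSL χ y‖ ^ 2 := by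
    rw [← Finset.sum_image (f := fun y => ‖resSL χ y‖ ^ 2) (s := Finset.univ) (g := jSL)
      (fun a _ b _ hab => jSL_injective h2 hab)]
    apply Finset.sum_le_sum_of_subset_of_nonneg hsub
    intro y _ _
    positivity
  have htot := sum_norm_sq_irr hres
  rw [← Finset.add_sum_erase Finset.univ (fun y => ‖resSL χ y‖ ^ 2) (Finset.mem_univ g)] at htot
  have hcard : (Nat.card (SpecialLinearGroup (Fin 2) F) : ℝ) =
      (Fintype.card F : ℝ) * ((Fintype.card F : ℝ) - 1) * ((Fintype.card F : ℝ) + 1) := by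
    rw [card_SL2]
    have : 1 ≤ Fintype.card F ^ 2 := Nat.one_le_pow _ _ Fintype.card_pos
    push_cast [Nat.cast_sub this]
    ring
  have hsum : ∑ i : Bool × (Unit ⊕ (F × Fˣ) ⊕ Fˣ), ‖resSL χ (jSL i)‖ ^ 2 =
      4 * (Fintype.card F : ℝ) * ((Fintype.card F : ℝ) - 1) := by
    have : ∀ i : Bool × (Unit ⊕ (F × Fˣ) ⊕ Fˣ), ‖resSL χ (jSL i)‖ ^ 2 =
        Sum.elim (fun _ => ((Fintype.card F : ℝ) - 1) ^ 2) (fun _ => 1) i.2 := by
      intro i
      change ‖resSL χ (sgnSL i.1 * eSL i.2)‖ ^ 2 = _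
      rw [hsgn, hval]
    rw [Finset.sum_congr rfl (fun i _ => this i), Fintype.sum_prod_type]
    simp only [Fintype.sum_sum_type, Sum.elim_inl, Sum.elim_inr, Finset.sum_const, Finset.card_univ,
      nsmul_eq_mul, Fintype.card_bool, Fintype.card_unit]
    rw [Fintype.card_sum, Fintype.card_prod, Fintype.card_units]
    have h1 : 1 ≤ Fintype.card F := Fintype.card_pos
    push_cast [Nat.cast_sub h1]
    ring
  rw [hsum] at hle
  rw [hcard] at htot
  have : resSL χ g = χ (SpecialLinearGroup.toGL g) := rfl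
  rw [this] at htot
  linarith

end finite

end Cfsg.Agent.Lib.Helper13
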