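import Mathlib
import Cfsg.Agent.Lib.Helper2.SOTDefs
import Cfsg.Agent.Lib.Helper28.SOTBDefs
import Cfsg.Agent.Lib.Helper9.SpTNU
import Cfsg.Agent.Lib.Helper25.TensS

/-!
S5666 part (B) leaves (NIL) `exists_nilp` and (SA2) `scalar_of_selfadj_two` (pure `2 × 2` algebra), exact signatures of
`notes/S5666_B_leaves.lean` (helper28's sub-market).
-/

set_option autoImplicit false
set_option linter.unusedSectionVars false
set_option linter.unusedVariables false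

namespace Cfsg.Agent.Lib.Helper13.SOTBLeaf
open Matrix
open Cfsg.Agent.Lib.Helper25.Tens Cfsg.Agent.Lib.Helper25.TensLeaves Cfsg.Agent.Lib.Helper25.SpT
open Cfsg.Agent.Lib.Helper19.OSub
open Cfsg.Agent.Lib.Helper2.SOT Cfsg.Agent.Lib.Helper28.SOTB
open scoped Kronecker

variable {F : Type*} [Field F] [Fintype F] {b : ℕ} {G : Matrix (Fin b) (Fin b) F}
  {M : Subgroup (GL (Idx 2 b) F)} {o o' : Fin b}

/-- the unit `!![1, t; 0, 1]` -/
def upT (t : F) : GL (Fin 2) F :=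
  ⟨!![1, t; 0, 1], !![1, -t; 0, 1], by ext i j; fin_cases i <;> fin_cases j <;> simp [Matrix.mul_apply, Fin.sum_univ_two],
    by ext i j; fin_cases i <;> fin_cases j <;> simp [Matrix.mul_apply, Fin.sum_univ_two]⟩

/-- the unit `!![0, 1; -1, 0]` -/
def wT : GL (Fin 2) F :=
  ⟨!![0, 1; -1, 0], !![0, -1; 1, 0], by ext i j; fin_cases i <;> fin_cases j <;> simp [Matrix.mul_apply, Fin.sum_univ_two],
    by ext i j; fin_cases i <;> fin_cases j <;> simp [Matrix.mul_apply, Fin.sum_univ_two]⟩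

lemma upT_det (t : F) : (upT t).1.det = 1 := by
  simp [upT, Matrix.det_fin_two]

lemma wT_det : (wT : GL (Fin 2) F).1.det = 1 := by
  simp [wT, Matrix.det_fin_two]

lemma upT_conj (t : F) (C : Matrix (Fin 2) (Fin 2) F) :
    (upT t).1 * C * ((upT t)⁻¹).1 =
      !![C 0 0 + t * C 1 0, -t * C 0 0 - t * t * C 1 0 + C 0 1 + t * C 1 1; C 1 0, -t * C 1 0 + C 1 1] := by
  change !![1, t; 0, 1] * C * !![1, -t; 0, 1] = _
  conv_lhs => rw [Matrix.eta_fin_two C]
  rw [Matrix.mul_fin_two, Matrix.mul_fin_two]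
  ext i j
  fin_cases i <;> fin_cases j <;> simp <;> ring

lemma wT_conj (C : Matrix (Fin 2) (Fin 2) F) :
    (wT : GL (Fin 2) F).1 * C * ((wT : GL (Fin 2) F)⁻¹).1 = !![C 1 1, -C 1 0; -C 0 1, C 0 0] := by
  change !![0, 1; -1, 0] * C * !![0, -1; 1, 0] = _
  conv_lhs => rw [Matrix.eta_fin_two C]
  rw [Matrix.mul_fin_two, Matrix.mul_fin_two]
  ext i j
  fin_cases i <;> fin_cases j <;> simp

/-- core: if `C 1 0 ≠ 0` -/
lemma exists_nilp_aux (h2 : (2 : F) ≠ 0) (Ξ : AddSubgroup (Matrix (Fin 2) (Fin 2) F))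
    (hconj : ∀ α : GL (Fin 2) F, α.1.det = 1 → ∀ C ∈ Ξ, α.1 * C * (α⁻¹).1 ∈ Ξ)
    (C : Matrix (Fin 2) (Fin 2) F) (hC : C ∈ Ξ) (hr : C 1 0 ≠ 0) :
    ∃ c : F, c ≠ 0 ∧ c • Matrix.single (0 : Fin 2) (1 : Fin 2) (1 : F) ∈ Ξ := by
  refine ⟨-2 * C 1 0, mul_ne_zero (neg_ne_zero.2 h2) hr, ?_⟩
  have h1 := hconj (upT 1) (upT_det 1) C hC
  have h2' := hconj (upT (-1)) (upT_det (-1)) C hC
  have h3 := Ξ.add_mem (Ξ.sub_mem h1 hC) (Ξ.sub_mem h2' hC)
  convert h3 using 1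
  rw [upT_conj, upT_conj]
  ext i j
  fin_cases i <;> fin_cases j <;> simp [Matrix.single] <;> ring

/-- (NIL) -/
theorem exists_nilp (h2 : (2 : F) ≠ 0) (Ξ : AddSubgroup (Matrix (Fin 2) (Fin 2) F))
    (hconj : ∀ α : GL (Fin 2) F, α.1.det = 1 → ∀ C ∈ Ξ, α.1 * C * (α⁻¹).1 ∈ Ξ)
    (C : Matrix (Fin 2) (Fin 2) F) (hC : C ∈ Ξ) (hC0 : C ≠ 0) (htr : C 0 0 + C 1 1 = 0) :
    ∃ c : F, c ≠ 0 ∧ c • Matrix.single (0 : Fin 2) (1 : Fin 2) (1 : F) ∈ Ξ := by
  by_cases hr : C 1 0 = 0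
  · by_cases hq : C 0 1 = 0
    · -- diagonal
      have hp : C 0 0 ≠ 0 := by
        intro hp
        apply hC0
        have h11 : C 1 1 = 0 := by rw [hp, zero_add] at htr; exact htr
        ext i j
        fin_cases i <;> fin_cases j <;> simp [hp, hq, hr, h11]
      refine ⟨-2 * C 0 0, mul_ne_zero (neg_ne_zero.2 h2) hp, ?_⟩
      have h1 := Ξ.sub_mem (hconj (upT 1) (upT_det 1) C hC) hC
      convert h1 using 1
      rw [upT_conj]
      have h11 : C 1 1 = - C 0 0 := by linear_combination htr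
      ext i j
      fin_cases i <;> fin_cases j <;> simp [Matrix.single, hr, hq, h11] <;> ring
    · have hw := hconj wT wT_det C hC
      rw [wT_conj] at hw
      exact exists_nilp_aux h2 Ξ hconj _ hw (by simpa using hq)
  · exact exists_nilp_aux h2 Ξ hconj C hC hr

/-- (SA2) -/
theorem scalar_of_selfadj_two (h2 : (2 : F) ≠ 0) (θ : Matrix (Fin 2) (Fin 2) F)
    (hθ : ∀ x x' : Fin 2 → F, sf (θ *ᵥ x) x' = sf x (θ *ᵥ x')) : IsScalarMat θ := by
  have h01 := hθ (Pi.single 0 1) (Pi.single 1 1)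
  have h00 := hθ (Pi.single 0 1) (Pi.single 0 1)
  have h11 := hθ (Pi.single 1 1) (Pi.single 1 1)
  simp only [sf_two, Matrix.mulVec_single_one, Matrix.col_apply, Pi.single_eq_same] at h01 h00 h11
  simp at h01 h00 h11
  refine ⟨θ 0 0, ?_⟩
  have e10 : θ 1 0 = 0 := by
    have : (2 : F) * θ 1 0 = 0 := by linear_combination (-1 : F) * h00
    rcases mul_eq_zero.1 this with h | h
    · exact absurd h h2
    · exact h
  have e01 : θ 0 1 = 0 := by
    have : (2 : F) * θ 0 1 = 0 := by linear_combination h11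
    rcases mul_eq_zero.1 this with h | h
    · exact absurd h h2
    · exact h
  ext i j
  fin_cases i <;> fin_cases j <;> simp [e10, e01, h01]

end Cfsg.Agent.Lib.Helper13.SOTBLeaf
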