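import Mathlib
import Cfsg.Agent.Lib.Helper2.SOTDefs
import Cfsg.Agent.Lib.Helper28.SOTBDefs
import Cfsg.Agent.Lib.Helper9.SpTNU
import Cfsg.Agent.Lib.Helper25.TensS
import Cfsg.Agent.Lib.Helper13.SOTBNil

/-!
S5666 part (B) leaf (CT) `corner_trivial` (`M ∩ U₂ = 1`), exact signature of `notes/S5666_B_leaves.lean`
(helper28's sub-market).
-/

set_option autoImplicit false
set_option linter.unusedSectionVars false
set_option linter.unusedVariables false

namespace Cfsg.Agent.Lib.Helper13.SOTBLeaf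
open Matrix
open Cfsg.Agent.Lib.Helper25.Tens Cfsg.Agent.Lib.Helper25.TensLeaves Cfsg.Agent.Lib.Helper25.SpT
open Cfsg.Agent.Lib.Helper19.OSub
open Cfsg.Agent.Lib.Helper2.SOT Cfsg.Agent.Lib.Helper28.SOTB
open scoped Kronecker

variable {F : Type*} [Field F] [Fintype F] {b : ℕ} {G : Matrix (Fin b) (Fin b) F}
  {M : Subgroup (GL (Idx 2 b) F)} {o o' : Fin b}

/-- `1 + C ⊗ E_{o,o'}` -/
def cMat {a : ℕ} (o o' : Fin b) (C : Matrix (Fin a) (Fin a) F) : Matrix (Idx a b) (Idx a b) F :=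
  1 + C ⊗ₖ (Matrix.single o o' (1 : F) : Matrix (Fin b) (Fin b) F)

lemma cMat_zero {a : ℕ} (o o' : Fin b) :
    cMat o o' (0 : Matrix (Fin a) (Fin a) F) = 1 := by
  unfold cMat
  rw [Matrix.zero_kronecker, add_zero]

lemma cMat_mul {a : ℕ} (hne : o ≠ o') (C C' : Matrix (Fin a) (Fin a) F) :
    cMat o o' C * cMat o o' C' = cMat o o' (C + C') := by
  unfold cMat
  rw [mul_add, add_mul, add_mul, one_mul, mul_one, one_mul, ← Matrix.mul_kronecker_mul,
    Matrix.single_mul_single_of_ne _ _ _ _ hne.symm, Matrix.kronecker_zero, add_zero,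
    Matrix.add_kronecker, add_assoc]

lemma cMat_conj {a : ℕ} (α α' : Matrix (Fin a) (Fin a) F) (hαα' : α * α' = 1)
    (C : Matrix (Fin a) (Fin a) F) :
    (α ⊗ₖ (1 : Matrix (Fin b) (Fin b) F)) * cMat o o' C * (α' ⊗ₖ (1 : Matrix (Fin b) (Fin b) F)) =
      cMat o o' (α * C * α') := by
  unfold cMat
  rw [mul_add, add_mul, mul_one, ← Matrix.mul_kronecker_mul, ← Matrix.mul_kronecker_mul,
    ← Matrix.mul_kronecker_mul, hαα', one_mul, mul_one, one_mul, Matrix.one_kronecker_one]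

lemma blk_cMat {a : ℕ} (C : Matrix (Fin a) (Fin a) F) (k l : Fin b) :
    blk (cMat o o' C) k l =
      (if k = l then (1 : Matrix (Fin a) (Fin a) F) else 0) + (if k = o ∧ l = o' then C else 0) := by
  unfold cMat
  rw [blk_add, blk_one, blk_kron, Matrix.single_apply]
  congr 1
  by_cases h : o = k ∧ o' = l
  · rw [if_pos h, if_pos ⟨h.1.symm, h.2.symm⟩, one_smul]
  · rw [if_neg h, if_neg (fun h' => h ⟨h'.1.symm, h'.2.symm⟩), zero_smul]

/-- a `U`-form matrix with zero rows and columns is `1 + C ⊗ E_{o,o'}` -/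
lemma eq_cMat {a : ℕ} (hne : o ≠ o') (u : Matrix (Idx a b) (Idx a b) F) (hU : UF o o' u)
    (hrow : ∀ l : Fin b, l ≠ o → l ≠ o' → blk u o l = 0)
    (hcol : ∀ k : Fin b, k ≠ o → k ≠ o' → blk u k o' = 0) :
    u = cMat o o' (blk u o o') := by
  apply ext_blk
  intro k l
  rw [blk_cMat]
  by_cases hk : k = o
  · subst hk
    by_cases hl : l = o'
    · subst hl
      rw [if_neg hne, if_pos ⟨rfl, rfl⟩, zero_add]
    · have e : ¬ (k = k ∧ l = o') := fun h => hl h.2
      rw [if_neg e, add_zero]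
      by_cases hl2 : l = k
      · subst hl2
        rw [hU.2.1, if_pos rfl]
      · rw [hrow l hl2 hl, if_neg (Ne.symm hl2)]
  · have e : ¬ (k = o ∧ l = o') := fun h => hk h.1
    rw [if_neg e, add_zero]
    by_cases hl : l = o'
    · subst hl
      by_cases hk2 : k = l
      · subst hk2
        rw [hU.2.2, if_pos rfl]
      · rw [hcol k hk hk2, if_neg hk2]
    · exact hU.1 k l hk hl

/-- `1 + c E₀₁ ⊗ E_{o,o'}` is the transvection with centre `e₀ ⊗ e_o` -/
lemma cMat_E01 (hG : Gᵀ = G) (hN : NormG G o o') (c : F) :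
    cMat o o' (c • Matrix.single (0 : Fin 2) (1 : Fin 2) (1 : F)) =
      tvMat G (pt (Pi.single (0 : Fin 2) (1 : F)) (Pi.single o (1 : F))) (-c) := by
  unfold cMat tvMat
  rw [kron_mulVec_pt]
  congr 1
  ext ⟨i, k⟩ ⟨j, l⟩
  simp only [Matrix.kroneckerMap_apply, Matrix.smul_apply, Matrix.single_apply, smul_eq_mul,
    Matrix.vecMulVec_apply, pt, Matrix.mulVec_single_one, Matrix.col_apply, hN.col hG, Jm_apply,
    Pi.single_apply]
  by_cases hk : k = o
  · subst hk
    by_cases hl : l = o'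
    · subst hl
      fin_cases i <;> fin_cases j <;> simp [hN.ne, hN.ne.symm]
    · have hl' : ¬ o' = l := fun h => hl h.symm
      fin_cases i <;> fin_cases j <;> simp [hl, hl']
  · have hk' : ¬ o = k := fun h => hk h.symm
    fin_cases i <;> fin_cases j <;> simp [hk, hk']

/-- (CT) -/
theorem corner_trivial (h : MCtx 2 b G M) (hN : NormG G o o') (hno : ¬ HasTv G M)
    (u : GL (Idx 2 b) F) (hu : u ∈ M) (hU : UF o o' u.1)
    (hrow : ∀ l : Fin b, l ≠ o → l ≠ o' → blk u.1 o l = 0)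
    (hcol : ∀ k : Fin b, k ≠ o → k ≠ o' → blk u.1 k o' = 0)
    (hC : ∀ x x' : Fin 2 → F, sf (blk u.1 o o' *ᵥ x) x' + sf x (blk u.1 o o' *ᵥ x') = 0) :
    blk u.1 o o' = 0 := by
  by_contra hC0
  have hne := hN.ne
  let Ξ : AddSubgroup (Matrix (Fin 2) (Fin 2) F) :=
    { carrier := {C | InM M (cMat o o' C)}
      zero_mem' := by
        change InM M (cMat o o' 0)
        rw [cMat_zero]
        exact InM_one M
      add_mem' := by
        intro C C' hC hC'
        change InM M (cMat o o' (C + C'))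
        rw [← cMat_mul hne]
        exact InM_mul hC hC'
      neg_mem' := by
        intro C hC
        change InM M (cMat o o' (-C))
        obtain ⟨t, ht, e⟩ := hC
        refine ⟨t⁻¹, M.inv_mem ht, ?_⟩
        apply Units.inv_eq_of_mul_eq_one_right
        rw [e, cMat_mul hne, add_neg_cancel, cMat_zero] }
  have hmem : ∀ C, C ∈ Ξ ↔ InM M (cMat o o' C) := fun C => Iff.rfl
  have hconj : ∀ α : GL (Fin 2) F, α.1.det = 1 → ∀ C ∈ Ξ, α.1 * C * (α⁻¹).1 ∈ Ξ := by
    intro α hα C hC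
    rw [hmem] at hC ⊢
    obtain ⟨t, ht, e⟩ := hC
    have hκ : (kel α (1 : GL (Fin b) F) : GL (Idx 2 b) F) ∈ M := by
      apply h.le
      refine ⟨kel_mem_KG _ _, kel_mem_SpV_two G α 1 1 (by rw [hα, one_mul]) ?_⟩
      intro y y'
      rw [Units.val_one, Matrix.one_mulVec, Matrix.one_mulVec, one_mul]
    refine ⟨kel α 1 * t * (kel α 1)⁻¹, M.mul_mem (M.mul_mem hκ ht) (M.inv_mem hκ), ?_⟩
    rw [Units.val_mul, Units.val_mul, e, kel_val, Units.val_one]
    have hinv : (((kel α (1 : GL (Fin b) F))⁻¹ : GL (Idx 2 b) F) : Matrix (Idx 2 b) (Idx 2 b) F) =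
        (α⁻¹).1 ⊗ₖ (1 : Matrix (Fin b) (Fin b) F) := by
      change ((α⁻¹ : GL (Fin 2) F) : Matrix (Fin 2) (Fin 2) F) ⊗ₖ
        (((1 : GL (Fin b) F)⁻¹ : GL (Fin b) F) : Matrix (Fin b) (Fin b) F) = _
      rw [inv_one, Units.val_one]
    rw [hinv]
    exact cMat_conj α.1 (α⁻¹).1 (by rw [← Units.val_mul, mul_inv_cancel, Units.val_one]) C
  have hCΞ : blk u.1 o o' ∈ Ξ := by
    rw [hmem]
    refine ⟨u, hu, ?_⟩
    exact eq_cMat hne u.1 hU hrow hcol
  have htr : blk u.1 o o' 0 0 + blk u.1 o o' 1 1 = 0 := by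
    have := hC (Pi.single 0 1) (Pi.single 1 1)
    simp only [sf_two, Matrix.mulVec_single_one, Matrix.col_apply] at this
    simp at this
    linear_combination this
  obtain ⟨c, hc0, hcΞ⟩ := exists_nilp h.two Ξ hconj _ hCΞ hC0 htr
  rw [hmem, cMat_E01 h.symm hN] at hcΞ
  apply hno
  refine ⟨Pi.single 0 1, Pi.single o 1, -c, ?_, ?_, hN.fB_oo h.symm, neg_ne_zero.2 hc0, hcΞ⟩
  · intro hc
    have := congrFun hc 0
    simp at this
  · intro hc
    have := congrFun hc o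
    simp at this

end Cfsg.Agent.Lib.Helper13.SOTBLeaf
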