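import Mathlib
import Cfsg.Agent.Lib.Helper2.SOTDefs
import Cfsg.Agent.Lib.Helper28.SOTBDefs
import Cfsg.Agent.Lib.Helper9.SpTNU
import Cfsg.Agent.Lib.Helper25.TensS
import Cfsg.Agent.Lib.Helper28.SOTBKB
import Cfsg.Agent.Lib.Helper28.SOTBIso
import Cfsg.Agent.Lib.Helper13.SOTBNil

/-!
S5666 part (B) leaves (RS) `rows_scalar` and (UK) `uform_mem_KG`, exact signatures of
`notes/S5666_B_leaves.lean` (helper28's sub-market).
-/

set_option autoImplicit false
set_option linter.unusedSectionVars false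
set_option linter.unusedVariables false

namespace Cfsg.Agent.Lib.Helper13.SOTBLeaf
open Matrix
open Cfsg.Agent.Lib.Helper25.Tens Cfsg.Agent.Lib.Helper25.TensLeaves Cfsg.Agent.Lib.Helper25.SpT
open Cfsg.Agent.Lib.Helper19.OSub
open Cfsg.Agent.Lib.Helper2.SOT Cfsg.Agent.Lib.Helper28.SOTB
open Cfsg.Agent.Lib.Helper9.SpTNLeaf
open scoped Kronecker

variable {F : Type*} [Field F] [Fintype F] {b : ℕ} {G : Matrix (Fin b) (Fin b) F}
  {M : Subgroup (GL (Idx 2 b) F)} {o o' : Fin b}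

lemma sf_sum_right {n : ℕ} {κ : Type*} (s : Finset κ) (x : Fin n → F) (w : κ → Fin n → F) :
    sf x (∑ j ∈ s, w j) = ∑ j ∈ s, sf x (w j) := by
  classical
  induction s using Finset.induction_on with
  | empty => simp
  | insert j s hj ih => rw [Finset.sum_insert hj, Finset.sum_insert hj, sf_add_right, ih]

/-- splitting a sum over `Fin b` at two points -/
lemma sum_split_two {β : Type*} [AddCommMonoid β] (f : Fin b → β) (hne : o ≠ o') :
    ∑ j, f j = f o + f o' + ∑ j, (if j = o ∨ j = o' then 0 else f j) := by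
  have e : ∀ j, f j = (if j = o then f j else 0) + (if j = o' then f j else 0) +
      (if j = o ∨ j = o' then 0 else f j) := by
    intro j
    by_cases h1 : j = o
    · have h2 : ¬ j = o' := fun h => hne (h1.symm.trans h)
      rw [if_pos h1, if_neg h2, if_pos (Or.inl h1), add_zero, add_zero]
    · by_cases h2 : j = o'
      · rw [if_neg h1, if_pos h2, if_pos (Or.inr h2), zero_add, add_zero]
      · rw [if_neg h1, if_neg h2, if_neg (by tauto), zero_add, zero_add]
  conv_lhs => rw [Finset.sum_congr rfl (fun j _ => e j)]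
  rw [Finset.sum_add_distrib, Finset.sum_add_distrib, Finset.sum_ite_eq' Finset.univ o f,
    Finset.sum_ite_eq' Finset.univ o' f, if_pos (Finset.mem_univ _), if_pos (Finset.mem_univ _)]

/-- the corner of a product of two `U`-form matrices -/
lemma corner_mul {a : ℕ} (hne : o ≠ o') (X Y : Matrix (Idx a b) (Idx a b) F) (hX : UF o o' X)
    (hY : UF o o' Y) :
    blk (X * Y) o o' = blk X o o' + blk Y o o' +
      ∑ j, (if j = o ∨ j = o' then 0 else blk X o j * blk Y j o') := by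
  rw [blk_mul, sum_split_two _ hne, hX.2.1, hY.2.2, one_mul, mul_one]
  congr 1
  rw [add_comm]

/-- (UK) -/
theorem uform_mem_KG (h : MCtx 2 b G M) (hN : NormG G o o')
    (hcen : ∀ u ∈ M, UF o o' u.1 → (∀ l : Fin b, l ≠ o → l ≠ o' → blk u.1 o l = 0) → u = 1)
    (g : GL (Idx 2 b) F) (hg : g ∈ M) (hU : UF o o' g.1)
    (hsc : ∀ l : Fin b, l ≠ o → l ≠ o' → IsScalarMat (blk g.1 o l)) : g ∈ KG 2 b F := by
  have hne := hN.ne
  have hG := h.symm
  -- the scalars
  have hr : ∀ l : Fin b, l ≠ o → l ≠ o' →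
      blk g.1 o l = (blk g.1 o l 0 0) • (1 : Matrix (Fin 2) (Fin 2) F) := by
    intro l hl hl'
    obtain ⟨c, hc⟩ := hsc l hl hl'
    have : blk g.1 o l 0 0 = c := by rw [hc]; simp
    rw [this]
    exact hc
  obtain ⟨w, hw⟩ : ∃ w : Fin b → F, w = fun l => if l = o ∨ l = o' then 0 else - blk g.1 o l 0 0 :=
    ⟨_, rfl⟩
  obtain ⟨v, hv⟩ : ∃ v : Fin b → F, v = G⁻¹ *ᵥ w := ⟨_, rfl⟩
  have hGv : G *ᵥ v = w := by
    rw [hv, Matrix.mulVec_mulVec, Matrix.mul_nonsing_inv G (isUnit_iff_ne_zero.2 h.nd),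
      Matrix.one_mulVec]
  have hwo : w o = 0 := by rw [hw]; simp
  have hwo' : w o' = 0 := by rw [hw]; simp
  have hvo' : v o' = 0 := by rw [← hN.mulVec_o v, hGv, hwo]
  have hvo : v o = 0 := by rw [← hN.mulVec_o' v, hGv, hwo']
  have hz : fB G (Pi.single o (1 : F)) (Pi.single o 1) = 0 := hN.fB_oo hG
  have hzv : fB G (Pi.single o (1 : F)) v = 0 := by rw [fB_single_left, hGv, hwo]
  have hkM : (kE G (Pi.single o 1) v : GL (Idx 2 b) F) ∈ M := kE_mem h hz hzv
  obtain ⟨hkU, hkrow, -, -⟩ :=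
    Cfsg.Agent.Lib.Helper28.SOTBLeaf.kE_blocks (a := 2) hG h.two hN v hvo hvo'
  obtain ⟨hkiU, hkirow⟩ := UF_inv o o' hne (kE G (Pi.single o 1) v : GL (Idx 2 b) F) hkU
  obtain ⟨hpU, hprow⟩ := UF_mul o o' hne g.1 _ hU hkiU
  have h1 : g * (kE G (Pi.single o 1) v : GL (Idx 2 b) F)⁻¹ = 1 := by
    apply hcen _ (M.mul_mem hg (M.inv_mem hkM))
    · rw [Units.val_mul]
      exact hpU
    · intro l hl hl'
      rw [Units.val_mul, hprow l hl hl', hkirow l hl hl', hkrow l hl hl', hGv, hr l hl hl', hw]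
      simp only [if_neg (not_or.2 ⟨hl, hl'⟩), neg_neg, add_neg_cancel]
  have h2 : g = kE G (Pi.single o 1) v := mul_inv_eq_one.1 h1
  rw [h2]
  exact kE_mem_KG G _ v

/-- (RS) -/
theorem rows_scalar (h : MCtx 2 b G M) (hN : NormG G o o')
    (hcen : ∀ u ∈ M, UF o o' u.1 → (∀ l : Fin b, l ≠ o → l ≠ o' → blk u.1 o l = 0) → u = 1)
    (g : GL (Idx 2 b) F) (hg : g ∈ M) (hU : UF o o' g.1) :
    ∀ l : Fin b, l ≠ o → l ≠ o' → IsScalarMat (blk g.1 o l) := by
  intro m hm hm'
  have hne := hN.ne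
  have hG := h.symm
  have hvo : (Pi.single m (1 : F) : Fin b → F) o = 0 := Pi.single_eq_of_ne (Ne.symm hm) _
  have hvo' : (Pi.single m (1 : F) : Fin b → F) o' = 0 := Pi.single_eq_of_ne (Ne.symm hm') _
  have hz : fB G (Pi.single o (1 : F)) (Pi.single o 1) = 0 := hN.fB_oo hG
  have hzv : fB G (Pi.single o (1 : F)) (Pi.single m 1) = 0 := by
    rw [fB_single_left, hN.mulVec_o, hvo']
  obtain ⟨k, hk⟩ : ∃ k : GL (Idx 2 b) F, k = kE G (Pi.single o 1) (Pi.single m 1) := ⟨_, rfl⟩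
  have hkM : k ∈ M := by rw [hk]; exact kE_mem h hz hzv
  obtain ⟨hkU, hkrow, hkcol, -⟩ :=
    Cfsg.Agent.Lib.Helper28.SOTBLeaf.kE_blocks (a := 2) hG h.two hN (Pi.single m 1) hvo hvo'
  rw [← hk] at hkU hkrow hkcol
  obtain ⟨hkiU, hkirow⟩ := UF_inv o o' hne k hkU
  obtain ⟨hgiU, hgirow⟩ := UF_inv o o' hne g hU
  obtain ⟨h1U, h1row⟩ := UF_mul o o' hne g.1 k.1 hU hkU
  obtain ⟨h2U, h2row⟩ := UF_mul o o' hne (g.1 * k.1) _ h1U hgiU
  obtain ⟨h3U, h3row⟩ := UF_mul o o' hne (g.1 * k.1 * (g⁻¹).1) _ h2U hkiU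
  have hc1 : g * k * g⁻¹ * k⁻¹ = 1 := by
    apply hcen _ (M.mul_mem (M.mul_mem (M.mul_mem hg hkM) (M.inv_mem hg)) (M.inv_mem hkM))
    · rw [Units.val_mul, Units.val_mul, Units.val_mul]
      exact h3U
    · intro l hl hl'
      rw [Units.val_mul, Units.val_mul, Units.val_mul, h3row l hl hl', h2row l hl hl',
        h1row l hl hl', hgirow l hl hl', hkirow l hl hl']
      abel
  have hcomm : g * k = k * g := by
    have e1 : g * k * g⁻¹ = k := mul_inv_eq_one.1 hc1
    exact mul_inv_eq_iff_eq_mul.1 e1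
  -- compare corners
  have hcor : blk (g.1 * k.1) o o' = blk (k.1 * g.1) o o' := by
    rw [← Units.val_mul, ← Units.val_mul, hcomm]
  rw [corner_mul hne _ _ hU hkU, corner_mul hne _ _ hkU hU] at hcor
  have hsum1 : ∑ j, (if j = o ∨ j = o' then 0 else blk g.1 o j * blk k.1 j o') = blk g.1 o m := by
    rw [Finset.sum_eq_single m]
    · rw [if_neg (not_or.2 ⟨hm, hm'⟩), hkcol m hm hm', Pi.single_eq_same, one_smul, mul_one]
    · intro j _ hj
      by_cases hjo : j = o ∨ j = o'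
      · rw [if_pos hjo]
      · rw [if_neg hjo, hkcol j (not_or.1 hjo).1 (not_or.1 hjo).2, Pi.single_eq_of_ne hj, zero_smul,
          mul_zero]
    · intro hmm
      exact absurd (Finset.mem_univ _) hmm
  have hstar : blk g.1 o m =
      ∑ j, (if j = o ∨ j = o' then 0 else (-(G j m)) • blk g.1 j o') := by
    rw [hsum1] at hcor
    have e : ∑ j, (if j = o ∨ j = o' then 0 else blk k.1 o j * blk g.1 j o') =
        ∑ j, (if j = o ∨ j = o' then 0 else (-(G j m)) • blk g.1 j o') := by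
      apply Finset.sum_congr rfl
      intro j _
      by_cases hjo : j = o ∨ j = o'
      · rw [if_pos hjo, if_pos hjo]
      · rw [if_neg hjo, if_neg hjo, hkrow j (not_or.1 hjo).1 (not_or.1 hjo).2,
          Matrix.mulVec_single_one, Matrix.smul_mul, one_mul]
        rfl
    rw [e] at hcor
    have e2 : blk g.1 o o' + blk k.1 o o' + blk g.1 o m =
        blk g.1 o o' + blk k.1 o o' +
          ∑ j, (if j = o ∨ j = o' then 0 else (-(G j m)) • blk g.1 j o') := by
      rw [hcor]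
      abel
    exact add_left_cancel e2
  apply scalar_of_selfadj_two h.two
  intro x x'
  have hui := Cfsg.Agent.Lib.Helper28.SOTBLeaf.uform_iso hG hN g (h.le_sp hg) hU m hm hm' x x'
  rw [eq_neg_of_add_eq_zero_left hui]
  conv_rhs => rw [hstar]
  rw [Matrix.sum_mulVec, sf_sum_right, ← Finset.sum_neg_distrib]
  apply Finset.sum_congr rfl
  intro j _
  have hGs : G m j = G j m := by
    have := congrFun (congrFun hG j) m
    rw [Matrix.transpose_apply] at this
    exact this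
  by_cases hjo : j = o ∨ j = o'
  · rw [if_pos hjo, Matrix.zero_mulVec, sf_zero_right]
    rcases hjo with hjo | hjo
    · rw [hjo, hN.col hG m, if_neg hm', zero_mul, neg_zero]
    · rw [hjo, hN.col' hG m, if_neg hm, zero_mul, neg_zero]
  · rw [if_neg hjo, Matrix.smul_mulVec, sf_smul_right, hGs]
    ring

end Cfsg.Agent.Lib.Helper13.SOTBLeaf
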