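import Mathlib
import Cfsg.Prelude.Def_ClassicalGeometry
import Cfsg.Prelude.Def_GeometricClasses
import Cfsg.Agent.Lib.Helper2.SOTDefs
import Cfsg.Agent.Lib.Helper2.SOTGDefs
import Cfsg.Agent.Lib.Helper4.SOTS
import Cfsg.Agent.Lib.Helper7.SpTN
import Cfsg.Agent.Lib.Helper27.SOTLADefs
import Cfsg.Agent.Lib.Helper27.SOTLAU5
import Cfsg.Agent.Lib.Helper28.SOTLAR2a

/-!
S5666 (LA) leaf (R2c) `conj_N`, CORE form against the statement of (R1) as a hypothesis
(`notes/S5666_LA_leaves.lean`, helper27's sub-market), plus the block data of an element of `SpV G` stabilising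
`R = e_o ⊗ B` (`stab_data`).
-/

set_option autoImplicit false
set_option linter.unusedSectionVars false
set_option linter.unusedVariables false

namespace Cfsg.Agent.Lib.Helper13.SOTLALeaf
open Matrix
open Cfsg.Agent.Lib.Helper25.Tens Cfsg.Agent.Lib.Helper25.SpT Cfsg.Agent.Lib.Helper19.OSub
open Cfsg.Agent.Lib.Helper2.SOT Cfsg.Agent.Lib.Helper27.SOTLA
open scoped Kronecker

variable {F : Type*} [Field F] [Fintype F] {a b : ℕ} {G : Matrix (Fin b) (Fin b) F}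
  {M : Subgroup (GL (Idx a b) F)}

lemma ne_of_vals {o o' : Fin a} (ho : o.val = 0) (ho' : o'.val = 1) : o ≠ o' := by
  intro h
  rw [h] at ho
  omega

lemma kron_neg_right {l m n p : Type*} (A : Matrix l m F) (B : Matrix n p F) :
    A ⊗ₖ (-B) = -(A ⊗ₖ B) := by
  ext ⟨i, k⟩ ⟨j, q⟩
  simp [Matrix.kroneckerMap_apply]

/-- `uMat 0 0 Ξ = 1 + E_{o,o'} ⊗ Ξ` -/
lemma uMat_00 (o o' : Fin a) (Ξ : Matrix (Fin b) (Fin b) F) :
    uMat o o' (0 : Fin a → Matrix (Fin b) (Fin b) F) 0 Ξ =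
      1 + Matrix.single o o' (1 : F) ⊗ₖ Ξ := by
  unfold uMat
  simp only [Pi.zero_apply, Matrix.kronecker_zero, Finset.sum_const_zero, add_zero]

/-- blocks of `X * EN * Y` -/
lemma ablk_mul_EN_mul (o o' : Fin a) (X Y : Matrix (Idx a b) (Idx a b) F) (i j : Fin a) :
    ablk (X * EN o o' * Y) i j = ablk X i o * ablk Y o' j := by
  have e1 : ∀ n : Fin a, ablk (X * EN o o') i n = if n = o' then ablk X i o else 0 := by
    intro n
    rw [ablk_mul, Finset.sum_eq_single o]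
    · unfold EN
      rw [Cfsg.Agent.Lib.Helper27.SOTLALeaf.ablk_single_kron]
      by_cases hn : n = o'
      · rw [if_pos ⟨rfl, hn.symm⟩, if_pos hn, mul_one]
      · rw [if_neg (fun h => hn h.2.symm), if_neg hn, mul_zero]
    · intro m _ hm
      unfold EN
      rw [Cfsg.Agent.Lib.Helper27.SOTLALeaf.ablk_single_kron, if_neg (fun h => hm h.1.symm), mul_zero]
    · intro h
      exact absurd (Finset.mem_univ _) h
  rw [ablk_mul, Finset.sum_eq_single o']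
  · rw [e1, if_pos rfl]
  · intro n _ hn
    rw [e1, if_neg hn, zero_mul]
  · intro h
    exact absurd (Finset.mem_univ _) h

/-- block data of an isometry stabilising `R = e_o ⊗ B`: zero patterns of `g` and `g⁻¹` and the inverse blocks -/
lemma stab_data (ea : Even a) (hG : Gᵀ = G) (hnd : G.det ≠ 0) {o o' : Fin a}
    (ho : o.val = 0) (ho' : o'.val = 1) (g : GL (Idx a b) F) (hS : g ∈ SpV G)
    (hg : ∀ y : Fin b → F, ∃ y' : Fin b → F, mv g (pt (Pi.single o 1) y) = pt (Pi.single o 1) y') :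
    (∀ i : Fin a, i ≠ o → ablk g.1 i o = 0) ∧ (∀ i : Fin a, i ≠ o → ablk (g⁻¹).1 i o = 0) ∧
    (∀ j : Fin a, j ≠ o' → ablk g.1 o' j = 0) ∧ (∀ j : Fin a, j ≠ o' → ablk (g⁻¹).1 o' j = 0) ∧
    ablk g.1 o o * ablk (g⁻¹).1 o o = 1 ∧ ablk g.1 o' o' * ablk (g⁻¹).1 o' o' = 1 ∧
    (∀ y : Fin b → F, ∃ y' : Fin b → F,
      mv g⁻¹ (pt (Pi.single o 1) y) = pt (Pi.single o 1) y') := by
  obtain ⟨hcol, hginv, hγ⟩ := Cfsg.Agent.Lib.Helper28.SOTLALeaf.stab_blocks g hg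
  obtain ⟨hcol', -, -⟩ := Cfsg.Agent.Lib.Helper28.SOTLALeaf.stab_blocks g⁻¹ hginv
  obtain ⟨hrow, -⟩ := Cfsg.Agent.Lib.Helper28.SOTLALeaf.stab_perp_blocks ea hG hnd ho ho' g hS hg
  obtain ⟨hrow', -⟩ := Cfsg.Agent.Lib.Helper28.SOTLALeaf.stab_perp_blocks ea hG hnd ho ho' g⁻¹
    ((SpV G).inv_mem hS) hginv
  refine ⟨hcol, hcol', hrow, hrow', hγ, ?_, hginv⟩
  have e : ablk (g.1 * (g⁻¹).1) o' o' = 1 := by
    rw [← Units.val_mul, mul_inv_cancel, Units.val_one, ablk_one, if_pos rfl]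
  rw [ablk_mul, Finset.sum_eq_single o'] at e
  · exact e
  · intro m _ hm
    rw [hrow m hm, zero_mul]
  · intro h
    exact absurd (Finset.mem_univ _) h

/-- (R2c), core form: `hR1` is the statement of leaf (R1) -/
theorem conj_N_core (h : MCtx a b G M) {o o' : Fin a} (ho : o.val = 0) (ho' : o'.val = 1)
    (hR1 : ∀ σ : Matrix (Fin b) (Fin b) F, InM M (uMat o o' 0 0 σ) → IsScal σ)
    {g : GL (Idx a b) F} (hgM : g ∈ M)
    (hg : ∀ y : Fin b → F, ∃ y' : Fin b → F, mv g (pt (Pi.single o 1) y) = pt (Pi.single o 1) y') :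
    ∃ c : F, c ≠ 0 ∧
      (g : Matrix (Idx a b) (Idx a b) F) * EN o o' *
        ((g⁻¹ : GL (Idx a b) F) : Matrix (Idx a b) (Idx a b) F) = c • EN o o' ∧
      ablk (g : Matrix (Idx a b) (Idx a b) F) o o =
        c • ablk (g : Matrix (Idx a b) (Idx a b) F) o' o' := by
  have hoo' := ne_of_vals ho ho'
  obtain ⟨hcol, hcol', hrow, hrow', hγ, hγs, hginv⟩ :=
    stab_data h.ea h.symm h.nd ho ho' g (h.le_sp hgM) hg
  -- `g N g⁻¹ = E_{o,o'} ⊗ γ γ'*`
  have hconj : g.1 * EN o o' * (g⁻¹).1 =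
      Matrix.single o o' (1 : F) ⊗ₖ (ablk g.1 o o * ablk (g⁻¹).1 o' o') := by
    apply ext_ablk
    intro i j
    rw [ablk_mul_EN_mul, Cfsg.Agent.Lib.Helper27.SOTLALeaf.ablk_single_kron]
    by_cases hi : i = o
    · by_cases hj : j = o'
      · rw [if_pos ⟨hi.symm, hj.symm⟩, hi, hj]
      · rw [if_neg (fun h' => hj h'.2.symm), hrow' j hj, mul_zero]
    · rw [if_neg (fun h' => hi h'.1.symm), hcol i hi, zero_mul]
  -- the conjugate of `kA e_o 1`
  have hkM : (kA (Pi.single o 1) 1 : GL (Idx a b) F) ∈ M :=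
    Cfsg.Agent.Lib.Helper27.SOTLALeaf.kA_mem_M h _ _
  have hin : InM M (uMat o o' 0 0 (-(ablk g.1 o o * ablk (g⁻¹).1 o' o'))) := by
    refine ⟨g * kA (Pi.single o 1) 1 * g⁻¹, M.mul_mem (M.mul_mem hgM hkM) (M.inv_mem hgM), ?_⟩
    rw [Units.val_mul, Units.val_mul, Cfsg.Agent.Lib.Helper27.SOTLALeaf.kA_single_eq h.ea ho ho' 1,
      uMat_00, uMat_00]
    have e : (Matrix.single o o' (1 : F) ⊗ₖ (-(1 : F) • (1 : Matrix (Fin b) (Fin b) F)) :
        Matrix (Idx a b) (Idx a b) F) = -(EN o o') := by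
      unfold EN
      rw [Matrix.kronecker_smul, neg_smul, one_smul]
    rw [e, mul_add, add_mul, mul_one, ← Units.val_mul, mul_inv_cancel, Units.val_one, mul_neg,
      neg_mul, hconj, kron_neg_right]
  obtain ⟨c₀, hc₀⟩ := hR1 _ hin
  have hprod : ablk g.1 o o * ablk (g⁻¹).1 o' o' = (-c₀) • (1 : Matrix (Fin b) (Fin b) F) := by
    rw [neg_smul, ← hc₀, neg_neg]
  have hγs' : ablk (g⁻¹).1 o' o' * ablk g.1 o' o' = 1 := mul_eq_one_comm.1 hγs
  have hrel : ablk g.1 o o = (-c₀) • ablk g.1 o' o' := by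
    calc ablk g.1 o o = ablk g.1 o o * (ablk (g⁻¹).1 o' o' * ablk g.1 o' o') := by
          rw [hγs', mul_one]
      _ = (ablk g.1 o o * ablk (g⁻¹).1 o' o') * ablk g.1 o' o' := by rw [mul_assoc]
      _ = (-c₀) • ablk g.1 o' o' := by rw [hprod, Matrix.smul_mul, one_mul]
  refine ⟨-c₀, ?_, ?_, hrel⟩
  · intro hc
    rw [hc, zero_smul] at hrel
    rw [hrel, zero_mul] at hγ
    have hb : 0 < b := by have := h.hb; omega
    have := congrFun (congrFun hγ ⟨0, hb⟩) ⟨0, hb⟩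
    simp at this
  · rw [hconj, hprod]
    unfold EN
    rw [Matrix.kronecker_smul]

end Cfsg.Agent.Lib.Helper13.SOTLALeaf
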