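import Mathlib
import Cfsg.Prelude.Def_ClassicalGeometry
import Cfsg.Prelude.Def_GeometricClasses
import Cfsg.Agent.Lib.Helper2.SOTDefs
import Cfsg.Agent.Lib.Helper2.SOTGDefs
import Cfsg.Agent.Lib.Helper4.SOTS
import Cfsg.Agent.Lib.Helper7.SpTN
import Cfsg.Agent.Lib.Helper27.SOTLADefs
import Cfsg.Agent.Lib.Helper13.SOTLAR2c
import Cfsg.Agent.Lib.Helper13.SOTLAR2d
import Cfsg.Agent.Lib.Helper1.SOTLAR1
import Cfsg.Agent.Lib.Helper1.SOTLAP5

/-!
S5666 (LA) leaves (R2c) `conj_N` and (R2d) `mid_blocks`, EXACT signatures of `notes/S5666_LA_leaves.lean`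
(helper27's sub-market): the cores of `SOTLAR2c`/`SOTLAR2d` on helper1's (R1), (R1+).
-/

set_option autoImplicit false
set_option linter.unusedSectionVars false
set_option linter.unusedVariables false

namespace Cfsg.Agent.Lib.Helper13.SOTLALeaf
open Matrix
open Cfsg.Agent.Lib.Helper25.Tens Cfsg.Agent.Lib.Helper25.SpT Cfsg.Agent.Lib.Helper19.OSub
open Cfsg.Agent.Lib.Helper2.SOT Cfsg.Agent.Lib.Helper27.SOTLA
open scoped Kronecker

variable {F : Type*} [Field F] [Fintype F] {a b : ℕ} {G : Matrix (Fin b) (Fin b) F}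
  {M : Subgroup (GL (Idx a b) F)}

/-- (R2c) -/
theorem conj_N (h : MCtx a b G M) (hno : ¬ HasTv G M) {o o' : Fin a} (ho : o.val = 0)
    (ho' : o'.val = 1) {g : GL (Idx a b) F} (hgM : g ∈ M)
    (hg : ∀ y : Fin b → F, ∃ y' : Fin b → F, mv g (pt (Pi.single o 1) y) = pt (Pi.single o 1) y') :
    ∃ c : F, c ≠ 0 ∧
      (g : Matrix (Idx a b) (Idx a b) F) * EN o o' *
        ((g⁻¹ : GL (Idx a b) F) : Matrix (Idx a b) (Idx a b) F) = c • EN o o' ∧
      ablk (g : Matrix (Idx a b) (Idx a b) F) o o =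
        c • ablk (g : Matrix (Idx a b) (Idx a b) F) o' o' :=
  conj_N_core h ho ho' (fun σ hσ => Cfsg.Agent.Lib.Helper1.SOTLALeaf.R1 h hno ho ho' hσ) hgM hg

/-- (R2d) -/
theorem mid_blocks (h : MCtx a b G M) (h4 : 4 ≤ a) (hno : ¬ HasTv G M) {o o' : Fin a}
    (ho : o.val = 0) (ho' : o'.val = 1) {g : GL (Idx a b) F} (hgM : g ∈ M)
    (hg : ∀ y : Fin b → F, ∃ y' : Fin b → F, mv g (pt (Pi.single o 1) y) = pt (Pi.single o 1) y') :
    ∀ i j : Fin a, i ≠ o → i ≠ o' → j ≠ o → j ≠ o' →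
      ∃ c : F, ablk (g : Matrix (Idx a b) (Idx a b) F) i j =
        c • ablk (g : Matrix (Idx a b) (Idx a b) F) o' o' :=
  mid_blocks_of h ho ho' (fun σ hσ => Cfsg.Agent.Lib.Helper1.SOTLALeaf.R1 h hno ho ho' hσ)
    (fun θ ρ Ξ hθ hρ hM => Cfsg.Agent.Lib.Helper1.SOTLALeaf.R1plus h h4 hno ho ho' hθ hρ hM) hgM hg

end Cfsg.Agent.Lib.Helper13.SOTLALeaf
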