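/-
helper13 (planner S2282): the abstract API in the STANDARD model `↥(Cfsg.SU n F q)` on helper5's
`SUGen` (`av`, `exists_tv`): total transvections `Tr`, Siegel elements `Sk`, parameter groups `Apar`,
the root set `Rt`, and `eq_top_of_Rt`.

Conventions: `h x y := Cfsg.hermForm n F q x y = Σ x_i (y_i)^q` (linear in `x`); a scalar `c` is SKEW
if `c ^ q = -c`; `Tr hF v c : x ↦ x + (c * h x v) • v` for `v` isotropic and `c` skew (and `Tr = 1`
for junk arguments).
-/
import Mathlib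
import Cfsg.Agent.Lib.Helper5.SUGen

set_option autoImplicit false
set_option linter.unusedSectionVars false
set_option linter.unusedVariables false
set_option linter.unusedSimpArgs false

namespace Cfsg.Agent.Lib.Helper13.SUA

open Cfsg Matrix Cfsg.Agent.Lib.Helper5.SUGen Cfsg.Agent.Lib.Helper5.HermBridge
  Cfsg.Agent.Lib.Helper5.UForm Cfsg.Agent.Lib.Helper14

variable {F : Type*} [Field F] [Fintype F] {q n : ℕ}

/-- the unitary transvection `x ↦ x + (c * h x v) • v` (`= 1` unless `v` isotropic and `c` skew) -/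
noncomputable def Tr (hF : Fintype.card F = q ^ 2) (v : Fin n → F) (c : F) : ↥(Cfsg.SU n F q) := by
  classical
  exact if h : Cfsg.hermForm n F q v v = 0 ∧ c ^ q = -c then
    Classical.choose (exists_tv hF h.1 (c := c) h.2) else 1

variable (hF : Fintype.card F = q ^ 2)
include hF

theorem Tr_coe {v : Fin n → F} {c : F} (hv : Cfsg.hermForm n F q v v = 0) (hc : c ^ q = -c) :
    ((Tr hF v c : Matrix.SpecialLinearGroup (Fin n) F) : Matrix (Fin n) (Fin n) F) =
      Cfsg.unitaryTransvection n q v c := by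
  classical
  unfold Tr
  rw [dif_pos ⟨hv, hc⟩]
  exact Classical.choose_spec (exists_tv hF hv (c := c) hc)

theorem av_Tr {v : Fin n → F} {c : F} (hv : Cfsg.hermForm n F q v v = 0) (hc : c ^ q = -c)
    (x : Fin n → F) : av (Tr hF v c) x = x + (c * Cfsg.hermForm n F q x v) • v := by
  unfold av
  rw [Tr_coe hF hv hc, ut_mulVec]

theorem Tr_junk {v : Fin n → F} {c : F} (h : ¬ (Cfsg.hermForm n F q v v = 0 ∧ c ^ q = -c)) :
    Tr hF v c = 1 := by
  classical
  unfold Tr
  rw [dif_neg h]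

/-- a transvection is determined by its action -/
theorem eq_Tr {v : Fin n → F} {c : F} (hv : Cfsg.hermForm n F q v v = 0) (hc : c ^ q = -c)
    {A : ↥(Cfsg.SU n F q)} (hA : ∀ x, av A x = x + (c * Cfsg.hermForm n F q x v) • v) :
    A = Tr hF v c := by
  apply av_ext
  intro x
  rw [hA, av_Tr hF hv hc]

theorem fsub (x y : F) : (x - y) ^ q = x ^ q - y ^ q := (frobQ hF).map_sub x y

theorem fadd (x y : F) : (x + y) ^ q = x ^ q + y ^ q := (frobQ hF).map_add x y

theorem skew_zero : (0 : F) ^ q = -0 := by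
  classical
  have := herm_two_le hF
  rw [neg_zero, zero_pow (by omega)]

theorem skew_neg {c : F} (hc : c ^ q = -c) : (-c) ^ q = - -c := by
  have h := (frobQ hF).map_neg c
  rw [frobQ_apply, frobQ_apply, hc] at h
  exact h

theorem skew_add {c c' : F} (hc : c ^ q = -c) (hc' : c' ^ q = -c') : (c + c') ^ q = -(c + c') := by
  have h := (frobQ hF).map_add c c'
  rw [frobQ_apply, frobQ_apply, frobQ_apply, hc, hc'] at h
  rw [h]; ring

theorem Tr_zero (v : Fin n → F) : Tr hF v 0 = 1 := by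
  by_cases hv : Cfsg.hermForm n F q v v = 0
  · symm
    apply eq_Tr hF hv (skew_zero hF)
    intro x
    rw [av_one, zero_mul, zero_smul, add_zero]
  · exact Tr_junk hF (fun h => hv h.1)

theorem Tr_mul {v : Fin n → F} {c c' : F} (hc : c ^ q = -c) (hc' : c' ^ q = -c') :
    Tr hF v c * Tr hF v c' = Tr hF v (c + c') := by
  by_cases hv : Cfsg.hermForm n F q v v = 0
  · apply eq_Tr hF hv (skew_add hF hc hc')
    intro x
    have hf := herm_unitary (n := n) hF
    rw [av_mul, av_Tr hF hv hc', av_Tr hF hv hc, hf.add_left, hf.smul_left, hv, mul_zero, add_zero]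
    rw [add_assoc, ← add_smul]
    congr 2
    ring
  · rw [Tr_junk hF (fun h => hv h.1), Tr_junk hF (fun h => hv h.1), Tr_junk hF (fun h => hv h.1),
      mul_one]

theorem Tr_inv {v : Fin n → F} {c : F} (hc : c ^ q = -c) : (Tr hF v c)⁻¹ = Tr hF v (-c) := by
  rw [inv_eq_iff_mul_eq_one, Tr_mul hF hc (skew_neg hF hc), add_neg_cancel, Tr_zero]

/-- conjugation moves the centre -/
theorem conj_Tr (g : ↥(Cfsg.SU n F q)) (v : Fin n → F) (c : F) :
    g * Tr hF v c * g⁻¹ = Tr hF (av g v) c := by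
  by_cases h : Cfsg.hermForm n F q v v = 0 ∧ c ^ q = -c
  · have hv' : Cfsg.hermForm n F q (av g v) (av g v) = 0 := by rw [av_iso]; exact h.1
    apply eq_Tr hF hv' h.2
    intro x
    rw [av_mul, av_mul, av_Tr hF h.1 h.2, av_add, av_smul, av_av_inv]
    congr 2
    rw [← av_iso g (av g⁻¹ x) v, av_av_inv]
  · have h' : ¬ (Cfsg.hermForm n F q (av g v) (av g v) = 0 ∧ c ^ q = -c) := by
      rw [av_iso]; exact h
    rw [Tr_junk hF h, Tr_junk hF h', mul_one, mul_inv_cancel]

/-- rescaling the centre -/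
theorem Tr_smul (l : F) (v : Fin n → F) (c : F) :
    Tr hF (l • v) c = Tr hF v (l * l ^ q * c) := by
  have hf := herm_unitary (n := n) hF
  have hN : (l * l ^ q) ^ q = l * l ^ q := by
    rw [mul_pow, pow_q_pow_q hF]; ring
  by_cases hl : l = 0
  · rw [hl, zero_smul, zero_mul, zero_mul, Tr_zero]
    by_cases hc : c ^ q = -c
    · symm
      apply eq_Tr hF _ hc
      · intro x
        rw [smul_zero, add_zero, av_one]
      · exact u_zero_left hf 0
    · exact Tr_junk hF (fun h => hc h.2)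
  have hiso : Cfsg.hermForm n F q (l • v) (l • v) = l * l ^ q * Cfsg.hermForm n F q v v := by
    rw [hf.smul_left, u_smul_right hf, frobQ_apply]; ring
  by_cases h : Cfsg.hermForm n F q v v = 0 ∧ c ^ q = -c
  · have hv' : Cfsg.hermForm n F q (l • v) (l • v) = 0 := by rw [hiso, h.1, mul_zero]
    have hc' : (l * l ^ q * c) ^ q = -(l * l ^ q * c) := by
      rw [mul_pow, hN, h.2]; ring
    symm
    apply eq_Tr hF hv' h.2
    intro x
    rw [av_Tr hF h.1 hc', u_smul_right hf, frobQ_apply, smul_smul]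
    congr 2
    ring
  · have hNl : l * l ^ q ≠ 0 := mul_ne_zero hl (pow_ne_zero _ hl)
    have h1 : ¬ (Cfsg.hermForm n F q (l • v) (l • v) = 0 ∧ c ^ q = -c) := by
      rintro ⟨h1, h2⟩
      apply h
      refine ⟨?_, h2⟩
      rw [hiso] at h1
      exact (mul_eq_zero.mp h1).resolve_left hNl
    have h2 : ¬ (Cfsg.hermForm n F q v v = 0 ∧ (l * l ^ q * c) ^ q = -(l * l ^ q * c)) := by
      rintro ⟨h1, h2⟩
      apply h
      refine ⟨h1, ?_⟩
      rw [mul_pow, hN] at h2
      have : l * l ^ q * (c ^ q + c) = 0 := by linear_combination h2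
      have := (mul_eq_zero.mp this).resolve_left hNl
      linear_combination this
    rw [Tr_junk hF h1, Tr_junk hF h2]

/-! ### parameter groups and the root set -/

/-- the parameter group of the centre `v` in `X` -/
def Apar (X : Subgroup ↥(Cfsg.SU n F q)) (v : Fin n → F) : AddSubgroup F where
  carrier := {c | c ^ q = -c ∧ Tr hF v c ∈ X}
  zero_mem' := ⟨skew_zero hF, by rw [Tr_zero]; exact X.one_mem⟩
  add_mem' := by
    rintro a b ⟨ha, ha'⟩ ⟨hb, hb'⟩
    exact ⟨skew_add hF ha hb, by rw [← Tr_mul hF ha hb]; exact X.mul_mem ha' hb'⟩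
  neg_mem' := by
    rintro a ⟨ha, ha'⟩
    exact ⟨skew_neg hF ha, by rw [← Tr_inv hF ha]; exact X.inv_mem ha'⟩

theorem mem_Apar {X : Subgroup ↥(Cfsg.SU n F q)} {v : Fin n → F} {c : F} :
    c ∈ Apar hF X v ↔ c ^ q = -c ∧ Tr hF v c ∈ X := Iff.rfl

theorem Apar_av {X : Subgroup ↥(Cfsg.SU n F q)} {g : ↥(Cfsg.SU n F q)} (hg : g ∈ X)
    (v : Fin n → F) : Apar hF X (av g v) = Apar hF X v := by
  ext c
  rw [mem_Apar, mem_Apar, ← conj_Tr]
  constructor
  · rintro ⟨hc, h⟩
    refine ⟨hc, ?_⟩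
    have := X.mul_mem (X.mul_mem (X.inv_mem hg) h) hg
    have e : g⁻¹ * (g * Tr hF v c * g⁻¹) * g = Tr hF v c := by group
    rwa [e] at this
  · rintro ⟨hc, h⟩
    exact ⟨hc, X.mul_mem (X.mul_mem hg h) (X.inv_mem hg)⟩

theorem Apar_neg_vec {X : Subgroup ↥(Cfsg.SU n F q)} (v : Fin n → F) :
    Apar hF X (-v) = Apar hF X v := by
  ext c
  have e : (-v : Fin n → F) = (-1 : F) • v := by rw [neg_smul, one_smul]
  have hq : ((-1 : F)) * (-1) ^ q = 1 := by
    have h1 := (frobQ hF).map_neg 1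
    rw [map_one, frobQ_apply] at h1
    rw [h1]; ring
  rw [mem_Apar, mem_Apar, e, Tr_smul, hq, one_mul]

/-- the root set: isotropic vectors whose full root group lies in `X` -/
def Rt (X : Subgroup ↥(Cfsg.SU n F q)) : Set (Fin n → F) :=
  {v | Cfsg.hermForm n F q v v = 0 ∧ ∀ c : F, c ^ q = -c → Tr hF v c ∈ X}


theorem mem_Rt {X : Subgroup ↥(Cfsg.SU n F q)} {v : Fin n → F} :
    v ∈ Rt hF X ↔ Cfsg.hermForm n F q v v = 0 ∧ ∀ c : F, c ^ q = -c → Tr hF v c ∈ X := Iff.rfl

theorem Rt_av {X : Subgroup ↥(Cfsg.SU n F q)} {g : ↥(Cfsg.SU n F q)} (hg : g ∈ X)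
    {v : Fin n → F} (hv : v ∈ Rt hF X) : av g v ∈ Rt hF X := by
  refine ⟨by rw [av_iso]; exact hv.1, fun c hc => ?_⟩
  rw [← conj_Tr]
  exact X.mul_mem (X.mul_mem hg (hv.2 c hc)) (X.inv_mem hg)

theorem Rt_smul {X : Subgroup ↥(Cfsg.SU n F q)} (l : F) {v : Fin n → F} (hv : v ∈ Rt hF X) :
    l • v ∈ Rt hF X := by
  have hf := herm_unitary (n := n) hF
  refine ⟨by rw [hf.smul_left, u_smul_right hf, hv.1, mul_zero, mul_zero], fun c hc => ?_⟩
  rw [Tr_smul]
  apply hv.2
  rw [mul_pow, mul_pow, pow_q_pow_q hF, hc]; ring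

/-- the hyperbolic line closure: `v + (c * h v v') • v' = T_{v'}(c) v` -/
theorem Rt_line {X : Subgroup ↥(Cfsg.SU n F q)} {v v' : Fin n → F} (hv : v ∈ Rt hF X)
    (hv' : v' ∈ Rt hF X) {c : F} (hc : c ^ q = -c) :
    v + (c * Cfsg.hermForm n F q v v') • v' ∈ Rt hF X := by
  rw [← av_Tr hF hv'.1 hc]
  exact Rt_av hF (hv'.2 c hc) hv

theorem mem_Apar_of_Rt {X : Subgroup ↥(Cfsg.SU n F q)} {v : Fin n → F} (hv : v ∈ Rt hF X)
    {c : F} (hc : c ^ q = -c) : c ∈ Apar hF X v := ⟨hc, hv.2 c hc⟩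

/-- a subgroup whose root set contains every isotropic vector is everything -/
theorem eq_top_of_Rt (hn : 3 ≤ n) (h32 : ¬ (n = 3 ∧ q = 2)) {X : Subgroup ↥(Cfsg.SU n F q)}
    (h : ∀ v : Fin n → F, Cfsg.hermForm n F q v v = 0 → v ∈ Rt hF X) : X = ⊤ := by
  have hf := herm_unitary (n := n) hF
  rw [eq_top_iff, ← closure_transvections_eq_top hF hn h32, Subgroup.closure_le]
  rintro A ⟨v, c, hv, hA⟩
  have hAx : ∀ x, av A x = x + (c * Cfsg.hermForm n F q x v) • v := by
    intro x; unfold av; rw [hA, ut_mulVec]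
  by_cases hc : c ^ q = -c
  · rw [eq_Tr hF hv hc hAx]
    exact (h v hv).2 c hc
  · have hv0 : v = 0 := by
      by_contra hv0
      obtain ⟨x, hx⟩ : ∃ x, Cfsg.hermForm n F q x v ≠ 0 := by
        by_contra hcon
        push Not at hcon
        exact hv0 (u_eq_zero_of_forall_left hf hcon)
      have h1 := av_iso A x x
      rw [hAx, hf.add_left, u_add_right hf, u_add_right hf, hf.smul_left, hf.smul_left,
        u_smul_right hf, u_smul_right hf, hv, mul_zero, mul_zero, add_zero, map_mul,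
        ← hf.herm v x, frobQ_apply] at h1
      have h2 : (c ^ q + c) * (Cfsg.hermForm n F q x v * Cfsg.hermForm n F q v x) = 0 := by
        linear_combination h1
      have hx' : Cfsg.hermForm n F q v x ≠ 0 := u_symm_ne hf hx
      have := (mul_eq_zero.mp h2).resolve_right (mul_ne_zero hx hx')
      exact hc (by linear_combination this)
    have : A = 1 := by
      apply av_ext
      intro x
      rw [hAx, hv0, smul_zero, add_zero, av_one]
    rw [this]
    exact X.one_mem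

/-! ### Siegel elements with skew parameter -/

/-- `Sk a b s : x ↦ x + (s * h x b) • a + (s * h x a) • b` for isotropic `a ⊥ b` and skew `s` -/
noncomputable def Sk (a b : Fin n → F) (s : F) : ↥(Cfsg.SU n F q) :=
  Tr hF (a + b) s * Tr hF a (-s) * Tr hF b (-s)

theorem av_Sk {a b : Fin n → F} (ha : Cfsg.hermForm n F q a a = 0)
    (hb : Cfsg.hermForm n F q b b = 0) (hab : Cfsg.hermForm n F q a b = 0) {s : F}
    (hs : s ^ q = -s) (x : Fin n → F) :
    av (Sk hF a b s) x =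
      x + (s * Cfsg.hermForm n F q x b) • a + (s * Cfsg.hermForm n F q x a) • b := by
  have hf := herm_unitary (n := n) hF
  have hba : Cfsg.hermForm n F q b a = 0 := u_symm_zero hf hab
  have hab' : Cfsg.hermForm n F q (a + b) (a + b) = 0 := by
    rw [hf.add_left, u_add_right hf, u_add_right hf, ha, hb, hab, hba]; ring
  have hs' := skew_neg hF hs
  unfold Sk
  rw [av_mul, av_mul, av_Tr hF hb hs', av_Tr hF ha hs', av_Tr hF hab' hs]
  simp only [hf.add_left, hf.smul_left, u_add_right hf, ha, hb, hab, hba, mul_zero, add_zero,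
    zero_add]
  ext i
  simp only [Pi.add_apply, Pi.smul_apply, smul_eq_mul]
  ring

theorem Sk_mem {X : Subgroup ↥(Cfsg.SU n F q)} {a b : Fin n → F} {s : F}
    (h1 : s ∈ Apar hF X (a + b)) (h2 : s ∈ Apar hF X a) (h3 : s ∈ Apar hF X b) :
    Sk hF a b s ∈ X := by
  unfold Sk
  refine X.mul_mem (X.mul_mem h1.2 ?_) ?_
  · rw [← Tr_inv hF h2.1]; exact X.inv_mem h2.2
  · rw [← Tr_inv hF h3.1]; exact X.inv_mem h3.2

/-- the commutator of two Siegel elements with the same first centre -/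
theorem Sk_comm {b z z' : Fin n → F} (hb : Cfsg.hermForm n F q b b = 0)
    (hz : Cfsg.hermForm n F q z z = 0) (hz' : Cfsg.hermForm n F q z' z' = 0)
    (hbz : Cfsg.hermForm n F q b z = 0) (hbz' : Cfsg.hermForm n F q b z' = 0)
    {s s' : F} (hs : s ^ q = -s) (hs' : s' ^ q = -s') :
    Sk hF b z s * Sk hF b z' s' * (Sk hF b z' s' * Sk hF b z s)⁻¹ =
      Tr hF b (s * s' * (Cfsg.hermForm n F q z' z - Cfsg.hermForm n F q z' z ^ q)) := by
  have hf := herm_unitary (n := n) hF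
  obtain ⟨κ, hκ⟩ : ∃ κ, κ = Cfsg.hermForm n F q z' z := ⟨_, rfl⟩
  have hzz' : Cfsg.hermForm n F q z z' = κ ^ q := by rw [hf.herm z z', frobQ_apply, hκ]
  have hzb : Cfsg.hermForm n F q z b = 0 := u_symm_zero hf hbz
  have hz'b : Cfsg.hermForm n F q z' b = 0 := u_symm_zero hf hbz'
  rw [← hκ]
  have hc : (s * s' * (κ - κ ^ q)) ^ q = -(s * s' * (κ - κ ^ q)) := by
    rw [mul_pow, mul_pow, hs, hs', fsub hF, pow_q_pow_q hF]; ring
  rw [mul_inv_eq_iff_eq_mul]
  apply av_ext
  intro x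
  rw [av_mul, av_mul, av_mul, av_Sk hF hb hz' hbz' hs', av_Sk hF hb hz hbz hs,
    av_Sk hF hb hz hbz hs, av_Sk hF hb hz' hbz' hs', av_Tr hF hb hc]
  simp only [hf.add_left, hf.smul_left, hb, hz, hz', hbz, hbz', hzb, hz'b, hzz', ← hκ, mul_zero,
    add_zero, zero_add]
  ext i
  simp only [Pi.add_apply, Pi.smul_apply, smul_eq_mul]
  ring

/-- the loop step: `s, s' ∈ L ⟹ s s' (κ - κ^q) ∈ L` -/
theorem mul_mem_Apar {X : Subgroup ↥(Cfsg.SU n F q)} {b z z' : Fin n → F}
    (hb : Cfsg.hermForm n F q b b = 0)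
    (hz : Cfsg.hermForm n F q z z = 0) (hz' : Cfsg.hermForm n F q z' z' = 0)
    (hbz : Cfsg.hermForm n F q b z = 0) (hbz' : Cfsg.hermForm n F q b z' = 0)
    (p1 : Apar hF X z = Apar hF X b) (p2 : Apar hF X z' = Apar hF X b)
    (p3 : Apar hF X (b + z) = Apar hF X b) (p4 : Apar hF X (b + z') = Apar hF X b)
    {s s' : F} (hs : s ∈ Apar hF X b) (hs' : s' ∈ Apar hF X b) :
    s * s' * (Cfsg.hermForm n F q z' z - Cfsg.hermForm n F q z' z ^ q) ∈ Apar hF X b := by
  have S1 : Sk hF b z s ∈ X := Sk_mem hF (by rw [p3]; exact hs) hs (by rw [p1]; exact hs)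
  have S2 : Sk hF b z' s' ∈ X := Sk_mem hF (by rw [p4]; exact hs') hs' (by rw [p2]; exact hs')
  have key := Sk_comm hF hb hz hz' hbz hbz' hs.1 hs'.1
  refine ⟨?_, ?_⟩
  · have hf := herm_unitary (n := n) hF
    rw [mul_pow, mul_pow, hs.1, hs'.1, fsub hF, pow_q_pow_q hF]; ring
  · rw [← key]
    exact X.mul_mem (X.mul_mem S1 S2) (X.inv_mem (X.mul_mem S2 S1))

/-- **the loop core**: with `c' = κ - κ^q`, `ζ` a generator of the fixed field and `g0 ∈ L`,
`c' g0 = ζ`, the root group of `b` is full -/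
theorem skew_core {X : Subgroup ↥(Cfsg.SU n F q)} {b z z' : Fin n → F}
    (hb : Cfsg.hermForm n F q b b = 0)
    (hz : Cfsg.hermForm n F q z z = 0) (hz' : Cfsg.hermForm n F q z' z' = 0)
    (hbz : Cfsg.hermForm n F q b z = 0) (hbz' : Cfsg.hermForm n F q b z' = 0)
    (p1 : Apar hF X z = Apar hF X b) (p2 : Apar hF X z' = Apar hF X b)
    (p3 : Apar hF X (b + z) = Apar hF X b) (p4 : Apar hF X (b + z') = Apar hF X b)
    (ζ : F) (hζ : ∀ y : F, y ≠ 0 → y ^ q = y → ∃ k : ℕ, y = ζ ^ (k + 1))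
    (g0 : F)
    (hg0 : (Cfsg.hermForm n F q z' z - Cfsg.hermForm n F q z' z ^ q) * g0 = ζ)
    (hT : g0 ∈ Apar hF X b) : b ∈ Rt hF X := by
  obtain ⟨c', hc'⟩ : ∃ c', c' = Cfsg.hermForm n F q z' z - Cfsg.hermForm n F q z' z ^ q :=
    ⟨_, rfl⟩
  rw [← hc'] at hg0
  have hζ0 : ζ ≠ 0 := by
    obtain ⟨k, hk⟩ := hζ 1 one_ne_zero (one_pow q)
    intro h0
    rw [h0, zero_pow (Nat.succ_ne_zero k)] at hk
    exact one_ne_zero hk
  have hg00 : g0 ≠ 0 := by
    intro h0; rw [h0, mul_zero] at hg0; exact hζ0 hg0.symm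
  have hc'0 : c' ≠ 0 := by
    intro h0; rw [h0, zero_mul] at hg0; exact hζ0 hg0.symm
  have hpow : ∀ k : ℕ, ζ ^ k * g0 ∈ Apar hF X b := by
    intro k
    induction k with
    | zero => rw [pow_zero, one_mul]; exact hT
    | succ k ih =>
      have := mul_mem_Apar hF hb hz hz' hbz hbz' p1 p2 p3 p4 ih hT
      rw [← hc'] at this
      have e : ζ ^ k * g0 * g0 * c' = ζ ^ (k + 1) * g0 := by
        rw [pow_succ, ← hg0]; ring
      rwa [e] at this
  refine ⟨hb, fun y hy => ?_⟩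
  by_cases hy0 : y = 0
  · rw [hy0, Tr_zero]; exact X.one_mem
  · have hfix : (y / g0) ^ q = y / g0 := by
      rw [div_pow, hy, hT.1, neg_div_neg_eq]
    obtain ⟨k, hk⟩ := hζ (y / g0) (div_ne_zero hy0 hg00) hfix
    have := (hpow (k + 1)).2
    rw [← hk, div_mul_cancel₀ _ hg00] at this
    exact this

/-- **the third conjugate**: `u a = a`, `u b0 = a + b0`, `a ⊥ b0` isotropic, `s0` skew, `μ` any
scalar: conjugating `u` by `Sk a (μ • b0) s0` multiplies it by `Tr a (-s0 (μ + μ^q))` -/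
theorem Sk_conj_u (u : ↥(Cfsg.SU n F q)) {a b0 : Fin n → F}
    (ha : Cfsg.hermForm n F q a a = 0) (hb0 : Cfsg.hermForm n F q b0 b0 = 0)
    (hab : Cfsg.hermForm n F q a b0 = 0) (hua : av u a = a) (hub : av u b0 = a + b0)
    {s0 : F} (hs0 : s0 ^ q = -s0) (μ : F) :
    Sk hF a (μ • b0) s0 * u * (Sk hF a (μ • b0) s0)⁻¹ = Tr hF a (-s0 * (μ + μ ^ q)) * u := by
  have hf := herm_unitary (n := n) hF
  have hba : Cfsg.hermForm n F q b0 a = 0 := u_symm_zero hf hab
  have hb : Cfsg.hermForm n F q (μ • b0) (μ • b0) = 0 := by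
    rw [hf.smul_left, u_smul_right hf, hb0, mul_zero, mul_zero]
  have hab' : Cfsg.hermForm n F q a (μ • b0) = 0 := by rw [u_smul_right hf, hab, mul_zero]
  have hc : (-s0 * (μ + μ ^ q)) ^ q = -(-s0 * (μ + μ ^ q)) := by
    rw [mul_pow, skew_neg hF hs0, fadd hF, pow_q_pow_q hF]; ring
  rw [mul_inv_eq_iff_eq_mul]
  apply av_ext
  intro x
  have e1 : Cfsg.hermForm n F q (av u x) a = Cfsg.hermForm n F q x a := by
    conv_lhs => rw [← hua]
    exact av_iso u x a
  have hub' : av u (b0 - a) = b0 := by rw [av_sub, hub, hua, add_sub_cancel_left]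
  have e2 : Cfsg.hermForm n F q (av u x) b0 =
      Cfsg.hermForm n F q x b0 - Cfsg.hermForm n F q x a := by
    conv_lhs => rw [← hub']
    rw [av_iso, u_sub_right hf]
  rw [av_mul, av_mul, av_mul, av_Sk hF ha hb hab' hs0, av_Sk hF ha hb hab' hs0, av_Tr hF ha hc,
    av_add, av_add, av_smul, av_smul, av_smul, hua, hub]
  simp only [hf.add_left, hf.smul_left, u_smul_right hf, frobQ_apply, e1, e2, ha, hb0, hab, hba,
    mul_zero, add_zero, zero_add]
  ext i
  simp only [Pi.add_apply, Pi.smul_apply, Pi.sub_apply, smul_eq_mul]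
  ring

end Cfsg.Agent.Lib.Helper13.SUA
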