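/-
helper13 (planner S2282): the abstract assembly for `n = 2m+1 ≥ 5` in the standard model.
From `u, w ∈ X` with the prescribed action on a Witt system `e_i, d, f_i` and ONE transvection
`T_{e_0}(g0) ∈ X` (the third conjugate), derive the hypotheses of the general endgame `E_n`:
all `e_i, f_i ∈ Rt X`, the links `e_i - e_{i+1} ∈ Rt X`, and the whole unital of
`⟨e_{m-1}, d, f_{m-1}⟩`.  Steps: parameter chain, loop core (`SUA.skew_core`), helper24's
`line_full` / `Rt_add_smul_of_Sg` (F2, F3), helper29's `L3_two_Rt`, the downward `f`-chain (F4).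
-/
import Mathlib
import Cfsg.Agent.Lib.Helper13.SUApi
import Cfsg.Agent.Lib.Helper24.SUFullSg
import Cfsg.Agent.Lib.Helper29.SUL3Rt

set_option autoImplicit false
set_option linter.unusedSectionVars false
set_option linter.unusedVariables false
set_option linter.unusedSimpArgs false

namespace Cfsg.Agent.Lib.Helper13.SU5

open Cfsg Matrix Cfsg.Agent.Lib.Helper5.SUGen Cfsg.Agent.Lib.Helper5.HermBridge
  Cfsg.Agent.Lib.Helper5.UForm Cfsg.Agent.Lib.Helper6.SUApi Cfsg.Agent.Lib.Helper24.SUFullSg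
  Cfsg.Agent.Lib.Helper29.SUL3

variable {F : Type*} [Field F] [Fintype F] {q n : ℕ}

/-- the Gram data of a Witt system `e_i, d, f_i` -/
structure Witt (q : ℕ) (m : ℕ) (e f : Fin m → (Fin n → F)) (d : Fin n → F) : Prop where
  ee : ∀ i j, Cfsg.hermForm n F q (e i) (e j) = 0
  ff : ∀ i j, Cfsg.hermForm n F q (f i) (f j) = 0
  ef : ∀ i j, Cfsg.hermForm n F q (e i) (f j) = if i = j then 1 else 0
  dd : Cfsg.hermForm n F q d d = 1
  ed : ∀ i, Cfsg.hermForm n F q (e i) d = 0
  fd : ∀ i, Cfsg.hermForm n F q (f i) d = 0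

variable (hF : Fintype.card F = q ^ 2)
include hF

section witt
variable {m : ℕ} {e f : Fin m → (Fin n → F)} {d : Fin n → F} (hW : Witt q m e f d)
include hW

theorem Witt.fe (i j : Fin m) : Cfsg.hermForm n F q (f j) (e i) = if i = j then 1 else 0 := by
  have hf := herm_unitary (n := n) hF
  rw [hf.herm, hW.ef]
  split_ifs
  · exact map_one _
  · exact map_zero _

theorem Witt.de (i : Fin m) : Cfsg.hermForm n F q d (e i) = 0 := by
  have hf := herm_unitary (n := n) hF
  rw [hf.herm, hW.ed, map_zero]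

theorem Witt.df (i : Fin m) : Cfsg.hermForm n F q d (f i) = 0 := by
  have hf := herm_unitary (n := n) hF
  rw [hf.herm, hW.fd, map_zero]

end witt

theorem Rt_neg {X : Subgroup ↥(Cfsg.SU n F q)} {v : Fin n → F} (hv : v ∈ Rt hF X) :
    -v ∈ Rt hF X := by
  have := Rt_smul hF (-1 : F) hv
  rwa [neg_smul, one_smul] at this

theorem Rt_of_neg {X : Subgroup ↥(Cfsg.SU n F q)} {v : Fin n → F} (hv : -v ∈ Rt hF X) :
    v ∈ Rt hF X := by
  have := Rt_neg hF hv
  rwa [neg_neg] at this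

theorem Rt_inv_ap {X : Subgroup ↥(Cfsg.SU n F q)} {g : ↥(Cfsg.SU n F q)} (hg : g ∈ X)
    {v : Fin n → F} (hv : av g v ∈ Rt hF X) : v ∈ Rt hF X := by
  have := Rt_ap hF (X.inv_mem hg) hv
  rwa [av_inv_av] at this


/-- **the abstract assembly for `n ≥ 5`** -/
theorem core5 {m : ℕ} (hm : 2 ≤ m) {X : Subgroup ↥(Cfsg.SU n F q)}
    {e f : Fin m → (Fin n → F)} {d : Fin n → F} (hW : Witt q m e f d)
    {u w : ↥(Cfsg.SU n F q)} (hu : u ∈ X) (hw : w ∈ X)
    (hue : ∀ i j : Fin m, j.val = i.val + 1 → av u (e i - e j) = -e j)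
    (hwe : ∀ i j : Fin m, j.val = i.val + 1 → av w (e i) = e i - e j)
    (huf : ∀ i j : Fin m, j.val = i.val + 1 → av u (f i) = f i - f j)
    (hwf : ∀ i j : Fin m, j.val = i.val + 1 → av w (f j - f i) = f j)
    {α β ε : F} (hα : α ≠ 0) (hαβ : β + β ^ q + α * α ^ q = 0) (hβ : β ^ q ≠ β)
    (hwl : ∀ il : Fin m, il.val + 1 = m →
      av w⁻¹ (e il) = e il + (ε * α ^ q) • d + β ^ q • f il)
    (hwp : ∀ ip il : Fin m, il.val = ip.val + 1 → il.val + 1 = m →
      av w⁻¹ (e ip) = e ip + (e il + (ε * α ^ q) • d + β ^ q • f il))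
    (hul : ∀ ip il : Fin m, il.val = ip.val + 1 → il.val + 1 = m →
      av u⁻¹ (e il) = e il - e ip ∧ av u⁻¹ d = d - α • e il ∧
        av u⁻¹ (f il) = f il + α ^ q • d + β ^ q • e il)
    {ζ g0 : F} (hζ : ∀ y : F, y ≠ 0 → y ^ q = y → ∃ k : ℕ, y = ζ ^ (k + 1))
    (hg0 : (β - β ^ q) * g0 = ζ) (hg0s : g0 ^ q = -g0)
    (hT : ∀ i0 : Fin m, i0.val = 0 → Tu hF (e i0) g0 ∈ X) :
    (∀ i, e i ∈ Rt hF X) ∧ (∀ i, f i ∈ Rt hF X) ∧
    (∀ i j : Fin m, j.val = i.val + 1 → e i - e j ∈ Rt hF X) ∧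
    (∀ i j : Fin m, j.val = i.val + 1 → ∀ μ : F, e i + μ • e j ∈ Rt hF X) ∧
    (∀ il : Fin m, il.val + 1 = m → ∀ x y z : F,
      Cfsg.hermForm n F q (x • e il + y • d + z • f il) (x • e il + y • d + z • f il) = 0 →
      x • e il + y • d + z • f il ∈ Rt hF X) := by
  classical
  have hf := herm_unitary (n := n) hF
  obtain ⟨i0, hi0⟩ : ∃ i0 : Fin m, i0 = ⟨0, by omega⟩ := ⟨_, rfl⟩
  obtain ⟨il, hil⟩ : ∃ il : Fin m, il = ⟨m - 1, by omega⟩ := ⟨_, rfl⟩
  obtain ⟨ip, hip⟩ : ∃ ip : Fin m, ip = ⟨m - 2, by omega⟩ := ⟨_, rfl⟩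
  have h0v : i0.val = 0 := by rw [hi0]
  have hl : il.val + 1 = m := by rw [hil]; show m - 1 + 1 = m; omega
  have hp : il.val = ip.val + 1 := by rw [hil, hip]; show m - 1 = m - 2 + 1; omega
  have hne : ip ≠ il := by
    intro h; rw [h] at hp; omega
  have hβ0 : β ^ q ≠ 0 := by
    intro h0
    have : β = 0 := by
      by_contra hb
      exact (pow_ne_zero q hb) h0
    rw [this] at hβ
    exact hβ (by rw [zero_pow]; intro hq0; rw [hq0] at h0; simp at h0)
  have hneg : ∀ x : F, (-x) ^ q = -x ^ q := fun x => (frobQ hF).map_neg x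
  -- the parameter chain
  have chain : ∀ k : ℕ, ∀ i : Fin m, i.val = k → SUA.Apar hF X (e i) = SUA.Apar hF X (e i0) := by
    intro k
    induction k with
    | zero =>
      intro i hi
      have : i = i0 := Fin.ext (by rw [hi, h0v])
      rw [this]
    | succ k ih =>
      intro j hj
      have hk : k < m := by have := j.2; omega
      have h1 := ih ⟨k, hk⟩ rfl
      have e1 : av (u * w) (e ⟨k, hk⟩) = -e j := by
        rw [av_mul, hwe ⟨k, hk⟩ j (by simpa using hj), hue ⟨k, hk⟩ j (by simpa using hj)]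
      rw [← SUA.Apar_neg_vec hF (e j), ← e1, SUA.Apar_av hF (X.mul_mem hu hw), h1]
  have cl := chain il.val il rfl
  have cp := chain ip.val ip rfl
  -- the four vectors of the loop
  obtain ⟨z', hz'def⟩ : ∃ z' : Fin n → F, z' = e il + (ε * α ^ q) • d + β ^ q • f il := ⟨_, rfl⟩
  have hwz' : av w⁻¹ (e il) = z' := by rw [hz'def]; exact hwl il hl
  have hwbz' : av w⁻¹ (e ip) = e ip + z' := by rw [hz'def]; exact hwp ip il hp hl
  have hz'iso : Cfsg.hermForm n F q z' z' = 0 := by rw [← hwz', av_iso, hW.ee]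
  have hbz : Cfsg.hermForm n F q (e ip) (-e il) = 0 := by rw [u_neg_right hf, hW.ee, neg_zero]
  have hbz' : Cfsg.hermForm n F q (e ip) z' = 0 := by
    rw [hz'def, u_add_right hf, u_add_right hf, u_smul_right hf, u_smul_right hf, hW.ee, hW.ed,
      hW.ef, if_neg hne]
    ring
  have hκ : Cfsg.hermForm n F q z' (-e il) = -β ^ q := by
    rw [hz'def, u_neg_right hf, hf.add_left, hf.add_left, hf.smul_left, hf.smul_left, hW.ee,
      Witt.de hF hW, Witt.fe hF hW, if_pos rfl]
    ring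
  have hziso : Cfsg.hermForm n F q (-e il) (-e il) = 0 := by
    rw [u_neg_right hf, u_neg_left hf, hW.ee]; ring
  have p1 : SUA.Apar hF X (-e il) = SUA.Apar hF X (e ip) := by
    rw [SUA.Apar_neg_vec, cl, cp]
  have p2 : SUA.Apar hF X z' = SUA.Apar hF X (e ip) := by
    rw [← hwz', SUA.Apar_av hF (X.inv_mem hw), cl, cp]
  have p3 : SUA.Apar hF X (e ip + -e il) = SUA.Apar hF X (e ip) := by
    rw [← sub_eq_add_neg, ← hwe ip il hp, SUA.Apar_av hF hw]
  have p4 : SUA.Apar hF X (e ip + z') = SUA.Apar hF X (e ip) := by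
    rw [← hwbz', SUA.Apar_av hF (X.inv_mem hw)]
  have hTb : g0 ∈ SUA.Apar hF X (e ip) := by
    rw [cp]
    exact ⟨hg0s, hT i0 h0v⟩
  have hRtp : e ip ∈ Rt hF X := by
    apply SUA.skew_core hF (hW.ee ip ip) hziso hz'iso hbz hbz' p1 p2 p3 p4 ζ hζ g0 _ hTb
    rw [hκ, hneg, pow_q_pow_q hF]
    linear_combination hg0
  -- all `e_i` are root vectors
  have hE : ∀ i, e i ∈ Rt hF X := by
    intro i
    refine ⟨hW.ee i i, fun c hc => ?_⟩
    have h1 : c ∈ SUA.Apar hF X (e i) := by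
      rw [chain i.val i rfl, ← cp]
      exact ⟨hc, hRtp.2 c hc⟩
    exact h1.2
  have hlink : ∀ i j : Fin m, j.val = i.val + 1 → e i - e j ∈ Rt hF X := by
    intro i j hij
    rw [← hwe i j hij]
    exact Rt_ap hF hw (hE i)
  -- (F2): the full Siegel group of `⟨e_{m-2}, e_{m-1}⟩`
  obtain ⟨θ, hθ0, hθ⟩ := exists_skew hf.involutive hf.ne_refl
  have hz'Rt : z' ∈ Rt hF X := by
    rw [← hwz']; exact Rt_ap hF (X.inv_mem hw) (hE il)
  have hκns : frobQ hF (Cfsg.hermForm n F q z' (-e il)) ≠ -Cfsg.hermForm n F q z' (-e il) := by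
    rw [hκ, frobQ_apply, hneg, pow_q_pow_q hF, neg_neg]
    intro h
    have h2 : α * α ^ q = 0 := by linear_combination hαβ + h
    rcases mul_eq_zero.mp h2 with h3 | h3
    · exact hα h3
    · exact hα (pow_eq_zero_iff (by have := Cfsg.Agent.Lib.Helper14.herm_two_le hF; omega) |>.mp h3)
  obtain ⟨hline0, hSgall⟩ := line_full hF hθ hθ0 (hE ip) (Rt_neg hF (hE il)) hz'Rt hbz hbz'
    (by rw [← sub_eq_add_neg]; exact hlink ip il hp)
    (by rw [← hwbz']; exact Rt_ap hF (X.inv_mem hw) (hE ip)) hκns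
  -- (F3): a second point of the unital of `⟨e_{m-1}, d, f_{m-1}⟩`
  obtain ⟨hul1, hul2, hul3⟩ := hul ip il hp hl
  obtain ⟨C, hC⟩ : ∃ C : F, C = 1 - ε * (α * α ^ q) + β ^ q * β ^ q := ⟨_, rfl⟩
  have hy0 : av u⁻¹ z' =
      -e ip + (C • e il + (α ^ q * (ε + β ^ q)) • d + β ^ q • f il) := by
    rw [hz'def, av_add, av_add, av_smul, av_smul, hul1, hul2, hul3, hC]
    ext k
    simp only [Pi.add_apply, Pi.sub_apply, Pi.smul_apply, Pi.neg_apply, smul_eq_mul]
    ring
  have hy0Rt : av u⁻¹ z' ∈ Rt hF X := Rt_ap hF (X.inv_mem hu) hz'Rt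
  have hyRt : C • e il + (α ^ q * (ε + β ^ q)) • d + β ^ q • f il ∈ Rt hF X := by
    have h1 := Rt_add_smul_of_Sg hF hθ hθ0 (hW.ee ip ip) hziso hbz hSgall hy0Rt ?_ ?_ 1
    · rw [hy0, one_smul] at h1
      have e2 : -e ip + (C • e il + (α ^ q * (ε + β ^ q)) • d + β ^ q • f il) + e ip =
          C • e il + (α ^ q * (ε + β ^ q)) • d + β ^ q • f il := by abel
      rwa [e2] at h1
    · rw [hy0]
      simp only [hf.add_left, hf.smul_left, u_neg_left hf, hW.ee, Witt.de hF hW, Witt.fe hF hW,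
        if_neg hne, mul_zero, add_zero, neg_zero]
    · rw [hy0]
      have e3 : Cfsg.hermForm n F q
          (-e ip + (C • e il + (α ^ q * (ε + β ^ q)) • d + β ^ q • f il)) (-e il) = -β ^ q := by
        simp only [hf.add_left, hf.smul_left, u_neg_left hf, u_neg_right hf, hW.ee,
          Witt.de hF hW, Witt.fe hF hW, if_true, mul_zero, add_zero, neg_zero, zero_add, mul_one]
        ring
      rw [e3]
      exact neg_ne_zero.mpr hβ0
  -- L3 on `⟨e_{m-1}, d, f_{m-1}⟩`
  have hWT : WT (Cfsg.hermForm n F q) (e il) d (f il) :=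
    ⟨hW.ee il il, hW.ff il il, by rw [hW.ef, if_pos rfl], hW.dd, hW.ed il, hW.fd il⟩
  have hP1 : (1 / β ^ q) • e il + (ε * α ^ q / β ^ q) • d + f il ∈ Rt hF X := by
    have := Rt_smul hF (1 / β ^ q) hz'Rt
    rw [hz'def, smul_add, smul_add, smul_smul, smul_smul, one_div, inv_mul_cancel₀ hβ0,
      one_smul] at this
    rw [one_div, div_eq_inv_mul]
    exact this
  have hP2 : (C / β ^ q) • e il + (α ^ q * (ε + β ^ q) / β ^ q) • d + f il ∈ Rt hF X := by
    have := Rt_smul hF (1 / β ^ q) hyRt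
    rw [smul_add, smul_add, smul_smul, smul_smul, smul_smul, one_div, inv_mul_cancel₀ hβ0,
      one_smul] at this
    rw [div_eq_inv_mul, div_eq_inv_mul]
    exact this
  have h12 : ε * α ^ q / β ^ q ≠ α ^ q * (ε + β ^ q) / β ^ q := by
    intro h
    have hαq : α ^ q ≠ 0 := pow_ne_zero q hα
    field_simp at h
    apply hβ0
    linear_combination (-1 : F) * h
  have hWall : ∀ x y z : F,
      Cfsg.hermForm n F q (x • e il + y • d + z • f il) (x • e il + y • d + z • f il) = 0 →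
      x • e il + y • d + z • f il ∈ Rt hF X :=
    fun x y z hiso => L3_two_Rt hF hWT (hE il) h12 hP1 hP2 x y z hiso
  have hFl : f il ∈ Rt hF X := by
    have := hWall 0 0 1 (by
      rw [zero_smul, zero_smul, zero_add, zero_add, one_smul]; exact hW.ff il il)
    rwa [zero_smul, zero_smul, zero_add, zero_add, one_smul] at this
  -- (F4): the downward `f`-chain
  have hFF : ∀ k : ℕ, ∀ i : Fin m, i.val + k + 1 = m → f i ∈ Rt hF X := by
    intro k
    induction k with
    | zero =>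
      intro i hi
      have : i = il := Fin.ext (by omega)
      rw [this]; exact hFl
    | succ k ih =>
      intro i hi
      have hj : i.val + 1 < m := by omega
      have hfj := ih ⟨i.val + 1, hj⟩ (by show i.val + 1 + k + 1 = m; omega)
      have h1 : f ⟨i.val + 1, hj⟩ - f i ∈ Rt hF X := by
        apply Rt_inv_ap hF hw
        rw [hwf i ⟨i.val + 1, hj⟩ rfl]
        exact hfj
      have h2 : f i - f ⟨i.val + 1, hj⟩ ∈ Rt hF X := by
        have := Rt_neg hF h1
        rwa [neg_sub] at this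
      apply Rt_inv_ap hF hu
      rw [huf i ⟨i.val + 1, hj⟩ rfl]
      exact h2
  -- the `e`-`e` lines of consecutive pairs
  have hθe : ∀ i j : Fin m, j.val = i.val + 1 → av (u * w) (e i) = -e j := by
    intro i j hij
    rw [av_mul, hwe i j hij, hue i j hij]
  have hEE : ∀ k : ℕ, ∀ i j : Fin m, j.val = i.val + 1 → j.val + k + 1 = m →
      ∀ μ : F, e i + μ • e j ∈ Rt hF X := by
    intro k
    induction k with
    | zero =>
      intro i j hij hj μ
      have hj' : j = il := Fin.ext (by omega)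
      have hi' : i = ip := Fin.ext (by omega)
      rw [hj', hi']
      by_cases hμ : μ = 0
      · rw [hμ, zero_smul, add_zero]; exact hE ip
      · have := Rt_smul hF (-μ) (hline0 (-μ)⁻¹)
        have e4 : (-μ) • (-e il + (-μ)⁻¹ • e ip) = e ip + μ • e il := by
          rw [smul_add, smul_smul, mul_inv_cancel₀ (neg_ne_zero.mpr hμ), one_smul, smul_neg,
            neg_smul, neg_neg, add_comm]
        rwa [e4] at this
    | succ k ih =>
      intro i j hij hj μ
      have hj2 : j.val + 1 < m := by omega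
      have h1 := ih j ⟨j.val + 1, hj2⟩ rfl (by show j.val + 1 + k + 1 = m; omega) μ
      apply Rt_inv_ap hF (X.mul_mem hu hw)
      rw [av_add, av_smul, hθe i j hij, hθe j ⟨j.val + 1, hj2⟩ rfl]
      have := Rt_neg hF h1
      rwa [neg_add, ← smul_neg] at this
  refine ⟨hE, fun i => hFF (m - 1 - i.val) i (by have := i.2; omega), hlink,
    fun i j hij μ => hEE (m - 1 - j.val) i j hij (by have := j.2; omega) μ, ?_⟩
  intro il' hl' x y z hiso
  have : il' = il := Fin.ext (by omega)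
  rw [this] at hiso ⊢
  exact hWall x y z hiso

end Cfsg.Agent.Lib.Helper13.SU5
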