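/-
helper13 (planner S2282): the concrete instance for `n = d+1+d ≥ 5`: helper26's `u0` (J-model),
a Weyl-type element `Jw` with `w0 = Jw u0 Jw⁻¹`, transported to the standard model through
helper16's `suIso` (helper23's bridge), third conjugate by helper6's Siegel element, then
`SU5.core5` and helper24's `endgame_lines`.
-/
import Mathlib
import Cfsg.Agent.Lib.Helper13.SU5Asm
import Cfsg.Agent.Lib.Helper24.SUEnAsm
import Cfsg.Agent.Lib.Helper26.SURegA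
import Cfsg.Agent.Lib.Helper23.SUBridge4
import Cfsg.Agent.Lib.Helper8.SUField

set_option autoImplicit false
set_option linter.unusedSectionVars false
set_option linter.unusedVariables false
set_option linter.unusedSimpArgs false

namespace Cfsg.Agent.Lib.Helper13.SU5

open Cfsg Matrix Cfsg.Agent.Lib.Helper5.SUGen Cfsg.Agent.Lib.Helper5.HermBridge
  Cfsg.Agent.Lib.Helper5.UForm Cfsg.Agent.Lib.Helper6.SUApi
  Cfsg.Agent.Lib.Helper16.FusSU Cfsg.Agent.Lib.Helper13.LSU Cfsg.Agent.Lib.Helper26.SUReg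
  Cfsg.Agent.Lib.Helper23.SUBridge Cfsg.Agent.Lib.Helper4.SU3 Cfsg.Agent.Lib.Helper24.SUEnRed

section Jgram
variable {K : Type*} [Field K] (σ : K →+* K) {d : ℕ}

theorem hJ_single_right (y : Fin (d + 1 + d) → K) (a : Fin (d + 1 + d)) :
    hJ σ y (Pi.single a 1) = y a.rev := by
  unfold hJ
  rw [sh_single, map_one, dotProduct_single, mul_one]

theorem hJ_eJ_right (y : Fin (d + 1 + d) → K) (i : Fin d) :
    hJ σ y (eJ i) = y (eO d (Sum.inr i)) := by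
  unfold eJ
  rw [hJ_single_right, eO_rev]
  rfl

theorem hJ_fJ_right (y : Fin (d + 1 + d) → K) (i : Fin d) :
    hJ σ y (fJ i) = y (eO d (Sum.inl (Sum.inl i))) := by
  unfold fJ
  rw [hJ_single_right, eO_rev]
  rfl

theorem hJ_dJ_right (y : Fin (d + 1 + d) → K) :
    hJ σ y (dJ) = y (eO d (Sum.inl (Sum.inr 0))) := by
  unfold dJ
  rw [hJ_single_right, eO_rev]
  rfl

theorem eJ_apply (i : Fin d) (a : T3 d) :
    (eJ i : Fin (d + 1 + d) → K) (eO d a) = if a = Sum.inl (Sum.inl i) then 1 else 0 := by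
  unfold eJ
  rw [Pi.single_apply]
  simp only [(eO d).injective.eq_iff]

theorem fJ_apply (i : Fin d) (a : T3 d) :
    (fJ i : Fin (d + 1 + d) → K) (eO d a) = if a = Sum.inr i then 1 else 0 := by
  unfold fJ
  rw [Pi.single_apply]
  simp only [(eO d).injective.eq_iff]

theorem dJ_apply (a : T3 d) :
    (dJ : Fin (d + 1 + d) → K) (eO d a) = if a = Sum.inl (Sum.inr 0) then 1 else 0 := by
  unfold dJ
  rw [Pi.single_apply]
  simp only [(eO d).injective.eq_iff]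

end Jgram


variable {F : Type*} [Field F] [Fintype F] {q : ℕ} (hF : Fintype.card F = q ^ 2) {d : ℕ}

/-- the Witt system `Q eJ_i, Q dJ, Q fJ_i` of the standard hermitian form -/
theorem WS_Q {ζc τ : F} (hζc : ζc * frobHom hF ζc = -1) (hτ : τ + frobHom hF τ = 1) :
    WS q (fun i : Fin d => Qmat (frobHom hF) ζc τ *ᵥ eJ i)
      (fun i : Fin d => Qmat (frobHom hF) ζc τ *ᵥ fJ i) (Qmat (frobHom hF) ζc τ *ᵥ dJ) := by
  refine ⟨?_, ?_, ?_, ?_, ?_, ?_, ?_⟩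
  · intro i j
    rw [hermForm_Qmat hF hζc hτ, hJ_eJ_right, eJ_apply, if_neg (by simp)]
  · intro i j
    rw [hermForm_Qmat hF hζc hτ, hJ_fJ_right, fJ_apply, if_neg (by simp)]
  · intro i j
    rw [hermForm_Qmat hF hζc hτ, hJ_fJ_right, eJ_apply]
    by_cases h : i = j
    · rw [if_pos h, if_pos (by rw [h])]
    · rw [if_neg h, if_neg (fun h' => h (by simpa using h'.symm))]
  · intro i
    rw [hermForm_Qmat hF hζc hτ, hJ_dJ_right, eJ_apply, if_neg (by simp)]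
  · intro i
    rw [hermForm_Qmat hF hζc hτ, hJ_dJ_right, fJ_apply, if_neg (by simp)]
  · rw [hermForm_Qmat hF hζc hτ, hJ_dJ_right, dJ_apply, if_pos rfl]
  · intro x h1 h2 h3
    obtain ⟨y, rfl⟩ := exists_eq_Qv hF hζc hτ x
    have hy : y = 0 := by
      funext b
      obtain ⟨a, rfl⟩ := (eO d).surjective b
      rcases a with (i | z) | i
      · have := h2 i
        rwa [hermForm_Qmat hF hζc hτ, hJ_fJ_right] at this
      · have := h3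
        rw [hermForm_Qmat hF hζc hτ, hJ_dJ_right] at this
        obtain rfl : z = 0 := Subsingleton.elim _ _
        exact this
      · have := h1 i
        rwa [hermForm_Qmat hF hζc hτ, hJ_eJ_right] at this
    rw [hy, Matrix.mulVec_zero]


theorem Witt_of_WS {n m : ℕ} {E Fv : Fin m → (Fin n → F)} {D : Fin n → F} (W : WS q E Fv D) :
    Witt q m E Fv D := ⟨W.EE, W.FF, W.EF, W.DD, W.ED, W.FD⟩

/-- the sum of the `e_k`, `k ≤ l`, with `l` the last index, is `seJ` -/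
theorem sum_le_last (l : Fin d) (hl : (l : ℕ) + 1 = d) :
    (∑ k : Fin d, (if k ≤ l then (1 : F) else 0) • (eJ k : Fin (d + 1 + d) → F)) = seJ := by
  unfold seJ
  apply Finset.sum_congr rfl
  intro k _
  have : k ≤ l := by rw [Fin.le_def]; have := k.2; omega
  rw [if_pos this, one_smul]

/-- **`n = d+1+d ≥ 5`**: the frozen conclusion in the standard model from the data of a Weyl-type
element `Jw` of `UJ` (`w0 = Jw u0 Jw⁻¹`) -/
theorem su5_of_w0 (hd : 2 ≤ d) {α β ε : F}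
    (hαβ : β + frobHom hF β + α * frobHom hF α = 0) (hα : α ≠ 0) (hβ : frobHom hF β ≠ β)
    (l : Fin d) (hl : (l : ℕ) + 1 = d)
    (Jw : ↥(UJ (frobHom hF) (d + 1 + d)))
    (hw_e : ∀ i j : Fin d, (j : ℕ) = (i : ℕ) + 1 →
      (((Jw * u0 (frobHom hF) (frob_invol hF) l hαβ * Jw⁻¹ : ↥(UJ (frobHom hF) (d + 1 + d))) :
        SpecialLinearGroup (Fin (d + 1 + d)) F) : Matrix _ _ F) *ᵥ eJ i = eJ i - eJ j)
    (hw_f : ∀ i j : Fin d, (j : ℕ) = (i : ℕ) + 1 →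
      (((Jw * u0 (frobHom hF) (frob_invol hF) l hαβ * Jw⁻¹ : ↥(UJ (frobHom hF) (d + 1 + d))) :
        SpecialLinearGroup (Fin (d + 1 + d)) F) : Matrix _ _ F) *ᵥ (fJ j - fJ i) = fJ j)
    (hw_z : (((Jw * u0 (frobHom hF) (frob_invol hF) l hαβ * Jw⁻¹ :
        ↥(UJ (frobHom hF) (d + 1 + d))) :
        SpecialLinearGroup (Fin (d + 1 + d)) F) : Matrix _ _ F) *ᵥ
        (eJ l + (ε * frobHom hF α) • dJ + frobHom hF β • fJ l) = eJ l) :
    ∃ u g h : ↥(Cfsg.SU (d + 1 + d) F q),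
      (IsNilpotent (((u : Matrix.SpecialLinearGroup (Fin (d + 1 + d)) F) :
          Matrix (Fin (d + 1 + d)) (Fin (d + 1 + d)) F) - 1) ∧
        (((u : Matrix.SpecialLinearGroup (Fin (d + 1 + d)) F) :
          Matrix (Fin (d + 1 + d)) (Fin (d + 1 + d)) F) - 1) ^ (d + 1 + d - 1) ≠ 0) ∧
      Subgroup.closure ({u, g * u * g⁻¹, h * u * h⁻¹} : Set ↥(Cfsg.SU (d + 1 + d) F q)) = ⊤ := by
  classical
  have hf := herm_unitary (n := d + 1 + d) hF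
  obtain ⟨ζc, τ, -, hτ, hζc⟩ := Cfsg.Agent.Lib.Helper18.PSUMod.exists_consts hF
  obtain ⟨φ, hφ⟩ : ∃ φ : Cfsg.SU (d + 1 + d) F q ≃* UJ (frobHom hF) (d + 1 + d),
      φ = suIso hF (d + 1 + d) hζc hτ := ⟨_, rfl⟩
  obtain ⟨Q, hQ⟩ : ∃ Q : Matrix (Fin (d + 1 + d)) (Fin (d + 1 + d)) F,
      Q = Qmat (frobHom hF) ζc τ := ⟨_, rfl⟩
  have hW := WS_Q (d := d) hF hζc hτ
  rw [← hQ] at hW
  obtain ⟨uJ, huJ⟩ : ∃ uJ : ↥(UJ (frobHom hF) (d + 1 + d)),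
      uJ = u0 (frobHom hF) (frob_invol hF) l hαβ := ⟨_, rfl⟩
  rw [← huJ] at hw_e hw_f hw_z
  have hav : ∀ (g : ↥(UJ (frobHom hF) (d + 1 + d))) (x : Fin (d + 1 + d) → F),
      av (φ.symm g) (Q *ᵥ x) = Q *ᵥ (((g : SpecialLinearGroup (Fin (d + 1 + d)) F) :
        Matrix _ _ F) *ᵥ x) := by
    intro g x
    rw [hφ, hQ]
    exact av_symm_Qmat hF hζc hτ g x
  obtain ⟨u, hu⟩ : ∃ u : ↥(Cfsg.SU (d + 1 + d) F q), u = φ.symm uJ := ⟨_, rfl⟩
  obtain ⟨hJ', hhJ⟩ : ∃ h : ↥(Cfsg.SU (d + 1 + d) F q), h = φ.symm Jw := ⟨_, rfl⟩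
  have hwdef : hJ' * u * hJ'⁻¹ = φ.symm (Jw * uJ * Jw⁻¹) := by
    rw [hhJ, hu, map_mul, map_mul, map_inv]
  -- indices
  obtain ⟨i0, hi0⟩ : ∃ i0 : Fin d, i0 = ⟨0, by omega⟩ := ⟨_, rfl⟩
  obtain ⟨i1, hi1⟩ : ∃ i1 : Fin d, i1 = ⟨1, by omega⟩ := ⟨_, rfl⟩
  have h0v : (i0 : ℕ) = 0 := by rw [hi0]
  have h1v : (i1 : ℕ) = (i0 : ℕ) + 1 := by rw [hi1, hi0]
  -- the action of `u`
  have hu_e0 : av u (Q *ᵥ eJ i0) = Q *ᵥ eJ i0 := by
    rw [hu, hav, huJ, u0_eJ_zero _ _ l hαβ i0 h0v]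
  have hu_succ : ∀ i j : Fin d, (j : ℕ) = (i : ℕ) + 1 →
      av u (Q *ᵥ eJ j) = av u (Q *ᵥ eJ i) + Q *ᵥ eJ j := by
    intro i j hij
    rw [hu, hav, hav, huJ, u0_eJ_succ _ _ l hαβ i j hij, Matrix.mulVec_add]
  have hue : ∀ i j : Fin d, (j : ℕ) = (i : ℕ) + 1 →
      av u (Q *ᵥ eJ i - Q *ᵥ eJ j) = -(Q *ᵥ eJ j) := by
    intro i j hij
    rw [av_sub, hu_succ i j hij]
    abel
  have huf : ∀ i j : Fin d, (j : ℕ) = (i : ℕ) + 1 →
      av u (Q *ᵥ fJ i) = Q *ᵥ fJ i - Q *ᵥ fJ j := by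
    intro i j hij
    rw [hu, hav, huJ, u0_fJ_succ _ _ l hl hαβ i j hij, Matrix.mulVec_sub]
  -- the action of `w`
  have hwe : ∀ i j : Fin d, (j : ℕ) = (i : ℕ) + 1 →
      av (hJ' * u * hJ'⁻¹) (Q *ᵥ eJ i) = Q *ᵥ eJ i - Q *ᵥ eJ j := by
    intro i j hij
    rw [hwdef, hav, hw_e i j hij, Matrix.mulVec_sub]
  have hwf : ∀ i j : Fin d, (j : ℕ) = (i : ℕ) + 1 →
      av (hJ' * u * hJ'⁻¹) (Q *ᵥ fJ j - Q *ᵥ fJ i) = Q *ᵥ fJ j := by
    intro i j hij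
    rw [hwdef, ← Matrix.mulVec_sub, hav, hw_f i j hij]
  have hinv : ∀ (g : ↥(Cfsg.SU (d + 1 + d) F q)) (x y : Fin (d + 1 + d) → F),
      av g x = y → av g⁻¹ y = x := by
    intro g x y h
    rw [← h, av_inv_av]
  have hσ : ∀ x : F, frobHom hF x = x ^ q := fun x => rfl
  have hwl : ∀ il : Fin d, (il : ℕ) + 1 = d → av (hJ' * u * hJ'⁻¹)⁻¹ (Q *ᵥ eJ il) =
      Q *ᵥ eJ il + (ε * α ^ q) • (Q *ᵥ dJ) + β ^ q • (Q *ᵥ fJ il) := by
    intro il hil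
    have : il = l := Fin.ext (by omega)
    rw [this]
    apply hinv
    rw [← Matrix.mulVec_smul, ← Matrix.mulVec_smul, ← Matrix.mulVec_add, ← Matrix.mulVec_add,
      hwdef, hav, ← hσ, ← hσ, hw_z]
  have hwp : ∀ ip il : Fin d, (il : ℕ) = (ip : ℕ) + 1 → (il : ℕ) + 1 = d →
      av (hJ' * u * hJ'⁻¹)⁻¹ (Q *ᵥ eJ ip) =
        Q *ᵥ eJ ip + (Q *ᵥ eJ il + (ε * α ^ q) • (Q *ᵥ dJ) + β ^ q • (Q *ᵥ fJ il)) := by
    intro ip il hpl hil
    apply hinv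
    rw [av_add, ← hwl il hil, av_av_inv, hwe ip il hpl, sub_add_cancel]
  have hul : ∀ ip il : Fin d, (il : ℕ) = (ip : ℕ) + 1 → (il : ℕ) + 1 = d →
      av u⁻¹ (Q *ᵥ eJ il) = Q *ᵥ eJ il - Q *ᵥ eJ ip ∧
      av u⁻¹ (Q *ᵥ dJ) = Q *ᵥ dJ - α • (Q *ᵥ eJ il) ∧
      av u⁻¹ (Q *ᵥ fJ il) = Q *ᵥ fJ il + α ^ q • (Q *ᵥ dJ) + β ^ q • (Q *ᵥ eJ il) := by
    intro ip il hpl hil
    have hil' : il = l := Fin.ext (by omega)
    rw [hil']
    rw [hil'] at hpl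
    have hul_e : av u (Q *ᵥ eJ l) = Q *ᵥ seJ := by
      rw [hu, hav, huJ, u0_eJ _ _ l hαβ l, sum_le_last l hl]
    have hul_d : av u (Q *ᵥ dJ) = Q *ᵥ dJ + α • (Q *ᵥ seJ) := by
      rw [hu, hav, huJ, u0_dJ _ _ l hl hαβ, Matrix.mulVec_add, Matrix.mulVec_smul]
    have hul_f : av u (Q *ᵥ fJ l) = Q *ᵥ fJ l - frobHom hF α • (Q *ᵥ dJ) + β • (Q *ᵥ seJ) := by
      rw [hu, hav, huJ, u0_fJ_last _ _ l hl hαβ, Matrix.mulVec_add, Matrix.mulVec_sub,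
        Matrix.mulVec_smul, Matrix.mulVec_smul]
    refine ⟨?_, ?_, ?_⟩
    · apply hinv
      rw [av_sub, hu_succ ip l hpl]
      abel
    · apply hinv
      rw [av_sub, av_smul, hul_d, hul_e]
      abel
    · apply hinv
      rw [av_add, av_add, av_smul, av_smul, hul_f, hul_d, hul_e, ← hσ, ← hσ]
      have e5 : Q *ᵥ fJ l - frobHom hF α • (Q *ᵥ dJ) + β • (Q *ᵥ seJ) +
          frobHom hF α • (Q *ᵥ dJ + α • (Q *ᵥ seJ)) + frobHom hF β • (Q *ᵥ seJ) =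
          Q *ᵥ fJ l + (β + frobHom hF β + α * frobHom hF α) • (Q *ᵥ seJ) := by
        ext k
        simp only [Pi.add_apply, Pi.sub_apply, Pi.smul_apply, smul_eq_mul]
        ring
      rw [e5, hαβ, zero_smul, add_zero]
  -- the constants of the loop
  have hβ' : β ^ q ≠ β := hβ
  obtain ⟨ζ, hζ0, hζfix, hζgen⟩ := Cfsg.Agent.Lib.Helper8.SUField.exists_fixed_gen hF
  have hc'0 : β - β ^ q ≠ 0 := Cfsg.Agent.Lib.Helper8.SUField.sub_frob_ne_zero hβ'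
  obtain ⟨g0, hg0def⟩ : ∃ g0 : F, g0 = ζ / (β - β ^ q) := ⟨_, rfl⟩
  have hg0 : (β - β ^ q) * g0 = ζ := by rw [hg0def, mul_div_cancel₀ _ hc'0]
  have hg0s : g0 ^ q = -g0 := by
    rw [hg0def]
    exact Cfsg.Agent.Lib.Helper8.SUField.fixed_div_skew hζfix
      (Cfsg.Agent.Lib.Helper8.SUField.sub_frob_skew hF β)
  obtain ⟨s, hs⟩ := Cfsg.Agent.Lib.Helper8.SUField.exists_frob_sub_eq hF g0 hg0s
  obtain ⟨θ, hθ0, hθ⟩ := exists_skew hf.involutive hf.ne_refl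
  -- the third conjugate
  obtain ⟨g, hg⟩ : ∃ g : ↥(Cfsg.SU (d + 1 + d) F q),
      g = Sg hF θ (Q *ᵥ eJ i0) (Q *ᵥ eJ i1) s := ⟨_, rfl⟩
  have hconj : g * u * g⁻¹ = Tu hF (Q *ᵥ eJ i0) g0 * u := by
    rw [hg, Sg_conj_u hF hθ hθ0 (hW.EE i0 i0) (hW.EE i1 i1) (hW.EE i0 i1) u hu_e0
      (by rw [hu_succ i0 i1 h1v, hu_e0]) s]
    congr 2
  refine ⟨u, g, hJ', ?_, ?_⟩
  · rw [hu, hφ, huJ]
    exact reg_symm hF hζc hτ (d + 1 + d - 1) _
      (u0_regular (frobHom hF) (frob_invol hF) l hl hαβ hα)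
  obtain ⟨X, hX⟩ : ∃ X : Subgroup ↥(Cfsg.SU (d + 1 + d) F q), X =
      Subgroup.closure ({u, g * u * g⁻¹, hJ' * u * hJ'⁻¹} : Set ↥(Cfsg.SU (d + 1 + d) F q)) :=
    ⟨_, rfl⟩
  rw [← hX]
  have huX : u ∈ X := by rw [hX]; exact Subgroup.subset_closure (by simp)
  have hgX : g * u * g⁻¹ ∈ X := by rw [hX]; exact Subgroup.subset_closure (by simp)
  have hwX : hJ' * u * hJ'⁻¹ ∈ X := by rw [hX]; exact Subgroup.subset_closure (by simp)
  have hT : ∀ j0 : Fin d, (j0 : ℕ) = 0 → Tu hF (Q *ᵥ eJ j0) g0 ∈ X := by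
    intro j0 hj0
    have : j0 = i0 := Fin.ext (by rw [hj0, h0v])
    rw [this]
    have h := X.mul_mem hgX (X.inv_mem huX)
    rwa [hconj, mul_inv_cancel_right] at h
  obtain ⟨hE, hFv, -, hee, hlast⟩ := core5 hF hd (Witt_of_WS hW) huX hwX hue hwe huf hwf hα
    (by rw [← hσ, ← hσ]; exact hαβ) hβ' hwl hwp hul hζgen hg0 hg0s hT
  apply endgame_lines hF (by omega) (by omega) (by omega) hW hE hFv hee
  intro x y z hiso
  exact hlast ⟨d - 1, by omega⟩ (by show d - 1 + 1 = d; omega) x y z hiso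

end Cfsg.Agent.Lib.Helper13.SU5
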