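/-
helper13 (planner S2282): `core_ge5`: the frozen conclusion of S2282 at `n = d+1+d`, `2 ≤ d`,
by instantiating `SU5.su5_of_w0` with helper26's reversal element `Jw` (SURegB), `α = 1`,
`β + β^q = -1`, `β^q ≠ β` (helper8 `exists_trace_eq_not_fixed`).
-/
import Mathlib
import Cfsg.Agent.Lib.Helper13.SU5Inst
import Cfsg.Agent.Lib.Helper26.SURegB

set_option autoImplicit false
set_option linter.unusedSectionVars false
set_option linter.unusedVariables false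
set_option linter.unusedSimpArgs false

namespace Cfsg.Agent.Lib.Helper13.SU5

open Cfsg Matrix Cfsg.Agent.Lib.Helper5.SUGen Cfsg.Agent.Lib.Helper5.HermBridge
  Cfsg.Agent.Lib.Helper5.UForm Cfsg.Agent.Lib.Helper6.SUApi
  Cfsg.Agent.Lib.Helper16.FusSU Cfsg.Agent.Lib.Helper13.LSU Cfsg.Agent.Lib.Helper26.SUReg
  Cfsg.Agent.Lib.Helper23.SUBridge Cfsg.Agent.Lib.Helper4.SU3 Cfsg.Agent.Lib.Helper24.SUEnRed

variable {F : Type*} [Field F] [Fintype F] {q : ℕ}

/-- **S2282 for `n = d+1+d ≥ 5`** -/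
theorem core_ge5 (hF : Fintype.card F = q ^ 2) (d : ℕ) (hd : 2 ≤ d) :
    ∃ u g h : ↥(Cfsg.SU (d + 1 + d) F q),
      (IsNilpotent (((u : Matrix.SpecialLinearGroup (Fin (d + 1 + d)) F) :
          Matrix (Fin (d + 1 + d)) (Fin (d + 1 + d)) F) - 1) ∧
        (((u : Matrix.SpecialLinearGroup (Fin (d + 1 + d)) F) :
          Matrix (Fin (d + 1 + d)) (Fin (d + 1 + d)) F) - 1) ^ (d + 1 + d - 1) ≠ 0) ∧
      Subgroup.closure ({u, g * u * g⁻¹, h * u * h⁻¹} : Set ↥(Cfsg.SU (d + 1 + d) F q)) = ⊤ := by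
  classical
  obtain ⟨β, hβ1, hβ2⟩ := Cfsg.Agent.Lib.Helper8.SUField.exists_trace_eq_not_fixed hF (-1 : F)
    (by rw [Cfsg.Agent.Lib.Helper8.SUField.neg_pow_q hF, one_pow])
    (fun _ => neg_ne_zero.mpr one_ne_zero)
  have hαβ : β + frobHom hF β + (1 : F) * frobHom hF (1 : F) = 0 := by
    show β + β ^ q + 1 * (1 : F) ^ q = 0
    rw [hβ1, one_pow, mul_one, neg_add_cancel]
  obtain ⟨l, hl⟩ : ∃ l : Fin d, (l : ℕ) + 1 = d := ⟨⟨d - 1, by omega⟩, by simp; omega⟩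
  refine su5_of_w0 (ε := 1) hF hd hαβ one_ne_zero hβ2 l hl (Jw (frobHom hF) d) ?_ ?_ ?_
  · intro i j hij
    exact w0_eJ_succ (frobHom hF) (frob_invol hF) l hl hαβ i j hij
  · intro i j hij
    have h1 := w0_fJ_succ (frobHom hF) (frob_invol hF) l hαβ i j hij
    rw [Matrix.mulVec_sub]
    exact sub_eq_of_eq_add' h1
  · have h1 := w0_zJ (frobHom hF) (frob_invol hF) l hl hαβ
    rw [one_mul]
    exact h1

end Cfsg.Agent.Lib.Helper13.SU5
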