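import Mathlib
import Cfsg.Agent.Lib.Helper3.Schur.Local

/-!
Helper lemmas (helper13): the local Schur-multiplier condition (helper3's `LocalTriv`) for a subgroup
with generalized-quaternion relations `b a b⁻¹ = a⁻¹`, `b² = aⁿ`, `|a| = 2n`.
-/

set_option autoImplicit false

namespace Cfsg.Agent.Lib.Helper13.SchurSL2

universe u

open Subgroup Cfsg.Agent.Lib.Helper3.SchurM
open scoped commutatorElement

theorem localTriv_quat {G : Type u} [Group G] (p : ℕ) (a b : G) (n : ℕ)
    (h1 : b * a * b⁻¹ = a⁻¹) (h2 : b * b = a ^ n) (ho : orderOf a = 2 * n) :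
    LocalTriv p (closure {a, b}) := by
  apply localTriv_of
  intro Γ _ _ σ hs hcen
  obtain ⟨x, rfl⟩ := hs a
  obtain ⟨y, rfl⟩ := hs b
  refine ⟨closure {x, y}, by rw [MonoidHom.map_closure, Set.image_pair], ?_⟩
  set k := x * (y * x * y⁻¹) with hk
  have hkk : k ∈ σ.ker := by
    show σ k = 1
    rw [hk]
    simp only [map_mul, map_inv]
    rw [h1]; group
  have ck : ∀ g : Γ, g * k = k * g := fun g => mem_center_iff.mp (hcen hkk) g
  set m := (x ^ n)⁻¹ * (y * y) with hm
  have hmk : m ∈ σ.ker := by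
    show σ m = 1
    rw [hm]
    simp only [map_mul, map_inv, map_pow]
    rw [h2]; group
  have cm : ∀ g : Γ, g * m = m * g := fun g => mem_center_iff.mp (hcen hmk) g
  have e1 : y * x * y⁻¹ = x⁻¹ * k := by rw [hk]; group
  have e2 : y * y = x ^ n * m := by rw [hm]; group
  have cxk : Commute x k := ck x
  have eyk : y * k * y⁻¹ = k := by rw [ck y, mul_inv_cancel_right]
  set c := (x ^ 2)⁻¹ * k with hc
  have cxc : Commute x c := by
    rw [hc]
    exact ((Commute.pow_right (Commute.refl x) 2).inv_right).mul_right cxk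
  have hA : y * c * y⁻¹ = c⁻¹ := by
    have : y * c * y⁻¹ = ((y * x * y⁻¹) ^ 2)⁻¹ * (y * k * y⁻¹) := by
      rw [hc, conj_pow]; group
    rw [this, e1, eyk, (cxk.inv_left).mul_pow, hc, inv_pow]
    have h3 : Commute (x ^ 2) k := cxk.pow_left 2
    rw [mul_inv_rev, mul_inv_rev, inv_inv, mul_assoc, h3.eq, ← mul_assoc, pow_two k, mul_inv_rev,
      mul_assoc k⁻¹, inv_mul_cancel, mul_one]
  have hA' : y⁻¹ * c * y = c⁻¹ := by
    have : c = y⁻¹ * c⁻¹ * y := by
      rw [← hA]; group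
    calc y⁻¹ * c * y = y⁻¹ * (y⁻¹ * c⁻¹ * y) * y := by rw [← this]
      _ = (y * y)⁻¹ * c⁻¹ * (y * y) := by group
      _ = c⁻¹ := by
        rw [e2]
        have h5 : Commute (x ^ n * m) c⁻¹ :=
          ((cxc.pow_left n).mul_left (cm c).symm).inv_right
        rw [mul_assoc, ← h5.eq, inv_mul_cancel_left]
  have hB : x * c * x⁻¹ = c := by rw [cxc.eq, mul_inv_cancel_right]
  have hB' : x⁻¹ * c * x = c := by rw [mul_assoc, ← cxc.eq, inv_mul_cancel_left]
  have hC : c ^ n = 1 := by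
    -- conjugate `y * y = x ^ n * m` by `y`
    have h5 : y * (y * y) * y⁻¹ = y * y := by group
    have h6 : y * (x ^ n * m) * y⁻¹ = (x⁻¹ * k) ^ n * m := by
      have : y * (x ^ n * m) * y⁻¹ = (y * x * y⁻¹) ^ n * (y * m * y⁻¹) := by
        rw [conj_pow]; group
      rw [this, e1, cm y, mul_inv_cancel_right]
    rw [e2, h6, (cxk.inv_left).mul_pow] at h5
    -- `x⁻¹ ^ n * k ^ n * m = x ^ n * m`
    have h7 : x⁻¹ ^ n * k ^ n = x ^ n := mul_right_cancel h5
    have h8 : k ^ n = x ^ n * x ^ n := by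
      calc k ^ n = x ^ n * (x⁻¹ ^ n * k ^ n) := by
            rw [← mul_assoc, inv_pow, mul_inv_cancel, one_mul]
        _ = x ^ n * x ^ n := by rw [h7]
    have h3 : Commute ((x ^ 2)⁻¹) k := (cxk.pow_left 2).inv_left
    rw [hc, h3.mul_pow, h8, inv_pow, ← pow_mul, ← pow_add, ← two_mul, inv_mul_cancel]
  have hyx : ⁅y, x⁆ = c := by
    rw [commutatorElement_def, e1, hc]
    have : k * x⁻¹ = x⁻¹ * k := (cxk.symm.inv_right).eq
    rw [mul_assoc, this, ← mul_assoc, pow_two, mul_inv_rev]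
  have hxy : ⁅x, y⁆ = c⁻¹ := by rw [← hyx, commutatorElement_inv]
  have hle : ⁅closure {x, y}, closure {x, y}⁆ ≤ zpowers c := by
    apply comm_closure_le
    · intro s hs
      simp only [Set.mem_insert_iff, Set.mem_singleton_iff] at hs
      rcases hs with hs | hs <;> rw [hs] <;> apply mem_normalizer_zpowers
      · rw [hB]; exact mem_zpowers c
      · rw [hB']; exact mem_zpowers c
      · rw [hA]; exact inv_mem (mem_zpowers c)
      · rw [hA']; exact inv_mem (mem_zpowers c)
    · intro s hs t ht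
      simp only [Set.mem_insert_iff, Set.mem_singleton_iff] at hs ht
      rcases hs with hs | hs <;> rcases ht with ht | ht <;> rw [hs, ht]
      · rw [commutatorElement_self]; exact one_mem _
      · rw [hxy]; exact inv_mem (mem_zpowers c)
      · rw [hyx]; exact mem_zpowers c
      · rw [commutatorElement_self]; exact one_mem _
  have hσc : σ c = (σ x ^ 2)⁻¹ := by
    rw [hc, map_mul, map_inv, map_pow, show σ k = 1 from hkk, mul_one]
  intro z hz hzc _
  obtain ⟨i, rfl⟩ := mem_zpowers_iff.mp (hle hzc)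
  have h9 : (σ x) ^ (2 * i) = 1 := by
    have : σ (c ^ i) = 1 := hz
    rw [map_zpow, hσc, inv_zpow, inv_eq_one, ← zpow_natCast, ← zpow_mul] at this
    exact_mod_cast this
  have h10 : ((orderOf (σ x) : ℕ) : ℤ) ∣ 2 * i := orderOf_dvd_iff_zpow_eq_one.mpr h9
  rw [ho] at h10
  have h11 : (n : ℤ) ∣ i := by
    have : ((2 * n : ℕ) : ℤ) = 2 * (n : ℤ) := by push_cast; ring
    rw [this] at h10
    exact (mul_dvd_mul_iff_left (by norm_num : (2 : ℤ) ≠ 0)).mp h10
  obtain ⟨j, rfl⟩ := h11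
  rw [zpow_mul, zpow_natCast, hC, one_zpow]

end Cfsg.Agent.Lib.Helper13.SchurSL2
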