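import Mathlib
import Cfsg.Agent.Lib.Helper3.Schur.Local
import Cfsg.Agent.Lib.Helper13.SL2Sylow
import Cfsg.Agent.Lib.Helper13.AltFormField

/-!
Helper lemmas (helper13): in every central extension of `SL₂(F)`, `|F| ∉ {4, 9}`, the preimage of the
upper unitriangular group is covered by an abelian subgroup; hence helper3's local condition `LocalTriv`
holds for the unitriangular group at every prime.
-/

set_option autoImplicit false

namespace Cfsg.Agent.Lib.Helper13.SchurSL2

universe u

open Subgroup Matrix Cfsg.Agent.Lib.Helper3.SchurM Cfsg.Agent.Lib.Helper13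
open scoped commutatorElement

theorem commElt_mul_left_central {Γ : Type*} [Group Γ] (a b c : Γ) (h : ⁅b, c⁆ ∈ center Γ) :
    ⁅a * b, c⁆ = ⁅a, c⁆ * ⁅b, c⁆ := by
  rw [commElt_mul_left', mem_center_iff.mp h a, mul_inv_cancel_right,
    ← mem_center_iff.mp h ⁅a, c⁆]

theorem commElt_mul_right_central {Γ : Type*} [Group Γ] (a b c : Γ) (h : ⁅a, c⁆ ∈ center Γ) :
    ⁅a, b * c⁆ = ⁅a, b⁆ * ⁅a, c⁆ := by
  rw [commElt_mul_right', mem_center_iff.mp h b, mul_inv_cancel_right]

theorem commElt_conj {Γ : Type*} [Group Γ] (g a b : Γ) :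
    ⁅g * a * g⁻¹, g * b * g⁻¹⁆ = g * ⁅a, b⁆ * g⁻¹ := by
  simp only [commutatorElement_def]; group

theorem tSL_comm {F : Type*} [Field F] (x y : F) : tSL x * tSL y = tSL y * tSL x := by
  rw [tSL_mul, tSL_mul, add_comm]

theorem dSL_conj_tSL {F : Type*} [Field F] (t : F) (ht : t ≠ 0) (x : F) :
    dSL t ht * tSL x * (dSL t ht)⁻¹ = tSL (t ^ 2 * x) := by
  rw [dSL_mul_tSL, mul_inv_cancel_right]

/-- lifts of the unitriangular elements to a central extension of `SL₂(F)` commute -/
theorem lifts_commute {F : Type u} [Field F] [Fintype F] (h4 : Fintype.card F ≠ 4)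
    (h9 : Fintype.card F ≠ 9) {Γ : Type*} [Group Γ]
    (σ : Γ →* SpecialLinearGroup (Fin 2) F) (hs : Function.Surjective σ) (hcen : σ.ker ≤ center Γ)
    (lift : F → Γ) (hlift : ∀ x, σ (lift x) = tSL x) (x y : F) :
    ⁅lift x, lift y⁆ = 1 := by
  have hker : ∀ x y, ⁅lift x, lift y⁆ ∈ σ.ker := by
    intro x y
    show σ _ = 1
    rw [map_commutatorElement, hlift, hlift, commutatorElement_eq_one_iff_commute]
    exact tSL_comm x y
  have hc : ∀ x y, ⁅lift x, lift y⁆ ∈ center Γ := fun x y => hcen (hker x y)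
  -- additivity of the lifts modulo the kernel
  have hadd : ∀ x x', ∃ k ∈ center Γ, lift (x + x') = lift x * lift x' * k := by
    intro x x'
    refine ⟨(lift x * lift x')⁻¹ * lift (x + x'), hcen ?_, by group⟩
    show σ _ = 1
    rw [map_mul, map_inv, map_mul, hlift, hlift, hlift, tSL_mul, inv_mul_cancel]
  let γ : F → F → center Γ := fun x y => ⟨⁅lift x, lift y⁆, hc x y⟩
  have hγ : ∀ x y, γ x y = 1 := by
    apply AltForm.form_eq_one (fun a b => Subtype.ext (mem_center_iff.mp b.2 a.1)) γ
    · intro x x' y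
      apply Subtype.ext
      obtain ⟨k, hk, e⟩ := hadd x x'
      show ⁅lift (x + x'), lift y⁆ = ⁅lift x, lift y⁆ * ⁅lift x', lift y⁆
      rw [e, commElt_mul_central_left hk, commElt_mul_left_central _ _ _ (hc x' y)]
    · intro x y y'
      apply Subtype.ext
      obtain ⟨k, hk, e⟩ := hadd y y'
      show ⁅lift x, lift (y + y')⁆ = ⁅lift x, lift y⁆ * ⁅lift x, lift y'⁆
      rw [e, commElt_mul_central_right hk, commElt_mul_right_central _ _ _ (hc x y')]
    · intro x
      apply Subtype.ext
      show ⁅lift x, lift x⁆ = 1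
      exact commutatorElement_self _
    · intro t ht x y
      apply Subtype.ext
      show ⁅lift (t ^ 2 * x), lift (t ^ 2 * y)⁆ = ⁅lift x, lift y⁆
      obtain ⟨g, hg⟩ := hs (dSL t ht)
      have hk : ∀ x, (lift (t ^ 2 * x))⁻¹ * (g * lift x * g⁻¹) ∈ center Γ := by
        intro x
        apply hcen
        show σ _ = 1
        rw [map_mul, map_inv, map_mul, map_mul, map_inv, hlift, hlift, hg, dSL_conj_tSL,
          inv_mul_cancel]
      have e : ∀ x, g * lift x * g⁻¹ =
          lift (t ^ 2 * x) * ((lift (t ^ 2 * x))⁻¹ * (g * lift x * g⁻¹)) := by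
        intro x; group
      have h1 := commElt_conj g (lift x) (lift y)
      rw [e x, e y, commElt_mul_central_left (hk x), commElt_mul_central_right (hk y)] at h1
      rw [h1, mem_center_iff.mp (hc x y) g, mul_inv_cancel_right]
    · exact h4
    · exact h9
  exact congrArg Subtype.val (hγ x y)

/-- the local condition for the unitriangular subgroup of `SL₂(F)`, `|F| ∉ {4, 9}` -/
theorem localTriv_tSL {F : Type u} [Field F] [Fintype F] (h4 : Fintype.card F ≠ 4)
    (h9 : Fintype.card F ≠ 9) (p : ℕ) : LocalTriv p (tSLHom (K := F)).range := by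
  apply localTriv_of
  intro Γ _ _ σ hs hcen
  choose lift hlift using fun x : F => hs (tSL x)
  refine ⟨closure (Set.range lift), ?_, ?_⟩
  · rintro _ ⟨x, rfl⟩
    refine ⟨lift (Multiplicative.toAdd x), subset_closure ⟨_, rfl⟩, ?_⟩
    rw [hlift]; rfl
  · have hbot : ⁅closure (Set.range lift), closure (Set.range lift)⁆ = ⊥ := by
      rw [eq_bot_iff]
      apply comm_closure_le
      · intro s _
        rw [mem_normalizer_iff]
        intro h
        simp only [mem_bot]
        constructor
        · intro hh; rw [hh]; group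
        · intro hh
          have : h = s⁻¹ * (s * h * s⁻¹) * s := by group
          rw [this, hh]; group
      · rintro _ ⟨x, rfl⟩ _ ⟨y, rfl⟩
        rw [mem_bot]
        exact lifts_commute h4 h9 σ hs hcen lift hlift x y
    intro z _ hz _
    rw [hbot] at hz
    exact mem_bot.mp hz

end Cfsg.Agent.Lib.Helper13.SchurSL2
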