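import Mathlib
import Cfsg.Agent.Lib.Helper3.Schur.Local
import Cfsg.Agent.Lib.Helper2.SL2Quat
import Cfsg.Agent.Lib.Helper13.SchurQuat
import Cfsg.Agent.Lib.Helper13.SchurSL2U
import Cfsg.Agent.Lib.Helper13.NaturalSL2
import Cfsg.Agent.Lib.Helper13.SL2Cyclic

/-!
Helper lemmas (helper13): the Schur multiplier of `SL₂(F)` is trivial for `|F| ∉ {4, 9}`
(prime by prime, via helper3's `trivial_of_local`).
-/

set_option autoImplicit false

namespace Cfsg.Agent.Lib.Helper13.SchurSL2

universe u

open Subgroup Matrix Cfsg.Agent.Lib.Helper3.SchurM Cfsg.Agent.Lib.Helper13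
open scoped commutatorElement

/-- a subgroup isomorphic to a generalized quaternion (dicyclic) group satisfies the local condition -/
theorem localTriv_of_quaternion {G : Type u} [Group G] (p : ℕ) (H : Subgroup G) (n : ℕ) [NeZero n]
    (e : H ≃* QuaternionGroup n) : LocalTriv p H := by
  set a' : H := e.symm (QuaternionGroup.a 1) with ha'
  set b' : H := e.symm (QuaternionGroup.xa 0) with hb'
  have r1 : a' * (b' * a') = b' := by
    rw [ha', hb', ← map_mul, ← map_mul, QuaternionGroup.xa_mul_a, QuaternionGroup.a_mul_xa]
    congr 2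
    ring
  have r2 : b' * b' = a' ^ n := by
    rw [ha', hb', ← map_mul, ← map_pow, QuaternionGroup.xa_mul_xa, QuaternionGroup.a_one_pow]
    congr 2
    ring
  have r3 : orderOf a' = 2 * n := by
    rw [ha', MulEquiv.orderOf_eq, QuaternionGroup.orderOf_a_one]
  have hgen : ∀ x : QuaternionGroup n, e.symm x ∈ closure {a', b'} := by
    have hA : ∀ i : ZMod (2 * n), e.symm (QuaternionGroup.a i) ∈ closure {a', b'} := by
      intro i
      have : QuaternionGroup.a i = (QuaternionGroup.a 1 : QuaternionGroup n) ^ i.val := by
        rw [QuaternionGroup.a_one_pow, ZMod.natCast_zmod_val]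
      rw [this, map_pow]
      exact pow_mem (Subgroup.subset_closure (Set.mem_insert _ _)) _
    intro x
    cases x with
    | a i => exact hA i
    | xa i =>
      have : QuaternionGroup.xa i = QuaternionGroup.xa 0 * QuaternionGroup.a i := by
        rw [QuaternionGroup.xa_mul_a, zero_add]
      rw [this, map_mul]
      exact mul_mem (Subgroup.subset_closure (Set.mem_insert_of_mem _ (Set.mem_singleton _))) (hA i)
  have hH : H = closure {(a' : G), (b' : G)} := by
    apply le_antisymm
    · intro g hg
      have h1 := hgen (e ⟨g, hg⟩)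
      rw [MulEquiv.symm_apply_apply] at h1
      have h2 : (⟨g, hg⟩ : H) ∈ (closure {(a' : G), (b' : G)}).comap H.subtype := by
        have : closure {a', b'} ≤ (closure {(a' : G), (b' : G)}).comap H.subtype := by
          rw [closure_le]
          intro s hs
          simp only [Set.mem_insert_iff, Set.mem_singleton_iff] at hs
          rcases hs with hs | hs <;> rw [hs] <;> apply Subgroup.subset_closure <;> simp
        exact this h1
      exact h2
    · rw [closure_le]
      intro s hs
      simp only [Set.mem_insert_iff, Set.mem_singleton_iff] at hs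
      rcases hs with hs | hs <;> rw [hs] <;> exact Subtype.property _
  rw [hH]
  apply localTriv_quat p (a' : G) (b' : G) n
  · have h1 : b' * a' * b'⁻¹ = a'⁻¹ := by
      have : b' * a' = a'⁻¹ * b' := by
        rw [eq_inv_mul_iff_mul_eq]; exact r1
      rw [this, mul_inv_cancel_right]
    exact_mod_cast congrArg Subtype.val h1
  · exact_mod_cast congrArg Subtype.val r2
  · rw [Subgroup.orderOf_coe, r3]

/-- **The Schur multiplier of `SL₂(F)` is trivial** for a finite field with `|F| ∉ {4, 9}`. -/
theorem schur_SL2 {F : Type u} [Field F] [Fintype F] (h4 : Fintype.card F ≠ 4)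
    (h9 : Fintype.card F ≠ 9) :
    Cfsg.HasCyclicSchurMultiplier (Matrix.SpecialLinearGroup (Fin 2) F) 1 := by
  classical
  apply trivial_of_local
  intro r hr
  obtain ⟨p, hp⟩ := CharP.exists F
  have := hp
  have hpp : p.Prime := CharP.char_is_prime F p
  have : Fact p.Prime := ⟨hpp⟩
  have : Fact r.Prime := ⟨hr⟩
  by_cases hrp : r = p
  · subst hrp
    obtain ⟨P, hP⟩ := NatSL2.exists_sylow_tSL (F := F) r
    refine ⟨(tSLHom (K := F)).range, ?_, localTriv_tSL h4 h9 r⟩
    rw [← hP]
    exact P.not_dvd_index
  · by_cases hr2 : r = 2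
    · subst hr2
      have hodd : Odd (Fintype.card F) := by
        obtain ⟨n, -, hq⟩ := FiniteField.card F p
        rw [hq]
        apply Odd.pow
        rcases hpp.eq_two_or_odd' with h | h
        · exact absurd h.symm hrp
        · exact h
      obtain ⟨k, H, hk, ⟨e⟩, hcard⟩ := Cfsg.Agent.Lib.Helper2.sl2_exists_sylow_quaternion hodd
      have : NeZero (2 ^ k) := ⟨by positivity⟩
      refine ⟨H, ?_, localTriv_of_quaternion 2 H (2 ^ k) e⟩
      have h1 := Subgroup.card_mul_index H
      rw [hcard] at h1
      have hne : Nat.card (Matrix.SpecialLinearGroup (Fin 2) F) ≠ 0 := Nat.card_pos.ne'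
      have h2 : H.index = ordCompl[2] (Nat.card (Matrix.SpecialLinearGroup (Fin 2) F)) := by
        apply Nat.eq_div_of_mul_eq_right (by positivity)
        exact h1
      rw [h2]
      exact Nat.not_dvd_ordCompl Nat.prime_two hne
    · let P : Sylow r (Matrix.SpecialLinearGroup (Fin 2) F) := default
      have hcyc := isCyclic_sylow_SL2 p r hr2 hrp P
      obtain ⟨g, hg⟩ := hcyc.exists_generator
      have hz : zpowers (g : Matrix.SpecialLinearGroup (Fin 2) F) = P := by
        apply le_antisymm
        · rw [zpowers_le]; exact g.2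
        · intro x hx
          obtain ⟨i, hi⟩ := mem_zpowers_iff.mp (hg ⟨x, hx⟩)
          rw [mem_zpowers_iff]
          exact ⟨i, by rw [← Subgroup.coe_zpow]; exact congrArg Subtype.val hi⟩
      refine ⟨zpowers (g : Matrix.SpecialLinearGroup (Fin 2) F), ?_, localTriv_zpowers r _⟩
      rw [hz]
      exact P.not_dvd_index

end Cfsg.Agent.Lib.Helper13.SchurSL2
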