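import Mathlib
import Cfsg.Agent.Lib.Helper13.SchurSL2

/-!
Helper lemmas (helper13): every finite stem extension of `SL₂(F)`, `|F| = 9`, has kernel of order
`1` or `3`.
-/

set_option autoImplicit false

namespace Cfsg.Agent.Lib.Helper13.SchurSL2

universe u

open Subgroup Matrix Cfsg.Agent.Lib.Helper3.SchurM Cfsg.Agent.Lib.Helper13
open scoped commutatorElement

/-- an alternating biadditive form on a group generated by two elements takes values in a cyclic
group -/
theorem form_mem_zmultiples {V A : Type*} [AddCommGroup V] [AddCommGroup A] (β : V →+ V →+ A)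
    (halt : ∀ x, β x x = 0) (a e : V) (hgen : AddSubgroup.closure {a, e} = ⊤) (x y : V) :
    β x y ∈ AddSubgroup.zmultiples (β a e) := by
  have hskew : β e a = -β a e := by
    have h := halt (a + e)
    simp only [map_add, AddMonoidHom.add_apply, halt, zero_add, add_zero] at h
    exact eq_neg_of_add_eq_zero_left h
  have hx : x ∈ AddSubgroup.closure {a, e} := by rw [hgen]; trivial
  have hy : y ∈ AddSubgroup.closure {a, e} := by rw [hgen]; trivial
  obtain ⟨m, n, rfl⟩ := AddSubgroup.mem_closure_pair.mp hx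
  obtain ⟨m', n', rfl⟩ := AddSubgroup.mem_closure_pair.mp hy
  rw [AddSubgroup.mem_zmultiples_iff]
  refine ⟨m * n' - n * m', ?_⟩
  simp only [map_add, AddMonoidHom.add_apply, map_zsmul, AddMonoidHom.smul_apply, halt, hskew,
    smul_zero, zero_add, add_zero, smul_neg]
  module

/-- elements of prime order `r` cannot lie in the kernel of a stem extension when the local
condition at `r` holds -/
theorem no_order_of_local {G : Type u} [Group G] {Γ : Type u} [Group Γ] [Finite Γ] (σ : Γ →* G)
    (hσ : Cfsg.IsStemExtension σ) (r : ℕ) (P : Subgroup G) [P.FiniteIndex] (hidx : ¬ r ∣ P.index)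
    (hloc : LocalTriv r P) (w : Γ) (hw : w ∈ σ.ker) (hwo : orderOf w = r) : False := by
  have hidx' : (P.comap σ).index = P.index := Subgroup.index_comap_of_surjective P hσ.1
  have : (P.comap σ).FiniteIndex := ⟨by rw [hidx']; exact Subgroup.FiniteIndex.index_ne_zero⟩
  have h1 := pow_index_mem_comm (P.comap σ) w (hσ.2.1 hw) (hσ.2.2 hw)
  rw [hidx'] at h1
  have h2 : w ^ P.index = 1 := by
    apply hloc Γ σ hσ.1 hσ.2.1 _ (pow_mem hw _) h1
    rw [← pow_mul, mul_comm, pow_mul, ← hwo, pow_orderOf_eq_one, one_pow]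
  apply hidx
  rw [← hwo]
  exact orderOf_dvd_of_pow_eq_one h2

/-- the local condition for `SL₂(F)` at primes different from the characteristic -/
theorem exists_local_ne_char {F : Type u} [Field F] [Fintype F] (p : ℕ) [Fact p.Prime] [CharP F p]
    (r : ℕ) (hr : r.Prime) (hrp : r ≠ p) :
    ∃ P : Subgroup (Matrix.SpecialLinearGroup (Fin 2) F), ¬ r ∣ P.index ∧ LocalTriv r P := by
  classical
  have hpp : p.Prime := Fact.out
  have : Fact r.Prime := ⟨hr⟩
  by_cases hr2 : r = 2
  · subst hr2
    have hodd : Odd (Fintype.card F) := by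
      obtain ⟨n, -, hq⟩ := FiniteField.card F p
      rw [hq]
      apply Odd.pow
      rcases hpp.eq_two_or_odd' with h | h
      · exact absurd h.symm hrp
      · exact h
    obtain ⟨k, H, hk, ⟨e⟩, hcard⟩ := Cfsg.Agent.Lib.Helper2.sl2_exists_sylow_quaternion hodd
    have : NeZero (2 ^ k) := ⟨by positivity⟩
    refine ⟨H, ?_, localTriv_of_quaternion 2 H (2 ^ k) e⟩
    have h1 := Subgroup.card_mul_index H
    rw [hcard] at h1
    have hne : Nat.card (Matrix.SpecialLinearGroup (Fin 2) F) ≠ 0 := Nat.card_pos.ne'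
    have h2 : H.index = ordCompl[2] (Nat.card (Matrix.SpecialLinearGroup (Fin 2) F)) := by
      apply Nat.eq_div_of_mul_eq_right (by positivity)
      exact h1
    rw [h2]
    exact Nat.not_dvd_ordCompl Nat.prime_two hne
  · let P : Sylow r (Matrix.SpecialLinearGroup (Fin 2) F) := default
    have hcyc := isCyclic_sylow_SL2 p r hr2 hrp P
    obtain ⟨g, hg⟩ := hcyc.exists_generator
    have hz : zpowers (g : Matrix.SpecialLinearGroup (Fin 2) F) = P := by
      apply le_antisymm
      · rw [zpowers_le]; exact g.2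
      · intro x hx
        obtain ⟨i, hi⟩ := mem_zpowers_iff.mp (hg ⟨x, hx⟩)
        rw [mem_zpowers_iff]
        exact ⟨i, by rw [← Subgroup.coe_zpow]; exact congrArg Subtype.val hi⟩
    refine ⟨zpowers (g : Matrix.SpecialLinearGroup (Fin 2) F), ?_, localTriv_zpowers r _⟩
    rw [hz]
    exact P.not_dvd_index

/-- in a central extension of `SL₂(F)`, `|F| = 9`, the commutators of lifts of unitriangular elements
lie in a cyclic group generated by a central element of order dividing `3` -/
theorem lifts_comm_cyclic {F : Type u} [Field F] [Fintype F] (hF : Fintype.card F = 9)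
    {Γ : Type*} [Group Γ] (σ : Γ →* SpecialLinearGroup (Fin 2) F) (hcen : σ.ker ≤ center Γ)
    (lift : F → Γ) (hlift : ∀ x, σ (lift x) = tSL x) :
    ∃ c : Γ, c ∈ center Γ ∧ c ^ 3 = 1 ∧ ∀ x y, ⁅lift x, lift y⁆ ∈ zpowers c := by
  classical
  have hker : ∀ x y, ⁅lift x, lift y⁆ ∈ σ.ker := by
    intro x y
    show σ _ = 1
    rw [map_commutatorElement, hlift, hlift, commutatorElement_eq_one_iff_commute]
    exact tSL_comm x y
  have hc : ∀ x y, ⁅lift x, lift y⁆ ∈ center Γ := fun x y => hcen (hker x y)
  have hadd : ∀ x x', ∃ k ∈ center Γ, lift (x + x') = lift x * lift x' * k := by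
    intro x x'
    refine ⟨(lift x * lift x')⁻¹ * lift (x + x'), hcen ?_, by group⟩
    show σ _ = 1
    rw [map_mul, map_inv, map_mul, hlift, hlift, hlift, tSL_mul, inv_mul_cancel]
  let C := center Γ
  letI : CommGroup C :=
    { (inferInstance : Group C) with
      mul_comm := fun a b => Subtype.ext (mem_center_iff.mp b.2 a.1) }
  let γ : F → F → C := fun x y => ⟨⁅lift x, lift y⁆, hc x y⟩
  have hl : ∀ x x' y, γ (x + x') y = γ x y * γ x' y := by
    intro x x' y
    apply Subtype.ext
    obtain ⟨k, hk, e⟩ := hadd x x'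
    show ⁅lift (x + x'), lift y⁆ = ⁅lift x, lift y⁆ * ⁅lift x', lift y⁆
    rw [e, commElt_mul_central_left hk, commElt_mul_left_central _ _ _ (hc x' y)]
  have hr : ∀ x y y', γ x (y + y') = γ x y * γ x y' := by
    intro x y y'
    apply Subtype.ext
    obtain ⟨k, hk, e⟩ := hadd y y'
    show ⁅lift x, lift (y + y')⁆ = ⁅lift x, lift y⁆ * ⁅lift x, lift y'⁆
    rw [e, commElt_mul_central_right hk, commElt_mul_right_central _ _ _ (hc x y')]
  let β : F →+ F →+ Additive C :=
    AddMonoidHom.mk' (fun x => AddMonoidHom.mk' (fun y => Additive.ofMul (γ x y))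
      (fun y y' => by rw [hr]; rfl))
      (fun x x' => by
        refine AddMonoidHom.ext fun y => ?_
        show Additive.ofMul (γ (x + x') y) = Additive.ofMul (γ x y) + Additive.ofMul (γ x' y)
        rw [hl]; rfl)
  have hβ : ∀ x y, β x y = Additive.ofMul (γ x y) := fun _ _ => rfl
  have halt : ∀ x, β x x = 0 := by
    intro x
    rw [hβ]
    have : γ x x = 1 := Subtype.ext (commutatorElement_self _)
    rw [this]; rfl
  -- characteristic 3
  obtain ⟨p, hp⟩ := CharP.exists F
  have := hp
  obtain ⟨n, hpp, hq⟩ := FiniteField.card F p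
  have hp3 : p = 3 := by
    have hdvd : p ∣ 3 ^ 2 := by
      have : p ∣ Fintype.card F := by rw [hq]; exact dvd_pow_self p n.ne_zero
      rw [hF] at this
      exact this
    exact (Nat.prime_dvd_prime_iff_eq hpp Nat.prime_three).mp (hpp.dvd_of_dvd_pow hdvd)
  subst hp3
  have h30 : (3 : F) = 0 := by exact_mod_cast CharP.cast_eq_zero F 3
  -- the additive group is generated by `1` and some `e`
  have hcard1 : Nat.card (AddSubgroup.zmultiples (1 : F)) = 3 := by
    rw [Nat.card_zmultiples]
    exact CharP.eq F (CharP.addOrderOf_one F) inferInstance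
  obtain ⟨e, he⟩ : ∃ e : F, e ∉ AddSubgroup.zmultiples (1 : F) := by
    by_contra hcon
    push Not at hcon
    have : AddSubgroup.zmultiples (1 : F) = ⊤ := by
      rw [eq_top_iff]; intro x _; exact hcon x
    rw [this, Nat.card_congr AddSubgroup.topEquiv.toEquiv, Nat.card_eq_fintype_card, hF] at hcard1
    omega
  have hgen : AddSubgroup.closure {(1 : F), e} = ⊤ := by
    set H := AddSubgroup.closure {(1 : F), e} with hH
    have h1 : AddSubgroup.zmultiples (1 : F) ≤ H := by
      rw [AddSubgroup.zmultiples_le]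
      exact AddSubgroup.subset_closure (by simp)
    have h2 : e ∈ H := AddSubgroup.subset_closure (by simp)
    have h3 : Nat.card H ∣ 9 := by
      have := AddSubgroup.card_addSubgroup_dvd_card H
      rwa [Nat.card_eq_fintype_card (α := F), hF] at this
    have h3' : 3 ∣ Nat.card H := by
      have := AddSubgroup.card_dvd_of_le h1
      rwa [hcard1] at this
    have h4 : Nat.card H ≠ 3 := by
      intro h
      have heq : AddSubgroup.zmultiples (1 : F) = H :=
        AddSubgroup.eq_of_le_of_card_ge h1 (by rw [h, hcard1])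
      exact he (by rw [heq]; exact h2)
    have h5 : Nat.card H = 9 := by
      have hle : Nat.card H ≤ 9 := Nat.le_of_dvd (by norm_num) h3
      interval_cases hh : Nat.card H <;> omega
    apply AddSubgroup.eq_top_of_card_eq
    rw [h5, Nat.card_eq_fintype_card, hF]
  refine ⟨⁅lift 1, lift e⁆, hc 1 e, ?_, ?_⟩
  · have h1 : (3 : ℤ) • β 1 e = 0 := by
      rw [← AddMonoidHom.smul_apply, ← map_zsmul]
      have : (3 : ℤ) • (1 : F) = 0 := by
        rw [zsmul_eq_mul, mul_one]; exact_mod_cast h30
      rw [this, map_zero, AddMonoidHom.zero_apply]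
    rw [hβ] at h1
    have h2 : (γ 1 e) ^ (3 : ℤ) = 1 := by
      have := congrArg Additive.toMul h1
      simpa using this
    have h3 := congrArg Subtype.val h2
    simpa using h3
  · intro x y
    have h1 := form_mem_zmultiples β halt 1 e hgen x y
    obtain ⟨k, hk⟩ := AddSubgroup.mem_zmultiples_iff.mp h1
    rw [hβ, hβ] at hk
    have h2 : (γ 1 e) ^ k = γ x y := by
      have := congrArg Additive.toMul hk
      simpa using this
    have h3 := congrArg Subtype.val h2
    rw [mem_zpowers_iff]
    refine ⟨k, ?_⟩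
    simpa using h3

/-- every finite stem extension of `SL₂(F)`, `|F| = 9`, has kernel of order `1` or `3` -/
theorem card_ker_nine {F : Type u} [Field F] [Fintype F] (hF : Fintype.card F = 9)
    {Γ : Type u} [Group Γ] [Finite Γ] (σ : Γ →* SpecialLinearGroup (Fin 2) F)
    (hσ : Cfsg.IsStemExtension σ) : Nat.card σ.ker = 1 ∨ Nat.card σ.ker = 3 := by
  classical
  -- characteristic 3
  obtain ⟨p, hp⟩ := CharP.exists F
  have := hp
  obtain ⟨n, hpp, hq⟩ := FiniteField.card F p
  have hp3 : p = 3 := by
    have hdvd : p ∣ 3 ^ 2 := by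
      have : p ∣ Fintype.card F := by rw [hq]; exact dvd_pow_self p n.ne_zero
      rw [hF] at this
      exact this
    exact (Nat.prime_dvd_prime_iff_eq hpp Nat.prime_three).mp (hpp.dvd_of_dvd_pow hdvd)
  subst hp3
  have hf3 : Fact (Nat.Prime 3) := ⟨Nat.prime_three⟩
  obtain ⟨hs, hcen, hcomm⟩ := hσ
  choose lift hlift using fun x : F => hs (tSL x)
  obtain ⟨c, hcc, hc3, hcl⟩ := lifts_comm_cyclic hF σ hcen lift hlift
  -- the unitriangular subgroup and its preimage
  obtain ⟨P, hP⟩ := NatSL2.exists_sylow_tSL (F := F) 3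
  set U : Subgroup (SpecialLinearGroup (Fin 2) F) := (tSLHom (K := F)).range with hU
  have hidx : ¬ 3 ∣ U.index := by rw [← hP]; exact P.not_dvd_index
  set H₀ := closure (Set.range lift) with hH₀
  have hUH : U ≤ H₀.map σ := by
    rintro _ ⟨x, rfl⟩
    refine ⟨lift (Multiplicative.toAdd x), Subgroup.subset_closure ⟨_, rfl⟩, ?_⟩
    rw [hlift]; rfl
  have hcomm₀ : ⁅H₀, H₀⁆ ≤ zpowers c := by
    apply comm_closure_le
    · intro s _
      apply mem_normalizer_zpowers
      · rw [mem_center_iff.mp hcc s, mul_inv_cancel_right]; exact mem_zpowers c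
      · rw [mul_assoc, ← mem_center_iff.mp hcc s, inv_mul_cancel_left]; exact mem_zpowers c
    · rintro _ ⟨x, rfl⟩ _ ⟨y, rfl⟩
      exact hcl x y
  have hcomap : ⁅U.comap σ, U.comap σ⁆ ≤ zpowers c := by
    have h1 : U.comap σ ≤ H₀ ⊔ σ.ker := by
      rw [← Subgroup.comap_map_eq]
      exact Subgroup.comap_mono hUH
    exact ((Subgroup.commutator_mono h1 h1).trans (comm_sup_central_le H₀ σ.ker hcen)).trans hcomm₀
  have hidx' : (U.comap σ).index = U.index := Subgroup.index_comap_of_surjective U hs
  -- every element of the kernel has order dividing 3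
  have hord : ∀ z ∈ σ.ker, z ^ 3 = 1 := by
    intro z hz
    have h1 := pow_index_mem_comm (U.comap σ) z (hcen hz) (hcomm hz)
    rw [hidx'] at h1
    have h2 : (z ^ U.index) ^ 3 = 1 := by
      obtain ⟨k, hk⟩ := mem_zpowers_iff.mp (hcomap h1)
      rw [← hk, ← zpow_natCast, ← _root_.zpow_mul, mul_comm, _root_.zpow_mul, zpow_natCast, hc3,
        _root_.one_zpow]
    -- the order of `z` is a power of 3
    have h3 : ∀ r : ℕ, r.Prime → r ∣ orderOf z → r = 3 := by
      intro r hr hrd
      by_contra hne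
      obtain ⟨Q, hQi, hQl⟩ := exists_local_ne_char (F := F) 3 r hr hne
      have hw : orderOf (z ^ (orderOf z / r)) = r := by
        rw [orderOf_pow' z (by
          intro h0
          have := Nat.div_mul_cancel hrd
          rw [h0, zero_mul] at this
          exact (orderOf_pos z).ne' this.symm)]
        rw [Nat.gcd_eq_right (Nat.div_dvd_of_dvd hrd)]
        exact Nat.div_div_self hrd (orderOf_pos z).ne'
      exact no_order_of_local σ ⟨hs, hcen, hcomm⟩ r Q hQi hQl _ (pow_mem hz _) hw
    have h4 : orderOf z ∣ U.index * 3 := by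
      apply orderOf_dvd_of_pow_eq_one
      rw [pow_mul]; exact h2
    obtain ⟨k, hk⟩ : ∃ k, orderOf z = 3 ^ k :=
      ⟨_, Nat.eq_prime_pow_of_unique_prime_dvd (orderOf_pos z).ne' (fun {r} hr hrd => h3 r hr hrd)⟩
    have hcop : Nat.Coprime (orderOf z) U.index := by
      rw [hk]
      exact Nat.Coprime.pow_left k ((Nat.Prime.coprime_iff_not_dvd Nat.prime_three).mpr hidx)
    have h5 : orderOf z ∣ 3 := hcop.dvd_of_dvd_mul_left h4
    exact orderOf_dvd_iff_pow_eq_one.mp h5
  -- injection of the kernel into `zpowers c`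
  have hmem : ∀ z : σ.ker, (z : Γ) ^ U.index ∈ zpowers c := by
    intro z
    have h1 := pow_index_mem_comm (U.comap σ) z (hcen z.2) (hcomm z.2)
    rw [hidx'] at h1
    exact hcomap h1
  let f : σ.ker → zpowers c := fun z => ⟨(z : Γ) ^ U.index, hmem z⟩
  have hmod : U.index % 3 = 1 ∨ U.index % 3 = 2 := by
    have : U.index % 3 ≠ 0 := fun h => hidx (Nat.dvd_of_mod_eq_zero h)
    omega
  have hpowmod : ∀ z : Γ, z ^ 3 = 1 → z ^ U.index = z ^ (U.index % 3) := by
    intro z hz
    conv_lhs => rw [← Nat.div_add_mod U.index 3]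
    rw [pow_add, pow_mul, hz, one_pow, one_mul]
  have hf : Function.Injective f := by
    intro z z' h
    have h1 : (z : Γ) ^ U.index = (z' : Γ) ^ U.index := congrArg Subtype.val h
    rw [hpowmod _ (hord z z.2), hpowmod _ (hord z' z'.2)] at h1
    apply Subtype.ext
    rcases hmod with hm | hm
    · rw [hm, pow_one, pow_one] at h1; exact h1
    · rw [hm] at h1
      have e : ∀ w : Γ, w ^ 3 = 1 → w = (w ^ 2) ^ 2 := by
        intro w hw
        rw [← pow_mul]
        calc w = w ^ 3 * w := by rw [hw, one_mul]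
          _ = w ^ (2 * 2) := by rw [← pow_succ]
      rw [e z (hord z z.2), e z' (hord z' z'.2), h1]
  have hcard : Nat.card σ.ker ≤ 3 := by
    have h1 := Nat.card_le_card_of_injective f hf
    have h2 : Nat.card (zpowers c) ≤ 3 := by
      rw [Nat.card_zpowers]
      exact Nat.le_of_dvd (by norm_num) (orderOf_dvd_of_pow_eq_one hc3)
    omega
  have hpos : 0 < Nat.card σ.ker := Nat.card_pos
  have hne2 : Nat.card σ.ker ≠ 2 := by
    intro h2
    have hf2 : Fact (Nat.Prime 2) := ⟨Nat.prime_two⟩
    obtain ⟨z, hz⟩ := exists_prime_orderOf_dvd_card' (G := σ.ker) 2 (by rw [h2])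
    have h3 : (z : Γ) ^ 3 = 1 := hord z z.2
    have h4 : orderOf (z : Γ) = 2 := by rw [Subgroup.orderOf_coe, hz]
    have h5 : 2 ∣ 3 := by
      rw [← h4]; exact orderOf_dvd_of_pow_eq_one h3
    omega
  omega

end Cfsg.Agent.Lib.Helper13.SchurSL2
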