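import Mathlib
import Cfsg.Agent.S1611
import Cfsg.Agent.S0254
import Cfsg.Agent.Lib.Helper13.HexaElems
import Cfsg.Agent.Lib.Helper13.PSL2

/-!
Helper lemmas (helper13): a central extension of `SL₂(F)`, `|F| = 9`, whose kernel meets the commutator
subgroup nontrivially: the fibre product of the hexacode group `3.A₆` with `SL₂(9)` over `A₆`.
-/

set_option autoImplicit false

namespace Cfsg.Agent.Lib.Helper13.HexaGroup

open Subgroup Matrix
open scoped commutatorElement

universe u

/-- a field with four elements has a primitive cube root of unity -/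
theorem exists_omega (K : Type*) [Field K] [Fintype K] (hK : Fintype.card K = 4) :
    ∃ ω : K, ω ^ 2 + ω + 1 = 0 := by
  classical
  have hu : Fintype.card Kˣ = 3 := by rw [Fintype.card_units, hK]
  have : Nontrivial Kˣ := by
    rw [← Fintype.one_lt_card_iff_nontrivial, hu]; norm_num
  obtain ⟨u, hu1⟩ := exists_ne (1 : Kˣ)
  have h3 : u ^ 3 = 1 := by rw [← hu]; exact pow_card_eq_one
  refine ⟨(u : K), ?_⟩
  have h3' : (u : K) ^ 3 = 1 := by rw [← Units.val_pow_eq_pow_val, h3, Units.val_one]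
  have hne : (u : K) - 1 ≠ 0 := by
    intro h
    apply hu1
    apply Units.ext
    simpa [sub_eq_zero] using h
  have : ((u : K) - 1) * ((u : K) ^ 2 + u + 1) = 0 := by ring_nf; rw [h3']; ring
  exact (mul_eq_zero.mp this).resolve_left hne

/-- **a central extension of `SL₂(9)` with a nontrivial element in kernel ∩ commutator subgroup** -/
theorem exists_central_ext_nine {F : Type u} [Field F] [Fintype F] (hF : Fintype.card F = 9) :
    ∃ (E : Type u) (_ : Group E) (σ : E →* Matrix.SpecialLinearGroup (Fin 2) F),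
      Function.Surjective σ ∧ σ.ker ≤ center E ∧ ∃ z : E, z ∈ σ.ker ∧ z ∈ commutator E ∧ z ≠ 1 := by
  classical
  have hp2 : Fact (Nat.Prime 2) := ⟨Nat.prime_two⟩
  let K := GaloisField 2 2
  letI : Fintype K := Fintype.ofFinite K
  have hK : Fintype.card K = 4 := by
    rw [← Nat.card_eq_fintype_card, GaloisField.card 2 2 (by norm_num)]; norm_num
  obtain ⟨ω, hω⟩ := exists_omega K hK
  obtain ⟨-, hdiag, himg⟩ := Cfsg.Agent.S1611.result K hK ω hω
  let M : Subgroup (Mon K) := stab (Cfsg.hexacode K ω)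
  let π : M →* Equiv.Perm (Fin 6) := SemidirectProduct.rightHom.comp M.subtype
  have hπ : ∀ m : M, π m = m.1.right := fun _ => rfl
  -- image of π
  have hπA : ∀ m : M, π m ∈ alternatingGroup (Fin 6) := by
    intro m
    have : π m ∈ {σ : Equiv.Perm (Fin 6) | ∃ c : Fin 6 → Kˣ,
        ∀ x ∈ Cfsg.hexacode K ω, Cfsg.monomialMap σ c x ∈ Cfsg.hexacode K ω} :=
      ⟨m.1.left, fun x hx => m.2 x hx⟩
    rw [himg] at this
    exact this
  have hπsurj : ∀ τ ∈ alternatingGroup (Fin 6), ∃ m : M, π m = τ := by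
    intro τ hτ
    have : τ ∈ {σ : Equiv.Perm (Fin 6) | ∃ c : Fin 6 → Kˣ,
        ∀ x ∈ Cfsg.hexacode K ω, Cfsg.monomialMap σ c x ∈ Cfsg.hexacode K ω} := by
      rw [himg]; exact hτ
    obtain ⟨c, hc⟩ := this
    exact ⟨⟨⟨c, τ⟩, fun x hx => hc x hx⟩, rfl⟩
  -- kernel of π is central
  have hπker : ∀ m : M, π m = 1 → m.1 ∈ center (Mon K) := by
    intro m hm
    have hr : m.1.right = 1 := hm
    apply mem_center_of_const _ hr
    apply hdiag
    intro x hx
    have := m.2 x hx
    rw [act, hr] at this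
    exact this
  -- the map from `SL₂(F)` onto `A₆`
  obtain ⟨ψ⟩ := Cfsg.Agent.S0254.result hF
  let SL := Matrix.SpecialLinearGroup (Fin 2) F
  let φ : SL →* Equiv.Perm (Fin 6) :=
    (alternatingGroup (Fin 6)).subtype.comp (ψ.toMonoidHom.comp (QuotientGroup.mk' (center SL)))
  have hφ : ∀ s : SL, φ s = ((ψ (QuotientGroup.mk s) : alternatingGroup (Fin 6)) : Equiv.Perm (Fin 6)) :=
    fun _ => rfl
  have hφA : ∀ s : SL, φ s ∈ alternatingGroup (Fin 6) := fun s => by rw [hφ]; exact Subtype.property _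
  have hφsurj : ∀ τ ∈ alternatingGroup (Fin 6), ∃ s : SL, φ s = τ := by
    intro τ hτ
    obtain ⟨s, hs⟩ := QuotientGroup.mk_surjective (ψ.symm ⟨τ, hτ⟩)
    refine ⟨s, ?_⟩
    rw [hφ, hs, MulEquiv.apply_symm_apply]
  have hφker : ∀ s : SL, φ s = 1 → s ∈ center SL := by
    intro s hs
    rw [hφ] at hs
    have h1 : ψ (QuotientGroup.mk s) = 1 := Subtype.ext hs
    have h2 : (QuotientGroup.mk s : SL ⧸ center SL) = 1 := by
      have := congrArg ψ.symm h1
      rwa [MulEquiv.symm_apply_apply, map_one] at this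
    exact (QuotientGroup.eq_one_iff s).mp h2
  -- the fibre product
  let E : Subgroup (M × SL) :=
    (π.comp (MonoidHom.fst M SL)).eqLocus (φ.comp (MonoidHom.snd M SL))
  have hE : ∀ x : M × SL, x ∈ E ↔ π x.1 = φ x.2 := fun _ => Iff.rfl
  let σE : E →* SL := (MonoidHom.snd M SL).comp E.subtype
  have hσE : ∀ x : E, σE x = x.1.2 := fun _ => rfl
  refine ⟨E, inferInstance, σE, ?_, ?_, ?_⟩
  · -- surjective
    intro s
    obtain ⟨m, hm⟩ := hπsurj (φ s) (hφA s)
    exact ⟨⟨(m, s), (hE _).mpr hm⟩, rfl⟩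
  · -- central kernel
    intro x hx
    have hx2 : x.1.2 = 1 := hx
    have hx1 : π x.1.1 = 1 := by
      have := (hE x.1).mp x.2
      rw [this, hx2, map_one]
    have hc := hπker x.1.1 hx1
    rw [Subgroup.mem_center_iff]
    intro y
    apply Subtype.ext
    apply Prod.ext
    · apply Subtype.ext
      exact Subgroup.mem_center_iff.mp hc y.1.1.1
    · show y.1.2 * x.1.2 = x.1.2 * y.1.2
      rw [hx2, mul_one, one_mul]
  · -- the element
    have hA := gA_mem hK hω
    have hB := gB_mem hK hω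
    let a : M := ⟨gA hK hω, hA⟩
    let b : M := ⟨gB hK hω, hB⟩
    obtain ⟨s, hs⟩ := hφsurj (π a) (hπA a)
    obtain ⟨t, ht⟩ := hφsurj (π b) (hπA b)
    let a' : E := ⟨(a, s), (hE _).mpr hs.symm⟩
    let b' : E := ⟨(b, t), (hE _).mpr ht.symm⟩
    -- the commutator in `Mon K`
    have hcomm : ⁅gA hK hω, gB hK hω⁆ = gZ hK hω := by
      rw [commutatorElement_def, gA_mul_gB]
      group
    have hZ4 : gZ hK hω ^ 4 = gZ hK hω := by
      rw [pow_succ, gZ_pow_three, one_mul]
    -- the commutator in `SL`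
    have hst : ⁅s, t⁆ ^ 4 = 1 := by
      have h1 : φ ⁅s, t⁆ = 1 := by
        rw [map_commutatorElement, hs, ht, ← map_commutatorElement]
        show (⁅a, b⁆ : M).1.right = 1
        have : (⁅a, b⁆ : M).1 = gZ hK hω := by
          rw [← hcomm]; rfl
        rw [this]; rfl
      have h2 := hφker _ h1
      have h3 : (2 : F) ≠ 0 := by
        intro h
        have hchar : ringChar F = 2 :=
          CharP.ringChar_of_prime_eq_zero Nat.prime_two (by exact_mod_cast h)
        have := FiniteField.even_card_of_char_two hchar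
        rw [hF] at this
        exact absurd this (by decide)
      have h4 : (⟨⁅s, t⁆, h2⟩ : center SL) ^ 2 = 1 := by
        have := pow_card_eq_one' (G := center SL) (x := ⟨⁅s, t⁆, h2⟩)
        rwa [Cfsg.Agent.Lib.Helper13.card_center_SL2 h3] at this
      have h5 : ⁅s, t⁆ ^ 2 = 1 := congrArg Subtype.val h4
      calc ⁅s, t⁆ ^ 4 = (⁅s, t⁆ ^ 2) ^ 2 := by rw [← pow_mul]
        _ = 1 := by rw [h5, one_pow]
    refine ⟨⁅a', b'⁆ ^ 4, ?_, ?_, ?_⟩
    · show σE (⁅a', b'⁆ ^ 4) = 1
      rw [map_pow, map_commutatorElement]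
      exact hst
    · exact pow_mem (Subgroup.commutator_mem_commutator (Subgroup.mem_top _) (Subgroup.mem_top _)) 4
    · intro h
      have h1 : ((⁅a', b'⁆ ^ 4 : E).1.1 : Mon K) = gZ hK hω := by
        show (⁅gA hK hω, gB hK hω⁆ ^ 4 : Mon K) = gZ hK hω
        rw [hcomm, hZ4]
      rw [h] at h1
      exact gZ_ne_one hK hω h1.symm

end Cfsg.Agent.Lib.Helper13.HexaGroup
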