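import Mathlib
import Cfsg.Agent.Lib.Helper27.Schur4
import Cfsg.Agent.Lib.Helper13.SchurNineA
import Cfsg.Agent.Lib.Helper13.SchurNineB

/-!
Helper lemmas (helper13): the Schur multiplier of `SL₂(F)`, `|F| = 9`, is cyclic of order `3`.
-/

set_option autoImplicit false

namespace Cfsg.Agent.Lib.Helper13.SchurSL2

universe u

open Subgroup Matrix Cfsg.Agent.Lib.Helper27.Schur

theorem schur_SL2_nine {F : Type u} [Field F] [Fintype F] (hF : Fintype.card F = 9) :
    Cfsg.HasCyclicSchurMultiplier (Matrix.SpecialLinearGroup (Fin 2) F) 3 := by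
  classical
  have hA := exists_hasSchurMultiplier (Matrix.SpecialLinearGroup (Fin 2) F)
  have hcardA : Nat.card ↥(mult (stdPres (Matrix.SpecialLinearGroup (Fin 2) F))) = 1 ∨
      Nat.card ↥(mult (stdPres (Matrix.SpecialLinearGroup (Fin 2) F))) = 3 := by
    obtain ⟨⟨Γ, _, _, σ, hσ, ⟨e⟩⟩, -⟩ := hA
    rw [← Nat.card_congr e.toEquiv]
    exact card_ker_nine hF σ hσ
  obtain ⟨E, _, σE, hs, hc, z, hzk, hzc, hz1⟩ := HexaGroup.exists_central_ext_nine hF
  obtain ⟨θ, hθ⟩ := exists_surjective_of_hasSchurMultiplier hA σE hs hc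
  have hA3 : Nat.card ↥(mult (stdPres (Matrix.SpecialLinearGroup (Fin 2) F))) = 3 := by
    rcases hcardA with h | h
    · exfalso
      have hsub : Subsingleton ↥(mult (stdPres (Matrix.SpecialLinearGroup (Fin 2) F))) :=
        (Nat.card_eq_one_iff_unique.mp h).1
      obtain ⟨a, ha⟩ := hθ ⟨z, ⟨hzk, hzc⟩⟩
      have h1 : a = 1 := Subsingleton.elim _ _
      rw [h1, map_one] at ha
      exact hz1 (congrArg Subtype.val ha).symm
    · exact h
  have hcardz : Nat.card (Multiplicative (ZMod 3)) = 3 := by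
    rw [Nat.card_congr Multiplicative.toAdd, Nat.card_zmod]
  have : Fact (Nat.Prime 3) := ⟨Nat.prime_three⟩
  exact hasSchurMultiplier_of_mulEquiv hA (mulEquivOfPrimeCardEq hA3 hcardz)

end Cfsg.Agent.Lib.Helper13.SchurSL2
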