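import Mathlib
import Cfsg.Agent.S3958
import Cfsg.Agent.Lib.Helper13.SchurSL2
import Cfsg.Agent.Lib.Helper13.PSL2

/-!
Helper lemmas (helper13): Schur covers from stem extensions by groups with trivial multiplier;
transport of `HasSchurMultiplier` along group isomorphisms; the Schur multiplier of `PSL₂(F)`,
`|F|` odd, `|F| ∉ {3, 9}`, is cyclic of order 2.
-/

set_option autoImplicit false

namespace Cfsg.Agent.Lib.Helper13.SchurSL2

universe u v

open Subgroup Matrix

/-- a finite stem extension `σ : Γ → Q` with `M(Γ) = 1` exhibits `ker σ` as the multiplier of `Q` -/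
theorem hasSchurMultiplier_of_stem_trivial {Q Γ : Type u} [Group Q] [Finite Q] [Group Γ] [Finite Γ]
    (σ : Γ →* Q) (hσ : Cfsg.IsStemExtension σ) (hΓ : Cfsg.HasCyclicSchurMultiplier Γ 1)
    {A : Type v} [CommGroup A] (e : σ.ker ≃* A) : Cfsg.HasSchurMultiplier Q A := by
  refine ⟨⟨Γ, inferInstance, inferInstance, σ, hσ, ⟨e⟩⟩, ?_⟩
  intro Δ _ _ τ hτ
  obtain ⟨π, hπ⟩ := Cfsg.Agent.S3958.result σ hσ hΓ Δ τ hτ
  exact ⟨π.comp e.symm.toMonoidHom, hπ.comp e.symm.surjective⟩

theorem ker_equiv_comp {Γ G G' : Type*} [Group Γ] [Group G] [Group G'] (e : G ≃* G')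
    (σ : Γ →* G) : (e.toMonoidHom.comp σ).ker = σ.ker := by
  ext x
  simp [MonoidHom.mem_ker]

theorem isStem_equiv_comp {Γ G G' : Type*} [Group Γ] [Group G] [Group G'] (e : G ≃* G')
    (σ : Γ →* G) (hσ : Cfsg.IsStemExtension σ) : Cfsg.IsStemExtension (e.toMonoidHom.comp σ) := by
  refine ⟨e.surjective.comp hσ.1, ?_, ?_⟩
  · rw [ker_equiv_comp]; exact hσ.2.1
  · rw [ker_equiv_comp]; exact hσ.2.2

/-- `HasSchurMultiplier` is invariant under isomorphism of the group (same universe) -/
theorem hasSchurMultiplier_congr {G G' : Type u} [Group G] [Group G'] (e : G ≃* G')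
    {A : Type v} [CommGroup A] (h : Cfsg.HasSchurMultiplier G A) : Cfsg.HasSchurMultiplier G' A := by
  obtain ⟨⟨Γ, i1, i2, σ, hσ, ⟨f⟩⟩, h2⟩ := h
  refine ⟨⟨Γ, i1, i2, e.toMonoidHom.comp σ, isStem_equiv_comp e σ hσ,
    ⟨(MulEquiv.subgroupCongr (ker_equiv_comp e σ)).trans f⟩⟩, ?_⟩
  intro Δ _ _ τ hτ
  obtain ⟨π, hπ⟩ := h2 Δ (e.symm.toMonoidHom.comp τ) (isStem_equiv_comp e.symm τ hτ)
  refine ⟨(MulEquiv.subgroupCongr (ker_equiv_comp e.symm τ)).toMonoidHom.comp π, ?_⟩
  exact (MulEquiv.subgroupCongr (ker_equiv_comp e.symm τ)).surjective.comp hπ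

/-- the Schur multiplier of `PSL₂(F)`, `|F|` odd and not `3` or `9`, is cyclic of order `2` -/
theorem schur_PSL2_odd {F : Type u} [Field F] [Fintype F] (h2 : (2 : F) ≠ 0)
    (h3 : Fintype.card F ≠ 3) (h9 : Fintype.card F ≠ 9) :
    Cfsg.HasCyclicSchurMultiplier (Matrix.ProjectiveSpecialLinearGroup (Fin 2) F) 2 := by
  classical
  have h4 : Fintype.card F ≠ 4 := by
    intro h
    have hodd : ¬ Even (Fintype.card F) := by
      intro he
      have : ringChar F = 2 := by
        by_contra hne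
        have h1 := FiniteField.odd_card_of_char_ne_two hne
        rw [Nat.even_iff] at he
        omega
      have : CharP F 2 := ringChar.eq_iff.mp this
      exact h2 CharTwo.two_eq_zero
    exact hodd (by rw [h]; decide)
  have hq4 : 4 ≤ Fintype.card F := by
    have h1 : 1 < Fintype.card F := Fintype.one_lt_card
    by_contra hlt
    have hc2 : Fintype.card F = 2 := by omega
    -- a field with two elements has characteristic two
    obtain ⟨p, hp⟩ := CharP.exists F
    have := hp
    obtain ⟨n, hpp, hq⟩ := FiniteField.card F p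
    have hp2 : p = 2 := by
      have hdvd : p ∣ 2 := by
        rw [← hc2, hq]; exact dvd_pow_self p n.ne_zero
      exact (Nat.prime_dvd_prime_iff_eq hpp Nat.prime_two).mp hdvd
    apply h2
    have := CharP.cast_eq_zero F p
    rw [hp2] at this
    exact_mod_cast this
  -- an element `t` with `t ≠ 0`, `t² ≠ 1`
  obtain ⟨t, ht⟩ : ∃ t : F, t ∉ ({0, 1, -1} : Finset F) := by
    by_contra hcon
    push Not at hcon
    have : (Finset.univ : Finset F) ⊆ {0, 1, -1} := fun x _ => hcon x
    have := Finset.card_le_card this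
    have h3' : ({0, 1, -1} : Finset F).card ≤ 3 := Finset.card_le_three
    rw [Finset.card_univ] at this
    omega
  simp only [Finset.mem_insert, Finset.mem_singleton, not_or] at ht
  have ht2 : t ^ 2 ≠ 1 := by
    intro h
    have : (t - 1) * (t + 1) = 0 := by ring_nf; rw [h]; ring
    rcases mul_eq_zero.mp this with h' | h'
    · exact ht.2.1 (sub_eq_zero.mp h')
    · exact ht.2.2 (eq_neg_of_add_eq_zero_left h')
  have hperf : commutator (Matrix.SpecialLinearGroup (Fin 2) F) = ⊤ :=
    Matrix.SL2.commutator_eq_top ht.1 ht2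
  let σ : Matrix.SpecialLinearGroup (Fin 2) F →* Matrix.ProjectiveSpecialLinearGroup (Fin 2) F :=
    QuotientGroup.mk' (center (Matrix.SpecialLinearGroup (Fin 2) F))
  have hker : σ.ker = center (Matrix.SpecialLinearGroup (Fin 2) F) := QuotientGroup.ker_mk' _
  have hσ : Cfsg.IsStemExtension σ := by
    refine ⟨QuotientGroup.mk'_surjective _, ?_, ?_⟩
    · rw [hker]
    · rw [hperf]; exact le_top
  have hcardk : Nat.card σ.ker = 2 := by
    rw [hker]; exact Cfsg.Agent.Lib.Helper13.card_center_SL2 h2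
  have hcardz : Nat.card (Multiplicative (ZMod 2)) = 2 := by
    rw [Nat.card_congr Multiplicative.toAdd, Nat.card_zmod]
  have : Fact (Nat.Prime 2) := ⟨Nat.prime_two⟩
  exact hasSchurMultiplier_of_stem_trivial σ hσ (schur_SL2 h4 h9)
    (mulEquivOfPrimeCardEq hcardk hcardz)

end Cfsg.Agent.Lib.Helper13.SchurSL2
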