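/-
helper13: the proper subgroups of `SL₂(F)`, `|F| = 2 ^ p` with `p` prime, in the form needed for
solubilizers: abelian, triangularisable, of dihedral type, or of order six with traces in `𝔽₂`.
-/
import Mathlib
import Cfsg.Agent.S5893

set_option autoImplicit false

namespace Cfsg.Agent.Lib.Helper13.Sol

open Subgroup Matrix Cfsg.Agent.Lib.Helper13 Cfsg.Agent.Lib.Helper13.Dk

variable {F : Type*} [Field F] [Fintype F]

theorem two_eq_zero_of_card {p : ℕ} (hp : p.Prime) (hF : Fintype.card F = 2 ^ p) : (2 : F) = 0 := by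
  have h : ((Fintype.card F : ℕ) : F) = 0 := Nat.cast_card_eq_zero F
  rw [hF] at h
  push_cast at h
  exact pow_eq_zero_iff (hp.ne_zero) |>.mp h

/-- Elements of a subfield with two elements are idempotent. -/
theorem sq_eq_self_of_card_two (K₀ : Subfield F) (h : Nat.card K₀ = 2) {e : F} (he : e ∈ K₀) :
    e ^ 2 = e := by
  classical
  letI : Fintype K₀ := Fintype.ofFinite K₀
  have h1 := FiniteField.pow_card (⟨e, he⟩ : K₀)
  rw [← Nat.card_eq_fintype_card, h] at h1
  exact congrArg Subtype.val h1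

theorem pow_eq_two_pow {c m p : ℕ} (hp : p.Prime) (h : c ^ m = 2 ^ p) : c = 2 ∨ c = 2 ^ p := by
  have hm : m ≠ 0 := by
    rintro rfl
    rw [pow_zero] at h
    have : 2 ≤ 2 ^ p := by
      calc 2 = 2 ^ 1 := by norm_num
        _ ≤ 2 ^ p := Nat.pow_le_pow_right (by norm_num) hp.one_lt.le
    omega
  have hc : c ∣ 2 ^ p := by
    rw [← h]
    exact dvd_pow_self c hm
  obtain ⟨a, -, rfl⟩ := (Nat.dvd_prime_pow Nat.prime_two).mp hc
  rw [← pow_mul] at h
  have ham : a * m = p := Nat.pow_right_injective (le_refl 2) h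
  have ha : a ∣ p := ⟨m, ham.symm⟩
  rcases (Nat.dvd_prime hp).mp ha with rfl | rfl
  · left; norm_num
  · right; rfl

/-- The proper subgroups of `SL₂(F)`, `|F| = 2 ^ p`, `p` prime. -/
theorem proper_cases {p : ℕ} (hp : p.Prime) (hF : Fintype.card F = 2 ^ p)
    (H : Subgroup (SpecialLinearGroup (Fin 2) F)) (hH : H ≠ ⊤) :
    (∀ x y : H, x * y = y * x) ∨
    (∃ Θ : Tw F, ∀ g : H, ((subEmb H).app Θ).m g 1 0 = 0) ∨
    (subEmb H).DihType ∨
    (Nat.card H = 6 ∧ ∀ g : H, (subEmb H).tr g = 0 ∨ (subEmb H).tr g = 1) := by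
  classical
  have h2 : (2 : F) = 0 := two_eq_zero_of_card hp hF
  haveI : Fact (Nat.Prime 2) := ⟨Nat.prime_two⟩
  haveI : CharP F 2 := CharTwo.of_one_ne_zero_of_two_eq_zero one_ne_zero h2
  rcases (subEmb H).dickson_refined 2 with hss | hB | hD | ⟨-, -, h3⟩ | hsub
  · left
    by_contra hna
    push Not at hna
    have hna' : ∃ x y : H, x * y ≠ y * x := hna
    have hodd := Cfsg.Agent.S5893.odd_of_hss h2 H hss
    rcases (subEmb H).caseI hna' hss with ⟨g, -, hg⟩ | h | h | ⟨h, -⟩
    · exact hodd ⟨_, by rw [← hg, mul_comm]⟩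
    · exact hodd (by rw [h.1]; exact Dvd.dvd.mul_left (by norm_num) _)
    · exact hodd (by rw [h.1]; exact Dvd.dvd.mul_left (by norm_num) _)
    · exact hodd (by rw [h.1]; exact Dvd.dvd.mul_left (by norm_num) _)
  · exact Or.inr (Or.inl hB)
  · exact Or.inr (Or.inr (Or.inl hD))
  · omega
  · right; right; right
    obtain ⟨Θ, K₀, k, hscal, hcard, hna, K, hKf, hKt, m, hm, hcK, hiso⟩ := hsub
    have hq : 2 ≤ Fintype.card F := Fintype.one_lt_card
    have hZ : Nat.card (center H) = 1 := by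
      rw [Cfsg.Agent.S5893.center_eq_bot h2 H hna]
      exact Subgroup.card_bot
    rw [hZ, one_mul] at hcard
    rw [hF] at hm
    have hk0 : Nat.card K₀ = 2 ∨ Nat.card K₀ = 2 ^ p := by
      rw [← hcK]
      exact pow_eq_two_pow hp hm
    have hpar : ∀ j : ℕ, 2 * j + 1 ≠ 2 ^ p := by
      intro j hj
      have : 2 ∣ 2 ^ p := dvd_pow_self 2 hp.ne_zero
      omega
    rcases hk0 with hk0 | hk0
    · -- the subfield has two elements
      have hk1 : k = 1 := by
        rcases hiso with ⟨h, -⟩ | ⟨h, -⟩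
        · omega
        · omega
      refine ⟨by rw [hcard, hk0, hk1], ?_⟩
      intro g
      obtain ⟨μ, hμ, hmem⟩ := hscal g
      set S' := (subEmb H).app Θ with hS'
      have hidem : ∀ e : F, e ∈ K₀ → e ^ 2 = e := fun e he => sq_eq_self_of_card_two K₀ hk0 he
      have hdet := S'.m_det' g
      have hμ2 : μ ^ 2 ∈ K₀ := by
        have h1 : μ ^ 2 = (μ * S'.m g 0 0) * (μ * S'.m g 1 1) - (μ * S'.m g 0 1) * (μ * S'.m g 1 0) := by
          linear_combination (-(μ ^ 2)) * hdet
        rw [h1]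
        exact K₀.sub_mem (K₀.mul_mem (hmem 0 0) (hmem 1 1)) (K₀.mul_mem (hmem 0 1) (hmem 1 0))
      have hμ1 : μ = 1 := by
        have h1 := hidem _ hμ2
        have h3 : μ ^ 2 * (μ - 1) ^ 2 = 0 := by linear_combination h1 + (μ ^ 2 - μ ^ 3) * h2
        rcases mul_eq_zero.mp h3 with h | h
        · exact absurd (pow_eq_zero_iff (two_ne_zero)|>.mp h) hμ
        · exact sub_eq_zero.mp (pow_eq_zero_iff (two_ne_zero)|>.mp h)
      have htr : S'.tr g ∈ K₀ := by
        rw [S'.tr_eq]
        have h00 := hmem 0 0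
        have h11 := hmem 1 1
        rw [hμ1, one_mul] at h00 h11
        exact K₀.add_mem h00 h11
      have htr' : (subEmb H).tr g ∈ K₀ := by
        rw [← (subEmb H).app_tr Θ g]
        exact htr
      have h1 := hidem _ htr'
      have h3 : (subEmb H).tr g * ((subEmb H).tr g - 1) = 0 := by linear_combination h1
      rcases mul_eq_zero.mp h3 with h | h
      · exact Or.inl h
      · exact Or.inr (sub_eq_zero.mp h)
    · -- the subfield is everything: `H = ⊤`
      exfalso
      apply hH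
      apply eq_top_of_card_ge
      rw [card_SL2, hcard, hk0, hF]
      have hk1 : k + 1 = 2 ^ p := by
        rcases hiso with ⟨h, -⟩ | ⟨h, -⟩
        · exact absurd (hk0 ▸ h) (hpar k)
        · rw [← hk0]; exact h
      have h4 : 2 ≤ 2 ^ p := by
        calc 2 = 2 ^ 1 := by norm_num
          _ ≤ 2 ^ p := Nat.pow_le_pow_right (by norm_num) hp.one_lt.le
      obtain ⟨r, hr⟩ : ∃ r, 2 ^ p = r + 2 := ⟨2 ^ p - 2, by omega⟩
      have hk : k = r + 1 := by omega
      rw [hr, hk]
      have : (r + 2) ^ 2 - 1 = (r + 1) * (r + 3) := by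
        apply Nat.sub_eq_of_eq_add
        ring
      rw [this]
      apply le_of_eq
      ring

end Cfsg.Agent.Lib.Helper13.Sol
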