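/-
helper13: solvability criteria used for solubilizers in `SL₂(F)`: transport along isomorphisms,
abelian normal subgroups of index two, the Borel subgroup and normalisers of tori.
-/
import Mathlib
import Cfsg.Agent.Lib.Helper13.SL2Torus
import Cfsg.Agent.Lib.Helper13.PSSL

set_option autoImplicit false

namespace Cfsg.Agent.Lib.Helper13.Sol

open Subgroup Matrix Cfsg.Agent.Lib.Helper13

section general

variable {G G' : Type*} [Group G] [Group G']

/-- The solubilizer condition is invariant under isomorphisms. -/
theorem isSolvable_closure_pair_iff (e : G ≃* G') (x y : G) :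
    Group.IsSolvable ↥(Subgroup.closure ({e x, e y} : Set G')) ↔
      Group.IsSolvable ↥(Subgroup.closure ({x, y} : Set G)) := by
  have hmap : (Subgroup.closure ({x, y} : Set G)).map e.toMonoidHom =
      Subgroup.closure ({e x, e y} : Set G') := by
    rw [MonoidHom.map_closure, Set.image_pair]
    rfl
  have e' : ↥(Subgroup.closure ({x, y} : Set G)) ≃* ↥(Subgroup.closure ({e x, e y} : Set G')) :=
    (e.subgroupMap _).trans (MulEquiv.subgroupCongr hmap)
  constructor
  · intro h
    exact Group.isSolvable_of_isSolvable_injective (f := e'.toMonoidHom) e'.injective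
  · intro h
    exact Group.isSolvable_of_isSolvable_injective (f := e'.symm.toMonoidHom) e'.symm.injective

/-- Solubilizers of corresponding elements have the same cardinality. -/
theorem card_sol_congr (e : G ≃* G') (x : G) :
    Nat.card {y : G' // Group.IsSolvable ↥(Subgroup.closure ({e x, y} : Set G'))} =
      Nat.card {y : G // Group.IsSolvable ↥(Subgroup.closure ({x, y} : Set G))} := by
  symm
  apply Nat.card_congr
  refine e.toEquiv.subtypeEquiv ?_
  intro y
  exact (isSolvable_closure_pair_iff e x y).symm

theorem isSolvable_of_le {H K : Subgroup G} (h : H ≤ K) [hK : Group.IsSolvable K] :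
    Group.IsSolvable H :=
  Group.isSolvable_of_isSolvable_injective (f := Subgroup.inclusion h) (Subgroup.inclusion_injective h)

theorem closure_pair_le {H : Subgroup G} {x y : G} (hx : x ∈ H) (hy : y ∈ H) :
    Subgroup.closure ({x, y} : Set G) ≤ H := by
  rw [Subgroup.closure_le]
  intro z hz
  rcases hz with rfl | rfl
  · exact hx
  · exact hy

/-- A group with an abelian normal subgroup of index two is solvable. -/
theorem isSolvable_of_normal_comm_index_two (N : Subgroup G) [N.Normal]
    (hc : ∀ a ∈ N, ∀ b ∈ N, a * b = b * a) (hidx : N.index = 2) : Group.IsSolvable G := by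
  have hN : Group.IsSolvable N :=
    Group.isSolvable_of_comm (fun a b => Subtype.ext (hc a a.2 b b.2))
  have hp2 : Fact (Nat.Prime 2) := ⟨Nat.prime_two⟩
  have hcard : Nat.card (G ⧸ N) = 2 := hidx
  have hcyc : IsCyclic (G ⧸ N) := isCyclic_of_prime_card hcard
  have hQ : Group.IsSolvable (G ⧸ N) :=
    Group.isSolvable_of_comm (fun a b => (IsCyclic.commGroup (α := G ⧸ N)).mul_comm a b)
  apply Group.isSolvable_of_ker_le_range N.subtype (QuotientGroup.mk' N)
  rw [QuotientGroup.ker_mk', Subgroup.range_subtype]

/-- The closure of two commuting elements is solvable. -/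
theorem isSolvable_closure_of_commute (x y : G) (h : x * y = y * x) :
    Group.IsSolvable ↥(Subgroup.closure ({x, y} : Set G)) := by
  have hcomm : ∀ a ∈ ({x, y} : Set G), ∀ b ∈ ({x, y} : Set G), a * b = b * a := by
    intro a ha b hb
    rcases ha with rfl | rfl <;> rcases hb with rfl | rfl
    · rfl
    · exact h
    · exact h.symm
    · rfl
  have hc := Subgroup.isMulCommutative_closure hcomm
  exact Group.isSolvable_of_comm (fun a b => hc.is_comm.comm a b)

end general

section sl2

variable {F : Type*} [Field F]

/-- The diagonal character of the Borel subgroup. -/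
noncomputable def borelDiag (F : Type*) [Field F] : ↥(borelSL F) →* Fˣ where
  toFun b := (slEquiv F b).1
  map_one' := by
    apply Units.ext
    rw [slEquiv_fst]
    simp
  map_mul' b c := by
    apply Units.ext
    rw [Units.val_mul, slEquiv_fst, slEquiv_fst, slEquiv_fst]
    have hc := mem_borelSL.mp c.2
    have h : (((b * c : ↥(borelSL F)) : SpecialLinearGroup (Fin 2) F) : Matrix (Fin 2) (Fin 2) F) =
        ((b : SpecialLinearGroup (Fin 2) F) : Matrix (Fin 2) (Fin 2) F) *
        ((c : SpecialLinearGroup (Fin 2) F) : Matrix (Fin 2) (Fin 2) F) := rfl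
    rw [h, Matrix.mul_apply, Fin.sum_univ_two, hc, mul_zero, add_zero]

theorem eq_tSL_of_mem_ker (b : ↥(borelSL F)) (hb : b ∈ (borelDiag F).ker) :
    (b : SpecialLinearGroup (Fin 2) F) =
      tSL (((b : SpecialLinearGroup (Fin 2) F) : Matrix (Fin 2) (Fin 2) F) 0 1) := by
  rw [MonoidHom.mem_ker] at hb
  have h00 : ((b : SpecialLinearGroup (Fin 2) F) : Matrix (Fin 2) (Fin 2) F) 0 0 = 1 := by
    rw [← slEquiv_fst]
    change (((borelDiag F b : Fˣ)) : F) = 1
    rw [hb]
    rfl
  have h10 := mem_borelSL.mp b.2
  have hd := borelSL_diag b.2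
  rw [h00, one_mul] at hd
  apply Subtype.ext
  rw [tSL_coe]
  ext i j
  fin_cases i <;> fin_cases j <;> simp [h00, h10, hd]

theorem isSolvable_borelSL : Group.IsSolvable ↥(borelSL F) := by
  have hK : Group.IsSolvable (borelDiag F).ker := by
    apply Group.isSolvable_of_comm
    intro a b
    apply Subtype.ext
    apply Subtype.ext
    change ((a : ↥(borelSL F)) : SpecialLinearGroup (Fin 2) F) * ((b : ↥(borelSL F)) : SpecialLinearGroup (Fin 2) F) =
      ((b : ↥(borelSL F)) : SpecialLinearGroup (Fin 2) F) * ((a : ↥(borelSL F)) : SpecialLinearGroup (Fin 2) F)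
    rw [eq_tSL_of_mem_ker a.1 a.2, eq_tSL_of_mem_ker b.1 b.2, tSL_mul, tSL_mul, add_comm]
  have hQ : Group.IsSolvable Fˣ := Group.isSolvable_of_comm (fun a b => mul_comm a b)
  apply Group.isSolvable_of_ker_le_range (borelDiag F).ker.subtype (borelDiag F)
  rw [Subgroup.range_subtype]

variable [Fintype F]

/-- The normaliser of a maximal torus is solvable. -/
theorem isSolvable_normalizer_centralizer (g : SpecialLinearGroup (Fin 2) F)
    (hg : (g : Matrix (Fin 2) (Fin 2) F).trace ^ 2 ≠ 4) (hne : g ≠ g⁻¹) :
    Group.IsSolvable ↥(Subgroup.normalizer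
      ((Subgroup.centralizer ({g} : Set (SpecialLinearGroup (Fin 2) F)) :
        Subgroup (SpecialLinearGroup (Fin 2) F)) : Set (SpecialLinearGroup (Fin 2) F))) := by
  obtain ⟨C, hC⟩ : ∃ C, C = Subgroup.centralizer ({g} : Set (SpecialLinearGroup (Fin 2) F)) :=
    ⟨_, rfl⟩
  rw [← hC]
  have hcyc : IsCyclic C := by rw [hC]; exact isCyclic_centralizer g hg
  have hcard : Nat.card (Subgroup.normalizer (C : Set (SpecialLinearGroup (Fin 2) F))) =
      2 * Nat.card C := by
    rw [hC]; exact card_normalizer_centralizer g hg hne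
  have hle : C ≤ Subgroup.normalizer (C : Set (SpecialLinearGroup (Fin 2) F)) :=
    Subgroup.le_normalizer
  apply isSolvable_of_normal_comm_index_two
    (C.subgroupOf (Subgroup.normalizer (C : Set (SpecialLinearGroup (Fin 2) F))))
  · intro a ha b hb
    rw [Subgroup.mem_subgroupOf] at ha hb
    apply Subtype.ext
    have := (IsCyclic.commGroup (α := C)).mul_comm ⟨a, ha⟩ ⟨b, hb⟩
    have h' := congrArg Subtype.val this
    exact h'
  · have h1 := Subgroup.card_mul_index
      (C.subgroupOf (Subgroup.normalizer (C : Set (SpecialLinearGroup (Fin 2) F))))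
    rw [Nat.card_congr (Subgroup.subgroupOfEquivOfLe hle).toEquiv, hcard] at h1
    have hpos : 0 < Nat.card C := Nat.card_pos
    have : Nat.card C * (C.subgroupOf (Subgroup.normalizer
        (C : Set (SpecialLinearGroup (Fin 2) F)))).index = Nat.card C * 2 := by
      rw [h1]; ring
    exact Nat.eq_of_mul_eq_mul_left hpos this

end sl2

end Cfsg.Agent.Lib.Helper13.Sol
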