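/-
helper13: solubilizer of an involution in `SL₂(F)`, `|F| = 2 ^ p`.
-/
import Mathlib
import Cfsg.Agent.Lib.Helper13.SolA
import Cfsg.Agent.Lib.Helper13.SolB

set_option autoImplicit false

namespace Cfsg.Agent.Lib.Helper13.Sol

open Subgroup Matrix Cfsg.Agent.Lib.Helper13 Cfsg.Agent.Lib.Helper13.Dk

section dih

variable {F : Type*} [Field F] [Fintype F] {G : Type*} [Group G] [Finite G] (S : Emb F G)

/-- In a group of dihedral type the elements outside the torus have trace zero, and invert the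
semisimple element. -/
theorem inverts_of_not_mem {g : G} (hg : S.tr g ^ 2 ≠ 4)
    (hc : Nat.card (centralizer ({g} : Set G)) * 2 = Nat.card G) {z : G}
    (hz : z ∉ centralizer ({g} : Set G)) : z * g * z⁻¹ = g⁻¹ := by
  have hidx : (centralizer ({g} : Set G)).index = 2 := by
    have h1 := Subgroup.card_mul_index (centralizer ({g} : Set G))
    rw [← hc] at h1
    exact Nat.eq_of_mul_eq_mul_left Nat.card_pos h1
  have hnorm : (centralizer ({g} : Set G)).Normal := Subgroup.normal_of_index_eq_two hidx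
  have hmem : z * g * z⁻¹ ∈ centralizer ({g} : Set G) :=
    hnorm.conj_mem g (mem_centralizer_singleton_iff.mpr rfl) z
  rw [mem_centralizer_singleton_iff] at hmem
  have hg' : ((S.φ g : SpecialLinearGroup (Fin 2) F) : Matrix (Fin 2) (Fin 2) F).trace ^ 2 ≠ 4 := hg
  have hmem' : S.φ (z * g * z⁻¹) ∈
      centralizer ({S.φ g} : Set (SpecialLinearGroup (Fin 2) F)) := by
    rw [mem_centralizer_singleton_iff, ← map_mul, ← map_mul, hmem]
  have htr : ((S.φ (z * g * z⁻¹) : SpecialLinearGroup (Fin 2) F) :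
      Matrix (Fin 2) (Fin 2) F).trace =
      ((S.φ g : SpecialLinearGroup (Fin 2) F) : Matrix (Fin 2) (Fin 2) F).trace := by
    rw [map_mul, map_mul, map_inv]
    exact trace_conj_SL (S.φ z) (S.φ g)
  rcases eq_or_eq_inv_of_trace_eq (S.φ g) hg' _ hmem' htr with h | h
  · exfalso
    apply hz
    rw [mem_centralizer_singleton_iff]
    have := S.inj h
    calc z * g = (z * g * z⁻¹) * z := by group
      _ = g * z := by rw [this]
  · rw [← map_inv] at h
    exact S.inj h

theorem tr_eq_zero_of_not_mem {g : G} (hg : S.tr g ^ 2 ≠ 4)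
    (hc : Nat.card (centralizer ({g} : Set G)) * 2 = Nat.card G) {z : G}
    (hz : z ∉ centralizer ({g} : Set G)) : S.tr z = 0 :=
  S.tr_eq_zero_of_inverting (S.sc_of_tr_sq hg) (inverts_of_not_mem S hg hc hz)

omit [Fintype F] [Finite G] in
/-- Products of an element inside and one outside the torus lie outside. -/
theorem mul_not_mem {g : G} {a b : G} (ha : a ∉ centralizer ({g} : Set G))
    (hb : b ∈ centralizer ({g} : Set G)) : a * b ∉ centralizer ({g} : Set G) := by
  intro h
  apply ha
  have := (centralizer ({g} : Set G)).mul_mem h ((centralizer ({g} : Set G)).inv_mem hb)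
  rwa [mul_inv_cancel_right] at this

end dih

section caseA

variable {F : Type*} [Field F]

/-- Entry `(i, j)` of an element of `SL₂`. -/
abbrev en (y : SpecialLinearGroup (Fin 2) F) (i j : Fin 2) : F :=
  (y : Matrix (Fin 2) (Fin 2) F) i j

theorem det_en (y : SpecialLinearGroup (Fin 2) F) : en y 0 0 * en y 1 1 - en y 0 1 * en y 1 0 = 1 := by
  have := y.2
  rwa [Matrix.det_fin_two] at this

theorem trace_en (y : SpecialLinearGroup (Fin 2) F) :
    (y : Matrix (Fin 2) (Fin 2) F).trace = en y 0 0 + en y 1 1 := Matrix.trace_fin_two _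

theorem mul_en (a b : SpecialLinearGroup (Fin 2) F) (i j : Fin 2) :
    en (a * b) i j = en a i 0 * en b 0 j + en a i 1 * en b 1 j := by
  change ((a : Matrix (Fin 2) (Fin 2) F) * (b : Matrix (Fin 2) (Fin 2) F)) i j = _
  rw [Matrix.mul_apply, Fin.sum_univ_two]

theorem ext_en {a b : SpecialLinearGroup (Fin 2) F} (h00 : en a 0 0 = en b 0 0)
    (h01 : en a 0 1 = en b 0 1) (h10 : en a 1 0 = en b 1 0) (h11 : en a 1 1 = en b 1 1) : a = b := by
  apply Subtype.ext
  ext i j
  fin_cases i <;> fin_cases j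
  · exact h00
  · exact h01
  · exact h10
  · exact h11

@[simp] theorem en_tSL_00 (t : F) : en (tSL t) 0 0 = 1 := rfl
@[simp] theorem en_tSL_01 (t : F) : en (tSL t) 0 1 = t := rfl
@[simp] theorem en_tSL_10 (t : F) : en (tSL t) 1 0 = 0 := rfl
@[simp] theorem en_tSL_11 (t : F) : en (tSL t) 1 1 = 1 := rfl

theorem en_one_00 : en (1 : SpecialLinearGroup (Fin 2) F) 0 0 = 1 := by simp [en]
theorem en_one_01 : en (1 : SpecialLinearGroup (Fin 2) F) 0 1 = 0 := by simp [en]
theorem en_one_10 : en (1 : SpecialLinearGroup (Fin 2) F) 1 0 = 0 := by simp [en]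
theorem en_one_11 : en (1 : SpecialLinearGroup (Fin 2) F) 1 1 = 1 := by simp [en]

/-- In characteristic two an element of trace zero is an involution (or trivial). -/
theorem mul_self_of_trace_zero (h2 : (2 : F) = 0) (a : SpecialLinearGroup (Fin 2) F)
    (ha : en a 0 0 + en a 1 1 = 0) : a * a = 1 := by
  have hd := det_en a
  have h11 : en a 1 1 = en a 0 0 := by linear_combination ha - en a 0 0 * h2
  apply ext_en
  · rw [mul_en, en_one_00]; linear_combination hd + (en a 0 0) * ha - en a 0 0 * en a 1 1 * h2 + (en a 0 1 * en a 1 0) * h2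
  · rw [mul_en, en_one_01]; linear_combination en a 0 1 * ha
  · rw [mul_en, en_one_10]; linear_combination en a 1 0 * ha
  · rw [mul_en, en_one_11]; linear_combination hd + (en a 1 1) * ha - en a 0 0 * en a 1 1 * h2 + (en a 0 1 * en a 1 0) * h2

theorem four_eq_zero' (h2 : (2 : F) = 0) : (4 : F) = 0 := by linear_combination 2 * h2

theorem trace_sq_ne_four_of_ne_zero (h2 : (2 : F) = 0) (r : SpecialLinearGroup (Fin 2) F)
    (hr : en r 0 0 + en r 1 1 ≠ 0) : (r : Matrix (Fin 2) (Fin 2) F).trace ^ 2 ≠ 4 := by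
  rw [trace_en, four_eq_zero' h2]
  exact pow_ne_zero 2 hr

theorem ne_inv_of_trace_ne_zero (h2 : (2 : F) = 0) (r : SpecialLinearGroup (Fin 2) F)
    (hr : en r 0 0 + en r 1 1 ≠ 0) : r ≠ r⁻¹ := by
  have h := (⟨MonoidHom.id _, Function.injective_id⟩ : Emb F (SpecialLinearGroup (Fin 2) F)).ne_inv_of_tr_sq
    (g := r) (trace_sq_ne_four_of_ne_zero h2 r hr)
  exact h

variable [Fintype F]

/-- Two elements of trace zero generate a solvable group (characteristic two). -/
theorem isSolvable_closure_of_trace_zero (h2 : (2 : F) = 0) (a b : SpecialLinearGroup (Fin 2) F)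
    (ha : en a 0 0 + en a 1 1 = 0) (hb : en b 0 0 + en b 1 1 = 0) :
    Group.IsSolvable ↥(Subgroup.closure ({a, b} : Set (SpecialLinearGroup (Fin 2) F))) := by
  have haa := mul_self_of_trace_zero h2 a ha
  have hbb := mul_self_of_trace_zero h2 b hb
  have hainv : a⁻¹ = a := inv_eq_of_mul_eq_one_left haa
  have hbinv : b⁻¹ = b := inv_eq_of_mul_eq_one_left hbb
  by_cases hr : en (a * b) 0 0 + en (a * b) 1 1 = 0
  · have hrr := mul_self_of_trace_zero h2 (a * b) hr
    apply isSolvable_closure_of_commute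
    calc a * b = (a * b)⁻¹ := (inv_eq_of_mul_eq_one_left hrr).symm
      _ = b * a := by rw [_root_.mul_inv_rev, hainv, hbinv]
  · have hg := trace_sq_ne_four_of_ne_zero h2 (a * b) hr
    have hne := ne_inv_of_trace_ne_zero h2 (a * b) hr
    have hsol := isSolvable_normalizer_centralizer (a * b) hg hne
    have hrinv : (a * b)⁻¹ = b * a := by rw [_root_.mul_inv_rev, hainv, hbinv]
    have ha' : a ∈ Subgroup.normalizer
        ((Subgroup.centralizer ({a * b} : Set (SpecialLinearGroup (Fin 2) F)) :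
          Subgroup (SpecialLinearGroup (Fin 2) F)) : Set (SpecialLinearGroup (Fin 2) F)) := by
      rw [mem_normalizer_centralizer_iff (a * b) hg]
      right
      rw [hrinv, hainv, ← mul_assoc, haa, one_mul]
    have hb' : b ∈ Subgroup.normalizer
        ((Subgroup.centralizer ({a * b} : Set (SpecialLinearGroup (Fin 2) F)) :
          Subgroup (SpecialLinearGroup (Fin 2) F)) : Set (SpecialLinearGroup (Fin 2) F)) := by
      rw [mem_normalizer_centralizer_iff (a * b) hg]
      right
      rw [hrinv, hbinv, mul_assoc, mul_assoc, hbb, mul_one]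
    exact isSolvable_of_le (closure_pair_le ha' hb')

/-- The solubilizer of the standard involution. -/
def setA (F : Type*) [Field F] : Set (SpecialLinearGroup (Fin 2) F) :=
  {y | en y 1 0 = 0 ∨ en y 0 0 + en y 1 1 = 0 ∨ en y 0 0 + en y 1 1 = en y 1 0}

theorem isSolvable_of_mem_setA (h2 : (2 : F) = 0) (y : SpecialLinearGroup (Fin 2) F)
    (hy : y ∈ setA F) :
    Group.IsSolvable ↥(Subgroup.closure ({tSL 1, y} : Set (SpecialLinearGroup (Fin 2) F))) := by
  have hu : en (tSL (1 : F)) 0 0 + en (tSL (1 : F)) 1 1 = 0 := by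
    rw [en_tSL_00, en_tSL_11]; linear_combination h2
  rcases hy with h | h | h
  · have hB := isSolvable_borelSL (F := F)
    have h1 : tSL (1 : F) ∈ borelSL F := mem_borelSL.mpr rfl
    have h2' : y ∈ borelSL F := mem_borelSL.mpr h
    exact isSolvable_of_le (closure_pair_le h1 h2')
  · exact isSolvable_closure_of_trace_zero h2 _ _ hu h
  · have hz : en (tSL 1 * y) 0 0 + en (tSL 1 * y) 1 1 = 0 := by
      rw [mul_en, mul_en, en_tSL_00, en_tSL_01, en_tSL_10, en_tSL_11]
      linear_combination h + en y 1 0 * h2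
    have hsol := isSolvable_closure_of_trace_zero h2 _ _ hu hz
    have h1 : tSL (1 : F) ∈ Subgroup.closure
        ({tSL 1, tSL 1 * y} : Set (SpecialLinearGroup (Fin 2) F)) :=
      Subgroup.subset_closure (Set.mem_insert _ _)
    have h3 : tSL (1 : F) * y ∈ Subgroup.closure
        ({tSL 1, tSL 1 * y} : Set (SpecialLinearGroup (Fin 2) F)) :=
      Subgroup.subset_closure (Set.mem_insert_of_mem _ rfl)
    have h4 : y ∈ Subgroup.closure
        ({tSL 1, tSL 1 * y} : Set (SpecialLinearGroup (Fin 2) F)) := by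
      have := Subgroup.mul_mem _ (Subgroup.inv_mem _ h1) h3
      rwa [inv_mul_cancel_left] at this
    exact isSolvable_of_le (closure_pair_le h1 h4)

theorem four_le_card {p : ℕ} (hp : p.Prime) (hF : Fintype.card F = 2 ^ p) : 4 ≤ Fintype.card F := by
  rw [hF]
  calc 4 = 2 ^ 2 := by norm_num
    _ ≤ 2 ^ p := Nat.pow_le_pow_right (by norm_num) hp.two_le

/-- A solvable subgroup is proper. -/
theorem ne_top_of_isSolvable (h4 : 4 ≤ Fintype.card F)
    (H : Subgroup (SpecialLinearGroup (Fin 2) F)) (hs : Group.IsSolvable H) : H ≠ ⊤ := by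
  intro htop
  apply Cfsg.Agent.S5893.not_isSolvable_SL2 (F := F) h4
  have e : H ≃* SpecialLinearGroup (Fin 2) F := (MulEquiv.subgroupCongr htop).trans Subgroup.topEquiv
  exact Group.isSolvable_of_isSolvable_injective (f := e.symm.toMonoidHom) e.symm.injective

theorem entry_of_upper_unip (h2 : (2 : F) = 0) (P : SpecialLinearGroup (Fin 2) F)
    (h10 : en P 1 0 = 0) (htr : en P 0 0 + en P 1 1 = 0) : en P 0 0 = 1 ∧ en P 1 1 = 1 := by
  have hd := det_en P
  rw [h10, mul_zero, sub_zero] at hd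
  have h11 : en P 1 1 = en P 0 0 := by linear_combination htr - en P 0 0 * h2
  rw [h11] at hd
  have h3 : (en P 0 0 - 1) ^ 2 = 0 := by linear_combination hd - en P 0 0 * h2 + h2
  have h00 : en P 0 0 = 1 := sub_eq_zero.mp (pow_eq_zero_iff (two_ne_zero)|>.mp h3)
  exact ⟨h00, h11.trans h00⟩

theorem mem_setA_of_isSolvable {p : ℕ} (hp : p.Prime) (hF : Fintype.card F = 2 ^ p)
    (y : SpecialLinearGroup (Fin 2) F)
    (hs : Group.IsSolvable ↥(Subgroup.closure ({tSL 1, y} : Set (SpecialLinearGroup (Fin 2) F)))) :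
    y ∈ setA F := by
  have h2 : (2 : F) = 0 := two_eq_zero_of_card hp hF
  have h4 := four_le_card hp hF
  obtain ⟨H, hHdef⟩ : ∃ H, H = Subgroup.closure ({tSL 1, y} : Set (SpecialLinearGroup (Fin 2) F)) :=
    ⟨_, rfl⟩
  rw [← hHdef] at hs
  have hH := ne_top_of_isSolvable h4 H hs
  have hu : tSL (1 : F) ∈ H := by rw [hHdef]; exact Subgroup.subset_closure (Set.mem_insert _ _)
  have hy : y ∈ H := by rw [hHdef]; exact Subgroup.subset_closure (Set.mem_insert_of_mem _ rfl)
  have huy00 : en (tSL 1 * y) 0 0 + en (tSL 1 * y) 1 1 = en y 0 0 + en y 1 1 + en y 1 0 := by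
    rw [mul_en, mul_en, en_tSL_00, en_tSL_01, en_tSL_10, en_tSL_11]; ring
  rcases proper_cases hp hF H hH with hab | ⟨Θ, hΘ⟩ | ⟨g, hg, hc⟩ | ⟨-, htr⟩
  · -- abelian
    left
    have h := congrArg Subtype.val (hab ⟨tSL 1, hu⟩ ⟨y, hy⟩)
    have h' : tSL 1 * y = y * tSL 1 := h
    have h11 := congrArg (fun M : SpecialLinearGroup (Fin 2) F => en M 1 1) h'
    simp only [mul_en, en_tSL_00, en_tSL_01, en_tSL_10, en_tSL_11] at h11
    linear_combination -h11
  · -- triangularisable
    left
    have hP10 : en (Θ.hom (tSL 1)) 1 0 = 0 := hΘ ⟨tSL 1, hu⟩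
    have hQ10 : en (Θ.hom y) 1 0 = 0 := hΘ ⟨y, hy⟩
    have hPtr : en (Θ.hom (tSL 1)) 0 0 + en (Θ.hom (tSL 1)) 1 1 = 0 := by
      have := Θ.tr_eq (tSL 1)
      rw [trace_en, trace_en, en_tSL_00, en_tSL_11] at this
      rw [this]; linear_combination h2
    obtain ⟨hP00, hP11⟩ := entry_of_upper_unip h2 _ hP10 hPtr
    have hQtr := Θ.tr_eq y
    rw [trace_en, trace_en] at hQtr
    have hPQ := Θ.tr_eq (tSL 1 * y)
    rw [map_mul, trace_en, trace_en, huy00, mul_en, mul_en, hP00, hP11, hP10, hQ10] at hPQ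
    linear_combination -hPQ + hQtr
  · -- dihedral type
    have hu' : (⟨tSL 1, hu⟩ : H) ∉ centralizer ({g} : Set H) := by
      intro hmem
      rw [mem_centralizer_singleton_iff] at hmem
      have h' : tSL (1 : F) * (g : SpecialLinearGroup (Fin 2) F) = (g : SpecialLinearGroup (Fin 2) F) * tSL (1 : F) := congrArg Subtype.val hmem
      have h10 := congrArg (fun M : SpecialLinearGroup (Fin 2) F => en M 0 0) h'
      have h11 := congrArg (fun M : SpecialLinearGroup (Fin 2) F => en M 0 1) h'
      simp only [mul_en, en_tSL_00, en_tSL_01, en_tSL_10, en_tSL_11] at h10 h11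
      apply hg
      have : (subEmb H).tr g = en (g : SpecialLinearGroup (Fin 2) F) 0 0 +
          en (g : SpecialLinearGroup (Fin 2) F) 1 1 := (subEmb H).tr_eq g
      rw [this, four_eq_zero' h2]
      have h3 : en (g : SpecialLinearGroup (Fin 2) F) 0 0 + en (g : SpecialLinearGroup (Fin 2) F) 1 1 = 0 := by
        linear_combination h11 + en (g : SpecialLinearGroup (Fin 2) F) 0 0 * h2
      rw [h3]; ring
    by_cases hy' : (⟨y, hy⟩ : H) ∈ centralizer ({g} : Set H)
    · right; right
      have h1 := tr_eq_zero_of_not_mem (subEmb H) hg hc (mul_not_mem hu' hy')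
      have h3 : (subEmb H).tr (⟨tSL 1, hu⟩ * ⟨y, hy⟩) = en (tSL 1 * y) 0 0 + en (tSL 1 * y) 1 1 :=
        (subEmb H).tr_eq _
      rw [h3, huy00] at h1
      linear_combination h1 - en y 1 0 * h2
    · right; left
      have h1 := tr_eq_zero_of_not_mem (subEmb H) hg hc hy'
      have h3 : (subEmb H).tr ⟨y, hy⟩ = en y 0 0 + en y 1 1 := (subEmb H).tr_eq _
      rw [h3] at h1
      exact h1
  · -- order six
    have h1 := htr ⟨y, hy⟩
    have h3 : (subEmb H).tr ⟨y, hy⟩ = en y 0 0 + en y 1 1 := (subEmb H).tr_eq _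
    rw [h3] at h1
    have h5 := htr (⟨tSL 1, hu⟩ * ⟨y, hy⟩)
    have h6 : (subEmb H).tr (⟨tSL 1, hu⟩ * ⟨y, hy⟩) = en (tSL 1 * y) 0 0 + en (tSL 1 * y) 1 1 :=
      (subEmb H).tr_eq _
    rw [h6, huy00] at h5
    rcases h1 with h1 | h1
    · exact Or.inr (Or.inl h1)
    · rcases h5 with h5 | h5
      · right; right
        linear_combination h5 - en y 1 0 * h2
      · left
        linear_combination h5 - h1

/-- Parametrisation of the elements with `c ≠ 0` and prescribed trace function. -/
def paramSL (h2 : (2 : F) = 0) (τ : F → F) (x : F × Fˣ) : SpecialLinearGroup (Fin 2) F :=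
  ⟨!![x.1, (x.1 * (x.1 + τ x.2) + 1) / (x.2 : F); (x.2 : F), x.1 + τ x.2], by
    rw [Matrix.det_fin_two_of]
    have hc : (x.2 : F) ≠ 0 := x.2.ne_zero
    field_simp
    linear_combination (-1 : F) * h2⟩

theorem paramSL_injective (h2 : (2 : F) = 0) (τ : F → F) : Function.Injective (paramSL h2 τ) := by
  intro x x' h
  have h00 := congrArg (fun M : SpecialLinearGroup (Fin 2) F => en M 0 0) h
  have h10 := congrArg (fun M : SpecialLinearGroup (Fin 2) F => en M 1 0) h
  apply Prod.ext
  · exact h00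
  · exact Units.ext h10

theorem range_paramSL (h2 : (2 : F) = 0) (τ : F → F) :
    Set.range (paramSL h2 τ) =
      {y : SpecialLinearGroup (Fin 2) F | en y 1 0 ≠ 0 ∧ en y 0 0 + en y 1 1 = τ (en y 1 0)} := by
  ext y
  constructor
  · rintro ⟨x, rfl⟩
    refine ⟨x.2.ne_zero, ?_⟩
    change x.1 + (x.1 + τ x.2) = τ (x.2 : F)
    linear_combination x.1 * h2
  · rintro ⟨hc, htr⟩
    refine ⟨(en y 0 0, Units.mk0 (en y 1 0) hc), ?_⟩
    have hd := det_en y
    apply ext_en
    · rfl
    · change (en y 0 0 * (en y 0 0 + τ (en y 1 0)) + 1) / en y 1 0 = en y 0 1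
      rw [div_eq_iff hc, ← htr]
      linear_combination hd + (en y 0 0 ^ 2 + 1) * h2
    · rfl
    · change en y 0 0 + τ (en y 1 0) = en y 1 1
      rw [← htr]
      linear_combination en y 0 0 * h2

theorem ncard_range_paramSL (h2 : (2 : F) = 0) (τ : F → F) :
    (Set.range (paramSL h2 τ)).ncard = Fintype.card F * (Fintype.card F - 1) := by
  classical
  rw [← Nat.card_coe_set_eq, Nat.card_range_of_injective (paramSL_injective h2 τ),
    Nat.card_prod, Nat.card_eq_fintype_card, Nat.card_eq_fintype_card, Fintype.card_units]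

theorem ncard_setA (h2 : (2 : F) = 0) :
    (setA F).ncard = 3 * Fintype.card F * (Fintype.card F - 1) := by
  classical
  have hfin : ∀ s : Set (SpecialLinearGroup (Fin 2) F), s.Finite := fun s => Set.toFinite s
  have hdecomp : setA F = ((borelSL F : Set (SpecialLinearGroup (Fin 2) F)) ∪
      Set.range (paramSL h2 (fun _ => 0))) ∪ Set.range (paramSL h2 (fun c => c)) := by
    ext y
    rw [Set.mem_union, Set.mem_union, range_paramSL, range_paramSL]
    change (en y 1 0 = 0 ∨ en y 0 0 + en y 1 1 = 0 ∨ en y 0 0 + en y 1 1 = en y 1 0) ↔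
      ((y ∈ borelSL F ∨ (en y 1 0 ≠ 0 ∧ en y 0 0 + en y 1 1 = 0)) ∨
        (en y 1 0 ≠ 0 ∧ en y 0 0 + en y 1 1 = en y 1 0))
    rw [mem_borelSL]
    change _ ↔ ((en y 1 0 = 0 ∨ _) ∨ _)
    by_cases hc : en y 1 0 = 0
    · simp [hc]
    · simp [hc]
  have hd1 : Disjoint (borelSL F : Set (SpecialLinearGroup (Fin 2) F))
      (Set.range (paramSL h2 (fun _ => 0))) := by
    rw [Set.disjoint_left]
    intro y hy hy'
    rw [range_paramSL] at hy'
    exact hy'.1 (mem_borelSL.mp hy)
  have hd2 : Disjoint ((borelSL F : Set (SpecialLinearGroup (Fin 2) F)) ∪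
      Set.range (paramSL h2 (fun _ => 0))) (Set.range (paramSL h2 (fun c => c))) := by
    rw [Set.disjoint_left]
    intro y hy hy'
    rw [range_paramSL] at hy'
    rcases hy with hy | hy
    · exact hy'.1 (mem_borelSL.mp hy)
    · rw [range_paramSL] at hy
      exact hy'.1 (hy'.2.symm.trans hy.2)
  rw [hdecomp, Set.ncard_union_eq hd2 (hfin _) (hfin _), Set.ncard_union_eq hd1 (hfin _) (hfin _),
    ncard_range_paramSL, ncard_range_paramSL]
  have : (borelSL F : Set (SpecialLinearGroup (Fin 2) F)).ncard =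
      Fintype.card F * (Fintype.card F - 1) := by
    rw [← Nat.card_coe_set_eq]
    exact Dk.Emb.card_borelSL_eq (F := F)
  rw [this]
  ring

theorem card_sol_tSL {p : ℕ} (hp : p.Prime) (hF : Fintype.card F = 2 ^ p) :
    Nat.card {y : SpecialLinearGroup (Fin 2) F // Group.IsSolvable
      ↥(Subgroup.closure ({tSL 1, y} : Set (SpecialLinearGroup (Fin 2) F)))} =
      3 * Fintype.card F * (Fintype.card F - 1) := by
  have h2 : (2 : F) = 0 := two_eq_zero_of_card hp hF
  rw [← ncard_setA h2, ← Nat.card_coe_set_eq]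
  apply Nat.card_congr
  apply Equiv.subtypeEquivRight
  intro y
  exact ⟨fun h => mem_setA_of_isSolvable hp hF y h, fun h => isSolvable_of_mem_setA h2 y h⟩

/-- Involutions are conjugate to the standard transvection (characteristic two). -/
theorem isConj_tSL_one_of_mul_self (h2 : (2 : F) = 0) (x : SpecialLinearGroup (Fin 2) F)
    (hx : x * x = 1) (hx1 : x ≠ 1) : IsConj x (tSL 1) := by
  have hsq : ((x : Matrix (Fin 2) (Fin 2) F) - 1) ^ 2 = 0 := by
    have e00 := congrArg (fun M : SpecialLinearGroup (Fin 2) F => en M 0 0) hx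
    have e01 := congrArg (fun M : SpecialLinearGroup (Fin 2) F => en M 0 1) hx
    have e10 := congrArg (fun M : SpecialLinearGroup (Fin 2) F => en M 1 0) hx
    have e11 := congrArg (fun M : SpecialLinearGroup (Fin 2) F => en M 1 1) hx
    simp only [mul_en, en_one_00, en_one_01, en_one_10, en_one_11] at e00 e01 e10 e11
    rw [sq]
    ext i j
    fin_cases i <;> fin_cases j <;>
      simp only [Matrix.mul_apply, Fin.sum_univ_two, Matrix.sub_apply, Matrix.one_apply_eq,
        Matrix.one_apply_ne, ne_eq, zero_ne_one, one_ne_zero, not_false_eq_true, sub_zero,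
        Matrix.zero_apply, Fin.zero_eta, Fin.mk_one]
    · change (en x 0 0 - 1) * (en x 0 0 - 1) + en x 0 1 * en x 1 0 = 0
      linear_combination e00 + (1 - en x 0 0) * h2
    · change (en x 0 0 - 1) * en x 0 1 + en x 0 1 * (en x 1 1 - 1) = 0
      linear_combination e01 - en x 0 1 * h2
    · change en x 1 0 * (en x 0 0 - 1) + (en x 1 1 - 1) * en x 1 0 = 0
      linear_combination e10 - en x 1 0 * h2
    · change en x 1 0 * en x 0 1 + (en x 1 1 - 1) * (en x 1 1 - 1) = 0
      linear_combination e11 + (1 - en x 1 1) * h2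
  obtain ⟨B, t, ht, hB⟩ := exists_conj_tSL x hsq hx1
  have hchar : ringChar F = 2 := by
    have hc2 : CharP F 2 := CharTwo.of_one_ne_zero_of_two_eq_zero one_ne_zero h2
    exact ringChar.eq F 2
  obtain ⟨s, hs⟩ := FiniteField.isSquare_of_char_two hchar t⁻¹
  have hs0 : s ≠ 0 := by
    rintro rfl
    rw [mul_zero] at hs
    exact inv_ne_zero ht hs
  have h1 : IsConj x (tSL t) := by
    rw [isConj_iff]
    refine ⟨B⁻¹, ?_⟩
    rw [inv_inv, mul_assoc, hB, ← mul_assoc, inv_mul_cancel, one_mul]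
  have h3 : IsConj (tSL t) (tSL (1 : F)) := by
    have := isConj_tSL_sq_mul s hs0 t
    have e : s ^ 2 * t = 1 := by
      rw [sq, ← hs]
      exact inv_mul_cancel₀ ht
    rwa [e] at this
  exact h1.trans h3

theorem card_sol_involution {p : ℕ} (hp : p.Prime) (hF : Fintype.card F = 2 ^ p)
    (x : SpecialLinearGroup (Fin 2) F) (hx : orderOf x = 2) :
    Nat.card {y : SpecialLinearGroup (Fin 2) F // Group.IsSolvable
      ↥(Subgroup.closure ({x, y} : Set (SpecialLinearGroup (Fin 2) F)))} =
      3 * Fintype.card F * (Fintype.card F - 1) := by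
  have h2 : (2 : F) = 0 := two_eq_zero_of_card hp hF
  have hxx : x * x = 1 := by
    have := pow_orderOf_eq_one x
    rwa [hx, sq] at this
  have hx1 : x ≠ 1 := by
    rintro rfl
    rw [orderOf_one] at hx
    omega
  obtain ⟨c, hc⟩ := isConj_iff.mp (isConj_tSL_one_of_mul_self h2 x hxx hx1)
  have h := card_sol_congr (MulAut.conj c) x
  rw [MulAut.conj_apply, hc] at h
  rw [← h]
  exact card_sol_tSL hp hF

end caseA

end Cfsg.Agent.Lib.Helper13.Sol
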