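/-
helper13: solubilizers of semisimple elements of `SL₂(F)`, `|F| = 2 ^ p`: general dichotomy.
-/
import Mathlib
import Cfsg.Agent.Lib.Helper13.SolC

set_option autoImplicit false

namespace Cfsg.Agent.Lib.Helper13.Sol

open Subgroup Matrix Cfsg.Agent.Lib.Helper13 Cfsg.Agent.Lib.Helper13.Dk

variable {F : Type*} [Field F] [Fintype F]

/-- The normaliser of the torus of `x`. -/
abbrev torusNorm (x : SpecialLinearGroup (Fin 2) F) : Subgroup (SpecialLinearGroup (Fin 2) F) :=
  Subgroup.normalizer ((Subgroup.centralizer ({x} : Set (SpecialLinearGroup (Fin 2) F)) :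
    Subgroup (SpecialLinearGroup (Fin 2) F)) : Set (SpecialLinearGroup (Fin 2) F))

/-- A conjugate of `x` commuting with `x` is `x` or `x⁻¹`; hence the conjugating element
normalises the torus. -/
theorem mem_torusNorm_of_commute (x y : SpecialLinearGroup (Fin 2) F)
    (hx : (x : Matrix (Fin 2) (Fin 2) F).trace ^ 2 ≠ 4)
    (h : (y * x * y⁻¹) * x = x * (y * x * y⁻¹)) : y ∈ torusNorm x := by
  rw [mem_normalizer_centralizer_iff x hx]
  apply eq_or_eq_inv_of_trace_eq x hx
  · rw [mem_centralizer_singleton_comm]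
    exact h
  · exact trace_conj_SL y x

/-- An element of trace one has order dividing three (characteristic two). -/
theorem pow_three_of_trace_one (h2 : (2 : F) = 0) (x : SpecialLinearGroup (Fin 2) F)
    (hx : en x 0 0 + en x 1 1 = 1) : x ^ 3 = 1 := by
  have hd := det_en x
  have hch := cayley_hamilton_two (x : Matrix (Fin 2) (Fin 2) F) x.2
  have htr : (x : Matrix (Fin 2) (Fin 2) F) 0 0 + (x : Matrix (Fin 2) (Fin 2) F) 1 1 = 1 := hx
  rw [htr, one_smul] at hch
  apply Subtype.ext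
  rw [Matrix.SpecialLinearGroup.coe_pow, Matrix.SpecialLinearGroup.coe_one, pow_succ, pow_two, hch,
    sub_mul, one_mul, hch]
  have h3 : (2 : Matrix (Fin 2) (Fin 2) F) = 0 := by
    have : (2 : Matrix (Fin 2) (Fin 2) F) = ((2 : F) • (1 : Matrix (Fin 2) (Fin 2) F)) := by
      rw [two_smul]; norm_num
    rw [this, h2, zero_smul]
  have hneg : (-1 : Matrix (Fin 2) (Fin 2) F) = 1 := by
    have : (1 : Matrix (Fin 2) (Fin 2) F) + 1 = 0 := by rw [one_add_one_eq_two]; exact h3
    exact neg_eq_of_add_eq_zero_left this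
  rw [sub_sub_cancel_left, hneg]

/-- The dichotomy for the solubilizer of a semisimple element. -/
theorem semis_cases {p : ℕ} (hp : p.Prime) (hF : Fintype.card F = 2 ^ p)
    (x y : SpecialLinearGroup (Fin 2) F) (hx : en x 0 0 + en x 1 1 ≠ 0)
    (hs : Group.IsSolvable ↥(Subgroup.closure ({x, y} : Set (SpecialLinearGroup (Fin 2) F)))) :
    y ∈ torusNorm x ∨ ∃ Θ : Tw F, en (Θ.hom x) 1 0 = 0 ∧ en (Θ.hom y) 1 0 = 0 := by
  have h2 : (2 : F) = 0 := two_eq_zero_of_card hp hF
  have h4 := four_le_card hp hF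
  have hx4 := trace_sq_ne_four_of_ne_zero h2 x hx
  obtain ⟨H, hHdef⟩ : ∃ H, H = Subgroup.closure ({x, y} : Set (SpecialLinearGroup (Fin 2) F)) :=
    ⟨_, rfl⟩
  rw [← hHdef] at hs
  have hH := ne_top_of_isSolvable h4 H hs
  have hxH : x ∈ H := by rw [hHdef]; exact Subgroup.subset_closure (Set.mem_insert _ _)
  have hyH : y ∈ H := by rw [hHdef]; exact Subgroup.subset_closure (Set.mem_insert_of_mem _ rfl)
  have htrx : (subEmb H).tr ⟨x, hxH⟩ = en x 0 0 + en x 1 1 := (subEmb H).tr_eq _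
  -- the conclusion from a commuting conjugate inside `H`
  have key : ((⟨y, hyH⟩ : H) * ⟨x, hxH⟩ * (⟨y, hyH⟩ : H)⁻¹) * ⟨x, hxH⟩ =
      ⟨x, hxH⟩ * ((⟨y, hyH⟩ : H) * ⟨x, hxH⟩ * (⟨y, hyH⟩ : H)⁻¹) → y ∈ torusNorm x := by
    intro h
    exact mem_torusNorm_of_commute x y hx4 (congrArg Subtype.val h)
  rcases proper_cases hp hF H hH with hab | ⟨Θ, hΘ⟩ | ⟨g, hg, hc⟩ | ⟨h6, htr⟩
  · left
    exact key (hab _ _)
  · right
    exact ⟨Θ, hΘ ⟨x, hxH⟩, hΘ ⟨y, hyH⟩⟩
  · left
    have hxC : (⟨x, hxH⟩ : H) ∈ centralizer ({g} : Set H) := by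
      by_contra hnot
      have := tr_eq_zero_of_not_mem (subEmb H) hg hc hnot
      rw [htrx] at this
      exact hx this
    have hidx : (centralizer ({g} : Set H)).index = 2 := by
      have h1 := Subgroup.card_mul_index (centralizer ({g} : Set H))
      rw [← hc] at h1
      exact Nat.eq_of_mul_eq_mul_left Nat.card_pos h1
    have hnorm : (centralizer ({g} : Set H)).Normal := Subgroup.normal_of_index_eq_two hidx
    have hconj : (⟨y, hyH⟩ : H) * ⟨x, hxH⟩ * (⟨y, hyH⟩ : H)⁻¹ ∈ centralizer ({g} : Set H) :=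
      hnorm.conj_mem _ hxC _
    have hcyc := (subEmb H).isCyclic_centralizer g hg
    have hcomm := (IsCyclic.commGroup (α := centralizer ({g} : Set H))).mul_comm
      ⟨_, hconj⟩ ⟨_, hxC⟩
    exact key (congrArg Subtype.val hcomm)
  · left
    have hx1 : en x 0 0 + en x 1 1 = 1 := by
      have := htr ⟨x, hxH⟩
      rw [htrx] at this
      exact this.resolve_left hx
    have hx3 : (⟨x, hxH⟩ : H) ^ 3 = 1 := Subtype.ext (pow_three_of_trace_one h2 x hx1)
    have hxne : (⟨x, hxH⟩ : H) ≠ 1 := by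
      intro h
      have h' : x = 1 := congrArg Subtype.val h
      apply hx
      rw [h', en_one_00, en_one_11]
      linear_combination h2
    have hord : orderOf (⟨x, hxH⟩ : H) = 3 := by
      have hp3 : Fact (Nat.Prime 3) := ⟨Nat.prime_three⟩
      exact orderOf_eq_prime hx3 hxne
    have hidx : (Subgroup.zpowers (⟨x, hxH⟩ : H)).index = 2 := by
      have h1 := Subgroup.card_mul_index (Subgroup.zpowers (⟨x, hxH⟩ : H))
      rw [Nat.card_zpowers, hord, h6] at h1
      omega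
    have hnorm : (Subgroup.zpowers (⟨x, hxH⟩ : H)).Normal := Subgroup.normal_of_index_eq_two hidx
    have hconj : (⟨y, hyH⟩ : H) * ⟨x, hxH⟩ * (⟨y, hyH⟩ : H)⁻¹ ∈ Subgroup.zpowers (⟨x, hxH⟩ : H) :=
      hnorm.conj_mem _ (Subgroup.mem_zpowers _) _
    obtain ⟨k, hk⟩ := Subgroup.mem_zpowers_iff.mp hconj
    apply key
    rw [← hk]
    exact (Commute.zpow_self _ k)

end Cfsg.Agent.Lib.Helper13.Sol
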