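/-
helper13: solubilizers of semisimple elements of `SL₂(F)`, `|F| = 2 ^ p`: the non-split and the
split case.
-/
import Mathlib
import Cfsg.Agent.Lib.Helper13.SolD

set_option autoImplicit false

namespace Cfsg.Agent.Lib.Helper13.Sol

open Subgroup Matrix Cfsg.Agent.Lib.Helper13 Cfsg.Agent.Lib.Helper13.Dk

variable {F : Type*} [Field F] [Fintype F]

theorem orderOf_dvd_card_centralizer (x : SpecialLinearGroup (Fin 2) F) :
    orderOf x ∣ Nat.card (Subgroup.centralizer ({x} : Set (SpecialLinearGroup (Fin 2) F))) := by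
  have h := orderOf_dvd_natCard (⟨x, self_mem_centralizer x⟩ :
    Subgroup.centralizer ({x} : Set (SpecialLinearGroup (Fin 2) F)))
  rwa [Subgroup.orderOf_mk] at h

theorem two_pow_even {p : ℕ} (hp : p.Prime) : 2 ∣ 2 ^ p := dvd_pow_self 2 hp.ne_zero

/-- An element of odd order different from `1` has non-zero trace. -/
theorem trace_ne_zero_of_odd_order (h2 : (2 : F) = 0) (x : SpecialLinearGroup (Fin 2) F)
    (hx1 : x ≠ 1) {n : ℕ} (hn : ¬ 2 ∣ n) (hord : orderOf x ∣ n) : en x 0 0 + en x 1 1 ≠ 0 := by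
  intro h
  have hxx := mul_self_of_trace_zero h2 x h
  have h1 : orderOf x ∣ 2 := orderOf_dvd_of_pow_eq_one (by rw [sq]; exact hxx)
  have h3 : orderOf x ∣ Nat.gcd 2 n := Nat.dvd_gcd h1 hord
  have h4 : Nat.gcd 2 n = 1 := (Nat.Prime.coprime_iff_not_dvd Nat.prime_two).mpr hn
  rw [h4, Nat.dvd_one, orderOf_eq_one_iff] at h3
  exact hx1 h3

/-- The order of an element dividing both `q - 1` and `q + 1` (`q` even) is one. -/
theorem eq_one_of_orderOf_dvd {q : ℕ} (hq : 2 ∣ q) (hq2 : 2 ≤ q) (x : SpecialLinearGroup (Fin 2) F)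
    (h1 : orderOf x ∣ q - 1) (h3 : orderOf x ∣ q + 1) : x = 1 := by
  have h4 : orderOf x ∣ 2 := by
    have : orderOf x ∣ (q + 1) - (q - 1) := Nat.dvd_sub h3 h1
    have e : (q + 1) - (q - 1) = 2 := by omega
    rwa [e] at this
  have hodd : ¬ 2 ∣ q + 1 := by omega
  have h5 : orderOf x ∣ Nat.gcd 2 (q + 1) := Nat.dvd_gcd h4 h3
  have h6 : Nat.gcd 2 (q + 1) = 1 := (Nat.Prime.coprime_iff_not_dvd Nat.prime_two).mpr hodd
  rw [h6, Nat.dvd_one, orderOf_eq_one_iff] at h5
  exact h5

theorem self_mem_torusNorm (x : SpecialLinearGroup (Fin 2) F) : x ∈ torusNorm x :=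
  Subgroup.le_normalizer (self_mem_centralizer x)

/-- The solubilizer of a non-split semisimple element is the normaliser of its torus. -/
theorem card_sol_nonsplit {p : ℕ} (hp : p.Prime) (hF : Fintype.card F = 2 ^ p)
    (x : SpecialLinearGroup (Fin 2) F) (hx1 : x ≠ 1) (hord : orderOf x ∣ 2 ^ p + 1) :
    Nat.card {y : SpecialLinearGroup (Fin 2) F // Group.IsSolvable
      ↥(Subgroup.closure ({x, y} : Set (SpecialLinearGroup (Fin 2) F)))} = 2 * (2 ^ p + 1) := by
  have h2 : (2 : F) = 0 := two_eq_zero_of_card hp hF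
  have heven := two_pow_even hp
  have hq2 : 2 ≤ 2 ^ p := by
    calc 2 = 2 ^ 1 := by norm_num
      _ ≤ 2 ^ p := Nat.pow_le_pow_right (by norm_num) hp.one_lt.le
  have htr : en x 0 0 + en x 1 1 ≠ 0 :=
    trace_ne_zero_of_odd_order h2 x hx1 (by omega) hord
  have hx4 := trace_sq_ne_four_of_ne_zero h2 x htr
  have hne := ne_inv_of_trace_ne_zero h2 x htr
  have hns : ∀ a : F, a * ((x : Matrix (Fin 2) (Fin 2) F).trace - a) ≠ 1 := by
    intro a ha
    have hc := card_centralizer_split x hx4 a ha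
    have h1 := orderOf_dvd_card_centralizer x
    rw [hc, hF] at h1
    exact hx1 (eq_one_of_orderOf_dvd heven hq2 x h1 hord)
  have hcard : Nat.card (torusNorm x) = 2 * (2 ^ p + 1) := by
    rw [card_normalizer_centralizer x hx4 hne, card_centralizer_nonsplit x hx4 hns, hF]
  rw [← hcard]
  apply Nat.card_congr
  apply Equiv.subtypeEquivRight
  intro y
  constructor
  · intro hs
    rcases semis_cases hp hF x y htr hs with h | ⟨Θ, h10, -⟩
    · exact h
    · exfalso
      apply hns (en (Θ.hom x) 0 0)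
      have ht := Θ.tr_eq x
      rw [trace_en] at ht
      have hd := det_en (Θ.hom x)
      rw [h10, mul_zero, sub_zero] at hd
      rw [← ht]
      linear_combination hd
  · intro hy
    have hsol := isSolvable_normalizer_centralizer x hx4 hne
    exact isSolvable_of_le (closure_pair_le (self_mem_torusNorm x) hy)

end Cfsg.Agent.Lib.Helper13.Sol
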