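/-
helper13: solubilizers of split semisimple elements of `SL₂(F)`, `|F| = 2 ^ p`.
-/
import Mathlib
import Cfsg.Agent.Lib.Helper13.SolE

set_option autoImplicit false

namespace Cfsg.Agent.Lib.Helper13.Sol

open Subgroup Matrix Cfsg.Agent.Lib.Helper13 Cfsg.Agent.Lib.Helper13.Dk

variable {F : Type*} [Field F]

@[simp] theorem en_dSL_00 (a : F) (ha : a ≠ 0) : en (dSL a ha) 0 0 = a := rfl
@[simp] theorem en_dSL_01 (a : F) (ha : a ≠ 0) : en (dSL a ha) 0 1 = 0 := rfl
@[simp] theorem en_dSL_10 (a : F) (ha : a ≠ 0) : en (dSL a ha) 1 0 = 0 := rfl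
@[simp] theorem en_dSL_11 (a : F) (ha : a ≠ 0) : en (dSL a ha) 1 1 = a⁻¹ := rfl

/-- The solubilizer of a diagonal element. -/
def setB (F : Type*) [Field F] : Set (SpecialLinearGroup (Fin 2) F) :=
  {y | en y 1 0 = 0 ∨ en y 0 1 = 0 ∨ (en y 0 0 = 0 ∧ en y 1 1 = 0)}

/-- The Weyl element (characteristic two). -/
def wSL (h2 : (2 : F) = 0) : SpecialLinearGroup (Fin 2) F :=
  ⟨!![0, 1; 1, 0], by rw [Matrix.det_fin_two_of]; linear_combination (-1 : F) * h2⟩

@[simp] theorem en_wSL_00 (h2 : (2 : F) = 0) : en (wSL h2) 0 0 = 0 := rfl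
@[simp] theorem en_wSL_01 (h2 : (2 : F) = 0) : en (wSL h2) 0 1 = 1 := rfl
@[simp] theorem en_wSL_10 (h2 : (2 : F) = 0) : en (wSL h2) 1 0 = 1 := rfl
@[simp] theorem en_wSL_11 (h2 : (2 : F) = 0) : en (wSL h2) 1 1 = 0 := rfl

theorem wSL_mul_self (h2 : (2 : F) = 0) : wSL h2 * wSL h2 = 1 := by
  apply ext_en
  · rw [mul_en, en_one_00]; simp
  · rw [mul_en, en_one_01]; simp
  · rw [mul_en, en_one_10]; simp
  · rw [mul_en, en_one_11]; simp

theorem wSL_inv (h2 : (2 : F) = 0) : (wSL h2)⁻¹ = wSL h2 :=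
  inv_eq_of_mul_eq_one_left (wSL_mul_self h2)

theorem en_conj_wSL_10 (h2 : (2 : F) = 0) (y : SpecialLinearGroup (Fin 2) F) :
    en (wSL h2 * y * (wSL h2)⁻¹) 1 0 = en y 0 1 := by
  rw [wSL_inv, mul_en, mul_en, mul_en]
  simp

theorem ne_inv_iff (h2 : (2 : F) = 0) (a : F) (ha : a ≠ 0) : a ≠ a⁻¹ ↔ a + a⁻¹ ≠ 0 := by
  constructor
  · intro h h'
    apply h
    linear_combination h' - a⁻¹ * h2
  · intro h h'
    apply h
    rw [← h']
    linear_combination a * h2

variable [Fintype F]

theorem isSolvable_of_mem_setB (h2 : (2 : F) = 0) (a : F) (ha : a ≠ 0) (hne : a ≠ a⁻¹)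
    (y : SpecialLinearGroup (Fin 2) F) (hy : y ∈ setB F) :
    Group.IsSolvable ↥(Subgroup.closure ({dSL a ha, y} : Set (SpecialLinearGroup (Fin 2) F))) := by
  have hB := isSolvable_borelSL (F := F)
  rcases hy with h | h | ⟨h00, h11⟩
  · have h1 : dSL a ha ∈ borelSL F := mem_borelSL.mpr rfl
    have h3 : y ∈ borelSL F := mem_borelSL.mpr h
    exact isSolvable_of_le (closure_pair_le h1 h3)
  · rw [← isSolvable_closure_pair_iff (MulAut.conj (wSL h2)) (dSL a ha) y]
    have h1 : MulAut.conj (wSL h2) (dSL a ha) ∈ borelSL F := by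
      rw [MulAut.conj_apply, mem_borelSL]
      exact (en_conj_wSL_10 h2 _).trans rfl
    have h3 : MulAut.conj (wSL h2) y ∈ borelSL F := by
      rw [MulAut.conj_apply, mem_borelSL]
      exact (en_conj_wSL_10 h2 _).trans h
    exact isSolvable_of_le (closure_pair_le h1 h3)
  · have htr : en (dSL a ha) 0 0 + en (dSL a ha) 1 1 ≠ 0 := by
      rw [en_dSL_00, en_dSL_11]
      exact (ne_inv_iff h2 a ha).mp hne
    have hx4 := trace_sq_ne_four_of_ne_zero h2 _ htr
    have hne' := ne_inv_of_trace_ne_zero h2 _ htr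
    have hsol := isSolvable_normalizer_centralizer _ hx4 hne'
    have hy' : y ∈ torusNorm (dSL a ha) := by
      rw [mem_normalizer_centralizer_iff _ hx4]
      right
      have hxyx : dSL a ha * y * dSL a ha = y := by
        apply ext_en
        · rw [mul_en, mul_en, mul_en]; simp [h00]
        · rw [mul_en, mul_en, mul_en]; simp; field_simp
        · rw [mul_en, mul_en, mul_en]; simp; field_simp
        · rw [mul_en, mul_en, mul_en]; simp [h11]
      rw [eq_inv_iff_mul_eq_one]
      have hinv : y⁻¹ = (dSL a ha)⁻¹ * y⁻¹ * (dSL a ha)⁻¹ := by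
        conv_lhs => rw [← hxyx]
        group
      rw [hinv]
      group
    exact isSolvable_of_le (closure_pair_le (self_mem_torusNorm _) hy')

theorem mem_setB_of_isSolvable {p : ℕ} (hp : p.Prime) (hF : Fintype.card F = 2 ^ p)
    (a : F) (ha : a ≠ 0) (hne : a ≠ a⁻¹) (y : SpecialLinearGroup (Fin 2) F)
    (hs : Group.IsSolvable
      ↥(Subgroup.closure ({dSL a ha, y} : Set (SpecialLinearGroup (Fin 2) F)))) : y ∈ setB F := by
  have h2 : (2 : F) = 0 := two_eq_zero_of_card hp hF
  have hab : a * a⁻¹ = 1 := mul_inv_cancel₀ ha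
  have hsub : a - a⁻¹ ≠ 0 := sub_ne_zero.mpr hne
  have htr : en (dSL a ha) 0 0 + en (dSL a ha) 1 1 ≠ 0 := by
    rw [en_dSL_00, en_dSL_11]
    exact (ne_inv_iff h2 a ha).mp hne
  have hx4 := trace_sq_ne_four_of_ne_zero h2 _ htr
  have hd := det_en y
  rcases semis_cases hp hF (dSL a ha) y htr hs with h | ⟨Θ, hP10, hQ10⟩
  · rw [mem_normalizer_centralizer_iff _ hx4] at h
    rcases h with h | h
    · -- `y` commutes with `x`
      right; left
      have h' : y * dSL a ha = dSL a ha * y := by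
        calc y * dSL a ha = (y * dSL a ha * y⁻¹) * y := by group
          _ = dSL a ha * y := by rw [h]
      have h01 := congrArg (fun M : SpecialLinearGroup (Fin 2) F => en M 0 1) h'
      simp only [mul_en, en_dSL_00, en_dSL_01, en_dSL_10, en_dSL_11] at h01
      have : (a - a⁻¹) * en y 0 1 = 0 := by linear_combination -h01
      exact (mul_eq_zero.mp this).resolve_left hsub
    · -- `y` inverts `x`
      right; right
      have h' : dSL a ha * y * dSL a ha = y := by
        calc dSL a ha * y * dSL a ha = dSL a ha * (y * dSL a ha * y⁻¹) * y := by group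
          _ = y := by rw [h]; group
      have h00 := congrArg (fun M : SpecialLinearGroup (Fin 2) F => en M 0 0) h'
      have h11 := congrArg (fun M : SpecialLinearGroup (Fin 2) F => en M 1 1) h'
      simp only [mul_en, en_dSL_00, en_dSL_01, en_dSL_10, en_dSL_11] at h00 h11
      constructor
      · have : (a - a⁻¹) * (a * en y 0 0) = 0 := by linear_combination h00 - en y 0 0 * hab
        rcases mul_eq_zero.mp this with h | h
        · exact absurd h hsub
        · exact (mul_eq_zero.mp h).resolve_left ha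
      · have : (a - a⁻¹) * (a⁻¹ * en y 1 1) = 0 := by
          linear_combination (-1 : F) * h11 + en y 1 1 * hab
        rcases mul_eq_zero.mp this with h | h
        · exact absurd h hsub
        · exact (mul_eq_zero.mp h).resolve_left (inv_ne_zero ha)
  · -- triangular case: `y₀₀ y₁₁ = 1`
    have hPtr := Θ.tr_eq (dSL a ha)
    rw [trace_en, trace_en, en_dSL_00, en_dSL_11] at hPtr
    have hQtr := Θ.tr_eq y
    rw [trace_en, trace_en] at hQtr
    have hPQ := Θ.tr_eq (dSL a ha * y)
    rw [map_mul, trace_en, trace_en, mul_en, mul_en, mul_en, mul_en, hP10, hQ10,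
      en_dSL_00, en_dSL_01, en_dSL_10, en_dSL_11] at hPQ
    have hPd := det_en (Θ.hom (dSL a ha))
    rw [hP10, mul_zero, sub_zero] at hPd
    have hQd := det_en (Θ.hom y)
    rw [hQ10, mul_zero, sub_zero] at hQd
    set μ := en (Θ.hom (dSL a ha)) 0 0 with hμ
    set ν := en (Θ.hom (dSL a ha)) 1 1 with hν
    set a₁ := en (Θ.hom y) 0 0 with ha₁
    set d₁ := en (Θ.hom y) 1 1 with hd₁
    have hroot : (μ - a) * (μ - a⁻¹) = 0 := by
      linear_combination (-1 : F) * hPd + hab + μ * hPtr
    have hAD : en y 0 0 * en y 1 1 = 1 := by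
      rcases mul_eq_zero.mp hroot with h | h
      · have hμa : μ = a := sub_eq_zero.mp h
        have hνb : ν = a⁻¹ := by linear_combination hPtr - hμa
        rw [hμa, hνb] at hPQ
        have h1 : (a - a⁻¹) * (a₁ - en y 0 0) = 0 := by
          linear_combination hPQ - a⁻¹ * hQtr
        have h3 : a₁ = en y 0 0 := sub_eq_zero.mp ((mul_eq_zero.mp h1).resolve_left hsub)
        have h5 : d₁ = en y 1 1 := by linear_combination hQtr - h3
        rw [← h3, ← h5]
        exact hQd
      · have hμb : μ = a⁻¹ := sub_eq_zero.mp h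
        have hνa : ν = a := by linear_combination hPtr - hμb
        rw [hμb, hνa] at hPQ
        have h1 : (a - a⁻¹) * (d₁ - en y 0 0) = 0 := by
          linear_combination hPQ - a⁻¹ * hQtr
        have h3 : d₁ = en y 0 0 := sub_eq_zero.mp ((mul_eq_zero.mp h1).resolve_left hsub)
        have h5 : a₁ = en y 1 1 := by linear_combination hQtr - h3
        rw [← h3, ← h5, mul_comm]
        exact hQd
    have : en y 0 1 * en y 1 0 = 0 := by linear_combination hAD - hd
    rcases mul_eq_zero.mp this with h | h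
    · exact Or.inr (Or.inl h)
    · exact Or.inl h

/-- Lower triangular, non-diagonal... parametrised by `(a, c)`. -/
def lowSL (x : Fˣ × Fˣ) : SpecialLinearGroup (Fin 2) F :=
  ⟨!![(x.1 : F), 0; (x.2 : F), ((x.1⁻¹ : Fˣ) : F)], by
    rw [Matrix.det_fin_two_of]; simp⟩

theorem lowSL_injective : Function.Injective (lowSL (F := F)) := by
  intro x x' h
  have h00 := congrArg (fun M : SpecialLinearGroup (Fin 2) F => en M 0 0) h
  have h10 := congrArg (fun M : SpecialLinearGroup (Fin 2) F => en M 1 0) h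
  exact Prod.ext (Units.ext h00) (Units.ext h10)

theorem range_lowSL :
    Set.range (lowSL (F := F)) =
      {y : SpecialLinearGroup (Fin 2) F | en y 1 0 ≠ 0 ∧ en y 0 1 = 0} := by
  ext y
  constructor
  · rintro ⟨x, rfl⟩
    exact ⟨x.2.ne_zero, rfl⟩
  · rintro ⟨hc, hb⟩
    have hd := det_en y
    rw [hb, zero_mul, sub_zero] at hd
    have ha : en y 0 0 ≠ 0 := left_ne_zero_of_mul_eq_one hd
    refine ⟨(Units.mk0 (en y 0 0) ha, Units.mk0 (en y 1 0) hc), ?_⟩
    apply ext_en
    · rfl
    · exact hb.symm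
    · rfl
    · change (((Units.mk0 (en y 0 0) ha)⁻¹ : Fˣ) : F) = en y 1 1
      rw [Units.val_inv_eq_inv_val, Units.val_mk0]
      exact (eq_inv_of_mul_eq_one_right hd).symm

/-- Antidiagonal elements (characteristic two). -/
def antiSL (h2 : (2 : F) = 0) (c : Fˣ) : SpecialLinearGroup (Fin 2) F :=
  ⟨!![0, ((c⁻¹ : Fˣ) : F); (c : F), 0], by
    rw [Matrix.det_fin_two_of]
    simp
    linear_combination (-1 : F) * h2⟩

theorem antiSL_injective (h2 : (2 : F) = 0) : Function.Injective (antiSL h2) := by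
  intro x x' h
  have h10 := congrArg (fun M : SpecialLinearGroup (Fin 2) F => en M 1 0) h
  exact Units.ext h10

theorem range_antiSL (h2 : (2 : F) = 0) :
    Set.range (antiSL h2) =
      {y : SpecialLinearGroup (Fin 2) F | en y 0 0 = 0 ∧ en y 1 1 = 0} := by
  ext y
  constructor
  · rintro ⟨x, rfl⟩
    exact ⟨rfl, rfl⟩
  · rintro ⟨h00, h11⟩
    have hd := det_en y
    rw [h00, zero_mul, zero_sub] at hd
    have hbc : en y 1 0 * en y 0 1 = 1 := by linear_combination (-1 : F) * hd - h2
    have hc : en y 1 0 ≠ 0 := left_ne_zero_of_mul_eq_one hbc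
    refine ⟨Units.mk0 (en y 1 0) hc, ?_⟩
    apply ext_en
    · exact h00.symm
    · change (((Units.mk0 (en y 1 0) hc)⁻¹ : Fˣ) : F) = en y 0 1
      rw [Units.val_inv_eq_inv_val, Units.val_mk0]
      exact (eq_inv_of_mul_eq_one_right hbc).symm
    · rfl
    · exact h11.symm

theorem ncard_setB (h2 : (2 : F) = 0) :
    (setB F).ncard = 2 * Fintype.card F * (Fintype.card F - 1) := by
  classical
  have hfin : ∀ s : Set (SpecialLinearGroup (Fin 2) F), s.Finite := fun s => Set.toFinite s
  have hdecomp : setB F = ((borelSL F : Set (SpecialLinearGroup (Fin 2) F)) ∪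
      Set.range (lowSL (F := F))) ∪ Set.range (antiSL h2) := by
    ext y
    rw [Set.mem_union, Set.mem_union, range_lowSL, range_antiSL]
    change (en y 1 0 = 0 ∨ en y 0 1 = 0 ∨ (en y 0 0 = 0 ∧ en y 1 1 = 0)) ↔
      ((y ∈ borelSL F ∨ (en y 1 0 ≠ 0 ∧ en y 0 1 = 0)) ∨ (en y 0 0 = 0 ∧ en y 1 1 = 0))
    rw [mem_borelSL]
    change _ ↔ ((en y 1 0 = 0 ∨ _) ∨ _)
    by_cases hc : en y 1 0 = 0
    · simp [hc]
    · simp [hc]
  have hd1 : Disjoint (borelSL F : Set (SpecialLinearGroup (Fin 2) F))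
      (Set.range (lowSL (F := F))) := by
    rw [Set.disjoint_left]
    intro y hy hy'
    rw [range_lowSL] at hy'
    exact hy'.1 (mem_borelSL.mp hy)
  have hd2 : Disjoint ((borelSL F : Set (SpecialLinearGroup (Fin 2) F)) ∪
      Set.range (lowSL (F := F))) (Set.range (antiSL h2)) := by
    rw [Set.disjoint_left]
    intro y hy hy'
    rw [range_antiSL] at hy'
    have hd := det_en y
    rw [hy'.1, zero_mul, zero_sub] at hd
    rcases hy with hy | hy
    · rw [SetLike.mem_coe, mem_borelSL] at hy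
      have hy0 : en y 1 0 = 0 := hy
      rw [hy0, mul_zero, neg_zero] at hd
      exact zero_ne_one hd
    · rw [range_lowSL] at hy
      rw [hy.2, zero_mul, neg_zero] at hd
      exact zero_ne_one hd
  rw [hdecomp, Set.ncard_union_eq hd2 (hfin _) (hfin _), Set.ncard_union_eq hd1 (hfin _) (hfin _)]
  have h1 : (borelSL F : Set (SpecialLinearGroup (Fin 2) F)).ncard =
      Fintype.card F * (Fintype.card F - 1) := by
    rw [← Nat.card_coe_set_eq]
    exact Dk.Emb.card_borelSL_eq (F := F)
  have h3 : (Set.range (lowSL (F := F))).ncard = (Fintype.card F - 1) * (Fintype.card F - 1) := by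
    rw [← Nat.card_coe_set_eq, Nat.card_range_of_injective lowSL_injective,
      Nat.card_prod, Nat.card_eq_fintype_card, Fintype.card_units]
  have h5 : (Set.range (antiSL h2)).ncard = Fintype.card F - 1 := by
    rw [← Nat.card_coe_set_eq, Nat.card_range_of_injective (antiSL_injective h2),
      Nat.card_eq_fintype_card, Fintype.card_units]
  rw [h1, h3, h5]
  have hq : 1 ≤ Fintype.card F := Fintype.card_pos
  obtain ⟨r, hr⟩ : ∃ r, Fintype.card F = r + 1 := ⟨Fintype.card F - 1, by omega⟩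
  rw [hr, Nat.add_sub_cancel]
  ring

theorem card_sol_dSL {p : ℕ} (hp : p.Prime) (hF : Fintype.card F = 2 ^ p)
    (a : F) (ha : a ≠ 0) (hne : a ≠ a⁻¹) :
    Nat.card {y : SpecialLinearGroup (Fin 2) F // Group.IsSolvable
      ↥(Subgroup.closure ({dSL a ha, y} : Set (SpecialLinearGroup (Fin 2) F)))} =
      2 * Fintype.card F * (Fintype.card F - 1) := by
  have h2 : (2 : F) = 0 := two_eq_zero_of_card hp hF
  rw [← ncard_setB h2, ← Nat.card_coe_set_eq]
  apply Nat.card_congr
  apply Equiv.subtypeEquivRight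
  intro y
  exact ⟨fun h => mem_setB_of_isSolvable hp hF a ha hne y h,
    fun h => isSolvable_of_mem_setB h2 a ha hne y h⟩

/-- The solubilizer of a split semisimple element. -/
theorem card_sol_split {p : ℕ} (hp : p.Prime) (hF : Fintype.card F = 2 ^ p)
    (x : SpecialLinearGroup (Fin 2) F) (hx1 : x ≠ 1) (hord : orderOf x ∣ 2 ^ p - 1) :
    Nat.card {y : SpecialLinearGroup (Fin 2) F // Group.IsSolvable
      ↥(Subgroup.closure ({x, y} : Set (SpecialLinearGroup (Fin 2) F)))} =
      2 * 2 ^ p * (2 ^ p - 1) := by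
  have h2 : (2 : F) = 0 := two_eq_zero_of_card hp hF
  have heven := two_pow_even hp
  have hq2 : 2 ≤ 2 ^ p := by
    calc 2 = 2 ^ 1 := by norm_num
      _ ≤ 2 ^ p := Nat.pow_le_pow_right (by norm_num) hp.one_lt.le
  have htr : en x 0 0 + en x 1 1 ≠ 0 :=
    trace_ne_zero_of_odd_order h2 x hx1 (by omega) hord
  have hx4 := trace_sq_ne_four_of_ne_zero h2 x htr
  have hsplit : ∃ a : F, a * ((x : Matrix (Fin 2) (Fin 2) F).trace - a) = 1 := by
    by_contra hns
    push Not at hns
    have hc := card_centralizer_nonsplit x hx4 hns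
    have h1 := orderOf_dvd_card_centralizer x
    rw [hc, hF] at h1
    exact hx1 (eq_one_of_orderOf_dvd heven hq2 x hord h1)
  obtain ⟨a, ha⟩ := hsplit
  have ha0 : a ≠ 0 := left_ne_zero_of_mul_eq_one ha
  have hinv : a⁻¹ = (x : Matrix (Fin 2) (Fin 2) F).trace - a := eq_comm.mp (eq_inv_of_mul_eq_one_right ha)
  have htrd : (x : Matrix (Fin 2) (Fin 2) F).trace =
      ((dSL a ha0 : SpecialLinearGroup (Fin 2) F) : Matrix (Fin 2) (Fin 2) F).trace := by
    rw [trace_en (dSL a ha0), en_dSL_00, en_dSL_11, hinv]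
    ring
  have hne : a ≠ a⁻¹ := by
    rw [ne_inv_iff h2 a ha0, hinv]
    rw [trace_en]
    intro h
    apply htr
    linear_combination h
  obtain ⟨c, hc⟩ := isConj_iff.mp (isConj_of_trace_eq x (dSL a ha0) htrd hx4)
  have h := card_sol_congr (MulAut.conj c) x
  rw [MulAut.conj_apply, hc] at h
  rw [← h, card_sol_dSL hp hF a ha0 hne, hF]

end Cfsg.Agent.Lib.Helper13.Sol
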