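/-
helper13: the proper subgroups of `SL₂(F)`, `|F| = 3 ^ p` with `p` an odd prime, in the form needed
for solubilizers.
-/
import Mathlib
import Cfsg.Agent.Lib.Helper13.SolF
import Cfsg.Agent.Lib.Helper13.SL2OrderFour

set_option autoImplicit false

namespace Cfsg.Agent.Lib.Helper13.Sol

open Subgroup Matrix Cfsg.Agent.Lib.Helper13 Cfsg.Agent.Lib.Helper13.Dk

variable {F : Type*} [Field F] [Fintype F]

theorem three_eq_zero_of_card {p : ℕ} (hp : p.Prime) (hF : Fintype.card F = 3 ^ p) : (3 : F) = 0 := by
  have h : ((Fintype.card F : ℕ) : F) = 0 := Nat.cast_card_eq_zero F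
  rw [hF] at h
  push_cast at h
  exact pow_eq_zero_iff (hp.ne_zero) |>.mp h

theorem two_ne_zero_of_three (h3 : (3 : F) = 0) : (2 : F) ≠ 0 := by
  intro h2
  have : (1 : F) = 0 := by linear_combination h3 - h2
  exact one_ne_zero this

/-- `3 ^ p = 8 j + 3` for odd `p`. -/
theorem three_pow_odd {p : ℕ} (hodd : Odd p) : ∃ j, 3 ^ p = 8 * j + 3 := by
  obtain ⟨k, rfl⟩ := hodd
  induction k with
  | zero => exact ⟨0, by norm_num⟩
  | succ k ih =>
    obtain ⟨j, hj⟩ := ih
    refine ⟨9 * j + 3, ?_⟩
    have : 3 ^ (2 * (k + 1) + 1) = 9 * 3 ^ (2 * k + 1) := by ring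
    rw [this, hj]
    ring

/-- `-1` is not a square. -/
theorem neg_one_not_sq {p : ℕ} (hp : p.Prime) (hodd : Odd p) (hF : Fintype.card F = 3 ^ p) (μ : F) :
    μ ^ 2 ≠ -1 := by
  intro h
  have h3 := three_eq_zero_of_card hp hF
  have h2 := two_ne_zero_of_three h3
  have hμ : μ ≠ 0 := by
    rintro rfl
    rw [zero_pow (by norm_num)] at h
    have : (1 : F) = 0 := by linear_combination h
    exact one_ne_zero this
  obtain ⟨j, hj⟩ := three_pow_odd hodd
  have h1 := FiniteField.pow_card_sub_one_eq_one μ hμ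
  rw [hF, hj] at h1
  have e : 8 * j + 3 - 1 = 2 * (4 * j + 1) := by omega
  rw [e, pow_mul, h, Odd.neg_one_pow ⟨2 * j, by ring⟩] at h1
  apply h2
  linear_combination -h1

/-- Elements of a subfield with three elements satisfy `e ^ 3 = e`. -/
theorem cube_eq_self_of_card_three (K₀ : Subfield F) (h : Nat.card K₀ = 3) {e : F} (he : e ∈ K₀) :
    e ^ 3 = e := by
  classical
  letI : Fintype K₀ := Fintype.ofFinite K₀
  have h1 := FiniteField.pow_card (⟨e, he⟩ : K₀)
  rw [← Nat.card_eq_fintype_card, h] at h1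
  exact congrArg Subtype.val h1

theorem pow_eq_three_pow {c m p : ℕ} (hp : p.Prime) (h : c ^ m = 3 ^ p) : c = 3 ∨ c = 3 ^ p := by
  have hm : m ≠ 0 := by
    rintro rfl
    rw [pow_zero] at h
    have : 3 ≤ 3 ^ p := by
      calc 3 = 3 ^ 1 := by norm_num
        _ ≤ 3 ^ p := Nat.pow_le_pow_right (by norm_num) hp.one_lt.le
    omega
  have hc : c ∣ 3 ^ p := by
    rw [← h]
    exact dvd_pow_self c hm
  obtain ⟨a, -, rfl⟩ := (Nat.dvd_prime_pow Nat.prime_three).mp hc
  rw [← pow_mul] at h
  have ham : a * m = p := Nat.pow_right_injective (by norm_num : 2 ≤ 3) h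
  have ha : a ∣ p := ⟨m, ham.symm⟩
  rcases (Nat.dvd_prime hp).mp ha with rfl | rfl
  · left; norm_num
  · right; rfl

/-- An element of order three is unipotent (characteristic three). -/
theorem trace_of_pow_three (h3 : (3 : F) = 0) (g : SpecialLinearGroup (Fin 2) F) (hg : g ^ 3 = 1)
    (hns : ¬ Emb.sc (g : Matrix (Fin 2) (Fin 2) F)) :
    (g : Matrix (Fin 2) (Fin 2) F).trace ^ 2 = 4 := by
  have hch := cayley_hamilton_two (g : Matrix (Fin 2) (Fin 2) F) g.2
  rw [← Matrix.trace_fin_two] at hch
  set M := (g : Matrix (Fin 2) (Fin 2) F) with hM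
  set τ := M.trace with hτ
  have hM3 : M * M * M = 1 := by
    have := congrArg (fun x : SpecialLinearGroup (Fin 2) F => (x : Matrix (Fin 2) (Fin 2) F)) hg
    simp only [Matrix.SpecialLinearGroup.coe_pow, Matrix.SpecialLinearGroup.coe_one] at this
    rw [← this, pow_succ, pow_two]
  have h1 : (τ ^ 2 - 1) • M = (1 + τ) • (1 : Matrix (Fin 2) (Fin 2) F) := by
    have e : M * M * M = (τ ^ 2 - 1) • M - τ • (1 : Matrix (Fin 2) (Fin 2) F) := by
      rw [hch, sub_mul, Matrix.smul_mul, hch, one_mul]
      ext i j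
      simp only [Matrix.sub_apply, Matrix.smul_apply, smul_eq_mul, Matrix.one_apply]
      ring
    rw [hM3] at e
    ext i j
    have := congrFun (congrFun e i) j
    simp only [Matrix.sub_apply, Matrix.smul_apply, smul_eq_mul, Matrix.one_apply] at this ⊢
    linear_combination -this
  have h01 := congrFun (congrFun h1 0) 1
  have h10 := congrFun (congrFun h1 1) 0
  have h00 := congrFun (congrFun h1 0) 0
  have h11 := congrFun (congrFun h1 1) 1
  simp only [Matrix.smul_apply, smul_eq_mul, Matrix.one_apply_eq, Matrix.one_apply_ne, ne_eq,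
    zero_ne_one, one_ne_zero, not_false_eq_true, mul_zero, mul_one] at h01 h10 h00 h11
  by_contra hne
  have hτ2 : τ ^ 2 - 1 ≠ 0 := by
    intro h
    apply hne
    linear_combination h - h3
  apply hns
  refine ⟨(mul_eq_zero.mp h01).resolve_left hτ2, (mul_eq_zero.mp h10).resolve_left hτ2, ?_⟩
  have : (τ ^ 2 - 1) * (M 0 0 - M 1 1) = 0 := by linear_combination h00 - h11
  exact sub_eq_zero.mp ((mul_eq_zero.mp this).resolve_left hτ2)

/-- A subgroup of even order contains `-1`, hence has a centre of order at least two. -/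
theorem two_le_card_center_of_even (h2 : (2 : F) ≠ 0) (H : Subgroup (SpecialLinearGroup (Fin 2) F))
    (heven : 2 ∣ Nat.card H) : 2 ≤ Nat.card (center H) := by
  haveI : Fact (Nat.Prime 2) := ⟨Nat.prime_two⟩
  obtain ⟨t, ht⟩ := exists_prime_orderOf_dvd_card' 2 heven
  have ht2 : t * t = 1 := by
    have := pow_orderOf_eq_one t
    rwa [ht, sq] at this
  have ht1 : t ≠ 1 := by
    intro h
    rw [h, orderOf_one] at ht
    omega
  have ht2' : (t : SpecialLinearGroup (Fin 2) F) * (t : SpecialLinearGroup (Fin 2) F) = 1 :=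
    congrArg Subtype.val ht2
  have htz : (t : SpecialLinearGroup (Fin 2) F) = zSL F := by
    rcases sq_eq_one_cases h2 _ ht2' with h | h
    · exact absurd (Subtype.ext h) ht1
    · exact h
  have htc : t ∈ center H := by
    rw [Subgroup.mem_center_iff]
    intro g
    apply Subtype.ext
    have := Subgroup.mem_center_iff.mp (zSL_mem_center (F := F)) (g : SpecialLinearGroup (Fin 2) F)
    change (g : SpecialLinearGroup (Fin 2) F) * (t : SpecialLinearGroup (Fin 2) F) =
      (t : SpecialLinearGroup (Fin 2) F) * (g : SpecialLinearGroup (Fin 2) F)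
    rw [htz]
    exact this
  have hnt : Nontrivial (center H) := ⟨⟨⟨t, htc⟩, 1, fun h => ht1 (congrArg Subtype.val h)⟩⟩
  exact Finite.one_lt_card

/-- The centre of a non-abelian subgroup has order at most two. -/
theorem card_center_le_two (H : Subgroup (SpecialLinearGroup (Fin 2) F))
    (hna : ∃ x y : H, x * y ≠ y * x) : Nat.card (center H) ≤ 2 := by
  classical
  have hinj : Function.Injective (fun z : center H => ((subEmb H).m (z : H) = 1)) := by
    intro z z' h
    have hz := ((subEmb H).mem_center_iff_sc hna z).mp z.2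
    have hz' := ((subEmb H).mem_center_iff_sc hna z').mp z'.2
    have e1 := (subEmb H).m_eq_of_sc hz
    have e2 := (subEmb H).m_eq_of_sc hz'
    apply Subtype.ext
    apply (subEmb H).m_injective
    simp only [eq_iff_iff] at h
    rcases e1 with e1 | e1 <;> rcases e2 with e2 | e2
    · rw [e1, e2]
    · rw [e1]; exact (h.mp e1).symm
    · rw [e2]; exact h.mpr e2
    · rw [e1, e2]
  have := Nat.card_le_card_of_injective _ hinj
  simpa using this

/-- The proper subgroups of `SL₂(F)`, `|F| = 3 ^ p`, `p` an odd prime. -/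
theorem proper_cases3 {p : ℕ} (hp : p.Prime) (hodd : Odd p) (hF : Fintype.card F = 3 ^ p)
    (H : Subgroup (SpecialLinearGroup (Fin 2) F)) (hH : H ≠ ⊤) :
    (∀ x y : H, x * y = y * x) ∨
    (∃ Θ : Tw F, ∀ g : H, ((subEmb H).app Θ).m g 1 0 = 0) ∨
    (subEmb H).DihType ∨
    (Nat.card H = 24 ∧ ∀ g : H, (subEmb H).tr g ^ 3 = (subEmb H).tr g) := by
  classical
  have h3 : (3 : F) = 0 := three_eq_zero_of_card hp hF
  have h2 : (2 : F) ≠ 0 := two_ne_zero_of_three h3
  haveI : Fact (Nat.Prime 3) := ⟨Nat.prime_three⟩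
  haveI : CharP F 3 := by
    have h : ((3 : ℕ) : F) = 0 := by exact_mod_cast h3
    exact (CharP.charP_iff_prime_eq_zero Nat.prime_three).mpr h
  obtain ⟨j, hj⟩ := three_pow_odd hodd
  have hq : Fintype.card F = 8 * j + 3 := by rw [hF, hj]
  have hcardSL : Nat.card (SpecialLinearGroup (Fin 2) F) = (8 * j + 3) * (8 * (4 * j + 1) * (2 * j + 1)) := by
    rw [card_SL2, hq]
    have : (8 * j + 3) ^ 2 - 1 = 8 * (4 * j + 1) * (2 * j + 1) := by
      apply Nat.sub_eq_of_eq_add
      ring
    rw [this]
  have hdvd : Nat.card H ∣ Nat.card (SpecialLinearGroup (Fin 2) F) := Subgroup.card_subgroup_dvd_card H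
  -- no element of order three under `hss`
  have hno3 : (∀ y : H, ¬ Emb.sc ((subEmb H).m y) → (subEmb H).tr y ^ 2 ≠ 4) → ¬ 3 ∣ Nat.card H := by
    intro hss hd
    obtain ⟨t, ht⟩ := exists_prime_orderOf_dvd_card' 3 hd
    have ht3 : t ^ 3 = 1 := by
      have := pow_orderOf_eq_one t
      rwa [ht] at this
    have ht1 : t ≠ 1 := by
      intro h
      rw [h, orderOf_one] at ht
      omega
    have hns : ¬ Emb.sc ((subEmb H).m t) := by
      intro hsc
      rcases (subEmb H).m_eq_of_sc hsc with h | h
      · apply ht1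
        apply (subEmb H).m_injective
        rw [h, (subEmb H).m_one]
      · have h' := (subEmb H).m_pow t 3
        rw [ht3, (subEmb H).m_one, h] at h'
        have h00 := congrFun (congrFun h' 0) 0
        have : ((-1 : Matrix (Fin 2) (Fin 2) F) ^ 3) = -1 := by
          rw [Odd.neg_one_pow ⟨1, by norm_num⟩]
        rw [this] at h00
        simp at h00
        apply h2
        linear_combination h00
    have ht3' : (t : SpecialLinearGroup (Fin 2) F) ^ 3 = 1 := congrArg Subtype.val ht3
    exact hss t hns (trace_of_pow_three h3 _ ht3' hns)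
  rcases (subEmb H).dickson_refined 3 with hss | hB | hD | ⟨h60, -, -⟩ | hsub
  · by_cases hna : ∃ x y : H, x * y ≠ y * x
    · rcases (subEmb H).caseI hna hss with hD | h | h | ⟨h, -⟩
      · exact Or.inr (Or.inr (Or.inl hD))
      · exact absurd (by rw [h.1]; exact Dvd.dvd.mul_left (by norm_num) _) (hno3 hss)
      · exact absurd (by rw [h.1]; exact Dvd.dvd.mul_left (by norm_num) _) (hno3 hss)
      · exact absurd (by rw [h.1]; exact Dvd.dvd.mul_left (by norm_num) _) (hno3 hss)
    · left
      push Not at hna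
      exact hna
  · exact Or.inr (Or.inl hB)
  · exact Or.inr (Or.inr (Or.inl hD))
  · -- order divisible by five: impossible
    exfalso
    have h5 : 5 ∣ Nat.card H := by rw [h60.1]; exact Dvd.dvd.mul_left (by norm_num) _
    have h5' : 5 ∣ 3 ^ p * (9 ^ p - 1) := by
      have := h5.trans hdvd
      rw [card_SL2, hF] at this
      have e : (3 ^ p) ^ 2 = 9 ^ p := by
        rw [← pow_mul, mul_comm, pow_mul]; norm_num
      rwa [e] at this
    obtain ⟨k, rfl⟩ := hodd
    have e9 : 9 ^ (2 * k + 1) % 5 = 4 := by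
      have : 9 ^ (2 * k + 1) = 9 * 81 ^ k := by
        rw [pow_succ, pow_mul]; norm_num; ring
      rw [this, Nat.mul_mod, Nat.pow_mod]
      norm_num
    have e3 : ¬ 5 ∣ 3 ^ (2 * k + 1) := by
      intro h
      have := (Nat.Prime.dvd_of_dvd_pow (by norm_num : Nat.Prime 5) h)
      omega
    rcases (Nat.Prime.dvd_mul (by norm_num : Nat.Prime 5)).mp h5' with h | h
    · exact e3 h
    · have hpos : 1 ≤ 9 ^ (2 * k + 1) := Nat.one_le_pow _ _ (by norm_num)
      obtain ⟨t, ht⟩ := h
      generalize 9 ^ (2 * k + 1) = N at e9 hpos ht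
      omega
  · obtain ⟨Θ, K₀, k, hscal, hcard, hna, K, hKf, hKt, m, hm, hcK, hiso⟩ := hsub
    rw [hF] at hm
    have hk0 : Nat.card K₀ = 3 ∨ Nat.card K₀ = 3 ^ p := by
      rw [← hcK]
      exact pow_eq_three_pow hp hm
    have hZle := card_center_le_two H hna
    have hZpos : 0 < Nat.card (center H) := Nat.card_pos
    rcases hk0 with hk0 | hk0
    · -- the subfield has three elements
      right; right; right
      have hkk : k = 1 ∨ k = 2 := by
        rcases hiso with ⟨h, -⟩ | ⟨h, -⟩
        · left; omega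
        · right; omega
      have heven : 2 ∣ Nat.card H := by
        rw [hcard, hk0]
        rcases hkk with rfl | rfl
        · exact Dvd.dvd.mul_left (by norm_num) _
        · exact Dvd.dvd.mul_left (by norm_num) _
      have hZ : Nat.card (center H) = 2 :=
        le_antisymm hZle (two_le_card_center_of_even h2 H heven)
      have h24 : Nat.card H = 24 := by
        rcases hkk with rfl | rfl
        · rw [hcard, hk0, hZ]
        · exfalso
          have h48 : Nat.card H = 48 := by rw [hcard, hk0, hZ]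
          rw [h48, hcardSL] at hdvd
          have h16 : 16 ∣ (8 * j + 3) * (8 * (4 * j + 1) * (2 * j + 1)) :=
            (by norm_num : 16 ∣ 48).trans hdvd
          have hc1 : Nat.Coprime 16 (8 * j + 3) := by
            have : Nat.Coprime (2 ^ 4) (8 * j + 3) :=
              Nat.Coprime.pow_left 4 ((Nat.Prime.coprime_iff_not_dvd Nat.prime_two).mpr (by omega))
            simpa using this
          have h16' := hc1.dvd_of_dvd_mul_left h16
          have h2' : 2 ∣ (4 * j + 1) * (2 * j + 1) := by
            have : 8 * (4 * j + 1) * (2 * j + 1) = 8 * ((4 * j + 1) * (2 * j + 1)) := by ring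
            rw [this] at h16'
            have : 8 * 2 ∣ 8 * ((4 * j + 1) * (2 * j + 1)) := by simpa using h16'
            exact Nat.dvd_of_mul_dvd_mul_left (by norm_num) this
          rcases (Nat.Prime.dvd_mul Nat.prime_two).mp h2' with h | h <;> omega
      refine ⟨h24, ?_⟩
      intro g
      obtain ⟨μ, hμ, hmem⟩ := hscal g
      set S' := (subEmb H).app Θ with hS'
      have hcube : ∀ e : F, e ∈ K₀ → e ^ 3 = e := fun e he => cube_eq_self_of_card_three K₀ hk0 he
      have hdet := S'.m_det' g
      have hμ2 : μ ^ 2 ∈ K₀ := by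
        have h1 : μ ^ 2 = (μ * S'.m g 0 0) * (μ * S'.m g 1 1) - (μ * S'.m g 0 1) * (μ * S'.m g 1 0) := by
          linear_combination (-(μ ^ 2)) * hdet
        rw [h1]
        exact K₀.sub_mem (K₀.mul_mem (hmem 0 0) (hmem 1 1)) (K₀.mul_mem (hmem 0 1) (hmem 1 0))
      have hμpm : μ = 1 ∨ μ = -1 := by
        have h1 := hcube _ hμ2
        have hμ2ne : μ ^ 2 ≠ 0 := pow_ne_zero 2 hμ
        have h5 : (μ ^ 2 - 1) * (μ ^ 2 + 1) = 0 := by
          have : μ ^ 2 * ((μ ^ 2 - 1) * (μ ^ 2 + 1)) = 0 := by linear_combination h1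
          exact (mul_eq_zero.mp this).resolve_left hμ2ne
        rcases mul_eq_zero.mp h5 with h | h
        · have : (μ - 1) * (μ + 1) = 0 := by linear_combination h
          rcases mul_eq_zero.mp this with h | h
          · exact Or.inl (sub_eq_zero.mp h)
          · exact Or.inr (eq_neg_of_add_eq_zero_left h)
        · exact absurd (eq_neg_of_add_eq_zero_left h) (neg_one_not_sq hp hodd hF μ)
      have hent : ∀ i j', S'.m g i j' ∈ K₀ := by
        intro i j'
        have := hmem i j'
        rcases hμpm with h | h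
        · rwa [h, one_mul] at this
        · rw [h] at this
          have h' := K₀.neg_mem this
          rwa [neg_mul, neg_neg, one_mul] at h'
      have htr : (subEmb H).tr g ∈ K₀ := by
        rw [← (subEmb H).app_tr Θ g, S'.tr_eq]
        exact K₀.add_mem (hent 0 0) (hent 1 1)
      exact hcube _ htr
    · -- the subfield is everything
      exfalso
      apply hH
      apply eq_top_of_card_ge
      rw [hcardSL, hcard, hk0, hj]
      rw [hk0, hj] at hiso
      rcases hiso with ⟨h, -⟩ | ⟨h, -⟩
      · have hk : k = 4 * j + 1 := by omega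
        have heven : 2 ∣ Nat.card H := by
          rw [hcard, hk0, hj]
          have : (8 * j + 3 + 1) = 2 * (4 * j + 2) := by ring
          rw [this]
          exact Dvd.dvd.mul_left (Dvd.dvd.mul_left (Dvd.intro _ rfl) _) _
        have hZ2 := two_le_card_center_of_even h2 H heven
        rw [hk]
        calc (8 * j + 3) * (8 * (4 * j + 1) * (2 * j + 1))
            = 2 * ((8 * j + 3) * (4 * j + 1) * (8 * j + 3 + 1)) := by ring
          _ ≤ Nat.card (center H) * ((8 * j + 3) * (4 * j + 1) * (8 * j + 3 + 1)) :=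
              Nat.mul_le_mul_right _ hZ2
      · have hk : k = 8 * j + 2 := by omega
        rw [hk]
        calc (8 * j + 3) * (8 * (4 * j + 1) * (2 * j + 1))
            = 1 * ((8 * j + 3) * (8 * j + 2) * (8 * j + 3 + 1)) := by ring
          _ ≤ Nat.card (center H) * ((8 * j + 3) * (8 * j + 2) * (8 * j + 3 + 1)) :=
              Nat.mul_le_mul_right _ hZpos

end Cfsg.Agent.Lib.Helper13.Sol
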