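/-
helper13: solubilizers in `SL₂(F)` versus `PSL₂(F)`; twists; subgroups defined over the field with
three elements.
-/
import Mathlib
import Cfsg.Agent.Lib.Helper13.Sol3A
import Cfsg.Agent.Lib.Helper13.PSL2KleinCount
import Cfsg.Agent.Lib.Helper13.PSL2
import Cfsg.Agent.S0144

set_option autoImplicit false

namespace Cfsg.Agent.Lib.Helper13.Sol

open Subgroup Matrix Cfsg.Agent.Lib.Helper13 Cfsg.Agent.Lib.Helper13.Dk
  Cfsg.Agent.Lib.Helper29.Dickson

section general

variable {G : Type*} [Group G]

/-- Solvability of a two-generator subgroup can be tested modulo the centre. -/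
theorem isSolvable_closure_mk_center_iff (x y : G) :
    Group.IsSolvable ↥(Subgroup.closure ({(QuotientGroup.mk x : G ⧸ Subgroup.center G),
      QuotientGroup.mk y} : Set (G ⧸ Subgroup.center G))) ↔
    Group.IsSolvable ↥(Subgroup.closure ({x, y} : Set G)) := by
  obtain ⟨H, hH⟩ : ∃ H, H = Subgroup.closure ({x, y} : Set G) := ⟨_, rfl⟩
  have hmap : Subgroup.closure ({(QuotientGroup.mk x : G ⧸ Subgroup.center G),
      QuotientGroup.mk y} : Set (G ⧸ Subgroup.center G)) =
      H.map (QuotientGroup.mk' (Subgroup.center G)) := by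
    rw [hH, MonoidHom.map_closure, Set.image_pair]
    rfl
  rw [hmap, ← hH]
  constructor
  · intro hs
    have hK : Group.IsSolvable ((QuotientGroup.mk' (Subgroup.center G)).subgroupMap H).ker := by
      apply Group.isSolvable_of_comm
      intro a b
      have ha : ((a : H) : G) ∈ Subgroup.center G := by
        have h1 := a.2
        rw [MonoidHom.mem_ker] at h1
        have h' := congrArg Subtype.val h1
        exact (QuotientGroup.eq_one_iff _).mp h'
      apply Subtype.ext
      apply Subtype.ext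
      exact (Subgroup.mem_center_iff.mp ha ((b : H) : G)).symm
    exact Group.isSolvable_of_ker_le_range
      (((QuotientGroup.mk' (Subgroup.center G)).subgroupMap H).ker.subtype)
      ((QuotientGroup.mk' (Subgroup.center G)).subgroupMap H) (by rw [Subgroup.range_subtype])
  · intro hs
    exact Group.isSolvable_of_surjective
      (MonoidHom.subgroupMap_surjective (QuotientGroup.mk' (Subgroup.center G)) H)

end general

section sl2

variable {F : Type*} [Field F]

/-- Multiplying a generator by `-1` does not change solvability. -/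
theorem isSolvable_closure_zSL_mul_left_iff (X Y : SpecialLinearGroup (Fin 2) F) :
    Group.IsSolvable ↥(Subgroup.closure ({zSL F * X, Y} : Set (SpecialLinearGroup (Fin 2) F))) ↔
    Group.IsSolvable ↥(Subgroup.closure ({X, Y} : Set (SpecialLinearGroup (Fin 2) F))) := by
  rw [← isSolvable_closure_mk_center_iff, ← isSolvable_closure_mk_center_iff X Y]
  have h : (QuotientGroup.mk (zSL F * X) :
      SpecialLinearGroup (Fin 2) F ⧸ Subgroup.center (SpecialLinearGroup (Fin 2) F)) =
      QuotientGroup.mk X := by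
    rw [QuotientGroup.mk_mul]
    have := mk_zSL (F := F)
    rw [show (QuotientGroup.mk (zSL F) :
      SpecialLinearGroup (Fin 2) F ⧸ Subgroup.center (SpecialLinearGroup (Fin 2) F)) = 1 from this,
      one_mul]
  rw [h]

theorem isSolvable_closure_zSL_mul_right_iff (X Y : SpecialLinearGroup (Fin 2) F) :
    Group.IsSolvable ↥(Subgroup.closure ({X, zSL F * Y} : Set (SpecialLinearGroup (Fin 2) F))) ↔
    Group.IsSolvable ↥(Subgroup.closure ({X, Y} : Set (SpecialLinearGroup (Fin 2) F))) := by
  rw [Set.pair_comm, isSolvable_closure_zSL_mul_left_iff, Set.pair_comm]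

theorem card_sol_zSL_mul (X : SpecialLinearGroup (Fin 2) F) :
    Nat.card {Y : SpecialLinearGroup (Fin 2) F // Group.IsSolvable
      ↥(Subgroup.closure ({zSL F * X, Y} : Set (SpecialLinearGroup (Fin 2) F)))} =
    Nat.card {Y : SpecialLinearGroup (Fin 2) F // Group.IsSolvable
      ↥(Subgroup.closure ({X, Y} : Set (SpecialLinearGroup (Fin 2) F)))} := by
  apply Nat.card_congr
  apply Equiv.subtypeEquivRight
  intro Y
  exact isSolvable_closure_zSL_mul_left_iff X Y

/-- The solubilizer in `SL₂` is twice as large as the one in `PSL₂`. -/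
theorem card_sol_mk (h2 : (2 : F) ≠ 0) (X : SpecialLinearGroup (Fin 2) F) :
    Nat.card {Y : SpecialLinearGroup (Fin 2) F // Group.IsSolvable
      ↥(Subgroup.closure ({X, Y} : Set (SpecialLinearGroup (Fin 2) F)))} =
    2 * Nat.card {y : ProjectiveSpecialLinearGroup (Fin 2) F // Group.IsSolvable
      ↥(Subgroup.closure ({(QuotientGroup.mk X : ProjectiveSpecialLinearGroup (Fin 2) F), y} :
        Set (ProjectiveSpecialLinearGroup (Fin 2) F)))} := by
  have h := QuotientGroup.card_preimage_mk (Subgroup.center (SpecialLinearGroup (Fin 2) F))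
    {y : SpecialLinearGroup (Fin 2) F ⧸ Subgroup.center (SpecialLinearGroup (Fin 2) F) |
      Group.IsSolvable ↥(Subgroup.closure ({(QuotientGroup.mk X :
        SpecialLinearGroup (Fin 2) F ⧸ Subgroup.center (SpecialLinearGroup (Fin 2) F)), y} :
        Set (SpecialLinearGroup (Fin 2) F ⧸ Subgroup.center (SpecialLinearGroup (Fin 2) F))))}
  rw [card_center_SL2 h2] at h
  refine Eq.trans ?_ h
  apply Nat.card_congr
  apply Equiv.subtypeEquivRight
  intro Y
  exact (isSolvable_closure_mk_center_iff X Y).symm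

variable [Fintype F]

/-- A twist as an automorphism. -/
noncomputable def twEquiv (Θ : Tw F) :
    SpecialLinearGroup (Fin 2) F ≃* SpecialLinearGroup (Fin 2) F :=
  MulEquiv.ofBijective Θ.hom Θ.bijective

theorem twEquiv_apply (Θ : Tw F) (A : SpecialLinearGroup (Fin 2) F) : twEquiv Θ A = Θ.hom A := rfl

theorem card_sol_tw (Θ : Tw F) (X : SpecialLinearGroup (Fin 2) F) :
    Nat.card {Y : SpecialLinearGroup (Fin 2) F // Group.IsSolvable
      ↥(Subgroup.closure ({Θ.hom X, Y} : Set (SpecialLinearGroup (Fin 2) F)))} =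
    Nat.card {Y : SpecialLinearGroup (Fin 2) F // Group.IsSolvable
      ↥(Subgroup.closure ({X, Y} : Set (SpecialLinearGroup (Fin 2) F)))} :=
  card_sol_congr (twEquiv Θ) X

theorem isSolvable_closure_tw_iff (Θ : Tw F) (X Y : SpecialLinearGroup (Fin 2) F) :
    Group.IsSolvable ↥(Subgroup.closure ({Θ.hom X, Θ.hom Y} : Set (SpecialLinearGroup (Fin 2) F))) ↔
    Group.IsSolvable ↥(Subgroup.closure ({X, Y} : Set (SpecialLinearGroup (Fin 2) F))) :=
  isSolvable_closure_pair_iff (twEquiv Θ) X Y

omit [Fintype F] in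
/-- A unipotent element can be moved to the standard one by a twist. -/
theorem exists_tw_tSL_one (U : SpecialLinearGroup (Fin 2) F)
    (htr : (U : Matrix (Fin 2) (Fin 2) F).trace = 2) (hne : U ≠ 1) :
    ∃ Θ : Tw F, Θ.hom U = tSL 1 := by
  have hch := cayley_hamilton_two (U : Matrix (Fin 2) (Fin 2) F) U.2
  rw [← Matrix.trace_fin_two, htr] at hch
  have hsq : ((U : Matrix (Fin 2) (Fin 2) F) - 1) ^ 2 = 0 := by
    rw [pow_two, sub_mul, mul_sub, mul_sub, mul_one, one_mul, mul_one, hch, two_smul]
    abel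
  obtain ⟨B, t, ht, hB⟩ := exists_conj_tSL U hsq hne
  refine ⟨(Tw.tw t ht).comp (Tw.conj B), ?_⟩
  change twist t ht (B⁻¹ * U * B⁻¹⁻¹) = tSL 1
  rw [inv_inv, mul_assoc, hB, ← mul_assoc, inv_mul_cancel, one_mul, twist_tSL]

end sl2

section three

variable {F : Type*} [Field F]

theorem cube_eq_self_cases {e : F} (h : e ^ 3 = e) : e = 0 ∨ e = 1 ∨ e = -1 := by
  have h1 : e * ((e - 1) * (e + 1)) = 0 := by linear_combination h
  rcases mul_eq_zero.mp h1 with h | h
  · exact Or.inl h
  · rcases mul_eq_zero.mp h with h | h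
    · exact Or.inr (Or.inl (sub_eq_zero.mp h))
    · exact Or.inr (Or.inr (eq_neg_of_add_eq_zero_left h))

theorem isSolvable_SL2_ZMod3 : Group.IsSolvable (SpecialLinearGroup (Fin 2) (ZMod 3)) := by
  have : Fact (Nat.Prime 3) := ⟨Nat.prime_three⟩
  have hcard : Nat.card (SpecialLinearGroup (Fin 2) (ZMod 3)) = 2 ^ 3 * 3 ^ 1 := by
    rw [card_SL2, ZMod.card]
    norm_num
  exact Cfsg.Agent.S0144.result 2 3 3 1 Nat.prime_two Nat.prime_three hcard

variable [CharP F 3]

/-- An element of `SL₂(F)` with entries in the prime field comes from `SL₂(𝔽₃)`. -/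
theorem mem_range_map_of_cube (A : SpecialLinearGroup (Fin 2) F)
    (h : ∀ i j, (A : Matrix (Fin 2) (Fin 2) F) i j ^ 3 = (A : Matrix (Fin 2) (Fin 2) F) i j) :
    A ∈ (Matrix.SpecialLinearGroup.map (n := Fin 2) (ZMod.castHom (dvd_refl 3) F)).range := by
  have : Fact (Nat.Prime 3) := ⟨Nat.prime_three⟩
  have hlift : ∀ i j, ∃ e : ZMod 3, ZMod.castHom (dvd_refl 3) F e =
      (A : Matrix (Fin 2) (Fin 2) F) i j := by
    intro i j
    rcases cube_eq_self_cases (h i j) with h0 | h0 | h0
    · exact ⟨0, by rw [map_zero, h0]⟩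
    · exact ⟨1, by rw [map_one, h0]⟩
    · exact ⟨-1, by rw [map_neg, map_one, h0]⟩
  choose M hM using hlift
  have hmap : (ZMod.castHom (dvd_refl 3) F).mapMatrix (Matrix.of M) =
      (A : Matrix (Fin 2) (Fin 2) F) := by
    ext i j
    rw [RingHom.mapMatrix_apply, Matrix.map_apply, Matrix.of_apply, hM]
  have hdet : (Matrix.of M).det = 1 := by
    apply (ZMod.castHom (dvd_refl 3) F).injective
    rw [RingHom.map_det, hmap, map_one]
    exact A.2
  refine ⟨⟨Matrix.of M, hdet⟩, ?_⟩
  apply Subtype.ext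
  exact hmap

/-- Two elements with entries in the prime field generate a solvable group. -/
theorem isSolvable_closure_of_cube (A B : SpecialLinearGroup (Fin 2) F)
    (hA : ∀ i j, (A : Matrix (Fin 2) (Fin 2) F) i j ^ 3 = (A : Matrix (Fin 2) (Fin 2) F) i j)
    (hB : ∀ i j, (B : Matrix (Fin 2) (Fin 2) F) i j ^ 3 = (B : Matrix (Fin 2) (Fin 2) F) i j) :
    Group.IsSolvable ↥(Subgroup.closure ({A, B} : Set (SpecialLinearGroup (Fin 2) F))) := by
  have h3 := isSolvable_SL2_ZMod3
  have hR : Group.IsSolvable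
      ↥(Matrix.SpecialLinearGroup.map (n := Fin 2) (ZMod.castHom (dvd_refl 3) F)).range :=
    Group.isSolvable_of_surjective
      (MonoidHom.rangeRestrict_surjective
        (Matrix.SpecialLinearGroup.map (n := Fin 2) (ZMod.castHom (dvd_refl 3) F)))
  exact isSolvable_of_le (closure_pair_le (mem_range_map_of_cube A hA) (mem_range_map_of_cube B hB))

end three

end Cfsg.Agent.Lib.Helper13.Sol
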