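/-
helper13: the solubilizer of a unipotent element of `SL₂(F)`, `|F| = 3 ^ p`.
-/
import Mathlib
import Cfsg.Agent.Lib.Helper13.Sol3B

set_option autoImplicit false

namespace Cfsg.Agent.Lib.Helper13.Sol

open Subgroup Matrix Cfsg.Agent.Lib.Helper13 Cfsg.Agent.Lib.Helper13.Dk

variable {F : Type*} [Field F]

/-- The solubilizer of the standard unipotent element (characteristic three). -/
def setU (F : Type*) [Field F] : Set (SpecialLinearGroup (Fin 2) F) :=
  {y | en y 1 0 = 0 ∨
    (en y 1 0 ^ 2 = 1 ∧ (en y 0 0 + en y 1 1) ^ 3 = en y 0 0 + en y 1 1)}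

theorem tSL_inv' (s : F) : (tSL s)⁻¹ = tSL (-s) :=
  inv_eq_of_mul_eq_one_right (by rw [tSL_mul, add_neg_cancel, tSL_zero])

theorem three_pow_ge_four {p : ℕ} (hp : p.Prime) : 4 ≤ 3 ^ p := by
  calc 4 ≤ 3 ^ 2 := by norm_num
    _ ≤ 3 ^ p := Nat.pow_le_pow_right (by norm_num) hp.two_le

theorem isSolvable_of_mem_setU [CharP F 3] (y : SpecialLinearGroup (Fin 2) F) (hy : y ∈ setU F) :
    Group.IsSolvable ↥(Subgroup.closure ({tSL 1, y} : Set (SpecialLinearGroup (Fin 2) F))) := by
  rcases hy with h | ⟨hc, ht⟩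
  · have hB := isSolvable_borelSL (F := F)
    have h1 : tSL (1 : F) ∈ borelSL F := mem_borelSL.mpr rfl
    have h2' : y ∈ borelSL F := mem_borelSL.mpr h
    exact isSolvable_of_le (closure_pair_le h1 h2')
  · obtain ⟨s, hs⟩ : ∃ s : F, s = -(en y 0 0 * en y 1 0) := ⟨_, rfl⟩
    rw [← isSolvable_closure_pair_iff (MulAut.conj (tSL s)) (tSL 1) y]
    have hu : MulAut.conj (tSL s) (tSL (1 : F)) = tSL 1 := by
      rw [MulAut.conj_apply, tSL_inv', tSL_mul, tSL_mul]
      congr 1
      ring
    rw [hu]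
    obtain ⟨y', hy'⟩ : ∃ y', y' = MulAut.conj (tSL s) y := ⟨_, rfl⟩
    rw [← hy']
    have e00 : en y' 0 0 = 0 := by
      rw [hy', MulAut.conj_apply, tSL_inv', mul_en, mul_en, mul_en]
      simp only [en_tSL_00, en_tSL_01, en_tSL_10, en_tSL_11]
      rw [hs]
      linear_combination (-en y 0 0) * hc
    have e10 : en y' 1 0 = en y 1 0 := by
      rw [hy', MulAut.conj_apply, tSL_inv', mul_en, mul_en, mul_en]
      simp only [en_tSL_00, en_tSL_01, en_tSL_10, en_tSL_11]
      ring
    have e11 : en y' 1 1 = en y 0 0 + en y 1 1 := by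
      rw [hy', MulAut.conj_apply, tSL_inv', mul_en, mul_en, mul_en]
      simp only [en_tSL_00, en_tSL_01, en_tSL_10, en_tSL_11]
      rw [hs]
      linear_combination (en y 0 0) * hc
    have e01 : en y' 0 1 = -en y 1 0 := by
      have hd := det_en y'
      rw [e00, e10, zero_mul, zero_sub] at hd
      linear_combination (-en y 1 0) * hd - en y' 0 1 * hc
    apply isSolvable_closure_of_cube
    · intro i j
      fin_cases i <;> fin_cases j
      · change en (tSL (1 : F)) 0 0 ^ 3 = en (tSL (1 : F)) 0 0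
        rw [en_tSL_00]; ring
      · change en (tSL (1 : F)) 0 1 ^ 3 = en (tSL (1 : F)) 0 1
        rw [en_tSL_01]; ring
      · change en (tSL (1 : F)) 1 0 ^ 3 = en (tSL (1 : F)) 1 0
        rw [en_tSL_10]; ring
      · change en (tSL (1 : F)) 1 1 ^ 3 = en (tSL (1 : F)) 1 1
        rw [en_tSL_11]; ring
    · intro i j
      fin_cases i <;> fin_cases j
      · change en y' 0 0 ^ 3 = en y' 0 0
        rw [e00]; ring
      · change en y' 0 1 ^ 3 = en y' 0 1
        rw [e01]
        linear_combination (-en y 1 0) * hc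
      · change en y' 1 0 ^ 3 = en y' 1 0
        rw [e10]
        linear_combination (en y 1 0) * hc
      · change en y' 1 1 ^ 3 = en y' 1 1
        rw [e11]
        exact ht

theorem entry_of_upper_unip' (P : SpecialLinearGroup (Fin 2) F)
    (h10 : en P 1 0 = 0) (htr : en P 0 0 + en P 1 1 = 2) : en P 0 0 = 1 ∧ en P 1 1 = 1 := by
  have hd := det_en P
  rw [h10, mul_zero, sub_zero] at hd
  have h3 : (en P 0 0 - 1) ^ 2 = 0 := by linear_combination (-1 : F) * hd + en P 0 0 * htr
  have h00 : en P 0 0 = 1 := sub_eq_zero.mp (pow_eq_zero_iff (two_ne_zero)|>.mp h3)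
  refine ⟨h00, ?_⟩
  linear_combination htr - h00

variable [Fintype F]

theorem mem_setU_of_isSolvable {p : ℕ} (hp : p.Prime) (hodd : Odd p) (hF : Fintype.card F = 3 ^ p)
    (y : SpecialLinearGroup (Fin 2) F)
    (hs : Group.IsSolvable ↥(Subgroup.closure ({tSL 1, y} : Set (SpecialLinearGroup (Fin 2) F)))) :
    y ∈ setU F := by
  have h3 : (3 : F) = 0 := three_eq_zero_of_card hp hF
  have h2 : (2 : F) ≠ 0 := two_ne_zero_of_three h3
  have h4 : 4 ≤ Fintype.card F := by rw [hF]; exact three_pow_ge_four hp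
  obtain ⟨H, hHdef⟩ : ∃ H, H = Subgroup.closure ({tSL 1, y} : Set (SpecialLinearGroup (Fin 2) F)) :=
    ⟨_, rfl⟩
  rw [← hHdef] at hs
  have hH := ne_top_of_isSolvable h4 H hs
  have hu : tSL (1 : F) ∈ H := by rw [hHdef]; exact Subgroup.subset_closure (Set.mem_insert _ _)
  have hy : y ∈ H := by rw [hHdef]; exact Subgroup.subset_closure (Set.mem_insert_of_mem _ rfl)
  have huy00 : en (tSL 1 * y) 0 0 + en (tSL 1 * y) 1 1 = en y 0 0 + en y 1 1 + en y 1 0 := by
    rw [mul_en, mul_en, en_tSL_00, en_tSL_01, en_tSL_10, en_tSL_11]; ring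
  rcases proper_cases3 hp hodd hF H hH with hab | ⟨Θ, hΘ⟩ | ⟨g, hg, hc⟩ | ⟨-, htr⟩
  · -- abelian
    left
    have h := congrArg Subtype.val (hab ⟨tSL 1, hu⟩ ⟨y, hy⟩)
    have h' : tSL 1 * y = y * tSL 1 := h
    have h11 := congrArg (fun M : SpecialLinearGroup (Fin 2) F => en M 1 1) h'
    simp only [mul_en, en_tSL_00, en_tSL_01, en_tSL_10, en_tSL_11] at h11
    linear_combination -h11
  · -- triangularisable
    left
    have hP10 : en (Θ.hom (tSL 1)) 1 0 = 0 := hΘ ⟨tSL 1, hu⟩
    have hQ10 : en (Θ.hom y) 1 0 = 0 := hΘ ⟨y, hy⟩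
    have hPtr : en (Θ.hom (tSL 1)) 0 0 + en (Θ.hom (tSL 1)) 1 1 = 2 := by
      have := Θ.tr_eq (tSL 1)
      rw [trace_en, trace_en, en_tSL_00, en_tSL_11] at this
      rw [this]; ring
    obtain ⟨hP00, hP11⟩ := entry_of_upper_unip' _ hP10 hPtr
    have hQtr := Θ.tr_eq y
    rw [trace_en, trace_en] at hQtr
    have hPQ := Θ.tr_eq (tSL 1 * y)
    rw [map_mul, trace_en, trace_en, huy00, mul_en, mul_en, hP00, hP11, hP10, hQ10] at hPQ
    linear_combination -hPQ + hQtr
  · -- dihedral type: impossible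
    exfalso
    have hu' : (⟨tSL 1, hu⟩ : H) ∈ centralizer ({g} : Set H) := by
      by_contra hnot
      have h0 := tr_eq_zero_of_not_mem (subEmb H) hg hc hnot
      have h1 : (subEmb H).tr ⟨tSL 1, hu⟩ = en (tSL (1 : F)) 0 0 + en (tSL (1 : F)) 1 1 :=
        (subEmb H).tr_eq _
      rw [h1, en_tSL_00, en_tSL_11] at h0
      apply h2
      linear_combination h0
    rw [mem_centralizer_singleton_iff] at hu'
    have h' : tSL (1 : F) * (g : SpecialLinearGroup (Fin 2) F) =
        (g : SpecialLinearGroup (Fin 2) F) * tSL (1 : F) := congrArg Subtype.val hu'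
    have h00 := congrArg (fun M : SpecialLinearGroup (Fin 2) F => en M 0 0) h'
    have h01 := congrArg (fun M : SpecialLinearGroup (Fin 2) F => en M 0 1) h'
    simp only [mul_en, en_tSL_00, en_tSL_01, en_tSL_10, en_tSL_11] at h00 h01
    have hd := det_en (g : SpecialLinearGroup (Fin 2) F)
    apply hg
    have : (subEmb H).tr g = en (g : SpecialLinearGroup (Fin 2) F) 0 0 +
        en (g : SpecialLinearGroup (Fin 2) F) 1 1 := (subEmb H).tr_eq g
    rw [this]
    have hg2 : en (g : SpecialLinearGroup (Fin 2) F) 1 0 = 0 := by linear_combination h00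
    have hg3 : en (g : SpecialLinearGroup (Fin 2) F) 1 1 = en (g : SpecialLinearGroup (Fin 2) F) 0 0 := by
      linear_combination h01
    rw [hg2, mul_zero, sub_zero, hg3] at hd
    rw [hg3]
    linear_combination 4 * hd
  · -- order twenty-four
    have h1 := htr ⟨y, hy⟩
    have e1 : (subEmb H).tr ⟨y, hy⟩ = en y 0 0 + en y 1 1 := (subEmb H).tr_eq _
    rw [e1] at h1
    have h5 := htr (⟨tSL 1, hu⟩ * ⟨y, hy⟩)
    have e5 : (subEmb H).tr (⟨tSL 1, hu⟩ * ⟨y, hy⟩) = en (tSL 1 * y) 0 0 + en (tSL 1 * y) 1 1 :=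
      (subEmb H).tr_eq _
    rw [e5, huy00] at h5
    have hc3 : en y 1 0 ^ 3 = en y 1 0 := by
      linear_combination h5 - h1 -
        ((en y 0 0 + en y 1 1) * en y 1 0 * (en y 0 0 + en y 1 1 + en y 1 0)) * h3
    rcases cube_eq_self_cases hc3 with h | h | h
    · exact Or.inl h
    · exact Or.inr ⟨by rw [h]; ring, h1⟩
    · exact Or.inr ⟨by rw [h]; ring, h1⟩

theorem card_cube_eq_self (h3 : (3 : F) = 0) : Nat.card {t : F // t ^ 3 = t} = 3 := by
  classical
  have h2 := two_ne_zero_of_three h3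
  rw [Nat.card_eq_fintype_card, Fintype.card_subtype, Finset.card_eq_three]
  refine ⟨0, 1, -1, zero_ne_one, ?_, ?_, ?_⟩
  · intro h
    have : (1 : F) = 0 := by linear_combination h
    exact one_ne_zero this
  · intro h
    apply h2
    linear_combination h
  · ext t
    simp only [Finset.mem_filter, Finset.mem_univ, true_and, Finset.mem_insert,
      Finset.mem_singleton]
    constructor
    · exact cube_eq_self_cases
    · rintro (rfl | rfl | rfl) <;> ring

/-- Parametrisation of the second part of `setU`. -/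
def unipParam (x : F × {c : F // c ^ 2 = 1} × {t : F // t ^ 3 = t}) :
    SpecialLinearGroup (Fin 2) F :=
  ⟨!![x.1, (x.1 * (x.2.2.1 - x.1) - 1) * x.2.1.1; x.2.1.1, x.2.2.1 - x.1], by
    rw [Matrix.det_fin_two_of]
    have := x.2.1.2
    linear_combination (-(x.1 * (x.2.2.1 - x.1) - 1)) * this⟩

omit [Fintype F] in
theorem unipParam_injective : Function.Injective (unipParam (F := F)) := by
  intro x x' h
  have h00 : x.1 = x'.1 := congrArg (fun M : SpecialLinearGroup (Fin 2) F => en M 0 0) h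
  have h10 : x.2.1.1 = x'.2.1.1 := congrArg (fun M : SpecialLinearGroup (Fin 2) F => en M 1 0) h
  have h11 : x.2.2.1 - x.1 = x'.2.2.1 - x'.1 :=
    congrArg (fun M : SpecialLinearGroup (Fin 2) F => en M 1 1) h
  refine Prod.ext h00 (Prod.ext (Subtype.ext h10) (Subtype.ext ?_))
  linear_combination h11 + h00

omit [Fintype F] in
theorem range_unipParam :
    Set.range (unipParam (F := F)) =
      {y : SpecialLinearGroup (Fin 2) F | en y 1 0 ^ 2 = 1 ∧
        (en y 0 0 + en y 1 1) ^ 3 = en y 0 0 + en y 1 1} := by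
  ext y
  constructor
  · rintro ⟨x, rfl⟩
    refine ⟨x.2.1.2, ?_⟩
    have e : en (unipParam x) 0 0 + en (unipParam x) 1 1 = x.2.2.1 := by
      change x.1 + (x.2.2.1 - x.1) = x.2.2.1
      ring
    rw [e]
    exact x.2.2.2
  · rintro ⟨hc, ht⟩
    refine ⟨(en y 0 0, ⟨en y 1 0, hc⟩, ⟨en y 0 0 + en y 1 1, ht⟩), ?_⟩
    have hd := det_en y
    apply ext_en
    · rfl
    · change (en y 0 0 * (en y 0 0 + en y 1 1 - en y 0 0) - 1) * en y 1 0 = en y 0 1
      linear_combination (en y 1 0) * hd + (en y 0 1) * hc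
    · rfl
    · change en y 0 0 + en y 1 1 - en y 0 0 = en y 1 1
      ring

theorem ncard_setU (h3 : (3 : F) = 0) :
    (setU F).ncard = Fintype.card F * (Fintype.card F + 5) := by
  classical
  have h2 := two_ne_zero_of_three h3
  have hfin : ∀ s : Set (SpecialLinearGroup (Fin 2) F), s.Finite := fun s => Set.toFinite s
  have hdecomp : setU F = (borelSL F : Set (SpecialLinearGroup (Fin 2) F)) ∪
      Set.range (unipParam (F := F)) := by
    ext y
    rw [Set.mem_union, range_unipParam, SetLike.mem_coe, mem_borelSL]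
    rfl
  have hd1 : Disjoint (borelSL F : Set (SpecialLinearGroup (Fin 2) F))
      (Set.range (unipParam (F := F))) := by
    rw [Set.disjoint_left]
    intro y hy hy'
    rw [range_unipParam] at hy'
    rw [SetLike.mem_coe, mem_borelSL] at hy
    have hy0 : en y 1 0 = 0 := hy
    have := hy'.1
    rw [hy0] at this
    norm_num at this
  rw [hdecomp, Set.ncard_union_eq hd1 (hfin _) (hfin _)]
  have h1 : (borelSL F : Set (SpecialLinearGroup (Fin 2) F)).ncard =
      Fintype.card F * (Fintype.card F - 1) := by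
    rw [← Nat.card_coe_set_eq]
    exact Dk.Emb.card_borelSL_eq (F := F)
  have h5 : (Set.range (unipParam (F := F))).ncard = Fintype.card F * (2 * 3) := by
    rw [← Nat.card_coe_set_eq, Nat.card_range_of_injective unipParam_injective,
      Nat.card_prod, Nat.card_prod, Nat.card_eq_fintype_card, card_sq_eq_one_of_two_ne_zero h2,
      card_cube_eq_self h3]
  rw [h1, h5]
  have hq : 1 ≤ Fintype.card F := Fintype.card_pos
  obtain ⟨r, hr⟩ : ∃ r, Fintype.card F = r + 1 := ⟨Fintype.card F - 1, by omega⟩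
  rw [hr, Nat.add_sub_cancel]
  ring

/-- The solubilizer of the standard unipotent element has `q (q + 5)` elements. -/
theorem card_sol_tSL_one {p : ℕ} (hp : p.Prime) (hodd : Odd p) (hF : Fintype.card F = 3 ^ p) :
    Nat.card {y : SpecialLinearGroup (Fin 2) F // Group.IsSolvable
      ↥(Subgroup.closure ({tSL 1, y} : Set (SpecialLinearGroup (Fin 2) F)))} =
      Fintype.card F * (Fintype.card F + 5) := by
  have h3 : (3 : F) = 0 := three_eq_zero_of_card hp hF
  have : CharP F 3 := by
    have h : ((3 : ℕ) : F) = 0 := by exact_mod_cast h3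
    exact (CharP.charP_iff_prime_eq_zero Nat.prime_three).mpr h
  rw [← ncard_setU h3, ← Nat.card_coe_set_eq]
  apply Nat.card_congr
  apply Equiv.subtypeEquivRight
  intro y
  exact ⟨fun h => mem_setU_of_isSolvable hp hodd hF y h, fun h => isSolvable_of_mem_setU y h⟩

end Cfsg.Agent.Lib.Helper13.Sol
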