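/-
helper13: solubilizers of semisimple elements of `SL₂(F)`, `|F| = 3 ^ p`.
-/
import Mathlib
import Cfsg.Agent.Lib.Helper13.Sol3C

set_option autoImplicit false

namespace Cfsg.Agent.Lib.Helper13.Sol

open Subgroup Matrix Cfsg.Agent.Lib.Helper13 Cfsg.Agent.Lib.Helper13.Dk

variable {F : Type*} [Field F]

theorem four_eq_one_of_three (h3 : (3 : F) = 0) : (4 : F) = 1 := by linear_combination h3

/-- An element with `tr² ≠ 4` is not an involution. -/
theorem ne_inv_of_trace_sq_ne_four (h2 : (2 : F) ≠ 0) (x : SpecialLinearGroup (Fin 2) F)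
    (hx4 : (x : Matrix (Fin 2) (Fin 2) F).trace ^ 2 ≠ 4) : x ≠ x⁻¹ := by
  intro h
  have hxx : x * x = 1 := by
    nth_rewrite 2 [h]
    exact mul_inv_cancel x
  apply hx4
  rcases sq_eq_one_cases h2 x hxx with h1 | h1
  · rw [h1, Matrix.SpecialLinearGroup.coe_one, Matrix.trace_fin_two]
    simp only [Matrix.one_apply_eq]
    ring
  · rw [h1, zSL_coe, Matrix.trace_fin_two]
    simp
    ring

/-- The Weyl element. -/
def wSL3 (F : Type*) [Field F] : SpecialLinearGroup (Fin 2) F :=
  ⟨!![0, 1; -1, 0], by rw [Matrix.det_fin_two_of]; ring⟩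

/-- Its inverse. -/
def wSL3i (F : Type*) [Field F] : SpecialLinearGroup (Fin 2) F :=
  ⟨!![0, -1; 1, 0], by rw [Matrix.det_fin_two_of]; ring⟩

@[simp] theorem en_wSL3_00 : en (wSL3 F) 0 0 = 0 := rfl
@[simp] theorem en_wSL3_01 : en (wSL3 F) 0 1 = 1 := rfl
@[simp] theorem en_wSL3_10 : en (wSL3 F) 1 0 = -1 := rfl
@[simp] theorem en_wSL3_11 : en (wSL3 F) 1 1 = 0 := rfl
@[simp] theorem en_wSL3i_00 : en (wSL3i F) 0 0 = 0 := rfl
@[simp] theorem en_wSL3i_01 : en (wSL3i F) 0 1 = -1 := rfl
@[simp] theorem en_wSL3i_10 : en (wSL3i F) 1 0 = 1 := rfl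
@[simp] theorem en_wSL3i_11 : en (wSL3i F) 1 1 = 0 := rfl

theorem wSL3_mul_wSL3i : wSL3 F * wSL3i F = 1 := by
  apply ext_en
  · rw [mul_en, en_one_00]; simp
  · rw [mul_en, en_one_01]; simp
  · rw [mul_en, en_one_10]; simp
  · rw [mul_en, en_one_11]; simp

theorem wSL3_inv : (wSL3 F)⁻¹ = wSL3i F := inv_eq_of_mul_eq_one_right wSL3_mul_wSL3i

theorem en_conj_wSL3_10 (y : SpecialLinearGroup (Fin 2) F) :
    en (wSL3 F * y * (wSL3 F)⁻¹) 1 0 = -en y 0 1 := by
  rw [wSL3_inv, mul_en, mul_en, mul_en]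
  simp

variable [Fintype F]

/-- The dichotomy for the solubilizer of a semisimple element. -/
theorem semis_cases3 {p : ℕ} (hp : p.Prime) (hodd : Odd p) (hF : Fintype.card F = 3 ^ p)
    (x y : SpecialLinearGroup (Fin 2) F) (hx : en x 0 0 + en x 1 1 ≠ 0)
    (hx4 : (x : Matrix (Fin 2) (Fin 2) F).trace ^ 2 ≠ 4)
    (hs : Group.IsSolvable ↥(Subgroup.closure ({x, y} : Set (SpecialLinearGroup (Fin 2) F)))) :
    y ∈ torusNorm x ∨ ∃ Θ : Tw F, en (Θ.hom x) 1 0 = 0 ∧ en (Θ.hom y) 1 0 = 0 := by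
  have h3 : (3 : F) = 0 := three_eq_zero_of_card hp hF
  have h4 : 4 ≤ Fintype.card F := by rw [hF]; exact three_pow_ge_four hp
  obtain ⟨H, hHdef⟩ : ∃ H, H = Subgroup.closure ({x, y} : Set (SpecialLinearGroup (Fin 2) F)) :=
    ⟨_, rfl⟩
  rw [← hHdef] at hs
  have hH := ne_top_of_isSolvable h4 H hs
  have hxH : x ∈ H := by rw [hHdef]; exact Subgroup.subset_closure (Set.mem_insert _ _)
  have hyH : y ∈ H := by rw [hHdef]; exact Subgroup.subset_closure (Set.mem_insert_of_mem _ rfl)
  have htrx : (subEmb H).tr ⟨x, hxH⟩ = en x 0 0 + en x 1 1 := (subEmb H).tr_eq _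
  have key : ((⟨y, hyH⟩ : H) * ⟨x, hxH⟩ * (⟨y, hyH⟩ : H)⁻¹) * ⟨x, hxH⟩ =
      ⟨x, hxH⟩ * ((⟨y, hyH⟩ : H) * ⟨x, hxH⟩ * (⟨y, hyH⟩ : H)⁻¹) → y ∈ torusNorm x := by
    intro h
    exact mem_torusNorm_of_commute x y hx4 (congrArg Subtype.val h)
  rcases proper_cases3 hp hodd hF H hH with hab | ⟨Θ, hΘ⟩ | ⟨g, hg, hc⟩ | ⟨-, htr⟩
  · left
    exact key (hab _ _)
  · right
    exact ⟨Θ, hΘ ⟨x, hxH⟩, hΘ ⟨y, hyH⟩⟩
  · left
    have hxC : (⟨x, hxH⟩ : H) ∈ centralizer ({g} : Set H) := by
      by_contra hnot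
      have := tr_eq_zero_of_not_mem (subEmb H) hg hc hnot
      rw [htrx] at this
      exact hx this
    have hidx : (centralizer ({g} : Set H)).index = 2 := by
      have h1 := Subgroup.card_mul_index (centralizer ({g} : Set H))
      rw [← hc] at h1
      exact Nat.eq_of_mul_eq_mul_left Nat.card_pos h1
    have hnorm : (centralizer ({g} : Set H)).Normal := Subgroup.normal_of_index_eq_two hidx
    have hconj : (⟨y, hyH⟩ : H) * ⟨x, hxH⟩ * (⟨y, hyH⟩ : H)⁻¹ ∈ centralizer ({g} : Set H) :=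
      hnorm.conj_mem _ hxC _
    have hcyc := (subEmb H).isCyclic_centralizer g hg
    have hcomm := (IsCyclic.commGroup (α := centralizer ({g} : Set H))).mul_comm
      ⟨_, hconj⟩ ⟨_, hxC⟩
    exact key (congrArg Subtype.val hcomm)
  · exfalso
    have h1 := htr ⟨x, hxH⟩
    rw [htrx] at h1
    rw [trace_en] at hx4
    rcases cube_eq_self_cases h1 with h | h | h
    · exact hx h
    · apply hx4
      rw [h, four_eq_one_of_three h3]; ring
    · apply hx4
      rw [h, four_eq_one_of_three h3]; ring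

/-- The solubilizer of a non-split semisimple element is the normaliser of its torus. -/
theorem card_sol_nonsplit3 {p : ℕ} (hp : p.Prime) (hodd : Odd p) (hF : Fintype.card F = 3 ^ p)
    (x : SpecialLinearGroup (Fin 2) F) (htr : en x 0 0 + en x 1 1 ≠ 0)
    (hx4 : (x : Matrix (Fin 2) (Fin 2) F).trace ^ 2 ≠ 4)
    (hns : ∀ a : F, a * ((x : Matrix (Fin 2) (Fin 2) F).trace - a) ≠ 1) :
    Nat.card {y : SpecialLinearGroup (Fin 2) F // Group.IsSolvable
      ↥(Subgroup.closure ({x, y} : Set (SpecialLinearGroup (Fin 2) F)))} = 2 * (3 ^ p + 1) := by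
  have h3 : (3 : F) = 0 := three_eq_zero_of_card hp hF
  have h2 : (2 : F) ≠ 0 := two_ne_zero_of_three h3
  have hne := ne_inv_of_trace_sq_ne_four h2 x hx4
  have hcard : Nat.card (torusNorm x) = 2 * (3 ^ p + 1) := by
    rw [card_normalizer_centralizer x hx4 hne, card_centralizer_nonsplit x hx4 hns, hF]
  rw [← hcard]
  apply Nat.card_congr
  apply Equiv.subtypeEquivRight
  intro y
  constructor
  · intro hs
    rcases semis_cases3 hp hodd hF x y htr hx4 hs with h | ⟨Θ, h10, -⟩
    · exact h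
    · exfalso
      apply hns (en (Θ.hom x) 0 0)
      have ht := Θ.tr_eq x
      rw [trace_en] at ht
      have hd := det_en (Θ.hom x)
      rw [h10, mul_zero, sub_zero] at hd
      rw [← ht]
      linear_combination hd
  · intro hy
    have hsol := isSolvable_normalizer_centralizer x hx4 hne
    exact isSolvable_of_le (closure_pair_le (self_mem_torusNorm x) hy)

omit [Fintype F] in
theorem trace_dSL_sq_ne_four (a : F) (ha : a ≠ 0) (hne : a ≠ a⁻¹) :
    ((dSL a ha : SpecialLinearGroup (Fin 2) F) : Matrix (Fin 2) (Fin 2) F).trace ^ 2 ≠ 4 := by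
  rw [trace_en, en_dSL_00, en_dSL_11]
  intro h
  have hab : a * a⁻¹ = 1 := mul_inv_cancel₀ ha
  have h1 : (a - a⁻¹) ^ 2 = 0 := by linear_combination h - 4 * hab
  exact hne (sub_eq_zero.mp (pow_eq_zero_iff two_ne_zero |>.mp h1))

theorem isSolvable_of_mem_setB3 (h2 : (2 : F) ≠ 0) (a : F) (ha : a ≠ 0) (hne : a ≠ a⁻¹)
    (y : SpecialLinearGroup (Fin 2) F) (hy : y ∈ setB F) :
    Group.IsSolvable ↥(Subgroup.closure ({dSL a ha, y} : Set (SpecialLinearGroup (Fin 2) F))) := by
  have hB := isSolvable_borelSL (F := F)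
  rcases hy with h | h | ⟨h00, h11⟩
  · have h1 : dSL a ha ∈ borelSL F := mem_borelSL.mpr rfl
    have h3 : y ∈ borelSL F := mem_borelSL.mpr h
    exact isSolvable_of_le (closure_pair_le h1 h3)
  · rw [← isSolvable_closure_pair_iff (MulAut.conj (wSL3 F)) (dSL a ha) y]
    have h1 : MulAut.conj (wSL3 F) (dSL a ha) ∈ borelSL F := by
      rw [MulAut.conj_apply, mem_borelSL]
      refine (en_conj_wSL3_10 _).trans ?_
      rw [en_dSL_01, neg_zero]
    have h3 : MulAut.conj (wSL3 F) y ∈ borelSL F := by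
      rw [MulAut.conj_apply, mem_borelSL]
      refine (en_conj_wSL3_10 _).trans ?_
      rw [h, neg_zero]
    exact isSolvable_of_le (closure_pair_le h1 h3)
  · have hx4 := trace_dSL_sq_ne_four a ha hne
    have hne' := ne_inv_of_trace_sq_ne_four h2 _ hx4
    have hsol := isSolvable_normalizer_centralizer _ hx4 hne'
    have hy' : y ∈ torusNorm (dSL a ha) := by
      rw [mem_normalizer_centralizer_iff _ hx4]
      right
      have hxyx : dSL a ha * y * dSL a ha = y := by
        apply ext_en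
        · rw [mul_en, mul_en, mul_en]; simp [h00]
        · rw [mul_en, mul_en, mul_en]; simp; field_simp
        · rw [mul_en, mul_en, mul_en]; simp; field_simp
        · rw [mul_en, mul_en, mul_en]; simp [h11]
      rw [eq_inv_iff_mul_eq_one]
      have hinv : y⁻¹ = (dSL a ha)⁻¹ * y⁻¹ * (dSL a ha)⁻¹ := by
        conv_lhs => rw [← hxyx]
        group
      rw [hinv]
      group
    exact isSolvable_of_le (closure_pair_le (self_mem_torusNorm _) hy')

theorem mem_setB_of_isSolvable3 {p : ℕ} (hp : p.Prime) (hodd : Odd p)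
    (hF : Fintype.card F = 3 ^ p)
    (a : F) (ha : a ≠ 0) (hne : a ≠ a⁻¹) (htr : a + a⁻¹ ≠ 0) (y : SpecialLinearGroup (Fin 2) F)
    (hs : Group.IsSolvable
      ↥(Subgroup.closure ({dSL a ha, y} : Set (SpecialLinearGroup (Fin 2) F)))) : y ∈ setB F := by
  have hab : a * a⁻¹ = 1 := mul_inv_cancel₀ ha
  have hsub : a - a⁻¹ ≠ 0 := sub_ne_zero.mpr hne
  have htr' : en (dSL a ha) 0 0 + en (dSL a ha) 1 1 ≠ 0 := by
    rw [en_dSL_00, en_dSL_11]
    exact htr
  have hx4 := trace_dSL_sq_ne_four a ha hne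
  have hd := det_en y
  rcases semis_cases3 hp hodd hF (dSL a ha) y htr' hx4 hs with h | ⟨Θ, hP10, hQ10⟩
  · rw [mem_normalizer_centralizer_iff _ hx4] at h
    rcases h with h | h
    · -- `y` commutes with `x`
      right; left
      have h' : y * dSL a ha = dSL a ha * y := by
        calc y * dSL a ha = (y * dSL a ha * y⁻¹) * y := by group
          _ = dSL a ha * y := by rw [h]
      have h01 := congrArg (fun M : SpecialLinearGroup (Fin 2) F => en M 0 1) h'
      simp only [mul_en, en_dSL_00, en_dSL_01, en_dSL_10, en_dSL_11] at h01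
      have : (a - a⁻¹) * en y 0 1 = 0 := by linear_combination -h01
      exact (mul_eq_zero.mp this).resolve_left hsub
    · -- `y` inverts `x`
      right; right
      have h' : dSL a ha * y * dSL a ha = y := by
        calc dSL a ha * y * dSL a ha = dSL a ha * (y * dSL a ha * y⁻¹) * y := by group
          _ = y := by rw [h]; group
      have h00 := congrArg (fun M : SpecialLinearGroup (Fin 2) F => en M 0 0) h'
      have h11 := congrArg (fun M : SpecialLinearGroup (Fin 2) F => en M 1 1) h'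
      simp only [mul_en, en_dSL_00, en_dSL_01, en_dSL_10, en_dSL_11] at h00 h11
      constructor
      · have : (a - a⁻¹) * ((a + a⁻¹) * (a * en y 0 0)) = 0 := by
          linear_combination (a + a⁻¹) * h00 - (a + a⁻¹) * en y 0 0 * hab
        rcases mul_eq_zero.mp this with h | h
        · exact absurd h hsub
        · rcases mul_eq_zero.mp h with h | h
          · exact absurd h htr
          · exact (mul_eq_zero.mp h).resolve_left ha
      · have : (a - a⁻¹) * ((a + a⁻¹) * (a⁻¹ * en y 1 1)) = 0 := by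
          linear_combination (-(a + a⁻¹)) * h11 + (a + a⁻¹) * en y 1 1 * hab
        rcases mul_eq_zero.mp this with h | h
        · exact absurd h hsub
        · rcases mul_eq_zero.mp h with h | h
          · exact absurd h htr
          · exact (mul_eq_zero.mp h).resolve_left (inv_ne_zero ha)
  · -- triangular case: `y₀₀ y₁₁ = 1`
    have hPtr := Θ.tr_eq (dSL a ha)
    rw [trace_en, trace_en, en_dSL_00, en_dSL_11] at hPtr
    have hQtr := Θ.tr_eq y
    rw [trace_en, trace_en] at hQtr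
    have hPQ := Θ.tr_eq (dSL a ha * y)
    rw [map_mul, trace_en, trace_en, mul_en, mul_en, mul_en, mul_en, hP10, hQ10,
      en_dSL_00, en_dSL_01, en_dSL_10, en_dSL_11] at hPQ
    have hPd := det_en (Θ.hom (dSL a ha))
    rw [hP10, mul_zero, sub_zero] at hPd
    have hQd := det_en (Θ.hom y)
    rw [hQ10, mul_zero, sub_zero] at hQd
    set μ := en (Θ.hom (dSL a ha)) 0 0 with hμ
    set ν := en (Θ.hom (dSL a ha)) 1 1 with hν
    set a₁ := en (Θ.hom y) 0 0 with ha₁
    set d₁ := en (Θ.hom y) 1 1 with hd₁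
    have hroot : (μ - a) * (μ - a⁻¹) = 0 := by
      linear_combination (-1 : F) * hPd + hab + μ * hPtr
    have hAD : en y 0 0 * en y 1 1 = 1 := by
      rcases mul_eq_zero.mp hroot with h | h
      · have hμa : μ = a := sub_eq_zero.mp h
        have hνb : ν = a⁻¹ := by linear_combination hPtr - hμa
        rw [hμa, hνb] at hPQ
        have h1 : (a - a⁻¹) * (a₁ - en y 0 0) = 0 := by
          linear_combination hPQ - a⁻¹ * hQtr
        have h3 : a₁ = en y 0 0 := sub_eq_zero.mp ((mul_eq_zero.mp h1).resolve_left hsub)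
        have h5 : d₁ = en y 1 1 := by linear_combination hQtr - h3
        rw [← h3, ← h5]
        exact hQd
      · have hμb : μ = a⁻¹ := sub_eq_zero.mp h
        have hνa : ν = a := by linear_combination hPtr - hμb
        rw [hμb, hνa] at hPQ
        have h1 : (a - a⁻¹) * (d₁ - en y 0 0) = 0 := by
          linear_combination hPQ - a⁻¹ * hQtr
        have h3 : d₁ = en y 0 0 := sub_eq_zero.mp ((mul_eq_zero.mp h1).resolve_left hsub)
        have h5 : a₁ = en y 1 1 := by linear_combination hQtr - h3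
        rw [← h3, ← h5, mul_comm]
        exact hQd
    have : en y 0 1 * en y 1 0 = 0 := by linear_combination hAD - hd
    rcases mul_eq_zero.mp this with h | h
    · exact Or.inr (Or.inl h)
    · exact Or.inl h

end Cfsg.Agent.Lib.Helper13.Sol
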