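/-
helper13: the solubilizer of a split semisimple element of `SL₂(F)`, `|F| = 3 ^ p`: counting.
-/
import Mathlib
import Cfsg.Agent.Lib.Helper13.Sol3D
import Cfsg.Agent.Lib.Helper13.SL2Conj

set_option autoImplicit false

namespace Cfsg.Agent.Lib.Helper13.Sol

open Subgroup Matrix Cfsg.Agent.Lib.Helper13 Cfsg.Agent.Lib.Helper13.Dk

variable {F : Type*} [Field F]

/-- Antidiagonal elements. -/
def antiSL3 (c : Fˣ) : SpecialLinearGroup (Fin 2) F :=
  ⟨!![0, -((c⁻¹ : Fˣ) : F); (c : F), 0], by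
    rw [Matrix.det_fin_two_of]
    simp⟩

theorem antiSL3_injective : Function.Injective (antiSL3 (F := F)) := by
  intro x x' h
  have h10 := congrArg (fun M : SpecialLinearGroup (Fin 2) F => en M 1 0) h
  exact Units.ext h10

theorem range_antiSL3 :
    Set.range (antiSL3 (F := F)) =
      {y : SpecialLinearGroup (Fin 2) F | en y 0 0 = 0 ∧ en y 1 1 = 0} := by
  ext y
  constructor
  · rintro ⟨x, rfl⟩
    exact ⟨rfl, rfl⟩
  · rintro ⟨h00, h11⟩
    have hd := det_en y
    rw [h00, zero_mul, zero_sub] at hd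
    have hbc : en y 1 0 * (-en y 0 1) = 1 := by linear_combination hd
    have hc : en y 1 0 ≠ 0 := left_ne_zero_of_mul_eq_one hbc
    refine ⟨Units.mk0 (en y 1 0) hc, ?_⟩
    apply ext_en
    · exact h00.symm
    · change -(((Units.mk0 (en y 1 0) hc)⁻¹ : Fˣ) : F) = en y 0 1
      rw [Units.val_inv_eq_inv_val, Units.val_mk0, ← eq_inv_of_mul_eq_one_right hbc, neg_neg]
    · rfl
    · exact h11.symm

variable [Fintype F]

theorem ncard_setB3 :
    (setB F).ncard = 2 * Fintype.card F * (Fintype.card F - 1) := by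
  classical
  have hfin : ∀ s : Set (SpecialLinearGroup (Fin 2) F), s.Finite := fun s => Set.toFinite s
  have hdecomp : setB F = ((borelSL F : Set (SpecialLinearGroup (Fin 2) F)) ∪
      Set.range (lowSL (F := F))) ∪ Set.range (antiSL3 (F := F)) := by
    ext y
    rw [Set.mem_union, Set.mem_union, range_lowSL, range_antiSL3]
    change (en y 1 0 = 0 ∨ en y 0 1 = 0 ∨ (en y 0 0 = 0 ∧ en y 1 1 = 0)) ↔
      ((y ∈ borelSL F ∨ (en y 1 0 ≠ 0 ∧ en y 0 1 = 0)) ∨ (en y 0 0 = 0 ∧ en y 1 1 = 0))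
    rw [mem_borelSL]
    change _ ↔ ((en y 1 0 = 0 ∨ _) ∨ _)
    by_cases hc : en y 1 0 = 0
    · simp [hc]
    · simp [hc]
  have hd1 : Disjoint (borelSL F : Set (SpecialLinearGroup (Fin 2) F))
      (Set.range (lowSL (F := F))) := by
    rw [Set.disjoint_left]
    intro y hy hy'
    rw [range_lowSL] at hy'
    exact hy'.1 (mem_borelSL.mp hy)
  have hd2 : Disjoint ((borelSL F : Set (SpecialLinearGroup (Fin 2) F)) ∪
      Set.range (lowSL (F := F))) (Set.range (antiSL3 (F := F))) := by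
    rw [Set.disjoint_left]
    intro y hy hy'
    rw [range_antiSL3] at hy'
    have hd := det_en y
    rw [hy'.1, zero_mul, zero_sub] at hd
    rcases hy with hy | hy
    · rw [SetLike.mem_coe, mem_borelSL] at hy
      have hy0 : en y 1 0 = 0 := hy
      rw [hy0, mul_zero, neg_zero] at hd
      exact zero_ne_one hd
    · rw [range_lowSL] at hy
      rw [hy.2, zero_mul, neg_zero] at hd
      exact zero_ne_one hd
  rw [hdecomp, Set.ncard_union_eq hd2 (hfin _) (hfin _), Set.ncard_union_eq hd1 (hfin _) (hfin _)]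
  have h1 : (borelSL F : Set (SpecialLinearGroup (Fin 2) F)).ncard =
      Fintype.card F * (Fintype.card F - 1) := by
    rw [← Nat.card_coe_set_eq]
    exact Dk.Emb.card_borelSL_eq (F := F)
  have h3 : (Set.range (lowSL (F := F))).ncard = (Fintype.card F - 1) * (Fintype.card F - 1) := by
    rw [← Nat.card_coe_set_eq, Nat.card_range_of_injective lowSL_injective,
      Nat.card_prod, Nat.card_eq_fintype_card, Fintype.card_units]
  have h5 : (Set.range (antiSL3 (F := F))).ncard = Fintype.card F - 1 := by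
    rw [← Nat.card_coe_set_eq, Nat.card_range_of_injective antiSL3_injective,
      Nat.card_eq_fintype_card, Fintype.card_units]
  rw [h1, h3, h5]
  have hq : 1 ≤ Fintype.card F := Fintype.card_pos
  obtain ⟨r, hr⟩ : ∃ r, Fintype.card F = r + 1 := ⟨Fintype.card F - 1, by omega⟩
  rw [hr, Nat.add_sub_cancel]
  ring

theorem card_sol_dSL3 {p : ℕ} (hp : p.Prime) (hodd : Odd p) (hF : Fintype.card F = 3 ^ p)
    (a : F) (ha : a ≠ 0) (hne : a ≠ a⁻¹) (htr : a + a⁻¹ ≠ 0) :
    Nat.card {y : SpecialLinearGroup (Fin 2) F // Group.IsSolvable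
      ↥(Subgroup.closure ({dSL a ha, y} : Set (SpecialLinearGroup (Fin 2) F)))} =
      2 * Fintype.card F * (Fintype.card F - 1) := by
  have h3 : (3 : F) = 0 := three_eq_zero_of_card hp hF
  have h2 : (2 : F) ≠ 0 := two_ne_zero_of_three h3
  rw [← ncard_setB3, ← Nat.card_coe_set_eq]
  apply Nat.card_congr
  apply Equiv.subtypeEquivRight
  intro y
  exact ⟨fun h => mem_setB_of_isSolvable3 hp hodd hF a ha hne htr y h,
    fun h => isSolvable_of_mem_setB3 h2 a ha hne y h⟩

/-- The solubilizer of a split semisimple element. -/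
theorem card_sol_split3 {p : ℕ} (hp : p.Prime) (hodd : Odd p) (hF : Fintype.card F = 3 ^ p)
    (x : SpecialLinearGroup (Fin 2) F) (htr : en x 0 0 + en x 1 1 ≠ 0)
    (hx4 : (x : Matrix (Fin 2) (Fin 2) F).trace ^ 2 ≠ 4)
    (a : F) (ha : a * ((x : Matrix (Fin 2) (Fin 2) F).trace - a) = 1) :
    Nat.card {y : SpecialLinearGroup (Fin 2) F // Group.IsSolvable
      ↥(Subgroup.closure ({x, y} : Set (SpecialLinearGroup (Fin 2) F)))} =
      2 * 3 ^ p * (3 ^ p - 1) := by
  have ha0 : a ≠ 0 := left_ne_zero_of_mul_eq_one ha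
  have hinv : a⁻¹ = (x : Matrix (Fin 2) (Fin 2) F).trace - a :=
    eq_comm.mp (eq_inv_of_mul_eq_one_right ha)
  have htrd : (x : Matrix (Fin 2) (Fin 2) F).trace =
      ((dSL a ha0 : SpecialLinearGroup (Fin 2) F) : Matrix (Fin 2) (Fin 2) F).trace := by
    rw [trace_en (dSL a ha0), en_dSL_00, en_dSL_11, hinv]
    ring
  have htr2 : a + a⁻¹ ≠ 0 := by
    rw [hinv, trace_en]
    intro h
    apply htr
    linear_combination h
  have hne : a ≠ a⁻¹ := by
    intro h
    apply hx4
    have hab : a * a⁻¹ = 1 := mul_inv_cancel₀ ha0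
    have e : (x : Matrix (Fin 2) (Fin 2) F).trace = a + a⁻¹ := by rw [hinv]; ring
    rw [e, ← h]
    rw [← h] at hab
    linear_combination 4 * hab
  obtain ⟨c, hc⟩ := isConj_iff.mp (isConj_of_trace_eq x (dSL a ha0) htrd hx4)
  have h := card_sol_congr (MulAut.conj c) x
  rw [MulAut.conj_apply, hc] at h
  rw [← h, card_sol_dSL3 hp hodd hF a ha0 hne htr2, hF]

end Cfsg.Agent.Lib.Helper13.Sol
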