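/-
helper13: the solubilizer of an element of order four of `SL₂(F)`, `|F| = 3 ^ p`: description.
-/
import Mathlib
import Cfsg.Agent.Lib.Helper13.Sol3E

set_option autoImplicit false

namespace Cfsg.Agent.Lib.Helper13.Sol

open Subgroup Matrix Cfsg.Agent.Lib.Helper13 Cfsg.Agent.Lib.Helper13.Dk

variable {F : Type*} [Field F]

/-- Trace of `y`. -/
abbrev tt (y : SpecialLinearGroup (Fin 2) F) : F := en y 0 0 + en y 1 1
/-- Trace of `w y`. -/
abbrev ss (y : SpecialLinearGroup (Fin 2) F) : F := en y 1 0 - en y 0 1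
abbrev uu (y : SpecialLinearGroup (Fin 2) F) : F := en y 0 0 - en y 1 1
abbrev vv (y : SpecialLinearGroup (Fin 2) F) : F := en y 0 1 + en y 1 0

theorem coords_identity (y : SpecialLinearGroup (Fin 2) F) :
    tt y ^ 2 + ss y ^ 2 - uu y ^ 2 - vv y ^ 2 = 4 := by
  have hd := det_en y
  linear_combination 4 * hd

/-- The solubilizer of the Weyl element. -/
def setW (F : Type*) [Field F] : Set (SpecialLinearGroup (Fin 2) F) :=
  {y | tt y = 0 ∨ ss y = 0 ∨ (uu y = 0 ∧ vv y = 0) ∨ (tt y ^ 2 = 1 ∧ ss y ^ 2 = 1)}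

theorem trace_wSL3_mul (y : SpecialLinearGroup (Fin 2) F) :
    en (wSL3 F * y) 0 0 + en (wSL3 F * y) 1 1 = ss y := by
  rw [mul_en, mul_en]
  simp only [en_wSL3_00, en_wSL3_01, en_wSL3_10, en_wSL3_11]
  ring

theorem trace_mul_wSL3 (y : SpecialLinearGroup (Fin 2) F) :
    en (y * wSL3 F) 0 0 + en (y * wSL3 F) 1 1 = ss y := by
  rw [mul_en, mul_en]
  simp only [en_wSL3_00, en_wSL3_01, en_wSL3_10, en_wSL3_11]
  ring

theorem commute_wSL3_iff (y : SpecialLinearGroup (Fin 2) F) :
    wSL3 F * y = y * wSL3 F ↔ (uu y = 0 ∧ vv y = 0) := by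
  constructor
  · intro h
    have h00 := congrArg (fun M : SpecialLinearGroup (Fin 2) F => en M 0 0) h
    have h01 := congrArg (fun M : SpecialLinearGroup (Fin 2) F => en M 0 1) h
    simp only [mul_en, en_wSL3_00, en_wSL3_01, en_wSL3_10, en_wSL3_11] at h00 h01
    constructor
    · change en y 0 0 - en y 1 1 = 0
      linear_combination -h01
    · change en y 0 1 + en y 1 0 = 0
      linear_combination h00
  · rintro ⟨hu, hv⟩
    have hu' : en y 0 0 - en y 1 1 = 0 := hu
    have hv' : en y 0 1 + en y 1 0 = 0 := hv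
    apply ext_en
    · simp only [mul_en, en_wSL3_00, en_wSL3_01, en_wSL3_10, en_wSL3_11]
      linear_combination hv'
    · simp only [mul_en, en_wSL3_00, en_wSL3_01, en_wSL3_10, en_wSL3_11]
      linear_combination -hu'
    · simp only [mul_en, en_wSL3_00, en_wSL3_01, en_wSL3_10, en_wSL3_11]
      linear_combination -hu'
    · simp only [mul_en, en_wSL3_00, en_wSL3_01, en_wSL3_10, en_wSL3_11]
      linear_combination -hv'

theorem trace_wSL3 : ((wSL3 F : SpecialLinearGroup (Fin 2) F) : Matrix (Fin 2) (Fin 2) F).trace = 0 := by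
  rw [trace_en, en_wSL3_00, en_wSL3_11, add_zero]

variable [Fintype F]

/-- A sum of two squares vanishes only trivially. -/
theorem sq_add_sq_eq_zero {p : ℕ} (hp : p.Prime) (hodd : Odd p) (hF : Fintype.card F = 3 ^ p)
    {x y : F} (h : x ^ 2 + y ^ 2 = 0) : x = 0 ∧ y = 0 := by
  have hy : y = 0 := by
    by_contra hy
    apply neg_one_not_sq hp hodd hF (x / y)
    rw [div_pow, div_eq_iff (pow_ne_zero 2 hy)]
    linear_combination h
  rw [hy] at h
  have hx : x ^ 2 = 0 := by linear_combination h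
  exact ⟨pow_eq_zero_iff (two_ne_zero) |>.mp hx, hy⟩

/-- Two elements of trace zero, one of them the Weyl element, generate a solvable group. -/
theorem isSolvable_closure_wSL3_of_trace_zero {p : ℕ} (hp : p.Prime) (hodd : Odd p)
    (hF : Fintype.card F = 3 ^ p) (y : SpecialLinearGroup (Fin 2) F) (ht : tt y = 0) :
    Group.IsSolvable ↥(Subgroup.closure ({wSL3 F, y} : Set (SpecialLinearGroup (Fin 2) F))) := by
  have h3 : (3 : F) = 0 := three_eq_zero_of_card hp hF
  have h2 : (2 : F) ≠ 0 := two_ne_zero_of_three h3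
  obtain ⟨R, hR⟩ : ∃ R, R = wSL3 F * y := ⟨_, rfl⟩
  have htrR : (R : Matrix (Fin 2) (Fin 2) F).trace = ss y := by
    rw [hR, trace_en, trace_wSL3_mul]
  by_cases hs4 : (R : Matrix (Fin 2) (Fin 2) F).trace ^ 2 = 4
  · -- then `y` commutes with `w`
    rw [htrR] at hs4
    have hid := coords_identity y
    rw [ht] at hid
    have huv : uu y ^ 2 + vv y ^ 2 = 0 := by linear_combination hs4 - hid
    have := sq_add_sq_eq_zero hp hodd hF huv
    exact isSolvable_closure_of_commute _ _ ((commute_wSL3_iff y).mpr this)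
  · have hne := ne_inv_of_trace_sq_ne_four h2 R hs4
    have hsol := isSolvable_normalizer_centralizer R hs4 hne
    have hww : wSL3 F * wSL3 F = zSL F := mul_self_of_trace_eq_zero _ trace_wSL3
    have hyy : y * y = zSL F := mul_self_of_trace_eq_zero _ (by rw [trace_en]; exact ht)
    have hzc := Subgroup.mem_center_iff.mp (zSL_mem_center (F := F))
    have hw' : wSL3 F ∈ torusNorm R := by
      rw [mem_normalizer_centralizer_iff R hs4]
      right
      rw [eq_inv_iff_mul_eq_one, hR]
      calc wSL3 F * (wSL3 F * y) * (wSL3 F)⁻¹ * (wSL3 F * y)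
          = (wSL3 F * wSL3 F) * (y * y) := by group
        _ = 1 := by rw [hww, hyy, zSL_mul_self]
    have hy' : y ∈ torusNorm R := by
      rw [mem_normalizer_centralizer_iff R hs4]
      right
      rw [eq_inv_iff_mul_eq_one, hR]
      calc y * (wSL3 F * y) * y⁻¹ * (wSL3 F * y)
          = y * (wSL3 F * wSL3 F) * y := by group
        _ = y * zSL F * y := by rw [hww]
        _ = zSL F * y * y := by rw [hzc y]
        _ = 1 := by rw [mul_assoc, hyy, zSL_mul_self]
    exact isSolvable_of_le (closure_pair_le hw' hy')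

theorem closure_wSL3_mul_eq (y : SpecialLinearGroup (Fin 2) F) :
    Subgroup.closure ({wSL3 F, y} : Set (SpecialLinearGroup (Fin 2) F)) ≤
      Subgroup.closure ({wSL3 F, wSL3 F * y} : Set (SpecialLinearGroup (Fin 2) F)) := by
  have h1 : wSL3 F ∈ Subgroup.closure
      ({wSL3 F, wSL3 F * y} : Set (SpecialLinearGroup (Fin 2) F)) :=
    Subgroup.subset_closure (Set.mem_insert _ _)
  have h3 : wSL3 F * y ∈ Subgroup.closure
      ({wSL3 F, wSL3 F * y} : Set (SpecialLinearGroup (Fin 2) F)) :=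
    Subgroup.subset_closure (Set.mem_insert_of_mem _ rfl)
  have h4 : y ∈ Subgroup.closure
      ({wSL3 F, wSL3 F * y} : Set (SpecialLinearGroup (Fin 2) F)) := by
    have := Subgroup.mul_mem _ (Subgroup.inv_mem _ h1) h3
    rwa [inv_mul_cancel_left] at this
  exact closure_pair_le h1 h4

theorem isSolvable_of_mem_setW {p : ℕ} (hp : p.Prime) (hodd : Odd p)
    (hF : Fintype.card F = 3 ^ p) (y : SpecialLinearGroup (Fin 2) F) (hy : y ∈ setW F) :
    Group.IsSolvable ↥(Subgroup.closure ({wSL3 F, y} : Set (SpecialLinearGroup (Fin 2) F))) := by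
  have h3 : (3 : F) = 0 := three_eq_zero_of_card hp hF
  have h2 : (2 : F) ≠ 0 := two_ne_zero_of_three h3
  have hchar : CharP F 3 := by
    have h : ((3 : ℕ) : F) = 0 := by exact_mod_cast h3
    exact (CharP.charP_iff_prime_eq_zero Nat.prime_three).mpr h
  rcases hy with ht | hs | huv | ⟨ht, hs⟩
  · exact isSolvable_closure_wSL3_of_trace_zero hp hodd hF y ht
  · have hz : tt (wSL3 F * y) = 0 := by
      change en (wSL3 F * y) 0 0 + en (wSL3 F * y) 1 1 = 0
      rw [trace_wSL3_mul]; exact hs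
    have hsol := isSolvable_closure_wSL3_of_trace_zero hp hodd hF _ hz
    exact isSolvable_of_le (closure_wSL3_mul_eq y)
  · exact isSolvable_closure_of_commute _ _ ((commute_wSL3_iff y).mpr huv)
  · -- `y` is plus or minus a unipotent element
    obtain ⟨Y₁, hY₁, htr1, hss1⟩ : ∃ Y₁ : SpecialLinearGroup (Fin 2) F,
        (Group.IsSolvable ↥(Subgroup.closure ({wSL3 F, Y₁} : Set (SpecialLinearGroup (Fin 2) F))) →
          Group.IsSolvable ↥(Subgroup.closure ({wSL3 F, y} : Set (SpecialLinearGroup (Fin 2) F)))) ∧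
        tt Y₁ = 2 ∧ ss Y₁ ^ 2 = 1 := by
      have ht' : (tt y - 1) * (tt y + 1) = 0 := by linear_combination ht
      rcases mul_eq_zero.mp ht' with h | h
      · -- trace `1 = -2`: replace by `-y`
        refine ⟨zSL F * y, (isSolvable_closure_zSL_mul_right_iff _ _).mp, ?_, ?_⟩
        · have e00 : en (zSL F * y) 0 0 = -en y 0 0 := by
            rw [mul_en]; simp [en, zSL_coe]
          have e11 : en (zSL F * y) 1 1 = -en y 1 1 := by
            rw [mul_en]; simp [en, zSL_coe]
          change en (zSL F * y) 0 0 + en (zSL F * y) 1 1 = 2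
          rw [e00, e11]
          have h' : en y 0 0 + en y 1 1 - 1 = 0 := h
          linear_combination (-1 : F) * h' - h3
        · have e10 : en (zSL F * y) 1 0 = -en y 1 0 := by
            rw [mul_en]; simp [en, zSL_coe]
          have e01 : en (zSL F * y) 0 1 = -en y 0 1 := by
            rw [mul_en]; simp [en, zSL_coe]
          change (en (zSL F * y) 1 0 - en (zSL F * y) 0 1) ^ 2 = 1
          rw [e10, e01]
          have hs' : (en y 1 0 - en y 0 1) ^ 2 = 1 := hs
          linear_combination hs'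
      · refine ⟨y, id, ?_, hs⟩
        have h' : en y 0 0 + en y 1 1 + 1 = 0 := h
        change en y 0 0 + en y 1 1 = 2
        linear_combination h' - h3
    apply hY₁
    have hne1 : Y₁ ≠ 1 := by
      intro h
      rw [h] at hss1
      have : ss (1 : SpecialLinearGroup (Fin 2) F) = 0 := by
        change en (1 : SpecialLinearGroup (Fin 2) F) 1 0 - en (1 : SpecialLinearGroup (Fin 2) F) 0 1 = 0
        rw [en_one_10, en_one_01, sub_zero]
      rw [this] at hss1
      norm_num at hss1
    obtain ⟨Θ, hΘ⟩ := exists_tw_tSL_one Y₁ (by rw [trace_en]; exact htr1) hne1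
    rw [← isSolvable_closure_tw_iff Θ, hΘ, Set.pair_comm]
    apply isSolvable_of_mem_setU
    right
    have htw : en (Θ.hom (wSL3 F)) 0 0 + en (Θ.hom (wSL3 F)) 1 1 = 0 := by
      have := Θ.tr_eq (wSL3 F)
      rw [trace_en, trace_wSL3] at this
      exact this
    constructor
    · have h1 := Θ.tr_eq (Y₁ * wSL3 F)
      rw [map_mul, hΘ, trace_en, trace_en, trace_mul_wSL3] at h1
      rw [mul_en, mul_en, en_tSL_00, en_tSL_01, en_tSL_10, en_tSL_11] at h1
      have : en (Θ.hom (wSL3 F)) 1 0 = ss Y₁ := by linear_combination h1 - htw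
      rw [this]
      exact hss1
    · rw [htw]; ring

theorem mem_setW_of_isSolvable {p : ℕ} (hp : p.Prime) (hodd : Odd p) (hF : Fintype.card F = 3 ^ p)
    (y : SpecialLinearGroup (Fin 2) F)
    (hs : Group.IsSolvable ↥(Subgroup.closure ({wSL3 F, y} : Set (SpecialLinearGroup (Fin 2) F)))) :
    y ∈ setW F := by
  have h3 : (3 : F) = 0 := three_eq_zero_of_card hp hF
  have h2 : (2 : F) ≠ 0 := two_ne_zero_of_three h3
  have h4 : 4 ≤ Fintype.card F := by rw [hF]; exact three_pow_ge_four hp
  obtain ⟨H, hHdef⟩ : ∃ H, H = Subgroup.closure ({wSL3 F, y} : Set (SpecialLinearGroup (Fin 2) F)) :=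
    ⟨_, rfl⟩
  rw [← hHdef] at hs
  have hH := ne_top_of_isSolvable h4 H hs
  have hw : wSL3 F ∈ H := by rw [hHdef]; exact Subgroup.subset_closure (Set.mem_insert _ _)
  have hy : y ∈ H := by rw [hHdef]; exact Subgroup.subset_closure (Set.mem_insert_of_mem _ rfl)
  rcases proper_cases3 hp hodd hF H hH with hab | ⟨Θ, hΘ⟩ | ⟨g, hg, hc⟩ | ⟨-, htr⟩
  · -- abelian
    right; right; left
    have h := congrArg Subtype.val (hab ⟨wSL3 F, hw⟩ ⟨y, hy⟩)
    exact (commute_wSL3_iff y).mp h
  · -- triangularisable: impossible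
    exfalso
    have hP10 : en (Θ.hom (wSL3 F)) 1 0 = 0 := hΘ ⟨wSL3 F, hw⟩
    have hPtr := Θ.tr_eq (wSL3 F)
    rw [trace_en, trace_wSL3] at hPtr
    have hd := det_en (Θ.hom (wSL3 F))
    rw [hP10, mul_zero, sub_zero] at hd
    apply neg_one_not_sq hp hodd hF (en (Θ.hom (wSL3 F)) 0 0)
    linear_combination (-1 : F) * hd + en (Θ.hom (wSL3 F)) 0 0 * hPtr
  · -- dihedral type
    by_cases hy' : (⟨y, hy⟩ : H) ∈ centralizer ({g} : Set H)
    · by_cases hw' : (⟨wSL3 F, hw⟩ : H) ∈ centralizer ({g} : Set H)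
      · right; right; left
        have hcyc := (subEmb H).isCyclic_centralizer g hg
        have hcomm := (IsCyclic.commGroup (α := centralizer ({g} : Set H))).mul_comm
          ⟨_, hw'⟩ ⟨_, hy'⟩
        have h := congrArg Subtype.val (congrArg Subtype.val hcomm)
        exact (commute_wSL3_iff y).mp h
      · right; left
        have h1 := tr_eq_zero_of_not_mem (subEmb H) hg hc (mul_not_mem hw' hy')
        have e : (subEmb H).tr (⟨wSL3 F, hw⟩ * ⟨y, hy⟩) =
            en (wSL3 F * y) 0 0 + en (wSL3 F * y) 1 1 := (subEmb H).tr_eq _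
        rw [e, trace_wSL3_mul] at h1
        exact h1
    · left
      have h1 := tr_eq_zero_of_not_mem (subEmb H) hg hc hy'
      have e : (subEmb H).tr ⟨y, hy⟩ = en y 0 0 + en y 1 1 := (subEmb H).tr_eq _
      rw [e] at h1
      exact h1
  · -- order twenty-four
    have h1 := htr ⟨y, hy⟩
    have e1 : (subEmb H).tr ⟨y, hy⟩ = tt y := (subEmb H).tr_eq _
    rw [e1] at h1
    have h5 := htr (⟨wSL3 F, hw⟩ * ⟨y, hy⟩)
    have e5 : (subEmb H).tr (⟨wSL3 F, hw⟩ * ⟨y, hy⟩) =
        en (wSL3 F * y) 0 0 + en (wSL3 F * y) 1 1 := (subEmb H).tr_eq _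
    rw [e5, trace_wSL3_mul] at h5
    rcases cube_eq_self_cases h1 with ht | ht | ht
    · exact Or.inl ht
    · rcases cube_eq_self_cases h5 with hs' | hs' | hs'
      · exact Or.inr (Or.inl hs')
      · exact Or.inr (Or.inr (Or.inr ⟨by rw [ht]; ring, by rw [hs']; ring⟩))
      · exact Or.inr (Or.inr (Or.inr ⟨by rw [ht]; ring, by rw [hs']; ring⟩))
    · rcases cube_eq_self_cases h5 with hs' | hs' | hs'
      · exact Or.inr (Or.inl hs')
      · exact Or.inr (Or.inr (Or.inr ⟨by rw [ht]; ring, by rw [hs']; ring⟩))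
      · exact Or.inr (Or.inr (Or.inr ⟨by rw [ht]; ring, by rw [hs']; ring⟩))

end Cfsg.Agent.Lib.Helper13.Sol
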