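/-
helper13: the solubilizer of an element of order four of `SL₂(F)`, `|F| = 3 ^ p`: counting.
-/
import Mathlib
import Cfsg.Agent.Lib.Helper13.Sol3F

set_option autoImplicit false

namespace Cfsg.Agent.Lib.Helper13.Sol

open Subgroup Matrix Cfsg.Agent.Lib.Helper13 Cfsg.Agent.Lib.Helper13.Dk

variable {F : Type*} [Field F]

/-- The element with prescribed coordinates (characteristic three). -/
def ofCoords (t s u v : F) (h : t ^ 2 + s ^ 2 - u ^ 2 - v ^ 2 = 1) :
    SpecialLinearGroup (Fin 2) F :=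
  ⟨!![-(t + u), s - v; -(v + s), u - t], by
    rw [Matrix.det_fin_two_of]; linear_combination h⟩

theorem tt_ofCoords (h3 : (3 : F) = 0) (t s u v : F) (h : t ^ 2 + s ^ 2 - u ^ 2 - v ^ 2 = 1) :
    tt (ofCoords t s u v h) = t := by
  change -(t + u) + (u - t) = t
  linear_combination (-t) * h3

theorem ss_ofCoords (h3 : (3 : F) = 0) (t s u v : F) (h : t ^ 2 + s ^ 2 - u ^ 2 - v ^ 2 = 1) :
    ss (ofCoords t s u v h) = s := by
  change -(v + s) - (s - v) = s
  linear_combination (-s) * h3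

theorem uu_ofCoords (h3 : (3 : F) = 0) (t s u v : F) (h : t ^ 2 + s ^ 2 - u ^ 2 - v ^ 2 = 1) :
    uu (ofCoords t s u v h) = u := by
  change -(t + u) - (u - t) = u
  linear_combination (-u) * h3

theorem vv_ofCoords (h3 : (3 : F) = 0) (t s u v : F) (h : t ^ 2 + s ^ 2 - u ^ 2 - v ^ 2 = 1) :
    vv (ofCoords t s u v h) = v := by
  change (s - v) + -(v + s) = v
  linear_combination (-v) * h3

theorem ofCoords_eq (h3 : (3 : F) = 0) (y : SpecialLinearGroup (Fin 2) F) (t s u v : F)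
    (h : t ^ 2 + s ^ 2 - u ^ 2 - v ^ 2 = 1) (ht : tt y = t) (hs : ss y = s) (hu : uu y = u)
    (hv : vv y = v) : ofCoords t s u v h = y := by
  have ht' : en y 0 0 + en y 1 1 = t := ht
  have hs' : en y 1 0 - en y 0 1 = s := hs
  have hu' : en y 0 0 - en y 1 1 = u := hu
  have hv' : en y 0 1 + en y 1 0 = v := hv
  apply ext_en
  · change -(t + u) = en y 0 0
    linear_combination ht' + hu' + (-en y 0 0) * h3
  · change s - v = en y 0 1
    linear_combination (-1 : F) * hs' + hv' + (-en y 0 1) * h3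
  · change -(v + s) = en y 1 0
    linear_combination hv' + hs' + (-en y 1 0) * h3
  · change u - t = en y 1 1
    linear_combination (-1 : F) * hu' + ht' + (-en y 1 1) * h3

/-- The circle of radius `k`. -/
def circSet (k : F) : Set (F × F) := {x | x.1 ^ 2 + x.2 ^ 2 = k}

/-- The fibre of the trace coordinates. -/
noncomputable def fibEquiv (h3 : (3 : F) = 0) (t s : F) :
    {y : SpecialLinearGroup (Fin 2) F // tt y = t ∧ ss y = s} ≃ circSet (t ^ 2 + s ^ 2 - 1) where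
  toFun y := ⟨(uu y.1, vv y.1), by
    have hid := coords_identity y.1
    rw [y.2.1, y.2.2] at hid
    change uu y.1 ^ 2 + vv y.1 ^ 2 = t ^ 2 + s ^ 2 - 1
    linear_combination (-1 : F) * hid - h3⟩
  invFun x := ⟨ofCoords t s x.1.1 x.1.2 (by
      have := x.2
      change x.1.1 ^ 2 + x.1.2 ^ 2 = t ^ 2 + s ^ 2 - 1 at this
      linear_combination (-1 : F) * this), tt_ofCoords h3 _ _ _ _ _, ss_ofCoords h3 _ _ _ _ _⟩
  left_inv y := by
    apply Subtype.ext
    dsimp only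
    exact ofCoords_eq h3 y.1 t s (uu y.1) (vv y.1) _ y.2.1 y.2.2 rfl rfl
  right_inv x := by
    apply Subtype.ext
    dsimp only
    exact Prod.ext (uu_ofCoords h3 t s x.1.1 x.1.2 _) (vv_ofCoords h3 t s x.1.1 x.1.2 _)

/-- The centraliser of the Weyl element in coordinates. -/
noncomputable def centEquiv (h3 : (3 : F) = 0) :
    {y : SpecialLinearGroup (Fin 2) F // uu y = 0 ∧ vv y = 0} ≃ circSet (1 : F) where
  toFun y := ⟨(tt y.1, ss y.1), by
    have hid := coords_identity y.1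
    rw [y.2.1, y.2.2] at hid
    change tt y.1 ^ 2 + ss y.1 ^ 2 = 1
    linear_combination hid + h3⟩
  invFun x := ⟨ofCoords x.1.1 x.1.2 0 0 (by
      have := x.2
      change x.1.1 ^ 2 + x.1.2 ^ 2 = 1 at this
      linear_combination this), uu_ofCoords h3 _ _ _ _ _, vv_ofCoords h3 _ _ _ _ _⟩
  left_inv y := by
    apply Subtype.ext
    dsimp only
    exact ofCoords_eq h3 y.1 (tt y.1) (ss y.1) 0 0 _ rfl rfl y.2.1 y.2.2
  right_inv x := by
    apply Subtype.ext
    dsimp only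
    exact Prod.ext (tt_ofCoords h3 x.1.1 x.1.2 0 0 _) (ss_ofCoords h3 x.1.1 x.1.2 0 0 _)

/-- Circles of non-zero radius are torsors under the unit circle. -/
noncomputable def circEquiv (k u₀ v₀ : F) (hk : k ≠ 0) (h₀ : u₀ ^ 2 + v₀ ^ 2 = k) :
    circSet (1 : F) ≃ circSet k where
  toFun x := ⟨(x.1.1 * u₀ - x.1.2 * v₀, x.1.1 * v₀ + x.1.2 * u₀), by
    have := x.2
    change x.1.1 ^ 2 + x.1.2 ^ 2 = 1 at this
    change (x.1.1 * u₀ - x.1.2 * v₀) ^ 2 + (x.1.1 * v₀ + x.1.2 * u₀) ^ 2 = k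
    linear_combination (u₀ ^ 2 + v₀ ^ 2) * this + h₀⟩
  invFun x := ⟨((x.1.1 * u₀ + x.1.2 * v₀) / k, (x.1.2 * u₀ - x.1.1 * v₀) / k), by
    have := x.2
    change x.1.1 ^ 2 + x.1.2 ^ 2 = k at this
    change ((x.1.1 * u₀ + x.1.2 * v₀) / k) ^ 2 + ((x.1.2 * u₀ - x.1.1 * v₀) / k) ^ 2 = 1
    rw [div_pow, div_pow, ← add_div, div_eq_one_iff_eq (pow_ne_zero 2 hk)]
    linear_combination (u₀ ^ 2 + v₀ ^ 2) * this + k * h₀⟩
  left_inv x := by
    apply Subtype.ext
    apply Prod.ext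
    · change ((x.1.1 * u₀ - x.1.2 * v₀) * u₀ + (x.1.1 * v₀ + x.1.2 * u₀) * v₀) / k = x.1.1
      rw [div_eq_iff hk]
      linear_combination x.1.1 * h₀
    · change ((x.1.1 * v₀ + x.1.2 * u₀) * u₀ - (x.1.1 * u₀ - x.1.2 * v₀) * v₀) / k = x.1.2
      rw [div_eq_iff hk]
      linear_combination x.1.2 * h₀
  right_inv x := by
    apply Subtype.ext
    apply Prod.ext
    · change (x.1.1 * u₀ + x.1.2 * v₀) / k * u₀ - (x.1.2 * u₀ - x.1.1 * v₀) / k * v₀ = x.1.1
      field_simp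
      linear_combination x.1.1 * h₀
    · change (x.1.1 * u₀ + x.1.2 * v₀) / k * v₀ + (x.1.2 * u₀ - x.1.1 * v₀) / k * u₀ = x.1.2
      field_simp
      linear_combination x.1.2 * h₀

variable [Fintype F]

theorem eq_sq_or_neg_sq {p : ℕ} (hp : p.Prime) (hodd : Odd p) (hF : Fintype.card F = 3 ^ p)
    (k : F) (hk : k ≠ 0) : ∃ m : F, k = m ^ 2 ∨ k = -m ^ 2 := by
  have h3 : (3 : F) = 0 := three_eq_zero_of_card hp hF
  have hcharP : CharP F 3 := by
    have h : ((3 : ℕ) : F) = 0 := by exact_mod_cast h3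
    exact (CharP.charP_iff_prime_eq_zero Nat.prime_three).mpr h
  have hchar : ringChar F ≠ 2 := by
    rw [ringChar.eq F 3]; norm_num
  obtain ⟨j, hj⟩ := three_pow_odd hodd
  have hq2 : Fintype.card F / 2 = 4 * j + 1 := by rw [hF, hj]; omega
  rcases FiniteField.pow_dichotomy hchar hk with h | h
  · obtain ⟨m, hm⟩ := (FiniteField.isSquare_iff hchar hk).mpr h
    exact ⟨m, Or.inl (by rw [hm]; ring)⟩
  · have h' : (-k) ^ (Fintype.card F / 2) = 1 := by
      rw [hq2] at h ⊢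
      rw [neg_pow, h, Odd.neg_one_pow ⟨2 * j, by ring⟩]; ring
    obtain ⟨m, hm⟩ := (FiniteField.isSquare_iff hchar (neg_ne_zero.mpr hk)).mpr h'
    exact ⟨m, Or.inr (by linear_combination (-1 : F) * hm)⟩

theorem card_circ_one {p : ℕ} (hp : p.Prime) (hodd : Odd p) (hF : Fintype.card F = 3 ^ p) :
    Nat.card (circSet (1 : F)) = Fintype.card F + 1 := by
  have h3 : (3 : F) = 0 := three_eq_zero_of_card hp hF
  have h2 : (2 : F) ≠ 0 := two_ne_zero_of_three h3
  have hw4 : ((wSL3 F : SpecialLinearGroup (Fin 2) F) : Matrix (Fin 2) (Fin 2) F).trace ^ 2 ≠ 4 := by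
    rw [trace_wSL3, four_eq_one_of_three h3]
    norm_num
  have hns : ∀ a : F, a * (((wSL3 F : SpecialLinearGroup (Fin 2) F) :
      Matrix (Fin 2) (Fin 2) F).trace - a) ≠ 1 := by
    intro a ha
    rw [trace_wSL3] at ha
    apply neg_one_not_sq hp hodd hF a
    linear_combination (-1 : F) * ha
  rw [← card_centralizer_nonsplit (wSL3 F) hw4 hns, ← Nat.card_congr (centEquiv h3)]
  apply Nat.card_congr
  apply Equiv.subtypeEquivRight
  intro y
  rw [← commute_wSL3_iff, mem_centralizer_singleton_iff]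
  exact eq_comm

theorem card_circ {p : ℕ} (hp : p.Prime) (hodd : Odd p) (hF : Fintype.card F = 3 ^ p)
    (k : F) (hk : k ≠ 0) : Nat.card (circSet k) = Fintype.card F + 1 := by
  have h3 : (3 : F) = 0 := three_eq_zero_of_card hp hF
  obtain ⟨m, hm | hm⟩ := eq_sq_or_neg_sq hp hodd hF k hk
  · rw [← card_circ_one hp hodd hF]
    exact (Nat.card_congr (circEquiv k m 0 hk (by rw [hm]; ring))).symm
  · rw [← card_circ_one hp hodd hF]
    exact (Nat.card_congr (circEquiv k m m hk (by rw [hm]; linear_combination (m ^ 2) * h3))).symm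

theorem card_fib {p : ℕ} (hp : p.Prime) (hodd : Odd p) (hF : Fintype.card F = 3 ^ p)
    (t s : F) (hk : t ^ 2 + s ^ 2 - 1 ≠ 0) :
    Nat.card {y : SpecialLinearGroup (Fin 2) F // tt y = t ∧ ss y = s} = Fintype.card F + 1 := by
  have h3 : (3 : F) = 0 := three_eq_zero_of_card hp hF
  rw [Nat.card_congr (fibEquiv h3 t s), card_circ hp hodd hF _ hk]

/-- Counting by fibres of the trace coordinates. -/
theorem card_of_fibers {p : ℕ} (hp : p.Prime) (hodd : Odd p) (hF : Fintype.card F = 3 ^ p)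
    (P : F × F → Prop) (hP : ∀ ts, P ts → ts.1 ^ 2 + ts.2 ^ 2 - 1 ≠ 0) :
    Nat.card {y : SpecialLinearGroup (Fin 2) F // P (tt y, ss y)} =
      (Fintype.card F + 1) * Nat.card {ts : F × F // P ts} := by
  apply card_eq_mul_of_fibers
    (fun y : {y : SpecialLinearGroup (Fin 2) F // P (tt y, ss y)} =>
      (⟨(tt y.1, ss y.1), y.2⟩ : {ts : F × F // P ts}))
  intro b
  rw [← card_fib hp hodd hF b.1.1 b.1.2 (hP b.1 b.2)]
  apply Nat.card_congr
  refine ⟨fun a => ⟨a.1.1, ?_⟩, fun y => ⟨⟨y.1, ?_⟩, ?_⟩, ?_, ?_⟩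
  · have := congrArg Subtype.val a.2
    exact ⟨congrArg Prod.fst this, congrArg Prod.snd this⟩
  · rw [y.2.1, y.2.2]; exact b.2
  · apply Subtype.ext
    exact Prod.ext y.2.1 y.2.2
  · intro a; rfl
  · intro y; rfl

end Cfsg.Agent.Lib.Helper13.Sol
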