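/-
helper13: the solubilizer of an element of order four of `SL₂(F)`, `|F| = 3 ^ p`: the final count.
-/
import Mathlib
import Cfsg.Agent.Lib.Helper13.Sol3G

set_option autoImplicit false

namespace Cfsg.Agent.Lib.Helper13.Sol

open Subgroup Matrix Cfsg.Agent.Lib.Helper13 Cfsg.Agent.Lib.Helper13.Dk

variable {F : Type*} [Field F] [Fintype F]

theorem card_sq_ne_one (h2 : (2 : F) ≠ 0) :
    Nat.card {s : F // ¬ s ^ 2 = 1} = Fintype.card F - 2 := by
  classical
  rw [Nat.card_eq_fintype_card, Fintype.card_subtype_compl, ← Nat.card_eq_fintype_card (α := {s : F // s ^ 2 = 1}),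
    card_sq_eq_one_of_two_ne_zero h2]

theorem card_cube_ne_self (h3 : (3 : F) = 0) :
    Nat.card {t : F // ¬ t ^ 3 = t} = Fintype.card F - 3 := by
  classical
  rw [Nat.card_eq_fintype_card, Fintype.card_subtype_compl, ← Nat.card_eq_fintype_card (α := {t : F // t ^ 3 = t}),
    card_cube_eq_self h3]

theorem card_index_one (h2 : (2 : F) ≠ 0) :
    Nat.card {ts : F × F // ts.1 = 0 ∧ ¬ ts.2 ^ 2 = 1} = Fintype.card F - 2 := by
  rw [← card_sq_ne_one h2]
  apply Nat.card_congr
  refine ⟨fun ts => ⟨ts.1.2, ts.2.2⟩, fun s => ⟨(0, s.1), rfl, s.2⟩, ?_, ?_⟩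
  · intro ts
    apply Subtype.ext
    exact Prod.ext ts.2.1.symm rfl
  · intro s; rfl

theorem card_index_two (h3 : (3 : F) = 0) :
    Nat.card {ts : F × F // ts.2 = 0 ∧ ¬ ts.1 ^ 3 = ts.1} = Fintype.card F - 3 := by
  rw [← card_cube_ne_self h3]
  apply Nat.card_congr
  refine ⟨fun ts => ⟨ts.1.1, ts.2.2⟩, fun t => ⟨(t.1, 0), rfl, t.2⟩, ?_, ?_⟩
  · intro ts
    apply Subtype.ext
    exact Prod.ext rfl ts.2.1.symm
  · intro t; rfl

theorem card_index_three (h2 : (2 : F) ≠ 0) :
    Nat.card {ts : F × F // ts.1 ^ 2 = 1 ∧ ts.2 ^ 2 = 1} = 4 := by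
  have : Nat.card ({e : F // e ^ 2 = 1} × {e : F // e ^ 2 = 1}) = 4 := by
    rw [Nat.card_prod, card_sq_eq_one_of_two_ne_zero h2]
  rw [← this]
  apply Nat.card_congr
  refine ⟨fun ts => (⟨ts.1.1, ts.2.1⟩, ⟨ts.1.2, ts.2.2⟩), fun e => ⟨(e.1.1, e.2.1), e.1.2, e.2.2⟩, ?_, ?_⟩
  · intro ts; rfl
  · intro e; rfl

theorem ncard_setW {p : ℕ} (hp : p.Prime) (hodd : Odd p) (hF : Fintype.card F = 3 ^ p) :
    (setW F).ncard = 2 * Fintype.card F * (Fintype.card F + 1) := by
  classical
  have h3 : (3 : F) = 0 := three_eq_zero_of_card hp hF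
  have h2 : (2 : F) ≠ 0 := two_ne_zero_of_three h3
  have hfin : ∀ s : Set (SpecialLinearGroup (Fin 2) F), s.Finite := fun s => Set.toFinite s
  obtain ⟨S₀, hS₀⟩ : ∃ S : Set (SpecialLinearGroup (Fin 2) F), S = {y | uu y = 0 ∧ vv y = 0} :=
    ⟨_, rfl⟩
  obtain ⟨S₁, hS₁⟩ : ∃ S : Set (SpecialLinearGroup (Fin 2) F),
      S = {y | tt y = 0 ∧ ¬ ss y ^ 2 = 1} := ⟨_, rfl⟩
  obtain ⟨S₂, hS₂⟩ : ∃ S : Set (SpecialLinearGroup (Fin 2) F),
      S = {y | ss y = 0 ∧ ¬ tt y ^ 3 = tt y} := ⟨_, rfl⟩
  obtain ⟨S₃, hS₃⟩ : ∃ S : Set (SpecialLinearGroup (Fin 2) F),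
      S = {y | tt y ^ 2 = 1 ∧ ss y ^ 2 = 1} := ⟨_, rfl⟩
  have hc0 : S₀.ncard = Fintype.card F + 1 := by
    rw [← Nat.card_coe_set_eq, hS₀, ← card_circ_one hp hodd hF]
    exact Nat.card_congr (centEquiv h3)
  have hc1 : S₁.ncard = (Fintype.card F + 1) * (Fintype.card F - 2) := by
    rw [← Nat.card_coe_set_eq, hS₁, ← card_index_one h2]
    exact card_of_fibers hp hodd hF (fun ts => ts.1 = 0 ∧ ¬ ts.2 ^ 2 = 1) (by
      rintro ⟨t, s⟩ ⟨ht, hs⟩ h
      apply hs
      simp only at ht h ⊢
      rw [ht] at h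
      linear_combination h)
  have hc2 : S₂.ncard = (Fintype.card F + 1) * (Fintype.card F - 3) := by
    rw [← Nat.card_coe_set_eq, hS₂, ← card_index_two h3]
    exact card_of_fibers hp hodd hF (fun ts => ts.2 = 0 ∧ ¬ ts.1 ^ 3 = ts.1) (by
      rintro ⟨t, s⟩ ⟨hs, ht⟩ h
      apply ht
      simp only at hs h ⊢
      rw [hs] at h
      linear_combination t * h)
  have hc3 : S₃.ncard = (Fintype.card F + 1) * 4 := by
    rw [← Nat.card_coe_set_eq, hS₃, ← card_index_three h2]
    exact card_of_fibers hp hodd hF (fun ts => ts.1 ^ 2 = 1 ∧ ts.2 ^ 2 = 1) (by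
      rintro ⟨t, s⟩ ⟨ht, hs⟩ h
      simp only at ht hs h
      have : (1 : F) = 0 := by linear_combination h - ht - hs
      exact one_ne_zero this)
  -- on `S₀` the trace coordinates lie on the unit circle
  have hcirc : ∀ y ∈ S₀, tt y ^ 2 + ss y ^ 2 = 1 := by
    intro y hy
    rw [hS₀] at hy
    have hid := coords_identity y
    rw [hy.1, hy.2] at hid
    linear_combination hid + h3
  have hdecomp : setW F = ((S₀ ∪ S₁) ∪ S₂) ∪ S₃ := by
    ext y
    simp only [Set.mem_union]
    constructor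
    · intro hy
      by_cases hk : tt y ^ 2 + ss y ^ 2 - 1 = 0
      · left; left; left
        rw [hS₀]
        have hid := coords_identity y
        have huv : uu y ^ 2 + vv y ^ 2 = 0 := by linear_combination hk - hid - h3
        exact sq_add_sq_eq_zero hp hodd hF huv
      · rcases hy with ht | hs | huv | ⟨ht, hs⟩
        · left; left; right
          rw [hS₁]
          refine ⟨ht, fun hs => hk ?_⟩
          rw [ht, hs]; ring
        · by_cases ht : tt y = 0
          · left; left; right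
            rw [hS₁]
            refine ⟨ht, fun hs' => hk ?_⟩
            rw [ht, hs']; ring
          · left; right
            rw [hS₂]
            refine ⟨hs, fun ht3 => hk ?_⟩
            have h1 : tt y * (tt y ^ 2 - 1) = 0 := by linear_combination ht3
            have h5 := (mul_eq_zero.mp h1).resolve_left ht
            rw [hs]
            linear_combination h5
        · exfalso
          apply hk
          have hid := coords_identity y
          rw [huv.1, huv.2] at hid
          linear_combination hid + h3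
        · right
          rw [hS₃]
          exact ⟨ht, hs⟩
    · rintro (((hy | hy) | hy) | hy)
      · rw [hS₀] at hy
        exact Or.inr (Or.inr (Or.inl hy))
      · rw [hS₁] at hy
        exact Or.inl hy.1
      · rw [hS₂] at hy
        exact Or.inr (Or.inl hy.1)
      · rw [hS₃] at hy
        exact Or.inr (Or.inr (Or.inr hy))
  have hd1 : Disjoint S₀ S₁ := by
    rw [Set.disjoint_left]
    intro y hy hy'
    have hc := hcirc y hy
    rw [hS₁] at hy'
    apply hy'.2
    rw [hy'.1] at hc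
    linear_combination hc
  have hd2 : Disjoint (S₀ ∪ S₁) S₂ := by
    rw [Set.disjoint_left]
    intro y hy hy'
    rw [hS₂] at hy'
    rcases hy with hy | hy
    · have hc := hcirc y hy
      apply hy'.2
      rw [hy'.1] at hc
      linear_combination (tt y) * hc
    · rw [hS₁] at hy
      apply hy'.2
      rw [hy.1]; ring
  have hd3 : Disjoint ((S₀ ∪ S₁) ∪ S₂) S₃ := by
    rw [Set.disjoint_left]
    intro y hy hy'
    rw [hS₃] at hy'
    rcases hy with (hy | hy) | hy
    · have hc := hcirc y hy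
      have : (1 : F) = 0 := by linear_combination hc - hy'.1 - hy'.2
      exact one_ne_zero this
    · rw [hS₁] at hy
      have := hy'.1
      rw [hy.1] at this
      norm_num at this
    · rw [hS₂] at hy
      apply hy.2
      linear_combination (tt y) * hy'.1
  rw [hdecomp, Set.ncard_union_eq hd3 (hfin _) (hfin _), Set.ncard_union_eq hd2 (hfin _) (hfin _),
    Set.ncard_union_eq hd1 (hfin _) (hfin _), hc0, hc1, hc2, hc3]
  have hq : 4 ≤ Fintype.card F := by rw [hF]; exact three_pow_ge_four hp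
  obtain ⟨r, hr⟩ : ∃ r, Fintype.card F = r + 3 := ⟨Fintype.card F - 3, by omega⟩
  rw [hr]
  have e1 : r + 3 - 2 = r + 1 := by omega
  have e2 : r + 3 - 3 = r := by omega
  rw [e1, e2]
  ring

/-- The solubilizer of the Weyl element has `2 q (q + 1)` elements. -/
theorem card_sol_wSL3 {p : ℕ} (hp : p.Prime) (hodd : Odd p) (hF : Fintype.card F = 3 ^ p) :
    Nat.card {y : SpecialLinearGroup (Fin 2) F // Group.IsSolvable
      ↥(Subgroup.closure ({wSL3 F, y} : Set (SpecialLinearGroup (Fin 2) F)))} =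
      2 * Fintype.card F * (Fintype.card F + 1) := by
  rw [← ncard_setW hp hodd hF, ← Nat.card_coe_set_eq]
  apply Nat.card_congr
  apply Equiv.subtypeEquivRight
  intro y
  exact ⟨fun h => mem_setW_of_isSolvable hp hodd hF y h,
    fun h => isSolvable_of_mem_setW hp hodd hF y h⟩

/-- The solubilizer of an element of trace zero. -/
theorem card_sol_trace_zero {p : ℕ} (hp : p.Prime) (hodd : Odd p) (hF : Fintype.card F = 3 ^ p)
    (x : SpecialLinearGroup (Fin 2) F) (hx : (x : Matrix (Fin 2) (Fin 2) F).trace = 0) :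
    Nat.card {y : SpecialLinearGroup (Fin 2) F // Group.IsSolvable
      ↥(Subgroup.closure ({x, y} : Set (SpecialLinearGroup (Fin 2) F)))} =
      2 * 3 ^ p * (3 ^ p + 1) := by
  have h3 : (3 : F) = 0 := three_eq_zero_of_card hp hF
  have hx4 : (x : Matrix (Fin 2) (Fin 2) F).trace ^ 2 ≠ 4 := by
    rw [hx, four_eq_one_of_three h3]
    norm_num
  obtain ⟨c, hc⟩ := isConj_iff.mp (isConj_of_trace_eq x (wSL3 F) (by rw [hx, trace_wSL3]) hx4)
  have h := card_sol_congr (MulAut.conj c) x
  rw [MulAut.conj_apply, hc] at h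
  rw [← h, card_sol_wSL3 hp hodd hF, hF]

end Cfsg.Agent.Lib.Helper13.Sol
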