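/-
helper13: cubes of elements of `SL₂(F)` in characteristic three, and the lifting lemmas for the
solubilizer count in `PSL₂(3 ^ p)`.
-/
import Mathlib
import Cfsg.Agent.Lib.Helper13.Sol3H

set_option autoImplicit false

namespace Cfsg.Agent.Lib.Helper13.Sol

open Subgroup Matrix Cfsg.Agent.Lib.Helper13 Cfsg.Agent.Lib.Helper13.Dk

variable {F : Type*} [Field F]

/-- The cube of an element of `SL₂`. -/
theorem coe_pow_three (g : SpecialLinearGroup (Fin 2) F) :
    ((g ^ 3 : SpecialLinearGroup (Fin 2) F) : Matrix (Fin 2) (Fin 2) F) =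
      ((g : Matrix (Fin 2) (Fin 2) F).trace ^ 2 - 1) • (g : Matrix (Fin 2) (Fin 2) F) -
        (g : Matrix (Fin 2) (Fin 2) F).trace • (1 : Matrix (Fin 2) (Fin 2) F) := by
  have hch := cayley_hamilton_two (g : Matrix (Fin 2) (Fin 2) F) g.2
  rw [← Matrix.trace_fin_two] at hch
  rw [Matrix.SpecialLinearGroup.coe_pow, pow_succ, pow_two, hch, sub_mul, Matrix.smul_mul, hch,
    one_mul]
  ext i j
  simp only [Matrix.sub_apply, Matrix.smul_apply, smul_eq_mul, Matrix.one_apply]
  ring

/-- In characteristic three the cube of an element with `tr² = 4` is central. -/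
theorem pow_three_of_trace_sq (h3 : (3 : F) = 0) (g : SpecialLinearGroup (Fin 2) F)
    (htr : (g : Matrix (Fin 2) (Fin 2) F).trace ^ 2 = 4) : g ^ 3 = 1 ∨ g ^ 3 = zSL F := by
  have hc := coe_pow_three g
  have h0 : (g : Matrix (Fin 2) (Fin 2) F).trace ^ 2 - 1 = 0 := by
    rw [htr]; linear_combination h3
  rw [h0, zero_smul, zero_sub] at hc
  have h5 : ((g : Matrix (Fin 2) (Fin 2) F).trace - 2) *
      ((g : Matrix (Fin 2) (Fin 2) F).trace + 2) = 0 := by linear_combination htr
  rcases mul_eq_zero.mp h5 with h | h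
  · left
    apply Subtype.ext
    rw [hc, Matrix.SpecialLinearGroup.coe_one, sub_eq_zero.mp h]
    ext i j
    simp only [Matrix.neg_apply, Matrix.smul_apply, smul_eq_mul, Matrix.one_apply]
    split_ifs
    · linear_combination (-1 : F) * h3
    · ring
  · right
    apply Subtype.ext
    rw [hc, zSL_coe, eq_neg_of_add_eq_zero_left h]
    ext i j
    fin_cases i <;> fin_cases j <;> simp <;> linear_combination h3

variable [Fintype F]

/-- In characteristic three an element of order three has trace two. -/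
theorem trace_eq_two_of_pow_three (h3 : (3 : F) = 0) (g : SpecialLinearGroup (Fin 2) F)
    (hg : g ^ 3 = 1) (hne : g ≠ 1) : (g : Matrix (Fin 2) (Fin 2) F).trace = 2 := by
  have h2 : (2 : F) ≠ 0 := two_ne_zero_of_three h3
  have hc := coe_pow_three g
  rw [hg, Matrix.SpecialLinearGroup.coe_one] at hc
  obtain ⟨τ, hτ⟩ : ∃ τ, τ = (g : Matrix (Fin 2) (Fin 2) F).trace := ⟨_, rfl⟩
  rw [← hτ] at hc ⊢
  have e00 := congrFun (congrFun hc 0) 0
  have e01 := congrFun (congrFun hc 0) 1
  have e10 := congrFun (congrFun hc 1) 0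
  have e11 := congrFun (congrFun hc 1) 1
  simp only [Matrix.sub_apply, Matrix.smul_apply, smul_eq_mul, Matrix.one_apply_eq,
    Matrix.one_apply_ne, ne_eq, zero_ne_one, one_ne_zero, not_false_eq_true, mul_zero, mul_one,
    sub_zero] at e00 e01 e10 e11
  by_cases hτ2 : τ ^ 2 - 1 = 0
  · -- then `1 + τ = 0`
    have : (1 : F) + τ = 0 := by
      rw [hτ2, zero_mul] at e00
      linear_combination e00
    linear_combination this - h3
  · exfalso
    have h01 : (g : Matrix (Fin 2) (Fin 2) F) 0 1 = 0 := by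
      have := e01.symm
      exact (mul_eq_zero.mp this).resolve_left hτ2
    have h10 : (g : Matrix (Fin 2) (Fin 2) F) 1 0 = 0 := by
      have := e10.symm
      exact (mul_eq_zero.mp this).resolve_left hτ2
    have h0011 : (g : Matrix (Fin 2) (Fin 2) F) 0 0 = (g : Matrix (Fin 2) (Fin 2) F) 1 1 := by
      have : (τ ^ 2 - 1) * ((g : Matrix (Fin 2) (Fin 2) F) 0 0 -
          (g : Matrix (Fin 2) (Fin 2) F) 1 1) = 0 := by linear_combination e11 - e00
      exact sub_eq_zero.mp ((mul_eq_zero.mp this).resolve_left hτ2)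
    have hd := det_en g
    have h01' : en g 0 1 = 0 := h01
    have h10' : en g 1 0 = 0 := h10
    have h0011' : en g 0 0 = en g 1 1 := h0011
    rw [h01', h0011', zero_mul, sub_zero] at hd
    have hτ' : τ = 2 * en g 1 1 := by
      rw [hτ, trace_en, h0011']; ring
    -- `a² = 1`, `τ = 2a`, so `τ² = 4 = 1`
    apply hτ2
    rw [hτ']
    linear_combination 4 * hd + h3

omit [Fintype F] in
/-- The order of the image in `PSL₂` divides the order in `SL₂`. -/
theorem orderOf_mk_dvd (g : SpecialLinearGroup (Fin 2) F) :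
    orderOf (QuotientGroup.mk g : ProjectiveSpecialLinearGroup (Fin 2) F) ∣ orderOf g :=
  orderOf_map_dvd (QuotientGroup.mk' (Subgroup.center (SpecialLinearGroup (Fin 2) F))) g

/-- The lift of an element of `PSL₂` of order prime to six and dividing `q ∓ 1` is regular
semisimple. -/
theorem lift_facts {p : ℕ} (hp : p.Prime) (hodd : Odd p) (hF : Fintype.card F = 3 ^ p)
    (X : SpecialLinearGroup (Fin 2) F)
    (h1 : (QuotientGroup.mk X : ProjectiveSpecialLinearGroup (Fin 2) F) ≠ 1)
    (h2' : orderOf (QuotientGroup.mk X : ProjectiveSpecialLinearGroup (Fin 2) F) ≠ 2)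
    (hco : ¬ 3 ∣ orderOf (QuotientGroup.mk X : ProjectiveSpecialLinearGroup (Fin 2) F)) :
    en X 0 0 + en X 1 1 ≠ 0 ∧ (X : Matrix (Fin 2) (Fin 2) F).trace ^ 2 ≠ 4 := by
  have h3 : (3 : F) = 0 := three_eq_zero_of_card hp hF
  have h2 : (2 : F) ≠ 0 := two_ne_zero_of_three h3
  constructor
  · intro h
    apply h2'
    exact orderOf_mk_of_mul_self h2 X (mul_self_of_trace_eq_zero X (by rw [trace_en]; exact h))
  · intro h
    have hpow : (QuotientGroup.mk X : ProjectiveSpecialLinearGroup (Fin 2) F) ^ 3 = 1 := by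
      rw [← QuotientGroup.mk_pow]
      rcases pow_three_of_trace_sq h3 X h with h' | h'
      · rw [h']; rfl
      · rw [h']; exact mk_zSL
    have hd := orderOf_dvd_of_pow_eq_one hpow
    rcases (Nat.dvd_prime Nat.prime_three).mp hd with h' | h'
    · exact h1 (orderOf_eq_one_iff.mp h')
    · exact hco (by rw [h'])

end Cfsg.Agent.Lib.Helper13.Sol
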