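import Mathlib
import Cfsg.Agent.Lib.Helper29.SpAschDefs
import Cfsg.Agent.Lib.Helper13.DSCCore

/-!
S5662 (Aschbacher for `Sp_2m(F)`), block [DSC] `sgeo_of_realisable` (exact signature of `notes/S5662_leaves.lean`):
form-aware subfield descent, class C5.  Generic core: `Cfsg.Agent.Lib.Helper13.DSC.dsc_core` (any invertible Gram matrix).
-/

set_option autoImplicit false
set_option linter.unusedSectionVars false
set_option linter.unusedVariables false

namespace Cfsg.Agent.Lib.Helper13.SpAschLeaf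
open Matrix Cfsg Cfsg.Geo Cfsg.Agent.Lib.Helper20.Asch Cfsg.Agent.Lib.Helper29.SpAsch
open scoped Kronecker

variable {F : Type*} [Field F] [Fintype F] {n m : ℕ} {J : Matrix (Fin n) (Fin n) F}
  {H N : Subgroup (GL (Fin n) F)}

/-- [DSC] FORM-AWARE SUBFIELD DESCENT: C5. -/
theorem sgeo_of_realisable (h : SpCtx J m H) (hN : N ≤ H) (hnorm : NormBy H N) (habs : AbsIrr N)
    (F₀ : Subfield F) (hF₀ : F₀ ≠ ⊤) (hreal : RealisableOver F₀ (matrixSet N)) : SGeo J m H := by
  obtain ⟨F₁, r, P, ζ, hr, hcard, hζ, hform, hHP⟩ :=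
    Cfsg.Agent.Lib.Helper13.DSC.dsc_core h.alt.det hN hnorm habs (hN.trans h.le) F₀ hF₀ hreal
  exact SGeo.of_C5 h.le F₁ r P ζ hr hcard hζ hform hHP

end Cfsg.Agent.Lib.Helper13.SpAschLeaf
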