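/-
helper13: S2281, the core for `q` even (`q ≥ 4`), all `n ≥ 2` (paper proof = helper25's
`notes/S2281_helper25.md`, "Core q EVEN"): abstract form.

`X ≤ Sp_2m(F)`, `char F = 2`; vectors `v, z1, z2` with `f(v,z1) = f(v,z2) = 0`, `f(z1,z2) = 1`,
such that the seven vectors `z2, v, z1, z1+z2, v+z2, v+z1, v+z1+z2` lie in ONE `X`-orbit, and
`Tr z2 z ∈ X` for an element `z` whose powers `z^(k+1)` exhaust `F \ {0}`.
Then the whole long root group `Tr z2 F` lies in `X` (`z2 ∈ Rt X`).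
-/
import Mathlib
import Cfsg.Agent.Lib.Helper6.SpGenB

set_option autoImplicit false

namespace Cfsg.Agent.Lib.Helper13.SpEven

open Matrix Cfsg.Agent.Lib.Helper5 Cfsg.Agent.Lib.Helper14.SpPerfect Cfsg.Agent.Lib.Helper14
open Cfsg.Agent.Lib.Helper6.SpGen

variable {F : Type*} [Field F] {m : ℕ}

/-- the short root element `S_{v,z}(g)` (for `v ⊥ z`, characteristic 2) as a product of three
transvections -/
def Sel (v z : Fin m ⊕ Fin m → F) (g : F) : Matrix.symplecticGroup (Fin m) F :=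
  Tr (v + z) g * Tr v g * Tr z g

theorem ap_Sel (h2 : (2 : F) = 0) {v z : Fin m ⊕ Fin m → F}
    (hvz : Cfsg.sympForm m F v z = 0) (g : F) (x : Fin m ⊕ Fin m → F) :
    ap (Sel v z g) x =
      x + g • (Cfsg.sympForm m F x v • z + Cfsg.sympForm m F x z • v) := by
  have hzv : Cfsg.sympForm m F z v = 0 := by rw [sympForm_swap, hvz, neg_zero]
  unfold Sel
  rw [ap_mul, ap_mul, ap_Tr, ap_Tr, ap_Tr]
  simp only [sympForm_add_left, sympForm_add_right, sympForm_smul_left, sympForm_self, hvz, hzv,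
    mul_zero, add_zero]
  ext i
  simp only [Pi.add_apply, Pi.smul_apply, smul_eq_mul]
  linear_combination (g * (Cfsg.sympForm m F x z * z i + Cfsg.sympForm m F x v * v i)) * h2


/-- in characteristic 2, `-1 = 1` -/
theorem neg_one_eq_one (h2 : (2 : F) = 0) : (-1 : F) = 1 := by
  linear_combination (-1 : F) * h2

/-- transport of a transvection along the orbit relation -/
theorem Tr_mem_of_rel {X : Subgroup (Matrix.symplecticGroup (Fin m) F)}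
    {a b : Fin m ⊕ Fin m → F} (h : Rel X a b) {c : F} (ha : Tr a c ∈ X) : Tr b c ∈ X := by
  obtain ⟨g, hg, rfl⟩ := h
  rw [← conj_Tr']
  exact X.mul_mem (X.mul_mem hg ha) (X.inv_mem hg)

theorem Tr_mem_of_rel' {X : Subgroup (Matrix.symplecticGroup (Fin m) F)}
    {a b : Fin m ⊕ Fin m → F} (h : Rel X a b) {c : F} (hb : Tr b c ∈ X) : Tr a c ∈ X := by
  obtain ⟨g, hg, rfl⟩ := h
  have e : Tr a c = g⁻¹ * Tr (ap g a) c * g⁻¹⁻¹ := by
    rw [conj_Tr', ap_inv_ap]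
  rw [e]
  exact X.mul_mem (X.mul_mem (X.inv_mem hg) hb) (X.inv_mem (X.inv_mem hg))

theorem Sel_mem {X : Subgroup (Matrix.symplecticGroup (Fin m) F)} {v z : Fin m ⊕ Fin m → F}
    {g : F} (h1 : Tr (v + z) g ∈ X) (h2 : Tr v g ∈ X) (h3 : Tr z g ∈ X) : Sel v z g ∈ X :=
  X.mul_mem (X.mul_mem h1 h2) h3

/-- (R2), the pencil identity: `S_{v,z1}(g) S_{v,z2}(g) = T_v(g² f(z2,z1)) S_{v,z1+z2}(g)` -/
theorem Sel_mul_Sel (h2 : (2 : F) = 0) {v z1 z2 : Fin m ⊕ Fin m → F}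
    (hv1 : Cfsg.sympForm m F v z1 = 0) (hv2 : Cfsg.sympForm m F v z2 = 0) (g : F) :
    Sel v z1 g * Sel v z2 g =
      Tr v (g ^ 2 * Cfsg.sympForm m F z2 z1) * Sel v (z1 + z2) g := by
  have hv12 : Cfsg.sympForm m F v (z1 + z2) = 0 := by rw [sympForm_add_right, hv1, hv2, add_zero]
  have h1v : Cfsg.sympForm m F z1 v = 0 := by rw [sympForm_swap, hv1, neg_zero]
  have h2v : Cfsg.sympForm m F z2 v = 0 := by rw [sympForm_swap, hv2, neg_zero]
  apply ap_ext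
  intro x
  rw [ap_mul, ap_mul, ap_Sel h2 hv2, ap_Sel h2 hv1, ap_Sel h2 hv12, ap_Tr]
  simp only [sympForm_add_left, sympForm_add_right, sympForm_smul_left, sympForm_self, hv1,
    h1v, h2v, mul_zero, add_zero]
  ext i
  simp only [Pi.add_apply, Pi.smul_apply, smul_eq_mul]
  ring

/-- `S_{y, z•v}(g) = S_{y,v}(z g)` -/
theorem Sel_smul (h2 : (2 : F) = 0) {y v : Fin m ⊕ Fin m → F}
    (hyv : Cfsg.sympForm m F y v = 0) (z g : F) : Sel y (z • v) g = Sel y v (z * g) := by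
  have hyzv : Cfsg.sympForm m F y (z • v) = 0 := by rw [sympForm_smul_right, hyv, mul_zero]
  apply ap_ext
  intro x
  rw [ap_Sel h2 hyzv, ap_Sel h2 hyv]
  simp only [sympForm_smul_right]
  ext i
  simp only [Pi.add_apply, Pi.smul_apply, smul_eq_mul]
  ring

section core

variable {X : Subgroup (Matrix.symplecticGroup (Fin m) F)} {v z1 z2 : Fin m ⊕ Fin m → F}

/-- step (1): squaring -/
theorem sq_mem (h2 : (2 : F) = 0)
    (hv1 : Cfsg.sympForm m F v z1 = 0) (hv2 : Cfsg.sympForm m F v z2 = 0)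
    (h12 : Cfsg.sympForm m F z1 z2 = 1)
    (o1 : Rel X z2 v) (o2 : Rel X z2 z1) (o3 : Rel X z2 (z1 + z2)) (o4 : Rel X z2 (v + z2))
    (o5 : Rel X z2 (v + z1)) (o6 : Rel X z2 (v + (z1 + z2)))
    {g : F} (hg : Tr z2 g ∈ X) : Tr z2 (g ^ 2) ∈ X := by
  have s1 : Sel v z1 g ∈ X :=
    Sel_mem (Tr_mem_of_rel o5 hg) (Tr_mem_of_rel o1 hg) (Tr_mem_of_rel o2 hg)
  have s2 : Sel v z2 g ∈ X := Sel_mem (Tr_mem_of_rel o4 hg) (Tr_mem_of_rel o1 hg) hg
  have s3 : Sel v (z1 + z2) g ∈ X :=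
    Sel_mem (Tr_mem_of_rel o6 hg) (Tr_mem_of_rel o1 hg) (Tr_mem_of_rel o3 hg)
  have h21 : Cfsg.sympForm m F z2 z1 = 1 := by
    rw [sympForm_swap, h12, neg_one_eq_one h2]
  have key := Sel_mul_Sel h2 hv1 hv2 g
  rw [h21, mul_one] at key
  have e : Tr v (g ^ 2) = Sel v z1 g * Sel v z2 g * (Sel v (z1 + z2) g)⁻¹ := by
    rw [key, mul_inv_cancel_right]
  have hv : Tr v (g ^ 2) ∈ X := by
    rw [e]
    exact X.mul_mem (X.mul_mem s1 s2) (X.inv_mem s3)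
  exact Tr_mem_of_rel' o1 hv

/-- step (2): the loop `g, z g ∈ A ⟹ z² g ∈ A` -/
theorem loop_mem (h2 : (2 : F) = 0)
    (hv1 : Cfsg.sympForm m F v z1 = 0) (hv2 : Cfsg.sympForm m F v z2 = 0)
    (h12 : Cfsg.sympForm m F z1 z2 = 1)
    (o1 : Rel X z2 v) (o2 : Rel X z2 z1) (o4 : Rel X z2 (v + z2))
    (o5 : Rel X z2 (v + z1))
    {z : F} (hzA : Tr z2 z ∈ X) {g : F} (hg : Tr z2 g ∈ X) (hzg : Tr z2 (z * g) ∈ X) :
    Tr z2 (z ^ 2 * g) ∈ X := by
  have h2v : Cfsg.sympForm m F z2 v = 0 := by rw [sympForm_swap, hv2, neg_zero]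
  have h21 : Cfsg.sympForm m F z2 z1 = 1 := by
    rw [sympForm_swap, h12, neg_one_eq_one h2]
  -- `S_{v,z1}(z) ∈ X`
  have s1 : Sel v z1 z ∈ X :=
    Sel_mem (Tr_mem_of_rel o5 hzA) (Tr_mem_of_rel o1 hzA) (Tr_mem_of_rel o2 hzA)
  -- it moves `z2` to `z2 + z • v`
  have hap : ap (Sel v z1 z) z2 = z2 + z • v := by
    rw [ap_Sel h2 hv1, h2v, h21, zero_smul, zero_add, one_smul]
  have t1 : Tr (z2 + z • v) g ∈ X := by
    rw [← hap, ← conj_Tr']
    exact X.mul_mem (X.mul_mem s1 hg) (X.inv_mem s1)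
  -- `S_{z2, z•v}(g) = S_{z2,v}(z g) ∈ X`
  have s2 : Sel z2 (z • v) g ∈ X := by
    rw [Sel_smul h2 h2v]
    have e : z2 + v = v + z2 := add_comm _ _
    refine Sel_mem ?_ hzg (Tr_mem_of_rel o1 hzg)
    rw [e]
    exact Tr_mem_of_rel o4 hzg
  -- hence `Tr (z•v) g ∈ X`
  have e : Tr (z • v) g = (Tr z2 g)⁻¹ * ((Tr (z2 + z • v) g)⁻¹ * Sel z2 (z • v) g) := by
    unfold Sel
    group
  have t2 : Tr (z • v) g ∈ X := by
    rw [e]
    exact X.mul_mem (X.inv_mem hg) (X.mul_mem (X.inv_mem t1) s2)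
  rw [Tr_smul] at t2
  exact Tr_mem_of_rel' o1 t2

/-- **the core for `q` even**: one element `Tr z2 z` with `z` a generator spreads to the whole long
root group `Tr z2 F`. -/
theorem even_core (h2 : (2 : F) = 0)
    (hv1 : Cfsg.sympForm m F v z1 = 0) (hv2 : Cfsg.sympForm m F v z2 = 0)
    (h12 : Cfsg.sympForm m F z1 z2 = 1)
    (o1 : Rel X z2 v) (o2 : Rel X z2 z1) (o3 : Rel X z2 (z1 + z2)) (o4 : Rel X z2 (v + z2))
    (o5 : Rel X z2 (v + z1)) (o6 : Rel X z2 (v + (z1 + z2)))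
    (z : F) (hz : ∀ y : F, y ≠ 0 → ∃ k : ℕ, y = z ^ (k + 1)) (hzA : Tr z2 z ∈ X) :
    z2 ∈ Rt X := by
  have hpow : ∀ k : ℕ, Tr z2 (z ^ (k + 1)) ∈ X ∧ Tr z2 (z ^ (k + 2)) ∈ X := by
    intro k
    induction k with
    | zero =>
      refine ⟨by rw [zero_add, pow_one]; exact hzA, ?_⟩
      exact sq_mem h2 hv1 hv2 h12 o1 o2 o3 o4 o5 o6 hzA
    | succ k ih =>
      refine ⟨ih.2, ?_⟩
      have h3 : Tr z2 (z * z ^ (k + 1)) ∈ X := by
        rw [← pow_succ']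
        exact ih.2
      have := loop_mem h2 hv1 hv2 h12 o1 o2 o4 o5 hzA ih.1 h3
      have e : z ^ 2 * z ^ (k + 1) = z ^ (k + 1 + 2) := by ring
      rwa [e] at this
  intro s
  by_cases hs : s = 0
  · rw [hs, Tr_zero]
    exact X.one_mem
  · obtain ⟨k, rfl⟩ := hz s hs
    exact (hpow k).1

end core

end Cfsg.Agent.Lib.Helper13.SpEven
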