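/-
helper13: S2281 for `q` even (ALL even `q`, `q = 2` included) and `n ≥ 3`: the frozen conclusion at
`n = m`.  `u = u0 1` (helper26), `h = J` (so `h u h⁻¹ = w0 1`), `g = gQ z` (helper19; puts the long
root element `Tr e_0 z` into `X`, `z` a generator of `Fˣ`); field generation = `SpEven.even_core`
(helper25's pencil proof) at the pencil `v = e_{m-2}`, `z1 = f_{m-1}`, `z2 = e_{m-1}`; endgame =
helper25's `SpReg.endgame` in helper19's instance `endgame_u0w0`.
-/
import Mathlib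
import Cfsg.Agent.Lib.Helper19.RegSpCore4
import Cfsg.Agent.Lib.Helper13.SpEvenCore

set_option autoImplicit false
set_option linter.unusedSectionVars false

namespace Cfsg.Agent.Lib.Helper13.SpEven

open Matrix Cfsg.Agent.Lib.Helper5 Cfsg.Agent.Lib.Helper14 Cfsg.Agent.Lib.Helper14.SpPerfect
open Cfsg.Agent.Lib.Helper6.SpGen Cfsg.Agent.Lib.Helper26.RegSp Cfsg.Agent.Lib.Helper19.RegSpG

variable {F : Type*} [Field F] {m : ℕ}

theorem neg_eq_self (h2 : (2 : F) = 0) (x : Fin m ⊕ Fin m → F) : -x = x := by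
  funext a
  rw [Pi.neg_apply]
  linear_combination (-(x a)) * h2

theorem sub_eq_add' (h2 : (2 : F) = 0) (x y : Fin m ⊕ Fin m → F) : x - y = x + y := by
  rw [sub_eq_add_neg, neg_eq_self h2]

theorem add_self' (h2 : (2 : F) = 0) (x : Fin m ⊕ Fin m → F) : x + x = 0 := by
  funext a
  rw [Pi.add_apply, Pi.zero_apply]
  linear_combination (x a) * h2

theorem rel_symm {X : Subgroup (Matrix.symplecticGroup (Fin m) F)} {a b : Fin m ⊕ Fin m → F}
    (h : Rel X a b) : Rel X b a := by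
  obtain ⟨g, hg, rfl⟩ := h
  exact ⟨g⁻¹, X.inv_mem hg, ap_inv_ap g a⟩

section ids

variable (h2 : (2 : F) = 0) (il ip : Fin m) (hl : il.val + 1 = m) (hp : ip.val + 1 = il.val)
include h2 hl hp

theorem I1 : ap (u0 m (1 : F)) (eV il + eV ip) = (eV il : Fin m ⊕ Fin m → F) := by
  have h := u0_eV_diff (1 : F) ip il hp.symm
  rw [sub_eq_add' h2, neg_eq_self h2, add_comm] at h
  exact h

theorem I4 : ap (w0 m (1 : F)) (eV ip) = (eV ip + eV il : Fin m ⊕ Fin m → F) := by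
  have h := w0_eV_succ (1 : F) ip il hp.symm
  rwa [sub_eq_add' h2] at h

theorem I2 : ap (w0 m (1 : F)) (eV il + fV il) = (eV il : Fin m ⊕ Fin m → F) := by
  rw [ap_add, ap_w0_eV, ap_w0_fV]
  funext a
  rcases a with k | k
  · show (phiF il k + 0 : F) = _
    rw [eV_inl, add_zero]
    unfold phiF
    by_cases h1 : k = il
    · rw [if_pos h1, if_pos h1]
    · have := k.2
      rw [if_neg h1, if_neg h1, if_neg (by omega)]
  · show (if (il : ℕ) + 1 = m then -(1 : F) else 0) + (if k ≤ il then 1 else 0) = _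
    have hk : k ≤ il := by
      rw [Fin.le_def]
      have := k.2
      omega
    rw [if_pos hl, if_pos hk, eV_inr, neg_add_cancel]

theorem I3 : ap (u0 m (1 : F)) (eV il + fV il) = (fV il : Fin m ⊕ Fin m → F) := by
  rw [ap_add, ap_u0_eV, ap_u0_fV]
  funext a
  rcases a with k | k
  · rw [Pi.add_apply, colE_inl, colF_inl, fV_inl]
    have hk : k ≤ il := by
      rw [Fin.le_def]
      have := k.2
      omega
    rw [if_pos hk, if_pos hl]
    linear_combination h2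
  · rw [Pi.add_apply, colE_inr, colF_inr, fV_inr, zero_add]
    unfold phiF
    by_cases h1 : k = il
    · rw [if_pos h1, if_pos h1]
    · have := k.2
      rw [if_neg h1, if_neg h1, if_neg (by omega)]

theorem I5 : ap (u0 m (1 : F)) (eV ip + fV il) = (eV il + fV il : Fin m ⊕ Fin m → F) := by
  rw [ap_add, ap_u0_eV, ap_u0_fV]
  funext a
  rcases a with k | k
  · rw [Pi.add_apply, Pi.add_apply, colE_inl, colF_inl, fV_inl, eV_inl, if_pos hl, add_zero]
    by_cases h1 : k = il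
    · have h3 : ¬ k ≤ ip := by
        rw [Fin.le_def, h1]
        omega
      rw [if_neg h3, if_pos h1, zero_add]
    · have h3 : k ≤ ip := by
        rw [Fin.le_def]
        have := k.2
        have : (k : ℕ) ≠ (il : ℕ) := fun h => h1 (Fin.ext h)
        omega
      rw [if_pos h3, if_neg h1]
      linear_combination h2
  · rw [Pi.add_apply, Pi.add_apply, colE_inr, colF_inr, fV_inr, eV_inr]
    unfold phiF
    by_cases h1 : k = il
    · rw [if_pos h1, if_pos h1]
    · have := k.2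
      rw [if_neg h1, if_neg h1, if_neg (by omega)]

theorem I6 : ap (w0 m (1 : F)) (eV ip + (eV il + fV il)) = (eV ip : Fin m ⊕ Fin m → F) := by
  rw [ap_add, I4 h2 il ip hl hp, I2 h2 il ip hl hp, add_assoc, add_self' h2, add_zero]

end ids

/-- the `e`-chain in characteristic 2: all `e_i` are in one orbit of `⟨u0 1, w0 1⟩` -/
theorem rel_chain (h2 : (2 : F) = 0) (hm : 0 < m)
    {X : Subgroup (Matrix.symplecticGroup (Fin m) F)}
    (hu : u0 m (1 : F) ∈ X) (hw : w0 m (1 : F) ∈ X) :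
    ∀ n : ℕ, ∀ i : Fin m, i.val = n → Rel X (eV ⟨0, hm⟩ : Fin m ⊕ Fin m → F) (eV i) := by
  intro n
  induction n with
  | zero =>
    intro i hi
    have : i = ⟨0, hm⟩ := Fin.ext hi
    rw [this]
    exact Rel.refl _
  | succ n ih =>
    intro j hj
    have hn : n < m := by have := j.2; omega
    have h1 := ih ⟨n, hn⟩ rfl
    have hij : j.val = (⟨n, hn⟩ : Fin m).val + 1 := hj
    have e : ap (u0 m (1 : F) * w0 m (1 : F)) (eV (⟨n, hn⟩ : Fin m)) =
        (eV j : Fin m ⊕ Fin m → F) := by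
      rw [ap_mul, w0_eV_succ 1 _ j hij, u0_eV_diff 1 _ j hij, neg_eq_self h2]
    exact h1.trans ⟨_, X.mul_mem hu hw, e⟩

/-- **S2281 for even `q` and `n ≥ 3`** (the frozen conclusion at `n = m`). -/
theorem core_even [Fintype F] (h2 : (2 : F) = 0) (hm : 3 ≤ m) :
    ∃ u g h : Matrix.symplecticGroup (Fin m) F,
      IsNilpotent ((u : Matrix (Fin m ⊕ Fin m) (Fin m ⊕ Fin m) F) - 1) ∧
      ((u : Matrix (Fin m ⊕ Fin m) (Fin m ⊕ Fin m) F) - 1) ^ (2 * m - 1) ≠ 0 ∧
      Subgroup.closure ({u, g * u * g⁻¹, h * u * h⁻¹} :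
        Set (Matrix.symplecticGroup (Fin m) F)) = ⊤ := by
  classical
  have hm0 : 0 < m := by omega
  obtain ⟨ζ, hζ⟩ := IsCyclic.exists_monoid_generator (α := Fˣ)
  obtain ⟨z, hzdef⟩ : ∃ z : F, z = (ζ : F) := ⟨_, rfl⟩
  have hz : ∀ y : F, y ≠ 0 → ∃ k : ℕ, y = z ^ (k + 1) := by
    intro y hy
    obtain ⟨k, hk⟩ := (Submonoid.mem_powers_iff _ _).1 (hζ (ζ⁻¹ * Units.mk0 y hy))
    refine ⟨k, ?_⟩
    rw [hzdef, pow_succ', ← Units.val_pow_eq_pow_val, hk, Units.val_mul, Units.val_inv_eq_inv_val,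
      Units.val_mk0, mul_inv_cancel_left₀ ζ.ne_zero]
  refine ⟨u0 m 1, gQ hm z, Jsp m F, (u0_regular hm0 one_ne_zero).1,
    (u0_regular hm0 one_ne_zero).2, ?_⟩
  obtain ⟨M, hM⟩ : ∃ M : Subgroup (Matrix.symplecticGroup (Fin m) F), M =
    Subgroup.closure ({u0 m 1, gQ hm z * u0 m 1 * (gQ hm z)⁻¹, Jsp m F * u0 m 1 * (Jsp m F)⁻¹} :
      Set (Matrix.symplecticGroup (Fin m) F)) := ⟨_, rfl⟩
  rw [← hM]
  have hu : u0 m (1 : F) ∈ M := by rw [hM]; exact Subgroup.subset_closure (by simp)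
  have hg : gQ hm z * u0 m (1 : F) * (gQ hm z)⁻¹ ∈ M := by
    rw [hM]; exact Subgroup.subset_closure (by simp)
  have hw : w0 m (1 : F) ∈ M := by rw [hM]; exact Subgroup.subset_closure (by simp [w0])
  have hT : Tr (eV (⟨0, by omega⟩ : Fin m)) z ∈ M := Tr_e0_mem hm z 1 M hu hg
  -- indices
  obtain ⟨il, hil⟩ : ∃ il : Fin m, il = ⟨m - 1, by omega⟩ := ⟨_, rfl⟩
  obtain ⟨ip, hip⟩ : ∃ ip : Fin m, ip = ⟨m - 2, by omega⟩ := ⟨_, rfl⟩
  have hl : il.val + 1 = m := by rw [hil]; show m - 1 + 1 = m; omega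
  have hp : ip.val + 1 = il.val := by rw [hil, hip]; show m - 2 + 1 = m - 1; omega
  have hne : il ≠ ip := by
    intro h
    rw [h] at hp
    omega
  -- the chain `e_0 ~ e_{m-1}`
  have hchain : Rel M (eV ⟨0, hm0⟩ : Fin m ⊕ Fin m → F) (eV il) :=
    rel_chain h2 hm0 hu hw il.val il rfl
  have hTl : Tr (eV il) z ∈ M := Tr_mem_of_rel hchain hT
  -- the pencil
  have hv1 : Cfsg.sympForm m F (eV ip : Fin m ⊕ Fin m → F) (fV il) = 0 := by
    rw [form_eV_fV, if_neg hne, neg_zero]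
  have hv2 : Cfsg.sympForm m F (eV ip : Fin m ⊕ Fin m → F) (eV il) = 0 := form_eV_eV ip il
  have h12 : Cfsg.sympForm m F (fV il : Fin m ⊕ Fin m → F) (eV il) = 1 := by
    rw [form_fV_eV, if_pos rfl]
  -- the six orbit relations
  have o4 : Rel M (eV il : Fin m ⊕ Fin m → F) (eV ip + eV il) := by
    have := rel_symm (⟨_, hu, I1 h2 il ip hl hp⟩ : Rel M (eV il + eV ip) (eV il))
    rwa [add_comm] at this
  have o1 : Rel M (eV il : Fin m ⊕ Fin m → F) (eV ip) :=
    o4.trans (rel_symm ⟨_, hw, I4 h2 il ip hl hp⟩)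
  have o3 : Rel M (eV il : Fin m ⊕ Fin m → F) (fV il + eV il) := by
    have := rel_symm (⟨_, hw, I2 h2 il ip hl hp⟩ : Rel M (eV il + fV il) (eV il))
    rwa [add_comm] at this
  have o2 : Rel M (eV il : Fin m ⊕ Fin m → F) (fV il) := by
    refine o3.trans ?_
    rw [add_comm]
    exact ⟨_, hu, I3 h2 il ip hl hp⟩
  have o5 : Rel M (eV il : Fin m ⊕ Fin m → F) (eV ip + fV il) := by
    refine o3.trans ?_
    rw [add_comm]
    exact rel_symm ⟨_, hu, I5 h2 il ip hl hp⟩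
  have o6 : Rel M (eV il : Fin m ⊕ Fin m → F) (eV ip + (fV il + eV il)) := by
    refine o1.trans ?_
    rw [add_comm (fV il) (eV il)]
    exact rel_symm ⟨_, hw, I6 h2 il ip hl hp⟩
  have hRt : (eV il : Fin m ⊕ Fin m → F) ∈ Rt M :=
    even_core h2 hv1 hv2 h12 o1 o2 o3 o4 o5 o6 z hz hTl
  have h0 : (eV ⟨0, hm0⟩ : Fin m ⊕ Fin m → F) ∈ Rt M := (rel_symm hchain).mem_Rt hRt
  exact endgame_u0w0 hm0 hu hw h0

end Cfsg.Agent.Lib.Helper13.SpEven
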