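import Mathlib
import Cfsg.Prelude.Def_ClassicalGeometry
import Cfsg.Prelude.Def_GeometricClasses
import Cfsg.Agent.Lib.Helper5.SpMax
import Cfsg.Agent.Lib.Helper22.C3Defs
import Cfsg.Agent.Lib.Helper22.C3Tool
import Cfsg.Agent.Lib.Helper23.C3E
import Cfsg.Agent.Lib.Helper26.C3Gcore

/-!
SpLow (helper14's market), leaf SPL-GU, part a: the existence lemmas E1' (`finrank W ≤ 4`, `5 ≤ m`) and E3' (NEW proof,
only 4-spaces, plan notes/SpLow_plan.md §GU), and the growth leaves G (copies of helper26's C3Gcore with the bound `≤ 4`).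
-/

set_option autoImplicit false

namespace Cfsg.Agent.Lib.Helper13.C3Low
open Cfsg Matrix Cfsg.Agent.Lib.Helper5 Cfsg.Agent.Lib.Helper5.SpMax Cfsg.Agent.Lib.Helper22.C3
  Cfsg.Agent.Lib.Helper22.C3Leaf Cfsg.Agent.Lib.Helper23.C3Leaf Cfsg.Agent.Lib.Helper26.C3Leaf

variable {F : Type*} [Field F] {m : ℕ}

local notation "𝕍" => (Fin m ⊕ Fin m → F)
local notation "𝕄" => Matrix (Fin m ⊕ Fin m) (Fin m ⊕ Fin m) F

/-- E1'. There is a non-singular vector orthogonal to any subspace `W` of dimension at most 4 (`5 ≤ m`). -/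
theorem exists_nonsing_perp5 (S : CS m F) (hm : 5 ≤ m) (h2 : (2 : F) ≠ 0)
    (W : Submodule F 𝕍) (hW : Module.finrank F W ≤ 4) :
    ∃ v : 𝕍, S.N v ≠ 0 ∧ ∀ w ∈ W, sympForm m F v w = 0 := by
  set B : LinearMap.BilinForm F 𝕍 := Bform m F with hB
  set X := LinearMap.BilinForm.orthogonal B W with hX
  have hXfr : Module.finrank F X = 2 * m - Module.finrank F W := by
    rw [hX, LinearMap.BilinForm.finrank_orthogonal Bform_nondegenerate, finrank_V]
  by_contra hcon
  push Not at hcon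
  -- `N` vanishes on `X`
  have hN : ∀ v ∈ X, S.N v = 0 := by
    intro v hv
    by_contra hv0
    obtain ⟨w, hw, hvw⟩ := hcon v hv0
    apply hvw
    have := hv w hw
    rw [sympForm_swap]
    change sympForm m F w v = 0 at this
    rw [this, neg_zero]
  -- polarise
  have hpol : ∀ u ∈ X, ∀ u' ∈ X, sympForm m F u (S.J *ᵥ u') = 0 := by
    intro u hu u' hu'
    have h := N_add S u u'
    rw [hN u hu, hN u' hu', hN (u + u') (X.add_mem hu hu'), zero_add, zero_add] at h
    exact (mul_eq_zero.mp h.symm).resolve_left h2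
  -- `J X ≤ X^⊥`
  have hle : X.map (Matrix.toLin' S.J) ≤ LinearMap.BilinForm.orthogonal B X := by
    rintro _ ⟨u', hu', rfl⟩
    intro u hu
    rw [Matrix.toLin'_apply]
    exact hpol u hu u' hu'
  have h1 := Submodule.finrank_mono hle
  rw [LinearMap.BilinForm.finrank_orthogonal Bform_nondegenerate, finrank_V,
    ← (Submodule.equivMapOfInjective (Matrix.toLin' S.J) (J_injective S) X).finrank_eq] at h1
  omega

/-- E3'. (new proof: only the 4-space `⟨x, Jx, u, Ju⟩` is used) -/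
theorem exists_sing5 (S : CS m F) [Fintype F] (hm : 5 ≤ m) (h2 : (2 : F) ≠ 0) (x w : 𝕍) (hx : S.N x ≠ 0)
    (hw : w ≠ 0) (hwx : sympForm m F w x = 0) (hwJx : sympForm m F w (S.J *ᵥ x) = 0) :
    ∃ a : 𝕍, S.N a = 0 ∧ sympForm m F a x = 0 ∧ sympForm m F a (S.J *ᵥ x) = 0 ∧ sympForm m F w a ≠ 0 := by
  -- a vector `u ⊥ x, J x` with `f(w, u) ≠ 0`
  obtain ⟨u₀, hu₀⟩ := sympForm_nondeg w hw
  set α := sympForm m F u₀ (S.J *ᵥ x) / S.N x with hα
  set β := -(sympForm m F u₀ x) / S.N x with hβ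
  set u := u₀ - α • x - β • (S.J *ᵥ x) with hu
  have hux : sympForm m F u x = 0 := by
    rw [hu, sympForm_sub_left, sympForm_sub_left, sympForm_smul_left, sympForm_smul_left,
      sympForm_self, S.form_J_self, hβ]
    field_simp
    ring
  have huJx : sympForm m F u (S.J *ᵥ x) = 0 := by
    rw [hu, sympForm_sub_left, sympForm_sub_left, sympForm_smul_left, sympForm_smul_left,
      S.form_JJ, sympForm_self, hα]
    have : sympForm m F x (S.J *ᵥ x) = S.N x := rfl
    rw [this]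
    field_simp
    ring
  have hwu : sympForm m F w u ≠ 0 := by
    rw [hu, sympForm_sub_right, sympForm_sub_right, sympForm_smul_right, sympForm_smul_right, hwx,
      hwJx, mul_zero, mul_zero, sub_zero, sub_zero]
    exact hu₀
  by_cases hNu : S.N u = 0
  · exact ⟨u, hNu, hux, huJx, hwu⟩
  -- a non-singular `u'` orthogonal to `x, Jx, u, Ju`
  set W : Submodule F 𝕍 :=
    Submodule.span F (Set.range ![x, S.J *ᵥ x, u, S.J *ᵥ u]) with hWdef
  have hWfr : Module.finrank F W ≤ 4 := by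
    have := finrank_range_le_card (R := F) ![x, S.J *ᵥ x, u, S.J *ᵥ u]
    rw [Fintype.card_fin] at this
    exact this
  obtain ⟨u', hNu', hperp⟩ := exists_nonsing_perp5 S hm h2 W hWfr
  have hmem : ∀ i : Fin 4, ![x, S.J *ᵥ x, u, S.J *ᵥ u] i ∈ W := fun i =>
    Submodule.subset_span (Set.mem_range_self i)
  have p0 : sympForm m F u' x = 0 := hperp _ (hmem 0)
  have p1 : sympForm m F u' (S.J *ᵥ x) = 0 := hperp _ (hmem 1)
  have p2 : sympForm m F u' u = 0 := hperp _ (hmem 2)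
  have p3 : sympForm m F u' (S.J *ᵥ u) = 0 := hperp _ (hmem 3)
  -- rescale by `K`
  obtain ⟨s, t, hst⟩ := exists_norm S (-(S.N u) / S.N u')
  set u'' := S.act s t u' with hu''
  have hNu'' : S.N u'' = -(S.N u) := by
    rw [hu'', N_act, hst]
    field_simp
  have hJu'' : S.J *ᵥ u'' = s • (S.J *ᵥ u') + (t * S.δ) • u' := by
    rw [hu'']
    unfold CS.act
    rw [Matrix.mulVec_add, Matrix.mulVec_smul, Matrix.mulVec_smul, S.JJ, smul_smul]
  have q2 : sympForm m F u u' = 0 := by rw [sympForm_swap, p2, neg_zero]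
  have q3 : sympForm m F u (S.J *ᵥ u') = 0 := by rw [form_J_symm, p3]
  have hβuu'' : sympForm m F u (S.J *ᵥ u'') = 0 := by
    rw [hJu'', sympForm_add_right, sympForm_smul_right, sympForm_smul_right, q2, q3]
    ring
  have hNp : S.N (u + u'') = 0 := by
    rw [N_add, hNu'', hβuu'']
    ring
  have hNm : S.N (u - u'') = 0 := by
    have h1 : u - u'' = u + (-1 : F) • u'' := by rw [neg_one_smul, sub_eq_add_neg]
    have h3 : S.J *ᵥ ((-1 : F) • u'') = (-1 : F) • (S.J *ᵥ u'') := Matrix.mulVec_smul _ _ _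
    have h4 : S.N ((-1 : F) • u'') = S.N u'' := by
      unfold CS.N
      rw [h3, sympForm_smul_left, sympForm_smul_right]
      ring
    rw [h1, N_add, h4, hNu'', h3, sympForm_smul_right, hβuu'']
    ring
  have hu''x : sympForm m F u'' x = 0 := by
    rw [hu'']
    unfold CS.act
    rw [sympForm_add_left, sympForm_smul_left, sympForm_smul_left, p0, S.skew, p1]
    ring
  have hu''Jx : sympForm m F u'' (S.J *ᵥ x) = 0 := by
    rw [hu'']
    unfold CS.act
    rw [sympForm_add_left, sympForm_smul_left, sympForm_smul_left, p1, S.form_JJ, p0]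
    ring
  by_cases hp : sympForm m F w (u + u'') ≠ 0
  · refine ⟨u + u'', hNp, ?_, ?_, hp⟩
    · rw [sympForm_add_left, hux, hu''x, add_zero]
    · rw [sympForm_add_left, huJx, hu''Jx, add_zero]
  · rw [not_not] at hp
    refine ⟨u - u'', hNm, ?_, ?_, ?_⟩
    · rw [sympForm_sub_left, hux, hu''x, sub_zero]
    · rw [sympForm_sub_left, huJx, hu''Jx, sub_zero]
    · intro hm'
      apply hwu
      rw [sympForm_add_right] at hp
      rw [sympForm_sub_right] at hm'
      have h5 : (2 : F) * sympForm m F w u = 0 := by linear_combination hp + hm'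
      exact (mul_eq_zero.mp h5).resolve_left h2

/-- non-singular vectors are in `Sset M` (core form) -/
theorem nonsing_mem_Sset_of5 (S : CS m F) (h2 : (2 : F) ≠ 0)
    (hE1 : ∀ W : Submodule F 𝕍, Module.finrank F W ≤ 4 →
      ∃ v : 𝕍, S.N v ≠ 0 ∧ ∀ w ∈ W, sympForm m F v w = 0)
    (hE2 : ∀ n : F, ∃ s t : F, s * s - S.δ * (t * t) = n)
    (M : Subgroup (GL (Fin m ⊕ Fin m) F)) (hMS : M ≤ spGL m F)
    (hM : ∀ g ∈ spGL m F, (g : 𝕄) * S.J = S.J * (g : 𝕄) → g ∈ M)
    (x : 𝕍) (hx : S.N x ≠ 0) (hxS : x ∈ Sset M) (v : 𝕍) (hv : S.N v ≠ 0) : v ∈ Sset M := by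
  classical
  have hfr : Module.finrank F (Submodule.span F
      (({x, S.J *ᵥ x, v, S.J *ᵥ v} : Finset 𝕍) : Set 𝕍)) ≤ 4 :=
    le_trans (finrank_span_finset_le_card _) (le_trans Finset.card_le_four (by norm_num))
  obtain ⟨y, hy, hyW⟩ := hE1 _ hfr
  have hyx : sympForm m F y x = 0 := hyW _ (Submodule.subset_span (by simp))
  have hyJx : sympForm m F y (S.J *ᵥ x) = 0 := hyW _ (Submodule.subset_span (by simp))
  have hyv : sympForm m F y v = 0 := hyW _ (Submodule.subset_span (by simp))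
  have hyJv : sympForm m F y (S.J *ᵥ v) = 0 := hyW _ (Submodule.subset_span (by simp))
  have hyS : y ∈ Sset M :=
    perp_mem_Sset_of S h2 hE2 M hMS hM x hx (act_mem_Sset S h2 M hMS hM x hx hxS) y hy hyx hyJx
  have hvy : sympForm m F v y = 0 := by rw [sympForm_swap, hyv, neg_zero]
  have hvJy : sympForm m F v (S.J *ᵥ y) = 0 := by
    have := S.skew v y
    rw [sympForm_swap, hyJv, neg_zero] at this
    exact neg_eq_zero.mp this.symm
  exact perp_mem_Sset_of S h2 hE2 M hMS hM y hy (act_mem_Sset S h2 M hMS hM y hy hyS) v hv hvy hvJy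

/-- G (core form): growth, one non-singular centre gives everything -/
theorem le_of_mem_Sset_of5 (S : CS m F) (h2 : (2 : F) ≠ 0)
    (hE1 : ∀ W : Submodule F 𝕍, Module.finrank F W ≤ 4 →
      ∃ v : 𝕍, S.N v ≠ 0 ∧ ∀ w ∈ W, sympForm m F v w = 0)
    (hE2 : ∀ n : F, ∃ s t : F, s * s - S.δ * (t * t) = n)
    (M : Subgroup (GL (Fin m ⊕ Fin m) F)) (hMS : M ≤ spGL m F)
    (hM : ∀ g ∈ spGL m F, (g : 𝕄) * S.J = S.J * (g : 𝕄) → g ∈ M)
    (x : 𝕍) (hx : S.N x ≠ 0) (hxS : x ∈ Sset M) : spGL m F ≤ M := by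
  have hns := nonsing_mem_Sset_of5 S h2 hE1 hE2 M hMS hM x hx hxS
  apply le_of_forall_mem_Sset
  intro a
  by_cases ha0 : a = 0
  · intro c
    have : tvc (0 : 𝕍) c = 1 := by
      apply Units.ext
      apply mat_eq_of_mulVec
      intro u
      rw [tvc_mulVec, smul_zero, add_zero, Units.val_one, Matrix.one_mulVec]
    rw [ha0, this]
    exact M.one_mem
  by_cases haN : S.N a ≠ 0
  · exact hns a haN
  rw [not_not] at haN
  obtain ⟨b, hb⟩ := sympForm_nondeg a ha0
  -- notation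
  have hδ := S.δ_ne_zero
  set φ := sympForm m F a b with hφ
  set β₀ := sympForm m F a (S.J *ᵥ b) with hβ
  -- the target norm
  obtain ⟨τ, hτ0, hτ1⟩ : ∃ τ : F, τ ≠ 0 ∧ τ ≠ 2 * β₀ := by
    by_cases h : 2 * β₀ = 1
    · refine ⟨-1, neg_ne_zero.mpr one_ne_zero, ?_⟩
      rw [h]
      intro h'
      apply h2
      have : (2 : F) = 1 - (-1) := by ring
      rw [this, h', sub_self]
    · exact ⟨1, one_ne_zero, fun h' => h h'.symm⟩
  set μ := (S.N b - τ) / (2 * S.δ * φ) with hμ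
  set w := b + μ • (S.J *ᵥ a) with hw
  have hJw : S.J *ᵥ w = S.J *ᵥ b + (μ * S.δ) • a := by
    rw [hw, Matrix.mulVec_add, Matrix.mulVec_smul, S.JJ, smul_smul]
  have haJa : sympForm m F a (S.J *ᵥ a) = 0 := haN
  have hJaa : sympForm m F (S.J *ᵥ a) a = 0 := by rw [S.form_J_self, haN, neg_zero]
  have hfaw : sympForm m F a w = φ := by
    rw [hw, sympForm_add_right, sympForm_smul_right, haJa, mul_zero, add_zero]
  have hbaw : sympForm m F a (S.J *ᵥ w) = β₀ := by
    rw [hJw, sympForm_add_right, sympForm_smul_right, sympForm_self, mul_zero, add_zero]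
  have hJab : sympForm m F (S.J *ᵥ a) (S.J *ᵥ b) = - S.δ * φ := S.form_JJ a b
  have hba : sympForm m F b a = - φ := by rw [sympForm_swap]
  have hNw : S.N w = τ := by
    unfold CS.N
    rw [hJw, hw]
    simp only [sympForm_add_left, sympForm_add_right, sympForm_smul_left, sympForm_smul_right,
      hJab, hJaa, hba]
    have : sympForm m F b (S.J *ᵥ b) = S.N b := rfl
    rw [this, hμ]
    field_simp
    ring
  have hwJa : sympForm m F w (S.J *ᵥ a) = β₀ := by
    have := S.skew w a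
    rw [← neg_eq_iff_eq_neg] at this
    rw [← this, sympForm_swap, neg_neg, hbaw]
  have hNaw : S.N (a - w) = τ - 2 * β₀ := by
    unfold CS.N
    rw [Matrix.mulVec_sub, sympForm_sub_left, sympForm_sub_right, sympForm_sub_right, haJa,
      hbaw, hwJa]
    have : sympForm m F w (S.J *ᵥ w) = τ := hNw
    rw [this]
    ring
  have h1 : a - w ∈ Sset M := hns _ (by rw [hNaw]; exact sub_ne_zero.mpr hτ1)
  have h2' : w ∈ Sset M := hns _ (by rw [hNw]; exact hτ0)
  have h3 : sympForm m F (a - w) w ≠ 0 := by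
    rw [sympForm_sub_left, sympForm_self, sub_zero, hfaw]
    exact hb
  have := g_Sset_add hMS h1 h2' h3 1
  rwa [one_smul, sub_add_cancel] at this


/-- G. growth: one non-singular centre gives everything (`5 ≤ m`) -/
theorem le_of_mem_Sset5 [Fintype F] (S : CS m F) (hm : 5 ≤ m) (h2 : (2 : F) ≠ 0)
    (M : Subgroup (GL (Fin m ⊕ Fin m) F)) (hMS : M ≤ spGL m F)
    (hM : ∀ g ∈ spGL m F, (g : 𝕄) * S.J = S.J * (g : 𝕄) → g ∈ M)
    (x : 𝕍) (hx : S.N x ≠ 0) (hxS : x ∈ Sset M) : spGL m F ≤ M := by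
  exact le_of_mem_Sset_of5 S h2
    (fun W hW => exists_nonsing_perp5 S hm h2 W hW)
    (fun n => Cfsg.Agent.Lib.Helper23.C3Leaf.exists_norm S n) M hMS hM x hx hxS

end Cfsg.Agent.Lib.Helper13.C3Low
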