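import Mathlib
import Cfsg.Prelude.Def_ClassicalGeometry
import Cfsg.Prelude.Def_GeometricClasses
import Cfsg.Agent.Lib.Helper5.SpMax
import Cfsg.Agent.Lib.Helper22.C3Defs
import Cfsg.Agent.Lib.Helper22.C3Tool
import Cfsg.Agent.Lib.Helper23.C3E
import Cfsg.Agent.Lib.Helper1.C3C
import Cfsg.Agent.Lib.Helper13.SpLowGUa

/-!
SpLow (helper14's market), leaf SPL-GU, part c: leaves C and I of S5665 (copies of the `hm`-dependent part of helper1's
C3C / C3I with `5 ≤ m` and the E1-bound `≤ 4`).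
-/

set_option autoImplicit false
set_option linter.unusedVariables false

namespace Cfsg.Agent.Lib.Helper13.C3Low
open Cfsg Matrix Cfsg.Agent.Lib.Helper5 Cfsg.Agent.Lib.Helper5.SpMax Cfsg.Agent.Lib.Helper22.C3
  Cfsg.Agent.Lib.Helper22.C3Leaf Cfsg.Agent.Lib.Helper1.C3Leaf

variable {F : Type*} [Field F] {m : ℕ}

local notation "𝕍" => (Fin m ⊕ Fin m → F)
local notation "𝕄" => Matrix (Fin m ⊕ Fin m) (Fin m ⊕ Fin m) F

lemma c3c_finrank_pair5 (a b : 𝕍) :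
    Module.finrank F (Submodule.span F (Set.range ![a, b])) ≤ 4 := by
  have := finrank_range_le_card (R := F) ![a, b]
  rw [Fintype.card_fin] at this
  unfold Set.finrank at this
  omega

/-- a non-singular vector orthogonal to the `K`-line of `v` -/
lemma c3c_exists_perp5 (S : CS m F) (hm : 5 ≤ m) (h2 : (2 : F) ≠ 0) (v : 𝕍) :
    ∃ y : 𝕍, S.N y ≠ 0 ∧ sympForm m F y v = 0 ∧ sympForm m F y (S.J *ᵥ v) = 0 := by
  obtain ⟨y, hy, hperp⟩ := exists_nonsing_perp5 S hm h2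
    (Submodule.span F (Set.range ![v, S.J *ᵥ v])) (c3c_finrank_pair5 _ _)
  exact ⟨y, hy, hperp _ (c3c_mem_pair_left _ _), hperp _ (c3c_mem_pair_right _ _)⟩

/-- Step D: every vector orthogonal to the `K`-line of the base vector is killed -/
lemma c3c_perp_all5 [Fintype F] (S : CS m F) (hm : 5 ≤ m) (J₁ : 𝕄)
    (h : ∀ v : 𝕍, S.N v ≠ 0 → ∃ s t : F, J₁ *ᵥ v = S.act s t v) (h2 : (2 : F) ≠ 0)
    {v y : 𝕍} (hv : S.N v ≠ 0) (hyv : sympForm m F y v = 0)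
    (hyJv : sympForm m F y (S.J *ᵥ v) = 0) {s t : F}
    (hvst : J₁ *ᵥ v = S.act s t v) :
    c3cD S J₁ s t *ᵥ y = 0 := by
  by_cases hy : S.N y ≠ 0
  · exact c3c_B2 S J₁ h h2 hv hyv hyJv hy hvst
  rw [not_not] at hy
  obtain ⟨y₀, hy₀, h1, h2'⟩ := c3c_exists_perp5 S hm h2 v
  have hD0 := c3c_B2 S J₁ h h2 hv h1 h2' hy₀ hvst
  have hsum : S.N (y + y₀) + S.N (y - y₀) = 2 * S.N y₀ := by
    rw [c3c_N_add, c3c_N_sub, hy]
    ring
  by_cases hp : S.N (y + y₀) ≠ 0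
  · have h3 := c3c_B2 S J₁ h h2 hv (y := y + y₀)
      (by rw [sympForm_add_left, hyv, h1, add_zero])
      (by rw [sympForm_add_left, hyJv, h2', add_zero]) hp hvst
    rw [Matrix.mulVec_add, hD0, add_zero] at h3
    exact h3
  · rw [not_not] at hp
    have hq : S.N (y - y₀) ≠ 0 := by
      rw [hp, zero_add] at hsum
      rw [hsum]
      exact mul_ne_zero h2 hy₀
    have h3 := c3c_B2 S J₁ h h2 hv (y := y - y₀)
      (by rw [sympForm_sub_left, hyv, h1, sub_zero])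
      (by rw [sympForm_sub_left, hyJv, h2', sub_zero]) hq hvst
    rw [Matrix.mulVec_sub, hD0, sub_zero] at h3
    exact h3

/-- Step C: the base `K`-line itself is killed -/
lemma c3c_base5 [Fintype F] (S : CS m F) (hm : 5 ≤ m) (J₁ : 𝕄)
    (h : ∀ v : 𝕍, S.N v ≠ 0 → ∃ s t : F, J₁ *ᵥ v = S.act s t v) (h2 : (2 : F) ≠ 0)
    {v : 𝕍} (hv : S.N v ≠ 0) {s t : F} (hvst : J₁ *ᵥ v = S.act s t v) :
    c3cD S J₁ s t *ᵥ v = 0 ∧ c3cD S J₁ s t *ᵥ (S.J *ᵥ v) = 0 := by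
  obtain ⟨y₀, hy₀, h1, h2'⟩ := c3c_exists_perp5 S hm h2 v
  obtain ⟨a₀, b₀, hab⟩ := Cfsg.Agent.Lib.Helper23.C3Leaf.exists_norm S (S.N v / S.N y₀)
  have hN' : S.N (S.act a₀ b₀ y₀) = S.N v := by
    rw [N_act, hab, div_mul_cancel₀ _ hy₀]
  obtain ⟨hp1, hp2⟩ := c3c_act_perp S h1 h2' a₀ b₀
  obtain ⟨hB1, -⟩ := c3c_B1 S J₁ h h2 hv hp1 hp2 hN' hvst
  rw [c3cD_eq_zero_iff] at hB1
  -- now the base is `y' = act a₀ b₀ y₀`
  have hvy : sympForm m F v (S.act a₀ b₀ y₀) = 0 := by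
    rw [sympForm_swap, hp1, neg_zero]
  have hvJy : sympForm m F v (S.J *ᵥ (S.act a₀ b₀ y₀)) = 0 := by
    rw [c3c_beta_symm, hp2]
  exact c3c_B1 S J₁ h h2 (by rw [hN']; exact hv) hvy hvJy hN'.symm hB1


/-- C. If `J₁` (with `J₁² = δ`) maps every non-singular vector `v` into its `K`-line `⟨v, J v⟩`,
then `J₁ = ± J`. -/
theorem eq_or_eq_neg_of_line_invariant5 [Fintype F] (S : CS m F) (hm : 5 ≤ m) (h2 : (2 : F) ≠ 0)
    (J₁ : 𝕄) (hJ₁ : J₁ * J₁ = S.δ • (1 : 𝕄))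
    (h : ∀ v : 𝕍, S.N v ≠ 0 → ∃ s t : F, J₁ *ᵥ v = S.act s t v) :
    J₁ = S.J ∨ J₁ = -S.J := by
  obtain ⟨v, hv, -⟩ := exists_nonsing_perp5 S hm h2 ⊥ (by rw [finrank_bot]; omega)
  obtain ⟨s, t, hvst⟩ := h v hv
  obtain ⟨hDv, hDJv⟩ := c3c_base5 S hm J₁ h h2 hv hvst
  -- the difference vanishes everywhere
  have hall : ∀ u : 𝕍, c3cD S J₁ s t *ᵥ u = 0 := by
    intro u
    have hdec : u = (sympForm m F u (S.J *ᵥ v) / S.N v) • v +
        (-(sympForm m F u v) / S.N v) • (S.J *ᵥ v) +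
        (u - (sympForm m F u (S.J *ᵥ v) / S.N v) • v -
          (-(sympForm m F u v) / S.N v) • (S.J *ᵥ v)) := by abel
    have hy1 : sympForm m F (u - (sympForm m F u (S.J *ᵥ v) / S.N v) • v -
        (-(sympForm m F u v) / S.N v) • (S.J *ᵥ v)) v = 0 := by
      rw [sympForm_sub_left, sympForm_sub_left, sympForm_smul_left, sympForm_smul_left,
        sympForm_self, S.form_J_self]
      field_simp
      ring
    have hy2 : sympForm m F (u - (sympForm m F u (S.J *ᵥ v) / S.N v) • v -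
        (-(sympForm m F u v) / S.N v) • (S.J *ᵥ v)) (S.J *ᵥ v) = 0 := by
      rw [sympForm_sub_left, sympForm_sub_left, sympForm_smul_left, sympForm_smul_left,
        sympForm_self]
      have : sympForm m F v (S.J *ᵥ v) = S.N v := rfl
      rw [this]
      field_simp
      ring
    have hy := c3c_perp_all5 S hm J₁ h h2 hv hy1 hy2 hvst
    rw [hdec, Matrix.mulVec_add, Matrix.mulVec_add, Matrix.mulVec_smul, Matrix.mulVec_smul, hDv,
      hDJv, hy, smul_zero, smul_zero, add_zero, add_zero]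
  have hJ₁eq : J₁ = s • (1 : 𝕄) + t • S.J := by
    have h0 : c3cD S J₁ s t = 0 := by
      apply mat_eq_of_mulVec
      intro u
      rw [hall u, Matrix.zero_mulVec]
    unfold c3cD at h0
    exact sub_eq_zero.mp h0
  -- `(s + t J)² = δ`
  have hv0 := c3c_ne_zero S hv
  have hsq : S.act (s * s + S.δ * (t * t) - S.δ) (s * t + t * s) v = 0 := by
    have e1 : J₁ *ᵥ (J₁ *ᵥ v) = S.δ • v := by
      rw [Matrix.mulVec_mulVec, hJ₁, Matrix.smul_mulVec, Matrix.one_mulVec]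
    have e2 : ∀ u : 𝕍, J₁ *ᵥ u = S.act s t u := by
      intro u
      rw [← c3cD_eq_zero_iff]
      exact hall u
    rw [e2, e2, act_act] at e1
    have e3 : S.act (s * s + S.δ * (t * t) - S.δ) (s * t + t * s) v =
        S.act (s * s + S.δ * (t * t)) (s * t + t * s) v - S.δ • v := by
      unfold CS.act
      rw [sub_smul]
      abel
    rw [e3, e1, sub_self]
  obtain ⟨h3, h4⟩ := act_eq_zero S hv0 hsq
  have hst : s * t = 0 := by
    have : 2 * (s * t) = 0 := by linear_combination h4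
    exact (mul_eq_zero.mp this).resolve_left h2
  rcases mul_eq_zero.mp hst with hs | ht
  · rw [hs] at h3
    have ht2 : (t - 1) * (t + 1) = 0 := by
      have h5 : S.δ * ((t - 1) * (t + 1)) = 0 := by linear_combination h3
      exact (mul_eq_zero.mp h5).resolve_left S.δ_ne_zero
    rcases mul_eq_zero.mp ht2 with h6 | h6
    · left
      rw [hJ₁eq, hs, sub_eq_zero.mp h6, zero_smul, one_smul, zero_add]
    · right
      rw [hJ₁eq, hs, eq_neg_of_add_eq_zero_left h6, zero_smul, neg_smul, one_smul, zero_add]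
  · exfalso
    rw [ht] at h3
    apply S.nsq s
    linear_combination h3

/-- I. An element of `Sp` not normalising `K` moves some non-degenerate `K`-line off the `K`-lines. -/
theorem exists_line_not_invariant5 [Fintype F] (S : CS m F) (hm : 5 ≤ m) (h2 : (2 : F) ≠ 0)
    (g : GL (Fin m ⊕ Fin m) F) (hg : g ∈ spGL m F)
    (hgJ : ¬ ((g : 𝕄) * S.J = S.J * (g : 𝕄) ∨ (g : 𝕄) * S.J = -(S.J * (g : 𝕄)))) :
    ∃ v : 𝕍, S.N v ≠ 0 ∧
      S.J *ᵥ ((g : 𝕄) *ᵥ v) ∉ Submodule.span F {(g : 𝕄) *ᵥ v, (g : 𝕄) *ᵥ (S.J *ᵥ v)} := by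
  by_contra hcon
  push Not at hcon
  apply hgJ
  have hinv1 : ((g⁻¹ : GL (Fin m ⊕ Fin m) F) : 𝕄) * (g : 𝕄) = 1 := by
    rw [← Units.val_mul, inv_mul_cancel, Units.val_one]
  have hinv2 : (g : 𝕄) * ((g⁻¹ : GL (Fin m ⊕ Fin m) F) : 𝕄) = 1 := by
    rw [← Units.val_mul, mul_inv_cancel, Units.val_one]
  obtain ⟨J₁, hJ₁def⟩ : ∃ J₁ : 𝕄, J₁ = ((g⁻¹ : GL (Fin m ⊕ Fin m) F) : 𝕄) * S.J * (g : 𝕄) :=
    ⟨_, rfl⟩
  have hsq : J₁ * J₁ = S.δ • (1 : 𝕄) := by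
    rw [hJ₁def]
    calc ((g⁻¹ : GL (Fin m ⊕ Fin m) F) : 𝕄) * S.J * (g : 𝕄) *
          (((g⁻¹ : GL (Fin m ⊕ Fin m) F) : 𝕄) * S.J * (g : 𝕄))
        = ((g⁻¹ : GL (Fin m ⊕ Fin m) F) : 𝕄) * S.J *
            ((g : 𝕄) * ((g⁻¹ : GL (Fin m ⊕ Fin m) F) : 𝕄)) * S.J * (g : 𝕄) := by
          simp only [Matrix.mul_assoc]
      _ = ((g⁻¹ : GL (Fin m ⊕ Fin m) F) : 𝕄) * (S.J * S.J) * (g : 𝕄) := by
          rw [hinv2, Matrix.mul_one, Matrix.mul_assoc ((g⁻¹ : GL (Fin m ⊕ Fin m) F) : 𝕄)]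
      _ = S.δ • (1 : 𝕄) := by
          rw [S.sq, Matrix.mul_smul, Matrix.mul_one, Matrix.smul_mul, hinv1]
  have hline : ∀ v : 𝕍, S.N v ≠ 0 → ∃ s t : F, J₁ *ᵥ v = S.act s t v := by
    intro v hv
    obtain ⟨s, t, hst⟩ := Submodule.mem_span_pair.mp (hcon v hv)
    refine ⟨s, t, ?_⟩
    rw [hJ₁def, ← Matrix.mulVec_mulVec, ← Matrix.mulVec_mulVec, ← hst, Matrix.mulVec_add,
      Matrix.mulVec_smul, Matrix.mulVec_smul, inv_mul_mulVec, inv_mul_mulVec]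
    rfl
  have hback : (g : 𝕄) * J₁ = S.J * (g : 𝕄) := by
    rw [hJ₁def, ← Matrix.mul_assoc, ← Matrix.mul_assoc, hinv2, Matrix.one_mul]
  rcases eq_or_eq_neg_of_line_invariant5 S hm h2 J₁ hsq hline with h1 | h1
  · left
    rw [h1] at hback
    exact hback
  · right
    rw [h1, Matrix.mul_neg] at hback
    rw [← hback, neg_neg]

end Cfsg.Agent.Lib.Helper13.C3Low
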