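import Mathlib
import Cfsg.Agent.Lib.Helper29.SpAschDefs
import Cfsg.Agent.Lib.Helper29.SpAschTools
import Cfsg.Agent.Lib.Helper24.AschA7Main

/-!
S5662 (Aschbacher for `Sp_2m(F)`), block [NIL] (sub-planner helper24), leaves NIL-1 .. NIL-4 of `notes/S5662_NIL_leaves.lean`
(exact signatures): scalars of `isoG J` have square one, `|Z(N)| = 2`, the traces of `N` are fixed by the Frobenius, and the Frobenius
as a ring automorphism with its (proper) fixed field.
-/

set_option autoImplicit false
set_option linter.unusedSectionVars false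
set_option linter.unusedVariables false

namespace Cfsg.Agent.Lib.Helper13.SpNILLeaf
open Matrix Cfsg Cfsg.Geo Cfsg.Agent.Lib.Helper20.Asch Cfsg.Agent.Lib.Helper29.SpAsch Cfsg.Agent.Lib.Helper24.AschA7
open scoped Kronecker commutatorElement

variable {F : Type*} [Field F] {n m : ℕ} {J : Matrix (Fin n) (Fin n) F} {H N : Subgroup (GL (Fin n) F)}

/-! local copies of `Helper27.AschA7L3` without `[Fintype F]` -/

/-- an element of `GL` whose matrix is a scalar matrix is in `scalars` -/
lemma mem_scalars_of_eq_smul' (x : GL (Fin n) F) (c : F)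
    (h : (x : Matrix (Fin n) (Fin n) F) = c • (1 : Matrix (Fin n) (Fin n) F)) : x ∈ scalars (Fin n) F := by
  rw [mem_scalars_iff]
  by_cases hc : c = 0
  · subst hc
    rw [zero_smul] at h
    have h1 : (1 : Matrix (Fin n) (Fin n) F) = 0 := by
      have := x.mul_inv
      rw [h, zero_mul] at this
      exact this.symm
    refine ⟨1, ?_⟩
    rw [h, Units.val_one, one_smul, h1]
  · exact ⟨Units.mk0 c hc, h⟩

/-- an element of an absolutely irreducible group commuting with the whole group is a scalar -/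
lemma mem_scalars_of_commutes' (habs : AbsIrr N) (x : GL (Fin n) F)
    (h : ∀ y ∈ N, x * y = y * x) : x ∈ scalars (Fin n) F := by
  obtain ⟨c, hc⟩ := habs.2 (x : Matrix (Fin n) (Fin n) F) (by
    rintro _ ⟨y, hy, rfl⟩
    rw [← Units.val_mul, ← Units.val_mul, h y hy])
  exact mem_scalars_of_eq_smul' x c hc

/-- L3.  `x` is not central (B1), so `y x y⁻¹ = λ x` for some `y ∈ N` and a scalar `λ ≠ 1`; `tr x = λ tr x`. -/
theorem trace_eq_zero' (habs : AbsIrr N) (hcomm : ⁅N, N⁆ ≤ scalars (Fin n) F) {x : GL (Fin n) F} (hx : x ∈ N)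
    (hxs : x ∉ scalars (Fin n) F) : Matrix.trace (x : Matrix (Fin n) (Fin n) F) = 0 := by
  have hex : ∃ y ∈ N, x * y ≠ y * x := by
    by_contra hcon
    push Not at hcon
    exact hxs (mem_scalars_of_commutes' habs x hcon)
  obtain ⟨y, hy, hxy⟩ := hex
  have hsc : ⁅y, x⁆ ∈ scalars (Fin n) F := hcomm (Subgroup.commutator_mem_commutator hy hx)
  rw [mem_scalars_iff] at hsc
  obtain ⟨c, hc⟩ := hsc
  have hc1 : (c : F) ≠ 1 := by
    intro h1
    apply hxy
    rw [h1, one_smul] at hc
    have h2 : ⁅y, x⁆ = 1 := Units.ext hc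
    rw [commutatorElement_eq_one_iff_mul_comm] at h2
    exact h2.symm
  -- `y x y⁻¹ = c x`
  have h1 : y * x * y⁻¹ = ⁅y, x⁆ * x := by
    rw [commutatorElement_def]; group
  have h2 : (y : Matrix (Fin n) (Fin n) F) * (x : Matrix (Fin n) (Fin n) F) *
      ((y⁻¹ : GL (Fin n) F) : Matrix (Fin n) (Fin n) F) = (c : F) • (x : Matrix (Fin n) (Fin n) F) := by
    have := congrArg (fun g : GL (Fin n) F => (g : Matrix (Fin n) (Fin n) F)) h1
    simp only [Units.val_mul] at this
    rw [this, hc, Matrix.smul_mul, one_mul]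
  have h3 : Matrix.trace ((y : Matrix (Fin n) (Fin n) F) * (x : Matrix (Fin n) (Fin n) F) *
      ((y⁻¹ : GL (Fin n) F) : Matrix (Fin n) (Fin n) F)) = Matrix.trace (x : Matrix (Fin n) (Fin n) F) := by
    rw [Matrix.trace_mul_comm, ← mul_assoc, ← Units.val_mul, inv_mul_cancel, Units.val_one, one_mul]
  rw [h2, Matrix.trace_smul, smul_eq_mul] at h3
  have h4 : ((c : F) - 1) * Matrix.trace (x : Matrix (Fin n) (Fin n) F) = 0 := by linear_combination h3
  rcases mul_eq_zero.mp h4 with h | h
  · exact absurd (sub_eq_zero.mp h) hc1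
  · exact h


/-- a scalar `c • 1` of `isoG J` has `c * c = 1` (`n > 0`) -/
lemma scalar_sq (hJ : IsAltGram J) (hpos : 0 < n) {x : GL (Fin n) F} (hx : x ∈ isoG J) (c : F)
    (hc : (x : Matrix (Fin n) (Fin n) F) = c • (1 : Matrix (Fin n) (Fin n) F)) : c * c = 1 := by
  have : Nonempty (Fin n) := ⟨⟨0, hpos⟩⟩
  rw [mem_isoG_iff, hc] at hx
  have h1 : (c * c) • J = J := by
    rw [Matrix.transpose_smul, Matrix.transpose_one, Matrix.smul_mul, Matrix.one_mul, Matrix.mul_smul,
      Matrix.mul_one, smul_smul] at hx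
    exact hx
  have hJ0 : J ≠ 0 := by
    intro h
    have hd := hJ.det
    rw [h, Matrix.det_zero] at hd
    exact hd rfl
  by_contra hne
  apply hJ0
  have h2 : (c * c - 1) • J = 0 := by rw [sub_smul, h1, one_smul, sub_self]
  rcases smul_eq_zero.1 h2 with h | h
  · exact absurd (sub_eq_zero.1 h) hne
  · exact h

/-- NIL-1 (S).  `x = c • 1` preserves `bfm J`, `J ≠ 0` (or `n = 0`): `c² = 1`. -/
theorem sq_eq_one_of_scalar_isoG (hJ : IsAltGram J) {x : GL (Fin n) F} (hx : x ∈ isoG J)
    (hs : x ∈ scalars (Fin n) F) : x * x = 1 := by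
  rcases Nat.eq_zero_or_pos n with h0 | hpos
  · subst h0
    exact Units.ext (Matrix.ext fun i => i.elim0)
  obtain ⟨c, hc⟩ := (mem_scalars_iff _).1 hs
  have hcc := scalar_sq hJ hpos hx (c : F) hc
  apply Units.ext
  rw [Units.val_mul, hc, Units.val_one, Matrix.smul_mul, Matrix.one_mul, smul_smul, hcc, one_smul]

/-- NIL-2 (S-M).  `Z(N)` is cyclic (`CM`), all its elements are scalars in `isoG J`, hence of square `1`: `|Z(N)| ≤ 2`; and
`Z(N) ≠ 1` because it contains a non-trivial commutator (`CM.nonab`, `CM.comm_central`). -/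
theorem card_center_eq_two (hJ : IsAltGram J) (hNJ : N ≤ isoG J) (habs : AbsIrr N) (hcm : CM N) :
    Nat.card (Subgroup.center N) = 2 := by
  -- every central element has square one
  have hsq : ∀ z : Subgroup.center N, z * z = 1 := by
    intro z
    have hzs : ((z : N) : GL (Fin n) F) ∈ scalars (Fin n) F := by
      apply mem_scalars_of_commutes' habs
      intro y hy
      have h := (Subgroup.mem_center_iff.1 z.2) ⟨y, hy⟩
      have h2 := congrArg (fun w : N => (w : GL (Fin n) F)) h
      exact h2.symm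
    have h1 := sq_eq_one_of_scalar_isoG hJ (hNJ (z : N).2) hzs
    apply Subtype.ext
    apply Subtype.ext
    exact h1
  have := hcm.center_cyclic
  obtain ⟨g, hg⟩ := IsCyclic.exists_generator (α := Subgroup.center N)
  have hcard : orderOf g = Nat.card (Subgroup.center N) := orderOf_eq_card_of_forall_mem_zpowers hg
  have hdvd : orderOf g ∣ 2 := orderOf_dvd_of_pow_eq_one (by rw [pow_two]; exact hsq g)
  rcases (Nat.dvd_prime Nat.prime_two).1 hdvd with h1 | h2
  · -- trivial centre: contradiction with a non-trivial commutator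
    exfalso
    obtain ⟨x, y, hxy⟩ := hcm.nonab
    have hmem : (⟨⁅x, y⁆, hcm.comm_central x y⟩ : Subgroup.center N) ∈ Subgroup.zpowers g := hg _
    rw [orderOf_eq_one_iff] at h1
    rw [h1, Subgroup.zpowers_one_eq_bot, Subgroup.mem_bot] at hmem
    exact hxy (congrArg Subtype.val hmem)
  · rw [← hcard, h2]

/-- NIL-3 (S-M).  A scalar of `isoG J` has trace `± n`; `(± n)^p = ± n` in characteristic `p`. -/
theorem trace_frobenius_fixed (hJ : IsAltGram J) (hNJ : N ≤ isoG J) (habs : AbsIrr N)
    (hcomm : ⁅N, N⁆ ≤ scalars (Fin n) F) {p : ℕ} (hp : p.Prime) (hchar : CharP F p) {x : GL (Fin n) F} (hx : x ∈ N) :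
    Matrix.trace (x : Matrix (Fin n) (Fin n) F) ^ p = Matrix.trace (x : Matrix (Fin n) (Fin n) F) := by
  by_cases hxs : x ∈ scalars (Fin n) F
  · rcases Nat.eq_zero_or_pos n with h0 | hpos
    · subst h0
      have : Matrix.trace (x : Matrix (Fin 0) (Fin 0) F) = 0 := by simp [Matrix.trace]
      rw [this, zero_pow hp.ne_zero]
    obtain ⟨c, hc⟩ := (mem_scalars_iff _).1 hxs
    have hcc := scalar_sq hJ hpos (hNJ hx) (c : F) hc
    have htr : Matrix.trace (x : Matrix (Fin n) (Fin n) F) = (c : F) * (n : F) := by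
      rw [hc, Matrix.trace_smul, Matrix.trace_one, Fintype.card_fin, smul_eq_mul]
    have : Fact p.Prime := ⟨hp⟩
    have hn : ((n : F)) ^ p = (n : F) := by
      have := map_natCast (frobenius F p) n
      rwa [frobenius_def] at this
    have hcp : (c : F) ^ p = (c : F) := by
      have h6 : ((c : F) - 1) * ((c : F) + 1) = 0 := by linear_combination hcc
      rcases mul_eq_zero.1 h6 with h7 | h7
      · have hc1 : (c : F) = 1 := by linear_combination h7
        rw [hc1, one_pow]
      · have hc1 : (c : F) = -1 := by linear_combination h7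
        rw [hc1]
        rcases hp.eq_two_or_odd' with h2 | hodd
        · subst h2
          rw [neg_one_sq]
          exact (CharTwo.neg_eq (1 : F)).symm
        · exact hodd.neg_one_pow
    rw [htr, mul_pow, hn, hcp]
  · rw [trace_eq_zero' habs hcomm hx hxs, zero_pow hp.ne_zero]

/-- NIL-4 (M).  The Frobenius `φ = (· ^ p)` as a ring automorphism of the finite field `F` and its fixed field `F₀`, which is
proper when `|F| = p^e`, `e ≥ 2` (`X^p - X` has at most `p` roots). -/
theorem exists_frobenius [Fintype F] {p e : ℕ} (hp : p.Prime) (hchar : CharP F p) (hcard : Fintype.card F = p ^ e)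
    (he : 2 ≤ e) :
    ∃ (φ : F ≃+* F) (F₀ : Subfield F), (∀ c, φ c = c ^ p) ∧ (∀ c, c ∈ F₀ ↔ φ c = c) ∧ F₀ ≠ ⊤ := by
  classical
  haveI : Fact p.Prime := ⟨hp⟩
  haveI : ExpChar F p := ExpChar.prime hp
  have hbij : Function.Bijective (frobenius F p) :=
    Finite.injective_iff_bijective.1 (frobenius_inj F p)
  let φ : F ≃+* F := RingEquiv.ofBijective (frobenius F p) hbij
  have hφ : ∀ c, φ c = c ^ p := fun c => rfl
  refine ⟨φ, RingHom.eqLocusField (φ : F →+* F) (RingHom.id F), hφ, fun c => Iff.rfl, ?_⟩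
  intro htop
  -- every element is a root of `X^p - X`
  have hall : ∀ c : F, c ^ p = c := by
    intro c
    have hc : c ∈ RingHom.eqLocusField (φ : F →+* F) (RingHom.id F) := by rw [htop]; trivial
    exact hc
  have hp1 : 1 < p := hp.one_lt
  have hne : (Polynomial.X ^ p - Polynomial.X : Polynomial F) ≠ 0 := FiniteField.X_pow_card_sub_X_ne_zero F hp1
  have hsub : (Finset.univ : Finset F).val ⊆ (Polynomial.X ^ p - Polynomial.X : Polynomial F).roots := by
    intro c _
    rw [Polynomial.mem_roots hne, Polynomial.IsRoot.def]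
    simp [hall c]
  have hle := Polynomial.card_le_degree_of_subset_roots hsub
  rw [FiniteField.X_pow_card_sub_X_natDegree_eq F hp1, Finset.card_univ, hcard] at hle
  have hlt : p < p ^ e := by
    calc p = p ^ 1 := (pow_one p).symm
      _ < p ^ e := Nat.pow_lt_pow_right hp1 (by omega)
  omega

end Cfsg.Agent.Lib.Helper13.SpNILLeaf
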