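/-
helper13: S2281, the core for `q` odd (paper proof = helper5's planner note 1, "2cLL ≤ L"), abstract
form on helper6's `SpGenG` (`Sab`, `Sab_mul'`, `Apar`):

`b ⊥ b'`, `b ⊥ b''`, `f(b'',b') = c ≠ 0`, and the parameter groups of `b, b', b'', b+b', b+b''`
coincide (`= L`).  Then `2 c s s' ∈ L` for `s, s' ∈ L`; if moreover `g0 ∈ L` with `2 c g0 = ζ` a
generator of `Fˣ`, then `L = F`, i.e. `b ∈ Rt X`.
-/
import Mathlib
import Cfsg.Agent.Lib.Helper6.SpGenG

set_option autoImplicit false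

namespace Cfsg.Agent.Lib.Helper13.SpOdd

open Matrix Cfsg.Agent.Lib.Helper5 Cfsg.Agent.Lib.Helper14.SpPerfect Cfsg.Agent.Lib.Helper14
open Cfsg.Agent.Lib.Helper6.SpGen

variable {F : Type*} [Field F] {m : ℕ}
variable {X : Subgroup (Matrix.symplecticGroup (Fin m) F)} {b b' b'' : Fin m ⊕ Fin m → F}

/-- the commutator step: `s, s' ∈ L ⟹ 2 c s s' ∈ L` -/
theorem mul_mem_Apar (h1 : Cfsg.sympForm m F b b' = 0) (h2 : Cfsg.sympForm m F b b'' = 0)
    {c : F} (hc : Cfsg.sympForm m F b'' b' = c)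
    (p1 : Apar X b' = Apar X b) (p2 : Apar X b'' = Apar X b)
    (p3 : Apar X (b + b') = Apar X b) (p4 : Apar X (b + b'') = Apar X b)
    {s s' : F} (hs : s ∈ Apar X b) (hs' : s' ∈ Apar X b) : 2 * c * s * s' ∈ Apar X b := by
  have S1 : Sab b b' s ∈ X :=
    Sab_mem_of_Apar (by rw [p3]; exact hs) hs (by rw [p1]; exact hs)
  have S2 : Sab b b'' s' ∈ X :=
    Sab_mem_of_Apar (by rw [p4]; exact hs') hs' (by rw [p2]; exact hs')
  have hc' : Cfsg.sympForm m F b' b'' = -c := by rw [sympForm_swap, hc]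
  have eP := Sab_mul' h1 h2 s s'
  have eQ := Sab_mul' h2 h1 s' s
  rw [hc] at eP
  rw [hc', add_comm (s' • b'') (s • b')] at eQ
  have key : Tr b (2 * c * s * s') =
      (Sab b b' s * Sab b b'' s') * (Sab b b'' s' * Sab b b' s)⁻¹ := by
    rw [eP, eQ]
    have e3 : Tr b (s * s' * c) * Sab b (s • b' + s' • b'') 1 *
        (Tr b (s' * s * -c) * Sab b (s • b' + s' • b'') 1)⁻¹ =
        Tr b (s * s' * c) * (Tr b (s' * s * -c))⁻¹ := by group
    rw [e3, ← Tr_neg, Tr_mul]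
    congr 1
    ring
  rw [mem_Apar, key]
  exact X.mul_mem (X.mul_mem S1 S2) (X.inv_mem (X.mul_mem S2 S1))

/-- **the core for `q` odd** -/
theorem odd_core (hF2 : (2 : F) ≠ 0)
    (h1 : Cfsg.sympForm m F b b' = 0) (h2 : Cfsg.sympForm m F b b'' = 0)
    {c : F} (hc : Cfsg.sympForm m F b'' b' = c) (hc0 : c ≠ 0)
    (p1 : Apar X b' = Apar X b) (p2 : Apar X b'' = Apar X b)
    (p3 : Apar X (b + b') = Apar X b) (p4 : Apar X (b + b'') = Apar X b)
    (ζ : F) (hζ : ∀ y : F, y ≠ 0 → ∃ k : ℕ, y = ζ ^ (k + 1))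
    (g0 : F) (hg0 : 2 * c * g0 = ζ) (hT : Tr b g0 ∈ X) : b ∈ Rt X := by
  have h2c : 2 * c ≠ 0 := mul_ne_zero hF2 hc0
  -- all `ζ^(k+1) / (2c)` lie in `L`
  have hpow : ∀ k : ℕ, ζ ^ (k + 1) / (2 * c) ∈ Apar X b := by
    intro k
    induction k with
    | zero =>
      have : ζ ^ (0 + 1) / (2 * c) = g0 := by
        rw [zero_add, pow_one, ← hg0, mul_div_cancel_left₀ _ h2c]
      rw [this]
      exact hT
    | succ k ih =>
      have := mul_mem_Apar h1 h2 hc p1 p2 p3 p4 ih (show g0 ∈ Apar X b from hT)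
      have e : 2 * c * (ζ ^ (k + 1) / (2 * c)) * g0 = ζ ^ (k + 1 + 1) / (2 * c) := by
        rw [mul_div_cancel₀ _ h2c, pow_succ (ζ) (k + 1), ← hg0]
        field_simp
      rwa [e] at this
  intro s
  by_cases hs : s = 0
  · rw [hs, Tr_zero]
    exact X.one_mem
  · obtain ⟨k, hk⟩ := hζ (2 * c * s) (mul_ne_zero h2c hs)
    have := hpow k
    rw [← hk, mul_div_cancel_left₀ _ h2c] at this
    exact this

end Cfsg.Agent.Lib.Helper13.SpOdd
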