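/-
helper13: S2281 for `q` odd and `n ≥ 3`: the frozen conclusion at `n = m`.
`u = u0 1` (helper26), `h = J` (`h u h⁻¹ = w0 1`), `g = gQ g0` (helper19: puts `Tr e_0 g0` into `X`),
`g0 = -ζ/2` with `ζ` a generator of `Fˣ`; field generation = `SpOdd.odd_core` (helper5's `2cLL ≤ L`)
at `b = e_{m-2}`, `b' = -e_{m-1}`, `b'' = e_{m-1} + f_{m-1}` (`c = f(b'',b') = -1`);
endgame = helper25's `SpReg.endgame` in helper19's instance `endgame_u0w0`.
-/
import Mathlib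
import Cfsg.Agent.Lib.Helper19.RegSpCore4
import Cfsg.Agent.Lib.Helper13.SpOddCore

set_option autoImplicit false

namespace Cfsg.Agent.Lib.Helper13.SpOdd

open Matrix Cfsg.Agent.Lib.Helper5 Cfsg.Agent.Lib.Helper14 Cfsg.Agent.Lib.Helper14.SpPerfect
open Cfsg.Agent.Lib.Helper6.SpGen Cfsg.Agent.Lib.Helper26.RegSp Cfsg.Agent.Lib.Helper19.RegSpG

variable {F : Type*} [Field F] {m : ℕ}

/-- `w0 1 (e_{m-1} + f_{m-1}) = e_{m-1}` (any characteristic) -/
theorem w0_last_sum (il : Fin m) (hl : il.val + 1 = m) :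
    ap (w0 m (1 : F)) (eV il + fV il) = (eV il : Fin m ⊕ Fin m → F) := by
  rw [ap_add, ap_w0_eV, ap_w0_fV]
  funext a
  rcases a with k | k
  · show (phiF il k + 0 : F) = _
    rw [eV_inl, add_zero]
    unfold phiF
    by_cases h1 : k = il
    · rw [if_pos h1, if_pos h1]
    · have := k.2
      rw [if_neg h1, if_neg h1, if_neg (by omega)]
  · show (if (il : ℕ) + 1 = m then -(1 : F) else 0) + (if k ≤ il then 1 else 0) = _
    have hk : k ≤ il := by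
      rw [Fin.le_def]
      have := k.2
      omega
    rw [if_pos hl, if_pos hk, eV_inr, neg_add_cancel]

/-- all `e_i` have the same parameter group -/
theorem Apar_chain (hm : 0 < m) {X : Subgroup (Matrix.symplecticGroup (Fin m) F)}
    (hu : u0 m (1 : F) ∈ X) (hw : w0 m (1 : F) ∈ X) :
    ∀ n : ℕ, ∀ i : Fin m, i.val = n →
      Apar X (eV i : Fin m ⊕ Fin m → F) = Apar X (eV ⟨0, hm⟩) := by
  intro n
  induction n with
  | zero =>
    intro i hi
    have : i = ⟨0, hm⟩ := Fin.ext hi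
    rw [this]
  | succ n ih =>
    intro j hj
    have hn : n < m := by have := j.2; omega
    have h1 := ih ⟨n, hn⟩ rfl
    have hij : j.val = (⟨n, hn⟩ : Fin m).val + 1 := hj
    have e : ap (u0 m (1 : F) * w0 m (1 : F)) (eV (⟨n, hn⟩ : Fin m)) =
        (-eV j : Fin m ⊕ Fin m → F) := by
      rw [ap_mul, w0_eV_succ 1 _ j hij, u0_eV_diff 1 _ j hij]
    rw [← Apar_neg_vec, ← e, Apar_ap (X.mul_mem hu hw), h1]

/-- **S2281 for odd `q` and `n ≥ 3`** (the frozen conclusion at `n = m`). -/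
theorem core_odd [Fintype F] (h2 : (2 : F) ≠ 0) (hm : 3 ≤ m) :
    ∃ u g h : Matrix.symplecticGroup (Fin m) F,
      IsNilpotent ((u : Matrix (Fin m ⊕ Fin m) (Fin m ⊕ Fin m) F) - 1) ∧
      ((u : Matrix (Fin m ⊕ Fin m) (Fin m ⊕ Fin m) F) - 1) ^ (2 * m - 1) ≠ 0 ∧
      Subgroup.closure ({u, g * u * g⁻¹, h * u * h⁻¹} :
        Set (Matrix.symplecticGroup (Fin m) F)) = ⊤ := by
  classical
  have hm0 : 0 < m := by omega
  obtain ⟨ζu, hζu⟩ := IsCyclic.exists_monoid_generator (α := Fˣ)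
  obtain ⟨ζ, hζdef⟩ : ∃ ζ : F, ζ = (ζu : F) := ⟨_, rfl⟩
  have hζ : ∀ y : F, y ≠ 0 → ∃ k : ℕ, y = ζ ^ (k + 1) := by
    intro y hy
    obtain ⟨k, hk⟩ := (Submonoid.mem_powers_iff _ _).1 (hζu (ζu⁻¹ * Units.mk0 y hy))
    refine ⟨k, ?_⟩
    rw [hζdef, pow_succ', ← Units.val_pow_eq_pow_val, hk, Units.val_mul,
      Units.val_inv_eq_inv_val, Units.val_mk0, mul_inv_cancel_left₀ ζu.ne_zero]
  obtain ⟨g0, hg0def⟩ : ∃ g0 : F, g0 = -ζ / 2 := ⟨_, rfl⟩
  have hg0 : 2 * (-1 : F) * g0 = ζ := by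
    rw [hg0def]
    field_simp
  refine ⟨u0 m 1, gQ hm g0, Jsp m F, (u0_regular hm0 one_ne_zero).1,
    (u0_regular hm0 one_ne_zero).2, ?_⟩
  obtain ⟨M, hM⟩ : ∃ M : Subgroup (Matrix.symplecticGroup (Fin m) F), M =
    Subgroup.closure ({u0 m 1, gQ hm g0 * u0 m 1 * (gQ hm g0)⁻¹,
      Jsp m F * u0 m 1 * (Jsp m F)⁻¹} : Set (Matrix.symplecticGroup (Fin m) F)) := ⟨_, rfl⟩
  rw [← hM]
  have hu : u0 m (1 : F) ∈ M := by rw [hM]; exact Subgroup.subset_closure (by simp)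
  have hg : gQ hm g0 * u0 m (1 : F) * (gQ hm g0)⁻¹ ∈ M := by
    rw [hM]; exact Subgroup.subset_closure (by simp)
  have hw : w0 m (1 : F) ∈ M := by rw [hM]; exact Subgroup.subset_closure (by simp [w0])
  have hT : Tr (eV (⟨0, by omega⟩ : Fin m)) g0 ∈ M := Tr_e0_mem hm g0 1 M hu hg
  -- indices
  obtain ⟨il, hil⟩ : ∃ il : Fin m, il = ⟨m - 1, by omega⟩ := ⟨_, rfl⟩
  obtain ⟨ip, hip⟩ : ∃ ip : Fin m, ip = ⟨m - 2, by omega⟩ := ⟨_, rfl⟩
  have hl : il.val + 1 = m := by rw [hil]; show m - 1 + 1 = m; omega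
  have hp : il.val = ip.val + 1 := by rw [hil, hip]; show m - 1 = m - 2 + 1; omega
  have hne : il ≠ ip := by
    intro h
    rw [h] at hp
    omega
  have chain := Apar_chain hm0 hu hw
  have cl : Apar M (eV il : Fin m ⊕ Fin m → F) = Apar M (eV ⟨0, hm0⟩) := chain il.val il rfl
  have cp : Apar M (eV ip : Fin m ⊕ Fin m → F) = Apar M (eV ⟨0, hm0⟩) := chain ip.val ip rfl
  -- forms
  have h1 : Cfsg.sympForm m F (eV ip : Fin m ⊕ Fin m → F) (-eV il) = 0 := by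
    rw [sympForm_neg_right, form_eV_eV, neg_zero]
  have h2' : Cfsg.sympForm m F (eV ip : Fin m ⊕ Fin m → F) (eV il + fV il) = 0 := by
    rw [sympForm_add_right, form_eV_eV, form_eV_fV, if_neg hne, neg_zero, add_zero]
  have hc : Cfsg.sympForm m F (eV il + fV il : Fin m ⊕ Fin m → F) (-eV il) = -1 := by
    rw [sympForm_neg_right, sympForm_add_left, form_eV_eV, form_fV_eV, if_pos rfl, zero_add]
  -- parameter groups
  have p1 : Apar M (-eV il : Fin m ⊕ Fin m → F) = Apar M (eV ip) := by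
    rw [Apar_neg_vec, cl, cp]
  have p2 : Apar M (eV il + fV il : Fin m ⊕ Fin m → F) = Apar M (eV ip) := by
    rw [← Apar_ap hw (eV il + fV il), w0_last_sum il hl, cl, cp]
  have p3 : Apar M (eV ip + -eV il : Fin m ⊕ Fin m → F) = Apar M (eV ip) := by
    rw [← sub_eq_add_neg, ← w0_eV_succ 1 ip il hp, Apar_ap hw]
  have p4 : Apar M (eV ip + (eV il + fV il) : Fin m ⊕ Fin m → F) = Apar M (eV ip) := by
    have e : ap (w0 m (1 : F)) (eV ip + (eV il + fV il)) = (eV ip : Fin m ⊕ Fin m → F) := by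
      rw [ap_add, w0_eV_succ 1 ip il hp, w0_last_sum il hl, sub_add_cancel]
    rw [← Apar_ap hw (eV ip + (eV il + fV il)), e]
  have hTb : Tr (eV ip : Fin m ⊕ Fin m → F) g0 ∈ M := by
    rw [← mem_Apar, cp]
    exact hT
  have hRt : (eV ip : Fin m ⊕ Fin m → F) ∈ Rt M :=
    odd_core h2 h1 h2' hc (by norm_num) p1 p2 p3 p4 ζ hζ g0 hg0 hTb
  have h0 : (eV ⟨0, hm0⟩ : Fin m ⊕ Fin m → F) ∈ Rt M := by
    rw [mem_Rt_iff_Apar, ← cp, ← mem_Rt_iff_Apar]
    exact hRt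
  exact endgame_u0w0 hm0 hu hw h0

end Cfsg.Agent.Lib.Helper13.SpOdd
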