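/-
helper13: S2281 for `q` odd and ALL `n ≥ 2` (so `n = 2` included): the frozen conclusion at `n = m`.
Same as `SpOdd.core_odd`, but the third conjugate is `g u g⁻¹` with `g = S_{e_0,e_1}(-g0/2)`
(helper5's choice): `g u g⁻¹ = Tr e_0 g0 * u` needs only `u e_0 = e_0`, `u e_1 = e_0 + e_1`.
-/
import Mathlib
import Cfsg.Agent.Lib.Helper13.SpOddAsm

set_option autoImplicit false

namespace Cfsg.Agent.Lib.Helper13.SpOdd

open Matrix Cfsg.Agent.Lib.Helper5 Cfsg.Agent.Lib.Helper14 Cfsg.Agent.Lib.Helper14.SpPerfect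
open Cfsg.Agent.Lib.Helper6.SpGen Cfsg.Agent.Lib.Helper26.RegSp Cfsg.Agent.Lib.Helper19.RegSpG

variable {F : Type*} [Field F] {m : ℕ}

/-- conjugating `u` (with `u a = a`, `u b = a + b`, `a ⊥ b`) by the short root element
`S_{a,b}(s)` multiplies it by the long root element `Tr a (-2s)` -/
theorem Sab_conj_u (u : Matrix.symplecticGroup (Fin m) F) {a b : Fin m ⊕ Fin m → F}
    (hab : Cfsg.sympForm m F a b = 0) (hua : ap u a = a) (hub : ap u b = a + b) (s : F) :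
    Sab a b s * u * (Sab a b s)⁻¹ = Tr a (-2 * s) * u := by
  have hba : Cfsg.sympForm m F b a = 0 := sympForm_perp_symm hab
  rw [mul_inv_eq_iff_eq_mul]
  apply ap_ext
  intro x
  have e1 : Cfsg.sympForm m F (ap u x) a = Cfsg.sympForm m F x a := by
    conv_lhs => rw [← hua]
    exact sympForm_ap u x a
  have hub' : ap u (b - a) = b := by rw [ap_sub, hub, hua, add_sub_cancel_left]
  have e2 : Cfsg.sympForm m F (ap u x) b =
      Cfsg.sympForm m F x b - Cfsg.sympForm m F x a := by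
    conv_lhs => rw [← hub']
    rw [sympForm_ap, sympForm_sub_right]
  rw [ap_mul, ap_mul, ap_mul, ap_Sab hab, ap_Sab hab, ap_Tr, ap_add, ap_smul, ap_add, ap_smul,
    ap_smul, hua, hub, e1, e2]
  simp only [sympForm_add_left, sympForm_smul_left, sympForm_self, hba,
    mul_zero, add_zero, e1]
  ext i
  simp only [Pi.add_apply, Pi.smul_apply, smul_eq_mul]
  ring

theorem colE_i0 (i0 : Fin m) (h0 : i0.val = 0) :
    (colE i0 : Fin m ⊕ Fin m → F) = eV i0 := by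
  funext k
  rcases k with k | k
  · rw [colE_inl, eV_inl]
    congr 1
    apply propext
    rw [Fin.le_def, Fin.ext_iff]
    omega
  · rw [colE_inr, eV_inr]

theorem colE_i1 (i0 i1 : Fin m) (h0 : i0.val = 0) (h1 : i1.val = 1) :
    (colE i1 : Fin m ⊕ Fin m → F) = eV i0 + eV i1 := by
  funext k
  rcases k with k | k
  · rw [colE_inl, Pi.add_apply, eV_inl, eV_inl]
    simp only [Fin.le_def, Fin.ext_iff]
    by_cases hk0 : (k : ℕ) = 0
    · rw [if_pos (by omega), if_pos (by omega), if_neg (by omega), add_zero]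
    · by_cases hk1 : (k : ℕ) = 1
      · rw [if_pos (by omega), if_neg (by omega), if_pos (by omega), zero_add]
      · rw [if_neg (by omega), if_neg (by omega), if_neg (by omega), add_zero]
  · rw [colE_inr, Pi.add_apply, eV_inr, eV_inr, add_zero]

/-- **S2281 for odd `q` and all `n ≥ 2`** (the frozen conclusion at `n = m`). -/
theorem core_odd2 [Fintype F] (h2 : (2 : F) ≠ 0) (hm : 2 ≤ m) :
    ∃ u g h : Matrix.symplecticGroup (Fin m) F,
      IsNilpotent ((u : Matrix (Fin m ⊕ Fin m) (Fin m ⊕ Fin m) F) - 1) ∧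
      ((u : Matrix (Fin m ⊕ Fin m) (Fin m ⊕ Fin m) F) - 1) ^ (2 * m - 1) ≠ 0 ∧
      Subgroup.closure ({u, g * u * g⁻¹, h * u * h⁻¹} :
        Set (Matrix.symplecticGroup (Fin m) F)) = ⊤ := by
  classical
  have hm0 : 0 < m := by omega
  obtain ⟨ζu, hζu⟩ := IsCyclic.exists_monoid_generator (α := Fˣ)
  obtain ⟨ζ, hζdef⟩ : ∃ ζ : F, ζ = (ζu : F) := ⟨_, rfl⟩
  have hζ : ∀ y : F, y ≠ 0 → ∃ k : ℕ, y = ζ ^ (k + 1) := by
    intro y hy
    obtain ⟨k, hk⟩ := (Submonoid.mem_powers_iff _ _).1 (hζu (ζu⁻¹ * Units.mk0 y hy))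
    refine ⟨k, ?_⟩
    rw [hζdef, pow_succ', ← Units.val_pow_eq_pow_val, hk, Units.val_mul,
      Units.val_inv_eq_inv_val, Units.val_mk0, mul_inv_cancel_left₀ ζu.ne_zero]
  obtain ⟨g0, hg0def⟩ : ∃ g0 : F, g0 = -ζ / 2 := ⟨_, rfl⟩
  have hg0 : 2 * (-1 : F) * g0 = ζ := by
    rw [hg0def]
    field_simp
  obtain ⟨i0, hi0⟩ : ∃ i0 : Fin m, i0 = ⟨0, hm0⟩ := ⟨_, rfl⟩
  obtain ⟨i1, hi1⟩ : ∃ i1 : Fin m, i1 = ⟨1, by omega⟩ := ⟨_, rfl⟩
  have h0v : i0.val = 0 := by rw [hi0]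
  have h1v : i1.val = 1 := by rw [hi1]
  have hab : Cfsg.sympForm m F (eV i0 : Fin m ⊕ Fin m → F) (eV i1) = 0 := form_eV_eV i0 i1
  have hua : ap (u0 m (1 : F)) (eV i0) = (eV i0 : Fin m ⊕ Fin m → F) := by
    rw [ap_u0_eV, colE_i0 i0 h0v]
  have hub : ap (u0 m (1 : F)) (eV i1) = (eV i0 + eV i1 : Fin m ⊕ Fin m → F) := by
    rw [ap_u0_eV, colE_i1 i0 i1 h0v h1v]
  obtain ⟨g, hgdef⟩ : ∃ g : Matrix.symplecticGroup (Fin m) F,
      g = Sab (eV i0) (eV i1) (-g0 / 2) := ⟨_, rfl⟩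
  have hconj : g * u0 m (1 : F) * g⁻¹ = Tr (eV i0) g0 * u0 m 1 := by
    rw [hgdef, Sab_conj_u (u0 m (1 : F)) hab hua hub]
    congr 2
    field_simp
  refine ⟨u0 m 1, g, Jsp m F, (u0_regular hm0 one_ne_zero).1,
    (u0_regular hm0 one_ne_zero).2, ?_⟩
  obtain ⟨M, hM⟩ : ∃ M : Subgroup (Matrix.symplecticGroup (Fin m) F), M =
    Subgroup.closure ({u0 m 1, g * u0 m 1 * g⁻¹,
      Jsp m F * u0 m 1 * (Jsp m F)⁻¹} : Set (Matrix.symplecticGroup (Fin m) F)) := ⟨_, rfl⟩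
  rw [← hM]
  have hu : u0 m (1 : F) ∈ M := by rw [hM]; exact Subgroup.subset_closure (by simp)
  have hg : g * u0 m (1 : F) * g⁻¹ ∈ M := by
    rw [hM]; exact Subgroup.subset_closure (by simp)
  have hw : w0 m (1 : F) ∈ M := by rw [hM]; exact Subgroup.subset_closure (by simp [w0])
  have hT : Tr (eV i0 : Fin m ⊕ Fin m → F) g0 ∈ M := by
    have h := M.mul_mem hg (M.inv_mem hu)
    rwa [hconj, mul_inv_cancel_right] at h
  -- indices
  obtain ⟨il, hil⟩ : ∃ il : Fin m, il = ⟨m - 1, by omega⟩ := ⟨_, rfl⟩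
  obtain ⟨ip, hip⟩ : ∃ ip : Fin m, ip = ⟨m - 2, by omega⟩ := ⟨_, rfl⟩
  have hl : il.val + 1 = m := by rw [hil]; show m - 1 + 1 = m; omega
  have hp : il.val = ip.val + 1 := by rw [hil, hip]; show m - 1 = m - 2 + 1; omega
  have hne : il ≠ ip := by
    intro h
    rw [h] at hp
    omega
  have chain := Apar_chain hm0 hu hw
  have cl : Apar M (eV il : Fin m ⊕ Fin m → F) = Apar M (eV ⟨0, hm0⟩) := chain il.val il rfl
  have cp : Apar M (eV ip : Fin m ⊕ Fin m → F) = Apar M (eV ⟨0, hm0⟩) := chain ip.val ip rfl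
  -- forms
  have h1 : Cfsg.sympForm m F (eV ip : Fin m ⊕ Fin m → F) (-eV il) = 0 := by
    rw [sympForm_neg_right, form_eV_eV, neg_zero]
  have h2' : Cfsg.sympForm m F (eV ip : Fin m ⊕ Fin m → F) (eV il + fV il) = 0 := by
    rw [sympForm_add_right, form_eV_eV, form_eV_fV, if_neg hne, neg_zero, add_zero]
  have hc : Cfsg.sympForm m F (eV il + fV il : Fin m ⊕ Fin m → F) (-eV il) = -1 := by
    rw [sympForm_neg_right, sympForm_add_left, form_eV_eV, form_fV_eV, if_pos rfl, zero_add]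
  -- parameter groups
  have p1 : Apar M (-eV il : Fin m ⊕ Fin m → F) = Apar M (eV ip) := by
    rw [Apar_neg_vec, cl, cp]
  have p2 : Apar M (eV il + fV il : Fin m ⊕ Fin m → F) = Apar M (eV ip) := by
    rw [← Apar_ap hw (eV il + fV il), w0_last_sum il hl, cl, cp]
  have p3 : Apar M (eV ip + -eV il : Fin m ⊕ Fin m → F) = Apar M (eV ip) := by
    rw [← sub_eq_add_neg, ← w0_eV_succ 1 ip il hp, Apar_ap hw]
  have p4 : Apar M (eV ip + (eV il + fV il) : Fin m ⊕ Fin m → F) = Apar M (eV ip) := by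
    have e : ap (w0 m (1 : F)) (eV ip + (eV il + fV il)) = (eV ip : Fin m ⊕ Fin m → F) := by
      rw [ap_add, w0_eV_succ 1 ip il hp, w0_last_sum il hl, sub_add_cancel]
    rw [← Apar_ap hw (eV ip + (eV il + fV il)), e]
  have hTb : Tr (eV ip : Fin m ⊕ Fin m → F) g0 ∈ M := by
    rw [← mem_Apar, cp, ← hi0]
    exact hT
  have hRt : (eV ip : Fin m ⊕ Fin m → F) ∈ Rt M :=
    odd_core h2 h1 h2' hc (by norm_num) p1 p2 p3 p4 ζ hζ g0 hg0 hTb
  have h0 : (eV ⟨0, hm0⟩ : Fin m ⊕ Fin m → F) ∈ Rt M := by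
    rw [mem_Rt_iff_Apar, ← cp, ← mem_Rt_iff_Apar]
    exact hRt
  exact endgame_u0w0 hm0 hu hw h0

end Cfsg.Agent.Lib.Helper13.SpOdd
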