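import Mathlib
import Cfsg.Agent.Lib.Helper25.SpTK
import Cfsg.Agent.Lib.Helper25.TensQ
import Cfsg.Agent.Lib.Helper25.TensI

/-!
S5704 leaf (I1) `stageI_step` (owner of the market: helper25): the induction step of Stage I for
`Sp_a ⊗ Sp_b < Ω⁺_{ab}(q)`.
-/

set_option autoImplicit false
set_option linter.unusedSectionVars false
set_option linter.unusedVariables false

namespace Cfsg.Agent.Lib.Helper13.SpTLeaf
open Matrix QuadraticMap
open Cfsg.Agent.Lib.Helper25.Tens Cfsg.Agent.Lib.Helper25.TensLeaves Cfsg.Agent.Lib.Helper19.OSub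
open Cfsg.Agent.Lib.Helper25.SpT
open scoped Kronecker

variable {F : Type*} [Field F] {a b : ℕ}

/-- `y ↦ sf y z` as a linear map -/
def sfL {n : ℕ} (z : Fin n → F) : (Fin n → F) →ₗ[F] F where
  toFun y := sf y z
  map_add' y y' := sf_add_left y y' z
  map_smul' c y := by simp [sf_smul_left]

@[simp] lemma sfL_apply {n : ℕ} (z y : Fin n → F) : sfL z y = sf y z := rfl

/-- `y ↦ cB y w` as a linear map -/
def cBL (w : Idx a b → F) : (Fin b → F) →ₗ[F] (Fin a → F) :=
  (ctL w).comp (Matrix.mulVecLin (Jm b))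

@[simp] lemma cBL_apply (w : Idx a b → F) (y : Fin b → F) : cBL w y = cB y w := rfl

lemma sfv_ne_zero {n : ℕ} (hn : Even n) {y : Fin n → F} (hy : y ≠ 0) : sfv y ≠ 0 := by
  obtain ⟨z, hz⟩ := exists_sf_ne_zero hn hy
  intro h0
  apply hz
  rw [sf_skew, ← sfv_dot, h0, zero_dotProduct, neg_zero]

/-- a non-zero `y'` with `cB y' w = 0` and `sf y' z = 0` (`a + 1 < b` linear conditions) -/
lemma exists_cB_sf_zero (hab : a + 1 < b) (w : Idx a b → F) (z : Fin b → F) :
    ∃ y' : Fin b → F, y' ≠ 0 ∧ cB y' w = 0 ∧ sf y' z = 0 := by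
  set φ : (Fin b → F) →ₗ[F] (Fin (a + 1) → F) :=
    LinearMap.pi (fun i : Fin (a + 1) => if hi : i.val < a then
      (LinearMap.proj (⟨i.val, hi⟩ : Fin a)).comp (cBL w) else sfL z) with hφ
  obtain ⟨y', hy', hker⟩ := Cfsg.Agent.Lib.Helper25.TensLeaf.exists_ker (a := a + 1) (b := b) hab φ
  refine ⟨y', hy', ?_, ?_⟩
  · funext i
    have := congrFun hker ⟨i.val, by omega⟩
    simp only [hφ, LinearMap.pi_apply] at this
    rw [dif_pos i.isLt] at this
    simpa using this
  · have := congrFun hker ⟨a, by omega⟩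
    simp only [hφ, LinearMap.pi_apply] at this
    rw [dif_neg (by simp)] at this
    simpa using this

variable [Fintype F] {Q : QuadraticForm F (Idx a b → F)} {M : Subgroup (GL (Idx a b) F)}

/-- (I1) the induction step of Stage I -/
theorem stageI_step (h : MCtx a b Q M) (o : Fin b) (d : ℕ) (hd : d < a) (hP : PI o M d) :
    PI o M (d + 1) ∨ R1 M := by
  obtain ⟨m, hm, hmK, hfix⟩ := hP
  let id : Fin a := ⟨d, hd⟩
  set w : Idx a b → F := (m : Matrix (Idx a b) (Idx a b) F) *ᵥ
    pt (Pi.single id 1) (Pi.single o 1) with hw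
  have hab : a + 1 < b := by have := h.hab; omega
  obtain ⟨y', hy', hc, hs⟩ := exists_cB_sf_zero hab w (Pi.single o (1 : F))
  set k : GL (Idx a b) F := kB y' 1 with hk
  have hkM : k ∈ M := kB_mem h y' 1
  have hkw : (k : Matrix (Idx a b) (Idx a b) F) *ᵥ w = w := by
    have := mv_kB y' (1 : F) w
    rw [hc, pt_zero_left, smul_zero, add_zero] at this
    exact this
  have hkx : ∀ x : Fin a → F, (k : Matrix (Idx a b) (Idx a b) F) *ᵥ pt x (Pi.single o 1) =
      pt x (Pi.single o 1) := by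
    intro x
    have := mv_kB_pt y' (1 : F) x (Pi.single o (1 : F))
    rw [sf_skew, hs, neg_zero, mul_zero, zero_smul, add_zero] at this
    exact this
  by_cases hK : m⁻¹ * k * m ∈ KG a b F
  · right
    have hy1 : (1 : F) • y' ≠ 0 := by rwa [one_smul]
    exact Cfsg.Agent.Lib.Helper25.TensLeaf.R1_of_conj_mem (by have := h.ha; omega)
      (by omega) M m hm hmK ((1 : F) • y') (sfv y') hy1 (sfv_ne_zero h.eb hy') _ hK
  · left
    refine ⟨m⁻¹ * k * m, M.mul_mem (M.mul_mem (M.inv_mem hm) hkM) hm, hK, ?_⟩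
    intro i hi
    rw [Cfsg.Agent.Lib.Helper25.TensLeaf.conj_mulVec]
    by_cases hi' : i.val < d
    · rw [hfix i hi', hkx]
      exact Cfsg.Agent.Lib.Helper25.TensLeaf.fix_inv m (hfix i hi')
    · have hid : i = id := Fin.ext (by simp only [id]; omega)
      subst hid
      rw [← hw, hkw, hw, Cfsg.Agent.Lib.Helper25.TensLeaf.gl_inv_mul_mulVec]

end Cfsg.Agent.Lib.Helper13.SpTLeaf
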