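import Mathlib
import Cfsg.Agent.Lib.Helper25.SpTNDefs
import Cfsg.Agent.Lib.Helper27.SpTNAlg
import Cfsg.Agent.Lib.Helper13.SpTNKA
import Cfsg.Agent.Lib.Helper13.SpTNZ

/-!
S5704 leaf (N2g) `rigid_final` (owner of the market: helper25): the end of the rigid half of Lemma N.
-/

set_option autoImplicit false
set_option linter.unusedSectionVars false
set_option linter.unusedVariables false

namespace Cfsg.Agent.Lib.Helper13.SpTNLeaf
open Matrix QuadraticMap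
open Cfsg.Agent.Lib.Helper25.Tens Cfsg.Agent.Lib.Helper25.TensLeaves Cfsg.Agent.Lib.Helper19.OSub
open Cfsg.Agent.Lib.Helper25.SpT Cfsg.Agent.Lib.Helper25.TensLeaf
open scoped Kronecker

variable {F : Type*} [Field F] {a b : ℕ} {Q : QuadraticForm F (Idx a b → F)}

/-- polarisation of `sf x (Θ x) = 0` -/
lemma sf_mulVec_symm (Θ : Matrix (Fin a) (Fin a) F) (hΘ : ∀ x : Fin a → F, sf x (Θ *ᵥ x) = 0)
    (x x' : Fin a → F) : sf (Θ *ᵥ x) x' = sf x (Θ *ᵥ x') := by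
  have h1 := hΘ (x + x')
  rw [Matrix.mulVec_add, sf_add_left, sf_add_right, sf_add_right, hΘ x, hΘ x'] at h1
  rw [sf_skew (Θ *ᵥ x) x']
  linear_combination -h1

/-- the commutator of the centre element `E = G * (uB o z)⁻¹` with `kA y c` is a long root element -/
theorem comm_eq_rt (h : Ctx a b Q) (o : Fin b) (G : GL (Idx a b) F)
    (z : Fin b → F) (Θ : Matrix (Fin a) (Fin a) F) (hz : sf z (Pi.single o 1) = 0)
    (hΘ : ∀ x : Fin a → F, sf x (Θ *ᵥ x) = 0)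
    (hE : ∀ v : Idx a b → F, mv G v =
      mv (uB o z : GL (Idx a b) F) v + pt (Θ *ᵥ cB (Pi.single o 1) v) (Pi.single o 1))
    (y : Fin a → F) (c : F) :
    G * kA y c * G⁻¹ * (kA y c)⁻¹ =
      rt Q (pt y (Pi.single o 1)) (pt (Θ *ᵥ y) (Pi.single o 1)) c := by
  rw [mul_inv_eq_iff_eq_mul, mul_inv_eq_iff_eq_mul]
  apply gl_ext_pt
  intro x w
  have hQu : Q (pt y (Pi.single o 1)) = 0 := h.pure _ _
  have hQv : Q (pt (Θ *ᵥ y) (Pi.single o 1)) = 0 := h.pure _ _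
  have huv : polar Q (pt y (Pi.single o 1)) (pt (Θ *ᵥ y) (Pi.single o 1)) = 0 := by
    rw [h.pol, sf_self (Pi.single o (1 : F)), mul_zero]
  have hsym := sf_mulVec_symm Θ hΘ
  rw [mv_mul, mv_mul, mv_mul, mv_kA_pt, hE, hE, mv_uB_pt o z hz, mv_uB_pt o z hz, cB_pt, cB_pt,
    mv_add, mv_kA_pt, mv_kA_pt, mv_rt hQu hQv huv, polar_pt_left h, polar_pt_left h, cB_add,
    cB_pt, cB_pt]
  have hw' : sf (w + sf w (Pi.single o 1) • z + sf w z • Pi.single o 1) (Pi.single o (1 : F)) =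
      sf w (Pi.single o 1) := by
    rw [sf_add_left, sf_add_left, sf_smul_left, sf_smul_left, hz, sf_self]
    ring
  rw [hw', sf_self (Pi.single o (1 : F)), zero_smul, add_zero]
  generalize sf w (Pi.single o 1) = s
  generalize w + s • z + sf w z • Pi.single o 1 = w'
  simp only [Matrix.mulVec_add, Matrix.mulVec_smul, sf_add_left, sf_smul_left, pt_add_left,
    pt_smul_left, sf_self, hsym, hΘ]
  module

variable [Fintype F] {M : Subgroup (GL (Idx a b) F)}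

/-- (N2g) the end of the rigid half -/
theorem rigid_final (h : MCtx a b Q M) (o o' : Fin b) (ho : o.val = 0) (ho' : o'.val = 1)
    (g : GL (Idx a b) F) (hgM : g ∈ M) (hgK : g ∉ KG a b F) (h₁ : GL (Fin a) F)
    (β₀ : GL (Fin b) F) (μ : F) (hμ : μ ≠ 0)
    (hα : ∀ x x' : Fin a → F, sf (((h₁⁻¹ : GL (Fin a) F) : Matrix (Fin a) (Fin a) F) *ᵥ x)
      (((h₁⁻¹ : GL (Fin a) F) : Matrix (Fin a) (Fin a) F) *ᵥ x') = μ * sf x x')
    (z : Fin b → F) (Θ : Matrix (Fin a) (Fin a) F) (hz : sf z (Pi.single o 1) = 0)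
    (hΘ : ∀ x : Fin a → F, sf x (Θ *ᵥ x) = 0)
    (hE : ∀ v : Idx a b → F, mv (g * kel h₁⁻¹ β₀ : GL (Idx a b) F) v =
      mv (uB o z : GL (Idx a b) F) v + pt (Θ *ᵥ cB (Pi.single o 1) v) (Pi.single o 1)) :
    4 ≤ a ∧ RootA Q M := by
  set k₀ : GL (Idx a b) F := kel h₁⁻¹ β₀ with hk₀
  set G : GL (Idx a b) F := g * k₀ with hG
  have hk₀K : k₀ ∈ KG a b F := kel_mem_KG _ _
  -- `Θ` is not scalar
  have hΘns : ¬ IsScalarMat Θ := by
    rintro ⟨s, hs⟩
    apply hgK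
    have hGeq : G = uB o z * kB (Pi.single o 1) s := by
      apply gl_ext
      intro v
      rw [hE v, mv_mul, mv_kB, mv_add, mv_smul, mv_uB_pt o z hz, sf_self, zero_smul, add_zero,
        sf_skew, hz, neg_zero, zero_smul, add_zero, hs, smul_one_mulVec', pt_smul_left]
    have hGK : G ∈ KG a b F := by
      rw [hGeq]
      exact (KG a b F).mul_mem (uB_mem_KG o z) (kB_mem_KG _ _)
    have : g = G * k₀⁻¹ := by rw [hG]; group
    rw [this]
    exact (KG a b F).mul_mem hGK ((KG a b F).inv_mem hk₀K)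
  -- `a ≥ 4`
  have ha4 : 4 ≤ a := by
    by_contra hlt
    have ha2 : a = 2 := by
      obtain ⟨k, hk⟩ := h.ea
      have := h.ha
      omega
    exact hΘns (Cfsg.Agent.Lib.Helper27.SpTNLeaf.scalar_of_alt_two ha2 Θ hΘ)
  refine ⟨ha4, ?_⟩
  obtain ⟨y, hy⟩ := Cfsg.Agent.Lib.Helper27.SpTNLeaf.exists_not_eigen Θ hΘns
  -- the conjugates of `kA y c` by `G` are in `M`
  have hconj : ∀ c : F, G * kA y c * G⁻¹ ∈ M := by
    intro c
    have e1 : G * kA y c * G⁻¹ = g * (k₀ * kA y c * k₀⁻¹) * g⁻¹ := by rw [hG]; group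
    rw [e1, hk₀, kel_conj_kA h₁⁻¹ β₀ μ hμ hα y c]
    exact M.mul_mem (M.mul_mem hgM (kA_mem h _ _)) (M.inv_mem hgM)
  have hrt : rt Q (pt y (Pi.single o 1)) (pt (Θ *ᵥ y) (Pi.single o 1)) 1 ∈ M := by
    rw [← comm_eq_rt h.toCtx o G z Θ hz hΘ hE y 1]
    exact M.mul_mem (hconj 1) (M.inv_mem (kA_mem h y 1))
  exact ⟨y, Θ *ᵥ y, Pi.single o 1, Pi.single o 1, 1, one_ne_zero, single_ne_zero' o,
    single_ne_zero' o, hy, by rw [sf_self (Pi.single o (1 : F)), mul_zero], hrt⟩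

end Cfsg.Agent.Lib.Helper13.SpTNLeaf
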