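import Mathlib
import Cfsg.Agent.Lib.Helper27.SpUDefs
import Cfsg.Agent.Lib.Helper5.Symp

/-!
# S2316 leaf L7 (market of helper27), part a: the Moebius sum over the totally isotropic subspaces
of `X` vanishes when `X` contains a non-zero radical vector `r` -- proved here with the two
statements of leaf L6 (complements of a line) as hypotheses.
-/

set_option autoImplicit false

namespace Cfsg.Agent.Lib.Helper27.SpU

open Cfsg Matrix Cfsg.Agent.S0775

variable {F : Type*} [Field F]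

namespace L7aux

lemma tri_step (d : ℕ) : (d + 1) * (d + 1 - 1) / 2 = d * (d - 1) / 2 + d := by
  rw [Nat.add_sub_cancel]
  rcases d with _ | k
  · simp
  · rw [Nat.add_sub_cancel]
    obtain ⟨c, hc⟩ : 2 ∣ (k + 1) * k := by
      have := Nat.even_mul_succ_self k
      rw [mul_comm]
      exact this.two_dvd
    have h1 : (k + 1 + 1) * (k + 1) = 2 * (c + (k + 1)) := by
      have : (k + 1 + 1) * (k + 1) = (k + 1) * k + 2 * (k + 1) := by ring
      rw [this, hc]; ring
    rw [h1, hc, Nat.mul_div_cancel_left _ (by norm_num), Nat.mul_div_cancel_left _ (by norm_num)]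

/-- `mu q (d+1) + q^d * mu q d = 0`. -/
lemma mu_succ_add (q d : ℕ) : mu q (d + 1) + (q : ℤ) ^ d * mu q d = 0 := by
  unfold mu
  rw [tri_step d]
  ring

/-- `W ⊔ ⟨r⟩` is again totally isotropic when `W ≤ X` is and `r ⟂ X`. -/
lemma TIsub_sup_span {m : ℕ} (X W : Submodule F (Fin m ⊕ Fin m → F))
    (r : Fin m ⊕ Fin m → F) (hperp : ∀ v ∈ X, Cfsg.sympForm m F r v = 0)
    (hWX : W ≤ X) (hW : TIsub W) : TIsub (W ⊔ Submodule.span F {r}) := by
  intro u hu v hv
  rw [Submodule.mem_sup] at hu hv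
  obtain ⟨w1, hw1, z1, hz1, rfl⟩ := hu
  obtain ⟨w2, hw2, z2, hz2, rfl⟩ := hv
  obtain ⟨a, rfl⟩ := Submodule.mem_span_singleton.mp hz1
  obtain ⟨b, rfl⟩ := Submodule.mem_span_singleton.mp hz2
  have e1 : Cfsg.sympForm m F w1 w2 = 0 := hW w1 hw1 w2 hw2
  have e2 : Cfsg.sympForm m F r w2 = 0 := hperp w2 (hWX hw2)
  have e3 : Cfsg.sympForm m F w1 r = 0 := by
    rw [Cfsg.Agent.Lib.Helper5.sympForm_swap, hperp w1 (hWX hw1), neg_zero]
  have e4 : Cfsg.sympForm m F r r = 0 := Cfsg.Agent.Lib.Helper5.sympForm_self m r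
  rw [Cfsg.Agent.Lib.Helper5.sympForm_add_left, Cfsg.Agent.Lib.Helper5.sympForm_add_right,
    Cfsg.Agent.Lib.Helper5.sympForm_add_right, Cfsg.Agent.Lib.Helper5.sympForm_smul_left,
    Cfsg.Agent.Lib.Helper5.sympForm_smul_left, Cfsg.Agent.Lib.Helper5.sympForm_smul_right,
    Cfsg.Agent.Lib.Helper5.sympForm_smul_right, e1, e2, e3, e4]
  ring

lemma TIsub_mono {m : ℕ} {W W' : Submodule F (Fin m ⊕ Fin m → F)} (h : W ≤ W') (hW' : TIsub W') :
    TIsub W := fun u hu v hv => hW' u (h hu) v (h hv)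

/-- L7 with L6's two statements as hypotheses. -/
theorem mobius_sum_eq_zero_of [Fintype F] {m : ℕ}
    (h6a : ∀ (W' W : Submodule F (Fin m ⊕ Fin m → F)) (r : Fin m ⊕ Fin m → F), r ∉ W →
      W ⊔ Submodule.span F {r} = W' → Module.finrank F W + 1 = Module.finrank F W')
    (h6b : ∀ (W' : Submodule F (Fin m ⊕ Fin m → F)) (r : Fin m ⊕ Fin m → F), r ∈ W' → r ≠ 0 →
      Nat.card {W : Submodule F (Fin m ⊕ Fin m → F) // r ∉ W ∧ W ⊔ Submodule.span F {r} = W'} =
        Fintype.card F ^ (Module.finrank F W' - 1))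
    (X : Submodule F (Fin m ⊕ Fin m → F))
    (r : Fin m ⊕ Fin m → F) (hr0 : r ≠ 0) (hrX : r ∈ X)
    (hperp : ∀ v ∈ X, Cfsg.sympForm m F r v = 0)
    (s : Finset (Submodule F (Fin m ⊕ Fin m → F))) (hs : ∀ W, W ∈ s ↔ W ≤ X ∧ TIsub W) :
    ∑ W ∈ s, mu (Fintype.card F) (Module.finrank F W) = 0 := by
  classical
  have hspanX : Submodule.span F {r} ≤ X := by
    rw [Submodule.span_singleton_le_iff_mem]; exact hrX
  have hr_mem : ∀ W : Submodule F (Fin m ⊕ Fin m → F), r ∈ W ⊔ Submodule.span F {r} := fun W =>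
    (le_sup_right : Submodule.span F {r} ≤ W ⊔ Submodule.span F {r}) (Submodule.mem_span_singleton_self r)
  have hf : ∀ W ∈ s, (fun W => W ⊔ Submodule.span F {r}) W ∈ s.filter (fun W' => r ∈ W') := by
    intro W hW
    rw [hs] at hW
    rw [Finset.mem_filter, hs]
    exact ⟨⟨sup_le hW.1 hspanX, TIsub_sup_span X W r hperp hW.1 hW.2⟩, hr_mem W⟩
  rw [← Finset.sum_fiberwise_of_maps_to hf]
  apply Finset.sum_eq_zero
  intro W' hW'
  rw [Finset.mem_filter] at hW'
  obtain ⟨hW's, hrW'⟩ := hW'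
  have hW'X := ((hs W').mp hW's)
  have hself : W' ⊔ Submodule.span F {r} = W' := by
    rw [sup_eq_left, Submodule.span_singleton_le_iff_mem]; exact hrW'
  rw [← Finset.sum_filter_add_sum_filter_not (s.filter (fun W => W ⊔ Submodule.span F {r} = W'))
    (fun W => r ∈ W)]
  -- first part: the single subspace `W'`
  have h1 : (s.filter (fun W => W ⊔ Submodule.span F {r} = W')).filter (fun W => r ∈ W) = {W'} := by
    ext W
    rw [Finset.mem_filter, Finset.mem_filter, Finset.mem_singleton]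
    constructor
    · rintro ⟨⟨_, h2⟩, h3⟩
      rw [← h2, eq_comm, sup_eq_left, Submodule.span_singleton_le_iff_mem]
      exact h3
    · rintro rfl
      exact ⟨⟨hW's, hself⟩, hrW'⟩
  -- second part: the complements
  have h2 : ∀ W ∈ (s.filter (fun W => W ⊔ Submodule.span F {r} = W')).filter (fun W => ¬ r ∈ W),
      mu (Fintype.card F) (Module.finrank F W) =
        mu (Fintype.card F) (Module.finrank F W' - 1) := by
    intro W hW
    rw [Finset.mem_filter, Finset.mem_filter] at hW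
    have := h6a W' W r hW.2 hW.1.2
    rw [← this, Nat.add_sub_cancel]
  have h3 : ((s.filter (fun W => W ⊔ Submodule.span F {r} = W')).filter (fun W => ¬ r ∈ W)).card =
      Fintype.card F ^ (Module.finrank F W' - 1) := by
    rw [← h6b W' r hrW' hr0, ← Nat.card_eq_finsetCard]
    apply Nat.card_congr
    apply Equiv.subtypeEquivRight
    intro W
    rw [Finset.mem_filter, Finset.mem_filter, hs]
    constructor
    · rintro ⟨⟨_, h⟩, h'⟩
      exact ⟨h', h⟩
    · rintro ⟨h', h⟩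
      have hle : W ≤ W' := by rw [← h]; exact le_sup_left
      exact ⟨⟨⟨hle.trans hW'X.1, TIsub_mono hle hW'X.2⟩, h⟩, h'⟩
  rw [h1, Finset.sum_singleton, Finset.sum_congr rfl h2, Finset.sum_const, h3]
  have hpos : 0 < Module.finrank F W' := by
    rw [Module.finrank_pos_iff_exists_ne_zero]
    refine ⟨⟨r, hrW'⟩, ?_⟩
    intro h
    apply hr0
    exact congrArg Subtype.val h
  obtain ⟨e, he⟩ : ∃ e, Module.finrank F W' = e + 1 := ⟨Module.finrank F W' - 1, by omega⟩
  rw [he, Nat.add_sub_cancel, nsmul_eq_mul]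
  push_cast
  exact mu_succ_add (Fintype.card F) e

end L7aux

end Cfsg.Agent.Lib.Helper27.SpU
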