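import Mathlib
import Cfsg.Agent.Lib.Helper27.SpUDefs
import Cfsg.Agent.Lib.Helper22.SpU_L6
import Cfsg.Agent.Lib.Helper13.SpU_L7a

/-!
# S2316 leaf L7 (market of helper27): the Moebius sum over the totally isotropic subspaces of `X`
vanishes when `X` contains a non-zero vector `r` perpendicular to `X`.
-/

set_option autoImplicit false

namespace Cfsg.Agent.Lib.Helper27.SpU

open Cfsg Matrix Cfsg.Agent.S0775

variable {F : Type*} [Field F]

/-- Fibre the sum along `W ↦ W ⊔ span {r}`: the fibre over `W' ∋ r` is `W'` and the `q^(d'-1)`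
complements of `r` in `W'`, and `mu q d' + q^(d'-1) * mu q (d'-1) = 0`. -/
theorem mobius_sum_eq_zero [Fintype F] {m : ℕ} (X : Submodule F (Fin m ⊕ Fin m → F))
    (r : Fin m ⊕ Fin m → F) (hr0 : r ≠ 0) (hrX : r ∈ X)
    (hperp : ∀ v ∈ X, Cfsg.sympForm m F r v = 0)
    (s : Finset (Submodule F (Fin m ⊕ Fin m → F))) (hs : ∀ W, W ∈ s ↔ W ≤ X ∧ TIsub W) :
    ∑ W ∈ s, mu (Fintype.card F) (Module.finrank F W) = 0 := by
  have h6a : ∀ (W' W : Submodule F (Fin m ⊕ Fin m → F)) (r : Fin m ⊕ Fin m → F), r ∉ W →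
      W ⊔ Submodule.span F {r} = W' → Module.finrank F W + 1 = Module.finrank F W' :=
    fun W' W r hrW hsup => finrank_compl_line W' W r hrW hsup
  have h6b : ∀ (W' : Submodule F (Fin m ⊕ Fin m → F)) (r : Fin m ⊕ Fin m → F), r ∈ W' → r ≠ 0 →
      Nat.card {W : Submodule F (Fin m ⊕ Fin m → F) // r ∉ W ∧ W ⊔ Submodule.span F {r} = W'} =
        Fintype.card F ^ (Module.finrank F W' - 1) := by
    intro W' r hr hr0
    exact card_compl_line W' r hr hr0
  exact L7aux.mobius_sum_eq_zero_of h6a h6b X r hr0 hrX hperp s hs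

end Cfsg.Agent.Lib.Helper27.SpU
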