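/-
helper13: splitting of a central extension of `SL₂(F)` (trivial Schur multiplier), any universe for `G`.
* `split_of_perfect_quot` : `G` finite, `A ≤ Z(G)`, `ρ : G →* S` surjective with kernel `A`, `S` perfect with trivial Schur
  multiplier (`HasCyclicSchurMultiplier S 1`, `S : Type`): then `G ≃* S × A`.
* `split_center_SL2` : `G` finite with `G / Z(G)` perfect and `≃* SL₂(F)`, `F : Type` a finite field, `|F| ≠ 4, 9`:
  `G ≃* SL₂(F) × Z(G)`.
-/
import Mathlib
import Cfsg.Agent.Lib.Helper13.SchurSL2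
import Cfsg.Agent.Lib.Helper8.AbInvN

set_option autoImplicit false

namespace Cfsg.Agent.Lib.Helper13.SplitSL2

open Cfsg Cfsg.Agent.Lib.Helper8.AbInv
open scoped commutatorElement

universe u

variable {G : Type u} [Group G]

/-- if `G / A` is perfect (`ρ` surjective onto a perfect group with kernel `A`), then `G = G' A` -/
theorem commutator_sup_ker {S : Type*} [Group S] (ρ : G →* S) (hρ : Function.Surjective ρ)
    (hperf : commutator S = ⊤) : commutator G ⊔ ρ.ker = ⊤ := by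
  rw [eq_top_iff]
  intro g _
  have h1 : (commutator G).map ρ = commutator S := by
    rw [commutator_def, commutator_def, Subgroup.map_commutator, ← MonoidHom.range_eq_map,
      MonoidHom.range_eq_top.mpr hρ]
  have h2 : ρ g ∈ (commutator G).map ρ := by rw [h1, hperf]; exact Subgroup.mem_top _
  obtain ⟨l, hl, hlg⟩ := h2
  have h3 : l⁻¹ * g ∈ ρ.ker := by
    rw [MonoidHom.mem_ker, map_mul, map_inv, hlg, inv_mul_cancel]
  have : g = l * (l⁻¹ * g) := by group
  rw [this]
  exact Subgroup.mul_mem_sup hl h3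

/-- `G = L A` with `A` central: every commutator of `G` is a commutator of elements of `L` -/
theorem commutator_le_of_sup_central (L A : Subgroup G) (hA : A ≤ Subgroup.center G) (hsup : L ⊔ A = ⊤) :
    commutator G ≤ ⁅L, L⁆ := by
  rw [commutator_def, Subgroup.commutator_le]
  intro g₁ _ g₂ _
  have hAn : A.Normal := by
    refine ⟨fun a ha g => ?_⟩
    have h1 : g * a * g⁻¹ = a := by
      rw [Subgroup.mem_center_iff.mp (hA ha) g, mul_inv_cancel_right]
    rw [h1]; exact ha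
  have hg₁ : g₁ ∈ L ⊔ A := by rw [hsup]; exact Subgroup.mem_top _
  have hg₂ : g₂ ∈ L ⊔ A := by rw [hsup]; exact Subgroup.mem_top _
  obtain ⟨l₁, hl₁, a₁, ha₁, rfl⟩ := Subgroup.mem_sup_of_normal_right.mp hg₁
  obtain ⟨l₂, hl₂, a₂, ha₂, rfl⟩ := Subgroup.mem_sup_of_normal_right.mp hg₂
  have hc₁ : ∀ g : G, g * a₁ = a₁ * g := fun g => Subgroup.mem_center_iff.mp (hA ha₁) g
  have hc₂ : ∀ g : G, g * a₂ = a₂ * g := fun g => Subgroup.mem_center_iff.mp (hA ha₂) g
  have hci₁ : ∀ g : G, g * a₁⁻¹ = a₁⁻¹ * g := fun g =>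
    Subgroup.mem_center_iff.mp (hA (A.inv_mem ha₁)) g
  have hci₂ : ∀ g : G, g * a₂⁻¹ = a₂⁻¹ * g := fun g =>
    Subgroup.mem_center_iff.mp (hA (A.inv_mem ha₂)) g
  have : ⁅l₁ * a₁, l₂ * a₂⁆ = ⁅l₁, l₂⁆ := by
    rw [commutatorElement_def, commutatorElement_def, mul_inv_rev, mul_inv_rev]
    calc l₁ * a₁ * (l₂ * a₂) * (a₁⁻¹ * l₁⁻¹) * (a₂⁻¹ * l₂⁻¹)
        = l₁ * (a₁ * l₂) * (a₂ * a₁⁻¹) * l₁⁻¹ * a₂⁻¹ * l₂⁻¹ := by group
      _ = l₁ * (l₂ * a₁) * (a₂ * a₁⁻¹) * l₁⁻¹ * a₂⁻¹ * l₂⁻¹ := by rw [hc₁ l₂]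
      _ = l₁ * l₂ * (a₁ * a₂ * a₁⁻¹) * (l₁⁻¹ * a₂⁻¹) * l₂⁻¹ := by group
      _ = l₁ * l₂ * (a₁ * a₂ * a₁⁻¹) * (a₂⁻¹ * l₁⁻¹) * l₂⁻¹ := by rw [hci₂ l₁⁻¹]
      _ = l₁ * l₂ * (a₁ * a₂ * a₁⁻¹ * a₂⁻¹) * l₁⁻¹ * l₂⁻¹ := by group
      _ = l₁ * l₂ * (a₂ * a₁ * a₁⁻¹ * a₂⁻¹) * l₁⁻¹ * l₂⁻¹ := by rw [hc₂ a₁]
      _ = l₁ * l₂ * l₁⁻¹ * l₂⁻¹ := by group
  rw [this]
  exact Subgroup.commutator_mem_commutator hl₁ hl₂

/-- a perfect central quotient with trivial Schur multiplier splits off -/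
theorem split_of_perfect_quot [Finite G] {S : Type} [Group S] (hS : HasCyclicSchurMultiplier S 1)
    (hperf : commutator S = ⊤) (A : Subgroup G) (hA : A ≤ Subgroup.center G) (ρ : G →* S)
    (hρ : Function.Surjective ρ) (hker : ρ.ker = A) : Nonempty (G ≃* S × A) := by
  set L : Subgroup G := commutator G with hL
  have hsup : L ⊔ A = ⊤ := by rw [← hker]; exact commutator_sup_ker ρ hρ hperf
  have hLL : L ≤ ⁅L, L⁆ := commutator_le_of_sup_central L A hA hsup
  -- the restriction of `ρ` to `L`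
  let σ : L →* S := ρ.comp L.subtype
  have hσsurj : Function.Surjective σ := by
    intro s
    obtain ⟨g, rfl⟩ := hρ s
    have hAn : A.Normal := by
      refine ⟨fun a ha g => ?_⟩
      have h1 : g * a * g⁻¹ = a := by
        rw [Subgroup.mem_center_iff.mp (hA ha) g, mul_inv_cancel_right]
      rw [h1]; exact ha
    have hg : g ∈ L ⊔ A := by rw [hsup]; exact Subgroup.mem_top _
    obtain ⟨l, hl, a, ha, rfl⟩ := Subgroup.mem_sup_of_normal_right.mp hg
    refine ⟨⟨l, hl⟩, ?_⟩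
    have ha1 : ρ a = 1 := by rw [← MonoidHom.mem_ker, hker]; exact ha
    show ρ l = ρ (l * a)
    rw [map_mul, ha1, mul_one]
  have hσker : ∀ x : L, x ∈ σ.ker ↔ (x : G) ∈ A := by
    intro x
    rw [MonoidHom.mem_ker, ← hker, MonoidHom.mem_ker]
    rfl
  -- `σ` is a stem extension
  have hstem : IsStemExtension σ := by
    refine ⟨hσsurj, ?_, ?_⟩
    · intro x hx
      rw [Subgroup.mem_center_iff]
      intro y
      apply Subtype.ext
      have := Subgroup.mem_center_iff.mp (hA ((hσker x).mp hx)) (y : G)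
      simpa using this
    · intro x _
      -- `L` is perfect
      have h1 : (x : G) ∈ ⁅L, L⁆ := hLL x.2
      have h2 : Subgroup.map L.subtype ⁅(⊤ : Subgroup L), (⊤ : Subgroup L)⁆ = ⁅L, L⁆ := by
        rw [Subgroup.map_commutator, ← MonoidHom.range_eq_map, Subgroup.range_subtype]
      rw [← h2] at h1
      obtain ⟨y, hy, hyx⟩ := h1
      have : y = x := Subtype.ext hyx
      rw [← this, commutator_def]
      exact hy
  -- transport to universe `0`
  let e : Shrink.{0} L ≃* L := Shrink.mulEquiv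
  have : Finite (Shrink.{0} L) := Finite.of_equiv _ e.symm.toEquiv
  let σ' : Shrink.{0} L →* S := σ.comp e.toMonoidHom
  have hstem' : IsStemExtension σ' := by
    refine ⟨hσsurj.comp e.surjective, ?_, ?_⟩
    · intro x hx
      have hx' : e x ∈ σ.ker := hx
      have h1 := hstem.2.1 hx'
      rw [Subgroup.mem_center_iff] at h1 ⊢
      intro y
      apply e.injective
      rw [map_mul, map_mul]
      exact h1 (e y)
    · intro x hx
      have hx' : e x ∈ σ.ker := hx
      have h1 : e x ∈ commutator L := hstem.2.2 hx'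
      have h2 : (commutator (Shrink.{0} L)).map e.toMonoidHom = commutator L := by
        rw [commutator_def, commutator_def, Subgroup.map_commutator, ← MonoidHom.range_eq_map,
          MonoidHom.range_eq_top.mpr e.surjective]
      rw [← h2] at h1
      obtain ⟨y, hy, hyx⟩ := h1
      have : y = x := e.injective hyx
      rw [← this]
      exact hy
  obtain ⟨π, hπ⟩ := hS.2 (Shrink.{0} L) σ' hstem'
  have hker' : σ'.ker = ⊥ := by
    rw [eq_bot_iff]
    intro x hx
    obtain ⟨a, ha⟩ := hπ ⟨x, hx⟩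
    have ha1 : a = 1 := Subsingleton.elim _ _
    rw [ha1, map_one] at ha
    rw [Subgroup.mem_bot]
    exact (congrArg Subtype.val ha).symm
  have hσinj : Function.Injective σ := by
    rw [injective_iff_map_eq_one]
    intro x hx
    have h1 : e.symm x ∈ σ'.ker := by
      rw [MonoidHom.mem_ker]
      show σ (e (e.symm x)) = 1
      rw [MulEquiv.apply_symm_apply, hx]
    rw [hker', Subgroup.mem_bot] at h1
    have := congrArg e h1
    rwa [MulEquiv.apply_symm_apply, map_one] at this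
  have hinf : L ⊓ A = ⊥ := by
    rw [eq_bot_iff]
    intro x hx
    obtain ⟨hxL, hxA⟩ := Subgroup.mem_inf.mp hx
    have h1 : (⟨x, hxL⟩ : L) ∈ σ.ker := (hσker _).mpr hxA
    have h2 : (⟨x, hxL⟩ : L) = 1 := hσinj (by rw [MonoidHom.mem_ker.mp h1, map_one])
    rw [Subgroup.mem_bot]
    exact congrArg Subtype.val h2
  let eL : L ≃* S := MulEquiv.ofBijective σ ⟨hσinj, hσsurj⟩
  exact ⟨(prodEquiv L A hA hinf hsup).trans (MulEquiv.prodCongr eL (MulEquiv.refl A))⟩

/-- `G / Z(G) ≃* SL₂(F)` perfect, `|F| ≠ 4, 9`: `G ≃* SL₂(F) × Z(G)` -/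
theorem split_center_SL2 [Finite G] {F : Type} [Field F] [Fintype F] (h4 : Fintype.card F ≠ 4)
    (h9 : Fintype.card F ≠ 9) (hperf : commutator (G ⧸ Subgroup.center G) = ⊤)
    (e : G ⧸ Subgroup.center G ≃* Matrix.SpecialLinearGroup (Fin 2) F) :
    Nonempty (G ≃* Matrix.SpecialLinearGroup (Fin 2) F × Subgroup.center G) := by
  have hperfS : commutator (Matrix.SpecialLinearGroup (Fin 2) F) = ⊤ := by
    have h2 : (commutator (G ⧸ Subgroup.center G)).map e.toMonoidHom =
        commutator (Matrix.SpecialLinearGroup (Fin 2) F) := by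
      rw [commutator_def, commutator_def, Subgroup.map_commutator, ← MonoidHom.range_eq_map,
        MonoidHom.range_eq_top.mpr e.surjective]
    rw [← h2, hperf, ← MonoidHom.range_eq_map, MonoidHom.range_eq_top.mpr e.surjective]
  let ρ : G →* Matrix.SpecialLinearGroup (Fin 2) F :=
    e.toMonoidHom.comp (QuotientGroup.mk' (Subgroup.center G))
  have hρ : Function.Surjective ρ := e.surjective.comp (QuotientGroup.mk'_surjective _)
  have hker : ρ.ker = Subgroup.center G := by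
    ext g
    rw [MonoidHom.mem_ker]
    show e (QuotientGroup.mk' (Subgroup.center G) g) = 1 ↔ _
    rw [MulEquiv.map_eq_one_iff, QuotientGroup.mk'_apply, QuotientGroup.eq_one_iff]
  exact split_of_perfect_quot (Cfsg.Agent.Lib.Helper13.SchurSL2.schur_SL2 h4 h9) hperfS (Subgroup.center G) le_rfl ρ hρ hker

end Cfsg.Agent.Lib.Helper13.SplitSL2
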