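/-
helper13: leaf S3C (`card_centralizer_Qx_zero`, `card_centralizer_Qx_one`) of helper11's S2153 market
"SU2" (`notes/S2153_leaves.lean`): the number of elements of `Q_y` centralised by an involution `τ`,
`y = τ z0 + z0`.
-/
import Mathlib
import Cfsg.Agent.Lib.Helper11.Su2Tools
import Cfsg.Agent.Lib.Helper15.Su2QR

set_option autoImplicit false

open Cfsg.Agent.Lib.Helper11.Su2 MulAction
open scoped Pointwise

namespace Cfsg.Agent.Lib.Helper13.Su2Leaf

open Cfsg.Agent.Lib.Helper15.Su2Leaf (card_eq_mul_of_fibers card_PH_eq_four_mul PHSet)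

variable {F V G : Type*} [Field F] [AddCommGroup V] [Module F V] [Group G] [DistribMulAction G V]
  (S : Setting F V G)

/-- each vector carries exactly two admissible `c` -/
theorem card_pairs_eq_two_mul [Finite V] (P : V → Prop) :
    Nat.card {p : V × F // P p.1 ∧ p.2 + p.2 * p.2 = S.h p.1 p.1}
      = 2 * Nat.card {w : V // P w} := by
  have : Finite F := S.finite_F
  let π : {p : V × F // P p.1 ∧ p.2 + p.2 * p.2 = S.h p.1 p.1} → {w : V // P w} :=
    fun p => ⟨p.1.1, p.2.1⟩
  apply card_eq_mul_of_fibers π 2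
  rintro ⟨w, hw⟩
  obtain ⟨c₀, hc₀⟩ := S.exists_tr_eq (S.h_self_mem w)
  rw [Nat.card_eq_two_iff]
  refine ⟨⟨⟨(w, c₀), hw, hc₀⟩, rfl⟩, ⟨⟨(w, c₀ + 1), hw, S.norm_add_one hc₀⟩, rfl⟩, ?_, ?_⟩
  · intro he
    have h1 : c₀ = c₀ + 1 := by
      have := congrArg (fun q : {p : {p : V × F // P p.1 ∧ p.2 + p.2 * p.2 = S.h p.1 p.1} //
        π p = ⟨w, hw⟩} => (q.1.1).2) he
      exact this
    have h2 : (1 : F) = 0 := by linear_combination -h1
    exact one_ne_zero h2
  · apply Set.eq_univ_of_forall
    rintro ⟨⟨⟨w', c⟩, hw', hc⟩, hp⟩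
    have hww : w' = w := congrArg Subtype.val hp
    subst hww
    rcases S.norm_unique hc₀ hc with h | h
    · left
      apply Subtype.ext
      apply Subtype.ext
      exact Prod.ext rfl h
    · right
      apply Subtype.ext
      apply Subtype.ext
      exact Prod.ext rfl h

theorem smul_N_eq {τ : G} (hτ : τ * τ = 1) (z0 : V) : τ • (τ • z0 + z0) = τ • z0 + z0 := by
  rw [smul_add, ← mul_smul, hτ, one_smul, add_comm]

/-- `gq y w c` commutes with the involution `τ` (fixing `y`) iff `τ w + w ∈ {0, y}` -/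
theorem gq_mem_centralizer_iff {τ : G} {y : V} (hτy : τ • y = y) (hy0 : y ≠ 0)
    (hy : S.h y y = 0) {w : V} {c : F} (hw : S.h w y = 0) (hc : c + c * c = S.h w w) :
    S.gq y w c ∈ Subgroup.centralizer ({τ} : Set G) ↔ (τ • w + w = 0 ∨ τ • w + w = y) := by
  rw [Subgroup.mem_centralizer_iff]
  have hconj := S.conj_gq τ hy hw hc
  rw [hτy] at hconj
  have hw' : S.h (τ • w) y = 0 := by
    have := S.iso τ w y
    rw [hτy] at this
    rw [this, hw]
  have hc' : c + c * c = S.h (τ • w) (τ • w) := by rw [S.iso, hc]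
  constructor
  · intro h
    have h1 : τ * S.gq y w c = S.gq y w c * τ := h τ rfl
    have h2 : S.gq y (τ • w) c = S.gq y w c := by
      rw [← hconj, h1, mul_assoc, mul_inv_cancel, mul_one]
    obtain ⟨a, ha1, ha2⟩ := (S.gq_eq_gq_iff hy0 hy hw' hw hc' hc).mp h2
    have ha : a + a * a = 0 := by linear_combination -ha2
    rcases (S.tr_eq_zero_iff a).mp ha with rfl | rfl
    · left
      rw [zero_smul, add_zero] at ha1
      rw [← ha1]; exact S.vadd_self _
    · right
      rw [one_smul] at ha1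
      have h3 : τ • w + w = τ • w + (τ • w + y) := congrArg (τ • w + ·) ha1
      rw [S.vadd_add_cancel_left] at h3
      exact h3
  · intro h g hg
    rw [Set.mem_singleton_iff] at hg
    rw [hg]
    have h2 : S.gq y (τ • w) c = S.gq y w c := by
      rw [S.gq_eq_gq_iff hy0 hy hw' hw hc' hc]
      rcases h with h | h
      · refine ⟨0, ?_, ?_⟩
        · rw [zero_smul, add_zero]; exact (S.veq_of_add_eq_zero h).symm
        · ring
      · refine ⟨1, ?_, ?_⟩
        · rw [one_smul, ← h, S.vadd_add_cancel_left]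
        · linear_combination (-1 : F) * S.two
    rw [← hconj] at h2
    exact mul_inv_eq_iff_eq_mul.mp h2

/-- the centraliser count, in terms of `W = {w ⊥ y | τ w + w ∈ {0, y}}` -/
theorem two_mul_card_centralizer_Qx [Finite V] [Finite G] {τ : G} {y : V}
    (hτy : τ • y = y) (hy0 : y ≠ 0) (hy : S.h y y = 0) :
    2 * Nat.card {q : S.Qx hy // τ * (q : G) * τ⁻¹ = q}
      = Nat.card {w : V // S.h w y = 0 ∧ (τ • w + w = 0 ∨ τ • w + w = y)} := by
  have h1 := card_PH_eq_four_mul S (Subgroup.centralizer ({τ} : Set G)) hy0 hy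
  have h2 : Nat.card {q : S.Qx hy // τ * (q : G) * τ⁻¹ = q}
      = Nat.card ↥(Subgroup.centralizer ({τ} : Set G) ⊓ S.Qx hy) := by
    refine Nat.card_congr ⟨fun q => ⟨q.1.1, ?_, q.1.2⟩, fun g => ⟨⟨g.1, g.2.2⟩, ?_⟩, ?_, ?_⟩
    · show (q.1 : G) ∈ Subgroup.centralizer ({τ} : Set G)
      rw [Subgroup.mem_centralizer_iff]
      intro g hg
      rw [Set.mem_singleton_iff] at hg
      rw [hg]
      exact mul_inv_eq_iff_eq_mul.mp q.2
    · have hg : (g : G) ∈ Subgroup.centralizer ({τ} : Set G) := g.2.1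
      rw [Subgroup.mem_centralizer_iff] at hg
      exact mul_inv_eq_iff_eq_mul.mpr (hg τ rfl)
    · intro q; rfl
    · intro g; rfl
  have h3 : Nat.card (PHSet S (Subgroup.centralizer ({τ} : Set G)) y)
      = Nat.card {p : V × F // (S.h p.1 y = 0 ∧ (τ • p.1 + p.1 = 0 ∨ τ • p.1 + p.1 = y)) ∧
          p.2 + p.2 * p.2 = S.h p.1 p.1} := by
    refine Nat.card_congr (Equiv.subtypeEquivRight (fun p => ?_))
    constructor
    · rintro ⟨hw, hc, hm⟩
      exact ⟨⟨hw, (gq_mem_centralizer_iff S hτy hy0 hy hw hc).mp hm⟩, hc⟩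
    · rintro ⟨⟨hw, hN⟩, hc⟩
      exact ⟨hw, hc, (gq_mem_centralizer_iff S hτy hy0 hy hw hc).mpr hN⟩
  have h4 := card_pairs_eq_two_mul S
    (fun w => S.h w y = 0 ∧ (τ • w + w = 0 ∨ τ • w + w = y))
  omega

/-- fixed vectors of `τ` are perpendicular to `τ z0 + z0` -/
theorem h_fixed_N {τ : G} {z0 w : V} (hw : τ • w = w) : S.h w (τ • z0 + z0) = 0 := by
  rw [S.h_add_right]
  have := S.iso τ w z0
  rw [hw] at this
  rw [this]; exact S.add_self _

theorem card_centralizer_Qx_one [Finite V] [Finite G] {τ : G} (hτ : τ * τ = 1) {z0 y : V}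
    (hyz : y = τ • z0 + z0) (hy0 : y ≠ 0) (hy : S.h y y = 0) (h1 : S.h y z0 = 1) :
    2 * Nat.card {q : S.Qx hy // τ * (q : G) * τ⁻¹ = q} = Nat.card {z : V // τ • z = z} := by
  have hτy : τ • y = y := by rw [hyz]; exact smul_N_eq hτ z0
  rw [two_mul_card_centralizer_Qx S hτy hy0 hy]
  refine Nat.card_congr (Equiv.subtypeEquivRight (fun w => ?_))
  constructor
  · rintro ⟨hw, h | h⟩
    · exact S.veq_of_add_eq_zero h
    · exfalso
      -- `w + z0` is fixed, so perpendicular to `y`
      have hfix : τ • (w + z0) = w + z0 := by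
        have h3 : τ • w = w + y := by
          have h4 : τ • w + w + w = y + w := by rw [h]
          rw [S.vadd_add_cancel_right] at h4
          rw [h4, add_comm]
        have h5 : τ • z0 = z0 + y := by
          rw [hyz, add_comm (τ • z0) z0, S.vadd_add_cancel_left]
        rw [smul_add, h3, h5]
        have : w + y + (z0 + y) = w + z0 + (y + y) := by abel
        rw [this, S.vadd_self, add_zero]
      have h6 : S.h (w + z0) y = 0 := by
        have := h_fixed_N S (z0 := z0) hfix
        rwa [← hyz] at this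
      rw [S.h_add_left, hw, zero_add, S.h_eq_one_symm h1] at h6
      exact one_ne_zero h6
  · intro hw
    refine ⟨?_, Or.inl ?_⟩
    · have := h_fixed_N S (z0 := z0) hw
      rwa [← hyz] at this
    · rw [hw]; exact S.vadd_self _

theorem card_centralizer_Qx_zero [Finite V] [Finite G] {τ : G} (hτ : τ * τ = 1) {z0 y : V}
    (hyz : y = τ • z0 + z0) (hy0 : y ≠ 0) (hy : S.h y y = 0) (h0 : S.h y z0 = 0) :
    Nat.card {q : S.Qx hy // τ * (q : G) * τ⁻¹ = q} = Nat.card {z : V // τ • z = z} := by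
  have hτy : τ • y = y := by rw [hyz]; exact smul_N_eq hτ z0
  have key := two_mul_card_centralizer_Qx S hτy hy0 hy
  have hτz0 : τ • z0 = z0 + y := by
    rw [hyz, add_comm (τ • z0) z0, S.vadd_add_cancel_left]
  -- `W = K ∪ (K + z0)`
  have hW : {w : V | S.h w y = 0 ∧ (τ • w + w = 0 ∨ τ • w + w = y)}
      = {z : V | τ • z = z} ∪ (fun k => k + z0) '' {z : V | τ • z = z} := by
    ext w
    simp only [Set.mem_ofPred_eq, Set.mem_union, Set.mem_image]
    constructor
    · rintro ⟨-, h | h⟩
      · exact Or.inl (S.veq_of_add_eq_zero h)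
      · right
        refine ⟨w + z0, ?_, S.vadd_add_cancel_right _ _⟩
        have h3 : τ • w = w + y := by
          have h4 : τ • w + w + w = y + w := by rw [h]
          rw [S.vadd_add_cancel_right] at h4
          rw [h4, add_comm]
        rw [smul_add, h3, hτz0]
        have : w + y + (z0 + y) = w + z0 + (y + y) := by abel
        rw [this, S.vadd_self, add_zero]
    · rintro (h | ⟨k, hk, rfl⟩)
      · refine ⟨?_, Or.inl ?_⟩
        · have := h_fixed_N S (z0 := z0) h
          rwa [← hyz] at this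
        · rw [h]; exact S.vadd_self _
      · refine ⟨?_, Or.inr ?_⟩
        · rw [S.h_add_left, S.h_eq_zero_symm h0, add_zero]
          have := h_fixed_N S (z0 := z0) hk
          rwa [← hyz] at this
        · rw [smul_add, hk, hτz0]
          have : k + (z0 + y) + (k + z0) = y + ((k + z0) + (k + z0)) := by abel
          rw [this, S.vadd_self, add_zero]
  have hdisj : Disjoint {z : V | τ • z = z} ((fun k => k + z0) '' {z : V | τ • z = z}) := by
    rw [Set.disjoint_left]
    rintro w hw ⟨k, hk, rfl⟩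
    simp only [Set.mem_ofPred_eq] at hw hk
    rw [smul_add, hk, hτz0] at hw
    have h3 : y = 0 := by
      have h4 : k + (z0 + y) = k + z0 + y := by abel
      rw [h4] at hw
      exact add_eq_left.mp hw
    exact hy0 h3
  have hcard : Nat.card {w : V // S.h w y = 0 ∧ (τ • w + w = 0 ∨ τ • w + w = y)}
      = 2 * Nat.card {z : V // τ • z = z} := by
    have e1 : Nat.card {w : V // S.h w y = 0 ∧ (τ • w + w = 0 ∨ τ • w + w = y)}
        = ({w : V | S.h w y = 0 ∧ (τ • w + w = 0 ∨ τ • w + w = y)} : Set V).ncard :=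
      Nat.card_coe_set_eq _
    have e2 : Nat.card {z : V // τ • z = z} = ({z : V | τ • z = z} : Set V).ncard :=
      Nat.card_coe_set_eq _
    rw [e1, e2, hW, Set.ncard_union_eq hdisj (Set.toFinite _) (Set.toFinite _),
      Set.ncard_image_of_injective _ (add_left_injective z0)]
    ring
  omega

end Cfsg.Agent.Lib.Helper13.Su2Leaf
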