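import Mathlib
import Cfsg.Agent.Lib.Helper14.SylA.Defs

/-!
S2221 leaves W2 / W2' (helper14's market), by helper13: the centre of `D ≀ᵣ C2` for nontrivial `D`.
-/

set_option autoImplicit false
open scoped commutatorElement

namespace Cfsg.Agent.Lib.Helper13.SylALeaf

open Cfsg.Agent.Lib.Helper14.SylA RegularWreathProduct

/-- the generator of `C2`. -/
abbrev gC2 : C2 := Multiplicative.ofAdd 1

theorem gC2_ne_one : gC2 ≠ 1 := by decide

theorem gC2_mul_self : gC2 * gC2 = 1 := by decide

theorem gC2_inv : gC2⁻¹ = gC2 := by decide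

theorem c2_cases (x : C2) : x = 1 ∨ x = gC2 := by
  revert x; decide

/-- W2: the centre of `D ≀ᵣ C2` for nontrivial `D` is the diagonal of the centre of `D`. -/
theorem mem_center_wreath {D : Type} [Group D] [Nontrivial D] (w : D ≀ᵣ C2) :
    w ∈ Subgroup.center (D ≀ᵣ C2) ↔
      w.right = 1 ∧ ∃ z ∈ Subgroup.center D, w.left = fun _ => z := by
  classical
  constructor
  · intro hw
    rw [Subgroup.mem_center_iff] at hw
    obtain ⟨d, hd⟩ := exists_ne (1 : D)
    -- w.right = 1
    have hr : w.right = 1 := by
      by_contra hne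
      have hg : w.right = gC2 := (c2_cases w.right).resolve_left hne
      have h := hw ⟨fun x => if x = 1 then d else 1, 1⟩
      have h1 := congrArg (fun v => v.left 1) h
      simp only [mul_left, Pi.mul_apply, hg, gC2_inv, inv_one, one_mul, mul_one] at h1
      rw [if_pos trivial, if_neg gC2_ne_one, mul_one] at h1
      apply hd
      exact mul_eq_right.mp h1
    refine ⟨hr, w.left 1, ?_, ?_⟩
    · rw [Subgroup.mem_center_iff]
      intro u
      have h := hw ⟨fun _ => u, 1⟩
      have h1 := congrArg (fun v => v.left 1) h
      simp only [mul_left, Pi.mul_apply, inv_one, one_mul] at h1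
      exact h1
    · have h := hw (inl gC2)
      have h1 := congrArg (fun v => v.left 1) h
      simp only [mul_left, Pi.mul_apply, hr, inv_one, one_mul, left_inl, Pi.one_apply, right_inl,
        gC2_inv, mul_one] at h1
      funext x
      rcases c2_cases x with rfl | rfl
      · rfl
      · exact h1
  · rintro ⟨hr, z, hz, hl⟩
    rw [Subgroup.mem_center_iff] at hz ⊢
    intro u
    ext x
    · simp only [mul_left, Pi.mul_apply, hr, hl, inv_one, one_mul]
      exact hz _
    · simp only [mul_right, hr, mul_one, one_mul]

/-- the diagonal central element. -/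
theorem diag_mem_center {D : Type} [Group D] [Nontrivial D] (z : D) (hz : z ∈ Subgroup.center D) :
    (⟨fun _ => z, 1⟩ : D ≀ᵣ C2) ∈ Subgroup.center (D ≀ᵣ C2) :=
  (mem_center_wreath _).2 ⟨rfl, z, hz, rfl⟩

/-- W2': hence the centres have the same order. -/
theorem card_center_wreath {D : Type} [Group D] [Nontrivial D] :
    Nat.card (Subgroup.center (D ≀ᵣ C2)) = Nat.card (Subgroup.center D) := by
  classical
  symm
  refine Nat.card_congr
    { toFun := fun z => ⟨⟨fun _ => z.1, 1⟩, diag_mem_center z.1 z.2⟩
      invFun := fun w => ⟨w.1.left 1, by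
        obtain ⟨_, z, hz, hl⟩ := (mem_center_wreath w.1).1 w.2
        rw [hl]; exact hz⟩
      left_inv := fun z => rfl
      right_inv := fun w => by
        obtain ⟨hr, z, hz, hl⟩ := (mem_center_wreath w.1).1 w.2
        apply Subtype.ext
        ext x
        · simp only [hl]
        · exact hr.symm }

end Cfsg.Agent.Lib.Helper13.SylALeaf
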