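import Mathlib
import Cfsg.Agent.Lib.Helper14.SylA.Defs
import Cfsg.Agent.Lib.Helper13.SylAW2

/-!
S2221 leaves W3 / W3' (helper14's market), by helper13: central indecomposability of `D ≀ᵣ C2`.
In fact `CI (D ≀ᵣ C2)` holds for EVERY nontrivial `D` (`ci_wreath_of_nontrivial`).
-/

set_option autoImplicit false
open scoped commutatorElement

namespace Cfsg.Agent.Lib.Helper13.SylALeaf

open Cfsg.Agent.Lib.Helper14.SylA RegularWreathProduct

/-- two commuting subgroups generating the group are normal. -/
theorem normal_of_commute_sup {W : Type*} [Group W] (A B : Subgroup W)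
    (hc : ∀ a ∈ A, ∀ b ∈ B, a * b = b * a) (hs : A ⊔ B = ⊤) : B.Normal := by
  rw [← Subgroup.normalizer_eq_top_iff, eq_top_iff, ← hs]
  refine sup_le ?_ Subgroup.le_normalizer
  intro a ha
  rw [Subgroup.mem_normalizer_iff]
  intro n
  constructor
  · intro hn
    have : a * n * a⁻¹ = n := by rw [hc a ha n hn, mul_inv_cancel_right]
    rw [this]; exact hn
  · intro hn
    have h1 := hc a ha _ hn
    -- a * (a n a⁻¹) = (a n a⁻¹) * a  ⇒ a n a⁻¹ = n
    have : a * n * a⁻¹ = n := by
      have h2 : a * (a * n * a⁻¹) = a * n := by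
        rw [h1]; group
      exact mul_left_cancel h2
    rw [← this]; exact hn

/-- Step 2: if `A` contains an element outside the base group, the elements of `B` in the base group
are central. -/
theorem base_central {D : Type} [Group D] [Nontrivial D] (A B : Subgroup (D ≀ᵣ C2))
    (hc : ∀ a ∈ A, ∀ b ∈ B, a * b = b * a) (hs : A ⊔ B = ⊤)
    (g₀ : D ≀ᵣ C2) (hg₀ : g₀ ∈ A) (hr : g₀.right ≠ 1)
    (η : D ≀ᵣ C2) (hη : η ∈ B) (hηr : η.right = 1) : η ∈ Subgroup.center (D ≀ᵣ C2) := by
  classical
  have hB : B.Normal := normal_of_commute_sup A B hc hs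
  have hg : g₀.right = gC2 := (c2_cases g₀.right).resolve_left hr
  -- the key relation for every u
  have key : ∀ u : D, g₀.left 1 * η.left gC2 = u * η.left 1 * u⁻¹ * g₀.left 1 := by
    intro u
    set û : D ≀ᵣ C2 := ⟨fun x => if x = 1 then u else 1, 1⟩ with hû
    have hmem : û * η * û⁻¹ ∈ B := hB.conj_mem η hη û
    have h := hc g₀ hg₀ _ hmem
    have h1 := congrArg (fun v => v.left 1) h
    simp only [mul_left, Pi.mul_apply, mul_right, inv_left, inv_right, hg, gC2_inv, hηr, hû,
      inv_one, one_mul, mul_one, Pi.inv_apply] at h1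
    rw [if_neg gC2_ne_one, if_pos trivial] at h1
    simpa using h1
  have k1 := key 1
  simp only [one_mul, inv_one, mul_one] at k1
  -- η.left 1 is central
  have hcen : η.left 1 ∈ Subgroup.center D := by
    rw [Subgroup.mem_center_iff]
    intro u
    have k2 := key u
    rw [k1] at k2
    have k3 := mul_right_cancel k2
    -- η₁ = u η₁ u⁻¹
    calc u * η.left 1 = u * η.left 1 * u⁻¹ * u := by group
      _ = η.left 1 * u := by rw [← k3]
  have hgg : η.left gC2 = η.left 1 := by
    have : g₀.left 1 * η.left gC2 = g₀.left 1 * η.left 1 := by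
      rw [k1]; exact ((Subgroup.mem_center_iff.mp hcen) _).symm
    exact mul_left_cancel this
  refine (mem_center_wreath η).2 ⟨hηr, η.left 1, hcen, ?_⟩
  funext x
  rcases c2_cases x with rfl | rfl
  · rfl
  · exact hgg

/-- both factors cannot leave the base group. -/
theorem not_both_outside {D : Type} [Group D] [Nontrivial D] (A B : Subgroup (D ≀ᵣ C2))
    (hc : ∀ a ∈ A, ∀ b ∈ B, a * b = b * a) (hs : A ⊔ B = ⊤)
    (g₀ : D ≀ᵣ C2) (hg₀ : g₀ ∈ A) (hr : g₀.right ≠ 1)
    (h : D ≀ᵣ C2) (hh : h ∈ B) (hhr : h.right ≠ 1) : False := by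
  have hc' : ∀ b ∈ B, ∀ a ∈ A, b * a = a * b := fun b hb a ha => (hc a ha b hb).symm
  have hs' : B ⊔ A = ⊤ := by rw [sup_comm]; exact hs
  have hg : g₀.right = gC2 := (c2_cases g₀.right).resolve_left hr
  -- g₀ is central
  have hcent : g₀ ∈ Subgroup.center (D ≀ᵣ C2) := by
    have hle : A ⊔ B ≤ Subgroup.centralizer ({g₀} : Set (D ≀ᵣ C2)) := by
      refine sup_le ?_ ?_
      · intro x hx
        rw [Subgroup.mem_centralizer_iff]
        intro y hy
        rw [Set.mem_singleton_iff] at hy
        subst hy
        by_cases hxr : x.right = 1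
        · have hxc := base_central B A hc' hs' h hh hhr x hx hxr
          exact (Subgroup.mem_center_iff.mp hxc) y
        · have hxg : x.right = gC2 := (c2_cases x.right).resolve_left hxr
          have hy1 : (x * y⁻¹).right = 1 := by
            simp only [mul_right, inv_right, hxg, hg, gC2_inv, gC2_mul_self]
          have hyA : x * y⁻¹ ∈ A := A.mul_mem hx (A.inv_mem hg₀)
          have hyc := base_central B A hc' hs' h hh hhr _ hyA hy1
          have hcomm := (Subgroup.mem_center_iff.mp hyc) y
          -- y * (x y⁻¹) = (x y⁻¹) * y = x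
          have : y * x = x * y := by
            have e1 : y * (x * y⁻¹) = x := by rw [hcomm]; group
            calc y * x = y * (x * y⁻¹) * y := by group
              _ = x * y := by rw [e1]
          exact this
      · intro x hx
        rw [Subgroup.mem_centralizer_iff]
        intro y hy
        rw [Set.mem_singleton_iff] at hy
        subst hy
        exact hc y hg₀ x hx
    rw [hs] at hle
    rw [Subgroup.mem_center_iff]
    intro w
    have := hle (Subgroup.mem_top w)
    rw [Subgroup.mem_centralizer_iff] at this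
    exact (this g₀ rfl).symm
  exact hr ((mem_center_wreath g₀).1 hcent).1

/-- `D ≀ᵣ C2` is centrally indecomposable for every nontrivial `D`. -/
theorem ci_wreath_of_nontrivial {D : Type} [Group D] [Nontrivial D] : CI (D ≀ᵣ C2) := by
  intro A B hc hs
  by_contra hcon
  rw [not_or] at hcon
  obtain ⟨hA, hB⟩ := hcon
  have hc' : ∀ b ∈ B, ∀ a ∈ A, b * a = a * b := fun b hb a ha => (hc a ha b hb).symm
  have hs' : B ⊔ A = ⊤ := by rw [sup_comm]; exact hs
  have hex : (∃ g ∈ A, g.right ≠ 1) ∨ (∃ g ∈ B, g.right ≠ 1) := by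
    by_contra h
    rw [not_or] at h
    obtain ⟨h1, h2⟩ := h
    push Not at h1 h2
    have hle : A ⊔ B ≤ (rightHom : D ≀ᵣ C2 →* C2).ker :=
      sup_le (fun a ha => by rw [MonoidHom.mem_ker]; exact h1 a ha)
        (fun b hb => by rw [MonoidHom.mem_ker]; exact h2 b hb)
    rw [hs] at hle
    have h3 := hle (Subgroup.mem_top (inl gC2))
    rw [MonoidHom.mem_ker] at h3
    simp at h3
  rcases hex with ⟨g₀, hg₀, hr⟩ | ⟨g₀, hg₀, hr⟩
  · -- B not central: some element of B outside the centre, hence outside the base group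
    obtain ⟨b, hb, hbc⟩ := SetLike.not_le_iff_exists.mp hB
    have hbr : b.right ≠ 1 := fun h1 => hbc (base_central A B hc hs g₀ hg₀ hr b hb h1)
    exact not_both_outside A B hc hs g₀ hg₀ hr b hb hbr
  · obtain ⟨a, ha, hac⟩ := SetLike.not_le_iff_exists.mp hA
    have har : a.right ≠ 1 := fun h1 => hac (base_central B A hc' hs' g₀ hg₀ hr a ha h1)
    exact not_both_outside B A hc' hs' g₀ hg₀ hr a ha har

/-- W3: central indecomposability of `D ≀ᵣ C2` for nonabelian `D`. -/
theorem ci_wreath {D : Type} [Group D] (hD : Subgroup.center D ≠ ⊤) : CI (D ≀ᵣ C2) := by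
  haveI : Nontrivial D := by
    by_contra h
    rw [not_nontrivial_iff_subsingleton] at h
    exact hD (Subsingleton.elim _ _)
  exact ci_wreath_of_nontrivial

/-- W3': the case `|D| = 2` (the dihedral group of order 8). -/
theorem ci_wreath_two {D : Type} [Group D] (hD : Nat.card D = 2) : CI (D ≀ᵣ C2) := by
  haveI : Finite D := Nat.finite_of_card_ne_zero (by omega)
  haveI : Nontrivial D := (Finite.one_lt_card_iff_nontrivial).mp (by omega)
  exact ci_wreath_of_nontrivial

end Cfsg.Agent.Lib.Helper13.SylALeaf
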