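import Mathlib
import Cfsg.Agent.Lib.Helper14.SylA.Defs
import Cfsg.Agent.Lib.Helper13.SylAW2

/-!
S2221 leaf W4 (helper14's market), by helper13: CORE form, with the statement of leaf W1
(`sgnOf_wreath`) as a hypothesis.
-/

set_option autoImplicit false
open scoped commutatorElement

namespace Cfsg.Agent.Lib.Helper13.SylALeaf

open Cfsg.Agent.Lib.Helper14.SylA RegularWreathProduct

/-- W4, core form: `hW1` is exactly the statement of W1. -/
theorem card_center_ker_wreath_core {D Λ : Type} [Group D] [Finite D] [MulAction D Λ] [Fintype Λ]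
    [DecidableEq Λ]
    (hW1 : ∀ w : D ≀ᵣ C2, sgnOf (D ≀ᵣ C2) (Λ × C2) w =
      sgnOf D Λ (w.left 1) * sgnOf D Λ (w.left (Multiplicative.ofAdd 1)) *
        (if w.right = 1 then 1 else (-1) ^ Fintype.card Λ))
    (hD : 2 < Nat.card D) (hΛ : Even (Fintype.card Λ)) :
    Nat.card (Subgroup.center ↥(sgnOf (D ≀ᵣ C2) (Λ × C2)).ker) =
      Nat.card (Subgroup.center D) := by
  classical
  haveI : Nontrivial D := (Finite.one_lt_card_iff_nontrivial).mp (by omega)
  set s := sgnOf (D ≀ᵣ C2) (Λ × C2) with hs
  set σ := sgnOf D Λ with hσ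
  -- the sign formula with even |Λ|
  have hsign : ∀ w : D ≀ᵣ C2, s w = σ (w.left 1) * σ (w.left gC2) := by
    intro w
    rw [hW1 w]
    have : (if w.right = 1 then (1 : ℤˣ) else (-1) ^ Fintype.card Λ) = 1 := by
      split_ifs
      · rfl
      · exact Even.neg_one_pow hΛ
    rw [this, mul_one]
  have hsq : ∀ u : ℤˣ, u * u = 1 := fun u => Int.units_mul_self u
  -- membership facts
  have hdiagK : ∀ x : D, (⟨fun _ => x, 1⟩ : D ≀ᵣ C2) ∈ s.ker := by
    intro x
    rw [MonoidHom.mem_ker, hsign]
    exact hsq _
  have hswapK : (inl gC2 : D ≀ᵣ C2) ∈ s.ker := by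
    rw [MonoidHom.mem_ker, hsign]
    simp
  -- two distinct elements with the same sign
  obtain ⟨x, y, hxy, hσxy⟩ : ∃ x y : D, x ≠ y ∧ σ x = σ y := by
    haveI : Fintype D := Fintype.ofFinite D
    have hcard : Fintype.card ℤˣ < Fintype.card D := by
      have h2 : Fintype.card ℤˣ = 2 := by simp
      rw [Nat.card_eq_fintype_card] at hD
      omega
    exact Fintype.exists_ne_map_eq_of_card_lt σ hcard
  -- analysis of a central element of the kernel
  have hcentral : ∀ ζ : ↥s.ker, ζ ∈ Subgroup.center ↥s.ker →
      ζ.1.right = 1 ∧ ζ.1.left 1 ∈ Subgroup.center D ∧ ζ.1.left = fun _ => ζ.1.left 1 := by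
    intro ζ hζ
    rw [Subgroup.mem_center_iff] at hζ
    -- commuting with an element of the kernel
    have hcomm : ∀ u : D ≀ᵣ C2, u ∈ s.ker → u * ζ.1 = ζ.1 * u := by
      intro u hu
      have := hζ ⟨u, hu⟩
      exact congrArg Subtype.val this
    -- (i) a = b
    have hab : ζ.1.left gC2 = ζ.1.left 1 := by
      have h := hcomm _ hswapK
      have h1 := congrArg (fun v => v.left gC2) h
      simp only [mul_left, Pi.mul_apply, left_inl, Pi.one_apply, right_inl, gC2_inv, one_mul,
        mul_one, gC2_mul_self] at h1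
      exact h1.symm
    -- a commutes with everything
    have hac : ∀ u : D, u * ζ.1.left 1 = ζ.1.left 1 * u := by
      intro u
      have h := hcomm _ (hdiagK u)
      have h1 := congrArg (fun v => v.left 1) h
      simp only [mul_left, Pi.mul_apply, inv_one, one_mul] at h1
      exact h1
    -- (ii) right = 1
    have hr : ζ.1.right = 1 := by
      by_contra hne
      have hg : ζ.1.right = gC2 := (c2_cases ζ.1.right).resolve_left hne
      have huK : (⟨fun t => if t = 1 then x else y, 1⟩ : D ≀ᵣ C2) ∈ s.ker := by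
        rw [MonoidHom.mem_ker, hsign]
        simp only [if_pos, if_neg gC2_ne_one]
        rw [hσxy]; exact hsq _
      have h := hcomm _ huK
      have h1 := congrArg (fun v => v.left 1) h
      simp only [mul_left, Pi.mul_apply, inv_one, one_mul, hg, gC2_inv, mul_one] at h1
      rw [if_pos trivial, if_neg gC2_ne_one] at h1
      -- x * a = a * y, and x * a = a * x
      rw [hac x] at h1
      exact hxy (mul_left_cancel h1)
    refine ⟨hr, ?_, ?_⟩
    · rw [Subgroup.mem_center_iff]
      intro u
      exact hac u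
    · funext t
      rcases c2_cases t with rfl | rfl
      · rfl
      · exact hab
  symm
  refine Nat.card_congr
    { toFun := fun z => ⟨⟨⟨fun _ => z.1, 1⟩, hdiagK z.1⟩, by
        rw [Subgroup.mem_center_iff]
        intro u
        apply Subtype.ext
        have hc := diag_mem_center (D := D) z.1 z.2
        rw [Subgroup.mem_center_iff] at hc
        exact hc u.1⟩
      invFun := fun ζ => ⟨ζ.1.1.left 1, (hcentral ζ.1 ζ.2).2.1⟩
      left_inv := fun z => rfl
      right_inv := fun ζ => by
        obtain ⟨hr, _, hl⟩ := hcentral ζ.1 ζ.2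
        apply Subtype.ext
        apply Subtype.ext
        ext t
        · simp only
          rw [hl]
        · exact hr.symm }

end Cfsg.Agent.Lib.Helper13.SylALeaf
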