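import Mathlib
import Cfsg.Agent.Lib.Helper14.SylA.Defs
import Cfsg.Agent.Lib.Helper13.SylAW4core
import Cfsg.Agent.Lib.Helper7.SylAW1

/-!
S2221 leaf W4 (helper14's market), by helper13: exact signature (core + helper7's W1).
-/

set_option autoImplicit false
open scoped commutatorElement

namespace Cfsg.Agent.Lib.Helper13.SylALeaf

open Cfsg.Agent.Lib.Helper14.SylA RegularWreathProduct

/-- W4: for `|D| > 2`, `|Λ|` even and `Z(D)` even, the centre of the even part of `D ≀ᵣ C2` is the
centre of `D ≀ᵣ C2`. -/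
theorem card_center_ker_wreath {D Λ : Type} [Group D] [Finite D] [MulAction D Λ] [Fintype Λ]
    [DecidableEq Λ] (hD : 2 < Nat.card D) (hΛ : Even (Fintype.card Λ))
    (hZ : Subgroup.center D ≤ (sgnOf D Λ).ker) :
    Nat.card (Subgroup.center ↥(sgnOf (D ≀ᵣ C2) (Λ × C2)).ker) =
      Nat.card (Subgroup.center D) :=
  card_center_ker_wreath_core (fun w => Cfsg.Agent.Lib.Helper7.SylALeaf.sgnOf_wreath w) hD hΛ

end Cfsg.Agent.Lib.Helper13.SylALeaf
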