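/-
helper13: additive maps `A, B` of the field with `2 ^ (2 m + 1)` elements with
`B (x ^ (1 + θ)) = (A x) ^ (1 + θ)`, `θ = 2 ^ (m + 1)`, are scalar multiples of field
automorphisms (towards S2556).  The proof writes additive maps as linearized polynomials
and compares Fourier coefficients on the multiplicative group.
-/
import Mathlib

set_option autoImplicit false

namespace Cfsg.Agent.Lib.Helper13.SzAut

/-! ### sums of two powers of two -/

theorem two_pow_add_sorted {i l u v : ℕ} (hil : i ≤ l) (huv : u ≤ v)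
    (h : 2 ^ i + 2 ^ l = 2 ^ u + 2 ^ v) : i = u ∧ l = v := by
  have key : ∀ {i l u v : ℕ}, i ≤ l → 2 ^ i + 2 ^ l = 2 ^ u + 2 ^ v → ¬ l < v := by
    intro i l u v hil h hlv
    have h1 : 2 ^ i ≤ 2 ^ l := Nat.pow_le_pow_right (by norm_num) hil
    have h2 : 2 ^ (l + 1) ≤ 2 ^ v := Nat.pow_le_pow_right (by norm_num) hlv
    have h3 : 0 < 2 ^ u := by positivity
    rw [pow_succ] at h2
    omega
  have hlv : l = v := by
    rcases lt_trichotomy l v with h1 | h1 | h1
    · exact absurd h1 (key hil h)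
    · exact h1
    · exact absurd h1 (key huv h.symm)
  subst hlv
  have h4 : 2 ^ i = 2 ^ u := by omega
  exact ⟨Nat.pow_right_injective (le_refl 2) h4, rfl⟩

theorem two_pow_add_eq {i l u v : ℕ} (h : 2 ^ i + 2 ^ l = 2 ^ u + 2 ^ v) :
    (i = u ∧ l = v) ∨ (i = v ∧ l = u) := by
  rcases le_total i l with h1 | h1 <;> rcases le_total u v with h2 | h2
  · exact Or.inl (two_pow_add_sorted h1 h2 h)
  · exact Or.inr (two_pow_add_sorted h1 h2 (by omega : 2 ^ i + 2 ^ l = 2 ^ v + 2 ^ u))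
  · have := two_pow_add_sorted h1 h2 (by omega : 2 ^ l + 2 ^ i = 2 ^ u + 2 ^ v)
    exact Or.inr ⟨this.2, this.1⟩
  · have := two_pow_add_sorted h1 h2 (by omega : 2 ^ l + 2 ^ i = 2 ^ v + 2 ^ u)
    exact Or.inl ⟨this.2, this.1⟩

theorem dvd_add_sub_iff {M k e : ℕ} (he : e ≤ 2 * M) :
    M ∣ k + (2 * M - e) ↔ k ≡ e [MOD M] := by
  rw [Nat.modEq_iff_dvd, ← Int.natCast_dvd_natCast]
  have h2 : ((k + (2 * M - e) : ℕ) : ℤ) = -((e : ℤ) - k) + (M : ℤ) * 2 := by
    push_cast [Nat.cast_sub he]; ring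
  rw [h2, dvd_add_left (Dvd.intro 2 rfl), dvd_neg]

section fourier

variable {F : Type*} [Field F] [Fintype F] [DecidableEq F] {n : ℕ}

theorem char_two (hn : 1 ≤ n) (hF : Fintype.card F = 2 ^ n) : (2 : F) = 0 := by
  have := FiniteField.cast_card_eq_zero F
  rw [hF] at this
  push_cast at this
  exact (pow_eq_zero_iff (by omega)).mp this

theorem sum_units_pow (hn : 1 ≤ n) (hF : Fintype.card F = 2 ^ n) (k : ℕ) :
    ∑ x : Fˣ, ((x : F)) ^ k = if (2 ^ n - 1) ∣ k then 1 else 0 := by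
  classical
  have h := FiniteField.sum_pow_units F k
  rw [hF] at h
  rw [h]
  split_ifs
  · have h2 := char_two hn hF
    linear_combination (-1 : F) * h2
  · rfl

variable (n) in
/-- the Fourier coefficient of `f` at the exponent `e` (for `e ≤ 2 (2 ^ n - 1)`). -/
noncomputable def fc (e : ℕ) (f : F → F) : F :=
  ∑ x : Fˣ, f (x : F) * (x : F) ^ (2 * (2 ^ n - 1) - e)

theorem fc_sum {ι : Type*} (s : Finset ι) (e : ℕ) (g : ι → F → F) :
    fc n e (fun x => ∑ i ∈ s, g i x) = ∑ i ∈ s, fc n e (g i) := by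
  unfold fc
  simp_rw [Finset.sum_mul]
  exact Finset.sum_comm

theorem fc_const_mul (e : ℕ) (c : F) (g : F → F) :
    fc n e (fun x => c * g x) = c * fc n e g := by
  unfold fc
  rw [Finset.mul_sum]
  refine Finset.sum_congr rfl (fun x _ => ?_)
  ring

theorem fc_pow (hn : 1 ≤ n) (hF : Fintype.card F = 2 ^ n) {e : ℕ} (he : e ≤ 2 * (2 ^ n - 1))
    (k : ℕ) : fc n e (fun x : F => x ^ k) = if k ≡ e [MOD 2 ^ n - 1] then 1 else 0 := by
  unfold fc
  simp_rw [← pow_add]
  rw [sum_units_pow hn hF]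
  by_cases h : k ≡ e [MOD 2 ^ n - 1]
  · rw [if_pos h, if_pos ((dvd_add_sub_iff he).2 h)]
  · rw [if_neg h, if_neg (fun h' => h ((dvd_add_sub_iff he).1 h'))]

theorem pow_two_pow_mul (hF : Fintype.card F = 2 ^ n) (x : F) (t : ℕ) :
    x ^ 2 ^ (n * t) = x := by
  induction t with
  | zero => simp
  | succ t ih => rw [Nat.mul_succ, pow_add, pow_mul, ih, ← hF, FiniteField.pow_card]

theorem pow_two_pow_mod (hF : Fintype.card F = 2 ^ n) (x : F) (k : ℕ) :
    x ^ 2 ^ (k % n) = x ^ 2 ^ k := by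
  conv_rhs => rw [← Nat.div_add_mod k n, pow_add, pow_mul, pow_two_pow_mul hF]

variable [NeZero n]

theorem two_pow_val_le (z : ZMod n) : 2 ^ z.val ≤ 2 ^ (n - 1) :=
  Nat.pow_le_pow_right (by norm_num) (by have := ZMod.val_lt z; omega)

theorem two_pow_eq (hn : 1 ≤ n) : 2 ^ n = 2 * 2 ^ (n - 1) := by
  rw [← pow_succ']
  congr 1
  omega

theorem pow_val_modEq (hn : 2 ≤ n) {z u : ZMod n}
    (h : 2 ^ z.val ≡ 2 ^ u.val [MOD 2 ^ n - 1]) : z = u := by
  have h1 := two_pow_val_le z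
  have h2 := two_pow_val_le u
  have h3 := two_pow_eq (n := n) (by omega)
  have h4 : 2 ^ 1 ≤ 2 ^ (n - 1) := Nat.pow_le_pow_right (by norm_num) (by omega)
  have h5 := Nat.ModEq.eq_of_lt_of_lt h (by omega) (by omega)
  exact ZMod.val_injective n (Nat.pow_right_injective (le_refl 2) h5)

theorem pow_val_add_modEq (hn : 1 ≤ n) {z w u v : ZMod n}
    (h : 2 ^ z.val + 2 ^ w.val ≡ 2 ^ u.val + 2 ^ v.val [MOD 2 ^ n - 1]) :
    (z = u ∧ w = v) ∨ (z = v ∧ w = u) := by
  have hz := two_pow_val_le z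
  have hw := two_pow_val_le w
  have hu := two_pow_val_le u
  have hv := two_pow_val_le v
  have h3 := two_pow_eq hn
  have pz : 0 < 2 ^ z.val := by positivity
  have pw : 0 < 2 ^ w.val := by positivity
  have pu : 0 < 2 ^ u.val := by positivity
  have pv : 0 < 2 ^ v.val := by positivity
  have p0 : 0 < 2 ^ (n - 1) := by positivity
  have h' : (2 ^ z.val + 2 ^ w.val - 2) + 2 ≡ (2 ^ u.val + 2 ^ v.val - 2) + 2
      [MOD 2 ^ n - 1] := by
    rwa [Nat.sub_add_cancel (by omega), Nat.sub_add_cancel (by omega)]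
  have h'' := Nat.ModEq.add_right_cancel' 2 h'
  have h5 := Nat.ModEq.eq_of_lt_of_lt h'' (by omega) (by omega)
  have h6 : 2 ^ z.val + 2 ^ w.val = 2 ^ u.val + 2 ^ v.val := by omega
  rcases two_pow_add_eq h6 with ⟨h7, h8⟩ | ⟨h7, h8⟩
  · exact Or.inl ⟨ZMod.val_injective n h7, ZMod.val_injective n h8⟩
  · exact Or.inr ⟨ZMod.val_injective n h7, ZMod.val_injective n h8⟩

theorem two_pow_val_add_le (hn : 1 ≤ n) (u v : ZMod n) :
    2 ^ u.val + 2 ^ v.val ≤ 2 * (2 ^ n - 1) := by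
  have hu := two_pow_val_le u
  have hv := two_pow_val_le v
  have h3 := two_pow_eq hn
  have p0 : 0 < 2 ^ (n - 1) := by positivity
  omega

theorem two_pow_val_le' (hn : 1 ≤ n) (u : ZMod n) : 2 ^ u.val ≤ 2 * (2 ^ n - 1) := by
  have hu := two_pow_val_le u
  have h3 := two_pow_eq hn
  have p0 : 0 < 2 ^ (n - 1) := by positivity
  omega

/-- the linearized polynomial function with coefficients `a`. -/
def lin (a : ZMod n → F) (x : F) : F := ∑ z : ZMod n, a z * x ^ 2 ^ z.val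

theorem fc_lin (hn : 2 ≤ n) (hF : Fintype.card F = 2 ^ n) (a : ZMod n → F) (u : ZMod n) :
    fc n (2 ^ u.val) (lin a) = a u := by
  have h1 : fc n (2 ^ u.val) (lin a) =
      ∑ z : ZMod n, fc n (2 ^ u.val) (fun x => a z * x ^ 2 ^ z.val) :=
    fc_sum Finset.univ _ (fun z x => a z * x ^ 2 ^ z.val)
  rw [h1]
  simp_rw [fc_const_mul]
  rw [Finset.sum_eq_single u]
  · rw [fc_pow (by omega) hF (two_pow_val_le' (by omega) u), if_pos (Nat.ModEq.refl _), mul_one]
  · intro z _ hz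
    rw [fc_pow (by omega) hF (two_pow_val_le' (by omega) u),
      if_neg (fun h => hz (pow_val_modEq hn h)), mul_zero]
  · intro h
    exact absurd (Finset.mem_univ u) h

theorem lin_injective (hn : 2 ≤ n) (hF : Fintype.card F = 2 ^ n) :
    Function.Injective (lin : (ZMod n → F) → F → F) := by
  intro a a' h
  funext u
  rw [← fc_lin hn hF a u, ← fc_lin hn hF a' u, h]

theorem lin_add (hn : 1 ≤ n) (hF : Fintype.card F = 2 ^ n) (a : ZMod n → F) (x y : F) :
    lin a (x + y) = lin a x + lin a y := by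
  have : CharP F 2 := CharTwo.of_one_ne_zero_of_two_eq_zero one_ne_zero (char_two hn hF)
  have : Fact (Nat.Prime 2) := ⟨Nat.prime_two⟩
  unfold lin
  rw [← Finset.sum_add_distrib]
  refine Finset.sum_congr rfl (fun z _ => ?_)
  rw [add_pow_char_pow, mul_add]

end fourier

end Cfsg.Agent.Lib.Helper13.SzAut
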