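/-
helper13: additive maps `A, B` of the field with `2 ^ (2 m + 1)` elements with
`B (x ^ (1 + θ)) = (A x) ^ (1 + θ)`, `θ = 2 ^ (m + 1)`, are scalar multiples of field
automorphisms (towards S2556), part 2: coefficient comparison.
-/
import Mathlib
import Cfsg.Agent.Lib.Helper13.SzAutA

set_option autoImplicit false

namespace Cfsg.Agent.Lib.Helper13.SzAut

/-- the number of additive maps between elementary abelian 2-groups. -/
theorem card_addHom_two {V W : Type*} [AddCommGroup V] [AddCommGroup W] [Finite V]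
    [Finite W] (hV : ∀ x : V, x + x = 0) (hW : ∀ x : W, x + x = 0) {d e : ℕ}
    (cV : Nat.card V = 2 ^ d) (cW : Nat.card W = 2 ^ e) : Nat.card (V →+ W) = 2 ^ (d * e) := by
  let : Module (ZMod 2) V := AddCommGroup.zmodModule (n := 2) (fun x => by
    rw [two_nsmul]; exact hV x)
  let : Module (ZMod 2) W := AddCommGroup.zmodModule (n := 2) (fun x => by
    rw [two_nsmul]; exact hW x)
  have : Fintype V := Fintype.ofFinite V
  rw [Nat.card_congr (AddMonoidHom.toZModLinearMapEquiv 2 (M := V) (M₁ := W)).toEquiv]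
  have b := Module.finBasis (ZMod 2) V
  rw [← Nat.card_congr (b.constr (ZMod 2) (M' := W)).toEquiv, Nat.card_fun, cW, Nat.card_fin]
  have h3 := Module.card_eq_pow_finrank (K := ZMod 2) (V := V)
  rw [← Nat.card_eq_fintype_card, cV, ZMod.card] at h3
  have h4 : d = Module.finrank (ZMod 2) V := Nat.pow_right_injective (le_refl 2) h3
  rw [← h4, ← pow_mul, mul_comm]

section rep

variable {F : Type*} [Field F] [Fintype F] [DecidableEq F] {n : ℕ} [NeZero n]

theorem add_self_eq_zero' (hn : 1 ≤ n) (hF : Fintype.card F = 2 ^ n) (x : F) : x + x = 0 := by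
  rw [← two_mul, char_two hn hF, zero_mul]

theorem exists_lin (hn : 2 ≤ n) (hF : Fintype.card F = 2 ^ n) (A : F →+ F) :
    ∃ a : ZMod n → F, ∀ x, A x = lin a x := by
  let Φ : (ZMod n → F) → (F →+ F) := fun a =>
    AddMonoidHom.mk' (lin a) (lin_add (by omega) hF a)
  have hΦ : Function.Injective Φ := by
    intro a a' h
    apply lin_injective hn hF
    funext x
    exact DFunLike.congr_fun h x
  have : Finite (F →+ F) := DFunLike.finite _
  have hc : Nat.card F = 2 ^ n := by rw [Nat.card_eq_fintype_card, hF]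
  have hcard : Nat.card (F →+ F) ≤ Nat.card (ZMod n → F) := by
    rw [card_addHom_two (add_self_eq_zero' (by omega) hF) (add_self_eq_zero' (by omega) hF) hc hc,
      Nat.card_fun, Nat.card_zmod, hc, ← pow_mul]
  obtain ⟨a, ha⟩ := (hΦ.bijective_of_nat_card_le hcard).2 A
  exact ⟨a, fun x => by rw [← ha]; rfl⟩

theorem lin_mul_lin (a c : ZMod n → F) (x : F) :
    lin a x * lin c x = ∑ z, ∑ w, (a z * c w) * x ^ (2 ^ z.val + 2 ^ w.val) := by
  unfold lin
  rw [Finset.sum_mul_sum]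
  refine Finset.sum_congr rfl (fun z _ => Finset.sum_congr rfl (fun w _ => ?_))
  rw [pow_add]
  ring

theorem sum_sum_ite_pair (u v : ZMod n) (g : ZMod n → ZMod n → F)
    (C : ZMod n → ZMod n → Prop) [∀ z w, Decidable (C z w)]
    (hC : ∀ z w, C z w ↔ (z = u ∧ w = v) ∨ (z = v ∧ w = u)) :
    ∑ z, ∑ w, g z w * (if C z w then 1 else 0) =
      if u = v then g u u else g u v + g v u := by
  classical
  rw [← Finset.sum_product']
  have h1 : ∀ p : ZMod n × ZMod n, g p.1 p.2 * (if C p.1 p.2 then (1 : F) else 0) =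
      if p ∈ ({(u, v), (v, u)} : Finset (ZMod n × ZMod n)) then g p.1 p.2 else 0 := by
    intro p
    have : C p.1 p.2 ↔ p ∈ ({(u, v), (v, u)} : Finset (ZMod n × ZMod n)) := by
      rw [hC, Finset.mem_insert, Finset.mem_singleton, Prod.ext_iff, Prod.ext_iff]
    by_cases hp : C p.1 p.2
    · rw [if_pos hp, if_pos (this.1 hp), mul_one]
    · rw [if_neg hp, if_neg (fun h => hp (this.2 h)), mul_zero]
  rw [Finset.sum_congr rfl (fun p _ => h1 p), Finset.sum_ite_mem, Finset.univ_product_univ,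
    Finset.univ_inter]
  split_ifs with huv
  · subst huv
    rw [Finset.pair_eq_singleton, Finset.sum_singleton]
  · rw [Finset.sum_pair (fun h => huv (Prod.ext_iff.1 h).1)]

theorem fc_lin_mul_lin (hn : 1 ≤ n) (hF : Fintype.card F = 2 ^ n) (a c : ZMod n → F)
    (u v : ZMod n) :
    fc n (2 ^ u.val + 2 ^ v.val) (fun x => lin a x * lin c x) =
      if u = v then a u * c u else a u * c v + a v * c u := by
  have e1 : (fun x : F => lin a x * lin c x) =
      fun x => ∑ z, ∑ w, (a z * c w) * x ^ (2 ^ z.val + 2 ^ w.val) := funext (lin_mul_lin a c)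
  rw [e1, fc_sum Finset.univ _ (fun z x => ∑ w, (a z * c w) * x ^ (2 ^ z.val + 2 ^ w.val))]
  have e2 : ∀ z, fc n (2 ^ u.val + 2 ^ v.val)
      (fun x => ∑ w, (a z * c w) * x ^ (2 ^ z.val + 2 ^ w.val)) =
      ∑ w, (a z * c w) * (if 2 ^ z.val + 2 ^ w.val ≡ 2 ^ u.val + 2 ^ v.val [MOD 2 ^ n - 1]
        then 1 else 0) := by
    intro z
    rw [fc_sum Finset.univ _ (fun w x => (a z * c w) * x ^ (2 ^ z.val + 2 ^ w.val))]
    refine Finset.sum_congr rfl (fun w _ => ?_)
    rw [fc_const_mul, fc_pow hn hF (two_pow_val_add_le hn u v)]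
  simp_rw [e2]
  refine sum_sum_ite_pair u v (fun z w => a z * c w) _ (fun z w => ⟨pow_val_add_modEq hn, ?_⟩)
  rintro (⟨rfl, rfl⟩ | ⟨rfl, rfl⟩)
  · exact Nat.ModEq.refl _
  · rw [add_comm]

end rep

section main

variable {F : Type*} [Field F] [Fintype F] [DecidableEq F] {m : ℕ}

/-- the shift `m + 1` as an element of `ZMod (2 m + 1)`. -/
def sh (m : ℕ) : ZMod (2 * m + 1) := ((m + 1 : ℕ) : ZMod (2 * m + 1))

theorem sh_val (hm : 1 ≤ m) : (sh m).val = m + 1 := ZMod.val_natCast_of_lt (by omega)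

theorem sh_add_sh (m : ℕ) : sh m + sh m = 1 := by
  unfold sh
  have h : ((2 * m + 1 : ℕ) : ZMod (2 * m + 1)) = 0 := ZMod.natCast_self _
  have h1 : ((m + 1 : ℕ) : ZMod (2 * m + 1)) + ((m + 1 : ℕ) : ZMod (2 * m + 1)) =
      ((2 * m + 1 : ℕ) : ZMod (2 * m + 1)) + 1 := by
    push_cast
    ring
  rw [h1, h, zero_add]

theorem zmod_one_ne_zero (hm : 1 ≤ m) : (1 : ZMod (2 * m + 1)) ≠ 0 := by
  have : Fact (1 < 2 * m + 1) := ⟨by omega⟩
  exact one_ne_zero

theorem zmod_two_ne_zero (hm : 1 ≤ m) : (1 + 1 : ZMod (2 * m + 1)) ≠ 0 := by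
  intro h
  have h1 : ((2 : ℕ) : ZMod (2 * m + 1)) = 0 := by
    push_cast
    rw [← h]
    ring
  rw [ZMod.natCast_eq_zero_iff] at h1
  have := Nat.le_of_dvd (by norm_num) h1
  omega

theorem sh_ne_zero (hm : 1 ≤ m) : sh m ≠ 0 := by
  intro h
  have := sh_add_sh m
  rw [h, add_zero] at this
  exact zmod_one_ne_zero hm this.symm

theorem pow_val_add_sh (hm : 1 ≤ m) (hF : Fintype.card F = 2 ^ (2 * m + 1)) (x : F)
    (z : ZMod (2 * m + 1)) : x ^ 2 ^ (z + sh m).val = (x ^ 2 ^ z.val) ^ 2 ^ (m + 1) := by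
  rw [ZMod.val_add, sh_val hm, pow_two_pow_mod hF, pow_add, pow_mul]

theorem lin_pow (hm : 1 ≤ m) (hF : Fintype.card F = 2 ^ (2 * m + 1))
    (a : ZMod (2 * m + 1) → F) (x : F) :
    (lin a x) ^ 2 ^ (m + 1) = lin (fun w => a (w - sh m) ^ 2 ^ (m + 1)) x := by
  have : CharP F 2 :=
    CharTwo.of_one_ne_zero_of_two_eq_zero one_ne_zero (char_two (by omega) hF)
  have : Fact (Nat.Prime 2) := ⟨Nat.prime_two⟩
  unfold lin
  rw [sum_pow_char_pow]
  refine Fintype.sum_equiv (Equiv.addRight (sh m)) _ _ (fun z => ?_)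
  simp only [Equiv.coe_addRight]
  rw [add_sub_cancel_right, pow_val_add_sh hm hF, mul_pow]

theorem lin_twist (hm : 1 ≤ m) (hF : Fintype.card F = 2 ^ (2 * m + 1))
    (b : ZMod (2 * m + 1) → F) (x : F) :
    lin b (x * x ^ 2 ^ (m + 1)) = ∑ j, b j * x ^ (2 ^ j.val + 2 ^ (j + sh m).val) := by
  unfold lin
  refine Finset.sum_congr rfl (fun j _ => ?_)
  have h1 : x ^ (2 ^ j.val + 2 ^ (j + sh m).val) =
      x ^ 2 ^ j.val * (x ^ 2 ^ j.val) ^ 2 ^ (m + 1) := by
    rw [pow_add x, pow_val_add_sh hm hF]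
  rw [h1, mul_pow, ← pow_mul x, ← pow_mul x, mul_comm (2 ^ (m + 1))]

theorem fc_twist (hm : 1 ≤ m) (hF : Fintype.card F = 2 ^ (2 * m + 1))
    (b : ZMod (2 * m + 1) → F) {u v : ZMod (2 * m + 1)} (h1 : u + sh m ≠ v)
    (h2 : v + sh m ≠ u) :
    fc (2 * m + 1) (2 ^ u.val + 2 ^ v.val) (fun x : F => lin b (x * x ^ 2 ^ (m + 1))) = 0 := by
  have e1 : (fun x : F => lin b (x * x ^ 2 ^ (m + 1))) =
      fun x => ∑ j, b j * x ^ (2 ^ j.val + 2 ^ (j + sh m).val) := funext (lin_twist hm hF b)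
  rw [e1, fc_sum Finset.univ _ (fun j x => b j * x ^ (2 ^ j.val + 2 ^ (j + sh m).val))]
  apply Finset.sum_eq_zero
  intro j _
  rw [fc_const_mul, fc_pow (by omega) hF (two_pow_val_add_le (by omega) u v), if_neg, mul_zero]
  intro h
  rcases pow_val_add_modEq (by omega) h with ⟨h3, h4⟩ | ⟨h3, h4⟩
  · exact h1 (h3 ▸ h4)
  · exact h2 (h3 ▸ h4)

theorem coeff_rel (hm : 1 ≤ m) (hF : Fintype.card F = 2 ^ (2 * m + 1))
    (a b : ZMod (2 * m + 1) → F)
    (h : ∀ x : F, lin b (x * x ^ 2 ^ (m + 1)) = lin a x * (lin a x) ^ 2 ^ (m + 1))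
    {u v : ZMod (2 * m + 1)} (h1 : u + sh m ≠ v) (h2 : v + sh m ≠ u) :
    (if u = v then a u * a (u - sh m) ^ 2 ^ (m + 1)
      else a u * a (v - sh m) ^ 2 ^ (m + 1) + a v * a (u - sh m) ^ 2 ^ (m + 1)) = 0 := by
  have e : (fun x : F => lin b (x * x ^ 2 ^ (m + 1))) =
      fun x => lin a x * lin (fun w => a (w - sh m) ^ 2 ^ (m + 1)) x := by
    funext x
    rw [h x, lin_pow hm hF]
  have h3 := congrArg (fc (2 * m + 1) (2 ^ u.val + 2 ^ v.val)) e
  rw [fc_twist hm hF b h1 h2, fc_lin_mul_lin (by omega) hF] at h3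
  exact h3.symm

omit [Fintype F] [DecidableEq F] in
theorem support_step (hm : 1 ≤ m) (a : ZMod (2 * m + 1) → F)
    (rel : ∀ u v : ZMod (2 * m + 1), u + sh m ≠ v → v + sh m ≠ u →
      (if u = v then a u * a (u - sh m) ^ 2 ^ (m + 1)
        else a u * a (v - sh m) ^ 2 ^ (m + 1) + a v * a (u - sh m) ^ 2 ^ (m + 1)) = 0)
    {i : ZMod (2 * m + 1)} (hi : a i ≠ 0) {w : ZMod (2 * m + 1)} (hw : w ≠ i)
    (hw2 : w ≠ i - 1) : a w = 0 := by
  have hs := sh_ne_zero hm
  have h0 : a (i - sh m) = 0 := by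
    have h1 := rel i i (fun h => hs (add_eq_left.1 h)) (fun h => hs (add_eq_left.1 h))
    rw [if_pos rfl] at h1
    rcases mul_eq_zero.1 h1 with h2 | h2
    · exact absurd h2 hi
    · exact pow_eq_zero_iff (by positivity) |>.1 h2
  by_cases hws : w = i - sh m
  · rw [hws, h0]
  · have h1 := rel i (w + sh m) (fun h => hw (add_right_cancel h).symm) (fun h => hw2 (by
      rw [← h, add_assoc, sh_add_sh, add_sub_cancel_right]))
    rw [if_neg (fun h => hws (by rw [h, add_sub_cancel_right])), add_sub_cancel_right, h0,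
      zero_pow (by positivity), mul_zero, add_zero] at h1
    rcases mul_eq_zero.1 h1 with h2 | h2
    · exact absurd h2 hi
    · exact pow_eq_zero_iff (by positivity) |>.1 h2

omit [Fintype F] [DecidableEq F] in
theorem support_single (hm : 1 ≤ m) (a : ZMod (2 * m + 1) → F)
    (rel : ∀ u v : ZMod (2 * m + 1), u + sh m ≠ v → v + sh m ≠ u →
      (if u = v then a u * a (u - sh m) ^ 2 ^ (m + 1)
        else a u * a (v - sh m) ^ 2 ^ (m + 1) + a v * a (u - sh m) ^ 2 ^ (m + 1)) = 0)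
    {i : ZMod (2 * m + 1)} (hi : a i ≠ 0) {w : ZMod (2 * m + 1)} (hw : w ≠ i) : a w = 0 := by
  by_cases hw2 : w = i - 1
  · by_contra hne
    have h1 := support_step hm a rel hne (Ne.symm hw) (by
      rw [hw2]
      intro h
      apply zmod_two_ne_zero hm
      linear_combination h)
    exact hi h1
  · exact support_step hm a rel hi hw hw2

omit [DecidableEq F] in
/-- **pseudo-isometries of the norm form are semilinear**. -/
theorem pseudo_isometry (hm : 1 ≤ m) (hF : Fintype.card F = 2 ^ (2 * m + 1)) (A B : F →+ F)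
    (hA : Function.Injective A)
    (h : ∀ x, B (x * x ^ 2 ^ (m + 1)) = A x * (A x) ^ 2 ^ (m + 1)) :
    ∃ (κ : F ≃+* F) (lam : F), lam ≠ 0 ∧ ∀ x, A x = lam * κ x := by
  classical
  obtain ⟨a, ha⟩ := exists_lin (n := 2 * m + 1) (by omega) hF A
  obtain ⟨b, hb⟩ := exists_lin (n := 2 * m + 1) (by omega) hF B
  have rel : ∀ u v : ZMod (2 * m + 1), u + sh m ≠ v → v + sh m ≠ u →
      (if u = v then a u * a (u - sh m) ^ 2 ^ (m + 1)
        else a u * a (v - sh m) ^ 2 ^ (m + 1) + a v * a (u - sh m) ^ 2 ^ (m + 1)) = 0 :=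
    fun u v h1 h2 => coeff_rel hm hF a b (fun x => by rw [← hb, ← ha]; exact h x) h1 h2
  have hne : ∃ i, a i ≠ 0 := by
    by_contra hall
    push Not at hall
    have h1 : A 1 = 0 := by
      rw [ha]
      unfold lin
      simp [hall]
    exact one_ne_zero (hA (h1.trans (map_zero A).symm))
  obtain ⟨i, hi⟩ := hne
  have hAx : ∀ x, A x = a i * x ^ 2 ^ i.val := by
    intro x
    rw [ha]
    unfold lin
    rw [Finset.sum_eq_single i (fun w _ hw => by rw [support_single hm a rel hi hw, zero_mul])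
      (fun h => absurd (Finset.mem_univ i) h)]
  have : CharP F 2 :=
    CharTwo.of_one_ne_zero_of_two_eq_zero one_ne_zero (char_two (by omega) hF)
  have : Fact (Nat.Prime 2) := ⟨Nat.prime_two⟩
  let κ₀ : F →+* F := iterateFrobenius F 2 i.val
  have hbij : Function.Bijective κ₀ :=
    ⟨κ₀.injective, Finite.injective_iff_surjective.1 κ₀.injective⟩
  exact ⟨RingEquiv.ofBijective κ₀ hbij, a i, hi, fun x => by rw [hAx]; rfl⟩

end main

end Cfsg.Agent.Lib.Helper13.SzAut
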