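/-
helper13: the model `SP σ` of a Sylow 2-subgroup of a Suzuki group (pairs `(a, b)` with
`(a,b)(c,d) = (a + c, b + d + σ(a) c)`), and the maps induced by its automorphisms on
`Q / Z(Q)` and `Z(Q)` (towards S2556).
-/
import Mathlib
import Cfsg.Agent.Lib.Helper13.SzAutB

set_option autoImplicit false

namespace Cfsg.Agent.Lib.Helper13.SzAut

/-- the model of a Sylow 2-subgroup of a Suzuki group. -/
@[ext] structure SP {F : Type*} [Field F] (σ : F →+* F) where
  a : F
  b : F

/-- the hypotheses on the Tits endomorphism. -/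
structure Tits {F : Type*} [Field F] (σ : F →+* F) : Prop where
  two : (2 : F) = 0
  sq : ∀ x, σ (σ x) = x ^ 2

namespace SP

variable {F : Type*} [Field F] {σ : F →+* F}

instance : Mul (SP σ) := ⟨fun x y => ⟨x.a + y.a, x.b + y.b + σ x.a * y.a⟩⟩
instance : One (SP σ) := ⟨⟨0, 0⟩⟩
instance : Inv (SP σ) := ⟨fun x => ⟨-x.a, -x.b + σ x.a * x.a⟩⟩

@[simp] theorem mul_a (x y : SP σ) : (x * y).a = x.a + y.a := rfl
@[simp] theorem mul_b (x y : SP σ) : (x * y).b = x.b + y.b + σ x.a * y.a := rfl
@[simp] theorem one_a : (1 : SP σ).a = 0 := rfl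
@[simp] theorem one_b : (1 : SP σ).b = 0 := rfl
@[simp] theorem inv_a (x : SP σ) : x⁻¹.a = -x.a := rfl
@[simp] theorem inv_b (x : SP σ) : x⁻¹.b = -x.b + σ x.a * x.a := rfl

instance : Group (SP σ) :=
  Group.ofLeftAxioms
    (fun x y z => by
      ext
      · simp only [mul_a]; ring
      · simp only [mul_a, mul_b, map_add]; ring)
    (fun x => by
      ext
      · simp only [mul_a, one_a, zero_add]
      · simp only [mul_b, one_a, one_b, map_zero, zero_mul, zero_add, add_zero])
    (fun x => by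
      ext
      · simp only [mul_a, inv_a, one_a, neg_add_cancel]
      · simp only [mul_b, inv_a, inv_b, one_b, map_neg]; ring)

/-- the element `(a, 0)`. -/
def la (a : F) : SP σ := ⟨a, 0⟩

/-- the central element `(0, b)`. -/
def zc (b : F) : SP σ := ⟨0, b⟩

@[simp] theorem la_a (a : F) : (la a : SP σ).a = a := rfl
@[simp] theorem la_b (a : F) : (la a : SP σ).b = 0 := rfl
@[simp] theorem zc_a (b : F) : (zc b : SP σ).a = 0 := rfl
@[simp] theorem zc_b (b : F) : (zc b : SP σ).b = b := rfl

theorem decomp (g : SP σ) : g = la g.a * zc g.b := by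
  ext
  · simp only [mul_a, la_a, zc_a, add_zero]
  · simp only [mul_b, la_a, la_b, zc_a, zc_b, mul_zero, add_zero, zero_add]

theorem zc_mul_zc (b b' : F) : (zc b * zc b' : SP σ) = zc (b + b') := by
  ext
  · simp only [mul_a, zc_a, add_zero]
  · simp only [mul_b, zc_a, zc_b, mul_zero, add_zero]

end SP

section tits

variable {F : Type*} [Field F] {σ : F →+* F}

theorem Tits.add_self (h : Tits σ) (x : F) : x + x = 0 := by
  rw [← two_mul, h.two, zero_mul]

theorem Tits.neg_eq (h : Tits σ) (x : F) : -x = x :=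
  neg_eq_of_add_eq_zero_left (h.add_self x)

theorem Tits.eq_of_add_eq_zero (h : Tits σ) {x y : F} (hxy : x + y = 0) : x = y := by
  rw [← h.neg_eq y]
  exact eq_neg_of_add_eq_zero_left hxy

theorem Tits.norm_eq_zero (_h : Tits σ) {a : F} (ha : σ a * a = 0) : a = 0 := by
  rcases mul_eq_zero.1 ha with h1 | h1
  · exact (map_eq_zero σ).1 h1
  · exact h1

/-- `a ↦ σ(a) a` is injective. -/
theorem Tits.norm_inj (h : Tits σ) {a a' : F} (haa : σ a * a = σ a' * a') : a = a' := by
  by_cases ha' : a' = 0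
  · subst ha'
    rw [map_zero, zero_mul] at haa
    exact h.norm_eq_zero haa
  · have hs' : σ a' ≠ 0 := fun h0 => ha' ((map_eq_zero _).mp h0)
    set t := a / a' with ht
    have h1 : σ t * t = 1 := by
      rw [ht, map_div₀]
      field_simp
      exact haa
    have ht0 : t ≠ 0 := by
      intro h0
      rw [h0, mul_zero] at h1
      exact zero_ne_one h1
    have h3 : σ t = t⁻¹ := eq_inv_of_mul_eq_one_left h1
    have h4 : t ^ 2 = t := by
      rw [← h.sq t, h3, map_inv₀, h3, inv_inv]
    have h5 : t = 1 := by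
      have : t * (t - 1) = 0 := by ring_nf; rw [h4]; ring
      rcases mul_eq_zero.mp this with h6 | h6
      · exact absurd h6 ht0
      · exact sub_eq_zero.mp h6
    rw [ht] at h5
    exact (div_eq_one_iff_eq ha').mp h5

theorem Tits.norm_surj (h : Tits σ) [Finite F] (c : F) : ∃ a : F, σ a * a = c :=
  Finite.injective_iff_surjective.1 (fun _ _ haa => h.norm_inj haa) c

theorem mul_self_eq (h : Tits σ) (g : SP σ) : g * g = SP.zc (σ g.a * g.a) := by
  ext
  · simp only [SP.mul_a, SP.zc_a, h.add_self]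
  · simp only [SP.mul_b, SP.zc_b, h.add_self, zero_add]

theorem mul_self_eq_one_iff (h : Tits σ) (g : SP σ) : g * g = 1 ↔ g.a = 0 := by
  rw [mul_self_eq h]
  constructor
  · intro h1
    have h2 := congrArg SP.b h1
    simp only [SP.zc_b, SP.one_b] at h2
    exact h.norm_eq_zero h2
  · intro h1
    rw [h1, map_zero, zero_mul]
    rfl

variable (h : Tits σ)
include h

theorem phi_a_zero (φ : MulAut (SP σ)) {g : SP σ} (hg : g.a = 0) : (φ g).a = 0 := by
  rw [← mul_self_eq_one_iff h] at hg ⊢
  rw [← map_mul, hg, map_one]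

omit h in
/-- the map induced by an automorphism on the first coordinates. -/
def tauOf (φ : MulAut (SP σ)) (a : F) : F := (φ (SP.la a)).a

omit h in
/-- the map induced by an automorphism on the centre. -/
def rhoOf (φ : MulAut (SP σ)) (b : F) : F := (φ (SP.zc b)).b

theorem phi_zc (φ : MulAut (SP σ)) (b : F) : φ (SP.zc b) = SP.zc (rhoOf φ b) := by
  ext
  · exact phi_a_zero h φ rfl
  · rfl

theorem phi_a (φ : MulAut (SP σ)) (g : SP σ) : (φ g).a = tauOf φ g.a := by
  conv_lhs => rw [SP.decomp g, map_mul, SP.mul_a, phi_a_zero h φ (SP.zc_a g.b), add_zero]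
  rfl

theorem tauOf_add (φ : MulAut (SP σ)) (a a' : F) :
    tauOf φ (a + a') = tauOf φ a + tauOf φ a' := by
  have h1 := phi_a h φ (SP.la a * SP.la a')
  rw [map_mul, SP.mul_a, SP.mul_a, SP.la_a, SP.la_a] at h1
  exact h1.symm

theorem rhoOf_add (φ : MulAut (SP σ)) (b b' : F) :
    rhoOf φ (b + b') = rhoOf φ b + rhoOf φ b' := by
  have h1 : φ (SP.zc (b + b')) = φ (SP.zc b) * φ (SP.zc b') := by
    rw [← map_mul, SP.zc_mul_zc]
  have h2 := congrArg SP.b h1
  rw [SP.mul_b, phi_a_zero h φ (SP.zc_a b), map_zero, zero_mul, add_zero] at h2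
  exact h2

theorem rho_norm (φ : MulAut (SP σ)) (a : F) :
    rhoOf φ (σ a * a) = σ (tauOf φ a) * tauOf φ a := by
  have h1 : φ (SP.la a * SP.la a) = φ (SP.la a) * φ (SP.la a) := map_mul _ _ _
  rw [mul_self_eq h, mul_self_eq h, SP.la_a] at h1
  exact congrArg SP.b h1

theorem tauOf_mul (φ φ' : MulAut (SP σ)) (a : F) :
    tauOf (φ * φ') a = tauOf φ (tauOf φ' a) := by
  have h1 : tauOf (φ * φ') a = (φ (φ' (SP.la a))).a := rfl
  rw [h1, phi_a h φ]
  rfl

omit h in
theorem tauOf_one (a : F) : tauOf (1 : MulAut (SP σ)) a = a := rfl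

theorem tauOf_inv_apply (φ : MulAut (SP σ)) (a : F) : tauOf φ⁻¹ (tauOf φ a) = a := by
  rw [← tauOf_mul h, inv_mul_cancel, tauOf_one]

theorem tauOf_apply_inv (φ : MulAut (SP σ)) (a : F) : tauOf φ (tauOf φ⁻¹ a) = a := by
  rw [← tauOf_mul h, mul_inv_cancel, tauOf_one]

theorem tauOf_injective (φ : MulAut (SP σ)) : Function.Injective (tauOf φ) :=
  Function.LeftInverse.injective (tauOf_inv_apply h φ)

/-- the permutation of the first coordinates induced by an automorphism. -/
def tauPerm (φ : MulAut (SP σ)) : Equiv.Perm F where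
  toFun := tauOf φ
  invFun := tauOf φ⁻¹
  left_inv := tauOf_inv_apply h φ
  right_inv := tauOf_apply_inv h φ

/-- the action on first coordinates as a homomorphism. -/
def tauHom : MulAut (SP σ) →* Equiv.Perm F where
  toFun := tauPerm h
  map_one' := by
    ext a
    exact tauOf_one (σ := σ) a
  map_mul' φ φ' := by
    ext a
    exact tauOf_mul h φ φ' a

theorem tauHom_apply (φ : MulAut (SP σ)) (a : F) : tauHom h φ a = tauOf φ a := rfl

theorem mem_ker_tauHom (φ : MulAut (SP σ)) : φ ∈ (tauHom h).ker ↔ ∀ a, tauOf φ a = a := by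
  rw [MonoidHom.mem_ker]
  constructor
  · intro hφ a
    rw [← tauHom_apply h, hφ]
    rfl
  · intro hφ
    ext a
    exact hφ a

end tits

end Cfsg.Agent.Lib.Helper13.SzAut
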