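/-
helper13: the automorphism group of the model `SP σ` of a Sylow 2-subgroup of a Suzuki group:
central automorphisms, semilinear automorphisms, the order, and the largest normal 2-subgroup
(towards S2556).
-/
import Mathlib
import Cfsg.Prelude.Def_Transfer
import Cfsg.Agent.Lib.Helper16.PCore
import Cfsg.Agent.Lib.Helper13.SzAutC

set_option autoImplicit false

namespace Cfsg.Agent.Lib.Helper13.SzAut

section central

variable {F : Type*} [Field F] {σ : F →+* F} (h : Tits σ)
include h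

theorem rhoOf_eq_self [Finite F] (φ : MulAut (SP σ)) (hφ : ∀ a, tauOf φ a = a) (b : F) :
    rhoOf φ b = b := by
  obtain ⟨a, rfl⟩ := h.norm_surj b
  rw [rho_norm h, hφ]

theorem phi_la_a (φ : MulAut (SP σ)) (hφ : ∀ a, tauOf φ a = a) (a : F) :
    (φ (SP.la a)).a = a := (phi_a h φ _).trans (hφ a)

/-- the additive map attached to a central automorphism. -/
def zetaOf [Finite F] (φ : MulAut (SP σ)) (hφ : ∀ a, tauOf φ a = a) : F →+ F where
  toFun a := (φ (SP.la a)).b
  map_zero' := by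
    have h0 : (SP.la 0 : SP σ) = 1 := rfl
    rw [h0, map_one]
    rfl
  map_add' a a' := by
    have h1 : φ (SP.la a * SP.la a') = φ (SP.la a) * φ (SP.la a') := map_mul _ _ _
    have h2 : (SP.la a * SP.la a' : SP σ) = SP.la (a + a') * SP.zc (σ a * a') := by
      ext
      · simp only [SP.mul_a, SP.la_a, SP.zc_a, add_zero]
      · simp only [SP.mul_b, SP.la_a, SP.la_b, SP.zc_a, SP.zc_b, mul_zero, add_zero, zero_add]
    rw [h2, map_mul, phi_zc h, rhoOf_eq_self h φ hφ] at h1
    have h3 := congrArg SP.b h1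
    simp only [SP.mul_b, SP.zc_a, SP.zc_b, mul_zero, add_zero] at h3
    rw [phi_la_a h φ hφ a, phi_la_a h φ hφ a'] at h3
    exact add_right_cancel h3

theorem zetaOf_apply [Finite F] (φ : MulAut (SP σ)) (hφ : ∀ a, tauOf φ a = a) (a : F) :
    zetaOf h φ hφ a = (φ (SP.la a)).b := rfl

theorem phi_eq_of_ker [Finite F] (φ : MulAut (SP σ)) (hφ : ∀ a, tauOf φ a = a) (g : SP σ) :
    φ g = ⟨g.a, g.b + zetaOf h φ hφ g.a⟩ := by
  conv_lhs => rw [SP.decomp g, map_mul, phi_zc h, rhoOf_eq_self h φ hφ]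
  ext
  · simp only [SP.mul_a, SP.zc_a, add_zero]
    exact phi_la_a h φ hφ _
  · simp only [SP.mul_b, SP.zc_a, SP.zc_b, mul_zero, add_zero]
    rw [add_comm]
    rfl

/-- the central automorphism attached to an additive map. -/
def centralAut (f : F →+ F) : MulAut (SP σ) where
  toFun g := ⟨g.a, g.b + f g.a⟩
  invFun g := ⟨g.a, g.b + f g.a⟩
  left_inv g := by
    ext
    · rfl
    · show g.b + f g.a + f g.a = g.b
      rw [add_assoc, h.add_self, add_zero]
  right_inv g := by
    ext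
    · rfl
    · show g.b + f g.a + f g.a = g.b
      rw [add_assoc, h.add_self, add_zero]
  map_mul' g g' := by
    ext
    · rfl
    · show g.b + g'.b + σ g.a * g'.a + f (g.a + g'.a) =
        (g.b + f g.a) + (g'.b + f g'.a) + σ g.a * g'.a
      rw [map_add]
      ring

theorem centralAut_apply (f : F →+ F) (g : SP σ) :
    centralAut h f g = ⟨g.a, g.b + f g.a⟩ := rfl

theorem tauOf_centralAut (f : F →+ F) (a : F) : tauOf (centralAut h f) a = a := rfl

/-- the central automorphisms are in bijection with the additive maps. -/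
def kerEquiv [Finite F] : (tauHom h).ker ≃ (F →+ F) where
  toFun φ := zetaOf h φ.1 ((mem_ker_tauHom h φ.1).1 φ.2)
  invFun f := ⟨centralAut h f, (mem_ker_tauHom h _).2 (tauOf_centralAut h f)⟩
  left_inv φ := by
    apply Subtype.ext
    ext g : 1
    show centralAut h (zetaOf h φ.1 _) g = φ.1 g
    rw [phi_eq_of_ker h φ.1 ((mem_ker_tauHom h φ.1).1 φ.2) g, centralAut_apply]
  right_inv f := by
    ext a
    show (centralAut h f (SP.la a)).b = f a
    rw [centralAut_apply]
    show (0 : F) + f a = f a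
    rw [zero_add]

theorem card_ker_tauHom [Finite F] {n : ℕ} (hF : Nat.card F = 2 ^ n) :
    Nat.card (tauHom h).ker = 2 ^ (n * n) := by
  rw [Nat.card_congr (kerEquiv h), card_addHom_two (fun x => h.add_self x)
    (fun x => h.add_self x) hF hF]

theorem sq_of_mem_ker [Finite F] (φ : MulAut (SP σ)) (hφ : φ ∈ (tauHom h).ker) : φ ^ 2 = 1 := by
  have h1 := (mem_ker_tauHom h φ).1 hφ
  ext g : 1
  rw [sq]
  show φ (φ g) = g
  rw [phi_eq_of_ker h φ h1 g, phi_eq_of_ker h φ h1]
  ext
  · rfl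
  · show g.b + zetaOf h φ h1 g.a + zetaOf h φ h1 g.a = g.b
    rw [add_assoc, h.add_self, add_zero]

theorem isPGroup_ker [Finite F] : IsPGroup 2 (tauHom h).ker := by
  intro φ
  refine ⟨1, ?_⟩
  apply Subtype.ext
  rw [pow_one, Subgroup.coe_pow, Subgroup.coe_one]
  exact sq_of_mem_ker h φ.1 φ.2

end central

/-- a subgroup of exponent two is commutative. -/
theorem isMulCommutative_of_sq' {G : Type*} [Group G] (H : Subgroup G)
    (hH : ∀ a ∈ H, a ^ 2 = 1) : IsMulCommutative H := by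
  refine ⟨⟨fun a b => ?_⟩⟩
  apply Subtype.ext
  rw [Subgroup.coe_mul, Subgroup.coe_mul]
  have hinv : ∀ x ∈ H, x⁻¹ = x := fun x hx => by
    rw [inv_eq_iff_mul_eq_one, ← sq]
    exact hH x hx
  calc (a : G) * b = ((a : G) * b)⁻¹ := (hinv _ (H.mul_mem a.2 b.2)).symm
    _ = (b : G)⁻¹ * (a : G)⁻¹ := mul_inv_rev _ _
    _ = b * a := by rw [hinv _ a.2, hinv _ b.2]

section semilinear

variable {F : Type*} [Field F] {σ : F →+* F}

/-- the semilinear endomorphism `(a, b) ↦ (l κ a, l σ(l) κ b)`. -/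
def semiHom (l : F) (κ : F →+* F) (hκ : ∀ x, κ (σ x) = σ (κ x)) : SP σ →* SP σ where
  toFun g := ⟨l * κ g.a, l * σ l * κ g.b⟩
  map_one' := by
    ext
    · show l * κ 0 = 0
      rw [map_zero, mul_zero]
    · show l * σ l * κ 0 = 0
      rw [map_zero, mul_zero]
  map_mul' g g' := by
    ext
    · show l * κ (g.a + g'.a) = l * κ g.a + l * κ g'.a
      rw [map_add, mul_add]
    · show l * σ l * κ (g.b + g'.b + σ g.a * g'.a) =
        l * σ l * κ g.b + l * σ l * κ g'.b + σ (l * κ g.a) * (l * κ g'.a)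
      rw [map_add, map_add, map_mul, map_mul, hκ]
      ring

theorem semiHom_a (l : F) (κ : F →+* F) (hκ : ∀ x, κ (σ x) = σ (κ x)) (g : SP σ) :
    (semiHom l κ hκ g).a = l * κ g.a := rfl

theorem semiHom_b (l : F) (κ : F →+* F) (hκ : ∀ x, κ (σ x) = σ (κ x)) (g : SP σ) :
    (semiHom l κ hκ g).b = l * σ l * κ g.b := rfl

theorem semiHom_bijective [Finite F] (l : F) (hl : l ≠ 0) (κ : F →+* F)
    (hκ : ∀ x, κ (σ x) = σ (κ x)) : Function.Bijective (semiHom l κ hκ) := by
  have hinj : Function.Injective (semiHom l κ hκ) := by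
    intro g g' hgg
    have ha := congrArg SP.a hgg
    have hb := congrArg SP.b hgg
    simp only [semiHom_a, semiHom_b] at ha hb
    have hσl : σ l ≠ 0 := fun h0 => hl ((map_eq_zero σ).1 h0)
    ext
    · exact κ.injective (mul_left_cancel₀ hl ha)
    · exact κ.injective (mul_left_cancel₀ (mul_ne_zero hl hσl) hb)
  have : Finite (SP σ) := Finite.of_injective (fun g : SP σ => (g.a, g.b))
    (fun g g' hgg => SP.ext (congrArg Prod.fst hgg) (congrArg Prod.snd hgg))
  exact ⟨hinj, Finite.injective_iff_surjective.1 hinj⟩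

/-- the semilinear automorphisms. -/
noncomputable def semiAut [Finite F] (l : F) (hl : l ≠ 0) (κ : F →+* F)
    (hκ : ∀ x, κ (σ x) = σ (κ x)) : MulAut (SP σ) :=
  MulEquiv.ofBijective (semiHom l κ hκ) (semiHom_bijective l hl κ hκ)

theorem tauOf_semiAut [Finite F] (l : F) (hl : l ≠ 0) (κ : F →+* F)
    (hκ : ∀ x, κ (σ x) = σ (κ x)) (a : F) : tauOf (semiAut l hl κ hκ) a = l * κ a := rfl

theorem commutes_pow' {e : ℕ} (hσ : ∀ x, σ x = x ^ e) (κ : F →+* F) (x : F) :
    κ (σ x) = σ (κ x) := by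
  rw [hσ, hσ, map_pow]

end semilinear

section order

variable {F : Type*} [Field F] [Fintype F] {σ : F →+* F} {m : ℕ}

theorem tits_of_pow (hF : Fintype.card F = 2 ^ (2 * m + 1)) (hσ : ∀ x, σ x = x ^ 2 ^ (m + 1)) :
    Tits σ := by
  classical
  refine ⟨char_two (by omega) hF, fun x => ?_⟩
  rw [hσ, hσ, ← pow_mul]
  have : 2 ^ (m + 1) * 2 ^ (m + 1) = Fintype.card F * 2 := by
    rw [hF]
    ring
  rw [this, pow_mul, FiniteField.pow_card]

variable (h : Tits σ)
include h

/-- every automorphism acts on the first coordinates as a scalar times a field automorphism. -/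
theorem exists_semilinear (hm : 1 ≤ m) (hF : Fintype.card F = 2 ^ (2 * m + 1))
    (hσ : ∀ x, σ x = x ^ 2 ^ (m + 1)) (φ : MulAut (SP σ)) :
    ∃ (κ : F ≃+* F) (lam : F), lam ≠ 0 ∧ ∀ x, tauOf φ x = lam * κ x := by
  have hrel : ∀ x, (AddMonoidHom.mk' (rhoOf φ) (rhoOf_add h φ)) (x * x ^ 2 ^ (m + 1)) =
      (AddMonoidHom.mk' (tauOf φ) (tauOf_add h φ)) x *
        ((AddMonoidHom.mk' (tauOf φ) (tauOf_add h φ)) x) ^ 2 ^ (m + 1) := by
    intro x
    show rhoOf φ (x * x ^ 2 ^ (m + 1)) = tauOf φ x * (tauOf φ x) ^ 2 ^ (m + 1)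
    rw [← hσ, ← hσ, mul_comm x, rho_norm h, mul_comm]
  exact pseudo_isometry hm hF (AddMonoidHom.mk' (tauOf φ) (tauOf_add h φ))
    (AddMonoidHom.mk' (rhoOf φ) (rhoOf_add h φ)) (tauOf_injective h φ) hrel

/-- the image of `tauHom` is parametrised by the pairs `(l, κ)`. -/
theorem card_range_tauHom (hm : 1 ≤ m) (hF : Fintype.card F = 2 ^ (2 * m + 1))
    (hσ : ∀ x, σ x = x ^ 2 ^ (m + 1)) :
    Nat.card (tauHom h).range = Nat.card (Fˣ × (F ≃+* F)) := by
  symm
  apply Nat.card_congr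
  refine Equiv.ofBijective (fun p => ⟨tauHom h (semiAut (p.1 : F) p.1.ne_zero
    (p.2 : F →+* F) (commutes_pow' hσ _)), MonoidHom.mem_range.2 ⟨_, rfl⟩⟩) ⟨?_, ?_⟩
  · rintro ⟨l, ψ⟩ ⟨l', ψ'⟩ hp
    have hp' : ∀ a, (l : F) * ψ a = (l' : F) * ψ' a := by
      intro a
      have h1 := congrArg (fun x : (tauHom h).range => (x : Equiv.Perm F) a) hp
      simp only [tauHom_apply, tauOf_semiAut] at h1
      exact h1
    have hl : l = l' := by
      apply Units.ext
      have := hp' 1
      rwa [map_one, map_one, mul_one, mul_one] at this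
    subst hl
    have hψ : ψ = ψ' := by
      ext a
      exact mul_left_cancel₀ l.ne_zero (hp' a)
    rw [hψ]
  · rintro ⟨π, φ, rfl⟩
    obtain ⟨κ, lam, hlam, hκ⟩ := exists_semilinear h hm hF hσ φ
    refine ⟨⟨Units.mk0 lam hlam, κ⟩, ?_⟩
    apply Subtype.ext
    ext a
    show tauHom h (semiAut _ _ _ _) a = tauHom h φ a
    rw [tauHom_apply, tauHom_apply, tauOf_semiAut, hκ a]
    rfl

omit [Fintype F] h in
/-- a field with `2 ^ n` elements has `n` automorphisms. -/
theorem card_ringEquiv' [Finite F] (h2 : (2 : F) = 0) {n : ℕ} (hF : Nat.card F = 2 ^ n) :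
    Nat.card (F ≃+* F) = n := by
  have : CharP F 2 := CharTwo.of_one_ne_zero_of_two_eq_zero one_ne_zero h2
  let : Algebra (ZMod 2) F := ZMod.algebra F 2
  have : Fintype F := Fintype.ofFinite F
  have hfin : Module.finrank (ZMod 2) F = n := by
    have h3 := Module.card_eq_pow_finrank (K := ZMod 2) (V := F)
    rw [← Nat.card_eq_fintype_card, hF, ZMod.card] at h3
    exact (Nat.pow_right_injective (le_refl 2) h3).symm
  have e1 : (F ≃+* F) ≃ (F ≃ₐ[ZMod 2] F) :=
    { toFun := fun ψ => AlgEquiv.ofRingEquiv (f := ψ) (fun r => by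
        have : (ψ : F →+* F).comp (algebraMap (ZMod 2) F) = algebraMap (ZMod 2) F :=
          Subsingleton.elim _ _
        exact RingHom.congr_fun this r)
      invFun := fun ψ => ψ.toRingEquiv
      left_inv := fun ψ => by ext; rfl
      right_inv := fun ψ => by ext; rfl }
  rw [Nat.card_congr e1, ← Nat.card_congr (Equiv.ofBijective _
    (FiniteField.bijective_frobeniusAlgEquivOfAlgebraic_pow (ZMod 2) F)), Nat.card_fin, hfin]

omit h in
theorem card_units_field' {q : ℕ} (hF : Fintype.card F = q) : Nat.card Fˣ = q - 1 := by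
  classical
  rw [Nat.card_eq_fintype_card, Fintype.card_units, hF]

/-- the order of the automorphism group of the model group. -/
theorem card_mulAut (hm : 1 ≤ m) (hF : Fintype.card F = 2 ^ (2 * m + 1))
    (hσ : ∀ x, σ x = x ^ 2 ^ (m + 1)) :
    Nat.card (MulAut (SP σ)) =
      2 ^ ((2 * m + 1) ^ 2) * ((2 * m + 1) * (2 ^ (2 * m + 1) - 1)) := by
  have hc : Nat.card F = 2 ^ (2 * m + 1) := by rw [Nat.card_eq_fintype_card, hF]
  have h1 := Subgroup.card_eq_card_quotient_mul_card_subgroup (tauHom h).ker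
  rw [Nat.card_congr (QuotientGroup.quotientKerEquivRange (tauHom h)).toEquiv,
    card_range_tauHom h hm hF hσ, Nat.card_prod, card_units_field' hF,
    card_ringEquiv' h.two hc, card_ker_tauHom h hc] at h1
  rw [h1, sq]
  ring

/-- the largest normal 2-subgroup of the automorphism group. -/
theorem pCore_mulAut (hm : 1 ≤ m) (hF : Fintype.card F = 2 ^ (2 * m + 1))
    (hσ : ∀ x, σ x = x ^ 2 ^ (m + 1)) :
    Cfsg.pCore 2 (MulAut (SP σ)) = (tauHom h).ker := by
  have : Fact (Nat.Prime 2) := ⟨Nat.prime_two⟩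
  have hc : Nat.card F = 2 ^ (2 * m + 1) := by rw [Nat.card_eq_fintype_card, hF]
  apply le_antisymm
  · intro φ hφ
    rw [MonoidHom.mem_ker]
    -- the order of `φ` is a power of two
    obtain ⟨k, hk⟩ := (Cfsg.Agent.Lib.Helper16.pCore_isPGroup (G := MulAut (SP σ)) (p := 2))
      ⟨φ, hφ⟩
    have hk' : φ ^ 2 ^ k = 1 := by
      have := congrArg Subtype.val hk
      rwa [Subgroup.coe_pow, Subgroup.coe_one] at this
    have h1 : orderOf (tauHom h φ) ∣ 2 ^ k := by
      apply orderOf_dvd_of_pow_eq_one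
      rw [← map_pow, hk', map_one]
    -- the order of the image divides the odd order of the range
    have hfin : Finite (tauHom h).range := by
      apply Nat.finite_of_card_ne_zero
      rw [card_range_tauHom h hm hF hσ, Nat.card_prod, card_units_field' hF,
        card_ringEquiv' h.two hc]
      have : 2 ≤ 2 ^ (2 * m + 1) := by
        calc 2 = 2 ^ 1 := by norm_num
          _ ≤ 2 ^ (2 * m + 1) := Nat.pow_le_pow_right (by norm_num) (by omega)
      have h3 : 0 < 2 ^ (2 * m + 1) - 1 := by omega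
      positivity
    have h2 : orderOf (tauHom h φ) ∣ (2 ^ (2 * m + 1) - 1) * (2 * m + 1) := by
      have h3 : orderOf (⟨tauHom h φ, MonoidHom.mem_range.2 ⟨φ, rfl⟩⟩ : (tauHom h).range) ∣
          Nat.card (tauHom h).range := orderOf_dvd_natCard _
      rw [card_range_tauHom h hm hF hσ, Nat.card_prod, card_units_field' hF,
        card_ringEquiv' h.two hc] at h3
      rwa [← Subgroup.orderOf_coe] at h3
    have hodd : Nat.Coprime (2 ^ k) ((2 ^ (2 * m + 1) - 1) * (2 * m + 1)) := by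
      apply Nat.Coprime.pow_left
      rw [Nat.coprime_two_left]
      apply Odd.mul
      · have : 2 ^ (2 * m + 1) = 2 * 2 ^ (2 * m) := by rw [pow_succ]; ring
        have p0 : 0 < 2 ^ (2 * m) := by positivity
        exact ⟨2 ^ (2 * m) - 1, by omega⟩
      · exact ⟨m, rfl⟩
    have h4 : orderOf (tauHom h φ) ∣ 1 := by
      rw [← Nat.Coprime.gcd_eq_one hodd]
      exact Nat.dvd_gcd h1 h2
    exact orderOf_eq_one_iff.1 (Nat.dvd_one.1 h4)
  · exact Cfsg.Agent.Lib.Helper16.le_pCore inferInstance (isPGroup_ker h)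

omit h in
/-- the structure of the automorphism group of any group isomorphic to the model group. -/
theorem aut_structure_of_equiv (hm : 1 ≤ m) (hF : Fintype.card F = 2 ^ (2 * m + 1))
    (hσ : ∀ x, σ x = x ^ 2 ^ (m + 1)) {S : Type*} [Group S] (e : S ≃* SP σ) :
    Cfsg.IsElementaryAbelian 2 (Cfsg.pCore 2 (MulAut S)) ∧
      Nat.card ↥(Cfsg.pCore 2 (MulAut S)) = 2 ^ ((2 * m + 1) ^ 2) ∧
      Nat.card (MulAut S) = 2 ^ ((2 * m + 1) ^ 2) * ((2 * m + 1) * (2 ^ (2 * m + 1) - 1)) := by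
  have : Fact (Nat.Prime 2) := ⟨Nat.prime_two⟩
  have h := tits_of_pow hF hσ
  have hc : Nat.card F = 2 ^ (2 * m + 1) := by rw [Nat.card_eq_fintype_card, hF]
  have hmap := Cfsg.Agent.Lib.Helper16.pCore_map_equiv (p := 2) (MulAut.congr e)
  rw [pCore_mulAut h hm hF hσ] at hmap
  have hsq : ∀ a ∈ Cfsg.pCore 2 (MulAut S), a ^ 2 = 1 := by
    intro a ha
    have h1 : (MulAut.congr e) a ∈ (tauHom h).ker := by
      rw [← hmap]
      exact Subgroup.mem_map_of_mem _ ha
    have h2 := sq_of_mem_ker h _ h1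
    rw [← map_pow] at h2
    exact (MulAut.congr e).injective (h2.trans (map_one _).symm)
  refine ⟨⟨isMulCommutative_of_sq' _ hsq, hsq⟩, ?_, ?_⟩
  · rw [Nat.card_congr ((Cfsg.pCore 2 (MulAut S)).equivMapOfInjective
      (MulAut.congr e).toMonoidHom (MulAut.congr e).injective).toEquiv, hmap,
      card_ker_tauHom h hc, sq]
  · rw [Nat.card_congr (MulAut.congr e).toEquiv]
    exact card_mulAut h hm hF hσ

end order

end Cfsg.Agent.Lib.Helper13.SzAut
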