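/-
helper13: every Sylow 2-subgroup of `Cfsg.Lie.Sz F (2 ^ (m + 1))` is isomorphic to the model
group `SP σ` (towards S2556).
-/
import Cfsg.Agent.Lib.Helper15.SuzukiLie
import Cfsg.Agent.Lib.Helper13.SzAutD

set_option autoImplicit false

namespace Cfsg.Agent.Lib.Helper13.SzAut

open Cfsg.Agent.Lib.Helper15.SuzukiOvoid Cfsg.Agent.Lib.Helper15.SuzukiSylow
  Cfsg.Agent.Lib.Helper15.SuzukiBorel Cfsg.Agent.Lib.Helper15.SuzukiLie

variable {F : Type*} [Field F] [Fintype F] {m : ℕ} (hF : Fintype.card F = 2 ^ (2 * m + 1))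

/-- the model group is isomorphic to the translation group `QS`. -/
noncomputable def modelEquiv : SP (sig (two_eq_zero hF) m) ≃* QS hF :=
  MulEquiv.ofBijective
    (MonoidHom.mk' (fun g => Tq hF g.a g.b) (fun g g' => (Tq_mul hF g.a g.b g'.a g'.b).symm))
    ⟨fun g g' hgg => by
      obtain ⟨h1, h2⟩ := Tq_inj hF hgg
      exact SP.ext h1 h2,
     fun x => by
      obtain ⟨a, b, rfl⟩ := Tq_surj hF x
      exact ⟨⟨a, b⟩, rfl⟩⟩

include hF in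
theorem sylow_equiv_model (hm : 1 ≤ m) (P : Sylow 2 ↥(Cfsg.Lie.Sz F (2 ^ (m + 1)))) :
    Nonempty (↥(P : Subgroup ↥(Cfsg.Lie.Sz F (2 ^ (m + 1)))) ≃*
      SP (sig (two_eq_zero hF) m)) := by
  let e : Cfsg.Sz F m ≃* ↥(Cfsg.Lie.Sz F (2 ^ (m + 1))) := equivLie hF hm
  obtain ⟨P', hP'⟩ : ∃ P' : Sylow 2 (Cfsg.Sz F m), (P' : Subgroup (Cfsg.Sz F m)) =
      (P : Subgroup ↥(Cfsg.Lie.Sz F (2 ^ (m + 1)))).comap (e : Cfsg.Sz F m →* _) :=
    ⟨P.comapOfInjective (e : Cfsg.Sz F m →* _) e.injective (by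
      rw [MonoidHom.range_eq_top.2 e.surjective]
      exact le_top), Sylow.coe_comapOfInjective _ _ _ _⟩
  have hmap : (P' : Subgroup (Cfsg.Sz F m)).map (e : Cfsg.Sz F m →* _) =
      (P : Subgroup ↥(Cfsg.Lie.Sz F (2 ^ (m + 1)))) := by
    rw [hP', Subgroup.map_comap_eq_self_of_surjective e.surjective]
  have e1 : (P : Subgroup ↥(Cfsg.Lie.Sz F (2 ^ (m + 1)))) ≃* (P' : Subgroup (Cfsg.Sz F m)) :=
    ((e.subgroupMap (P' : Subgroup (Cfsg.Sz F m))).trans (MulEquiv.subgroupCongr hmap)).symm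
  have e2 : (P' : Subgroup (Cfsg.Sz F m)) ≃* (QSyl hF hm : Subgroup (Cfsg.Sz F m)) :=
    Sylow.equiv P' (QSyl hF hm)
  have e3 : (QSyl hF hm : Subgroup (Cfsg.Sz F m)) ≃* QS hF :=
    Subgroup.subgroupOfEquivOfLe (QS_le hF)
  exact ⟨((e1.trans e2).trans e3).trans (modelEquiv hF).symm⟩

end Cfsg.Agent.Lib.Helper13.SzAut
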