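/-
helper13: on the field with `2 ^ (2 m + 1)` elements, `m ≥ 2`, a biadditive pairing `γ` with
`γ (N(ν) b) (ν a) = γ b a`, `N(ν) = ν ^ (1 + θ)`, `θ = 2 ^ (m + 1)`, is trivial
(towards S2111: the Schur multiplier of the Suzuki groups).
-/
import Mathlib
import Cfsg.Agent.Lib.Helper13.SzAutB

set_option autoImplicit false

namespace Cfsg.Agent.Lib.Helper13.SzAut

section powadd

variable {F : Type*} [Field F] [Fintype F] [DecidableEq F] {n : ℕ} [NeZero n]

theorem fc_lin_gen (hn : 1 ≤ n) (hF : Fintype.card F = 2 ^ n) (a : ZMod n → F) {e : ℕ}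
    (he : e ≤ 2 * (2 ^ n - 1)) :
    fc n e (lin a) = ∑ z : ZMod n, a z * (if 2 ^ z.val ≡ e [MOD 2 ^ n - 1] then 1 else 0) := by
  have h1 : fc n e (lin a) = ∑ z : ZMod n, fc n e (fun x => a z * x ^ 2 ^ z.val) :=
    fc_sum Finset.univ _ (fun z x => a z * x ^ 2 ^ z.val)
  rw [h1]
  refine Finset.sum_congr rfl (fun z _ => ?_)
  rw [fc_const_mul, fc_pow hn hF he]

/-- an additive power map is a Frobenius power. -/
theorem exists_two_pow_of_pow_add (hn : 2 ≤ n) (hF : Fintype.card F = 2 ^ n) {e : ℕ}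
    (he : e ≤ 2 * (2 ^ n - 1)) (hadd : ∀ x y : F, (x + y) ^ e = x ^ e + y ^ e) :
    ∃ z : ZMod n, 2 ^ z.val ≡ e [MOD 2 ^ n - 1] := by
  obtain ⟨a, ha⟩ := exists_lin hn hF (AddMonoidHom.mk' (fun x : F => x ^ e) hadd)
  have h1 : (fun x : F => x ^ e) = lin a := funext ha
  have h2 := congrArg (fc n e) h1
  rw [fc_pow (by omega) hF he, if_pos (Nat.ModEq.refl _), fc_lin_gen (by omega) hF a he] at h2
  by_contra hno
  push Not at hno
  rw [Finset.sum_eq_zero (fun z _ => by rw [if_neg (hno z), mul_zero])] at h2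
  exact one_ne_zero h2

end powadd

section arith

/-- `2 ^ (2 m + 1) - 2 - 2 ^ (m + 1)` is not a power of two when `m ≥ 2`. -/
theorem exp_ne_two_pow {m : ℕ} (hm : 2 ≤ m) (j : ℕ) :
    2 ^ (2 * m + 1) - 2 - 2 ^ (m + 1) ≠ 2 ^ j := by
  intro h
  have hA : 4 ≤ 2 ^ m := by
    calc 4 = 2 ^ 2 := by norm_num
      _ ≤ 2 ^ m := Nat.pow_le_pow_right (by norm_num) hm
  have h1 : 2 ^ (2 * m + 1) = 2 * (2 ^ m * 2 ^ m) := by
    rw [← pow_add, ← pow_succ']
    congr 1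
    omega
  have h2 : 2 ^ (m + 1) = 2 * 2 ^ m := by rw [pow_succ']
  have h3 : 4 * 2 ^ m ≤ 2 ^ m * 2 ^ m := Nat.mul_le_mul_right _ hA
  obtain ⟨c, hc⟩ : ∃ c, 2 ^ m = 2 * c := by
    refine ⟨2 ^ (m - 1), ?_⟩
    rw [← pow_succ']
    congr 1
    omega
  have h4 : 2 ^ m * 2 ^ m = 2 * (c * 2 ^ m) := by rw [hc]; ring
  rcases j with _ | j
  · rw [pow_zero] at h
    omega
  · rcases j with _ | j
    · rw [zero_add, pow_one] at h
      omega
    · have h5 : 2 ^ (j + 1 + 1) = 4 * 2 ^ j := by rw [pow_succ, pow_succ]; ring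
      omega

end arith

section pairing

variable {F : Type*} [Field F] [Fintype F] {m : ℕ}

theorem pow_exp_mul_norm (hm : 1 ≤ m) (hF : Fintype.card F = 2 ^ (2 * m + 1)) {x : F}
    (hx : x ≠ 0) :
    x ^ (2 ^ (2 * m + 1) - 2 - 2 ^ (m + 1)) * (x * x ^ 2 ^ (m + 1)) = 1 := by
  have h1 : 2 ^ (m + 1) + 2 ≤ 2 ^ (2 * m + 1) := by
    have h2 : 2 ^ (2 * m + 1) = 2 ^ (m + 1) * 2 ^ m := by
      rw [← pow_add]
      congr 1
      omega
    have h3 : 2 ≤ 2 ^ m := by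
      calc 2 = 2 ^ 1 := by norm_num
        _ ≤ 2 ^ m := Nat.pow_le_pow_right (by norm_num) hm
    have h4 : 4 ≤ 2 ^ (m + 1) := by
      calc 4 = 2 ^ 2 := by norm_num
        _ ≤ 2 ^ (m + 1) := Nat.pow_le_pow_right (by norm_num) (by omega)
    nlinarith
  have h5 : x ^ (2 ^ (2 * m + 1) - 2 - 2 ^ (m + 1)) * (x * x ^ 2 ^ (m + 1)) =
      x ^ (2 ^ (2 * m + 1) - 1) := by
    rw [← pow_succ', ← pow_add]
    congr 1
    have key : ∀ A B : ℕ, B + 2 ≤ A → A - 2 - B + (B + 1) = A - 1 := by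
      intro A B hAB
      omega
    exact key _ _ h1
  rw [h5, ← hF]
  exact FiniteField.pow_card_sub_one_eq_one x hx

/-- **no torus-invariant pairing between `Z(Q)` and `Q / Z(Q)`** for `q ≥ 32`. -/
theorem pairing_trivial (hm : 2 ≤ m) (hF : Fintype.card F = 2 ^ (2 * m + 1))
    {C : Type*} [Group C] (γ : F → F → C)
    (hl : ∀ b b' a, γ (b + b') a = γ b a * γ b' a)
    (hr : ∀ b a a', γ b (a + a') = γ b a * γ b a')
    (hinv : ∀ ν : F, ν ≠ 0 → ∀ b a, γ (ν * ν ^ 2 ^ (m + 1) * b) (ν * a) = γ b a) :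
    ∀ b a, γ b a = 1 := by
  classical
  have h2 : (2 : F) = 0 := char_two (by omega) hF
  have hadd2 : ∀ x : F, x + x = 0 := fun x => by rw [← two_mul, h2, zero_mul]
  set e := 2 ^ (2 * m + 1) - 2 - 2 ^ (m + 1) with he
  have hzero : ∀ a, γ 0 a = 1 := by
    intro a
    have := hl 0 0 a
    rw [add_zero] at this
    exact left_eq_mul.1 this
  have hsq : ∀ b a, γ b a * γ b a = 1 := by
    intro b a
    rw [← hl, hadd2, hzero]
  -- `γ b (ν a) = γ (ν ^ e * b) a`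
  have hmove : ∀ ν : F, ν ≠ 0 → ∀ b a, γ b (ν * a) = γ (ν ^ e * b) a := by
    intro ν hν b a
    have h1 := hinv ν hν (ν ^ e * b) a
    have h3 : ν * ν ^ 2 ^ (m + 1) * (ν ^ e * b) = b := by
      have := pow_exp_mul_norm (by omega) hF hν
      rw [← he] at this
      calc ν * ν ^ 2 ^ (m + 1) * (ν ^ e * b) = (ν ^ e * (ν * ν ^ 2 ^ (m + 1))) * b := by ring
        _ = b := by rw [this, one_mul]
    rw [h3] at h1
    exact h1
  -- a pair with nonzero defect kills the pairing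
  have hkill : ∀ lam mu : F, lam ≠ 0 → mu ≠ 0 → lam + mu ≠ 0 →
      (lam + mu) ^ e + (lam ^ e + mu ^ e) ≠ 0 → ∀ b a, γ b a = 1 := by
    intro lam mu hlam hmu hlm hc b a
    set c := (lam + mu) ^ e + (lam ^ e + mu ^ e) with hcdef
    have h1 : γ (c⁻¹ * b) ((lam + mu) * a) = γ (c⁻¹ * b) (lam * a) * γ (c⁻¹ * b) (mu * a) := by
      rw [add_mul, hr]
    rw [hmove _ hlm, hmove _ hlam, hmove _ hmu, ← hl] at h1
    have h3 : γ (c * (c⁻¹ * b)) a = 1 := by
      rw [hcdef, add_mul, hl, h1, ← add_mul, hsq]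
    rwa [← mul_assoc, mul_inv_cancel₀ hc, one_mul] at h3
  by_contra hne
  -- otherwise `x ↦ x ^ e` is additive
  have hdef : ∀ lam mu : F, lam ≠ 0 → mu ≠ 0 → lam + mu ≠ 0 →
      (lam + mu) ^ e + (lam ^ e + mu ^ e) = 0 := by
    intro lam mu hlam hmu hlm
    by_contra hc
    exact hne (hkill lam mu hlam hmu hlm hc)
  have hlt : 2 ^ (m + 1) + 2 < 2 ^ (2 * m + 1) := by
    have h2' : 2 ^ (2 * m + 1) = 2 ^ (m + 1) * 2 ^ m := by
      rw [← pow_add]
      congr 1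
      omega
    have h3 : 4 ≤ 2 ^ m := by
      calc 4 = 2 ^ 2 := by norm_num
        _ ≤ 2 ^ m := Nat.pow_le_pow_right (by norm_num) hm
    have h4 : 4 ≤ 2 ^ (m + 1) := by
      calc 4 = 2 ^ 2 := by norm_num
        _ ≤ 2 ^ (m + 1) := Nat.pow_le_pow_right (by norm_num) (by omega)
    nlinarith
  have he0 : e ≠ 0 := by
    have key : ∀ A B : ℕ, B + 2 < A → A - 2 - B ≠ 0 := by
      intro A B hAB
      omega
    exact key _ _ hlt
  have haddF : ∀ x y : F, (x + y) ^ e = x ^ e + y ^ e := by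
    intro x y
    by_cases hx : x = 0
    · rw [hx, zero_add, zero_pow he0, zero_add]
    by_cases hy : y = 0
    · rw [hy, add_zero, zero_pow he0, add_zero]
    by_cases hxy : x + y = 0
    · have hyx : y = x := by
        have := hadd2 x
        have h5 : x + y = x + x := by rw [hxy, this]
        exact (add_left_cancel h5)
      rw [hxy, zero_pow he0, hyx, hadd2]
    · have h5 := hdef x y hx hy hxy
      have h6 : (x + y) ^ e = (x + y) ^ e + ((x + y) ^ e + (x ^ e + y ^ e)) + ((x + y) ^ e + (x ^ e + y ^ e)) := by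
        rw [h5, add_zero, add_zero]
      calc (x + y) ^ e = (x + y) ^ e + ((x + y) ^ e + (x ^ e + y ^ e)) := by rw [h5, add_zero]
        _ = ((x + y) ^ e + (x + y) ^ e) + (x ^ e + y ^ e) := by ring
        _ = x ^ e + y ^ e := by rw [hadd2, zero_add]
  have hele : e ≤ 2 * (2 ^ (2 * m + 1) - 1) := by
    have key : ∀ A B : ℕ, B + 2 < A → A - 2 - B ≤ 2 * (A - 1) := by
      intro A B hAB
      omega
    exact key _ _ hlt
  obtain ⟨z, hz⟩ := exists_two_pow_of_pow_add (n := 2 * m + 1) (by omega) hF hele haddF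
  have h7 := two_pow_val_le z
  have h8 := two_pow_eq (n := 2 * m + 1) (by omega)
  have h9 : 2 ^ 1 ≤ 2 ^ (2 * m + 1 - 1) := Nat.pow_le_pow_right (by norm_num) (by omega)
  have h11 : 2 ^ z.val < 2 ^ (2 * m + 1) - 1 := by
    have key : ∀ A B C : ℕ, C ≤ B → A = 2 * B → 2 ≤ B → C < A - 1 := by
      intro A B C h1 h2 h3
      omega
    exact key _ _ _ h7 h8 h9
  have h12 : e < 2 ^ (2 * m + 1) - 1 := by
    have key : ∀ A B : ℕ, B + 2 < A → A - 2 - B < A - 1 := by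
      intro A B hAB
      omega
    exact key _ _ hlt
  have h10 := Nat.ModEq.eq_of_lt_of_lt hz h11 h12
  exact exp_ne_two_pow hm z.val h10.symm

end pairing

end Cfsg.Agent.Lib.Helper13.SzAut
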