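/-
helper13: central extensions of a group containing a "Suzuki Borel subgroup"
(`T a b * T c d = T (a + c) (b + d + s a * c)`, torus elements `Hh μ`): the local condition
`LocalTriv` of helper3 holds for the subgroup `{T a b}` when `q ≥ 32` (towards S2111).
Part 1: the centre `{T 0 b}`.
-/
import Mathlib
import Cfsg.Agent.Lib.Helper3.Schur.Local
import Cfsg.Agent.Lib.Helper13.AltFormField
import Cfsg.Agent.Lib.Helper13.SzAutC
import Cfsg.Agent.Lib.Helper13.SzSchurA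

set_option autoImplicit false

namespace Cfsg.Agent.Lib.Helper13.SzSchur

open Subgroup Cfsg.Agent.Lib.Helper3.SchurM Cfsg.Agent.Lib.Helper13.SzAut
open scoped commutatorElement

section generalities

variable {Γ : Type*} [Group Γ]

theorem commElt_mul_left_cen (a b c : Γ) (h : ⁅b, c⁆ ∈ center Γ) :
    ⁅a * b, c⁆ = ⁅a, c⁆ * ⁅b, c⁆ := by
  rw [commElt_mul_left', mem_center_iff.mp h a, mul_inv_cancel_right,
    ← mem_center_iff.mp h ⁅a, c⁆]

theorem commElt_mul_right_cen (a b c : Γ) (h : ⁅a, c⁆ ∈ center Γ) :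
    ⁅a, b * c⁆ = ⁅a, b⁆ * ⁅a, c⁆ := by
  rw [commElt_mul_right', mem_center_iff.mp h b, mul_inv_cancel_right]

theorem commElt_conj' (g a b : Γ) :
    ⁅g * a * g⁻¹, g * b * g⁻¹⁆ = g * ⁅a, b⁆ * g⁻¹ := by
  simp only [commutatorElement_def]; group

/-- a right factor commuting with the second entry can be dropped -/
theorem commElt_mul_left_of_comm (y w c : Γ) (h : w * c = c * w) : ⁅y * w, c⁆ = ⁅y, c⁆ := by
  have h1 : w * c * w⁻¹ = c := by rw [h, mul_inv_cancel_right]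
  calc ⁅y * w, c⁆ = y * (w * c * w⁻¹) * y⁻¹ * c⁻¹ := by
        rw [commutatorElement_def]; group
    _ = ⁅y, c⁆ := by rw [h1, commutatorElement_def]

/-- a right factor commuting with the first entry can be dropped -/
theorem commElt_mul_right_of_comm (c y w : Γ) (h : w * c = c * w) : ⁅c, y * w⁆ = ⁅c, y⁆ := by
  have h1 : w * c⁻¹ * w⁻¹ = c⁻¹ := by
    have : c⁻¹ * w = w * c⁻¹ := by
      calc c⁻¹ * w = c⁻¹ * (w * c) * c⁻¹ := by group
        _ = c⁻¹ * (c * w) * c⁻¹ := by rw [h]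
        _ = w * c⁻¹ := by group
    rw [← this, mul_inv_cancel_right]
  calc ⁅c, y * w⁆ = c * y * (w * c⁻¹ * w⁻¹) * y⁻¹ := by
        rw [commutatorElement_def]; group
    _ = ⁅c, y⁆ := by rw [h1, commutatorElement_def]

theorem conj_eq_of_comm (x w : Γ) (h : w * x = x * w) : x * w * x⁻¹ = w := by
  rw [← h, mul_inv_cancel_right]

end generalities

/-- the data of a central extension of a group containing a Suzuki Borel subgroup, with chosen
lifts `X a b` of the unipotent elements `T a b` and `gl μ` of the torus elements `Hh μ`. -/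
structure Ext {F : Type*} [Field F] (s : F →+* F) {G Γ : Type*} [Group G] [Group Γ]
    (σ : Γ →* G) (T : F → F → G) (Hh : Fˣ → G) (X : F → F → Γ) (gl : Fˣ → Γ) : Prop where
  tits : Tits s
  cen : σ.ker ≤ center Γ
  T_mul : ∀ a b c d, T a b * T c d = T (a + c) (b + d + s a * c)
  T_inj : ∀ a b a' b', T a b = T a' b' → a = a' ∧ b = b'
  H_T : ∀ (μ : Fˣ) a b, Hh μ * T a b = T (s (μ : F) * a) ((μ : F) ^ 2 * s (μ : F) * b) * Hh μ
  H_comm : ∀ μ ν, Hh μ * Hh ν = Hh ν * Hh μ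
  hX : ∀ a b, σ (X a b) = T a b
  hg : ∀ μ, σ (gl μ) = Hh μ

namespace Ext

variable {F : Type*} [Field F] {s : F →+* F} {G Γ : Type*} [Group G] [Group Γ]
  {σ : Γ →* G} {T : F → F → G} {Hh : Fˣ → G} {X : F → F → Γ} {gl : Fˣ → Γ}
  (E : Ext s σ T Hh X gl)
include E

theorem add_self (x : F) : x + x = 0 := E.tits.add_self x

theorem T_zero : T 0 0 = 1 := by
  have h := E.T_mul 0 0 0 0
  rw [map_zero, zero_mul, add_zero, add_zero] at h
  exact mul_eq_left.1 h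

theorem T0_mul (b b' : F) : T 0 b * T 0 b' = T 0 (b + b') := by
  rw [E.T_mul, add_zero, map_zero, zero_mul, add_zero]

theorem T_mul_T0 (a c b : F) : T a c * T 0 b = T a (c + b) := by
  rw [E.T_mul, add_zero, mul_zero, add_zero]

theorem T0_mul_T (b a c : F) : T 0 b * T a c = T a (b + c) := by
  rw [E.T_mul, zero_add, map_zero, zero_mul, add_zero]

theorem T0_comm (b a c : F) : T 0 b * T a c = T a c * T 0 b := by
  rw [E.T0_mul_T, E.T_mul_T0, add_comm]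

theorem T0_inv (b : F) : (T 0 b)⁻¹ = T 0 b := by
  rw [inv_eq_iff_mul_eq_one, E.T0_mul, E.add_self, E.T_zero]

theorem Ta_mul (a a' : F) : T a 0 * T a' 0 = T (a + a') (s a * a') := by
  rw [E.T_mul, add_zero, zero_add]

theorem H_conj (μ : Fˣ) (a b : F) :
    Hh μ * T a b * (Hh μ)⁻¹ = T (s (μ : F) * a) ((μ : F) ^ 2 * s (μ : F) * b) := by
  rw [E.H_T, mul_inv_cancel_right]

/-- two elements with the same image differ by a central element -/
theorem exists_central {x y : Γ} (h : σ x = σ y) : ∃ k ∈ center Γ, y = x * k := by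
  refine ⟨x⁻¹ * y, E.cen ?_, by group⟩
  show σ _ = 1
  rw [map_mul, map_inv, h, inv_mul_cancel]

/-- the preimage of the centre `{T 0 b}` -/
def InW (_E : Ext s σ T Hh X gl) (x : Γ) : Prop := ∃ b, σ x = T 0 b

theorem inW_X (b : F) : E.InW (X 0 b) := ⟨b, E.hX 0 b⟩

theorem inW_mul {x y : Γ} (hx : E.InW x) (hy : E.InW y) : E.InW (x * y) := by
  obtain ⟨b, hb⟩ := hx
  obtain ⟨b', hb'⟩ := hy
  exact ⟨b + b', by rw [map_mul, hb, hb', E.T0_mul]⟩

theorem inW_inv {x : Γ} (hx : E.InW x) : E.InW x⁻¹ := by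
  obtain ⟨b, hb⟩ := hx
  exact ⟨b, by rw [map_inv, hb, E.T0_inv]⟩

theorem inW_conj_gl (μ : Fˣ) {x : Γ} (hx : E.InW x) : E.InW (gl μ * x * (gl μ)⁻¹) := by
  obtain ⟨b, hb⟩ := hx
  refine ⟨(μ : F) ^ 2 * s (μ : F) * b, ?_⟩
  rw [map_mul, map_mul, map_inv, hb, E.hg, E.H_conj, mul_zero]

theorem inW_comm_gl (μ : Fˣ) {x : Γ} (hx : E.InW x) : E.InW ⁅x, gl μ⁆ := by
  have h1 : ⁅x, gl μ⁆ = x * (gl μ * x⁻¹ * (gl μ)⁻¹) := by
    rw [commutatorElement_def]; group
  rw [h1]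
  exact E.inW_mul hx (E.inW_conj_gl μ (E.inW_inv hx))

theorem s_surj [Finite F] : Function.Surjective s :=
  Finite.injective_iff_surjective.1 s.injective

/-- units with prescribed image under the Tits endomorphism -/
theorem exists_unit_s [Finite F] {ν : F} (hν : ν ≠ 0) : ∃ μ : Fˣ, s (μ : F) = ν := by
  obtain ⟨x, hx⟩ := E.s_surj ν
  have hx0 : x ≠ 0 := by
    rintro rfl
    rw [map_zero] at hx
    exact hν hx.symm
  exact ⟨Units.mk0 x hx0, hx⟩

/-- units with prescribed torus multiplier on the centre -/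
theorem exists_unit_nm [Finite F] {c : F} (hc : c ≠ 0) :
    ∃ μ : Fˣ, (μ : F) ^ 2 * s (μ : F) = c := by
  obtain ⟨a, ha⟩ := E.tits.norm_surj c
  have ha0 : a ≠ 0 := by
    rintro rfl
    rw [map_zero, zero_mul] at ha
    exact hc ha.symm
  obtain ⟨μ, hμ⟩ := E.exists_unit_s ha0
  refine ⟨μ, ?_⟩
  rw [← E.tits.sq, hμ, ha]

theorem conj_gl_X0 (μ : Fˣ) (b : F) : ∃ k ∈ center Γ,
    gl μ * X 0 b * (gl μ)⁻¹ = X 0 ((μ : F) ^ 2 * s (μ : F) * b) * k := by
  apply E.exists_central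
  rw [map_mul, map_mul, map_inv, E.hX, E.hX, E.hg, E.H_conj, mul_zero]

theorem conj_gl_Xa (μ : Fˣ) (a : F) : ∃ k ∈ center Γ,
    gl μ * X a 0 * (gl μ)⁻¹ = X (s (μ : F) * a) 0 * k := by
  apply E.exists_central
  rw [map_mul, map_mul, map_inv, E.hX, E.hX, E.hg, E.H_conj, mul_zero]

theorem conj_gl_gl (μ ν : Fˣ) : ∃ k ∈ center Γ, gl μ * gl ν * (gl μ)⁻¹ = gl ν * k := by
  apply E.exists_central
  rw [map_mul, map_mul, map_inv, E.hg, E.hg, E.H_comm, mul_inv_cancel_right]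

theorem X0_add (b b' : F) : ∃ k ∈ center Γ, X 0 (b + b') = X 0 b * X 0 b' * k := by
  apply E.exists_central
  rw [map_mul, E.hX, E.hX, E.hX, E.T0_mul]

/-- **Step 1**: the lifts of the central elements commute. -/
theorem X0_comm [Fintype F] (h4 : Fintype.card F ≠ 4) (h9 : Fintype.card F ≠ 9) (b b' : F) :
    ⁅X 0 b, X 0 b'⁆ = 1 := by
  have hker : ∀ b b', ⁅X 0 b, X 0 b'⁆ ∈ σ.ker := by
    intro b b'
    show σ _ = 1
    rw [map_commutatorElement, E.hX, E.hX, commutatorElement_eq_one_iff_commute]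
    exact E.T0_comm b 0 b'
  have hc : ∀ b b', ⁅X 0 b, X 0 b'⁆ ∈ center Γ := fun b b' => E.cen (hker b b')
  let γ : F → F → center Γ := fun x y => ⟨⁅X 0 x, X 0 y⁆, hc x y⟩
  have hγ : ∀ x y, γ x y = 1 := by
    apply AltForm.form_eq_one (fun a b => Subtype.ext (mem_center_iff.mp b.2 a.1)) γ
    · intro x x' y
      apply Subtype.ext
      obtain ⟨k, hk, e⟩ := E.X0_add x x'
      show ⁅X 0 (x + x'), X 0 y⁆ = ⁅X 0 x, X 0 y⁆ * ⁅X 0 x', X 0 y⁆
      rw [e, commElt_mul_central_left hk, commElt_mul_left_cen _ _ _ (hc x' y)]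
    · intro x y y'
      apply Subtype.ext
      obtain ⟨k, hk, e⟩ := E.X0_add y y'
      show ⁅X 0 x, X 0 (y + y')⁆ = ⁅X 0 x, X 0 y⁆ * ⁅X 0 x, X 0 y'⁆
      rw [e, commElt_mul_central_right hk, commElt_mul_right_cen _ _ _ (hc x y')]
    · intro x
      apply Subtype.ext
      show ⁅X 0 x, X 0 x⁆ = 1
      exact commutatorElement_self _
    · intro t ht x y
      apply Subtype.ext
      show ⁅X 0 (t ^ 2 * x), X 0 (t ^ 2 * y)⁆ = ⁅X 0 x, X 0 y⁆
      obtain ⟨μ, hμ⟩ := E.exists_unit_nm (pow_ne_zero 2 ht)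
      obtain ⟨k, hk, e⟩ := E.conj_gl_X0 μ x
      obtain ⟨k', hk', e'⟩ := E.conj_gl_X0 μ y
      have h1 := commElt_conj' (gl μ) (X 0 x) (X 0 y)
      rw [e, e', commElt_mul_central_left hk, commElt_mul_central_right hk', hμ] at h1
      rw [h1, mem_center_iff.mp (hc x y) (gl μ), mul_inv_cancel_right]
    · exact h4
    · exact h9
  exact congrArg Subtype.val (hγ b b')

/-- **Step 1**: the preimage of the centre `{T 0 b}` is abelian. -/
theorem inW_comm [Fintype F] (h4 : Fintype.card F ≠ 4) (h9 : Fintype.card F ≠ 9) {x y : Γ}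
    (hx : E.InW x) (hy : E.InW y) : x * y = y * x := by
  obtain ⟨b, hb⟩ := hx
  obtain ⟨b', hb'⟩ := hy
  obtain ⟨k, hk, rfl⟩ := E.exists_central ((E.hX 0 b).trans hb.symm)
  obtain ⟨k', hk', rfl⟩ := E.exists_central ((E.hX 0 b').trans hb'.symm)
  have h1 : ⁅X 0 b * k, X 0 b' * k'⁆ = 1 := by
    rw [commElt_mul_central_left hk, commElt_mul_central_right hk', E.X0_comm h4 h9]
  exact commutatorElement_eq_one_iff_commute.1 h1

end Ext

/-- the canonical section over the centre: `ζ b = ⁅X 0 (b / d), gl μ₀⁆`, `d = 1 + μ₀² s(μ₀)` -/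
def zeta {F : Type*} [Field F] (s : F →+* F) {Γ : Type*} [Group Γ] (X : F → F → Γ) (gl : Fˣ → Γ)
    (μ₀ : Fˣ) (b : F) : Γ :=
  ⁅X 0 (b / (1 + (μ₀ : F) ^ 2 * s (μ₀ : F))), gl μ₀⁆

namespace Ext

variable {F : Type*} [Field F] {s : F →+* F} {G Γ : Type*} [Group G] [Group Γ]
  {σ : Γ →* G} {T : F → F → G} {Hh : Fˣ → G} {X : F → F → Γ} {gl : Fˣ → Γ}
  (E : Ext s σ T Hh X gl)
include E

theorem sigma_comm_gl {x : Γ} {c : F} (hx : σ x = T 0 c) (μ : Fˣ) :
    σ ⁅x, gl μ⁆ = T 0 ((1 + (μ : F) ^ 2 * s (μ : F)) * c) := by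
  rw [map_commutatorElement, hx, E.hg, commutatorElement_def, E.T0_inv, mul_assoc (T 0 c),
    mul_assoc (T 0 c), E.H_conj, mul_zero, E.T0_mul]
  congr 1
  ring

variable (W1 : ∀ x y : Γ, E.InW x → E.InW y → x * y = y * x)
include W1

theorem comm_gl_mul {x y : Γ} (hx : E.InW x) (hy : E.InW y) (μ : Fˣ) :
    ⁅x * y, gl μ⁆ = ⁅x, gl μ⁆ * ⁅y, gl μ⁆ := by
  rw [commElt_mul_left', conj_eq_of_comm x _ (W1 _ _ (E.inW_comm_gl μ hy) hx)]
  exact W1 _ _ (E.inW_comm_gl μ hy) (E.inW_comm_gl μ hx)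

variable (μ₀ : Fˣ)

theorem zeta_add (b b' : F) :
    zeta s X gl μ₀ (b + b') = zeta s X gl μ₀ b * zeta s X gl μ₀ b' := by
  unfold zeta
  rw [add_div]
  obtain ⟨k, hk, e⟩ := E.X0_add (b / (1 + (μ₀ : F) ^ 2 * s (μ₀ : F)))
    (b' / (1 + (μ₀ : F) ^ 2 * s (μ₀ : F)))
  rw [e, commElt_mul_central_left hk, E.comm_gl_mul W1 (E.inW_X _) (E.inW_X _)]

theorem zeta_zero : zeta s X gl μ₀ 0 = 1 := by
  have h := E.zeta_add W1 μ₀ 0 0
  rw [add_zero] at h
  exact left_eq_mul.1 h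

theorem zeta_mul_self (b : F) : zeta s X gl μ₀ b * zeta s X gl μ₀ b = 1 := by
  rw [← E.zeta_add W1, E.add_self, E.zeta_zero W1]

theorem zeta_inv (b : F) : (zeta s X gl μ₀ b)⁻¹ = zeta s X gl μ₀ b :=
  inv_eq_of_mul_eq_one_left (E.zeta_mul_self W1 μ₀ b)

omit W1 in
/-- conjugating the section by a torus lift -/
theorem zeta_conj (μ : Fˣ) (b : F) :
    gl μ * zeta s X gl μ₀ b * (gl μ)⁻¹ = zeta s X gl μ₀ ((μ : F) ^ 2 * s (μ : F) * b) := by
  unfold zeta
  obtain ⟨k, hk, e⟩ := E.conj_gl_X0 μ (b / (1 + (μ₀ : F) ^ 2 * s (μ₀ : F)))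
  obtain ⟨k', hk', e'⟩ := E.conj_gl_gl μ μ₀
  rw [← commElt_conj', e, e', commElt_mul_central_left hk, commElt_mul_central_right hk',
    mul_div_assoc]

variable (hd : 1 + (μ₀ : F) ^ 2 * s (μ₀ : F) ≠ 0)
include hd

omit W1 in
theorem sigma_zeta (b : F) : σ (zeta s X gl μ₀ b) = T 0 b := by
  unfold zeta
  rw [E.sigma_comm_gl (E.hX 0 _) μ₀, mul_div_cancel₀ _ hd]

omit W1 in
theorem inW_zeta (b : F) : E.InW (zeta s X gl μ₀ b) := ⟨b, E.sigma_zeta μ₀ hd b⟩

omit W1 in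
/-- the section does not depend on the chosen lifts of the central elements -/
theorem comm_gl_eq_zeta {x : Γ} {c : F} (hx : σ x = T 0 c) :
    ⁅x, gl μ₀⁆ = zeta s X gl μ₀ ((1 + (μ₀ : F) ^ 2 * s (μ₀ : F)) * c) := by
  obtain ⟨k, hk, rfl⟩ := E.exists_central ((E.hX 0 c).trans hx.symm)
  unfold zeta
  rw [commElt_mul_central_left hk, mul_div_cancel_left₀ _ hd]

omit W1 in
theorem zeta_ker {b : F} (h : zeta s X gl μ₀ b ∈ σ.ker) : b = 0 := by
  have h1 : σ (zeta s X gl μ₀ b) = 1 := h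
  rw [E.sigma_zeta μ₀ hd, ← E.T_zero] at h1
  exact (E.T_inj _ _ _ _ h1).2

omit W1 in
/-- every element over the centre is a value of the section times a central element -/
theorem exists_zeta {w : Γ} (hw : E.InW w) : ∃ c, ∃ k ∈ center Γ, w = zeta s X gl μ₀ c * k := by
  obtain ⟨c, hc⟩ := hw
  exact ⟨c, E.exists_central ((E.sigma_zeta μ₀ hd c).trans hc.symm)⟩

end Ext

end Cfsg.Agent.Lib.Helper13.SzSchur
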