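/-
helper13: central extensions of a group containing a "Suzuki Borel subgroup", part 2:
the pairing between the centre and the quotient vanishes (`q ≥ 32`), the commutator form splits,
and the local condition `LocalTriv` holds for the subgroup `{T a b}` (towards S2111).
-/
import Mathlib
import Cfsg.Agent.Lib.Helper13.SzSchurB

set_option autoImplicit false

namespace Cfsg.Agent.Lib.Helper13.SzSchur

open Subgroup Cfsg.Agent.Lib.Helper3.SchurM Cfsg.Agent.Lib.Helper13.SzAut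
open scoped commutatorElement

namespace Ext

variable {F : Type*} [Field F] {s : F →+* F} {G Γ : Type*} [Group G] [Group Γ]
  {σ : Γ →* G} {T : F → F → G} {Hh : Fˣ → G} {X : F → F → Γ} {gl : Fˣ → Γ}
  (E : Ext s σ T Hh X gl)
include E

theorem T_split (a b : F) : T a b = T a 0 * T 0 b := by
  rw [E.T_mul_T0, zero_add]

/-- additivity of the lifts `X a 0` modulo the preimage of the centre -/
theorem Xa_add (a a' : F) : ∃ w, E.InW w ∧ X (a + a') 0 = X a 0 * X a' 0 * w := by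
  refine ⟨(X a 0 * X a' 0)⁻¹ * X (a + a') 0, ⟨s a * a', ?_⟩, by group⟩
  rw [map_mul, map_inv, map_mul, E.hX, E.hX, E.hX, E.Ta_mul, inv_mul_eq_iff_eq_mul, E.T_mul_T0,
    E.add_self]

theorem sigma_comm_Xa (a a' : F) :
    σ ⁅X a 0, X a' 0⁆ = T 0 (s a * a' + s a' * a) := by
  rw [map_commutatorElement, E.hX, E.hX, commutatorElement_def]
  have h1 : T a 0 * T a' 0 = T 0 (s a * a' + s a' * a) * (T a' 0 * T a 0) := by
    rw [E.Ta_mul, E.Ta_mul, E.T0_mul_T, add_assoc, E.add_self, add_zero, add_comm a a']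
  calc T a 0 * T a' 0 * (T a 0)⁻¹ * (T a' 0)⁻¹ = (T a 0 * T a' 0) * (T a' 0 * T a 0)⁻¹ := by group
    _ = T 0 (s a * a' + s a' * a) := by rw [h1, mul_inv_cancel_right]

theorem inW_comm_Xa (a a' : F) : E.InW ⁅X a 0, X a' 0⁆ := ⟨_, E.sigma_comm_Xa a a'⟩

variable (W1 : ∀ x y : Γ, E.InW x → E.InW y → x * y = y * x)
variable (μ₀ : Fˣ) (hd : 1 + (μ₀ : F) ^ 2 * s (μ₀ : F) ≠ 0)
include W1 hd

omit W1 in
theorem gamma_ker (b a : F) : ⁅zeta s X gl μ₀ b, X a 0⁆ ∈ σ.ker := by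
  show σ _ = 1
  rw [map_commutatorElement, E.sigma_zeta μ₀ hd, E.hX, commutatorElement_eq_one_iff_commute]
  exact E.T0_comm b a 0

omit W1 in
/-- torus invariance of the pairing -/
theorem gamma_inv (μ : Fˣ) (b a : F) :
    ⁅zeta s X gl μ₀ ((μ : F) ^ 2 * s (μ : F) * b), X (s (μ : F) * a) 0⁆ =
      ⁅zeta s X gl μ₀ b, X a 0⁆ := by
  have hc := E.cen (E.gamma_ker μ₀ hd b a)
  obtain ⟨k, hk, e⟩ := E.conj_gl_Xa μ a
  have h1 := commElt_conj' (gl μ) (zeta s X gl μ₀ b) (X a 0)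
  rw [E.zeta_conj μ₀ μ b, e, commElt_mul_central_right hk] at h1
  rw [h1, mem_center_iff.mp hc (gl μ), mul_inv_cancel_right]

/-- **Step 3**: the section commutes with the lifts `X a 0` (`q ≥ 32`). -/
theorem zeta_comm_Xa [Fintype F] {m : ℕ} (hm : 2 ≤ m) (hF : Fintype.card F = 2 ^ (2 * m + 1))
    (hs : ∀ x, s x = x ^ 2 ^ (m + 1)) (b a : F) : ⁅zeta s X gl μ₀ b, X a 0⁆ = 1 := by
  have hc : ∀ b a, ⁅zeta s X gl μ₀ b, X a 0⁆ ∈ center Γ := fun b a =>
    E.cen (E.gamma_ker μ₀ hd b a)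
  apply pairing_trivial hm hF (fun b a => ⁅zeta s X gl μ₀ b, X a 0⁆)
  · intro b b' a
    show ⁅zeta s X gl μ₀ (b + b'), X a 0⁆ = _
    rw [E.zeta_add W1, commElt_mul_left_cen _ _ _ (hc b' a)]
  · intro b a a'
    obtain ⟨w, hw, e⟩ := E.Xa_add a a'
    show ⁅zeta s X gl μ₀ b, X (a + a') 0⁆ = _
    rw [e, commElt_mul_right_of_comm _ _ _ (W1 _ _ hw (E.inW_zeta μ₀ hd b)),
      commElt_mul_right_cen _ _ _ (hc b a')]
  · intro ν hν b a
    obtain ⟨μ, hμ⟩ := E.exists_unit_s hν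
    have h1 := E.gamma_inv μ₀ hd μ b a
    rw [← E.tits.sq, hμ, hs ν] at h1
    show ⁅zeta s X gl μ₀ (ν * ν ^ 2 ^ (m + 1) * b), X (ν * a) 0⁆ = _
    rw [mul_comm ν (ν ^ 2 ^ (m + 1))]
    exact h1

/-- **Step 3'**: the preimage of the centre commutes with the lifts `X a 0` (`q ≥ 32`). -/
theorem inW_comm_X [Fintype F] {m : ℕ} (hm : 2 ≤ m) (hF : Fintype.card F = 2 ^ (2 * m + 1))
    (hs : ∀ x, s x = x ^ 2 ^ (m + 1)) {w : Γ} (hw : E.InW w) (a : F) :
    w * X a 0 = X a 0 * w := by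
  obtain ⟨c, k, hk, rfl⟩ := E.exists_zeta μ₀ hd hw
  have h1 : ⁅zeta s X gl μ₀ c * k, X a 0⁆ = 1 := by
    rw [commElt_mul_central_left hk, E.zeta_comm_Xa W1 μ₀ hd hm hF hs]
  exact commutatorElement_eq_one_iff_commute.1 h1

end Ext

/-- the commutator form of the lifts `X a 0`, corrected by the section -/
def kappa {F : Type*} [Field F] (s : F →+* F) {Γ : Type*} [Group Γ] (X : F → F → Γ) (gl : Fˣ → Γ)
    (μ₀ : Fˣ) (a a' : F) : Γ :=
  (zeta s X gl μ₀ (s a * a' + s a' * a))⁻¹ * ⁅X a 0, X a' 0⁆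

namespace Ext

variable {F : Type*} [Field F] {s : F →+* F} {G Γ : Type*} [Group G] [Group Γ]
  {σ : Γ →* G} {T : F → F → G} {Hh : Fˣ → G} {X : F → F → Γ} {gl : Fˣ → Γ}
  (E : Ext s σ T Hh X gl)
variable (W1 : ∀ x y : Γ, E.InW x → E.InW y → x * y = y * x)
variable (W2 : ∀ (w : Γ) (a : F), E.InW w → w * X a 0 = X a 0 * w)
variable (μ₀ : Fˣ) (hd : 1 + (μ₀ : F) ^ 2 * s (μ₀ : F) ≠ 0)
include E

include W1 W2 in
theorem comm_Xa_add_left (a a'' a' : F) :
    ⁅X (a + a'') 0, X a' 0⁆ = ⁅X a 0, X a' 0⁆ * ⁅X a'' 0, X a' 0⁆ := by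
  obtain ⟨w, hw, e⟩ := E.Xa_add a a''
  rw [e, commElt_mul_left_of_comm _ _ _ (W2 w a' hw), commElt_mul_left',
    conj_eq_of_comm (X a 0) _ (W2 _ a (E.inW_comm_Xa a'' a'))]
  exact W1 _ _ (E.inW_comm_Xa a'' a') (E.inW_comm_Xa a a')

include W2 in
theorem comm_Xa_add_right (a a' a'' : F) :
    ⁅X a 0, X (a' + a'') 0⁆ = ⁅X a 0, X a' 0⁆ * ⁅X a 0, X a'' 0⁆ := by
  obtain ⟨w, hw, e⟩ := E.Xa_add a' a''
  rw [e, commElt_mul_right_of_comm _ _ _ (W2 w a hw), commElt_mul_right',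
    conj_eq_of_comm (X a' 0) _ (W2 _ a' (E.inW_comm_Xa a a''))]

include hd in
theorem kappa_ker (a a' : F) : kappa s X gl μ₀ a a' ∈ σ.ker := by
  show σ _ = 1
  unfold kappa
  rw [map_mul, map_inv, E.sigma_zeta μ₀ hd, E.sigma_comm_Xa, inv_mul_cancel]

include W1 W2 hd in
theorem kappa_add_left (a a'' a' : F) :
    kappa s X gl μ₀ (a + a'') a' = kappa s X gl μ₀ a a' * kappa s X gl μ₀ a'' a' := by
  have hk1 := E.cen (E.kappa_ker μ₀ hd a a')
  have hf : s (a + a'') * a' + s a' * (a + a'') =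
      (s a * a' + s a' * a) + (s a'' * a' + s a' * a'') := by
    rw [map_add]; ring
  calc kappa s X gl μ₀ (a + a'') a'
      = (zeta s X gl μ₀ (s a * a' + s a' * a) * zeta s X gl μ₀ (s a'' * a' + s a' * a''))⁻¹ *
          (⁅X a 0, X a' 0⁆ * ⁅X a'' 0, X a' 0⁆) := by
        unfold kappa
        rw [hf, E.zeta_add W1, E.comm_Xa_add_left W1 W2]
    _ = (zeta s X gl μ₀ (s a'' * a' + s a' * a''))⁻¹ *
          (kappa s X gl μ₀ a a' * ⁅X a'' 0, X a' 0⁆) := by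
        unfold kappa; group
    _ = kappa s X gl μ₀ a a' * kappa s X gl μ₀ a'' a' := by
        rw [← mul_assoc, mem_center_iff.mp hk1 _, mul_assoc]
        rfl

include W1 W2 hd in
theorem kappa_add_right (a a' a'' : F) :
    kappa s X gl μ₀ a (a' + a'') = kappa s X gl μ₀ a a' * kappa s X gl μ₀ a a'' := by
  have hk1 := E.cen (E.kappa_ker μ₀ hd a a')
  have hf : s a * (a' + a'') + s (a' + a'') * a =
      (s a * a' + s a' * a) + (s a * a'' + s a'' * a) := by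
    rw [map_add]; ring
  calc kappa s X gl μ₀ a (a' + a'')
      = (zeta s X gl μ₀ (s a * a' + s a' * a) * zeta s X gl μ₀ (s a * a'' + s a'' * a))⁻¹ *
          (⁅X a 0, X a' 0⁆ * ⁅X a 0, X a'' 0⁆) := by
        unfold kappa
        rw [hf, E.zeta_add W1, E.comm_Xa_add_right W2]
    _ = (zeta s X gl μ₀ (s a * a'' + s a'' * a))⁻¹ *
          (kappa s X gl μ₀ a a' * ⁅X a 0, X a'' 0⁆) := by
        unfold kappa; group
    _ = kappa s X gl μ₀ a a' * kappa s X gl μ₀ a a'' := by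
        rw [← mul_assoc, mem_center_iff.mp hk1 _, mul_assoc]
        rfl

include W1 in
theorem kappa_self (a : F) : kappa s X gl μ₀ a a = 1 := by
  unfold kappa
  rw [E.add_self, E.zeta_zero W1, commutatorElement_self, inv_one, one_mul]

include hd in
theorem kappa_inv (μ : Fˣ) (a a' : F) :
    kappa s X gl μ₀ (s (μ : F) * a) (s (μ : F) * a') = kappa s X gl μ₀ a a' := by
  have hc := E.cen (E.kappa_ker μ₀ hd a a')
  obtain ⟨k, hk, e⟩ := E.conj_gl_Xa μ a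
  obtain ⟨k', hk', e'⟩ := E.conj_gl_Xa μ a'
  have hf : s (s (μ : F) * a) * (s (μ : F) * a') + s (s (μ : F) * a') * (s (μ : F) * a) =
      (μ : F) ^ 2 * s (μ : F) * (s a * a' + s a' * a) := by
    rw [map_mul, map_mul, E.tits.sq]; ring
  have h1 : gl μ * kappa s X gl μ₀ a a' * (gl μ)⁻¹ =
      (gl μ * zeta s X gl μ₀ (s a * a' + s a' * a) * (gl μ)⁻¹)⁻¹ *
        ⁅gl μ * X a 0 * (gl μ)⁻¹, gl μ * X a' 0 * (gl μ)⁻¹⁆ := by
    unfold kappa
    rw [commElt_conj']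
    group
  rw [E.zeta_conj μ₀ μ, e, e', commElt_mul_central_left hk, commElt_mul_central_right hk',
    mem_center_iff.mp hc (gl μ), mul_inv_cancel_right] at h1
  rw [h1]
  unfold kappa
  rw [hf]

/-- **Step 4**: the corrected commutator form vanishes. -/
theorem kappa_eq_one [Fintype F] (h4 : Fintype.card F ≠ 4) (h9 : Fintype.card F ≠ 9)
    (W1 : ∀ x y : Γ, E.InW x → E.InW y → x * y = y * x)
    (W2 : ∀ (w : Γ) (a : F), E.InW w → w * X a 0 = X a 0 * w)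
    (μ₀ : Fˣ) (hd : 1 + (μ₀ : F) ^ 2 * s (μ₀ : F) ≠ 0) (a a' : F) :
    kappa s X gl μ₀ a a' = 1 := by
  have hc : ∀ a a', kappa s X gl μ₀ a a' ∈ center Γ := fun a a' =>
    E.cen (E.kappa_ker μ₀ hd a a')
  let γ : F → F → center Γ := fun x y => ⟨kappa s X gl μ₀ x y, hc x y⟩
  have hγ : ∀ x y, γ x y = 1 := by
    apply AltForm.form_eq_one (fun a b => Subtype.ext (mem_center_iff.mp b.2 a.1)) γ
    · intro x x' y
      exact Subtype.ext (E.kappa_add_left W1 W2 μ₀ hd x x' y)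
    · intro x y y'
      exact Subtype.ext (E.kappa_add_right W1 W2 μ₀ hd x y y')
    · intro x
      exact Subtype.ext (E.kappa_self W1 μ₀ x)
    · intro t ht x y
      obtain ⟨μ, hμ⟩ := E.exists_unit_s (pow_ne_zero 2 ht)
      apply Subtype.ext
      show kappa s X gl μ₀ (t ^ 2 * x) (t ^ 2 * y) = kappa s X gl μ₀ x y
      rw [← hμ]
      exact E.kappa_inv μ₀ hd μ x y
    · exact h4
    · exact h9
  exact congrArg Subtype.val (hγ a a')

/-- the commutator of two lifts `X a 0` is a value of the section -/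
theorem comm_Xa_eq_zeta [Fintype F] (h4 : Fintype.card F ≠ 4) (h9 : Fintype.card F ≠ 9)
    (W1 : ∀ x y : Γ, E.InW x → E.InW y → x * y = y * x)
    (W2 : ∀ (w : Γ) (a : F), E.InW w → w * X a 0 = X a 0 * w)
    (μ₀ : Fˣ) (hd : 1 + (μ₀ : F) ^ 2 * s (μ₀ : F) ≠ 0) (a a' : F) :
    ⁅X a 0, X a' 0⁆ = zeta s X gl μ₀ (s a * a' + s a' * a) := by
  have h := E.kappa_eq_one h4 h9 W1 W2 μ₀ hd a a'
  unfold kappa at h
  exact (inv_mul_eq_one.1 h).symm

end Ext

end Cfsg.Agent.Lib.Helper13.SzSchur
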