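/-
helper13: the local condition `LocalTriv` (helper3) for a Suzuki Borel subgroup `{T a b}` of any
group containing the torus elements `Hh μ`, over the field with `2 ^ (2 m + 1) ≥ 32` elements
(towards S2111: the Schur multiplier of `Sz(q)` is trivial for `q ≥ 32`).
-/
import Mathlib
import Cfsg.Agent.Lib.Helper13.SzSchurC

set_option autoImplicit false

namespace Cfsg.Agent.Lib.Helper13.SzSchur

open Subgroup Cfsg.Agent.Lib.Helper3.SchurM Cfsg.Agent.Lib.Helper13.SzAut
open scoped commutatorElement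

universe u

theorem mem_normalizer_of_comm {Γ : Type*} [Group Γ] (N : Subgroup Γ) (g : Γ)
    (h : ∀ n ∈ N, g * n = n * g) : g ∈ normalizer (N : Set Γ) := by
  rw [mem_normalizer_iff]
  intro n
  constructor
  · intro hn
    rw [h n hn, mul_inv_cancel_right]
    exact hn
  · intro hn
    have h3 : g * n * g⁻¹ = n := by
      have h2 := h _ hn
      have : g * (g * n * g⁻¹) = g * n := by rw [h2]; group
      exact mul_left_cancel this
    rw [← h3]
    exact hn

theorem exists_ne_zero_one {F : Type*} [Field F] [Fintype F] (h : 2 < Fintype.card F) :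
    ∃ x : F, x ≠ 0 ∧ x ≠ 1 := by
  classical
  by_contra hne
  push Not at hne
  have h1 : (Finset.univ : Finset F) ⊆ {0, 1} := by
    intro x _
    by_cases hx : x = 0
    · simp [hx]
    · simp [hne x hx]
  have h2 := Finset.card_le_card h1
  have h3 : ({0, 1} : Finset F).card ≤ 2 := Finset.card_le_two
  rw [Finset.card_univ] at h2
  omega

/-- **The local condition for a Suzuki Borel subgroup**, `q = 2 ^ (2 m + 1) ≥ 32`: in every central
extension the commutator subgroup of the preimage of `{T a b}` meets the kernel trivially. -/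
theorem localTriv_borel {F : Type*} [Field F] [Fintype F] {m : ℕ} (hm : 2 ≤ m)
    (hF : Fintype.card F = 2 ^ (2 * m + 1)) (s : F →+* F) (hs : ∀ x, s x = x ^ 2 ^ (m + 1))
    (hT : Tits s) {G : Type u} [Group G] (T : F → F → G) (Hh : Fˣ → G)
    (T_mul : ∀ a b c d, T a b * T c d = T (a + c) (b + d + s a * c))
    (T_inj : ∀ a b a' b', T a b = T a' b' → a = a' ∧ b = b')
    (H_T : ∀ (μ : Fˣ) a b,
      Hh μ * T a b = T (s (μ : F) * a) ((μ : F) ^ 2 * s (μ : F) * b) * Hh μ)
    (H_comm : ∀ μ ν, Hh μ * Hh ν = Hh ν * Hh μ)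
    (P : Subgroup G) (hP : ∀ g ∈ P, ∃ a b, g = T a b) (p : ℕ) : LocalTriv p P := by
  apply localTriv_of
  intro Γ _ _ σ hsurj hcen
  choose X hX using fun a b => hsurj (T a b)
  choose gl hg using fun μ => hsurj (Hh μ)
  have E : Ext s σ T Hh X gl := ⟨hT, hcen, T_mul, T_inj, H_T, H_comm, hX, hg⟩
  have h32 : 32 ≤ Fintype.card F := by
    rw [hF]
    calc 32 = 2 ^ 5 := by norm_num
      _ ≤ 2 ^ (2 * m + 1) := Nat.pow_le_pow_right (by norm_num) (by omega)
  have h4 : Fintype.card F ≠ 4 := by omega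
  have h9 : Fintype.card F ≠ 9 := by omega
  have W1 : ∀ x y : Γ, E.InW x → E.InW y → x * y = y * x :=
    fun x y hx hy => E.inW_comm h4 h9 hx hy
  obtain ⟨x, hx0, hx1⟩ := exists_ne_zero_one (F := F) (by omega)
  set μ₀ : Fˣ := Units.mk0 x hx0 with hμ₀
  have hd : 1 + (μ₀ : F) ^ 2 * s (μ₀ : F) ≠ 0 := by
    intro h0
    have h1 : (1 : F) = (μ₀ : F) ^ 2 * s (μ₀ : F) := hT.eq_of_add_eq_zero h0
    have h2 : s (s x) * s x = s 1 * 1 := by
      rw [hT.sq, map_one, mul_one]
      exact h1.symm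
    have h3 : s x = 1 := hT.norm_inj h2
    exact hx1 (s.injective (h3.trans (map_one s).symm))
  have W2 : ∀ (w : Γ) (a : F), E.InW w → w * X a 0 = X a 0 * w :=
    fun w a hw => E.inW_comm_X W1 μ₀ hd hm hF hs hw a
  have hcomm := E.comm_Xa_eq_zeta h4 h9 W1 W2 μ₀ hd
  let N : Subgroup Γ :=
    { carrier := Set.range (zeta s X gl μ₀)
      mul_mem' := by
        rintro _ _ ⟨b, rfl⟩ ⟨b', rfl⟩
        exact ⟨b + b', E.zeta_add W1 μ₀ b b'⟩
      one_mem' := ⟨0, E.zeta_zero W1 μ₀⟩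
      inv_mem' := by
        rintro _ ⟨b, rfl⟩
        exact ⟨b, (E.zeta_inv W1 μ₀ b).symm⟩ }
  have hN : ∀ n ∈ N, ∃ b, zeta s X gl μ₀ b = n := fun n hn => hn
  have hNW : ∀ n ∈ N, E.InW n := by
    intro n hn
    obtain ⟨b, rfl⟩ := hN n hn
    exact E.inW_zeta μ₀ hd b
  refine ⟨closure (Set.range (fun a => X a 0) ∪ Set.range (zeta s X gl μ₀)), ?_, ?_⟩
  · intro g hg
    obtain ⟨a, b, rfl⟩ := hP g hg
    refine ⟨X a 0 * zeta s X gl μ₀ b,
      mul_mem (subset_closure (Or.inl ⟨a, rfl⟩)) (subset_closure (Or.inr ⟨b, rfl⟩)), ?_⟩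
    rw [map_mul, E.hX, E.sigma_zeta μ₀ hd, ← E.T_split]
  · have hle : ⁅closure (Set.range (fun a => X a 0) ∪ Set.range (zeta s X gl μ₀)),
        closure (Set.range (fun a => X a 0) ∪ Set.range (zeta s X gl μ₀))⁆ ≤ N := by
      apply comm_closure_le
      · rintro g (⟨a, rfl⟩ | ⟨b, rfl⟩)
        · apply mem_normalizer_of_comm
          intro n hn
          exact (W2 n a (hNW n hn)).symm
        · apply mem_normalizer_of_comm
          intro n hn
          exact W1 _ _ (E.inW_zeta μ₀ hd b) (hNW n hn)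
      · rintro g (⟨a, rfl⟩ | ⟨b, rfl⟩) g' (⟨a', rfl⟩ | ⟨b', rfl⟩)
        · exact ⟨_, (hcomm a a').symm⟩
        · have h1 : ⁅X a 0, zeta s X gl μ₀ b'⁆ = 1 :=
            commutatorElement_eq_one_iff_commute.2 (W2 _ a (E.inW_zeta μ₀ hd b')).symm
          show ⁅X a 0, zeta s X gl μ₀ b'⁆ ∈ N
          rw [h1]
          exact N.one_mem
        · have h1 : ⁅zeta s X gl μ₀ b, X a' 0⁆ = 1 :=
            commutatorElement_eq_one_iff_commute.2 (W2 _ a' (E.inW_zeta μ₀ hd b))
          show ⁅zeta s X gl μ₀ b, X a' 0⁆ ∈ N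
          rw [h1]
          exact N.one_mem
        · have h1 : ⁅zeta s X gl μ₀ b, zeta s X gl μ₀ b'⁆ = 1 :=
            commutatorElement_eq_one_iff_commute.2
              (W1 _ _ (E.inW_zeta μ₀ hd b) (E.inW_zeta μ₀ hd b'))
          show ⁅zeta s X gl μ₀ b, zeta s X gl μ₀ b'⁆ ∈ N
          rw [h1]
          exact N.one_mem
    intro z hz hzc _
    obtain ⟨b, rfl⟩ := hN z (hle hzc)
    have hb := E.zeta_ker μ₀ hd hz
    rw [hb, E.zeta_zero W1]

end Cfsg.Agent.Lib.Helper13.SzSchur
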