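/-
helper13: the Schur multiplier of the Suzuki group `Sz(q)`, `q = 2 ^ (2 m + 1) ≥ 32`, is trivial
(S2111).  Local conditions: `p = 2` by `localTriv_borel` (SzSchurD) on the Sylow 2-subgroup `Qz`,
odd `p` because the Sylow subgroups are cyclic (`cent_cyclic_card`, SzSubB).
-/
import Mathlib
import Cfsg.Agent.Lib.Helper13.SzSchurD
import Cfsg.Agent.Lib.Helper13.SzSubB
import Cfsg.Agent.Lib.Helper13.SchurPSL2
import Cfsg.Agent.Lib.Helper15.SuzukiLie

set_option autoImplicit false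

namespace Cfsg.Agent.Lib.Helper13.SzSchur

open Subgroup Cfsg.Agent.Lib.Helper3.SchurM Cfsg.Agent.Lib.Helper13.SzAut
open Cfsg.Agent.Lib.Helper15.SuzukiAlg Cfsg.Agent.Lib.Helper15.SuzukiOvoid
open Cfsg.Agent.Lib.Helper15.SuzukiBorel Cfsg.Agent.Lib.Helper15.SuzukiZassenhaus
open Cfsg.Agent.Lib.Helper13.SzSub

variable {F : Type*} [Field F] [Fintype F] {m : ℕ} (hF : Fintype.card F = 2 ^ (2 * m + 1))

/-- the local condition at the Sylow 2-subgroup of `Sz(q)`, `q ≥ 32` -/
theorem localTriv_Qz (hm : 2 ≤ m) (p : ℕ) : LocalTriv p (Qz hF) := by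
  apply localTriv_borel hm hF (sig (two_eq_zero hF) m) (fun x => sig_apply _ m x)
    ⟨two_eq_zero hF, fun x => sig_sig (two_eq_zero hF) hF x⟩ (Ts hF) (Hs hF)
  · exact fun a b c d => Ts_mul hF a b c d
  · exact fun a b a' b' h => Ts_inj hF h
  · exact fun μ a b => Hs_mul_Ts hF μ a b
  · exact fun μ ν => Hs_comm hF μ ν
  · exact fun g hg => (mem_Qz hF g).1 hg

include hF in
/-- the Sylow subgroups of `Sz(q)` for odd primes are cyclic -/
theorem exists_zpowers_sylow (hm : 1 ≤ m) (p : ℕ) [Fact p.Prime] (hp : p ≠ 2) :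
    ∃ g : Cfsg.Sz F m, ¬ p ∣ (zpowers g).index := by
  classical
  have : Finite (Cfsg.Sz F m) := by
    unfold Cfsg.Sz
    infer_instance
  let S : Sylow p (Cfsg.Sz F m) := default
  by_cases hS : (S : Subgroup (Cfsg.Sz F m)) = ⊥
  · refine ⟨1, ?_⟩
    rw [zpowers_one_eq_bot, ← hS]
    exact S.not_dvd_index
  · -- a nontrivial central element of `S`
    have hnt : Nontrivial ↥(S : Subgroup (Cfsg.Sz F m)) :=
      (Subgroup.nontrivial_iff_ne_bot _).2 hS
    have hc : Nontrivial (center ↥(S : Subgroup (Cfsg.Sz F m))) := S.2.center_nontrivial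
    obtain ⟨⟨z, hz⟩, hz1⟩ := exists_ne (1 : center ↥(S : Subgroup (Cfsg.Sz F m)))
    have hz1' : (z : Cfsg.Sz F m) ≠ 1 := by
      intro h
      apply hz1
      apply Subtype.ext
      apply Subtype.ext
      exact h
    have hodd : ¬ 2 ∣ orderOf (z : Cfsg.Sz F m) := by
      obtain ⟨k, hk⟩ := S.2 z
      intro h2
      have h3 : orderOf (z : Cfsg.Sz F m) ∣ p ^ k := by
        rw [Subgroup.orderOf_coe]
        exact orderOf_dvd_of_pow_eq_one hk
      have := Nat.Prime.dvd_of_dvd_pow Nat.prime_two (h2.trans h3)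
      exact hp ((Nat.prime_dvd_prime_iff_eq Nat.prime_two Fact.out).1 this).symm
    have hcyc := (cent_cyclic_card hF hm hz1' hodd).1
    have hle : (S : Subgroup (Cfsg.Sz F m)) ≤ centralizer ({(z : Cfsg.Sz F m)} : Set _) := by
      intro x hx
      rw [mem_centralizer_iff]
      intro y hy
      rw [Set.mem_singleton_iff] at hy
      subst hy
      have := mem_center_iff.mp hz ⟨x, hx⟩
      exact (congrArg Subtype.val this).symm
    have hScyc : IsCyclic ↥(S : Subgroup (Cfsg.Sz F m)) := Subgroup.isCyclic_of_le hle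
    obtain ⟨g, hg⟩ := hScyc.exists_generator
    refine ⟨(g : Cfsg.Sz F m), ?_⟩
    have hSg : zpowers (g : Cfsg.Sz F m) = (S : Subgroup (Cfsg.Sz F m)) := by
      apply le_antisymm
      · rw [zpowers_le]
        exact g.2
      · intro x hx
        obtain ⟨k, hk⟩ := mem_zpowers_iff.mp (hg ⟨x, hx⟩)
        rw [mem_zpowers_iff]
        exact ⟨k, by rw [← Subgroup.coe_zpow, hk]⟩
    rw [hSg]
    exact S.not_dvd_index

include hF in
/-- **The Schur multiplier of `Sz(q)`, `q ≥ 32`, is trivial.** -/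
theorem schur_Sz (hm : 2 ≤ m) : Cfsg.HasCyclicSchurMultiplier (Cfsg.Sz F m) 1 := by
  have : Finite (Cfsg.Sz F m) := by
    unfold Cfsg.Sz
    infer_instance
  apply trivial_of_local
  intro p hp
  by_cases hp2 : p = 2
  · subst hp2
    refine ⟨Qz hF, ?_, localTriv_Qz hF hm 2⟩
    have : Fact (Nat.Prime 2) := ⟨hp⟩
    rw [← coe_QSyl hF (by omega)]
    exact (QSyl hF (by omega)).not_dvd_index
  · have : Fact p.Prime := ⟨hp⟩
    obtain ⟨g, hg⟩ := exists_zpowers_sylow hF (by omega) p hp2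
    exact ⟨zpowers g, hg, localTriv_zpowers p g⟩

include hF in
/-- the same for the Lie-type model `Cfsg.Lie.Sz F (2 ^ (m + 1))` -/
theorem schur_LieSz (hm : 2 ≤ m) :
    Cfsg.HasCyclicSchurMultiplier ↥(Cfsg.Lie.Sz F (2 ^ (m + 1))) 1 :=
  Cfsg.Agent.Lib.Helper13.SchurSL2.hasSchurMultiplier_congr
    (Cfsg.Agent.Lib.Helper15.SuzukiLie.equivLie hF (by omega)) (schur_Sz hF hm)

end Cfsg.Agent.Lib.Helper13.SzSchur
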