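/- helper13: Suzuki groups `Sz F m`: the solubilizer of a 2-element as a union of the Borel
subgroup and torus normalisers; the involution count (towards S2259). -/
import Cfsg.Agent.Lib.Helper13.SzSolE

set_option autoImplicit false

namespace Cfsg.Agent.Lib.Helper13.SzSol

open Cfsg.Agent.Lib.Helper15.SuzukiAlg Cfsg.Agent.Lib.Helper15.SuzukiOvoid
  Cfsg.Agent.Lib.Helper15.SuzukiForm Cfsg.Agent.Lib.Helper15.SuzukiMat
  Cfsg.Agent.Lib.Helper15.SuzukiGroup Cfsg.Agent.Lib.Helper15.SuzukiOrder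
  Cfsg.Agent.Lib.Helper15.SuzukiSylow Cfsg.Agent.Lib.Helper15.SuzukiZassenhaus
  Cfsg.Agent.Lib.Helper15.SuzukiBorel Cfsg.Agent.Lib.Helper15.SuzukiElements
  Cfsg.Agent.Lib.Helper15.SuzukiFpf Cfsg.Agent.Lib.Helper15.SuzukiField
  Cfsg.Agent.Lib.Helper15.SuzukiTori Cfsg.Agent.S2410 Cfsg.Agent.S2247 Cfsg.Agent.S2238
  Cfsg.Agent.Lib.Helper18.SzFixity Cfsg.Agent.Lib.Helper13.SzSub

variable {F : Type*} [Field F] [Fintype F] {m : ℕ} (hF : Fintype.card F = 2 ^ (2 * m + 1))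

theorem natCard_eq_toFinset_card {α : Type*} [Finite α] (p : α → Prop) :
    Nat.card {z : α // p z} = (Set.toFinite {z : α | p z}).toFinset.card :=
  Set.ncard_eq_toFinset_card _ _

/-- the solubilizer of a non-trivial translation -/
theorem sol_iff_of_Qz (hm : 1 ≤ m) (hp : (2 * m + 1).Prime) {x : Cfsg.Sz F m} (hxQ : x ∈ Qz hF)
    (hx1 : x ≠ 1) (z : Cfsg.Sz F m) :
    Group.IsSolvable (Subgroup.closure ({x, z} : Set (Cfsg.Sz F m))) ↔
      z ∈ Bz hF ∨ ∃ T : Subgroup (Cfsg.Sz F m), IsTorus T ∧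
        x ∈ Subgroup.normalizer (T : Set (Cfsg.Sz F m)) ∧
        z ∈ Subgroup.normalizer (T : Set (Cfsg.Sz F m)) := by
  rw [solvable_closure_iff hF hm hp]
  obtain ⟨a, b, rfl⟩ := (mem_Qz hF x).mp hxQ
  have hab : ¬ (a = 0 ∧ b = 0) := by
    rintro ⟨rfl, rfl⟩
    exact hx1 (Ts_one hF)
  constructor
  · rintro (⟨P, hxP, hzP⟩ | ⟨g, hg, hodd, hxg, hzg⟩)
    · left
      have := Ts_fix_only hF hab hxP
      subst this
      exact MulAction.mem_stabilizer_iff.mpr hzP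
    · right
      exact ⟨Tor g, ⟨g, hg, hodd, rfl⟩, hxg, hzg⟩
  · rintro (hz | ⟨T, ⟨g, hg, hodd, rfl⟩, hxT, hzT⟩)
    · left
      exact ⟨pt hF none, Ts_inf hF a b, MulAction.mem_stabilizer_iff.mp hz⟩
    · right
      exact ⟨g, hg, hodd, hxT, hzT⟩

/-- two different tori normalised by `t` have normalisers meeting inside the Borel subgroup -/
theorem NT_inter (hm : 1 ≤ m) {e : F} (he : e ≠ 0) {T T' : Subgroup (Cfsg.Sz F m)}
    (hT : IsTorus T) (hT' : IsTorus T') (hne : T ≠ T')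
    (ht : Ts hF 0 e ∈ Subgroup.normalizer (T : Set (Cfsg.Sz F m)))
    (ht' : Ts hF 0 e ∈ Subgroup.normalizer (T' : Set (Cfsg.Sz F m))) {z : Cfsg.Sz F m}
    (hz : z ∈ Subgroup.normalizer (T : Set (Cfsg.Sz F m)))
    (hz' : z ∈ Subgroup.normalizer (T' : Set (Cfsg.Sz F m))) : z ∈ Bz hF := by
  have hts : Ts hF 0 e * Ts hF 0 e = 1 := Ts0_mul_self hF e
  have ht1 : Ts hF 0 e ≠ 1 := Ts0_ne_one hF he
  obtain ⟨g, hg, hodd, rfl⟩ := hT
  obtain ⟨g', hg', hodd', rfl⟩ := hT'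
  have hs : z * Ts hF 0 e * z⁻¹ * (z * Ts hF 0 e * z⁻¹) = 1 := conj_invol hts
  have hs1 : z * Ts hF 0 e * z⁻¹ ≠ 1 := conj_ne_one' ht1
  have hsN : z * Ts hF 0 e * z⁻¹ ∈ NTor g :=
    (NTor g).mul_mem ((NTor g).mul_mem hz ht) ((NTor g).inv_mem hz)
  have hsN' : z * Ts hF 0 e * z⁻¹ ∈ NTor g' :=
    (NTor g').mul_mem ((NTor g').mul_mem hz' ht') ((NTor g').inv_mem hz')
  have hv := invol_mul_mem hF hm hg hodd ht hts ht1 hsN hs hs1
  have hv' := invol_mul_mem hF hm hg' hodd' ht' hts ht1 hsN' hs hs1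
  have hv1 : Ts hF 0 e * (z * Ts hF 0 e * z⁻¹) = 1 := by
    by_contra h
    exact hne (IsTorus.eq_of_mem hF hm ⟨g, hg, hodd, rfl⟩ ⟨g', hg', hodd', rfl⟩ hv hv' h)
  have h3 := eq_inv_of_mul_eq_one_right hv1
  rw [Cfsg.Agent.S2240.Ts0_inv] at h3
  apply Qz_le_Bz hF
  apply cent_Ts hF hm (a := 0) (b := e) (by rintro ⟨-, h⟩; exact he h)
  calc z * Ts hF 0 e = (z * Ts hF 0 e * z⁻¹) * z := by group
    _ = Ts hF 0 e * z := by rw [h3]

/-- the tori normalised by `x` -/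
noncomputable def torN (x : Cfsg.Sz F m) : Finset (Subgroup (Cfsg.Sz F m)) :=
  (Set.toFinite {T : Subgroup (Cfsg.Sz F m) | IsTorus T ∧
    x ∈ Subgroup.normalizer (T : Set (Cfsg.Sz F m))}).toFinset

theorem mem_torN (x : Cfsg.Sz F m) (T : Subgroup (Cfsg.Sz F m)) :
    T ∈ torN x ↔ IsTorus T ∧ x ∈ Subgroup.normalizer (T : Set (Cfsg.Sz F m)) := by
  simp [torN]

/-- the part of a torus normaliser outside the Borel subgroup -/
noncomputable def outB (T : Subgroup (Cfsg.Sz F m)) : ℕ :=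
  Nat.card {z : Cfsg.Sz F m // z ∈ Subgroup.normalizer (T : Set (Cfsg.Sz F m)) ∧ z ∉ Bz hF}

/-- the decomposition of the solubilizer of a 2-element -/
theorem card_sol_eq (hm : 1 ≤ m) (hp : (2 * m + 1).Prime) {e : F} (he : e ≠ 0) {x : Cfsg.Sz F m}
    (hxQ : x ∈ Qz hF) (hx1 : x ≠ 1)
    (hxt : ∀ T : Subgroup (Cfsg.Sz F m), x ∈ Subgroup.normalizer (T : Set (Cfsg.Sz F m)) →
      Ts hF 0 e ∈ Subgroup.normalizer (T : Set (Cfsg.Sz F m))) :
    Nat.card {z : Cfsg.Sz F m //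
        Group.IsSolvable (Subgroup.closure ({x, z} : Set (Cfsg.Sz F m)))} =
      Nat.card (Bz hF) + ∑ T ∈ torN x, outB hF T := by
  classical
  have hset : {z : Cfsg.Sz F m |
      Group.IsSolvable (Subgroup.closure ({x, z} : Set (Cfsg.Sz F m)))} =
      ((Bz hF : Subgroup (Cfsg.Sz F m)) : Set (Cfsg.Sz F m)) ∪
        {z : Cfsg.Sz F m | ∃ T ∈ torN x,
          z ∈ Subgroup.normalizer (T : Set (Cfsg.Sz F m)) ∧ z ∉ Bz hF} := by
    ext z
    rw [Set.mem_ofPred_eq, sol_iff_of_Qz hF hm hp hxQ hx1]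
    constructor
    · rintro (h | ⟨T, hT, hxT, hzT⟩)
      · left; exact h
      · by_cases hB : z ∈ Bz hF
        · left; exact hB
        · right; exact ⟨T, (mem_torN x T).mpr ⟨hT, hxT⟩, hzT, hB⟩
    · rintro (h | ⟨T, hT, hzT, -⟩)
      · left; exact h
      · right
        obtain ⟨h1, h2⟩ := (mem_torN x T).mp hT
        exact ⟨T, h1, h2, hzT⟩
  have hdisj : Disjoint ((Bz hF : Subgroup (Cfsg.Sz F m)) : Set (Cfsg.Sz F m))
      {z : Cfsg.Sz F m | ∃ T ∈ torN x,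
          z ∈ Subgroup.normalizer (T : Set (Cfsg.Sz F m)) ∧ z ∉ Bz hF} := by
    rw [Set.disjoint_left]
    rintro z hz ⟨T, -, -, h⟩
    exact h hz
  have h1 := Set.ncard_union_eq hdisj (Set.toFinite _) (Set.toFinite _)
  rw [← hset] at h1
  have h2 : {z : Cfsg.Sz F m | ∃ T ∈ torN x,
      z ∈ Subgroup.normalizer (T : Set (Cfsg.Sz F m)) ∧ z ∉ Bz hF}.ncard =
      ∑ T ∈ torN x, outB hF T := by
    rw [Set.ncard_eq_toFinset_card _ (Set.toFinite _)]
    have e1 : (Set.toFinite {z : Cfsg.Sz F m | ∃ T ∈ torN x,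
        z ∈ Subgroup.normalizer (T : Set (Cfsg.Sz F m)) ∧ z ∉ Bz hF}).toFinset =
        (torN x).biUnion (fun T => (Set.toFinite {z : Cfsg.Sz F m |
          z ∈ Subgroup.normalizer (T : Set (Cfsg.Sz F m)) ∧ z ∉ Bz hF}).toFinset) := by
      ext z
      simp only [Set.Finite.mem_toFinset, Set.mem_ofPred_eq, Finset.mem_biUnion]
    rw [e1, Finset.card_biUnion]
    · apply Finset.sum_congr rfl
      intro T _
      exact (natCard_eq_toFinset_card _).symm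
    · intro T hT T' hT' hne
      have hT := Finset.mem_coe.mp hT
      have hT' := Finset.mem_coe.mp hT'
      show Disjoint _ _
      rw [Finset.disjoint_left]
      intro z hz hz'
      simp only [Set.Finite.mem_toFinset, Set.mem_ofPred_eq] at hz hz'
      obtain ⟨h1, h2⟩ := (mem_torN x T).mp hT
      obtain ⟨h1', h2'⟩ := (mem_torN x T').mp hT'
      exact hz.2 (NT_inter hF hm he h1 h1' hne (hxt T h2) (hxt T' h2') hz.1 hz'.1)
  rw [← h2]
  exact h1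

end Cfsg.Agent.Lib.Helper13.SzSol
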