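/- helper13: Suzuki groups `Sz F m`: the solubilizer of an involution (towards S2259). -/
import Cfsg.Agent.Lib.Helper13.SzSolF

set_option autoImplicit false

namespace Cfsg.Agent.Lib.Helper13.SzSol

open Cfsg.Agent.Lib.Helper15.SuzukiAlg Cfsg.Agent.Lib.Helper15.SuzukiOvoid
  Cfsg.Agent.Lib.Helper15.SuzukiForm Cfsg.Agent.Lib.Helper15.SuzukiMat
  Cfsg.Agent.Lib.Helper15.SuzukiGroup Cfsg.Agent.Lib.Helper15.SuzukiOrder
  Cfsg.Agent.Lib.Helper15.SuzukiSylow Cfsg.Agent.Lib.Helper15.SuzukiZassenhaus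
  Cfsg.Agent.Lib.Helper15.SuzukiBorel Cfsg.Agent.Lib.Helper15.SuzukiElements
  Cfsg.Agent.Lib.Helper15.SuzukiFpf Cfsg.Agent.Lib.Helper15.SuzukiField
  Cfsg.Agent.Lib.Helper15.SuzukiTori Cfsg.Agent.S2410 Cfsg.Agent.S2247 Cfsg.Agent.S2238
  Cfsg.Agent.Lib.Helper18.SzFixity Cfsg.Agent.Lib.Helper13.SzSub

variable {F : Type*} [Field F] [Fintype F] {m : ℕ} (hF : Fintype.card F = 2 ^ (2 * m + 1))

/-- the number of square roots of `t = Ts 0 e` in the normaliser of `T` -/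
noncomputable def sqT (e : F) (T : Subgroup (Cfsg.Sz F m)) : ℕ :=
  Nat.card {y : Cfsg.Sz F m // y ∈ Subgroup.normalizer (T : Set (Cfsg.Sz F m)) ∧
    y * y = Ts hF 0 e}

/-- the numerical data of a torus normalised by `t` -/
theorem torus_data (hm : 1 ≤ m) {e : F} (he : e ≠ 0) {T : Subgroup (Cfsg.Sz F m)}
    (hT : IsTorus T) (ht : Ts hF 0 e ∈ Subgroup.normalizer (T : Set (Cfsg.Sz F m))) :
    (Nat.card T = 2 ^ (2 * m + 1) - 1 ∧ outB hF T = 2 * (2 ^ (2 * m + 1) - 2) ∧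
      sqT hF e T = 0) ∨
    (Nat.card T = 2 ^ (2 * m + 1) + 2 ^ (m + 1) + 1 ∧
      outB hF T = 4 * (2 ^ (2 * m + 1) + 2 ^ (m + 1)) ∧ sqT hF e T = 2) ∨
    (Nat.card T = 2 ^ (2 * m + 1) - 2 ^ (m + 1) + 1 ∧
      outB hF T = 4 * (2 ^ (2 * m + 1) - 2 ^ (m + 1)) ∧ sqT hF e T = 2) := by
  obtain ⟨h8, h4, hr, -, -⟩ := torus_arith m hm
  have hcases := IsTorus.card_cases hF hm hT
  obtain ⟨g, hg, hodd, rfl⟩ := hT
  have h1 := card_DT hF hm hg hodd he ht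
  have h2 := card_sqrt_t hF hm hg hodd he ht
  have h3 := card_NTor_diff hF hm hg hodd he ht
  have hpos : 0 < Nat.card (Tor g) := Nat.card_pos
  change outB hF (Tor g) + Nat.card (DT hF g) = Nat.card (NTor g) at h3
  change sqT hF e (Tor g) + 2 = Nat.card (DT hF g) at h2
  rcases hcases with ⟨hc, hn⟩ | ⟨hc, hn⟩
  · left
    have hD : Nat.card (DT hF g) = 2 := by
      apply Nat.eq_of_mul_eq_mul_left hpos
      rw [h1]; exact hn.trans (mul_comm _ _)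
    refine ⟨hc, ?_, ?_⟩
    · rw [hD] at h3
      have : Nat.card (NTor g) = 2 * Nat.card (Tor g) := hn
      rw [this, hc] at h3
      omega
    · omega
  · have hD : Nat.card (DT hF g) = 4 := by
      apply Nat.eq_of_mul_eq_mul_left hpos
      rw [h1]; exact hn.trans (mul_comm _ _)
    have hn' : Nat.card (NTor g) = 4 * Nat.card (Tor g) := hn
    rw [hD] at h3 h2
    rcases hc with hc | hc
    · right; left
      refine ⟨hc, ?_, by omega⟩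
      rw [hn', hc] at h3
      omega
    · right; right
      refine ⟨hc, ?_, by omega⟩
      rw [hn', hc] at h3
      omega

/-- the number of tori of each order normalised by `t` -/
theorem count_k (hm : 1 ≤ m) {e : F} (he : e ≠ 0) {d w : ℕ}
    (hex : ∃ T : Subgroup (Cfsg.Sz F m), IsTorus T ∧ Nat.card T = d ∧
      Nat.card (Subgroup.normalizer (T : Set (Cfsg.Sz F m))) = w * d) :
    ((torN (Ts hF 0 e)).filter (fun T : Subgroup (Cfsg.Sz F m) => Nat.card T = d)).card * w = (2 ^ (2 * m + 1)) ^ 2 := by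
  classical
  obtain ⟨T₀, hT₀, hd, hn⟩ := hex
  have key := count_tori hF hm he hT₀
  have hpos : 0 < d := hd ▸ Nat.card_pos
  have e1 : Nat.card {S : Subgroup (Cfsg.Sz F m) // IsTorus S ∧ Nat.card S = Nat.card T₀ ∧
      Ts hF 0 e ∈ Subgroup.normalizer (S : Set (Cfsg.Sz F m))} =
      ((torN (Ts hF 0 e)).filter (fun T : Subgroup (Cfsg.Sz F m) => Nat.card T = d)).card := by
    rw [natCard_eq_toFinset_card]
    congr 1
    ext S
    simp only [Set.Finite.mem_toFinset, Set.mem_ofPred_eq, Finset.mem_filter, mem_torN, hd]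
    tauto
  rw [e1, hn, hd] at key
  apply Nat.eq_of_mul_eq_mul_right hpos
  rw [mul_assoc, key, mul_comm]

theorem count_k_all (hm : 1 ≤ m) {e : F} (he : e ≠ 0) :
    ((torN (Ts hF 0 e)).filter (fun T : Subgroup (Cfsg.Sz F m) => Nat.card T = 2 ^ (2 * m + 1) - 1)).card * 2 =
      (2 ^ (2 * m + 1)) ^ 2 ∧
    ((torN (Ts hF 0 e)).filter
      (fun T : Subgroup (Cfsg.Sz F m) => Nat.card T = 2 ^ (2 * m + 1) + 2 ^ (m + 1) + 1)).card * 4 =
      (2 ^ (2 * m + 1)) ^ 2 ∧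
    ((torN (Ts hF 0 e)).filter
      (fun T : Subgroup (Cfsg.Sz F m) => Nat.card T = 2 ^ (2 * m + 1) - 2 ^ (m + 1) + 1)).card * 4 =
      (2 ^ (2 * m + 1)) ^ 2 := by
  obtain ⟨n1, n2, n3⟩ := torus_orders_ne m hm
  obtain ⟨⟨T₀, hT₀, hd₀⟩, ⟨T₁, hT₁, hd₁⟩, ⟨T₂, hT₂, hd₂⟩⟩ := exists_torus hF hm
  refine ⟨count_k hF hm he ⟨T₀, hT₀, hd₀, ?_⟩, count_k hF hm he ⟨T₁, hT₁, hd₁, ?_⟩,
    count_k hF hm he ⟨T₂, hT₂, hd₂, ?_⟩⟩
  · rcases IsTorus.card_cases hF hm hT₀ with ⟨-, h⟩ | ⟨h | h, -⟩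
    · rw [h, hd₀]
    · exact absurd (hd₀.symm.trans h) n1
    · exact absurd (hd₀.symm.trans h) n2
  · rcases IsTorus.card_cases hF hm hT₁ with ⟨h, -⟩ | ⟨-, h⟩
    · exact absurd (h.symm.trans hd₁) n1
    · rw [h, hd₁]
  · rcases IsTorus.card_cases hF hm hT₂ with ⟨h, -⟩ | ⟨-, h⟩
    · exact absurd (h.symm.trans hd₂) n2
    · rw [h, hd₂]

/-- summing a class function over the tori normalised by `t` -/
theorem sum_torN (hm : 1 ≤ m) {e : F} (φ : Subgroup (Cfsg.Sz F m) → ℕ) (c₀ c₁ c₂ : ℕ)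
    (h : ∀ T ∈ torN (Ts hF 0 e), (Nat.card T = 2 ^ (2 * m + 1) - 1 ∧ φ T = c₀) ∨
      (Nat.card T = 2 ^ (2 * m + 1) + 2 ^ (m + 1) + 1 ∧ φ T = c₁) ∨
      (Nat.card T = 2 ^ (2 * m + 1) - 2 ^ (m + 1) + 1 ∧ φ T = c₂)) :
    ∑ T ∈ torN (Ts hF 0 e), φ T =
      ((torN (Ts hF 0 e)).filter (fun T : Subgroup (Cfsg.Sz F m) => Nat.card T = 2 ^ (2 * m + 1) - 1)).card * c₀ +
      ((torN (Ts hF 0 e)).filter
        (fun T : Subgroup (Cfsg.Sz F m) => Nat.card T = 2 ^ (2 * m + 1) + 2 ^ (m + 1) + 1)).card * c₁ +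
      ((torN (Ts hF 0 e)).filter
        (fun T : Subgroup (Cfsg.Sz F m) => Nat.card T = 2 ^ (2 * m + 1) - 2 ^ (m + 1) + 1)).card * c₂ := by
  classical
  obtain ⟨n1, n2, n3⟩ := torus_orders_ne m hm
  have hmaps : ∀ T ∈ torN (Ts hF 0 e), Nat.card T ∈
      ({2 ^ (2 * m + 1) - 1, 2 ^ (2 * m + 1) + 2 ^ (m + 1) + 1,
        2 ^ (2 * m + 1) - 2 ^ (m + 1) + 1} : Finset ℕ) := by
    intro T hT
    rw [Finset.mem_insert, Finset.mem_insert, Finset.mem_singleton]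
    rcases h T hT with ⟨h, -⟩ | ⟨h, -⟩ | ⟨h, -⟩
    · exact Or.inl h
    · exact Or.inr (Or.inl h)
    · exact Or.inr (Or.inr h)
  rw [← Finset.sum_fiberwise_of_maps_to hmaps]
  rw [Finset.sum_insert (by simp only [Finset.mem_insert, Finset.mem_singleton]; tauto),
    Finset.sum_insert (by simp only [Finset.mem_singleton]; exact n3), Finset.sum_singleton]
  have hc : ∀ (d c : ℕ), (∀ T ∈ torN (Ts hF 0 e), Nat.card T = d → φ T = c) →
      ∑ T ∈ (torN (Ts hF 0 e)).filter (fun T : Subgroup (Cfsg.Sz F m) => Nat.card T = d), φ T =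
        ((torN (Ts hF 0 e)).filter
          (fun T : Subgroup (Cfsg.Sz F m) => Nat.card T = d)).card * c := by
    intro d c hdc
    rw [Finset.sum_congr rfl (fun T hT => hdc T (Finset.mem_filter.mp hT).1
      (Finset.mem_filter.mp hT).2), Finset.sum_const, smul_eq_mul]
  have h0 := hc (2 ^ (2 * m + 1) - 1) c₀ (by
    intro T hT hd
    rcases h T hT with ⟨h, h'⟩ | ⟨h, h'⟩ | ⟨h, h'⟩
    · exact h'
    · exact absurd (hd.symm.trans h) n1
    · exact absurd (hd.symm.trans h) n2)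
  have h1 := hc (2 ^ (2 * m + 1) + 2 ^ (m + 1) + 1) c₁ (by
    intro T hT hd
    rcases h T hT with ⟨h, h'⟩ | ⟨h, h'⟩ | ⟨h, h'⟩
    · exact absurd (h.symm.trans hd) n1
    · exact h'
    · exact absurd (hd.symm.trans h) n3)
  have h2 := hc (2 ^ (2 * m + 1) - 2 ^ (m + 1) + 1) c₂ (by
    intro T hT hd
    rcases h T hT with ⟨h, h'⟩ | ⟨h, h'⟩ | ⟨h, h'⟩
    · exact absurd (h.symm.trans hd) n2
    · exact absurd (h.symm.trans hd) n3
    · exact h')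
  rw [h0, h1, h2]
  exact (add_assoc _ _ _).symm

/-- **the solubilizer of an involution** -/
theorem card_sol_invol (hm : 1 ≤ m) (hp : (2 * m + 1).Prime) {e : F} (he : e ≠ 0) :
    Nat.card {z : Cfsg.Sz F m //
        Group.IsSolvable (Subgroup.closure ({Ts hF 0 e, z} : Set (Cfsg.Sz F m)))} =
      (2 ^ (2 * m + 1)) ^ 2 * (4 * 2 ^ (2 * m + 1) - 3) := by
  obtain ⟨h8, h4, hr, -, -⟩ := torus_arith m hm
  rw [card_sol_eq hF hm hp he ((mem_Qz hF _).mpr ⟨0, e, rfl⟩) (Ts0_ne_one hF he) (fun T h => h),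
    card_Bz hF hm]
  rw [sum_torN hF hm (outB hF) (2 * (2 ^ (2 * m + 1) - 2)) (4 * (2 ^ (2 * m + 1) + 2 ^ (m + 1)))
    (4 * (2 ^ (2 * m + 1) - 2 ^ (m + 1)))]
  · obtain ⟨k0, k1, k2⟩ := count_k_all hF hm he
    rw [← mul_assoc, ← mul_assoc, ← mul_assoc, k0, k1, k2]
    have e1 : 2 ^ (2 * m + 1) - 1 + (2 ^ (2 * m + 1) - 2) + (2 ^ (2 * m + 1) + 2 ^ (m + 1)) +
        (2 ^ (2 * m + 1) - 2 ^ (m + 1)) = 4 * 2 ^ (2 * m + 1) - 3 := by omega
    rw [← e1]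
    ring
  · intro T hT
    obtain ⟨h1, h2⟩ := (mem_torN _ T).mp hT
    rcases torus_data hF hm he h1 h2 with ⟨a, b, -⟩ | ⟨a, b, -⟩ | ⟨a, b, -⟩
    · exact Or.inl ⟨a, b⟩
    · exact Or.inr (Or.inl ⟨a, b⟩)
    · exact Or.inr (Or.inr ⟨a, b⟩)

end Cfsg.Agent.Lib.Helper13.SzSol
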