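/- helper13: Suzuki groups `Sz F m`: the solubilizer of an element of order 4 (towards S2259). -/
import Cfsg.Agent.Lib.Helper13.SzSolG

set_option autoImplicit false

namespace Cfsg.Agent.Lib.Helper13.SzSol

open Cfsg.Agent.Lib.Helper15.SuzukiAlg Cfsg.Agent.Lib.Helper15.SuzukiOvoid
  Cfsg.Agent.Lib.Helper15.SuzukiForm Cfsg.Agent.Lib.Helper15.SuzukiMat
  Cfsg.Agent.Lib.Helper15.SuzukiGroup Cfsg.Agent.Lib.Helper15.SuzukiOrder
  Cfsg.Agent.Lib.Helper15.SuzukiSylow Cfsg.Agent.Lib.Helper15.SuzukiZassenhaus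
  Cfsg.Agent.Lib.Helper15.SuzukiBorel Cfsg.Agent.Lib.Helper15.SuzukiElements
  Cfsg.Agent.Lib.Helper15.SuzukiFpf Cfsg.Agent.Lib.Helper15.SuzukiField
  Cfsg.Agent.Lib.Helper15.SuzukiTori Cfsg.Agent.S2410 Cfsg.Agent.S2247 Cfsg.Agent.S2238
  Cfsg.Agent.Lib.Helper18.SzFixity Cfsg.Agent.Lib.Helper13.SzSub

/-! ### invariance of the solubilizer -/

theorem sol_equiv {G G' : Type*} [Group G] [Group G'] (φ : G ≃* G') (x y : G) :
    Group.IsSolvable (Subgroup.closure ({φ x, φ y} : Set G')) ↔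
      Group.IsSolvable (Subgroup.closure ({x, y} : Set G)) := by
  have h : Subgroup.closure ({φ x, φ y} : Set G') =
      (Subgroup.closure ({x, y} : Set G)).map φ.toMonoidHom := by
    rw [MonoidHom.map_closure, Set.image_pair]
    rfl
  rw [h]
  have e := (Subgroup.closure ({x, y} : Set G)).equivMapOfInjective φ.toMonoidHom φ.injective
  constructor
  · intro hs
    exact Group.isSolvable_of_isSolvable_injective (f := e.toMonoidHom) e.injective
  · intro hs
    exact Group.isSolvable_of_isSolvable_injective (f := e.symm.toMonoidHom) e.symm.injective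

theorem card_sol_equiv {G G' : Type*} [Group G] [Group G'] (φ : G ≃* G') (x : G) :
    Nat.card {z' : G' // Group.IsSolvable (Subgroup.closure ({φ x, z'} : Set G'))} =
      Nat.card {z : G // Group.IsSolvable (Subgroup.closure ({x, z} : Set G))} := by
  symm
  exact Nat.card_congr (Equiv.subtypeEquiv φ.toEquiv (fun z => (sol_equiv φ x z).symm))

theorem card_sol_conj {G : Type*} [Group G] (c x : G) :
    Nat.card {z : G // Group.IsSolvable (Subgroup.closure ({c * x * c⁻¹, z} : Set G))} =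
      Nat.card {z : G // Group.IsSolvable (Subgroup.closure ({x, z} : Set G))} := by
  have := card_sol_equiv (MulAut.conj c) x
  rwa [MulAut.conj_apply] at this

theorem closure_inv_pair {G : Type*} [Group G] (x z : G) :
    Subgroup.closure ({x⁻¹, z} : Set G) = Subgroup.closure {x, z} := by
  apply le_antisymm <;> rw [Subgroup.closure_le] <;> rintro w (rfl | rfl)
  · exact (Subgroup.closure _).inv_mem (Subgroup.subset_closure (Set.mem_insert _ _))
  · exact Subgroup.subset_closure (Set.mem_insert_of_mem _ rfl)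
  · have := (Subgroup.closure ({w⁻¹, z} : Set G)).inv_mem
      (Subgroup.subset_closure (Set.mem_insert w⁻¹ _))
    rwa [inv_inv] at this
  · exact Subgroup.subset_closure (Set.mem_insert_of_mem _ rfl)

theorem card_sol_inv {G : Type*} [Group G] (x : G) :
    Nat.card {z : G // Group.IsSolvable (Subgroup.closure ({x⁻¹, z} : Set G))} =
      Nat.card {z : G // Group.IsSolvable (Subgroup.closure ({x, z} : Set G))} := by
  refine Nat.card_congr (Equiv.subtypeEquivRight (fun z => ?_))
  rw [closure_inv_pair]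

variable {F : Type*} [Field F] [Fintype F] {m : ℕ} (hF : Fintype.card F = 2 ^ (2 * m + 1))

/-! ### a field lemma -/

include hF in
theorem sig_fixed {l : F} (h : sig (two_eq_zero hF) m l = l) : l = 0 ∨ l = 1 := by
  have h1 := sig_sig (two_eq_zero hF) hF l
  rw [h, h] at h1
  have h2 : l * (l - 1) = 0 := by rw [mul_sub, mul_one, ← sq, ← h1, sub_self]
  rcases mul_eq_zero.mp h2 with h | h
  · left; exact h
  · right; exact sub_eq_zero.mp h

/-- the additive map `c ↦ σ(c) a + σ(a) c` -/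
def psi (a : F) : F →+ F where
  toFun c := sig (two_eq_zero hF) m c * a + sig (two_eq_zero hF) m a * c
  map_zero' := by simp
  map_add' c c' := by rw [map_add]; ring

theorem psi_apply (a c : F) :
    psi hF a c = sig (two_eq_zero hF) m c * a + sig (two_eq_zero hF) m a * c := rfl

theorem psi_ker {a : F} (ha : a ≠ 0) (c : F) : psi hF a c = 0 ↔ c = 0 ∨ c = a := by
  have h2 := two_eq_zero hF
  have hsa : sig h2 m a ≠ 0 := fun h => ha ((map_eq_zero _).mp h)
  rw [psi_apply]
  constructor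
  · intro h
    have h1 := eq_of_add_eq_zero h2 h
    have h3 : sig h2 m (c / a) = c / a := by
      rw [map_div₀, div_eq_div_iff hsa ha, h1]; ring
    rcases sig_fixed hF h3 with h4 | h4
    · left
      rcases div_eq_zero_iff.mp h4 with h5 | h5
      · exact h5
      · exact absurd h5 ha
    · right
      exact (div_eq_one_iff_eq ha).mp h4
  · rintro (rfl | rfl)
    · simp
    · exact add_self h2 _

theorem psi_ne {a : F} (ha : a ≠ 0) (c : F) : psi hF a c ≠ a * sig (two_eq_zero hF) m a := by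
  have h2 := two_eq_zero hF
  have hsa : sig h2 m a ≠ 0 := fun h => ha ((map_eq_zero _).mp h)
  rw [psi_apply]
  intro h
  have h3 : sig h2 m (c / a) = c / a + 1 := by
    rw [map_div₀]
    field_simp
    have := add_self h2 (c * sig h2 m a)
    linear_combination h - this
  have h4 : sig h2 m (sig h2 m (c / a)) = c / a := by
    rw [h3, map_add, map_one, h3, add_assoc, add_self h2, add_zero]
  rw [sig_sig h2 hF] at h4
  have h5 : sig h2 m (c / a) = c / a := by
    have h6 : (c / a) * (c / a - 1) = 0 := by rw [mul_sub, mul_one, ← sq, h4, sub_self]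
    rcases mul_eq_zero.mp h6 with h | h
    · rw [h, map_zero]
    · rw [sub_eq_zero.mp h, map_one]
  rw [h5] at h3
  have : (1 : F) = 0 := by linear_combination -h3
  exact one_ne_zero this

theorem psi_cover {a : F} (ha : a ≠ 0) (β : F) :
    ∃ c : F, β = psi hF a c ∨ β = psi hF a c + a * sig (two_eq_zero hF) m a := by
  have h2 := two_eq_zero hF
  have hker : Nat.card (psi hF a).ker = 2 := by
    have hset : (((psi hF a).ker : AddSubgroup F) : Set F) = {0, a} := by
      ext c
      rw [SetLike.mem_coe, AddMonoidHom.mem_ker, psi_ker hF ha]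
      simp
    have := Set.ncard_pair (Ne.symm ha)
    rw [← hset] at this
    exact this
  have h1 := AddSubgroup.card_mul_index (psi hF a).ker
  rw [AddSubgroup.index_ker, hker] at h1
  have h3 := AddSubgroup.card_mul_index (psi hF a).range
  have hpos : 0 < Nat.card (psi hF a).range := Nat.card_pos
  have hidx : (psi hF a).range.index = 2 := by
    apply Nat.eq_of_mul_eq_mul_left hpos
    rw [h3, ← h1, mul_comm]
  obtain ⟨a₀, ha₀, hall⟩ := AddSubgroup.index_eq_two_iff_exists_notMem_and.mp hidx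
  have hα : a * sig h2 m a + a₀ ∈ (psi hF a).range := by
    rcases hall (a * sig h2 m a) with h | ⟨c, hc⟩
    · exact h
    · exact absurd hc (psi_ne hF ha c)
  rcases hall β with h | ⟨c, hc⟩
  · have h4 := (psi hF a).range.add_mem h hα
    have e1 : β + a₀ + (a * sig h2 m a + a₀) = β + a * sig h2 m a := by
      have := add_self h2 a₀
      linear_combination this
    rw [e1] at h4
    obtain ⟨c, hc⟩ := h4
    refine ⟨c, Or.inr ?_⟩
    rw [hc]
    have := add_self h2 (a * sig h2 m a)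
    linear_combination -this
  · exact ⟨c, Or.inl hc.symm⟩

/-- the square roots of `Ts 0 (σ a · a)` are conjugate to `Ts a b` or its inverse -/
theorem sqrt_conj {a : F} (ha : a ≠ 0) (b b' : F) :
    ∃ c : Cfsg.Sz F m, Ts hF a b' = c * Ts hF a b * c⁻¹ ∨ Ts hF a b' = c * (Ts hF a b)⁻¹ * c⁻¹ := by
  have h2 := two_eq_zero hF
  obtain ⟨c, hc | hc⟩ := psi_cover hF ha (b' + b)
  · refine ⟨Ts hF c 0, Or.inl ?_⟩
    rw [Ts_conj]
    congr 1
    rw [psi_apply] at hc
    have := add_self h2 b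
    linear_combination hc - this
  · refine ⟨Ts hF c 0, Or.inr ?_⟩
    rw [Ts_inv, Ts_conj]
    congr 1
    rw [psi_apply] at hc
    have := add_self h2 b
    linear_combination hc - this

theorem sqrt_iff (hm : 1 ≤ m) {a : F} (ha : a ≠ 0) (y : Cfsg.Sz F m) :
    y * y = Ts hF 0 (sig (two_eq_zero hF) m a * a) ↔ ∃ b' : F, y = Ts hF a b' := by
  have h0 : sig (two_eq_zero hF) m a * a ≠ 0 := by
    intro h
    rcases mul_eq_zero.mp h with h' | h'
    · exact ha ((map_eq_zero _).mp h')
    · exact ha h'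
  constructor
  · intro h
    have hy : y ∈ Qz hF := by
      apply cent_Ts hF hm (a := 0) (b := sig (two_eq_zero hF) m a * a)
        (by rintro ⟨-, h⟩; exact h0 h)
      rw [← h, mul_assoc]
    obtain ⟨a', b', rfl⟩ := (mem_Qz hF y).mp hy
    rw [Ts_mul_self] at h
    have := sig_mul_self_inj hF (Ts_inj hF h).2
    subst this
    exact ⟨b', rfl⟩
  · rintro ⟨b', rfl⟩
    exact Ts_mul_self hF a b'

theorem card_sqrt (hm : 1 ≤ m) {a : F} (ha : a ≠ 0) :
    Nat.card {y : Cfsg.Sz F m // y * y = Ts hF 0 (sig (two_eq_zero hF) m a * a)} =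
      2 ^ (2 * m + 1) := by
  rw [← hF, ← Nat.card_eq_fintype_card]
  symm
  refine Nat.card_congr (Equiv.ofBijective
    (fun b' : F => (⟨Ts hF a b', (sqrt_iff hF hm ha _).mpr ⟨b', rfl⟩⟩ :
      {y : Cfsg.Sz F m // y * y = Ts hF 0 (sig (two_eq_zero hF) m a * a)})) ⟨?_, ?_⟩)
  · intro b₁ b₂ h
    have h1 : Ts hF a b₁ = Ts hF a b₂ := congrArg Subtype.val h
    exact (Ts_inj hF h1).2
  · rintro ⟨y, hy⟩
    obtain ⟨b', rfl⟩ := (sqrt_iff hF hm ha y).mp hy
    exact ⟨b', rfl⟩

theorem arith_four (Q R K0 K1 K2 : ℕ) (hR : R < Q) (k1 : K1 * 4 = Q ^ 2) (k2 : K2 * 4 = Q ^ 2) :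
    K0 * 0 + K1 * (2 * (4 * (Q + R))) + K2 * (2 * (4 * (Q - R))) = Q * (4 * Q ^ 2) := by
  obtain ⟨A, rfl⟩ : ∃ A, Q = R + A := ⟨Q - R, by omega⟩
  rw [show R + A - R = A by omega]
  linear_combination (2 * (2 * R + A)) * k1 + (2 * A) * k2

/-- **the solubilizer of an element of order 4** -/
theorem card_sol_four (hm : 1 ≤ m) (hp : (2 * m + 1).Prime) {a : F} (ha : a ≠ 0) (b : F) :
    Nat.card {z : Cfsg.Sz F m //
        Group.IsSolvable (Subgroup.closure ({Ts hF a b, z} : Set (Cfsg.Sz F m)))} =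
      (2 ^ (2 * m + 1)) ^ 2 * (2 ^ (2 * m + 1) + 3) := by
  classical
  obtain ⟨h8, h4, hr, -, -⟩ := torus_arith m hm
  have he : sig (two_eq_zero hF) m a * a ≠ 0 := by
    intro h
    rcases mul_eq_zero.mp h with h' | h'
    · exact ha ((map_eq_zero _).mp h')
    · exact ha h'
  set e := sig (two_eq_zero hF) m a * a with hedef
  set N := Nat.card {z : Cfsg.Sz F m //
    Group.IsSolvable (Subgroup.closure ({Ts hF a b, z} : Set (Cfsg.Sz F m)))} with hN
  have hne : ∀ b' : F, Ts hF a b' ≠ 1 := by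
    intro b' h
    rw [← Ts_one hF] at h
    exact ha (Ts_inj hF h).1
  have hconst : ∀ b' : F, Nat.card {z : Cfsg.Sz F m //
      Group.IsSolvable (Subgroup.closure ({Ts hF a b', z} : Set (Cfsg.Sz F m)))} = N := by
    intro b'
    obtain ⟨c, h | h⟩ := sqrt_conj hF ha b b'
    · rw [h, card_sol_conj]
    · rw [h, card_sol_conj, card_sol_inv]
  have hdec : ∀ b' : F, N = Nat.card (Bz hF) + ∑ T ∈ torN (Ts hF a b'), outB hF T := by
    intro b'
    rw [← hconst b']
    apply card_sol_eq hF hm hp he ((mem_Qz hF _).mpr ⟨a, b', rfl⟩) (hne b')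
    intro T hT
    have := (Subgroup.normalizer (T : Set (Cfsg.Sz F m))).mul_mem hT hT
    rwa [Ts_mul_self] at this
  let RF : Finset (Cfsg.Sz F m) :=
    (Set.toFinite {y : Cfsg.Sz F m | y * y = Ts hF 0 e}).toFinset
  have hRF : RF.card = 2 ^ (2 * m + 1) := by
    rw [← card_sqrt hF hm ha]
    exact (natCard_eq_toFinset_card _).symm
  have hmemRF' : ∀ y : Cfsg.Sz F m, y ∈ RF ↔ y * y = Ts hF 0 e := by
    intro y
    simp only [RF, Set.Finite.mem_toFinset, Set.mem_ofPred_eq]
  have hmemRF : ∀ y : Cfsg.Sz F m, y ∈ RF ↔ ∃ b' : F, y = Ts hF a b' := by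
    intro y
    rw [hmemRF', sqrt_iff hF hm ha]
  have hsum : ∑ _y ∈ RF, N =
      ∑ y ∈ RF, (Nat.card (Bz hF) + ∑ T ∈ torN y, outB hF T) := by
    apply Finset.sum_congr rfl
    intro y hy
    obtain ⟨b', rfl⟩ := (hmemRF y).mp hy
    exact hdec b'
  rw [Finset.sum_const, Finset.sum_add_distrib, Finset.sum_const, smul_eq_mul, smul_eq_mul,
    hRF] at hsum
  have hswap : ∑ y ∈ RF, ∑ T ∈ torN y, outB hF T =
      ∑ T ∈ torN (Ts hF 0 e), sqT hF e T * outB hF T := by
    rw [Finset.sum_comm' (s' := fun T => RF.filter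
      (fun y => y ∈ Subgroup.normalizer (T : Set (Cfsg.Sz F m)))) (t' := torN (Ts hF 0 e))]
    · apply Finset.sum_congr rfl
      intro T hT
      rw [Finset.sum_const, smul_eq_mul]
      congr 1
      unfold sqT
      rw [natCard_eq_toFinset_card]
      congr 1
      ext y
      simp only [Finset.mem_filter, hmemRF', Set.Finite.mem_toFinset, Set.mem_ofPred_eq]
      tauto
    · intro y T
      simp only [Finset.mem_filter, mem_torN, hmemRF']
      constructor
      · rintro ⟨hy, hT, hyT⟩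
        refine ⟨⟨hy, hyT⟩, hT, ?_⟩
        rw [← hy]
        exact (Subgroup.normalizer (T : Set (Cfsg.Sz F m))).mul_mem hyT hyT
      · rintro ⟨⟨hy, hyT⟩, hT, -⟩
        exact ⟨hy, hT, hyT⟩
  have heval : ∑ T ∈ torN (Ts hF 0 e), sqT hF e T * outB hF T =
      2 ^ (2 * m + 1) * (4 * (2 ^ (2 * m + 1)) ^ 2) := by
    rw [sum_torN hF hm (fun T => sqT hF e T * outB hF T) 0
      (2 * (4 * (2 ^ (2 * m + 1) + 2 ^ (m + 1)))) (2 * (4 * (2 ^ (2 * m + 1) - 2 ^ (m + 1))))]
    · obtain ⟨k0, k1, k2⟩ := count_k_all hF hm he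
      exact arith_four _ _ _ _ _ hr k1 k2
    · intro T hT
      obtain ⟨h1, h2⟩ := (mem_torN _ T).mp hT
      rcases torus_data hF hm he h1 h2 with ⟨a1, b1, c1⟩ | ⟨a1, b1, c1⟩ | ⟨a1, b1, c1⟩
      · exact Or.inl ⟨a1, by rw [c1, zero_mul]⟩
      · exact Or.inr (Or.inl ⟨a1, by rw [b1, c1]⟩)
      · exact Or.inr (Or.inr ⟨a1, by rw [b1, c1]⟩)
  rw [hswap, heval] at hsum
  have hq : 0 < 2 ^ (2 * m + 1) := by positivity
  have hfin : N = Nat.card (Bz hF) + 4 * (2 ^ (2 * m + 1)) ^ 2 := by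
    apply Nat.eq_of_mul_eq_mul_left hq
    rw [hsum]
    ring
  rw [hfin, card_Bz hF hm]
  have e1 : 2 ^ (2 * m + 1) - 1 + 4 = 2 ^ (2 * m + 1) + 3 := by omega
  rw [← e1]
  ring

end Cfsg.Agent.Lib.Helper13.SzSol
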