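/- helper13: Suzuki groups `Sz F m`: the solubilizers of semisimple elements and the
solubilizer theorem in the ovoid model (towards S2259). -/
import Cfsg.Agent.Lib.Helper13.SzSolH

set_option autoImplicit false

namespace Cfsg.Agent.Lib.Helper13.SzSol

open Cfsg.Agent.Lib.Helper15.SuzukiAlg Cfsg.Agent.Lib.Helper15.SuzukiOvoid
  Cfsg.Agent.Lib.Helper15.SuzukiForm Cfsg.Agent.Lib.Helper15.SuzukiMat
  Cfsg.Agent.Lib.Helper15.SuzukiGroup Cfsg.Agent.Lib.Helper15.SuzukiOrder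
  Cfsg.Agent.Lib.Helper15.SuzukiSylow Cfsg.Agent.Lib.Helper15.SuzukiZassenhaus
  Cfsg.Agent.Lib.Helper15.SuzukiBorel Cfsg.Agent.Lib.Helper15.SuzukiElements
  Cfsg.Agent.Lib.Helper15.SuzukiFpf Cfsg.Agent.Lib.Helper15.SuzukiField
  Cfsg.Agent.Lib.Helper15.SuzukiTori Cfsg.Agent.S2410 Cfsg.Agent.S2247 Cfsg.Agent.S2238
  Cfsg.Agent.Lib.Helper18.SzFixity Cfsg.Agent.Lib.Helper13.SzSub

variable {F : Type*} [Field F] [Fintype F] {m : ℕ} (hF : Fintype.card F = 2 ^ (2 * m + 1))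

/-! ### fixed-point-free elements -/

include hF in
theorem card_sol_fpf (hm : 1 ≤ m) (hp : (2 * m + 1).Prime) {x : Cfsg.Sz F m} (hx : IsFpf x) :
    Nat.card {z : Cfsg.Sz F m //
        Group.IsSolvable (Subgroup.closure ({x, z} : Set (Cfsg.Sz F m)))} =
      Nat.card (NTor x) := by
  refine Nat.card_congr (Equiv.subtypeEquivRight (fun z => ?_))
  rw [solvable_closure_iff hF hm hp]
  constructor
  · rintro (⟨P, hxP, -⟩ | ⟨g, hg, hodd, hxg, hzg⟩)
    · exact absurd hxP (hx P)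
    · have hxT : x ∈ Tor g := mem_cent_of_conj_mem hF hm hg hodd (hx.odd_order hF hm)
        ((Subgroup.mem_normalizer_iff.mp hxg g).mp (mem_Tor_self g))
      have e : Tor x = Tor g := Tor_eq hF hm hg hodd hxT (hx.ne_one hF)
      show z ∈ Subgroup.normalizer ((Tor x : Subgroup (Cfsg.Sz F m)) : Set (Cfsg.Sz F m))
      rw [e]
      exact hzg
  · intro hz
    exact Or.inr ⟨x, hx.ne_one hF, hx.odd_order hF hm,
      Subgroup.le_normalizer (mem_Tor_self x), hz⟩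

theorem qr_identity (m : ℕ) (hm : 1 ≤ m) :
    (2 ^ (2 * m + 1) + 2 ^ (m + 1) + 1) * (2 ^ (2 * m + 1) - 2 ^ (m + 1) + 1) =
      (2 ^ (2 * m + 1)) ^ 2 + 1 := by
  obtain ⟨h8, h4, hr, -, -⟩ := torus_arith m hm
  have hrr : 2 ^ (m + 1) * 2 ^ (m + 1) = 2 * 2 ^ (2 * m + 1) := by
    rw [← pow_add, ← pow_succ']
    congr 1
    omega
  obtain ⟨A, hA⟩ : ∃ A, 2 ^ (2 * m + 1) = 2 ^ (m + 1) + A :=
    ⟨2 ^ (2 * m + 1) - 2 ^ (m + 1), by omega⟩
  have hA' : 2 ^ (2 * m + 1) - 2 ^ (m + 1) = A := by omega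
  rw [hA']
  rw [hA] at hrr ⊢
  generalize 2 ^ (m + 1) = R at *
  linear_combination hrr.symm

include hF in
theorem coprime_pm (hm : 1 ≤ m) :
    Nat.Coprime (2 ^ (2 * m + 1) + 2 ^ (m + 1) + 1) (2 ^ (2 * m + 1) - 2 ^ (m + 1) + 1) := by
  obtain ⟨x₁, x₂, hx₁, hx₂, hd₁, hd₂, -, -, -⟩ := tori hF hm
  obtain ⟨-, -, n3⟩ := torus_orders_ne m hm
  have := coprime_dd hF hm hx₁ hx₂ (by rw [hd₁, hd₂]; exact n3.symm)
  rwa [hd₁, hd₂] at this

include hF in
/-- the torus of a fixed-point-free element -/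
theorem fpf_data (hm : 1 ≤ m) {x : Cfsg.Sz F m} (hx : IsFpf x) :
    (Nat.card (Tor x) = 2 ^ (2 * m + 1) + 2 ^ (m + 1) + 1 ∨
        Nat.card (Tor x) = 2 ^ (2 * m + 1) - 2 ^ (m + 1) + 1) ∧
      Nat.card (NTor x) = 4 * Nat.card (Tor x) ∧ orderOf x ∣ Nat.card (Tor x) := by
  have hdvd : orderOf x ∣ Nat.card (Tor x) := by
    have := orderOf_dvd_natCard (⟨x, mem_Tor_self x⟩ : Tor x)
    rwa [Subgroup.orderOf_mk] at this
  rcases torus_type hF hm (hx.ne_one hF) (hx.odd_order hF hm) with ⟨-, hc, hn⟩ |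
    ⟨⟨k, ν, -, hk⟩, -, -⟩
  · exact ⟨hc, hn, hdvd⟩
  · exfalso
    have := hx.conj k (pt hF none)
    rw [hk] at this
    exact this (Hs_inf hF ν)

include hF in
theorem card_sol_plus (hm : 1 ≤ m) (hp : (2 * m + 1).Prime) {x : Cfsg.Sz F m} (hx1 : x ≠ 1)
    (hd : orderOf x ∣ 2 ^ (2 * m + 1) + 2 ^ (m + 1) + 1) :
    Nat.card {z : Cfsg.Sz F m //
        Group.IsSolvable (Subgroup.closure ({x, z} : Set (Cfsg.Sz F m)))} =
      4 * (2 ^ (2 * m + 1) + 2 ^ (m + 1) + 1) := by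
  have hfpf : IsFpf x := isFpf_of_order_dvd hF hm hx1
    (dvd_trans hd ⟨_, (qr_identity m hm).symm⟩)
  obtain ⟨hc, hn, hdvd⟩ := fpf_data hF hm hfpf
  rw [card_sol_fpf hF hm hp hfpf, hn]
  rcases hc with hc | hc
  · rw [hc]
  · exfalso
    rw [hc] at hdvd
    have := Nat.Coprime.eq_one_of_dvd (Nat.Coprime.coprime_dvd_left hd (coprime_pm hF hm)) hdvd
    exact hx1 (orderOf_eq_one_iff.mp this)

include hF in
theorem card_sol_minus (hm : 1 ≤ m) (hp : (2 * m + 1).Prime) {x : Cfsg.Sz F m} (hx1 : x ≠ 1)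
    (hd : orderOf x ∣ 2 ^ (2 * m + 1) - 2 ^ (m + 1) + 1) :
    Nat.card {z : Cfsg.Sz F m //
        Group.IsSolvable (Subgroup.closure ({x, z} : Set (Cfsg.Sz F m)))} =
      4 * (2 ^ (2 * m + 1) - 2 ^ (m + 1) + 1) := by
  have hfpf : IsFpf x := isFpf_of_order_dvd hF hm hx1
    (dvd_trans hd (Dvd.intro_left _ (qr_identity m hm)))
  obtain ⟨hc, hn, hdvd⟩ := fpf_data hF hm hfpf
  rw [card_sol_fpf hF hm hp hfpf, hn]
  rcases hc with hc | hc
  · exfalso
    rw [hc] at hdvd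
    have := Nat.Coprime.eq_one_of_dvd
      (Nat.Coprime.coprime_dvd_left hd (coprime_pm hF hm).symm) hdvd
    exact hx1 (orderOf_eq_one_iff.mp this)
  · rw [hc]

/-! ### split semisimple elements -/

/-- the stabiliser of the point `0` -/
abbrev Stab0 : Subgroup (Cfsg.Sz F m) :=
  MulAction.stabilizer (Cfsg.Sz F m) (pt hF (some (0, 0)))

theorem card_Stab0 : Nat.card (Stab0 hF) = Nat.card (Bz hF) := by
  have hJJ : ∀ z : Cfsg.Sz F m, Js hF * (Js hF * z * Js hF) * Js hF = z := by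
    intro z
    have : Js hF * (Js hF * z * Js hF) * Js hF = (Js hF * Js hF) * z * (Js hF * Js hF) := by
      group
    rw [this, Js_mul_self, one_mul, mul_one]
  refine Nat.card_congr ⟨fun z => ⟨Js hF * z.1 * Js hF, ?_⟩, fun z => ⟨Js hF * z.1 * Js hF, ?_⟩,
    ?_, ?_⟩
  · rw [MulAction.mem_stabilizer_iff, mul_smul, mul_smul, Js_inf,
      MulAction.mem_stabilizer_iff.mp z.2, Js_zero]
  · rw [MulAction.mem_stabilizer_iff, mul_smul, mul_smul, Js_zero,
      MulAction.mem_stabilizer_iff.mp z.2, Js_inf]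
  · intro z
    exact Subtype.ext (hJJ z.1)
  · intro z
    exact Subtype.ext (hJJ z.1)

theorem card_sol_Hs (hm : 1 ≤ m) (hp : (2 * m + 1).Prime) {ν : Fˣ} (hν : ν ≠ 1) :
    Nat.card {z : Cfsg.Sz F m //
        Group.IsSolvable (Subgroup.closure ({Hs hF ν, z} : Set (Cfsg.Sz F m)))} =
      2 * (2 ^ (2 * m + 1)) ^ 2 * (2 ^ (2 * m + 1) - 1) := by
  set A : Set (Cfsg.Sz F m) := ((Bz hF : Subgroup (Cfsg.Sz F m)) : Set (Cfsg.Sz F m)) with hA
  set B : Set (Cfsg.Sz F m) := ((Stab0 hF : Subgroup (Cfsg.Sz F m)) : Set (Cfsg.Sz F m)) with hB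
  set C : Set (Cfsg.Sz F m) := {z | ∃ μ : Fˣ, z = Js hF * Hs hF μ} with hC
  have hJH_inf : ∀ μ : Fˣ, (Js hF * Hs hF μ) • pt hF none = pt hF (some (0, 0)) := by
    intro μ
    rw [mul_smul, Hs_inf, Js_inf]
  have hJH_zero : ∀ μ : Fˣ, (Js hF * Hs hF μ) • pt hF (some (0, 0)) = pt hF none := by
    intro μ
    rw [mul_smul, Hs_zero, Js_zero]
  have hset : {z : Cfsg.Sz F m |
      Group.IsSolvable (Subgroup.closure ({Hs hF ν, z} : Set (Cfsg.Sz F m)))} = (A ∪ B) ∪ C := by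
    ext z
    rw [Set.mem_ofPred_eq, solvable_closure_iff hF hm hp]
    constructor
    · rintro (⟨P, hxP, hzP⟩ | ⟨g, hg, hodd, hxg, hzg⟩)
      · rcases Hs_fix hF hm hν hxP with rfl | rfl
        · left; left; exact MulAction.mem_stabilizer_iff.mpr hzP
        · left; right; exact MulAction.mem_stabilizer_iff.mpr hzP
      · have hxT : Hs hF ν ∈ Tor g := mem_cent_of_conj_mem hF hm hg hodd (Hs_odd hF hm ν)
          ((Subgroup.mem_normalizer_iff.mp hxg g).mp (mem_Tor_self g))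
        have e : Tor (Hs hF ν) = Tor g := Tor_eq hF hm hg hodd hxT (Hs_ne_one hF hν)
        have hz : z ∈ NTor (Hs hF ν) := by
          show z ∈ Subgroup.normalizer
            ((Tor (Hs hF ν) : Subgroup (Cfsg.Sz F m)) : Set (Cfsg.Sz F m))
          rw [e]
          exact hzg
        rcases (mem_NTor_Hs hF hm hν z).mp hz with ⟨μ, rfl⟩ | ⟨μ, rfl⟩
        · left; left; exact MulAction.mem_stabilizer_iff.mpr (Hs_inf hF μ)
        · right; exact ⟨μ, rfl⟩
    · rintro ((hz | hz) | ⟨μ, rfl⟩)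
      · exact Or.inl ⟨pt hF none, Hs_inf hF ν, MulAction.mem_stabilizer_iff.mp hz⟩
      · exact Or.inl ⟨pt hF (some (0, 0)), Hs_zero hF ν, MulAction.mem_stabilizer_iff.mp hz⟩
      · exact Or.inr ⟨Hs hF ν, Hs_ne_one hF hν, Hs_odd hF hm ν,
          Subgroup.le_normalizer (mem_Tor_self _), (mem_NTor_Hs hF hm hν _).mpr (Or.inr ⟨μ, rfl⟩)⟩
  have hAB : A ∩ B = {z | ∃ μ : Fˣ, z = Hs hF μ} := by
    ext z
    constructor
    · rintro ⟨h1, h2⟩
      exact fix_standard hF hm (MulAction.mem_stabilizer_iff.mp h1)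
        (MulAction.mem_stabilizer_iff.mp h2)
    · rintro ⟨μ, rfl⟩
      exact ⟨MulAction.mem_stabilizer_iff.mpr (Hs_inf hF μ),
        MulAction.mem_stabilizer_iff.mpr (Hs_zero hF μ)⟩
  have hCimg : C = (fun z => Js hF * z) '' (A ∩ B) := by
    rw [hAB]
    ext z
    constructor
    · rintro ⟨μ, rfl⟩
      exact ⟨Hs hF μ, ⟨μ, rfl⟩, rfl⟩
    · rintro ⟨_, ⟨μ, rfl⟩, rfl⟩
      exact ⟨μ, rfl⟩
  have hdisj : Disjoint (A ∪ B) C := by
    rw [Set.disjoint_left]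
    rintro z (hz | hz) ⟨μ, rfl⟩
    · have := MulAction.mem_stabilizer_iff.mp hz
      rw [hJH_inf] at this
      exact pt_none_ne_zero hF this.symm
    · have := MulAction.mem_stabilizer_iff.mp hz
      rw [hJH_zero] at this
      exact pt_none_ne_zero hF this
  have h1 := Set.ncard_union_eq hdisj (Set.toFinite _) (Set.toFinite _)
  have h2 := Set.ncard_union_add_ncard_inter A B (Set.toFinite _) (Set.toFinite _)
  have h3 : C.ncard = (A ∩ B).ncard := by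
    rw [hCimg]
    exact Set.ncard_image_of_injective _ (mul_right_injective (Js hF))
  have h4 : A.ncard = Nat.card (Bz hF) := rfl
  have h5 : B.ncard = Nat.card (Stab0 hF) := rfl
  have h6 : Nat.card {z : Cfsg.Sz F m //
      Group.IsSolvable (Subgroup.closure ({Hs hF ν, z} : Set (Cfsg.Sz F m)))} =
      ((A ∪ B) ∪ C).ncard := by
    rw [← hset]
    rfl
  rw [h6, h1, h3, h2, h4, h5, card_Stab0, card_Bz hF hm]
  ring

include hF in
theorem card_sol_split (hm : 1 ≤ m) (hp : (2 * m + 1).Prime) {x : Cfsg.Sz F m} (hx1 : x ≠ 1)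
    (hd : orderOf x ∣ 2 ^ (2 * m + 1) - 1) :
    Nat.card {z : Cfsg.Sz F m //
        Group.IsSolvable (Subgroup.closure ({x, z} : Set (Cfsg.Sz F m)))} =
      2 * (2 ^ (2 * m + 1)) ^ 2 * (2 ^ (2 * m + 1) - 1) := by
  obtain ⟨h8, h4, hr, hev, -⟩ := torus_arith m hm
  rcases classify hm hF hx1 with hfpf | ⟨k, a, b, hab, hk⟩ | ⟨k, ν, hν, hk⟩
  · exfalso
    have h1 := hfpf.order_dvd hF hm
    have h2 : orderOf x ∣ (2 ^ (2 * m + 1)) ^ 2 * (2 ^ (2 * m + 1) - 1) := dvd_mul_of_dvd_right hd _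
    have := Nat.Coprime.eq_one_of_dvd (Nat.Coprime.coprime_dvd_left h1 coprime_N) h2
    exact hx1 (orderOf_eq_one_iff.mp this)
  · exfalso
    have := dvd_trans (two_dvd_orderOf_of_conj_Ts hF hx1 hk) hd
    omega
  · have e : x = k⁻¹ * Hs hF ν * k⁻¹⁻¹ := by rw [← hk]; group
    rw [e, card_sol_conj, card_sol_Hs hF hm hp hν]

include hF in
/-- **the solubilizer theorem in the ovoid model** -/
theorem main_Sz (hm : 1 ≤ m) (hp : (2 * m + 1).Prime) (x : Cfsg.Sz F m) :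
    (orderOf x = 2 → Nat.card {z : Cfsg.Sz F m //
        Group.IsSolvable (Subgroup.closure ({x, z} : Set (Cfsg.Sz F m)))} =
      (2 ^ (2 * m + 1)) ^ 2 * (4 * 2 ^ (2 * m + 1) - 3)) ∧
    (orderOf x = 4 → Nat.card {z : Cfsg.Sz F m //
        Group.IsSolvable (Subgroup.closure ({x, z} : Set (Cfsg.Sz F m)))} =
      (2 ^ (2 * m + 1)) ^ 2 * (2 ^ (2 * m + 1) + 3)) ∧
    (x ≠ 1 → orderOf x ∣ 2 ^ (2 * m + 1) - 1 → Nat.card {z : Cfsg.Sz F m //
        Group.IsSolvable (Subgroup.closure ({x, z} : Set (Cfsg.Sz F m)))} =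
      2 * (2 ^ (2 * m + 1)) ^ 2 * (2 ^ (2 * m + 1) - 1)) ∧
    (x ≠ 1 → orderOf x ∣ 2 ^ (2 * m + 1) + 2 ^ (m + 1) + 1 → Nat.card {z : Cfsg.Sz F m //
        Group.IsSolvable (Subgroup.closure ({x, z} : Set (Cfsg.Sz F m)))} =
      4 * (2 ^ (2 * m + 1) + 2 ^ (m + 1) + 1)) ∧
    (x ≠ 1 → orderOf x ∣ 2 ^ (2 * m + 1) - 2 ^ (m + 1) + 1 → Nat.card {z : Cfsg.Sz F m //
        Group.IsSolvable (Subgroup.closure ({x, z} : Set (Cfsg.Sz F m)))} =
      4 * (2 ^ (2 * m + 1) - 2 ^ (m + 1) + 1)) := by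
  refine ⟨?_, ?_, card_sol_split hF hm hp, card_sol_plus hF hm hp, card_sol_minus hF hm hp⟩
  · intro ho
    have hx1 : x ≠ 1 := by
      intro h
      rw [h, orderOf_one] at ho
      omega
    have hxx : x * x = 1 := by
      have := pow_orderOf_eq_one x
      rwa [ho, sq] at this
    obtain ⟨c, hc⟩ := invol_conj_t hF hm (one_ne_zero (α := F)) hxx hx1
    rw [← hc, card_sol_conj, card_sol_invol hF hm hp one_ne_zero]
  · intro ho
    have hx1 : x ≠ 1 := by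
      intro h
      rw [h, orderOf_one] at ho
      omega
    rcases classify hm hF hx1 with hfpf | ⟨k, a, b, hab, hk⟩ | ⟨k, ν, hν, hk⟩
    · exfalso
      apply hfpf.odd_order hF hm
      rw [ho]
      norm_num
    · have ha : a ≠ 0 := by
        rintro rfl
        have h1 : (k * x * k⁻¹) * (k * x * k⁻¹) = 1 := by rw [hk, Ts0_mul_self]
        have h2 : x * x = 1 := by
          have : x * x = k⁻¹ * ((k * x * k⁻¹) * (k * x * k⁻¹)) * k := by group
          rw [this, h1]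
          group
        have h3 : orderOf x ∣ 2 := orderOf_dvd_of_pow_eq_one (by rw [sq]; exact h2)
        rw [ho] at h3
        omega
      have e : x = k⁻¹ * Ts hF a b * k⁻¹⁻¹ := by rw [← hk]; group
      rw [e, card_sol_conj, card_sol_four hF hm hp ha]
    · exfalso
      apply Hs_odd hF hm ν
      rw [← hk, orderOf_conj_eq, ho]
      norm_num

end Cfsg.Agent.Lib.Helper13.SzSol
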