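import Mathlib
import Cfsg.Prelude.Def_GeometricClasses
import Cfsg.Agent.Lib.Helper25.TensDefs
import Cfsg.Agent.Lib.Helper25.TensStmt

/-!
S5637 leaves TIII-a, TIII-b, TIII-c: conjugating elementary transvections by signed swaps in the
`A`- and `B`-index, and the resulting transitivity on transvections of type A.
-/

set_option autoImplicit false
set_option linter.unusedSectionVars false
set_option linter.unusedVariables false

namespace Cfsg.Agent.Lib.Helper13.TensLeaf
open Matrix Cfsg.Agent.Lib.Helper25.Tens Cfsg.Agent.Lib.Helper25.TensLeaves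
open scoped Kronecker

variable {F : Type*} [Field F] {a b : ℕ}

lemma msm_apply {n : ℕ} (A B : Matrix (Fin n) (Fin n) F) (k i : Fin n) (c : F) (x y : Fin n) :
    (A * Matrix.single k i c * B) x y = A x k * c * B i y := by
  rw [Matrix.mul_apply, Finset.sum_eq_single i]
  · rw [Matrix.mul_single_apply_same]
  · intro z _ hz
    rw [Matrix.mul_single_apply_of_ne _ _ _ _ _ hz, zero_mul]
  · intro h
    exact absurd (Finset.mem_univ i) h

/-- signed swap: a determinant-one unit conjugating `E_{ki}` to `± E_{σk,σi}`, `σ = (p q)` -/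
lemma exists_signed_swap {n : ℕ} (p q : Fin n) (hpq : p ≠ q) :
    ∃ w : GL (Fin n) F, (w : Matrix (Fin n) (Fin n) F).det = 1 ∧
      ∀ k i : Fin n, ∃ ε : F, ε ≠ 0 ∧ ∀ c : F,
        (w : Matrix (Fin n) (Fin n) F) * Matrix.single k i c *
          ((w⁻¹ : GL (Fin n) F) : Matrix (Fin n) (Fin n) F) =
          Matrix.single (Equiv.swap p q k) (Equiv.swap p q i) (ε * c) := by
  classical
  set σ : Equiv.Perm (Fin n) := Equiv.swap p q with hσ
  set d : Fin n → F := fun y => if y = q then -1 else 1 with hd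
  have hdd : ∀ y, d y * d y = 1 := by
    intro y
    simp only [hd]
    split_ifs <;> ring
  have hd0 : ∀ y, d y ≠ 0 := fun y h => by
    have := hdd y
    rw [h, mul_zero] at this
    exact zero_ne_one this
  have hPP : σ.permMatrix F * σ.permMatrix F = 1 := by
    rw [← Matrix.permMatrix_mul, hσ, Equiv.swap_mul_self, Matrix.permMatrix_one]
  have hDD : (Matrix.diagonal d : Matrix (Fin n) (Fin n) F) * Matrix.diagonal d = 1 := by
    rw [Matrix.diagonal_mul_diagonal]
    have : (fun i => d i * d i) = fun _ => (1 : F) := funext hdd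
    rw [this, Matrix.diagonal_one]
  have h1 : (σ.permMatrix F * Matrix.diagonal d) * (Matrix.diagonal d * σ.permMatrix F) = 1 := by
    rw [Matrix.mul_assoc, ← Matrix.mul_assoc (Matrix.diagonal d), hDD, Matrix.one_mul, hPP]
  have h2 : (Matrix.diagonal d * σ.permMatrix F) * (σ.permMatrix F * Matrix.diagonal d) = 1 := by
    rw [Matrix.mul_assoc, ← Matrix.mul_assoc (σ.permMatrix F), hPP, Matrix.one_mul, hDD]
  refine ⟨⟨σ.permMatrix F * Matrix.diagonal d, Matrix.diagonal d * σ.permMatrix F, h1, h2⟩,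
    ?_, ?_⟩
  · change (σ.permMatrix F * Matrix.diagonal d).det = 1
    rw [Matrix.det_mul, Matrix.det_permutation, Matrix.det_diagonal, hσ,
      Equiv.Perm.sign_swap hpq]
    have : ∏ y, d y = -1 := by
      simp only [hd]
      rw [Finset.prod_ite_eq']
      simp
    rw [this]
    simp
  · intro k i
    refine ⟨d k * d i, mul_ne_zero (hd0 k) (hd0 i), fun c => ?_⟩
    change (σ.permMatrix F * Matrix.diagonal d) * Matrix.single k i c *
      (Matrix.diagonal d * σ.permMatrix F) = _
    ext x y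
    rw [msm_apply, Matrix.mul_diagonal, Matrix.diagonal_mul, Matrix.single_apply]
    have hP : ∀ u v : Fin n, σ.permMatrix F u v = if σ u = v then 1 else 0 := by
      intro u v
      simp [Equiv.Perm.permMatrix, PEquiv.toMatrix_apply, Equiv.toPEquiv_apply, eq_comm]
    rw [hP, hP]
    have hinv : σ x = k ↔ σ k = x := by
      rw [hσ]
      constructor
      · intro h; rw [← h, Equiv.swap_apply_self]
      · intro h; rw [← h, Equiv.swap_apply_self]
    by_cases hx : σ k = x
    · by_cases hy : σ i = y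
      · rw [if_pos (hinv.mpr hx), if_pos hy, if_pos ⟨hx, hy⟩]
        ring
      · have hn : ¬ (σ k = x ∧ σ i = y) := fun h => hy h.2
        rw [if_neg hy, if_neg hn]
        ring
    · have hn : ¬ (σ k = x ∧ σ i = y) := fun h => hx h.1
      have hn' : ¬ σ x = k := fun h => hx (hinv.mp h)
      rw [if_neg hn', if_neg hn]
      ring

/-- (TIII-a) swap in the `A`-index. -/
theorem XT_swapA (M : Subgroup (GL (Idx a b) F)) (hKM : KG a b F ⊓ SLG a b F ≤ M)
    (k i : Fin a) (l m : Fin b) (p q : Fin a) (hpq : p ≠ q) (h : XT M (k, l) (i, m)) :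
    XT M (Equiv.swap p q k, l) (Equiv.swap p q i, m) := by
  obtain ⟨w, hdet, hw⟩ := exists_signed_swap (F := F) p q hpq
  obtain ⟨ε, hε, hconj⟩ := hw k i
  have hgM : kel w (1 : GL (Fin b) F) ∈ M := hKM (kel_mem_of_det _ _ hdet (by simp))
  intro c
  obtain ⟨t, htM, ht⟩ := h (ε⁻¹ * c)
  refine ⟨kel w 1 * t * (kel w 1)⁻¹, M.mul_mem (M.mul_mem hgM htM) (M.inv_mem hgM), ?_⟩
  rw [Units.val_mul, Units.val_mul, ht]
  change ((w : Matrix (Fin a) (Fin a) F) ⊗ₖ ((1 : GL (Fin b) F) : Matrix (Fin b) (Fin b) F)) *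
    (1 + Matrix.single (k, l) (i, m) (ε⁻¹ * c)) *
    (((w⁻¹ : GL (Fin a) F) : Matrix (Fin a) (Fin a) F) ⊗ₖ
      (((1 : GL (Fin b) F)⁻¹ : GL (Fin b) F) : Matrix (Fin b) (Fin b) F)) = _
  have e1 : (Matrix.single (k, l) (i, m) (ε⁻¹ * c) : Matrix (Idx a b) (Idx a b) F) =
      Matrix.single k i (ε⁻¹ * c) ⊗ₖ Matrix.single l m (1 : F) := by
    rw [Matrix.single_kronecker_single, mul_one]
  have e2 : (Matrix.single (Equiv.swap p q k, l) (Equiv.swap p q i, m) c :
      Matrix (Idx a b) (Idx a b) F) =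
      Matrix.single (Equiv.swap p q k) (Equiv.swap p q i) c ⊗ₖ Matrix.single l m (1 : F) := by
    rw [Matrix.single_kronecker_single, mul_one]
  rw [e1, e2, inv_one, Units.val_one, Matrix.mul_add, Matrix.add_mul, Matrix.mul_one,
    ← Matrix.mul_kronecker_mul, ← Matrix.mul_kronecker_mul, ← Matrix.mul_kronecker_mul,
    ← Units.val_mul, mul_inv_cancel, Units.val_one, Matrix.one_mul, Matrix.one_mul,
    Matrix.mul_one, Matrix.one_kronecker_one, hconj, ← mul_assoc, mul_inv_cancel₀ hε, one_mul]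

/-- (TIII-b) swap in the `B`-index. -/
theorem XT_swapB (M : Subgroup (GL (Idx a b) F)) (hKM : KG a b F ⊓ SLG a b F ≤ M)
    (k i : Fin a) (l m : Fin b) (p q : Fin b) (hpq : p ≠ q) (h : XT M (k, l) (i, m)) :
    XT M (k, Equiv.swap p q l) (i, Equiv.swap p q m) := by
  obtain ⟨w, hdet, hw⟩ := exists_signed_swap (F := F) p q hpq
  obtain ⟨ε, hε, hconj⟩ := hw l m
  have hgM : kel (1 : GL (Fin a) F) w ∈ M := hKM (kel_mem_of_det _ _ (by simp) hdet)
  intro c
  obtain ⟨t, htM, ht⟩ := h (ε⁻¹ * c)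
  refine ⟨kel 1 w * t * (kel 1 w)⁻¹, M.mul_mem (M.mul_mem hgM htM) (M.inv_mem hgM), ?_⟩
  rw [Units.val_mul, Units.val_mul, ht]
  change (((1 : GL (Fin a) F) : Matrix (Fin a) (Fin a) F) ⊗ₖ (w : Matrix (Fin b) (Fin b) F)) *
    (1 + Matrix.single (k, l) (i, m) (ε⁻¹ * c)) *
    ((((1 : GL (Fin a) F)⁻¹ : GL (Fin a) F) : Matrix (Fin a) (Fin a) F) ⊗ₖ
      ((w⁻¹ : GL (Fin b) F) : Matrix (Fin b) (Fin b) F)) = _
  have e1 : (Matrix.single (k, l) (i, m) (ε⁻¹ * c) : Matrix (Idx a b) (Idx a b) F) =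
      Matrix.single k i (1 : F) ⊗ₖ Matrix.single l m (ε⁻¹ * c) := by
    rw [Matrix.single_kronecker_single, one_mul]
  have e2 : (Matrix.single (k, Equiv.swap p q l) (i, Equiv.swap p q m) c :
      Matrix (Idx a b) (Idx a b) F) =
      Matrix.single k i (1 : F) ⊗ₖ Matrix.single (Equiv.swap p q l) (Equiv.swap p q m) c := by
    rw [Matrix.single_kronecker_single, one_mul]
  rw [e1, e2, inv_one, Units.val_one, Matrix.mul_add, Matrix.add_mul, Matrix.mul_one,
    ← Matrix.mul_kronecker_mul, ← Matrix.mul_kronecker_mul, ← Matrix.mul_kronecker_mul,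
    ← Units.val_mul, mul_inv_cancel, Units.val_one, Matrix.one_mul, Matrix.one_mul,
    Matrix.mul_one, Matrix.one_kronecker_one, hconj, ← mul_assoc, mul_inv_cancel₀ hε, one_mul]

/-- moving a pair of distinct indices to another one by transpositions -/
lemma move_pair {n : ℕ} (Q : Fin n → Fin n → Prop)
    (hQ : ∀ p q : Fin n, p ≠ q → ∀ x y, Q x y → Q (Equiv.swap p q x) (Equiv.swap p q y))
    {k i k' i' : Fin n} (hki : k ≠ i) (hki' : k' ≠ i') (h : Q k i) : Q k' i' := by
  have h1 : ∃ i1, i1 ≠ k' ∧ Q k' i1 := by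
    by_cases hkk : k = k'
    · subst hkk
      exact ⟨i, hki.symm, h⟩
    · refine ⟨Equiv.swap k k' i, ?_, ?_⟩
      · intro he
        have h2 : i = k := by
          have := congrArg (Equiv.swap k k') he
          rw [Equiv.swap_apply_self, Equiv.swap_apply_right] at this
          exact this
        exact hki h2.symm
      · have := hQ k k' hkk k i h
        rwa [Equiv.swap_apply_left] at this
  obtain ⟨i1, hi1, h1⟩ := h1
  by_cases hii : i1 = i'
  · subst hii
    exact h1
  · have := hQ i1 i' hii k' i1 h1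
    rwa [Equiv.swap_apply_of_ne_of_ne hi1.symm hki', Equiv.swap_apply_left] at this

/-- (TIII-c) from one transvection of type A to all of type A. -/
theorem XT_typeA (M : Subgroup (GL (Idx a b) F)) (hKM : KG a b F ⊓ SLG a b F ≤ M)
    (k i : Fin a) (hki : k ≠ i) (o j : Fin b) (hoj : o ≠ j) (h : XT M (k, o) (i, j))
    (k' i' : Fin a) (hki' : k' ≠ i') (l m : Fin b) (hlm : l ≠ m) : XT M (k', l) (i', m) := by
  have hA : XT M (k', o) (i', j) :=
    move_pair (fun x y => XT M (x, o) (y, j))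
      (fun p q hpq x y hxy => XT_swapA M hKM x y o j p q hpq hxy) hki hki' h
  exact move_pair (fun x y => XT M (k', x) (i', y))
    (fun p q hpq x y hxy => XT_swapB M hKM k' i' x y p q hpq hxy) hoj hlm hA

end Cfsg.Agent.Lib.Helper13.TensLeaf
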