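import Mathlib
import Cfsg.Prelude.Def_Local
import Cfsg.Agent.Lib.Helper25.TSDefs

/-!
# S3797 leaf HOMO (helper13): a finite abelian 2-group with a group of automorphisms transitive on its
involutions is homocyclic.
-/

set_option autoImplicit false

namespace Cfsg.Agent.Lib.Helper13.TSHOMO

section

variable {P : Type*} [Group P]

/-- the `k`-th power map of a commutative group (commutativity given as a hypothesis). -/
def powHom (hcomm : ∀ a b : P, a * b = b * a) (k : ℕ) : P →* P where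
  toFun x := x ^ k
  map_one' := one_pow k
  map_mul' a b := Commute.mul_pow (hcomm a b) k

@[simp] theorem powHom_apply (hcomm : ∀ a b : P, a * b = b * a) (k : ℕ) (x : P) :
    powHom hcomm k x = x ^ k := rfl

variable [Finite P]

/-- (K) with `2 ^ m` the exact exponent, the elements killed by `2 ^ (m - 1)` are squares. -/
theorem exists_sq_of_pow_eq_one (hcomm : ∀ a b : P, a * b = b * a) (Y : Subgroup (MulAut P))
    (htr : ∀ x y : P, x ≠ 1 → x ^ 2 = 1 → y ≠ 1 → y ^ 2 = 1 → ∃ a ∈ Y, a x = y)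
    (m : ℕ) (hm : 1 ≤ m) (hexp : ∀ x : P, x ^ (2 ^ m) = 1)
    (hwit : ∃ e : P, e ^ (2 ^ (m - 1)) ≠ 1) :
    ∀ b : P, b ^ (2 ^ (m - 1)) = 1 → ∃ c : P, c ^ 2 = b := by
  obtain ⟨e, he⟩ := hwit
  have hpow : ∀ x : P, (x ^ (2 ^ (m - 1))) ^ 2 = 1 := fun x => by
    rw [← pow_mul, ← pow_succ, show m - 1 + 1 = m by omega]
    exact hexp x
  have hpow' : ∀ x : P, (x ^ 2) ^ (2 ^ (m - 1)) = 1 := fun x => by
    rw [← pow_mul, ← pow_succ', show m - 1 + 1 = m by omega]
    exact hexp x
  set φ : P →* P := powHom hcomm (2 ^ (m - 1)) with hφ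
  set ψ : P →* P := powHom hcomm 2 with hψ
  -- range φ = ker ψ
  have hrk : φ.range = ψ.ker := by
    apply le_antisymm
    · rintro _ ⟨x, rfl⟩
      rw [MonoidHom.mem_ker, hψ, hφ, powHom_apply, powHom_apply]
      exact hpow x
    · intro y hy
      rw [MonoidHom.mem_ker, hψ, powHom_apply] at hy
      by_cases hy1 : y = 1
      · rw [hy1]; exact φ.range.one_mem
      · obtain ⟨a, -, ha⟩ := htr (e ^ (2 ^ (m - 1))) y he (hpow e) hy1 hy
        refine ⟨a e, ?_⟩
        rw [hφ, powHom_apply, ← map_pow, ha]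
  -- range ψ ≤ ker φ
  have hle : ψ.range ≤ φ.ker := by
    rintro _ ⟨x, rfl⟩
    rw [MonoidHom.mem_ker, hψ, hφ, powHom_apply, powHom_apply]
    exact hpow' x
  -- cardinalities
  have h1 : Nat.card φ.ker * Nat.card φ.range = Nat.card P := by
    rw [← Subgroup.index_ker, Subgroup.card_mul_index]
  have h2 : Nat.card ψ.ker * Nat.card ψ.range = Nat.card P := by
    rw [← Subgroup.index_ker, Subgroup.card_mul_index]
  have hcard : Nat.card φ.ker ≤ Nat.card ψ.range := by
    rw [hrk] at h1
    have hpos : 0 < Nat.card ψ.ker := Nat.card_pos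
    have : Nat.card φ.ker * Nat.card ψ.ker = Nat.card ψ.range * Nat.card ψ.ker := by
      rw [h1, mul_comm, h2]
    exact le_of_eq (Nat.eq_of_mul_eq_mul_right hpos this)
  have heq : ψ.range = φ.ker := Subgroup.eq_of_le_of_card_ge hle hcard
  intro b hb
  have hbk : b ∈ φ.ker := by
    rw [MonoidHom.mem_ker, hφ, powHom_apply]; exact hb
  rw [← heq] at hbk
  obtain ⟨c, hc⟩ := hbk
  exact ⟨c, by rw [← hc, hψ, powHom_apply]⟩

end

/-- no element of `ZMod n`, `n` even, has double equal to `1`. -/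
theorem zmod_two_nsmul_ne_one {n : ℕ} (hn : 2 ∣ n) (a : ZMod n) : a + a ≠ 1 := by
  intro h
  have h2 := congrArg (ZMod.castHom hn (ZMod 2)) h
  rw [map_add, map_one, CharTwo.add_self_eq_zero] at h2
  exact absurd h2 (by decide)

/-- **P3 `homocyclic_of_transitive`**. -/
theorem homocyclic_of_transitive {P : Type*} [Group P] [Finite P] (hP : IsPGroup 2 P)
    (hcomm : ∀ a b : P, a * b = b * a) (Y : Subgroup (MulAut P))
    (htr : ∀ x y : P, x ≠ 1 → x ^ 2 = 1 → y ≠ 1 → y ^ 2 = 1 → ∃ a ∈ Y, a x = y) :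
    ∃ m r : ℕ, Nonempty (P ≃* (Fin r → Multiplicative (ZMod (2 ^ m)))) := by
  classical
  letI : CommGroup P := { ‹Group P› with mul_comm := hcomm }
  obtain ⟨ι, hι, n, hn1, ⟨f⟩⟩ := CommGroup.equiv_prod_multiplicative_zmod_of_finite P
  -- an exponent
  have hex : ∃ M : ℕ, ∀ x : P, x ^ (2 ^ M) = 1 := by
    obtain ⟨k, hk⟩ := (IsPGroup.iff_card.mp hP)
    exact ⟨k, fun x => by rw [← hk]; exact pow_card_eq_one'⟩
  -- the uniform exponent of the cyclic factors
  have hkey : ∃ m : ℕ, ∀ i : ι, n i = 2 ^ m := by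
    by_cases hemp : IsEmpty ι
    · exact ⟨0, fun i => (hemp.false i).elim⟩
    rw [not_isEmpty_iff] at hemp
    obtain ⟨i₀⟩ := hemp
    set M := Nat.find hex with hM
    have hexpM : ∀ x : P, x ^ (2 ^ M) = 1 := Nat.find_spec hex
    -- the standard generators
    set g : ι → P := fun i => f.symm (Pi.mulSingle i (Multiplicative.ofAdd (1 : ZMod (n i)))) with hg
    have hgi : ∀ i, f (g i) i = Multiplicative.ofAdd (1 : ZMod (n i)) := fun i => by
      rw [hg]; simp
    -- coordinate `i` of a power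
    have hcoord : ∀ (x : P) (k : ℕ) (i : ι), f (x ^ k) i = (f x i) ^ k := fun x k i => by
      rw [map_pow]; rfl
    -- `n i ∣ 2 ^ k` iff `g i ^ (2 ^ k) = 1`
    have hdvd_of : ∀ (i : ι) (k : ℕ), g i ^ k = 1 → n i ∣ k := by
      intro i k hk
      have h1 := hcoord (g i) k i
      rw [hk, map_one, hgi] at h1
      have h2 : Multiplicative.toAdd ((Multiplicative.ofAdd (1 : ZMod (n i))) ^ k) = 0 := by
        rw [← h1]; rfl
      rw [toAdd_pow, toAdd_ofAdd, nsmul_eq_mul, mul_one] at h2
      exact (ZMod.natCast_eq_zero_iff k (n i)).mp h2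
    have hpow_of : ∀ (i : ι) (k : ℕ), n i ∣ k → g i ^ k = 1 := by
      intro i k hk
      apply f.injective
      rw [map_one, map_pow, hg]
      simp only [MulEquiv.apply_symm_apply]
      rw [← Pi.mulSingle_pow]
      have : (Multiplicative.ofAdd (1 : ZMod (n i))) ^ k = 1 := by
        apply Multiplicative.toAdd.injective
        rw [toAdd_pow, toAdd_ofAdd, nsmul_eq_mul, mul_one, toAdd_one]
        exact (ZMod.natCast_eq_zero_iff k (n i)).mpr hk
      rw [this, Pi.mulSingle_one]
    have hM1 : 1 ≤ M := by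
      by_contra h0
      have hM0 : M = 0 := by omega
      have := hexpM (g i₀)
      rw [hM0, pow_zero, pow_one] at this
      have h1 := hdvd_of i₀ 1 (by rw [pow_one]; exact this)
      have := hn1 i₀
      have := Nat.le_of_dvd one_pos h1
      omega
    have hwit : ∃ e : P, e ^ (2 ^ (M - 1)) ≠ 1 := by
      by_contra hcon
      push Not at hcon
      have := Nat.find_min' hex hcon
      omega
    have hK := exists_sq_of_pow_eq_one hcomm Y htr M hM1 hexpM hwit
    refine ⟨M, fun i => ?_⟩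
    have hd : n i ∣ 2 ^ M := hdvd_of i _ (hexpM (g i))
    obtain ⟨e, heM, hne⟩ := (Nat.dvd_prime_pow Nat.prime_two).mp hd
    have he1 : 1 ≤ e := by
      by_contra h0
      have : e = 0 := by omega
      rw [this, pow_zero] at hne
      have := hn1 i
      omega
    by_contra hne'
    have heM' : e ≤ M - 1 := by
      rcases Nat.lt_or_ge e M with h | h
      · omega
      · exfalso; apply hne'; rw [hne]; congr 1; omega
    have hd' : n i ∣ 2 ^ (M - 1) := by
      rw [hne]; exact pow_dvd_pow 2 heM'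
    obtain ⟨c, hc⟩ := hK (g i) (hpow_of i _ hd')
    have h1 := hcoord c 2 i
    rw [hc, hgi] at h1
    have h2 : (1 : ZMod (n i)) = Multiplicative.toAdd (f c i) + Multiplicative.toAdd (f c i) := by
      have := congrArg Multiplicative.toAdd h1
      rw [toAdd_ofAdd, toAdd_pow, two_nsmul] at this
      exact this
    have heven : 2 ∣ n i := by
      rw [hne]; exact dvd_pow_self 2 (by omega)
    exact zmod_two_nsmul_ne_one heven _ h2.symm
  obtain ⟨m, hm⟩ := hkey
  refine ⟨m, Fintype.card ι, ⟨?_⟩⟩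
  refine f.trans ((MulEquiv.piCongrRight fun i =>
    AddEquiv.toMultiplicative (ZMod.ringEquivCongr (hm i)).toAddEquiv).trans ?_)
  exact MulEquiv.arrowCongr (Fintype.equivFin ι) (MulEquiv.refl _)

end Cfsg.Agent.Lib.Helper13.TSHOMO
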