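import Mathlib
import Cfsg.Agent.Lib.Helper5.TWS.Defs
import Cfsg.Agent.Lib.Helper19.TWU3Defs
import Cfsg.Agent.Lib.Helper6.TWU3A8
import Cfsg.Agent.Lib.Helper20.TWS3Perm
import Cfsg.Agent.Lib.Helper12.TWSGrow
import Cfsg.Agent.Lib.Helper13.TWSEnd

/-!
# S5668 (C7 symplectic, owner helper5) — STAGE III, the ASSEMBLY modulo the (G0') leaves (owner helper13)

`stageIIIS_of`: `XT_J(X)`, `|J|` odd `≥ 3`, `HS ≤ X ≤ GSV`, `t` odd `≥ 3`, `MainTS t'` for the smaller odd `t'` ⟹ `GSV ≤ X`,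
given the (G0') leaves as hypotheses (`XTS_KB`, `HS_le_KB`, `KB_le_GSV`, `XTS_of_GSV_le`, `XTS_up`, rigidity).
Route: `|J| = t`: `TWSEnd.endgameS`.  `|J| ≤ t - 2`, `t = s + 2`: `K := KB (KB X j) j₁` (`j ∉ J`, `j₁ ∉ J₁`) has `XTS K J₂`,
`HS_s ≤ K ≤ GSV_s`, `¬ K ≤ Gstd`, so `GSV_s ≤ K` by `MainTS s`; then `XTS X J'` for every `J'` with `|J'|` odd `≤ s`
(`XTS_of_GSV_le`, `XTS_up` twice, `Helper20.TWS3.XTS_of_card`), `Helper12.TWSGrow.growS` with `univ \ {a,b}` and `{a,b,m}`, `endgameS`.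
-/

set_option autoImplicit false
set_option linter.unusedSectionVars false
set_option linter.unusedVariables false

namespace Cfsg.Agent.Lib.Helper13.TWS3
open Matrix Cfsg.Geo Cfsg.Agent.Lib.Helper18.AschA89 Cfsg.Agent.Lib.Helper8.TW Cfsg.Agent.Lib.Helper5.TWS
open Cfsg.Agent.Lib.Helper19.TWU3 (KB mem_KB)

variable {F : Type*} [Field F] [Fintype F] {k : ℕ}

/-- Stage III modulo the (G0') leaves -/
theorem stageIIIS_of (hodd : Odd (Fintype.card F)) (hk : Even k)
    (hXTS_KB : ∀ (t : ℕ) (X : Subgroup (GL (Idx (t + 1) k) F)) (j : Fin (t + 1)) (J : Finset (Fin t)), J.Nonempty →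
      XTS X (J.map (Fin.succAboveEmb j)) → XTS (KB X j) J)
    (hHS_KB : ∀ (t : ℕ) (X : Subgroup (GL (Idx (t + 1) k) F)), HS (t + 1) k F ≤ X → ∀ j, HS t k F ≤ KB X j)
    (hKB_GSV : ∀ (t : ℕ) (X : Subgroup (GL (Idx (t + 1) k) F)), X ≤ GSV (t + 1) k F → ∀ j, KB X j ≤ GSV t k F)
    (hGSV_XTS : ∀ (t : ℕ) (X : Subgroup (GL (Idx t k) F)), GSV t k F ≤ X → ∀ J : Finset (Fin t), Odd J.card → XTS X J)
    (hup : ∀ (t : ℕ) (X : Subgroup (GL (Idx (t + 1) k) F)) (j : Fin (t + 1)) (J : Finset (Fin t)),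
      XTS (KB X j) J → XTS X (J.map (Fin.succAboveEmb j)))
    (hrig : ∀ (t : ℕ) (K : Subgroup (GL (Idx t k) F)) (J : Finset (Fin t)), 2 ≤ J.card → XTS K J → ¬ K ≤ Gstd t k F)
    (t : ℕ) (ht : Odd t) (ht3 : 3 ≤ t) (hind : ∀ t', Odd t' → 3 ≤ t' → t' < t → MainTS t' k F)
    (X : Subgroup (GL (Idx t k) F)) (hHX : HS t k F ≤ X) (hXG : X ≤ GSV t k F)
    (J : Finset (Fin t)) (hJ : Odd J.card) (hJ3 : 3 ≤ J.card) (hXT : XTS X J) : GSV t k F ≤ X := by
  classical
  by_cases hJu : J = Finset.univ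
  · rw [hJu] at hXT
    exact Cfsg.Agent.Lib.Helper13.TWSEnd.endgameS hodd hk ht X hXG hXT
  · -- `|J| ≤ t - 2`
    have hle : J.card ≤ t := by
      have := Finset.card_le_univ J
      rwa [Fintype.card_fin] at this
    have hne : J.card ≠ t := by
      intro h
      apply hJu
      apply Finset.eq_univ_of_card
      rw [Fintype.card_fin]
      exact h
    obtain ⟨a', ha'⟩ := hJ
    obtain ⟨b', hb'⟩ := ht
    obtain ⟨s, rfl⟩ : ∃ s, t = s + 2 := ⟨t - 2, by omega⟩
    have hs_odd : Odd s := ⟨b' - 1, by omega⟩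
    have hs3 : 3 ≤ s := by omega
    have hJs : J.card ≤ s := by omega
    have hJodd : Odd J.card := ⟨a', ha'⟩
    obtain ⟨j, hj⟩ : ∃ j, j ∉ J := by
      by_contra hcon
      push Not at hcon
      exact hJu (Finset.eq_univ_iff_forall.2 hcon)
    obtain ⟨J₁, hJ₁eq, hJ₁card⟩ := Cfsg.Agent.Lib.Helper6.TWU3Leaf.exists_down j J hj
    obtain ⟨j₁, hj₁⟩ : ∃ j₁, j₁ ∉ J₁ := by
      by_contra hcon
      push Not at hcon
      have := Finset.eq_univ_iff_forall.2 hcon
      rw [this, Finset.card_univ, Fintype.card_fin] at hJ₁card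
      omega
    obtain ⟨J₂, hJ₂eq, hJ₂card⟩ := Cfsg.Agent.Lib.Helper6.TWU3Leaf.exists_down j₁ J₁ hj₁
    have hJ₁ne : J₁.Nonempty := by
      rw [← Finset.card_pos]; omega
    have hJ₂ne : J₂.Nonempty := by
      rw [← Finset.card_pos]; omega
    have hXK1 : XTS (KB X j) J₁ := hXTS_KB (s + 1) X j J₁ hJ₁ne (by rw [← hJ₁eq]; exact hXT)
    have hXK2 : XTS (KB (KB X j) j₁) J₂ := hXTS_KB s (KB X j) j₁ J₂ hJ₂ne (by rw [← hJ₂eq]; exact hXK1)
    have hHK : HS s k F ≤ KB (KB X j) j₁ := hHS_KB s (KB X j) (hHS_KB (s + 1) X hHX j) j₁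
    have hKG : KB (KB X j) j₁ ≤ GSV s k F := hKB_GSV s (KB X j) (hKB_GSV (s + 1) X hXG j) j₁
    rcases hind s hs_odd hs3 (by omega) (KB (KB X j) j₁) hHK hKG with hKle | hKle
    · exact absurd hKle (hrig s (KB (KB X j) j₁) J₂ (by omega) hXK2)
    · -- `XT_{J'}` for every odd `|J'| ≤ s`
      have hall : ∀ J' : Finset (Fin (s + 2)), Odd J'.card → J'.card ≤ s → XTS X J' := by
        intro J' hJ'odd hJ'le
        obtain ⟨J₀, -, hJ₀⟩ := Finset.exists_subset_card_eq (s := (Finset.univ : Finset (Fin s))) (n := J'.card)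
          (by rw [Finset.card_univ, Fintype.card_fin]; exact hJ'le)
        have h1 : XTS (KB (KB X j) j₁) J₀ := hGSV_XTS s (KB (KB X j) j₁) hKle J₀ (by rw [hJ₀]; exact hJ'odd)
        have h2 := hup s (KB X j) j₁ J₀ h1
        have h3 := hup (s + 1) X j _ h2
        exact Cfsg.Agent.Lib.Helper20.TWS3.XTS_of_card X hHX _ J'
          (by rw [Finset.card_map, Finset.card_map, hJ₀]) h3
      -- three distinct positions
      obtain ⟨a, ha⟩ : ∃ a : Fin (s + 2), a = ⟨0, by omega⟩ := ⟨_, rfl⟩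
      obtain ⟨b, hb⟩ : ∃ b : Fin (s + 2), b = ⟨1, by omega⟩ := ⟨_, rfl⟩
      obtain ⟨m, hm⟩ : ∃ m : Fin (s + 2), m = ⟨2, by omega⟩ := ⟨_, rfl⟩
      have hab : a ≠ b := by rw [ha, hb]; intro h; simpa using congrArg Fin.val h
      have ham : a ≠ m := by rw [ha, hm]; intro h; simpa using congrArg Fin.val h
      have hbm : b ≠ m := by rw [hb, hm]; intro h; simpa using congrArg Fin.val h
      have hJ1card : ((Finset.univ.erase a).erase b : Finset (Fin (s + 2))).card = s := by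
        rw [Finset.card_erase_of_mem (Finset.mem_erase.2 ⟨hab.symm, Finset.mem_univ b⟩),
          Finset.card_erase_of_mem (Finset.mem_univ a), Finset.card_univ, Fintype.card_fin]
        omega
      have hJ2card : ({a, b, m} : Finset (Fin (s + 2))).card = 3 := by
        rw [Finset.card_insert_of_notMem, Finset.card_pair hbm]
        simp only [Finset.mem_insert, Finset.mem_singleton, not_or]
        exact ⟨hab, ham⟩
      have hinter : ((Finset.univ.erase a).erase b : Finset (Fin (s + 2))) ∩ {a, b, m} = {m} := by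
        ext x
        simp only [Finset.mem_inter, Finset.mem_erase, Finset.mem_insert, Finset.mem_singleton, Finset.mem_univ,
          and_true]
        constructor
        · rintro ⟨⟨hxb, hxa⟩, h | h | h⟩
          · exact absurd h hxa
          · exact absurd h hxb
          · exact h
        · rintro rfl
          exact ⟨⟨hbm.symm, ham.symm⟩, Or.inr (Or.inr rfl)⟩
      have hunion : ((Finset.univ.erase a).erase b : Finset (Fin (s + 2))) ∪ {a, b, m} = Finset.univ := by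
        ext x
        simp only [Finset.mem_union, Finset.mem_erase, Finset.mem_insert, Finset.mem_singleton, Finset.mem_univ,
          and_true, iff_true]
        by_cases hxa : x = a
        · exact Or.inr (Or.inl hxa)
        · by_cases hxb : x = b
          · exact Or.inr (Or.inr (Or.inl hxb))
          · exact Or.inl ⟨hxb, hxa⟩
      have hX1 : XTS X ((Finset.univ.erase a).erase b) := hall _ (by rw [hJ1card]; exact hs_odd) (by rw [hJ1card])
      have hX2 : XTS X {a, b, m} := hall _ (by rw [hJ2card]; exact ⟨1, rfl⟩) (by rw [hJ2card]; exact hs3)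
      have hgrow := Cfsg.Agent.Lib.Helper12.TWSGrow.growS hodd hk X hHX _ _ m hinter (by rw [hJ1card]; omega)
        (by rw [hJ2card]; omega) hX1 hX2
      rw [hunion] at hgrow
      exact Cfsg.Agent.Lib.Helper13.TWSEnd.endgameS hodd hk ⟨b', hb'⟩ X hXG hgrow

end Cfsg.Agent.Lib.Helper13.TWS3
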