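import Mathlib
import Cfsg.Agent.Lib.Helper13.TWS3Asm
import Cfsg.Agent.Lib.Helper20.TWS3KB
import Cfsg.Agent.Lib.Helper12.TWS3Rig

/-!
# S5668 (C7 symplectic, owner helper5) — STAGE III (owner helper13): `stageIIIS`

`XT_J(X)`, `|J|` odd `≥ 3`, `HS ≤ X ≤ GSV`, `t` odd `≥ 3`, `MainTS t'` for the smaller odd `t'` ⟹ `GSV ≤ X`:
EXACTLY the hypothesis `hIII` of `Cfsg.Agent.Lib.Helper5.TWS.mainTS_of_stages`.
Leaves: helper20 (`TWS3Perm`, `TWS3KB`), helper12 (`TWSGrow`, `TWS3Rig`), helper6 (`exists_down`), helper13 (`TWSEnd`, `TWS3Asm`).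
-/

set_option autoImplicit false
set_option linter.unusedSectionVars false
set_option linter.unusedVariables false

namespace Cfsg.Agent.Lib.Helper13.TWS3
open Matrix Cfsg.Geo Cfsg.Agent.Lib.Helper18.AschA89 Cfsg.Agent.Lib.Helper8.TW Cfsg.Agent.Lib.Helper5.TWS
open Cfsg.Agent.Lib.Helper19.TWU3 (KB mem_KB)

variable {F : Type*} [Field F] [Fintype F] {k : ℕ}

/-- **STAGE III (symplectic)** -/
theorem stageIIIS (hodd : Odd (Fintype.card F)) (hk : Even k) (hk2 : 2 ≤ k) :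
    ∀ t, Odd t → 3 ≤ t → (∀ t', Odd t' → 3 ≤ t' → t' < t → MainTS t' k F) →
      ∀ X : Subgroup (GL (Idx t k) F), HS t k F ≤ X → X ≤ GSV t k F →
      ∀ J : Finset (Fin t), Odd J.card → 3 ≤ J.card → XTS X J → GSV t k F ≤ X := by
  intro t ht ht3 hind X hHX hXG J hJ hJ3 hXT
  exact stageIIIS_of hodd hk
    (fun t X j J hJne h => Cfsg.Agent.Lib.Helper20.TWS3.XTS_KB X j J hJne h)
    (fun t X hHX j => Cfsg.Agent.Lib.Helper20.TWS3.HS_le_KB hk X hHX j)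
    (fun t X hXG j => Cfsg.Agent.Lib.Helper20.TWS3.KB_le_GSV hk hk2 X hXG j)
    (fun t X h J hJ => Cfsg.Agent.Lib.Helper20.TWS3.XTS_of_GSV_le hk X h J hJ)
    (fun t X j J h => Cfsg.Agent.Lib.Helper20.TWS3.XTS_up X j J h)
    (fun t K J hJ h => Cfsg.Agent.Lib.Helper12.TWS3.not_le_Gstd_of_XTS hodd hk hk2 K J hJ h)
    t ht ht3 hind X hHX hXG J hJ hJ3 hXT

end Cfsg.Agent.Lib.Helper13.TWS3
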