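import Mathlib
import Cfsg.Agent.Lib.Helper5.TWS.Defs
import Cfsg.Agent.Lib.Helper8.TW.Defs
import Cfsg.Agent.Lib.Helper22.TWExtBasic
import Cfsg.Agent.Lib.Helper22.TWExtMore
import Cfsg.Agent.Lib.Helper26.TWFibA
import Cfsg.Agent.Lib.Helper12.TWIIBZ
import Cfsg.Agent.Lib.Helper14.TWIIDefs
import Cfsg.Agent.Lib.Helper14.TWSIIDefs
import Cfsg.Agent.Lib.Helper16.TWSIIEta
import Cfsg.Agent.Lib.Helper26.TWSIIT6

/-!
# S5668 (C7 symplectic; owner helper5), Stage II-B (sub-planner helper14): leaf B1 `B1S_blocks`, first half B1a = the `hQ` ANALYSIS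
(cut of helper11, msg 5305; second half B1b `B1S_asm` = helper11).

`g` stabilises `W = W(i,y)` and `C = W^⊥` and normalises `slot i (Q^A(y))` inside `slot i (End A)` (`hQ`).  Then, with
`γ := g|_W` (`g (b ⊗ y) = γ b ⊗ y`):
* (H1) `g (b ⊗ y) = γ b ⊗ y`;
* (H2) `g (b ⊗ y') ≡ c • γ b ⊗ y'` modulo `C`, `c ≠ 0`;
* (H3) for `a ∈ A₀ = ⟨y,y'⟩^⊥` there is `a' ∈ A₀` with `g (b ⊗ a) ≡ γ b ⊗ a'` modulo `W`.

Proof (coordinate free): `S b := ctr (sfv y) (g (b ⊗ y'))` (`g` on `V/C`, up to the sign `sf y' y = -1`).  `hQ` at `w ⊥ y`, read on `b ⊗ a`: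
`(1 ⊗ M_w) g (b ⊗ a) = g (b ⊗ a) + sf a y • g (b ⊗ w) + sf a w • γ b ⊗ y`  (Q).  (Q) at `a = y'` gives (E1)
`g (b ⊗ w) ≡ S b ⊗ m_w` mod `W`, `m_w := (M_w - 1) y' ⊥ y`; (Q) at `a = a₀ ∈ A₀`, `w = w₀ ⊥ y` with `sf a₀ w₀ ≠ 0` (`k ≥ 4`) gives
(E2) `c₀ • S b = sf a₀ w₀ • γ b`, so `S = d • γ`, `d ≠ 0`.
-/

set_option autoImplicit false
set_option linter.unusedSectionVars false
set_option linter.unusedVariables false

namespace Cfsg.Agent.Lib.Helper13.TWSIILeaf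
open Matrix Cfsg.Geo Cfsg.Agent.Lib.Helper18.AschA89 Cfsg.Agent.Lib.Helper8.TW Cfsg.Agent.Lib.Helper5.TWS
  Cfsg.Agent.Lib.Helper14.TWII Cfsg.Agent.Lib.Helper14.TWSII
open Cfsg.Agent.Lib.Helper25.SpT (sf Jm sfv)
open Cfsg.Agent.Lib.Helper23.TWUQ (NSp)

variable {F : Type*} [Field F] [Fintype F] {t k : ℕ}

/-! ### local tools -/

lemma b1a_tens_add_l (i : Fin (t + 1)) (b b' : Idx t k → F) (a : Fin k → F) :
    tens i (b + b') a = tens i b a + tens i b' a := by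
  funext x
  simp only [tens, Pi.add_apply]
  ring

lemma b1a_tens_smul_l (i : Fin (t + 1)) (c : F) (b : Idx t k → F) (a : Fin k → F) :
    tens i (c • b) a = c • tens i b a := by
  funext x
  simp only [tens, Pi.smul_apply, smul_eq_mul]
  ring

lemma b1a_tens_add_r (i : Fin (t + 1)) (b : Idx t k → F) (a a' : Fin k → F) :
    tens i b (a + a') = tens i b a + tens i b a' := by
  funext x
  simp only [tens, Pi.add_apply]
  ring

lemma b1a_tens_sub_r (i : Fin (t + 1)) (b : Idx t k → F) (a a' : Fin k → F) :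
    tens i b (a - a') = tens i b a - tens i b a' := by
  funext x
  simp only [tens, Pi.sub_apply]
  ring

lemma b1a_tens_smul_r (i : Fin (t + 1)) (b : Idx t k → F) (c : F) (a : Fin k → F) :
    tens i b (c • a) = c • tens i b a := by
  funext x
  simp only [tens, Pi.smul_apply, smul_eq_mul]
  ring

/-- a linear function on `F^ι` is a matrix -/
lemma b1a_exists_mat {ι : Type} [Fintype ι] [DecidableEq ι] (f : (ι → F) → (ι → F))
    (hadd : ∀ b b', f (b + b') = f b + f b') (hsmul : ∀ (c : F) b, f (c • b) = c • f b) :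
    ∃ T : Matrix ι ι F, ∀ b, T *ᵥ b = f b := by
  let L : (ι → F) →ₗ[F] (ι → F) :=
    { toFun := f
      map_add' := hadd
      map_smul' := fun c b => hsmul c b }
  refine ⟨LinearMap.toMatrix' L, fun b => ?_⟩
  rw [← Matrix.toLin'_apply, Matrix.toLin'_toMatrix']
  rfl

lemma b1a_mat_ext {ι : Type} [Fintype ι] [DecidableEq ι] {A B : Matrix ι ι F} (h : ∀ b, A *ᵥ b = B *ᵥ b) :
    A = B := by
  apply Matrix.toLin'.injective
  apply LinearMap.ext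
  intro b
  rw [Matrix.toLin'_apply, Matrix.toLin'_apply]
  exact h b

lemma b1a_lin_add (i : Fin (t + 1)) (φ a : Fin k → F) (g : GL (Idx (t + 1) k) F) (b b' : Idx t k → F) :
    ctr i φ (mv g (tens i (b + b') a)) = ctr i φ (mv g (tens i b a)) + ctr i φ (mv g (tens i b' a)) := by
  unfold mv
  rw [b1a_tens_add_l, Matrix.mulVec_add, Cfsg.Agent.Lib.Helper22.TWLeaf.ctr_add]

lemma b1a_lin_smul (i : Fin (t + 1)) (φ a : Fin k → F) (g : GL (Idx (t + 1) k) F) (c : F) (b : Idx t k → F) :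
    ctr i φ (mv g (tens i (c • b) a)) = c • ctr i φ (mv g (tens i b a)) := by
  unfold mv
  rw [b1a_tens_smul_l, Matrix.mulVec_smul, Cfsg.Agent.Lib.Helper22.TWLeaf.ctr_smul]

/-- (Q): the relation `g (1 ⊗ η_w) = (1 ⊗ M) g` read on a pure tensor -/
lemma b1a_Q (i : Fin (t + 1)) (y w : Fin k → F) (g : GL (Idx (t + 1) k) F) (M : Matrix (Fin k) (Fin k) F)
    (hM : (g : Matrix (Idx (t + 1) k) (Idx (t + 1) k) F) * slot k (t + 1) i (etaS y w 0) =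
      slot k (t + 1) i M * (g : Matrix (Idx (t + 1) k) (Idx (t + 1) k) F))
    (b : Idx t k → F) (a : Fin k → F) :
    slot k (t + 1) i M *ᵥ mv g (tens i b a) =
      mv g (tens i b a) + sf a y • mv g (tens i b w) + sf a w • mv g (tens i b y) := by
  unfold mv
  rw [Matrix.mulVec_mulVec, ← hM, ← Matrix.mulVec_mulVec, Cfsg.Agent.Lib.Helper22.TWLeaf.slot_mulVec_tens,
    Cfsg.Agent.Lib.Helper16.TWSIILeaf.etaS_mulVec, zero_mul, zero_smul, add_zero, b1a_tens_add_r, b1a_tens_add_r,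
    b1a_tens_smul_r, b1a_tens_smul_r, Matrix.mulVec_add, Matrix.mulVec_add, Matrix.mulVec_smul, Matrix.mulVec_smul]

/-- `1 ⊗ (M - 1)` maps `C` into `W` when `M a ∈ a + F y` for `a ⊥ y` -/
lemma b1a_slot_sub_mem (i : Fin (t + 1)) (y : Fin k → F) (M : Matrix (Fin k) (Fin k) F)
    (hM : ∀ a : Fin k → F, sf a y = 0 → ∃ c : F, M *ᵥ a = a + c • y) (x : Idx (t + 1) k → F)
    (hx : x ∈ Cf i (sfv y)) : slot k (t + 1) i M *ᵥ x - x ∈ Wf i y := by
  unfold Wf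
  rw [mem_fib]
  intro idx
  have h0 : slice i idx (slot k (t + 1) i M *ᵥ x - x) = slice i idx (slot k (t + 1) i M *ᵥ x) - slice i idx x := rfl
  have hs : sf (slice i idx x) y = 0 := by
    have h1 := hx idx
    rw [mem_kerF, Cfsg.Agent.Lib.Helper25.SpT.sfv_dot] at h1
    exact h1
  obtain ⟨c, hc⟩ := hM _ hs
  rw [h0, Cfsg.Agent.Lib.Helper26.TWLeaf.slot_mulVec_slice26, hc, add_sub_cancel_left]
  exact Submodule.smul_mem _ c (Submodule.mem_span_singleton_self y)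

/-! ### the leaf -/

/-- B1a: the `hQ` analysis -/
theorem B1S_rel (hk : Even k) (hk4 : 4 ≤ k) (i : Fin (t + 1)) (y y' : Fin k → F) (hyy' : sf y y' = 1)
    (g : GL (Idx (t + 1) k) F) (hstab : img g (Wf i y) = Wf i y) (hstabC : img g (Cf i (sfv y)) = Cf i (sfv y))
    (hQ : ∀ w : Fin k → F, sf w y = 0 → ∃ M : Matrix (Fin k) (Fin k) F,
      (g : Matrix (Idx (t + 1) k) (Idx (t + 1) k) F) * slot k (t + 1) i (etaS y w 0) =
        slot k (t + 1) i M * (g : Matrix (Idx (t + 1) k) (Idx (t + 1) k) F) ∧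
      M *ᵥ y = y ∧ (∀ a : Fin k → F, sf a y = 0 → ∃ c : F, M *ᵥ a = a + c • y) ∧
      (∀ a : Fin k → F, sf (M *ᵥ a - a) y = 0)) :
    ∃ (γ : GL (Idx t k) F) (c : F), c ≠ 0 ∧
      (∀ b : Idx t k → F, mv g (tens i b y) = tens i ((γ : Matrix (Idx t k) (Idx t k) F) *ᵥ b) y) ∧
      (∀ b : Idx t k → F,
        mv g (tens i b y') - c • tens i ((γ : Matrix (Idx t k) (Idx t k) F) *ᵥ b) y' ∈ Cf i (sfv y)) ∧
      (∀ a : Fin k → F, sf a y = 0 → sf a y' = 0 → ∃ a' : Fin k → F, sf a' y = 0 ∧ sf a' y' = 0 ∧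
        ∀ b : Idx t k → F, mv g (tens i b a) - tens i ((γ : Matrix (Idx t k) (Idx t k) F) *ᵥ b) a' ∈ Wf i y) := by
  classical
  have hy0 : y ≠ 0 := by
    intro h
    rw [h, Cfsg.Agent.Lib.Helper25.SpT.sf_zero_left] at hyy'
    exact zero_ne_one hyy'
  have hy'y : sf y' y = -1 := by rw [Cfsg.Agent.Lib.Helper25.SpT.sf_skew, hyy']
  have hφy : sfv y' ⬝ᵥ y = 1 := by rw [Cfsg.Agent.Lib.Helper25.SpT.sfv_dot]; exact hyy'
  have hψy' : sfv y ⬝ᵥ y' = -1 := by rw [Cfsg.Agent.Lib.Helper25.SpT.sfv_dot]; exact hy'y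
  have hW : ∀ v ∈ Wf i y, mv g v ∈ Wf i y := by
    intro v hv
    have h := Cfsg.Agent.Lib.Helper12.TWIIBLeaf.mv_mem_img g (Wf i y) v hv
    rw [hstab] at h
    exact h
  have hstab' : img g⁻¹ (Wf i y) = Wf i y := Cfsg.Agent.Lib.Helper12.TWIIBLeaf.img_inv_eq g _ _ hstab
  have hW' : ∀ v ∈ Wf i y, mv g⁻¹ v ∈ Wf i y := by
    intro v hv
    have h := Cfsg.Agent.Lib.Helper12.TWIIBLeaf.mv_mem_img g⁻¹ (Wf i y) v hv
    rw [hstab'] at h
    exact h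
  have hty : ∀ b : Idx t k → F, tens i b y ∈ Wf i y := fun b =>
    (Cfsg.Agent.Lib.Helper22.TWLeaf.mem_Wf_iff_tens i y hy0 _).2 ⟨b, rfl⟩
  have hinj : ∀ b b' : Idx t k → F, tens i b y = tens i b' y → b = b' := by
    intro b b' h
    have h1 := congrArg (ctr i (sfv y')) h
    rw [Cfsg.Agent.Lib.Helper22.TWLeaf.ctr_tens, Cfsg.Agent.Lib.Helper22.TWLeaf.ctr_tens, hφy, one_smul,
      one_smul] at h1
    exact h1
  -- the matrix `T` of `g` on `W`, and `T'` of `g⁻¹`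
  obtain ⟨T, hT0⟩ := b1a_exists_mat (fun b => ctr i (sfv y') (mv g (tens i b y)))
    (fun b b' => b1a_lin_add i (sfv y') y g b b') (fun c b => b1a_lin_smul i (sfv y') y g c b)
  have hT : ∀ b, mv g (tens i b y) = tens i (T *ᵥ b) y := by
    intro b
    obtain ⟨τ, hτ⟩ := (Cfsg.Agent.Lib.Helper22.TWLeaf.mem_Wf_iff_tens i y hy0 _).1 (hW _ (hty b))
    have h1 : T *ᵥ b = ctr i (sfv y') (mv g (tens i b y)) := hT0 b
    rw [h1, hτ, Cfsg.Agent.Lib.Helper22.TWLeaf.ctr_tens, hφy, one_smul]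
  obtain ⟨T', hT0'⟩ := b1a_exists_mat (fun b => ctr i (sfv y') (mv g⁻¹ (tens i b y)))
    (fun b b' => b1a_lin_add i (sfv y') y g⁻¹ b b') (fun c b => b1a_lin_smul i (sfv y') y g⁻¹ c b)
  have hT' : ∀ b, mv g⁻¹ (tens i b y) = tens i (T' *ᵥ b) y := by
    intro b
    obtain ⟨τ, hτ⟩ := (Cfsg.Agent.Lib.Helper22.TWLeaf.mem_Wf_iff_tens i y hy0 _).1 (hW' _ (hty b))
    have h1 : T' *ᵥ b = ctr i (sfv y') (mv g⁻¹ (tens i b y)) := hT0' b
    rw [h1, hτ, Cfsg.Agent.Lib.Helper22.TWLeaf.ctr_tens, hφy, one_smul]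
  have hTT' : T * T' = 1 := by
    apply b1a_mat_ext
    intro b
    rw [← Matrix.mulVec_mulVec, Matrix.one_mulVec]
    apply hinj
    rw [← hT, ← hT', Cfsg.Agent.Lib.Helper12.TWIIBLeaf.mv_mv_inv]
  have hT'T : T' * T = 1 := _root_.mul_eq_one_comm.1 hTT'
  -- `g` on `V / C`
  obtain ⟨S, hS0⟩ := b1a_exists_mat (fun b => ctr i (sfv y) (mv g (tens i b y')))
    (fun b b' => b1a_lin_add i (sfv y) y' g b b') (fun c b => b1a_lin_smul i (sfv y) y' g c b)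
  have hS : ∀ b, mv g (tens i b y') + tens i (S *ᵥ b) y' ∈ Cf i (sfv y) := by
    intro b
    have h1 : S *ᵥ b = ctr i (sfv y) (mv g (tens i b y')) := hS0 b
    rw [Cfsg.Agent.Lib.Helper22.TWLeaf.mem_Cf_iff_ctr, Cfsg.Agent.Lib.Helper22.TWLeaf.ctr_add,
      Cfsg.Agent.Lib.Helper22.TWLeaf.ctr_tens, hψy', ← h1, neg_one_smul, add_neg_cancel]
  -- (E1)
  have hE1 : ∀ (w : Fin k → F) (M : Matrix (Fin k) (Fin k) F),
      (g : Matrix (Idx (t + 1) k) (Idx (t + 1) k) F) * slot k (t + 1) i (etaS y w 0) =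
        slot k (t + 1) i M * (g : Matrix (Idx (t + 1) k) (Idx (t + 1) k) F) →
      (∀ a : Fin k → F, sf a y = 0 → ∃ c : F, M *ᵥ a = a + c • y) →
      ∀ b : Idx t k → F, mv g (tens i b w) - tens i (S *ᵥ b) (M *ᵥ y' - y') ∈ Wf i y := by
    intro w M hM1 hM3 b
    have hq := b1a_Q i y w g M hM1 b y'
    rw [hy'y, hT b] at hq
    have hx := b1a_slot_sub_mem i y M hM3 _ (hS b)
    rw [Matrix.mulVec_add, Cfsg.Agent.Lib.Helper22.TWLeaf.slot_mulVec_tens, hq] at hx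
    have h2 : mv g (tens i b w) - tens i (S *ᵥ b) (M *ᵥ y' - y') =
        sf y' w • tens i (T *ᵥ b) y -
          ((mv g (tens i b y') + (-1 : F) • mv g (tens i b w) + sf y' w • tens i (T *ᵥ b) y) +
            tens i (S *ᵥ b) (M *ᵥ y') - (mv g (tens i b y') + tens i (S *ᵥ b) y')) := by
      rw [b1a_tens_sub_r]
      module
    rw [h2]
    exact Submodule.sub_mem _ (Submodule.smul_mem _ _ (hty _)) hx
  -- (E2)
  obtain ⟨a₀, ha₀0, ha₀y, ha₀y'⟩ := Cfsg.Agent.Lib.Helper26.TWSIILeaf.exists_A0 hk hk4 y y' hyy'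
  obtain ⟨z, hz⟩ := Cfsg.Agent.Lib.Helper25.SpT.exists_sf_ne_zero hk ha₀0
  have hw₀y : sf (z + sf z y • y') y = 0 := by
    rw [Cfsg.Agent.Lib.Helper25.SpT.sf_add_left, Cfsg.Agent.Lib.Helper25.SpT.sf_smul_left, hy'y]
    ring
  have hs₀ : sf a₀ (z + sf z y • y') = sf a₀ z := by
    rw [Cfsg.Agent.Lib.Helper25.SpT.sf_add_right, Cfsg.Agent.Lib.Helper25.SpT.sf_smul_right, ha₀y', mul_zero,
      add_zero]
  obtain ⟨M₀, hM₀1, hM₀2, hM₀3, hM₀4⟩ := hQ _ hw₀y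
  obtain ⟨Ma, hMa1, hMa2, hMa3, hMa4⟩ := hQ a₀ ha₀y
  have hm : sf (Ma *ᵥ y' - y') y = 0 := hMa4 y'
  obtain ⟨c₀, hc₀⟩ := hM₀3 _ hm
  have hrel : ∀ b, c₀ • (S *ᵥ b) = sf a₀ z • (T *ᵥ b) := by
    intro b
    have hq := b1a_Q i y _ g M₀ hM₀1 b a₀
    rw [ha₀y, zero_smul, add_zero, hs₀, hT b] at hq
    obtain ⟨β, hβ⟩ := (Cfsg.Agent.Lib.Helper22.TWLeaf.mem_Wf_iff_tens i y hy0 _).1 (hE1 a₀ Ma hMa1 hMa3 b)
    have hG : mv g (tens i b a₀) = tens i β y + tens i (S *ᵥ b) (Ma *ᵥ y' - y') := by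
      rw [← hβ]
      abel
    rw [hG, Matrix.mulVec_add, Cfsg.Agent.Lib.Helper22.TWLeaf.slot_mulVec_tens,
      Cfsg.Agent.Lib.Helper22.TWLeaf.slot_mulVec_tens, hM₀2, hc₀, b1a_tens_add_r, b1a_tens_smul_r,
      ← add_assoc] at hq
    apply hinj
    rw [b1a_tens_smul_l, b1a_tens_smul_l]
    exact add_left_cancel hq
  have hc₀0 : c₀ ≠ 0 := by
    intro h
    have hTz : ∀ b, T *ᵥ b = 0 := by
      intro b
      have h1 := hrel b
      rw [h, zero_smul] at h1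
      exact (smul_eq_zero.1 h1.symm).resolve_left hz
    have hk0 : 0 < k := by omega
    have h1 : (T * T') *ᵥ (fun _ : Idx t k => (1 : F)) = (1 : Matrix (Idx t k) (Idx t k) F) *ᵥ (fun _ => (1 : F)) := by
      rw [hTT']
    rw [← Matrix.mulVec_mulVec, hTz, Matrix.one_mulVec] at h1
    have h2 := congrFun h1 (fun _ => ⟨0, hk0⟩)
    simp only [Pi.zero_apply] at h2
    exact zero_ne_one h2
  obtain ⟨d, hd⟩ : ∃ d : F, d = c₀⁻¹ * sf a₀ z := ⟨_, rfl⟩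
  have hd0 : d ≠ 0 := by
    rw [hd]
    exact mul_ne_zero (inv_ne_zero hc₀0) hz
  have hSd : ∀ b, S *ᵥ b = d • (T *ᵥ b) := by
    intro b
    calc S *ᵥ b = c₀⁻¹ • (c₀ • (S *ᵥ b)) := by rw [smul_smul, inv_mul_cancel₀ hc₀0, one_smul]
      _ = c₀⁻¹ • (sf a₀ z • (T *ᵥ b)) := by rw [hrel b]
      _ = d • (T *ᵥ b) := by rw [smul_smul, hd]
  -- conclusion
  refine ⟨⟨T, T', hTT', hT'T⟩, -d, neg_ne_zero.2 hd0, ?_, ?_, ?_⟩
  · intro b
    exact hT b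
  · intro b
    have h1 := hS b
    rw [hSd b, b1a_tens_smul_l] at h1
    show mv g (tens i b y') - (-d) • tens i (T *ᵥ b) y' ∈ Cf i (sfv y)
    rw [neg_smul, sub_neg_eq_add]
    exact h1
  · intro a hay hay'
    obtain ⟨M, hM1, hM2, hM3, hM4⟩ := hQ a hay
    have hm' : sf (M *ᵥ y' - y') y = 0 := hM4 y'
    refine ⟨d • (M *ᵥ y' - y') - (d * sf (M *ᵥ y' - y') y') • y, ?_, ?_, ?_⟩
    · rw [Cfsg.Agent.Lib.Helper25.SpT.sf_sub_left, Cfsg.Agent.Lib.Helper25.SpT.sf_smul_left,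
        Cfsg.Agent.Lib.Helper25.SpT.sf_smul_left, hm', Cfsg.Agent.Lib.Helper25.SpT.sf_self]
      ring
    · rw [Cfsg.Agent.Lib.Helper25.SpT.sf_sub_left, Cfsg.Agent.Lib.Helper25.SpT.sf_smul_left,
        Cfsg.Agent.Lib.Helper25.SpT.sf_smul_left, hyy']
      ring
    · intro b
      have h1 := hE1 a M hM1 hM3 b
      rw [hSd b, b1a_tens_smul_l] at h1
      have h2 : mv g (tens i b a) - tens i (T *ᵥ b) (d • (M *ᵥ y' - y') - (d * sf (M *ᵥ y' - y') y') • y) =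
          (mv g (tens i b a) - d • tens i (T *ᵥ b) (M *ᵥ y' - y')) +
            (d * sf (M *ᵥ y' - y') y') • tens i (T *ᵥ b) y := by
        rw [b1a_tens_sub_r, b1a_tens_smul_r, b1a_tens_smul_r]
        abel
      show mv g (tens i b a) - tens i (T *ᵥ b) (d • (M *ᵥ y' - y') - (d * sf (M *ᵥ y' - y') y') • y) ∈ Wf i y
      rw [h2]
      exact Submodule.add_mem _ h1 (Submodule.smul_mem _ _ (hty _))

end Cfsg.Agent.Lib.Helper13.TWSIILeaf
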