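import Mathlib
import Cfsg.Agent.Lib.Helper13.TWSIIB1a
import Cfsg.Agent.Lib.Helper11.TWSIIB1c

/-!
# S5668 (C7 symplectic; owner helper5), Stage II-B (sub-planner helper14): leaf B1 `B1S_blocks` for a GENERAL hyperbolic pair
`(y, y')`, `k ≥ 4` (the corrected signature: `(hk4 : 4 ≤ k)` in place of `(hk2 : 2 ≤ k)`, msgs 5285/5295/5327)
= `Helper11.TWSIILeaf.B1S_asm ∘ Helper13.TWSIILeaf.B1S_rel`.
-/

set_option autoImplicit false
set_option linter.unusedSectionVars false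
set_option linter.unusedVariables false

namespace Cfsg.Agent.Lib.Helper13.TWSIILeaf
open Matrix Cfsg.Geo Cfsg.Agent.Lib.Helper18.AschA89 Cfsg.Agent.Lib.Helper8.TW Cfsg.Agent.Lib.Helper5.TWS
  Cfsg.Agent.Lib.Helper14.TWII Cfsg.Agent.Lib.Helper14.TWSII
open Cfsg.Agent.Lib.Helper25.SpT (sf Jm sfv)
open Cfsg.Agent.Lib.Helper23.TWUQ (NSp)

variable {F : Type*} [Field F] [Fintype F] {t k : ℕ}

/-- B1 (L) the GRADED action, `k ≥ 4` -/
theorem B1S_blocks (hk : Even k) (hk4 : 4 ≤ k) (i : Fin (t + 1)) (y y' : Fin k → F) (hyy' : sf y y' = 1)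
    (g : GL (Idx (t + 1) k) F) (hstab : img g (Wf i y) = Wf i y) (hstabC : img g (Cf i (sfv y)) = Cf i (sfv y))
    (hQ : ∀ w : Fin k → F, sf w y = 0 → ∃ M : Matrix (Fin k) (Fin k) F,
      (g : Matrix (Idx (t + 1) k) (Idx (t + 1) k) F) * slot k (t + 1) i (etaS y w 0) =
        slot k (t + 1) i M * (g : Matrix (Idx (t + 1) k) (Idx (t + 1) k) F) ∧
      M *ᵥ y = y ∧ (∀ a : Fin k → F, sf a y = 0 → ∃ c : F, M *ᵥ a = a + c • y) ∧
      (∀ a : Fin k → F, sf (M *ᵥ a - a) y = 0)) :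
    ∃ (α : GL (Fin k) F) (γ : GL (Idx t k) F) (u : GL (Idx (t + 1) k) F),
      (α : Matrix (Fin k) (Fin k) F) *ᵥ y = y ∧ (∃ c : F, (α : Matrix (Fin k) (Fin k) F) *ᵥ y' = c • y') ∧
      (∀ a : Fin k → F, sf a y = 0 → sf a y' = 0 →
        sf ((α : Matrix (Fin k) (Fin k) F) *ᵥ a) y = 0 ∧ sf ((α : Matrix (Fin k) (Fin k) F) *ᵥ a) y' = 0) ∧
      InUS i y u ∧ g = slotGL i α * extGL i γ * u := by
  obtain ⟨γ, c, hc, H1, H2, H3⟩ := B1S_rel hk hk4 i y y' hyy' g hstab hstabC hQ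
  exact Cfsg.Agent.Lib.Helper11.TWSIILeaf.B1S_asm hk4 i y y' hyy' g γ c hc H1 H2 H3

end Cfsg.Agent.Lib.Helper13.TWSIILeaf
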