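import Mathlib
import Cfsg.Agent.Lib.Helper5.TWS.Defs
import Cfsg.Agent.Lib.Helper8.TW.Defs
import Cfsg.Agent.Lib.Helper22.TWExtBasic
import Cfsg.Agent.Lib.Helper14.TWIIDefs
import Cfsg.Agent.Lib.Helper14.TWSIIDefs
import Cfsg.Agent.Lib.Helper9.TWST
import Cfsg.Agent.Lib.Helper4.TWS2AL1

/-!
# S5668 Stage II-B (sub-planner helper14): leaf L1 `InZ_sim_form` (helper13)

A similitude `u` with `InZ i y u` is `1 + θ ⊗ y y†`: the multiplier is `1` (as in `Helper23.TWUIIZ.InZ_unitary`), then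
helper4's `structureS` gives the weight `y y†` of `u - 1` at position `i`, and `θ` is read off a non-zero entry of `y y†`.
By-products: `InZ_mem_GSV`, `form_of_WForm` (from `WForm i (y η^T) Ψ` to `Ψ = ext i θ * rootN i y η`).
-/

set_option autoImplicit false
set_option linter.unusedSectionVars false
set_option linter.unusedVariables false

namespace Cfsg.Agent.Lib.Helper13.TWSIILeaf
open Matrix Cfsg.Geo Cfsg.Agent.Lib.Helper18.AschA89 Cfsg.Agent.Lib.Helper8.TW Cfsg.Agent.Lib.Helper5.TWS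
  Cfsg.Agent.Lib.Helper14.TWII Cfsg.Agent.Lib.Helper14.TWSII
open Cfsg.Agent.Lib.Helper25.SpT (sf Jm sfv)
open Cfsg.Agent.Lib.Helper23.TWUQ (NSp)

variable {F : Type*} [Field F] [Fintype F] {t k : ℕ}

/-- a similitude in `Z_W` is an isometry -/
theorem InZ_mem_GSV (hk : Even k) (i : Fin t) (y : Fin k → F) (hy0 : y ≠ 0)
    (u : GL (Idx t k) F) (huD : u ∈ DSV t k F) (hu : InZ i y u) : u ∈ GSV t k F := by
  obtain ⟨μ, hμ⟩ := mem_DSV.1 huD
  obtain ⟨hZ1, hZ2⟩ := hu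
  have hTI := Cfsg.Agent.Lib.Helper9.TWST.TIT_Wf hk i y hy0
  by_cases hW : Wf i y = ⊥
  · -- then `u = 1`
    rw [mem_GSV]
    intro v w
    have hv : mv u v = v := by
      have := hZ1 v
      rw [hW, Submodule.mem_bot] at this
      exact sub_eq_zero.1 this
    have hw : mv u w = w := by
      have := hZ1 w
      rw [hW, Submodule.mem_bot] at this
      exact sub_eq_zero.1 this
    rw [hv, hw]
  · obtain ⟨a, haW, ha0⟩ := Submodule.exists_mem_ne_zero_of_ne_bot hW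
    have hμ1 : (μ : F) = 1 := by
      obtain ⟨b, hb⟩ : ∃ b, sfT a b ≠ 0 := by
        by_contra hh
        push Not at hh
        exact ha0 (Cfsg.Agent.Lib.Helper9.TWST.sfT_nondeg_left hk hh)
      have h1 := hμ a b
      rw [hZ2 a haW] at h1
      have h2 : mv u b = b + (mv u b - b) := by abel
      rw [h2, sfT_add_right, hTI a haW _ (hZ1 b), add_zero] at h1
      have h3 : ((μ : F) - 1) * sfT a b = 0 := by rw [sub_mul, one_mul, ← h1, sub_self]
      rcases mul_eq_zero.1 h3 with h | h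
      · exact sub_eq_zero.1 h
      · exact absurd h hb
    rw [mem_GSV]
    intro v w
    rw [hμ v w, hμ1, one_mul]

/-- from the weight `y ηᵀ` at position `i` to the tensor shape -/
theorem form_of_WForm (i : Fin (t + 1)) (y η : Fin k → F) (hy0 : y ≠ 0) (hη0 : η ≠ 0)
    (Ψ : Matrix (Idx (t + 1) k) (Idx (t + 1) k) F)
    (h : Cfsg.Agent.Lib.Helper28.TWU2A.WForm i (Matrix.vecMulVec y η) Ψ) :
    ∃ θ : Matrix (Idx t k) (Idx t k) F, Ψ = ext i θ * rootN i y η := by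
  obtain ⟨a₀, ha₀⟩ := Function.ne_iff.mp hy0
  obtain ⟨a₁, ha₁⟩ := Function.ne_iff.mp hη0
  rw [Pi.zero_apply] at ha₀ ha₁
  obtain ⟨θ, hθ⟩ : ∃ θ : Matrix (Idx t k) (Idx t k) F,
      θ = fun p p' => Ψ (ins i a₀ p) (ins i a₁ p') / (y a₀ * η a₁) := ⟨_, rfl⟩
  refine ⟨θ, ?_⟩
  apply Cfsg.Agent.Lib.Helper22.TWLeaf.mat_ext_ins i
  intro a b p p'
  have e : (ext i θ * rootN i y η) (ins i a p) (ins i b p') = θ p p' * (Matrix.vecMulVec y η) a b :=
    Cfsg.Agent.Lib.Helper22.TWLeaf.ext_mul_slot_apply i θ (Matrix.vecMulVec y η) a b p p'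
  refine Eq.trans ?_ e.symm
  have hθpp : θ p p' = Ψ (ins i a₀ p) (ins i a₁ p') / (y a₀ * η a₁) := congrFun (congrFun hθ p) p'
  have hW := h (ins i a₀ p) (ins i a₁ p') a b
  rw [Cfsg.Agent.Lib.Helper22.TWLeaf.update_ins, Cfsg.Agent.Lib.Helper22.TWLeaf.update_ins, ins_same, ins_same,
    Matrix.vecMulVec_apply, Matrix.vecMulVec_apply] at hW
  have hn : y a₀ * η a₁ ≠ 0 := mul_ne_zero ha₀ ha₁
  rw [hθpp, Matrix.vecMulVec_apply]
  field_simp
  linear_combination hW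

/-- L1 -/
theorem InZ_sim_form (hk : Even k) (hk2 : 2 ≤ k) (i : Fin (t + 1)) (y : Fin k → F) (hy0 : y ≠ 0)
    (u : GL (Idx (t + 1) k) F) (huD : u ∈ DSV (t + 1) k F) (hu : InZ i y u) :
    ∃ θ : Matrix (Idx t k) (Idx t k) F,
      (u : Matrix (Idx (t + 1) k) (Idx (t + 1) k) F) = 1 + ext i θ * rootN i y (sfv y) := by
  have huG : u ∈ GSV (t + 1) k F := InZ_mem_GSV hk i y hy0 u huD hu
  have hW := Cfsg.Agent.Lib.Helper4.TWS2A.structureS hk i y hy0 u huG hu.1 hu.2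
  obtain ⟨θ, hθ⟩ := form_of_WForm i y (sfv y) hy0 (sfv_ne_zero hk hy0) _ hW
  refine ⟨θ, ?_⟩
  rw [← hθ]
  abel

end Cfsg.Agent.Lib.Helper13.TWSIILeaf
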