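import Mathlib
import Cfsg.Agent.Lib.Helper5.TWS.Defs
import Cfsg.Agent.Lib.Helper8.TW.Defs
import Cfsg.Agent.Lib.Helper22.TWExtBasic
import Cfsg.Agent.Lib.Helper22.TWExtMore
import Cfsg.Agent.Lib.Helper9.TWST
import Cfsg.Agent.Lib.Helper6.TWSTens
import Cfsg.Agent.Lib.Helper1.TWST2
import Cfsg.Agent.Lib.Helper14.TWIIDefs
import Cfsg.Agent.Lib.Helper14.TWIIBBK
import Cfsg.Agent.Lib.Helper14.TWSIIDefs

/-!
# S5668 (C7 symplectic; owner helper5), Stage II-B (sub-planner helper14): second half of leaf R2 `R1S_reduce`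

`skew_pure_form`: an ISOMETRY `u'' ∈ U^W` (`W = W(i,y)`) whose `C → W` part is PURE with a SKEW `σ`,
`u'' (b ⊗ w) = b ⊗ w + sf w v • (σ b ⊗ y)` for all `w ⊥ y`, has the inverse
`u''⁻¹ = 1 + σ ⊗ (v ∧ y) + T ⊗ y y†` for some matrix `T`  (`v ⊥ y, y'`, `sf y y' = 1`).

Proof: `x(b) := u''(b ⊗ y') - b ⊗ y' - σ b ⊗ v` is orthogonal to every `b' ⊗ w`, `w ⊥ y` (isometry identity, `σ` skew,
`(u'' - 1) V ≤ C = W^⊥`), hence lies in `W`: `x(b) = T b ⊗ y`, `T b = ctr (sfv y') (u'' (b ⊗ y'))` linear in `b`.  So `u'' = 1 - M`,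
`M := σ ⊗ (v ∧ y) + T ⊗ y y†` (check on pure tensors `b ⊗ a`, `a = (a + sf a y • y') - sf a y • y'`), `M * M = 0`, `u''⁻¹ = 1 + M`.
-/

set_option autoImplicit false
set_option linter.unusedSectionVars false
set_option linter.unusedVariables false

namespace Cfsg.Agent.Lib.Helper13.TWSIILeaf
open Matrix Cfsg.Geo Cfsg.Agent.Lib.Helper18.AschA89 Cfsg.Agent.Lib.Helper8.TW Cfsg.Agent.Lib.Helper5.TWS
  Cfsg.Agent.Lib.Helper14.TWII Cfsg.Agent.Lib.Helper14.TWSII
open Cfsg.Agent.Lib.Helper25.SpT (sf Jm sfv)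
open Cfsg.Agent.Lib.Helper23.TWUQ (NSp)

variable {F : Type*} [Field F] [Fintype F] {t k : ℕ}

/-! ### local tools -/

lemma r2b_tens_add_l (i : Fin (t + 1)) (b b' : Idx t k → F) (a : Fin k → F) :
    tens i (b + b') a = tens i b a + tens i b' a := by
  funext x
  simp only [tens, Pi.add_apply]
  ring

lemma r2b_tens_smul_l (i : Fin (t + 1)) (c : F) (b : Idx t k → F) (a : Fin k → F) :
    tens i (c • b) a = c • tens i b a := by
  funext x
  simp only [tens, Pi.smul_apply, smul_eq_mul]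
  ring

lemma r2b_tens_add_r (i : Fin (t + 1)) (b : Idx t k → F) (a a' : Fin k → F) :
    tens i b (a + a') = tens i b a + tens i b a' := by
  funext x
  simp only [tens, Pi.add_apply]
  ring

lemma r2b_tens_sub_r (i : Fin (t + 1)) (b : Idx t k → F) (a a' : Fin k → F) :
    tens i b (a - a') = tens i b a - tens i b a' := by
  funext x
  simp only [tens, Pi.sub_apply]
  ring

lemma r2b_tens_smul_r (i : Fin (t + 1)) (b : Idx t k → F) (c : F) (a : Fin k → F) :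
    tens i b (c • a) = c • tens i b a := by
  funext x
  simp only [tens, Pi.smul_apply, smul_eq_mul]
  ring

/-- two matrices agreeing on all pure tensors are equal -/
lemma r2b_mat_eq_of_tens (i : Fin (t + 1)) {M M' : Matrix (Idx (t + 1) k) (Idx (t + 1) k) F}
    (h : ∀ b a, M *ᵥ tens i b a = M' *ᵥ tens i b a) : M = M' := by
  classical
  apply Cfsg.Agent.Lib.Helper22.TWLeaf.mat_ext_ins i
  intro a b u u'
  have h1 := congrFun (h (Pi.single u' 1) (eo b)) (ins i a u)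
  rw [Cfsg.Agent.Lib.Helper14.TWIIBLeaf.tens_single_eo, Matrix.mulVec_single_one, Matrix.mulVec_single_one] at h1
  exact h1

lemma r2b_vmv (y ξ a : Fin k → F) : Matrix.vecMulVec y ξ *ᵥ a = (ξ ⬝ᵥ a) • y := by
  funext c
  simp only [Matrix.mulVec, dotProduct, Matrix.vecMulVec_apply, Pi.smul_apply, smul_eq_mul]
  rw [Finset.sum_mul]
  apply Finset.sum_congr rfl
  intro d _
  ring

lemma r2b_vv_mul (p ξ p' ξ' : Fin k → F) (h : ξ ⬝ᵥ p' = 0) :
    Matrix.vecMulVec p ξ * Matrix.vecMulVec p' ξ' = 0 := by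
  rw [Matrix.vecMulVec_mul_vecMulVec, h, zero_smul, Matrix.vecMulVec_zero]

/-- products of "`γ ⊗ A`" and "`γ' ⊗ A'`" with `A * A' = 0` vanish -/
lemma r2b_es_mul (i : Fin (t + 1)) (γ γ' : Matrix (Idx t k) (Idx t k) F) (A A' : Matrix (Fin k) (Fin k) F)
    (h : A * A' = 0) :
    (ext i γ * slot k (t + 1) i A) * (ext i γ' * slot k (t + 1) i A') = 0 := by
  calc (ext i γ * slot k (t + 1) i A) * (ext i γ' * slot k (t + 1) i A')
      = ext i γ * ((slot k (t + 1) i A * ext i γ') * slot k (t + 1) i A') := by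
        simp only [mul_assoc]
    _ = ext i γ * ((ext i γ' * slot k (t + 1) i A) * slot k (t + 1) i A') := by
        rw [Cfsg.Agent.Lib.Helper22.TWLeaf.ext_comm_slot]
    _ = ext i γ * (ext i γ' * (slot k (t + 1) i A * slot k (t + 1) i A')) := by
        rw [mul_assoc]
    _ = 0 := by
        rw [slot_mul, h, slot_zero, mul_zero, mul_zero]

/-- membership in a fibre through the form: `x ∈ W(i,y)` as soon as `x ⊥ b' ⊗ w` for all `w ⊥ y` -/
lemma r2b_mem_Wf (hk : Even k) (i : Fin (t + 1)) (y : Fin k → F) (x : Idx (t + 1) k → F)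
    (h : ∀ w : Fin k → F, sf w y = 0 → ∀ b' : Idx t k → F, sfT x (tens i b' w) = 0) : x ∈ Wf i y := by
  unfold Wf
  rw [Cfsg.Agent.Lib.Helper22.TWLeaf.mem_fib_iff_ctr]
  intro ξ hξ
  have hξy : ξ ⬝ᵥ y = 0 := hξ y (Submodule.mem_span_singleton_self y)
  obtain ⟨w, hw⟩ : ∃ w : Fin k → F, sfv w = ξ := by
    refine ⟨-((Jm k : Matrix (Fin k) (Fin k) F) *ᵥ ξ), ?_⟩
    unfold sfv
    rw [Matrix.mulVec_neg, Matrix.mulVec_mulVec, Cfsg.Agent.Lib.Helper1.TWST2.Jm_mul_Jm hk, Matrix.neg_mulVec,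
      Matrix.one_mulVec, neg_neg]
  have hwy : sf w y = 0 := by
    rw [Cfsg.Agent.Lib.Helper25.SpT.sf_skew, ← Cfsg.Agent.Lib.Helper25.SpT.sfv_dot, hw, hξy, neg_zero]
  rw [← hw]
  apply Cfsg.Agent.Lib.Helper9.TWST.sfT_nondeg_left hk
  intro b'
  rw [← Cfsg.Agent.Lib.Helper6.TWSLeaf.sfT_tens_right]
  exact h w hwy b'

/-! ### the leaf -/

/-- R2, second half: the inverse of an isometry in `U^W` with pure skew `C → W` part -/
theorem skew_pure_form (hk : Even k) (i : Fin (t + 1)) (y y' v : Fin k → F) (hyy' : sf y y' = 1)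
    (hvy : sf v y = 0) (hvy' : sf v y' = 0)
    (u'' : GL (Idx (t + 1) k) F) (huG : u'' ∈ GSV (t + 1) k F) (hu : InUS i y u'')
    (σ : Matrix (Idx t k) (Idx t k) F) (hσ : SkewT σ)
    (hσu : ∀ w : Fin k → F, sf w y = 0 → ∀ b : Idx t k → F,
      mv u'' (tens i b w) = tens i b w + sf w v • tens i (σ *ᵥ b) y) :
    ∃ T : Matrix (Idx t k) (Idx t k) F,
      ((u''⁻¹ : GL (Idx (t + 1) k) F) : Matrix (Idx (t + 1) k) (Idx (t + 1) k) F) =
        1 + ext i σ * slot k (t + 1) i (wedS v y) + ext i T * rootN i y (sfv y) := by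
  classical
  have hy0 : y ≠ 0 := by
    intro h
    rw [h, Cfsg.Agent.Lib.Helper25.SpT.sf_zero_left] at hyy'
    exact zero_ne_one hyy'
  have hy'y : sf y' y = -1 := by rw [Cfsg.Agent.Lib.Helper25.SpT.sf_skew, hyy']
  have hyv : sf y v = 0 := by rw [Cfsg.Agent.Lib.Helper25.SpT.sf_skew, hvy, neg_zero]
  have hy'v : sf y' v = 0 := by rw [Cfsg.Agent.Lib.Helper25.SpT.sf_skew, hvy', neg_zero]
  obtain ⟨hU1, hU2, hU3⟩ := hu
  -- the linear map `b ↦ ctr (sfv y') (u'' (b ⊗ y'))`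
  let L : (Idx t k → F) →ₗ[F] (Idx t k → F) :=
    { toFun := fun b => ctr i (sfv y') (mv u'' (tens i b y'))
      map_add' := by
        intro b b'
        show ctr i (sfv y') (mv u'' (tens i (b + b') y')) =
          ctr i (sfv y') (mv u'' (tens i b y')) + ctr i (sfv y') (mv u'' (tens i b' y'))
        unfold mv
        rw [r2b_tens_add_l, Matrix.mulVec_add, Cfsg.Agent.Lib.Helper22.TWLeaf.ctr_add]
      map_smul' := by
        intro c b
        show ctr i (sfv y') (mv u'' (tens i (c • b) y')) = c • ctr i (sfv y') (mv u'' (tens i b y'))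
        unfold mv
        rw [r2b_tens_smul_l, Matrix.mulVec_smul, Cfsg.Agent.Lib.Helper22.TWLeaf.ctr_smul] }
  obtain ⟨T, hTdef⟩ : ∃ T : Matrix (Idx t k) (Idx t k) F, T = LinearMap.toMatrix' L := ⟨_, rfl⟩
  have hT : ∀ b, T *ᵥ b = ctr i (sfv y') (mv u'' (tens i b y')) := by
    intro b
    rw [hTdef, ← Matrix.toLin'_apply, Matrix.toLin'_toMatrix']
    rfl
  refine ⟨T, ?_⟩
  -- key: `u'' (b ⊗ y') = b ⊗ y' + σ b ⊗ v + T b ⊗ y`
  have hkey : ∀ b, mv u'' (tens i b y') = tens i b y' + tens i (σ *ᵥ b) v + tens i (T *ᵥ b) y := by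
    intro b
    have hx : mv u'' (tens i b y') - tens i b y' - tens i (σ *ᵥ b) v ∈ Wf i y := by
      apply r2b_mem_Wf hk
      intro w hwy b'
      have e1 : sfT (mv u'' (tens i b y')) (mv u'' (tens i b' w)) = sfT (tens i b y') (tens i b' w) :=
        (mem_GSV.1 huG) _ _
      rw [hσu w hwy b', sfT_add_right, sfT_smul_right] at e1
      have hC : mv u'' (tens i b y') - tens i b y' ∈ perpT (Wf i y) := by
        rw [Cfsg.Agent.Lib.Helper9.TWST.perpT_Wf hk i y hy0]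
        exact hU3 _
      have hW : tens i (σ *ᵥ b') y ∈ Wf i y :=
        (Cfsg.Agent.Lib.Helper22.TWLeaf.mem_Wf_iff_tens i y hy0 _).2 ⟨_, rfl⟩
      have e2 : sfT (mv u'' (tens i b y')) (tens i (σ *ᵥ b') y) - sfT (tens i b y') (tens i (σ *ᵥ b') y) = 0 := by
        rw [← sfT_sub_left]
        exact hC _ hW
      have e3 : sfT (tens i b y') (tens i (σ *ᵥ b') y) = sfT b (σ *ᵥ b') * sf y' y :=
        Cfsg.Agent.Lib.Helper6.TWSLeaf.sfT_tens i b (σ *ᵥ b') y' y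
      have e4 : sfT (tens i (σ *ᵥ b) v) (tens i b' w) = sfT (σ *ᵥ b) b' * sf v w :=
        Cfsg.Agent.Lib.Helper6.TWSLeaf.sfT_tens i (σ *ᵥ b) b' v w
      have e5 : sfT (σ *ᵥ b) b' = - sfT b (σ *ᵥ b') := hσ b b'
      have e6 : sf v w = - sf w v := Cfsg.Agent.Lib.Helper25.SpT.sf_skew v w
      rw [hy'y] at e3
      rw [e5, e6] at e4
      rw [sfT_sub_left, sfT_sub_left]
      linear_combination e1 - sf w v * e2 - sf w v * e3 - e4
    obtain ⟨τ, hτ⟩ := (Cfsg.Agent.Lib.Helper22.TWLeaf.mem_Wf_iff_tens i y hy0 _).1 hx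
    have e : mv u'' (tens i b y') = tens i b y' + tens i (σ *ᵥ b) v + tens i τ y := by
      rw [← hτ]
      abel
    have hτ' : T *ᵥ b = τ := by
      rw [hT, e, Cfsg.Agent.Lib.Helper22.TWLeaf.ctr_add, Cfsg.Agent.Lib.Helper22.TWLeaf.ctr_add,
        Cfsg.Agent.Lib.Helper22.TWLeaf.ctr_tens, Cfsg.Agent.Lib.Helper22.TWLeaf.ctr_tens,
        Cfsg.Agent.Lib.Helper22.TWLeaf.ctr_tens, Cfsg.Agent.Lib.Helper25.SpT.sfv_dot,
        Cfsg.Agent.Lib.Helper25.SpT.sfv_dot, Cfsg.Agent.Lib.Helper25.SpT.sfv_dot,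
        Cfsg.Agent.Lib.Helper25.SpT.sf_self, hvy', hyy', zero_smul, zero_smul, one_smul, zero_add, zero_add]
    rw [hτ']
    exact e
  -- the matrix `M`
  obtain ⟨M, hMdef⟩ : ∃ M : Matrix (Idx (t + 1) k) (Idx (t + 1) k) F,
      M = ext i σ * slot k (t + 1) i (wedS v y) + ext i T * rootN i y (sfv y) := ⟨_, rfl⟩
  have hMt : ∀ (b : Idx t k → F) (a : Fin k → F), M *ᵥ tens i b a =
      sf a y • tens i (σ *ᵥ b) v - sf a v • tens i (σ *ᵥ b) y + sf a y • tens i (T *ᵥ b) y := by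
    intro b a
    rw [hMdef, Matrix.add_mulVec, ← Matrix.mulVec_mulVec, ← Matrix.mulVec_mulVec]
    unfold rootN
    rw [Cfsg.Agent.Lib.Helper22.TWLeaf.slot_mulVec_tens, Cfsg.Agent.Lib.Helper22.TWLeaf.slot_mulVec_tens,
      Cfsg.Agent.Lib.Helper22.TWLeaf.ext_mulVec_tens, Cfsg.Agent.Lib.Helper22.TWLeaf.ext_mulVec_tens]
    unfold wedS
    rw [Matrix.sub_mulVec, r2b_vmv, r2b_vmv, r2b_vmv, Cfsg.Agent.Lib.Helper25.SpT.sfv_dot,
      Cfsg.Agent.Lib.Helper25.SpT.sfv_dot, r2b_tens_sub_r, r2b_tens_smul_r, r2b_tens_smul_r, r2b_tens_smul_r]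
  have hu''M : (u'' : Matrix (Idx (t + 1) k) (Idx (t + 1) k) F) = 1 - M := by
    apply r2b_mat_eq_of_tens i
    intro b a
    have hw0 : sf (a + sf a y • y') y = 0 := by
      rw [Cfsg.Agent.Lib.Helper25.SpT.sf_add_left, Cfsg.Agent.Lib.Helper25.SpT.sf_smul_left, hy'y]
      ring
    have hw0v : sf (a + sf a y • y') v = sf a v := by
      rw [Cfsg.Agent.Lib.Helper25.SpT.sf_add_left, Cfsg.Agent.Lib.Helper25.SpT.sf_smul_left, hy'v]
      ring
    have hdec : tens i b a = tens i b (a + sf a y • y') + (-(sf a y)) • tens i b y' := by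
      rw [← r2b_tens_smul_r, ← r2b_tens_add_r]
      congr 1
      rw [neg_smul, add_neg_cancel_right]
    have h1 := hσu _ hw0 b
    have h2 := hkey b
    rw [hw0v] at h1
    unfold mv at h1 h2
    rw [Matrix.sub_mulVec, Matrix.one_mulVec, hMt b a]
    calc (u'' : Matrix (Idx (t + 1) k) (Idx (t + 1) k) F) *ᵥ tens i b a
        = (u'' : Matrix (Idx (t + 1) k) (Idx (t + 1) k) F) *ᵥ
            (tens i b (a + sf a y • y') + (-(sf a y)) • tens i b y') := by rw [← hdec]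
      _ = (tens i b (a + sf a y • y') + sf a v • tens i (σ *ᵥ b) y) +
            (-(sf a y)) • (tens i b y' + tens i (σ *ᵥ b) v + tens i (T *ᵥ b) y) := by
          rw [Matrix.mulVec_add, Matrix.mulVec_smul, h1, h2]
      _ = tens i b a -
            (sf a y • tens i (σ *ᵥ b) v - sf a v • tens i (σ *ᵥ b) y + sf a y • tens i (T *ᵥ b) y) := by
          rw [hdec]
          module
  have hMM : M * M = 0 := by
    have hSS : wedS v y * wedS v y = 0 := by
      unfold wedS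
      rw [sub_mul, mul_sub, mul_sub, r2b_vv_mul, r2b_vv_mul, r2b_vv_mul, r2b_vv_mul]
      · simp
      · rw [Cfsg.Agent.Lib.Helper25.SpT.sfv_dot]; exact hyv
      · rw [Cfsg.Agent.Lib.Helper25.SpT.sfv_dot]; exact Cfsg.Agent.Lib.Helper25.SpT.sf_self v
      · rw [Cfsg.Agent.Lib.Helper25.SpT.sfv_dot]; exact Cfsg.Agent.Lib.Helper25.SpT.sf_self y
      · rw [Cfsg.Agent.Lib.Helper25.SpT.sfv_dot]; exact hvy
    have hSN : wedS v y * Matrix.vecMulVec y (sfv y) = 0 := by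
      unfold wedS
      rw [sub_mul, r2b_vv_mul, r2b_vv_mul]
      · simp
      · rw [Cfsg.Agent.Lib.Helper25.SpT.sfv_dot]; exact hyv
      · rw [Cfsg.Agent.Lib.Helper25.SpT.sfv_dot]; exact Cfsg.Agent.Lib.Helper25.SpT.sf_self y
    have hNS : Matrix.vecMulVec y (sfv y) * wedS v y = 0 := by
      unfold wedS
      rw [mul_sub, r2b_vv_mul, r2b_vv_mul]
      · simp
      · rw [Cfsg.Agent.Lib.Helper25.SpT.sfv_dot]; exact Cfsg.Agent.Lib.Helper25.SpT.sf_self y
      · rw [Cfsg.Agent.Lib.Helper25.SpT.sfv_dot]; exact hvy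
    have hNN : Matrix.vecMulVec y (sfv y) * Matrix.vecMulVec y (sfv y) = 0 := by
      apply r2b_vv_mul
      rw [Cfsg.Agent.Lib.Helper25.SpT.sfv_dot]; exact Cfsg.Agent.Lib.Helper25.SpT.sf_self y
    rw [hMdef]
    unfold rootN
    rw [add_mul, mul_add, mul_add, r2b_es_mul i _ _ _ _ hSS, r2b_es_mul i _ _ _ _ hSN, r2b_es_mul i _ _ _ _ hNS,
      r2b_es_mul i _ _ _ _ hNN]
    simp
  have hfin : (u'' : Matrix (Idx (t + 1) k) (Idx (t + 1) k) F) * (1 + M) = 1 := by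
    rw [hu''M, sub_mul, one_mul, mul_add, mul_one, hMM, add_zero, add_sub_cancel_right]
  have := Units.inv_eq_of_mul_eq_one_right hfin
  rw [this, hMdef, add_assoc]

end Cfsg.Agent.Lib.Helper13.TWSIILeaf
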