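import Mathlib
import Cfsg.Agent.Lib.Helper5.TWS.Defs

/-!
# S5668 Stage I, `k = 2` block: leaf K2-7 `sp2_neg` (helper13)

`α ∈ Sp₂(F)`, `α y = -y`, `y ≠ 0` ⟹ `α + 1 = τ • y y†` (`y† = sfv y`).  By-products: `Jm_two`, `sf_two`, `sfv_two`
(the standard symplectic form on `F²` in coordinates).
-/

set_option autoImplicit false
set_option linter.unusedSectionVars false
set_option linter.unusedVariables false

namespace Cfsg.Agent.Lib.Helper13.TWSLeaf
open Matrix Cfsg.Geo Cfsg.Agent.Lib.Helper18.AschA89 Cfsg.Agent.Lib.Helper8.TW Cfsg.Agent.Lib.Helper5.TWS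
open Cfsg.Agent.Lib.Helper25.SpT (sf Jm sfv)

variable {F : Type*} [Field F] [Fintype F] {t k : ℕ}

theorem Jm_two : (Jm 2 : Matrix (Fin 2) (Fin 2) F) = !![0, 1; -1, 0] := by
  ext i j
  fin_cases i <;> fin_cases j <;> simp [Cfsg.Agent.Lib.Helper25.SpT.Jm_apply]

theorem sfv_two (y : Fin 2 → F) : sfv y = ![y 1, - y 0] := by
  unfold Cfsg.Agent.Lib.Helper25.SpT.sfv
  rw [Jm_two]
  ext i
  fin_cases i <;> simp [Matrix.mulVec, dotProduct, Fin.sum_univ_two]

theorem sf_two (x y : Fin 2 → F) : sf x y = x 0 * y 1 - x 1 * y 0 := by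
  have h : sf x y = x ⬝ᵥ sfv y := rfl
  rw [h, sfv_two]
  simp [dotProduct, Fin.sum_univ_two]
  ring

/-- K2-7 -/
theorem sp2_neg (hk : k = 2) (α : Matrix (Fin k) (Fin k) F) (y : Fin k → F) (hy : y ≠ 0)
    (hα : ∀ a a' : Fin k → F, sf (α *ᵥ a) (α *ᵥ a') = sf a a')
    (hαy : α *ᵥ y = -y) : ∃ τ : F, α + 1 = τ • Matrix.vecMulVec y (sfv y) := by
  subst hk
  have e1 : α 0 0 * y 0 + α 0 1 * y 1 = - y 0 := by
    have := congrFun hαy 0
    simpa [Matrix.mulVec, dotProduct, Fin.sum_univ_two] using this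
  have e2 : α 1 0 * y 0 + α 1 1 * y 1 = - y 1 := by
    have := congrFun hαy 1
    simpa [Matrix.mulVec, dotProduct, Fin.sum_univ_two] using this
  have e3 : α 0 0 * α 1 1 - α 1 0 * α 0 1 = 1 := by
    have := hα (Pi.single 0 1) (Pi.single 1 1)
    rw [sf_two, sf_two] at this
    simpa [Matrix.mulVec_single_one] using this
  rw [sfv_two]
  by_cases h0 : y 0 = 0
  · have h1 : y 1 ≠ 0 := by
      intro h1
      apply hy
      ext i
      fin_cases i
      · exact h0
      · exact h1
    rw [h0] at e1 e2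
    have hb : α 0 1 = 0 := by
      have : α 0 1 * y 1 = 0 := by linear_combination e1
      exact (mul_eq_zero.mp this).resolve_right h1
    have hd : α 1 1 = -1 := by
      have : (α 1 1 + 1) * y 1 = 0 := by linear_combination e2
      have := (mul_eq_zero.mp this).resolve_right h1
      linear_combination this
    have ha' : α 0 0 = -1 := by
      rw [hb, hd] at e3
      linear_combination -e3
    refine ⟨α 1 0 / (y 1) ^ 2, ?_⟩
    ext i j
    fin_cases i <;> fin_cases j
    · simp [h0, ha']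
    · simp [h0, hb]
    · simp
      field_simp
    · simp [h0, hd]
  · refine ⟨- α 0 1 / (y 0) ^ 2, ?_⟩
    -- d + 1 = b u, with u = y1 / y0
    have hd : (α 1 1 + 1) * y 0 = α 0 1 * y 1 := by
      have : ((α 1 1 + 1) * y 0 - α 0 1 * y 1) * y 0 = 0 := by
        linear_combination (-(y 0) ^ 2) * e3 + (α 1 1 * y 0) * e1 - (α 0 1 * y 0) * e2
      have := (mul_eq_zero.mp this).resolve_right h0
      linear_combination this
    ext i j
    fin_cases i <;> fin_cases j
    · simp
      field_simp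
      linear_combination e1
    · simp
      field_simp
    · simp
      field_simp
      linear_combination (y 0) * e2 - (y 1) * hd
    · simp
      field_simp
      linear_combination hd

end Cfsg.Agent.Lib.Helper13.TWSLeaf
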