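import Mathlib
import Cfsg.Agent.Lib.Helper5.TWU.Defs
import Cfsg.Agent.Lib.Helper14.TWIIDefs
import Cfsg.Agent.Lib.Helper19.TWU3Defs
import Cfsg.Agent.Lib.Helper28.TWU2ADefs
import Cfsg.Agent.Lib.Helper26.TWFibA

/-!
# S5672-IIA (sub-planner helper28), leaves L2a `wform_mul_zero`, L2b `wform_slot_mul` (helper13)

Tools (reusable): `slot_mul_apply13`, `mul_slot_apply13` (entries of `slot l A * Ψ`, `Ψ * slot l B`),
`slot_mul_slot_apply13`, `wform_norm13` (the normalised form of a weight `y y†`),
`sum_mul_line13` (a sum over `Idx t k` of `G x * h (x i)` with `G` independent of `x i`).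
-/

set_option autoImplicit false
set_option linter.unusedSectionVars false
set_option linter.unusedVariables false

namespace Cfsg.Agent.Lib.Helper13.TWU2ALeaf
open Matrix Cfsg.Geo Cfsg.Agent.Lib.Helper18.AschA89 Cfsg.Agent.Lib.Helper8.TW
open Cfsg.Agent.Lib.Helper5.TWU Cfsg.Agent.Lib.Helper19.TWU3 Cfsg.Agent.Lib.Helper28.TWU2A
open Cfsg.Agent.Lib.Helper20.UT (hv)

variable {F : Type*} [Field F] [Fintype F] {t k q : ℕ}

/-- entries of `slot l A * Ψ` -/
theorem slot_mul_apply13 (l : Fin t) (A : Matrix (Fin k) (Fin k) F) (Ψ : Matrix (Idx t k) (Idx t k) F)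
    (x x' : Idx t k) : (slot k t l A * Ψ) x x' = ∑ c, A (x l) c * Ψ (Function.update x l c) x' := by
  classical
  calc (slot k t l A * Ψ) x x'
      = ∑ z : Idx t k, if (∀ j, j ≠ l → x j = z j) then A (x l) (z l) * Ψ z x' else 0 := by
        rw [Matrix.mul_apply]
        apply Finset.sum_congr rfl
        intro z _
        rw [slot_apply]
        split_ifs <;> simp
    _ = ∑ b : Fin k, A (x l) (Function.update x l b l) * Ψ (Function.update x l b) x' :=
        Cfsg.Agent.Lib.Helper26.TWLeaf.sum_line26 l x (fun z => A (x l) (z l) * Ψ z x')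
    _ = ∑ c, A (x l) c * Ψ (Function.update x l c) x' := by
        simp only [Function.update_self]

/-- entries of `Ψ * slot l B` -/
theorem mul_slot_apply13 (l : Fin t) (B : Matrix (Fin k) (Fin k) F) (Ψ : Matrix (Idx t k) (Idx t k) F)
    (x x' : Idx t k) : (Ψ * slot k t l B) x x' = ∑ c, Ψ x (Function.update x' l c) * B c (x' l) := by
  classical
  calc (Ψ * slot k t l B) x x'
      = ∑ z : Idx t k, if (∀ j, j ≠ l → x' j = z j) then Ψ x z * B (z l) (x' l) else 0 := by
        rw [Matrix.mul_apply]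
        apply Finset.sum_congr rfl
        intro z _
        rw [slot_apply]
        by_cases h : ∀ j, j ≠ l → x' j = z j
        · rw [if_pos h, if_pos (fun j hj => (h j hj).symm)]
        · rw [if_neg h, if_neg (fun h' => h (fun j hj => (h' j hj).symm)), mul_zero]
    _ = ∑ b : Fin k, Ψ x (Function.update x' l b) * B (Function.update x' l b l) (x' l) :=
        Cfsg.Agent.Lib.Helper26.TWLeaf.sum_line26 l x' (fun z => Ψ x z * B (z l) (x' l))
    _ = ∑ c, Ψ x (Function.update x' l c) * B c (x' l) := by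
        simp only [Function.update_self]

/-- entries of `slot l A * Ψ * slot l' B` -/
theorem slot_mul_slot_apply13 (l l' : Fin t) (A B : Matrix (Fin k) (Fin k) F) (Ψ : Matrix (Idx t k) (Idx t k) F)
    (x x' : Idx t k) :
    (slot k t l A * Ψ * slot k t l' B) x x' =
      ∑ c, ∑ d, A (x l) c * Ψ (Function.update x l c) (Function.update x' l' d) * B d (x' l') := by
  rw [mul_slot_apply13]
  simp_rw [slot_mul_apply13, Finset.sum_mul]
  exact Finset.sum_comm

/-- the normalised form of a weight `y y†` at position `i`: with `y a₀ ≠ 0`,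
`Ψ x x' * n = Ψ x[a₀] x'[a₀] * (y (x i) * (y (x' i))^q)`, `n = y a₀ * (y a₀)^q` -/
theorem wform_norm13 (i : Fin t) (y : Fin k → F) (a₀ : Fin k) (Ψ : Matrix (Idx t k) (Idx t k) F)
    (h : WForm i (vv q y y) Ψ) (x x' : Idx t k) :
    Ψ x x' * (y a₀ * (y a₀) ^ q) =
      Ψ (Function.update x i a₀) (Function.update x' i a₀) * (y (x i) * (y (x' i)) ^ q) := by
  have := h (Function.update x i a₀) (Function.update x' i a₀) (x i) (x' i)
  rw [vv_apply, vv_apply, Function.update_self, Function.update_self, Function.update_idem,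
    Function.update_idem, Function.update_eq_self, Function.update_eq_self] at this
  exact this

/-- a sum of `G x * h (x i)` with `G` independent of the `i`-th coordinate and `∑ h = 0` vanishes -/
theorem sum_mul_line13 (i : Fin t) (G : Idx t k → F) (hG : ∀ x c, G (Function.update x i c) = G x)
    (h : Fin k → F) (h0 : ∑ c, h c = 0) : ∑ x, G x * h (x i) = 0 := by
  classical
  -- use the splitting of the index set
  let e := Equiv.funSplitAt i (Fin k)
  have he : ∀ (c : Fin k) (u : {j // j ≠ i} → Fin k), (e.symm (c, u)) i = c := by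
    intro c u
    simp [e, Equiv.funSplitAt, Equiv.piSplitAt]
  have hupd : ∀ (c c' : Fin k) (u : {j // j ≠ i} → Fin k),
      Function.update (e.symm (c, u)) i c' = e.symm (c', u) := by
    intro c c' u
    funext j
    by_cases hj : j = i
    · subst hj
      rw [Function.update_self, he]
    · rw [Function.update_of_ne hj]
      simp [e, Equiv.funSplitAt, Equiv.piSplitAt, hj]
  rw [← Equiv.sum_comp e.symm, Fintype.sum_prod_type, Finset.sum_comm]
  have : ∀ u : {j // j ≠ i} → Fin k, ∑ c, G (e.symm (c, u)) * h ((e.symm (c, u)) i) = 0 := by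
    intro u
    by_cases hk : Nonempty (Fin k)
    · obtain ⟨a₀⟩ := hk
      have h1 : ∀ c, G (e.symm (c, u)) * h ((e.symm (c, u)) i) = G (e.symm (a₀, u)) * h c := by
        intro c
        rw [he, ← hupd a₀ c u, hG]
      simp_rw [h1]
      rw [← Finset.mul_sum, h0, mul_zero]
    · rw [not_nonempty_iff] at hk
      exact Finset.sum_of_isEmpty _
  exact Finset.sum_eq_zero (fun u _ => this u)

/-- L2a -/
theorem wform_mul_zero (i : Fin t) (y : Fin k → F) (hy0 : y ≠ 0) (hy : hv q y y = 0) (Ψ Ψ' : Matrix (Idx t k) (Idx t k) F)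
    (h : WForm i (vv q y y) Ψ) (h' : WForm i (vv q y y) Ψ') : Ψ * Ψ' = 0 := by
  classical
  obtain ⟨a₀, ha₀⟩ : ∃ a₀, y a₀ ≠ 0 := by
    by_contra hcon
    push Not at hcon
    exact hy0 (funext hcon)
  have hn : y a₀ * (y a₀) ^ q ≠ 0 := mul_ne_zero ha₀ (pow_ne_zero _ ha₀)
  ext x x''
  rw [Matrix.zero_apply, Matrix.mul_apply]
  have hmul : (∑ x', Ψ x x' * Ψ' x' x'') * ((y a₀ * (y a₀) ^ q) * (y a₀ * (y a₀) ^ q)) = 0 := by
    rw [Finset.sum_mul]
    have hterm : ∀ x' : Idx t k, Ψ x x' * Ψ' x' x'' * ((y a₀ * (y a₀) ^ q) * (y a₀ * (y a₀) ^ q)) =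
        (Ψ (Function.update x i a₀) (Function.update x' i a₀) *
          Ψ' (Function.update x' i a₀) (Function.update x'' i a₀) * (y (x i) * (y (x'' i)) ^ q)) *
          (y (x' i) * (y (x' i)) ^ q) := by
      intro x'
      have e1 := wform_norm13 i y a₀ Ψ h x x'
      have e2 := wform_norm13 i y a₀ Ψ' h' x' x''
      calc Ψ x x' * Ψ' x' x'' * ((y a₀ * (y a₀) ^ q) * (y a₀ * (y a₀) ^ q))
          = (Ψ x x' * (y a₀ * (y a₀) ^ q)) * (Ψ' x' x'' * (y a₀ * (y a₀) ^ q)) := by ring
        _ = _ := by rw [e1, e2]; ring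
    simp_rw [hterm]
    apply sum_mul_line13 i
      (fun x' => Ψ (Function.update x i a₀) (Function.update x' i a₀) *
          Ψ' (Function.update x' i a₀) (Function.update x'' i a₀) * (y (x i) * (y (x'' i)) ^ q))
      _ (fun c => y c * (y c) ^ q)
    · exact hy
    · intro x' c
      simp only [Function.update_idem]
  exact (mul_eq_zero.mp hmul).resolve_right (mul_ne_zero hn hn)

end Cfsg.Agent.Lib.Helper13.TWU2ALeaf
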