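import Mathlib
import Cfsg.Agent.Lib.Helper13.TWU2AL2a

/-!
# S5672-IIA (sub-planner helper28), leaf L2b `wform_slot_mul` (helper13)
-/

set_option autoImplicit false
set_option linter.unusedSectionVars false
set_option linter.unusedVariables false

namespace Cfsg.Agent.Lib.Helper13.TWU2ALeaf
open Matrix Cfsg.Geo Cfsg.Agent.Lib.Helper18.AschA89 Cfsg.Agent.Lib.Helper8.TW
open Cfsg.Agent.Lib.Helper5.TWU Cfsg.Agent.Lib.Helper19.TWU3 Cfsg.Agent.Lib.Helper28.TWU2A
open Cfsg.Agent.Lib.Helper20.UT (hv)

variable {F : Type*} [Field F] [Fintype F] {t k q : ℕ}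

/-- L2b -/
theorem wform_slot_mul (l l' : Fin t) (hll : l' ≠ l) (w : Matrix (Fin k) (Fin k) F) (A B : Matrix (Fin k) (Fin k) F)
    (Ψ : Matrix (Idx t k) (Idx t k) F) (h : WForm l w Ψ) : WForm l w (slot k t l' A * Ψ * slot k t l' B) := by
  intro p p' a b
  rw [slot_mul_slot_apply13, slot_mul_slot_apply13, Finset.sum_mul, Finset.sum_mul]
  apply Finset.sum_congr rfl
  intro c _
  rw [Finset.sum_mul, Finset.sum_mul]
  apply Finset.sum_congr rfl
  intro d _
  rw [Function.update_of_ne hll, Function.update_of_ne hll,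
    Function.update_comm hll.symm, Function.update_comm hll.symm]
  have := h (Function.update p l' c) (Function.update p' l' d) a b
  rw [Function.update_of_ne hll.symm, Function.update_of_ne hll.symm] at this
  linear_combination (A (p l') c * B d (p' l')) * this

end Cfsg.Agent.Lib.Helper13.TWU2ALeaf
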