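import Mathlib
import Cfsg.Agent.Lib.Helper13.TWU2AL2a
import Cfsg.Agent.Lib.Helper23.UTNNG
import Cfsg.Agent.Lib.Helper22.UnitRA

/-!
# S5672-IIA (sub-planner helper28), leaf L2c `torus_scale` (helper13)
-/

set_option autoImplicit false
set_option linter.unusedSectionVars false
set_option linter.unusedVariables false

namespace Cfsg.Agent.Lib.Helper13.TWU2ALeaf
open Matrix Cfsg.Geo Cfsg.Agent.Lib.Helper18.AschA89 Cfsg.Agent.Lib.Helper8.TW
open Cfsg.Agent.Lib.Helper5.TWU Cfsg.Agent.Lib.Helper19.TWU3 Cfsg.Agent.Lib.Helper28.TWU2A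
open Cfsg.Agent.Lib.Helper20.UT (hv)

variable {F : Type*} [Field F] [Fintype F] {t k q : ℕ}

/-- conjugating a matrix with weight `y y†` at `i` by `slot i d`, `d` an isometry with `d y = lam • y`, multiplies it by `lam * lam^q` -/
theorem conj_scale13 (hF : Fintype.card F = q ^ 2) (i : Fin t) (y : Fin k → F) (hy0 : y ≠ 0) (lam : F) (d : GL (Fin k) F)
    (hd : ∀ u v : Fin k → F, hv q ((d : Matrix (Fin k) (Fin k) F) *ᵥ u) ((d : Matrix (Fin k) (Fin k) F) *ᵥ v) = hv q u v)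
    (hdy : (d : Matrix (Fin k) (Fin k) F) *ᵥ y = lam • y)
    (Ψ : Matrix (Idx t k) (Idx t k) F) (h : WForm i (vv q y y) Ψ) :
    slot k t i (d : Matrix (Fin k) (Fin k) F) * Ψ * slot k t i ((d⁻¹ : GL (Fin k) F) : Matrix (Fin k) (Fin k) F) =
      (lam * lam ^ q) • Ψ := by
  classical
  obtain ⟨a₀, ha₀⟩ : ∃ a₀, y a₀ ≠ 0 := by
    by_contra hcon
    push Not at hcon
    exact hy0 (funext hcon)
  have hn : y a₀ * (y a₀) ^ q ≠ 0 := mul_ne_zero ha₀ (pow_ne_zero _ ha₀)
  -- the row vector `y† d⁻¹`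
  have hrow : ∀ j : Fin k, ∑ e, (y e) ^ q * ((d⁻¹ : GL (Fin k) F) : Matrix (Fin k) (Fin k) F) e j = lam ^ q * (y j) ^ q := by
    intro j
    have h1 := hd (((d⁻¹ : GL (Fin k) F) : Matrix (Fin k) (Fin k) F) *ᵥ (Pi.single j 1)) y
    rw [Matrix.mulVec_mulVec, ← Units.val_mul, mul_inv_cancel, Units.val_one, Matrix.one_mulVec, hdy,
      Cfsg.Agent.Lib.Helper20.UT.hv_smul_right] at h1
    have h2 : hv q (Pi.single j (1 : F)) y = (y j) ^ q := by
      unfold Cfsg.Agent.Lib.Helper20.UT.hv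
      rw [Finset.sum_eq_single j]
      · rw [Pi.single_eq_same, one_mul]
      · intro b _ hb
        rw [Pi.single_eq_of_ne hb, zero_mul]
      · intro hh; exact absurd (Finset.mem_univ _) hh
    have h3 : hv q (((d⁻¹ : GL (Fin k) F) : Matrix (Fin k) (Fin k) F) *ᵥ (Pi.single j 1)) y =
        ∑ e, (y e) ^ q * ((d⁻¹ : GL (Fin k) F) : Matrix (Fin k) (Fin k) F) e j := by
      unfold Cfsg.Agent.Lib.Helper20.UT.hv
      apply Finset.sum_congr rfl
      intro e _
      rw [Matrix.mulVec_single_one, mul_comm]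
      rfl
    rw [← h3, ← h1, h2]
  have hcol : ∀ j : Fin k, ∑ c, (d : Matrix (Fin k) (Fin k) F) j c * y c = lam * y j := by
    intro j
    have := congrFun hdy j
    rw [Pi.smul_apply, smul_eq_mul] at this
    rw [← this]
    rfl
  ext x x'
  rw [slot_mul_slot_apply13, Matrix.smul_apply, smul_eq_mul]
  have hmul : (∑ c, ∑ e, (d : Matrix (Fin k) (Fin k) F) (x i) c * Ψ (Function.update x i c) (Function.update x' i e) *
      ((d⁻¹ : GL (Fin k) F) : Matrix (Fin k) (Fin k) F) e (x' i)) * (y a₀ * (y a₀) ^ q) =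
      (lam * lam ^ q * Ψ x x') * (y a₀ * (y a₀) ^ q) := by
    rw [Finset.sum_mul]
    simp_rw [Finset.sum_mul]
    have hterm : ∀ c e : Fin k, (d : Matrix (Fin k) (Fin k) F) (x i) c * Ψ (Function.update x i c) (Function.update x' i e) *
        ((d⁻¹ : GL (Fin k) F) : Matrix (Fin k) (Fin k) F) e (x' i) * (y a₀ * (y a₀) ^ q) =
        Ψ (Function.update x i a₀) (Function.update x' i a₀) * ((d : Matrix (Fin k) (Fin k) F) (x i) c * y c) *
          ((y e) ^ q * ((d⁻¹ : GL (Fin k) F) : Matrix (Fin k) (Fin k) F) e (x' i)) := by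
      intro c e
      have e1 := wform_norm13 i y a₀ Ψ h (Function.update x i c) (Function.update x' i e)
      rw [Function.update_idem, Function.update_idem, Function.update_self, Function.update_self] at e1
      linear_combination ((d : Matrix (Fin k) (Fin k) F) (x i) c * ((d⁻¹ : GL (Fin k) F) : Matrix (Fin k) (Fin k) F) e (x' i)) * e1
    simp_rw [hterm]
    have e2 := wform_norm13 i y a₀ Ψ h x x'
    calc ∑ c, ∑ e, Ψ (Function.update x i a₀) (Function.update x' i a₀) * ((d : Matrix (Fin k) (Fin k) F) (x i) c * y c) *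
          ((y e) ^ q * ((d⁻¹ : GL (Fin k) F) : Matrix (Fin k) (Fin k) F) e (x' i))
        = Ψ (Function.update x i a₀) (Function.update x' i a₀) * (∑ c, (d : Matrix (Fin k) (Fin k) F) (x i) c * y c) *
          (∑ e, (y e) ^ q * ((d⁻¹ : GL (Fin k) F) : Matrix (Fin k) (Fin k) F) e (x' i)) := by
          rw [mul_assoc, Finset.sum_mul_sum, Finset.mul_sum]
          apply Finset.sum_congr rfl
          intro c _
          rw [Finset.mul_sum]
          apply Finset.sum_congr rfl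
          intro e _
          ring
      _ = (lam * lam ^ q * Ψ x x') * (y a₀ * (y a₀) ^ q) := by
          rw [hcol, hrow]
          linear_combination (-(lam * lam ^ q)) * e2
  exact mul_right_cancel₀ hn hmul

/-- L2c -/
theorem torus_scale (hF : Fintype.card F = q ^ 2) (hk : 3 ≤ k) (i : Fin t) (y : Fin k → F) (hy0 : y ≠ 0) (hy : hv q y y = 0)
    (s : F) (hs : s ^ q = s) (hs0 : s ≠ 0) :
    ∃ d : GL (Fin k) F, IsSUA q d ∧ ∀ Ψ : Matrix (Idx t k) (Idx t k) F, WForm i (vv q y y) Ψ →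
      slot k t i (d : Matrix (Fin k) (Fin k) F) * Ψ * slot k t i ((d⁻¹ : GL (Fin k) F) : Matrix (Fin k) (Fin k) F) = s • Ψ := by
  obtain ⟨lam, hlam0, hlam⟩ := Cfsg.Agent.Lib.Helper22.UnitR.exists_norm_eq hF s hs0 hs
  have hy'0 : lam • y ≠ 0 := smul_ne_zero hlam0 hy0
  have hy' : hv q (lam • y) (lam • y) = 0 := by
    rw [Cfsg.Agent.Lib.Helper20.UT.hv_smul_left, Cfsg.Agent.Lib.Helper20.UT.hv_smul_right, hy, mul_zero, mul_zero]
  obtain ⟨d, hd, hdet, hdy⟩ := Cfsg.Agent.Lib.Helper23.UTNLeaf.exists_su_map hF hk hy0 hy'0 hy hy'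
  refine ⟨d, ⟨hd, hdet⟩, ?_⟩
  intro Ψ hΨ
  rw [conj_scale13 hF i y hy0 lam d hd hdy Ψ hΨ, mul_comm, hlam]

end Cfsg.Agent.Lib.Helper13.TWU2ALeaf
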