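import Mathlib
import Cfsg.Agent.Lib.Helper5.TWU.Defs
import Cfsg.Agent.Lib.Helper14.TWIIDefs
import Cfsg.Agent.Lib.Helper19.TWU3Defs
import Cfsg.Agent.Lib.Helper28.TWU2ADefs
import Cfsg.Agent.Lib.Helper23.TWUT3
import Cfsg.Agent.Lib.Helper23.TWG1
import Cfsg.Agent.Lib.Helper12.TWTS

/-!
# S5672-IIA (sub-planner helper28), leaf L2d `slotGL_mem_HU` (helper13)
-/

set_option autoImplicit false
set_option linter.unusedSectionVars false
set_option linter.unusedVariables false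

namespace Cfsg.Agent.Lib.Helper13.TWU2ALeaf
open Matrix Cfsg.Geo Cfsg.Agent.Lib.Helper18.AschA89 Cfsg.Agent.Lib.Helper8.TW
open Cfsg.Agent.Lib.Helper5.TWU Cfsg.Agent.Lib.Helper19.TWU3 Cfsg.Agent.Lib.Helper28.TWU2A
open Cfsg.Agent.Lib.Helper20.UT (hv)

variable {F : Type*} [Field F] [Fintype F] {t k q : ℕ}

/-- L2d -/
theorem slotGL_mem_HU (hF : Fintype.card F = q ^ 2) (l : Fin t) (g : GL (Fin k) F) (hg : IsSUA q g) : slotGL l g ∈ HU t k q F := by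
  refine ⟨Cfsg.Agent.Lib.Helper23.TWLeaf.slotGL_mem_G l g, ?_, ?_⟩
  · exact Cfsg.Agent.Lib.Helper23.TWUT.slotGL_mem_GUV hF l (Cfsg.Agent.Lib.Helper23.TWUT.mem_GUA.2 hg.1)
  · change slotGL l g ∈ (Matrix.GeneralLinearGroup.det : GL (Idx t k) F →* Fˣ).ker
    rw [MonoidHom.mem_ker]
    apply Units.ext
    rw [Matrix.GeneralLinearGroup.val_det_apply, slotGL_val, Cfsg.Agent.Lib.Helper12.TWLeaf.det_slot, hg.2, one_pow,
      Units.val_one]

end Cfsg.Agent.Lib.Helper13.TWU2ALeaf
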