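import Cfsg.Agent.Lib.Helper7.ThetaDefs2
import Cfsg.Agent.Lib.Helper7.ThetaA3
import Cfsg.Agent.Lib.Helper29.ThetaB1
import Cfsg.Agent.Lib.Helper16.ThetaB2

/-!
# S1632 leaf B3b: the inversion formula for an even unimodular form of rank 24 (assembly).

`latticeTheta_S_of` is written against the frozen statements of the leaves A3 (`theta_inversion`),
B1 (`exists_gdata`), B2a (`Qd_grad`), B2b (`grad_eq_mulVec`) as explicit hypotheses.
-/

set_option autoImplicit false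

noncomputable section

namespace Cfsg.Agent.Lib.Helper13.ThetaB3b

open Complex Cfsg.Agent.Lib.Helper7.Theta
open scoped Real

/-- the theta series of an integral quadratic form (same body as in `notes/S1632_leaves.lean`) -/
def latticeThetaB {n : ℕ} (B : Matrix (Fin n) (Fin n) ℤ) (τ : ℂ) : ℂ :=
  ∑' x : Fin n → ℤ, cexp (π * I * τ * ((x ⬝ᵥ (B.mulVec x) : ℤ) : ℂ))

/-- the statement of leaf A3 -/
def A3Stmt : Prop :=
  ∀ {n : ℕ} (d : GData n) (_ : d.Pos) (z : Fin n → ℝ) (τ : ℂ) (_ : 0 < τ.im),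
    Summable (thetaTerm d z τ) ∧ Summable (dualTerm d z τ) ∧
    ∑' x, thetaTerm d z τ x =
      (1 / (Real.sqrt d.P : ℂ)) * (1 / (-I * τ) ^ (1 / 2 : ℂ)) ^ n * ∑' y, dualTerm d z τ y

/-- the statement of leaf B1 -/
def B1Stmt : Prop :=
  ∀ {n : ℕ} (A : Matrix (Fin n) (Fin n) ℚ) (_ : A.IsSymm)
    (_ : ∀ x : Fin n → ℚ, x ≠ 0 → 0 < x ⬝ᵥ (A.mulVec x)),
    ∃ d : GData n, d.Pos ∧
      ∀ x : Fin n → ℝ, d.Q x = x ⬝ᵥ ((A.map (fun q : ℚ => (q : ℝ))).mulVec x)

/-- the statement of leaf B2a -/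
def B2aStmt : Prop :=
  ∀ {n : ℕ} (d : GData n) (_ : d.Pos) (x : Fin n → ℝ), d.Qd (d.grad x) = d.Q x

/-- the statement of leaf B2b -/
def B2bStmt : Prop :=
  ∀ {n : ℕ} (d : GData n) (A : Matrix (Fin n) (Fin n) ℝ) (_ : A.IsSymm)
    (_ : ∀ x : Fin n → ℝ, d.Q x = x ⬝ᵥ (A.mulVec x)) (x : Fin n → ℝ),
    d.grad x = A.mulVec x

/-- positivity over `ℚ` from positivity over `ℤ` (clear denominators). -/
theorem ratPos_of_intPos {n : ℕ} (B : Matrix (Fin n) (Fin n) ℤ)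
    (hpos : ∀ x : Fin n → ℤ, x ≠ 0 → 0 < x ⬝ᵥ (B.mulVec x))
    (x : Fin n → ℚ) (hx : x ≠ 0) :
    0 < x ⬝ᵥ ((B.map (fun k : ℤ => (k : ℚ))).mulVec x) := by
  classical
  -- common denominator
  set N : ℕ := ∏ i, (x i).den with hN
  have hNpos : 0 < N := Finset.prod_pos (fun i _ => (x i).den_pos)
  have hint : ∀ i, ∃ k : ℤ, (N : ℚ) * x i = (k : ℚ) := by
    intro i
    have hdvd : (x i).den ∣ N := Finset.dvd_prod_of_mem _ (Finset.mem_univ i)
    obtain ⟨m, hm⟩ := hdvd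
    refine ⟨(x i).num * m, ?_⟩
    have hden : ((x i).den : ℚ) ≠ 0 := by exact_mod_cast (x i).den_pos.ne'
    have hxi : x i = ((x i).num : ℚ) / ((x i).den : ℚ) := (Rat.num_div_den (x i)).symm
    rw [hm]
    push_cast
    rw [hxi]
    field_simp
    rw [Rat.num_div_den]
    ring
  choose y hy using hint
  have hyne : y ≠ 0 := by
    intro h0
    apply hx
    funext i
    have := hy i
    rw [h0] at this
    simp only [Pi.zero_apply, Int.cast_zero] at this
    have hNq : (N : ℚ) ≠ 0 := by exact_mod_cast hNpos.ne'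
    rcases mul_eq_zero.mp this with h | h
    · exact absurd h hNq
    · simpa using h
  have hpy := hpos y hyne
  have hcast : ((y ⬝ᵥ (B.mulVec y) : ℤ) : ℚ)
      = (N : ℚ) ^ 2 * (x ⬝ᵥ ((B.map (fun k : ℤ => (k : ℚ))).mulVec x)) := by
    simp only [dotProduct, Matrix.mulVec, Matrix.map_apply]
    push_cast
    simp only [← hy]
    rw [Finset.mul_sum]
    refine Finset.sum_congr rfl (fun i _ => ?_)
    rw [Finset.mul_sum, Finset.mul_sum, Finset.mul_sum]
    refine Finset.sum_congr rfl (fun j _ => ?_)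
    ring
  have hq : (0 : ℚ) < ((y ⬝ᵥ (B.mulVec y) : ℤ) : ℚ) := by exact_mod_cast hpy
  rw [hcast] at hq
  have hN2 : (0 : ℚ) < (N : ℚ) ^ 2 := by positivity
  exact (mul_pos_iff_of_pos_left hN2).mp hq

/-- the equivalence `x ↦ B x` of `ℤ^n` for `det B = 1` -/
def mulVecEquiv {n : ℕ} (B : Matrix (Fin n) (Fin n) ℤ) (hdet : B.det = 1) :
    (Fin n → ℤ) ≃ (Fin n → ℤ) where
  toFun x := B.mulVec x
  invFun y := B⁻¹.mulVec y
  left_inv x := by
    have hu : IsUnit B.det := by rw [hdet]; exact isUnit_one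
    simp only [Matrix.mulVec_mulVec, Matrix.nonsing_inv_mul B hu, Matrix.one_mulVec]
  right_inv y := by
    have hu : IsUnit B.det := by rw [hdet]; exact isUnit_one
    simp only [Matrix.mulVec_mulVec, Matrix.mul_nonsing_inv B hu, Matrix.one_mulVec]

theorem latticeTheta_S_of (hA3 : A3Stmt) (hB1 : B1Stmt) (hB2a : B2aStmt) (hB2b : B2bStmt)
    (B : Matrix (Fin 24) (Fin 24) ℤ) (hsymm : B.IsSymm)
    (hpos : ∀ x : Fin 24 → ℤ, x ≠ 0 → 0 < x ⬝ᵥ (B.mulVec x)) (hdet : B.det = 1)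
    (τ : ℂ) (hτ : 0 < τ.im) :
    latticeThetaB B (-1 / τ) = τ ^ 12 * latticeThetaB B τ := by
  classical
  -- the rational and real Gram matrices
  set A : Matrix (Fin 24) (Fin 24) ℚ := B.map (fun k : ℤ => (k : ℚ)) with hA
  have hAsymm : A.IsSymm := by
    ext i j
    simp only [hA, Matrix.transpose_apply, Matrix.map_apply]
    rw [← Matrix.transpose_apply B, hsymm.eq]
  obtain ⟨d, hd, hQ⟩ := hB1 A hAsymm (ratPos_of_intPos B hpos)
  set AR : Matrix (Fin 24) (Fin 24) ℝ := B.map (fun k : ℤ => (k : ℝ)) with hAR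
  have hAAR : A.map (fun q : ℚ => (q : ℝ)) = AR := by
    ext i j
    simp [hA, hAR]
  rw [hAAR] at hQ
  have hARsymm : AR.IsSymm := by
    ext i j
    simp only [hAR, Matrix.transpose_apply, Matrix.map_apply]
    rw [← Matrix.transpose_apply B, hsymm.eq]
  -- casts
  have hmv : ∀ x : Fin 24 → ℤ, AR.mulVec (fun i => (x i : ℝ)) = fun i => ((B.mulVec x i : ℤ) : ℝ) := by
    intro x
    funext i
    simp only [hAR, Matrix.mulVec, dotProduct, Matrix.map_apply]
    push_cast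
    rfl
  have hQint : ∀ x : Fin 24 → ℤ, d.Q (fun i => (x i : ℝ)) = ((x ⬝ᵥ (B.mulVec x) : ℤ) : ℝ) := by
    intro x
    rw [hQ, hmv]
    simp only [dotProduct]
    push_cast
    rfl
  have hQdint : ∀ x : Fin 24 → ℤ,
      d.Qd (fun i => ((B.mulVec x i : ℤ) : ℝ)) = ((x ⬝ᵥ (B.mulVec x) : ℤ) : ℝ) := by
    intro x
    rw [← hmv, ← hB2b d AR hARsymm hQ, hB2a d hd, hQint]
  -- the theta terms
  have hterm : ∀ (σ : ℂ) (x : Fin 24 → ℤ),
      thetaTerm d 0 σ x = cexp (π * I * σ * ((x ⬝ᵥ (B.mulVec x) : ℤ) : ℂ)) := by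
    intro σ x
    unfold thetaTerm
    rw [hQint]
    simp
  have hdual : ∀ (σ : ℂ) (x : Fin 24 → ℤ),
      dualTerm d 0 σ (B.mulVec x) = cexp (π * I * (-1 / σ) * ((x ⬝ᵥ (B.mulVec x) : ℤ) : ℂ)) := by
    intro σ x
    unfold dualTerm
    simp only [Pi.zero_apply, sub_zero]
    rw [hQdint]
    congr 1
    push_cast
    ring
  -- the inversion formula with the factor `√P`
  have hpow : ∀ σ : ℂ, (1 / (-I * σ) ^ (1 / 2 : ℂ)) ^ 24 = 1 / σ ^ 12 := by
    intro σ
    have h2 : ((-I * σ) ^ (1 / 2 : ℂ)) ^ 2 = -I * σ := by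
      have := Complex.cpow_nat_inv_pow (-I * σ) (n := 2) (by norm_num)
      simpa [one_div] using this
    have h4 : (-I) ^ 4 = (1:ℂ) := by
      rw [neg_pow, Complex.I_pow_four]; norm_num
    have e1 : ((-I * σ) ^ (1 / 2 : ℂ)) ^ 24 = (((-I * σ) ^ (1 / 2 : ℂ)) ^ 2) ^ 12 := by
      rw [← pow_mul]
    have e2 : (-I) ^ 12 = (1:ℂ) := by
      have : (-I) ^ 12 = ((-I) ^ 4) ^ 3 := by rw [← pow_mul]
      rw [this, h4, one_pow]
    rw [div_pow, one_pow, e1, h2, mul_pow, e2, one_mul]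
  have hinv : ∀ σ : ℂ, 0 < σ.im →
      latticeThetaB B σ = (1 / (Real.sqrt d.P : ℂ)) * (1 / σ ^ 12) * latticeThetaB B (-1 / σ) := by
    intro σ hσ
    obtain ⟨_, _, h3⟩ := hA3 d hd 0 σ hσ
    rw [hpow] at h3
    have hL : latticeThetaB B σ = ∑' x, thetaTerm d 0 σ x := by
      unfold latticeThetaB
      exact tsum_congr (fun x => (hterm σ x).symm)
    have hR : latticeThetaB B (-1 / σ) = ∑' y, dualTerm d 0 σ y := by
      unfold latticeThetaB
      rw [← (mulVecEquiv B hdet).tsum_eq (fun y => dualTerm d 0 σ y)]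
      exact tsum_congr (fun x => (hdual σ x).symm)
    rw [hL, hR, h3]
  -- `P = 1` from `τ = I`
  have hPpos : 0 < d.P := GData.P_pos d hd
  have hsqrt_pos : 0 < Real.sqrt d.P := Real.sqrt_pos.mpr hPpos
  have hI : (-1 : ℂ) / I = I := by
    rw [div_eq_mul_inv, Complex.inv_I]; simp
  have hIim : 0 < (I : ℂ).im := by simp
  have hthetaI_ne : latticeThetaB B I ≠ 0 := by
    obtain ⟨hs, _, _⟩ := hA3 d hd 0 I hIim
    have hfun : (thetaTerm d 0 I) =
        fun x : Fin 24 → ℤ => ((Real.exp (-π * ((x ⬝ᵥ (B.mulVec x) : ℤ) : ℝ)) : ℝ) : ℂ) := by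
      funext x
      rw [hterm]
      rw [Complex.ofReal_exp]
      congr 1
      push_cast
      have : (I : ℂ) * I = -1 := Complex.I_mul_I
      linear_combination (π : ℂ) * ((x ⬝ᵥ (B.mulVec x) : ℤ) : ℂ) * this
    rw [hfun] at hs
    have hsR : Summable (fun x : Fin 24 → ℤ => Real.exp (-π * ((x ⬝ᵥ (B.mulVec x) : ℤ) : ℝ))) :=
      Complex.summable_ofReal.mp hs
    have hval : latticeThetaB B I =
        ((∑' x : Fin 24 → ℤ, Real.exp (-π * ((x ⬝ᵥ (B.mulVec x) : ℤ) : ℝ)) : ℝ) : ℂ) := by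
      rw [Complex.ofReal_tsum]
      unfold latticeThetaB
      refine tsum_congr (fun x => ?_)
      have := congrFun hfun x
      rw [hterm] at this
      exact this
    rw [hval]
    have hposR : 0 < ∑' x : Fin 24 → ℤ, Real.exp (-π * ((x ⬝ᵥ (B.mulVec x) : ℤ) : ℝ)) :=
      hsR.tsum_pos (fun x => (Real.exp_pos _).le) 0 (Real.exp_pos _)
    exact_mod_cast hposR.ne'
  have hP1 : (Real.sqrt d.P : ℂ) = 1 := by
    have h := hinv I hIim
    rw [hI] at h
    have hI12 : (I : ℂ) ^ 12 = 1 := by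
      have : (I : ℂ) ^ 12 = (I ^ 4) ^ 3 := by rw [← pow_mul]
      rw [this, Complex.I_pow_four, one_pow]
    rw [hI12] at h
    have hne : (Real.sqrt d.P : ℂ) ≠ 0 := by exact_mod_cast hsqrt_pos.ne'
    have h' : (1 / (Real.sqrt d.P : ℂ)) * latticeThetaB B I = 1 * latticeThetaB B I := by
      rw [one_mul]
      calc (1 / (Real.sqrt d.P : ℂ)) * latticeThetaB B I
          = 1 / (Real.sqrt d.P : ℂ) * (1 / 1) * latticeThetaB B I := by ring
        _ = latticeThetaB B I := h.symm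
    have h'' := mul_right_cancel₀ hthetaI_ne h'
    field_simp at h''
    exact h''.symm
  -- conclude
  have hτne : τ ≠ 0 := by
    intro h0; rw [h0] at hτ; simp at hτ
  have h := hinv τ hτ
  rw [hP1] at h
  rw [h]
  field_simp

/-- LEAF B3b, exact frozen statement (constants of `ThetaDefs2`). -/
theorem latticeTheta_S (B : Matrix (Fin 24) (Fin 24) ℤ) (hsymm : B.IsSymm)
    (hpos : ∀ x : Fin 24 → ℤ, x ≠ 0 → 0 < x ⬝ᵥ (B.mulVec x)) (hdet : B.det = 1)
    (τ : ℂ) (hτ : 0 < τ.im) :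
    latticeTheta B (-1 / τ) = τ ^ 12 * latticeTheta B τ :=
  latticeTheta_S_of
    (fun d hd z τ hτ => Cfsg.Agent.Lib.Helper7.ThetaA3.theta_inversion d hd z τ hτ)
    (fun A hA hpos => Cfsg.Agent.Lib.Helper29.ThetaB1.exists_gdata A hA hpos)
    (fun d hd x => Cfsg.Agent.Lib.Helper16.ThetaB2.Qd_grad d hd x)
    (fun d A hA h x => Cfsg.Agent.Lib.Helper16.ThetaB2.grad_eq_mulVec d A hA h x)
    B hsymm hpos hdet τ hτ

end Cfsg.Agent.Lib.Helper13.ThetaB3b

end
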