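import Mathlib

/-!
# Three primes in `(n, 2n]` for `n ≥ 9`

Adaptation of Mathlib's proof of Bertrand's postulate (Erdős' argument): if at most two primes
lie in `(n, 2n]`, the central binomial coefficient is at most
`(2n)^(sqrt(2n)+2) * 4^(2n/3)`, which is impossible for `n ≥ 2048`; small `n` by an explicit chain.
-/

namespace Cfsg.Agent.Lib.Helper13.ThreePrimes

open Real in
/-- Real inequality used for large `n`. -/
theorem real_main_inequality3 {x : ℝ} (x_large : (2048 : ℝ) ≤ x) :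
    x * (2 * x) ^ (√(2 * x) + 2) * 4 ^ (2 * x / 3) ≤ 4 ^ x := by
  let f : ℝ → ℝ := fun x => log x + (√(2 * x) * log (2 * x) + 2 * log (2 * x)) - log 4 / 3 * x
  have hf' : ∀ x, 0 < x → 0 < x * (2 * x) ^ (√(2 * x) + 2) / 4 ^ (x / 3) := fun x h =>
    div_pos (mul_pos h (rpow_pos_of_pos (mul_pos two_pos h) _)) (rpow_pos_of_pos four_pos _)
  have hf : ∀ x, 0 < x → f x = log (x * (2 * x) ^ (√(2 * x) + 2) / 4 ^ (x / 3)) := by
    intro x h5
    have h6 := mul_pos (zero_lt_two' ℝ) h5
    have h7 := rpow_pos_of_pos h6 (√(2 * x) + 2)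
    rw [log_div (mul_pos h5 h7).ne' (rpow_pos_of_pos four_pos _).ne', log_mul h5.ne' h7.ne',
      log_rpow h6, log_rpow zero_lt_four]
    simp only [f]
    ring
  have h5 : 0 < x := lt_of_lt_of_le (by norm_num1) x_large
  rw [← div_le_one (rpow_pos_of_pos four_pos x), ← div_div_eq_mul_div, ← rpow_sub four_pos, ←
    mul_div 2 x, mul_div_left_comm, ← mul_one_sub, (by norm_num1 : (1 : ℝ) - 2 / 3 = 1 / 3),
    mul_one_div, ← log_nonpos_iff (hf' x h5).le, ← hf x h5]
  have hlog : ConcaveOn ℝ (Set.Ioi (0.5 : ℝ)) log :=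
    strictConcaveOn_log_Ioi.concaveOn.subset (Set.Ioi_subset_Ioi (by norm_num)) (convex_Ioi 0.5)
  have hlog2 : ConcaveOn ℝ (Set.Ioi (0.5 : ℝ)) (fun x : ℝ => log (2 * x)) := by
    have h0 : ConcaveOn ℝ (Set.Ioi (0.5 : ℝ)) (fun x : ℝ => log 2 + log x) :=
      (concaveOn_const (log 2) (convex_Ioi (0.5 : ℝ))).add hlog
    refine h0.congr ?_
    intro x hx
    have hx' : (0 : ℝ) < x := lt_trans (by norm_num) (Set.mem_Ioi.mp hx)
    simp only
    rw [log_mul (by norm_num) hx'.ne']
  have h : ConcaveOn ℝ (Set.Ioi 0.5) f := by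
    apply ConcaveOn.sub
    · apply ConcaveOn.add
      · exact hlog
      apply ConcaveOn.add
      · convert!
          ((strictConcaveOn_sqrt_mul_log_Ioi.concaveOn.comp_linearMap ((2 : ℝ) • LinearMap.id)))
          using 1
        ext x
        simp only [Set.mem_Ioi, Set.mem_preimage, LinearMap.smul_apply,
          LinearMap.id_coe, id_eq, smul_eq_mul]
        rw [← mul_lt_mul_iff_right₀ (two_pos)]
        norm_num1
        rfl
      · exact hlog2.smul (by norm_num)
    apply ConvexOn.smul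
    · refine div_nonneg (log_nonneg (by norm_num1)) (by norm_num1)
    · exact convexOn_id (convex_Ioi (0.5 : ℝ))
  suffices ∃ x1 x2, 0.5 < x1 ∧ x1 < x2 ∧ x2 ≤ x ∧ 0 ≤ f x1 ∧ f x2 ≤ 0 by
    obtain ⟨x1, x2, h1, h2, h0, h3, h4⟩ := this
    exact (h.right_le_of_le_left'' h1 ((h1.trans h2).trans_le h0) h2 h0 (h4.trans h3)).trans h4
  refine ⟨18, 2048, by norm_num1, by norm_num1, x_large, ?_, ?_⟩
  · have : √(2 * 18 : ℝ) = 6 := (sqrt_eq_iff_mul_self_eq_of_pos (by norm_num1)).mpr (by norm_num1)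
    rw [hf _ (by norm_num1), log_nonneg_iff (by positivity), this, one_le_div (by norm_num1)]
    norm_num1
  · have : √(2 * 2048) = 64 :=
      (sqrt_eq_iff_mul_self_eq_of_pos (by norm_num1)).mpr (by norm_num1)
    rw [hf _ (by norm_num1), log_nonpos_iff (hf' _ (by norm_num1)).le, this,
        div_le_one (by positivity)]
    have e1 : (64 : ℝ) + 2 = ((66 : ℕ) : ℝ) := by norm_num
    rw [e1, rpow_natCast]
    have e2 : (4 : ℝ) ^ ((2048 : ℝ) / 3) = (2 : ℝ) ^ ((4096 : ℝ) / 3) := by
      have : (4 : ℝ) = 2 ^ (2 : ℝ) := by rw [rpow_two]; norm_num1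
      rw [this, ← rpow_mul (by norm_num)]
      norm_num
    rw [e2]
    have e3 : (2048 : ℝ) * (2 * 2048) ^ 66 = (2 : ℝ) ^ ((803 : ℕ) : ℝ) := by
      rw [rpow_natCast]
      have a1 : (2048 : ℝ) = 2 ^ 11 := by norm_num
      have a2 : (2 * 2048 : ℝ) = 2 ^ 12 := by norm_num
      rw [a2, a1, ← pow_mul, ← pow_add]
    rw [e3]
    apply rpow_le_rpow_of_exponent_le
    all_goals norm_num1

open Nat

/-- The inequality which contradicts "at most two primes in `(n, 2n]`", for large `n`. -/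
theorem main_inequality3 {n : ℕ} (n_large : 2048 ≤ n) :
    n * (2 * n) ^ (sqrt (2 * n) + 2) * 4 ^ (2 * n / 3) ≤ 4 ^ n := by
  rw [← @cast_le ℝ]
  simp only [cast_mul, cast_pow, ← Real.rpow_natCast, cast_ofNat, cast_add]
  refine _root_.trans ?_ (real_main_inequality3 (by exact_mod_cast n_large))
  gcongr
  · have n2_pos : 0 < 2 * n := by positivity
    exact mod_cast n2_pos
  · exact_mod_cast Real.nat_sqrt_le_real_sqrt
  · norm_num1
  · exact cast_div_le.trans (by norm_cast)

/-- Three primes in `(n, 2n]`. -/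
def HasThree (n : ℕ) : Prop :=
  ∃ p q r : ℕ, p.Prime ∧ q.Prime ∧ r.Prime ∧ n < p ∧ p < q ∧ q < r ∧ r ≤ 2 * n

theorem card_primes_le_two {n : ℕ} (h : ¬ HasThree n) :
    ({p ∈ Finset.Ioc n (2 * n) | p.Prime} : Finset ℕ).card ≤ 2 := by
  by_contra hc
  rw [not_le, Finset.two_lt_card] at hc
  obtain ⟨a, ha, b, hb, c, hc, hab, hac, hbc⟩ := hc
  simp only [Finset.mem_filter, Finset.mem_Ioc] at ha hb hc
  apply h
  rcases lt_or_gt_of_ne hab with h1 | h1 <;> rcases lt_or_gt_of_ne hac with h2 | h2 <;>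
    rcases lt_or_gt_of_ne hbc with h3 | h3
  · exact ⟨a, b, c, ha.2, hb.2, hc.2, ha.1.1, h1, h3, hc.1.2⟩
  · exact ⟨a, c, b, ha.2, hc.2, hb.2, ha.1.1, h2, h3, hb.1.2⟩
  · omega
  · exact ⟨c, a, b, hc.2, ha.2, hb.2, hc.1.1, h2, h1, hb.1.2⟩
  · exact ⟨b, a, c, hb.2, ha.2, hc.2, hb.1.1, h1, h2, hc.1.2⟩
  · omega
  · exact ⟨b, c, a, hb.2, hc.2, ha.2, hb.1.1, h3, h2, ha.1.2⟩
  · exact ⟨c, b, a, hc.2, hb.2, ha.2, hc.1.1, h3, h1, ha.1.2⟩

/-- The small primes contribute at most `(2n)^sqrt(2n) * 4^(2n/3)` (copied from Mathlib's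
`centralBinom_le_of_no_bertrand_prime`). -/
theorem prod_small_le (n : ℕ) (n_pos : 0 < n) :
    ∏ p ∈ Finset.range (2 * n / 3 + 1), p ^ (centralBinom n).factorization p
      ≤ (2 * n) ^ sqrt (2 * n) * 4 ^ (2 * n / 3) := by
  have n2_pos : 1 ≤ 2 * n := mul_pos (zero_lt_two' ℕ) n_pos
  let S := {p ∈ Finset.range (2 * n / 3 + 1) | Nat.Prime p}
  let f x := x ^ n.centralBinom.factorization x
  have : ∏ x ∈ S, f x = ∏ x ∈ Finset.range (2 * n / 3 + 1), f x := by
    refine Finset.prod_filter_of_ne fun p _ h => ?_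
    contrapose h; dsimp only [f]
    rw [factorization_eq_zero_of_not_prime n.centralBinom h, _root_.pow_zero]
  change ∏ x ∈ Finset.range (2 * n / 3 + 1), f x ≤ _
  rw [← this, ← Finset.prod_filter_mul_prod_filter_not S (· ≤ sqrt (2 * n))]
  apply mul_le_mul'
  · refine (Finset.prod_le_prod' fun p _ => (?_ : f p ≤ 2 * n)).trans ?_
    · exact pow_factorization_choose_le (mul_pos two_pos n_pos)
    have : (Finset.Icc 1 (sqrt (2 * n))).card = sqrt (2 * n) := by rw [card_Icc, Nat.add_sub_cancel]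
    rw [Finset.prod_const]
    refine pow_right_mono₀ n2_pos ((Finset.card_le_card fun x hx => ?_).trans this.le)
    obtain ⟨h1, h2⟩ := Finset.mem_filter.1 hx
    exact Finset.mem_Icc.mpr ⟨(Finset.mem_filter.1 h1).2.one_lt.le, h2⟩
  · refine le_trans ?_ (primorial_le_four_pow (2 * n / 3))
    refine (Finset.prod_le_prod' fun p hp => (?_ : f p ≤ p)).trans ?_
    · obtain ⟨h1, h2⟩ := Finset.mem_filter.1 hp
      refine (pow_right_mono₀ (Finset.mem_filter.1 h1).2.one_lt.le ?_).trans (pow_one p).le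
      exact Nat.factorization_choose_le_one (sqrt_lt'.mp <| not_le.1 h2)
    refine Finset.prod_le_prod_of_subset_of_one_le' (Finset.filter_subset _ _) ?_
    exact fun p hp _ => (Finset.mem_filter.1 hp).2.one_lt.le

/-- The large primes contribute at most `(2n)^2` if there are at most two of them. -/
theorem prod_large_le (n : ℕ) (n_large : 2 < n) (h : ¬ HasThree n) :
    ∏ p ∈ Finset.Ico (2 * n / 3 + 1) (2 * n + 1), p ^ (centralBinom n).factorization p
      ≤ (2 * n) ^ 2 := by
  have n_pos : 0 < n := by omega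
  have n2_pos : 1 ≤ 2 * n := mul_pos (zero_lt_two' ℕ) n_pos
  let C : Finset ℕ := {p ∈ Finset.Ioc n (2 * n) | p.Prime}
  let f x := x ^ n.centralBinom.factorization x
  have hsub : C ⊆ Finset.Ico (2 * n / 3 + 1) (2 * n + 1) := by
    intro x hx
    simp only [C, Finset.mem_filter, Finset.mem_Ioc] at hx
    simp only [Finset.mem_Ico]
    have : 2 * n / 3 ≤ n := by omega
    omega
  have h1 : ∏ x ∈ Finset.Ico (2 * n / 3 + 1) (2 * n + 1), f x = ∏ x ∈ C, f x := by
    symm
    apply Finset.prod_subset hsub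
    intro x hx hxC
    simp only [Finset.mem_Ico] at hx
    simp only [C, Finset.mem_filter, Finset.mem_Ioc, not_and] at hxC
    dsimp only [f]
    by_cases hp : x.Prime
    · have hxn : x ≤ n := by
        by_contra hlt
        exact hxC ⟨by omega, by omega⟩ hp
      have h2x : 2 * n < 3 * x := by
        have := hx.1
        omega
      rw [factorization_centralBinom_of_two_mul_self_lt_three_mul n_large hxn h2x, Nat.pow_zero]
    · rw [factorization_eq_zero_of_not_prime n.centralBinom hp, Nat.pow_zero]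
  change ∏ x ∈ Finset.Ico (2 * n / 3 + 1) (2 * n + 1), f x ≤ _
  rw [h1]
  calc ∏ x ∈ C, f x ≤ ∏ _x ∈ C, (2 * n) :=
        Finset.prod_le_prod' fun p _ => pow_factorization_choose_le (mul_pos two_pos n_pos)
    _ = (2 * n) ^ C.card := Finset.prod_const _
    _ ≤ (2 * n) ^ 2 := pow_right_mono₀ n2_pos (card_primes_le_two h)

theorem centralBinom_le_of_not_hasThree (n : ℕ) (n_large : 2 < n) (h : ¬ HasThree n) :
    centralBinom n ≤ (2 * n) ^ (sqrt (2 * n) + 2) * 4 ^ (2 * n / 3) := by
  have n_pos : 0 < n := by omega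
  have hle : 2 * n / 3 + 1 ≤ 2 * n + 1 := by omega
  have e := n.prod_pow_factorization_centralBinom
  rw [← Finset.prod_range_mul_prod_Ico _ hle] at e
  rw [← e]
  calc _ ≤ ((2 * n) ^ sqrt (2 * n) * 4 ^ (2 * n / 3)) * (2 * n) ^ 2 :=
        Nat.mul_le_mul (prod_small_le n n_pos) (prod_large_le n n_large h)
    _ = _ := by ring

theorem hasThree_eventually (n : ℕ) (n_large : 2048 ≤ n) : HasThree n := by
  have no_prime : 4 ^ n < n * n.centralBinom :=
    Nat.four_pow_lt_mul_centralBinom n (le_trans (by norm_num1) n_large)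
  by_contra h
  have : n.centralBinom ≤ (2 * n) ^ (sqrt (2 * n) + 2) * 4 ^ (2 * n / 3) :=
    centralBinom_le_of_not_hasThree n (lt_of_lt_of_le (by norm_num1) n_large) h
  have h2 := main_inequality3 n_large
  have h3 : n * n.centralBinom ≤ n * ((2 * n) ^ (sqrt (2 * n) + 2) * 4 ^ (2 * n / 3)) :=
    Nat.mul_le_mul_left _ this
  rw [← mul_assoc] at h3
  omega

theorem hasThree_step {n : ℕ} (q : ℕ) {a : ℕ} (b c : ℕ) (ha : a.Prime) (hb : b.Prime)
    (hc : c.Prime) (hab : a < b) (hbc : b < c) (cov : c ≤ 2 * q)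
    (H : n < q → HasThree n) (hn : n < a) : HasThree n := by
  by_cases hq : n < q
  · exact H hq
  · exact ⟨a, b, c, ha, hb, hc, hn, hab, hbc, by omega⟩

/-- **Three primes between `n` and `2n`** for `n ≥ 9`. -/
theorem hasThree (n : ℕ) (hn : 9 ≤ n) : HasThree n := by
  rcases lt_or_ge 2047 n with h | h
  · exact hasThree_eventually n h
  replace h : n < 2053 := h.trans_lt (by norm_num1)
  revert h
  refine hasThree_step 1039 2063 2069 (by norm_num1) (by norm_num1) (by norm_num1)
    (by norm_num1) (by norm_num1) (by norm_num1) ?_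
  refine hasThree_step 541 1049 1051 (by norm_num1) (by norm_num1) (by norm_num1)
    (by norm_num1) (by norm_num1) (by norm_num1) ?_
  refine hasThree_step 281 547 557 (by norm_num1) (by norm_num1) (by norm_num1)
    (by norm_num1) (by norm_num1) (by norm_num1) ?_
  refine hasThree_step 149 283 293 (by norm_num1) (by norm_num1) (by norm_num1)
    (by norm_num1) (by norm_num1) (by norm_num1) ?_
  refine hasThree_step 79 151 157 (by norm_num1) (by norm_num1) (by norm_num1)
    (by norm_num1) (by norm_num1) (by norm_num1) ?_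
  refine hasThree_step 47 83 89 (by norm_num1) (by norm_num1) (by norm_num1)
    (by norm_num1) (by norm_num1) (by norm_num1) ?_
  refine hasThree_step 31 53 59 (by norm_num1) (by norm_num1) (by norm_num1)
    (by norm_num1) (by norm_num1) (by norm_num1) ?_
  refine hasThree_step 23 37 41 (by norm_num1) (by norm_num1) (by norm_num1)
    (by norm_num1) (by norm_num1) (by norm_num1) ?_
  refine hasThree_step 17 29 31 (by norm_num1) (by norm_num1) (by norm_num1)
    (by norm_num1) (by norm_num1) (by norm_num1) ?_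
  refine hasThree_step 13 19 23 (by norm_num1) (by norm_num1) (by norm_num1)
    (by norm_num1) (by norm_num1) (by norm_num1) ?_
  refine hasThree_step 11 17 19 (by norm_num1) (by norm_num1) (by norm_num1)
    (by norm_num1) (by norm_num1) (by norm_num1) ?_
  refine hasThree_step 9 13 17 (by norm_num1) (by norm_num1) (by norm_num1)
    (by norm_num1) (by norm_num1) (by norm_num1) ?_
  intro h9
  omega

/-- Unfolded form. -/
theorem exists_three_primes (n : ℕ) (hn : 9 ≤ n) :
    ∃ p q r : ℕ, p.Prime ∧ q.Prime ∧ r.Prime ∧ n < p ∧ p < q ∧ q < r ∧ r ≤ 2 * n :=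
  hasThree n hn

end Cfsg.Agent.Lib.Helper13.ThreePrimes
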