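/-
helper13: S3572 market "WD", leaves SUBODD / SUBTWO in `_of` form (the other leaves are hypotheses).
-/
import Mathlib
import Cfsg.Agent.Lib.Helper29.WDDefs
import Cfsg.Agent.Lib.Helper29.WDBAS

set_option autoImplicit false
set_option linter.unusedSectionVars false
set_option linter.unusedVariables false

namespace Cfsg.Agent.Lib.Helper13.WDLeaf

open Finset DihedralGroup
open Cfsg.Agent.Lib.Helper19.SchurCyclic
open Cfsg.Agent.Lib.Helper7.DHB
open Cfsg.Agent.Lib.Helper29.WD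
open Cfsg.Agent.Lib.Helper29.WDLeaf (inv_univ inv_erase_one inv_filter coeff_pow_star)

variable {n : ℕ} [NeZero n] {U : Type*} [Group U] {star : U → DihedralGroup n → DihedralGroup n}
variable {T : Finset (DihedralGroup n)}

theorem r_ne_one {i : ZMod n} (hi : i ≠ 0) : (r i : DihedralGroup n) ≠ 1 := by
  rw [DihedralGroup.one_def]
  intro h
  exact hi (DihedralGroup.r.inj h)

/-- a `star`-invariant property that fails on all reflections fails on all non-trivial rotations -/
theorem rot_of_refl (hax : Ax star)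
    (hF2 : ∀ T : Finset (DihedralGroup n), Inv star T → (1 : DihedralGroup n) ∉ T → T.Nonempty →
      (XX T).Nonempty ∧ (YY T).Nonempty)
    {R : Type*} (ξ : DihedralGroup n → R) (hξ : ∀ u g, ξ (star u g) = ξ g)
    (P : R → Prop) [DecidablePred P] (hsr : ∀ j : ZMod n, ¬ P (ξ (sr j))) :
    ∀ i : ZMod n, i ≠ 0 → ¬ P (ξ (r i)) := by
  intro i hi hP
  have hL : Inv star ((univ.erase (1 : DihedralGroup n)).filter (fun g => P (ξ g))) :=
    inv_filter hax ξ hξ P (inv_erase_one hax inv_univ)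
  have h1 : (1 : DihedralGroup n) ∉ (univ.erase (1 : DihedralGroup n)).filter (fun g => P (ξ g)) := by
    intro h
    rw [mem_filter] at h
    exact (notMem_erase _ _) h.1
  have hne : ((univ.erase (1 : DihedralGroup n)).filter (fun g => P (ξ g))).Nonempty :=
    ⟨r i, by rw [mem_filter]; exact ⟨mem_erase.mpr ⟨r_ne_one hi, mem_univ _⟩, hP⟩⟩
  obtain ⟨-, ⟨j, hj⟩⟩ := hF2 _ hL h1 hne
  rw [mem_YY, mem_filter] at hj
  exact hsr j hj.2

/-! ### parity lemmas in `ZMod n` -/

theorem half_props (hn : 3 ≤ n) (h2n : 2 ∣ n) :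
    (2 : ℕ) • ((n / 2 : ℕ) : ZMod n) = 0 ∧ ((n / 2 : ℕ) : ZMod n) ≠ 0 := by
  obtain ⟨k, rfl⟩ := h2n
  have hk : 2 * k / 2 = k := by omega
  rw [hk]
  constructor
  · rw [nsmul_eq_mul]
    have : ((2 : ℕ) : ZMod (2 * k)) * (k : ZMod (2 * k)) = ((2 * k : ℕ) : ZMod (2 * k)) := by
      push_cast; ring
    rw [this, ZMod.natCast_self]
  · intro h
    rw [ZMod.natCast_eq_zero_iff] at h
    have := Nat.le_of_dvd (by omega) h
    omega

/-- `dif Y Y i` is even for a `z`-invariant `Y` -/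
theorem two_dvd_dif (hn : 3 ≤ n) (h2n : 2 ∣ n) (Y : Finset (ZMod n)) (hY : PInv 2 Y) (i : ZMod n) :
    2 ∣ dif Y Y i := by
  obtain ⟨hz2, hz0⟩ := half_props hn h2n
  set z : ZMod n := ((n / 2 : ℕ) : ZMod n) with hz
  have hzz : z + z = 0 := by rw [← two_nsmul]; exact hz2
  unfold dif
  have key : ∑ q ∈ (Y ×ˢ Y).filter (fun q => q.2 - q.1 = i), (1 : ZMod 2) = 0 := by
    apply Finset.sum_involution (fun q _ => (q.1 + z, q.2 + z))
    · intro q _
      decide
    · intro q _ _ h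
      have := congrArg Prod.fst h
      simp only at this
      exact hz0 (add_eq_left.mp this)
    · intro q hq
      rw [mem_filter, mem_product] at hq ⊢
      refine ⟨⟨hY _ hq.1.1 z hz2, hY _ hq.1.2 z hz2⟩, ?_⟩
      simp only
      rw [← hq.2]; abel
    · intro q _
      apply Prod.ext
      · simp only; rw [add_assoc, hzz, add_zero]
      · simp only; rw [add_assoc, hzz, add_zero]
  rw [Finset.sum_const, nsmul_eq_mul, mul_one] at key
  exact (ZMod.natCast_eq_zero_iff _ 2).mp key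

/-- `rep X X i = #{s ∈ X | 2 s = i}` mod 2 -/
theorem rep_mod_two (X : Finset (ZMod n)) (i : ZMod n) :
    (rep X X i) % 2 = ((X.filter (fun s => 2 • s = i)).card) % 2 := by
  classical
  unfold rep
  set A := (X ×ˢ X).filter (fun q => q.1 + q.2 = i) with hA
  have h1 := Finset.card_filter_add_card_filter_not (s := A) (fun q : ZMod n × ZMod n => q.1 = q.2)
  have h2 : 2 ∣ (A.filter (fun q => ¬ q.1 = q.2)).card := by
    have key : ∑ q ∈ A.filter (fun q => ¬ q.1 = q.2), (1 : ZMod 2) = 0 := by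
      apply Finset.sum_involution (fun q _ => (q.2, q.1))
      · intro q _
        decide
      · intro q hq _ h
        rw [mem_filter] at hq
        have := congrArg Prod.fst h
        simp only at this
        exact hq.2 this.symm
      · intro q hq
        rw [mem_filter, hA, mem_filter, mem_product] at hq ⊢
        refine ⟨⟨⟨hq.1.1.2, hq.1.1.1⟩, ?_⟩, ?_⟩
        · simp only; rw [add_comm]; exact hq.1.2
        · simp only; exact fun h => hq.2 h.symm
      · intro q _
        rfl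
    rw [Finset.sum_const, nsmul_eq_mul, mul_one] at key
    exact (ZMod.natCast_eq_zero_iff _ 2).mp key
  have h3 : (A.filter (fun q => q.1 = q.2)).card = (X.filter (fun s => 2 • s = i)).card := by
    apply Finset.card_bij (fun q _ => q.1)
    · intro q hq
      rw [mem_filter, hA, mem_filter, mem_product] at hq
      rw [mem_filter]
      refine ⟨hq.1.1.1, ?_⟩
      rw [two_nsmul]
      conv_lhs => rhs; rw [hq.2]
      exact hq.1.2
    · intro q hq q' hq' h
      rw [mem_filter] at hq hq'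
      apply Prod.ext h
      rw [← hq.2, ← hq'.2]; exact h
    · intro s hs
      rw [mem_filter] at hs
      refine ⟨(s, s), ?_, rfl⟩
      rw [mem_filter, hA, mem_filter, mem_product]
      refine ⟨⟨⟨hs.1, hs.1⟩, ?_⟩, rfl⟩
      simp only
      rw [← two_nsmul]; exact hs.2
  omega

/-- SUB(Z) in `_of` form -/
theorem sub_two_of (hax : Ax star) (hn : 3 ≤ n) (h2n : 2 ∣ n)
    (hsymm : ∀ T : Finset (DihedralGroup n), Inv star T → ∀ i ∈ XX T, -i ∈ XX T)
    (hF2 : ∀ T : Finset (DihedralGroup n), Inv star T → (1 : DihedralGroup n) ∉ T → T.Nonempty →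
      (XX T).Nonempty ∧ (YY T).Nonempty)
    (hsq_r : ∀ (T : Finset (DihedralGroup n)) (i : ZMod n),
      ((eta ℕ T) ^ 2).coeff (r i) = rep (XX T) (XX T) i + dif (YY T) (YY T) i)
    (hsq_sr : ∀ T : Finset (DihedralGroup n), (∀ i ∈ XX T, -i ∈ XX T) → ∀ j : ZMod n,
      ((eta ℕ T) ^ 2).coeff (sr j) = 2 * rep (XX T) (YY T) j)
    (hfib : ∀ X : Finset (ZMod n),
      (∀ i : ZMod n, i ≠ 0 → 2 ∣ (X.filter (fun s => 2 • s = i)).card) → PInvOff 2 X)
    (hlemF : ∀ T : Finset (DihedralGroup n), Inv star T → (1 : DihedralGroup n) ∉ T →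
      PInvOff 2 (XX T) → PInv 2 (YY T) → Triv T)
    (hT : Inv star T) (h1 : (1 : DihedralGroup n) ∉ T) (hY : PInv 2 (YY T)) : Triv T := by
  apply hlemF T hT h1 _ hY
  apply hfib
  intro i hi
  have h3 := rot_of_refl hax hF2 (fun g => ((eta ℕ T) ^ 2).coeff g)
    (fun u g => coeff_pow_star hax hT ℕ 2 u g) (fun m : ℕ => m % 2 = 1)
    (fun j => by
      show ¬ ((eta ℕ T) ^ 2).coeff (sr j) % 2 = 1
      rw [hsq_sr T (hsymm T hT) j]
      omega) i hi
  have h4 : ((eta ℕ T) ^ 2).coeff (r i) % 2 = 0 := by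
    have : ¬ ((eta ℕ T) ^ 2).coeff (r i) % 2 = 1 := h3
    omega
  rw [hsq_r T i] at h4
  have h5 := two_dvd_dif hn h2n (YY T) hY i
  have h6 := rep_mod_two (XX T) i
  omega

/-- SUB(p), `p` odd, in `_of` form -/
theorem sub_odd_of {p : ℕ} [Fact p.Prime] (hax : Ax star) (hp2 : p ≠ 2)
    (hsymm : ∀ T : Finset (DihedralGroup n), Inv star T → ∀ i ∈ XX T, -i ∈ XX T)
    (hF2 : ∀ T : Finset (DihedralGroup n), Inv star T → (1 : DihedralGroup n) ∉ T → T.Nonempty →
      (XX T).Nonempty ∧ (YY T).Nonempty)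
    (hfrob_r : ∀ T : Finset (DihedralGroup n), (∀ i ∈ XX T, -i ∈ XX T) → ∀ i : ZMod n,
      ((eta (ZMod p) T) ^ p).coeff (r i) = (((XX T).filter (fun s => p • s = i)).card : ZMod p))
    (hfrob_sr : ∀ T : Finset (DihedralGroup n), (∀ i ∈ XX T, -i ∈ XX T) → ∀ j : ZMod n,
      ((eta (ZMod p) T) ^ p).coeff (sr j) =
        ((ind (ZMod p) (YY T) * ind (ZMod p) ((YY T).image Neg.neg)) ^ ((p - 1) / 2) *
          ind (ZMod p) (YY T)).coeff j)
    (hyys : ∀ Y : Finset (ZMod n), PInv p Y →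
      ind (ZMod p) Y * ind (ZMod p) (Y.image Neg.neg) = 0)
    (hfib : ∀ X : Finset (ZMod n),
      (∀ i : ZMod n, i ≠ 0 → p ∣ (X.filter (fun s => p • s = i)).card) → PInvOff p X)
    (hlemF : ∀ T : Finset (DihedralGroup n), Inv star T → (1 : DihedralGroup n) ∉ T →
      PInvOff p (XX T) → PInv p (YY T) → Triv T)
    (hT : Inv star T) (h1 : (1 : DihedralGroup n) ∉ T) (hY : PInv p (YY T)) : Triv T := by
  classical
  apply hlemF T hT h1 _ hY
  apply hfib
  intro i hi
  have hp3 : (p - 1) / 2 ≠ 0 := by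
    have := (Fact.out : p.Prime).two_le
    omega
  have h3 := rot_of_refl hax hF2 (fun g => ((eta (ZMod p) T) ^ p).coeff g)
    (fun u g => coeff_pow_star hax hT (ZMod p) p u g) (fun m : ZMod p => m ≠ 0)
    (fun j => by
      show ¬ ((eta (ZMod p) T) ^ p).coeff (sr j) ≠ 0
      rw [hfrob_sr T (hsymm T hT) j, hyys (YY T) hY, zero_pow hp3, zero_mul]
      simp) i hi
  have h4 : ((eta (ZMod p) T) ^ p).coeff (r i) = 0 := not_not.mp h3
  rw [hfrob_r T (hsymm T hT) i] at h4
  exact (ZMod.natCast_eq_zero_iff _ p).mp h4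

end Cfsg.Agent.Lib.Helper13.WDLeaf
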