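/-
helper13: S3572 market "WD", leaf SUBODD (`sub_odd`), exact statement.
-/
import Mathlib
import Cfsg.Agent.Lib.Helper29.WDDefs
import Cfsg.Agent.Lib.Helper7.DHBGP
import Cfsg.Agent.Lib.Helper7.DHB2S
import Cfsg.Agent.Lib.Helper13.WDSUBOf
import Cfsg.Agent.Lib.Helper21.WDF12
import Cfsg.Agent.Lib.Helper21.WDLEMF
import Cfsg.Agent.Lib.Helper15.WDFROB
import Cfsg.Agent.Lib.Helper5.WDYYS
import Cfsg.Agent.Lib.Helper5.WDFIB

set_option autoImplicit false
set_option linter.unusedSectionVars false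
set_option linter.unusedVariables false

namespace Cfsg.Agent.Lib.Helper13.WDLeaf

open Finset DihedralGroup
open Cfsg.Agent.Lib.Helper19.SchurCyclic
open Cfsg.Agent.Lib.Helper7.DHB
open Cfsg.Agent.Lib.Helper29.WD

variable {n : ℕ} [NeZero n] {U : Type*} [Group U] {star : U → DihedralGroup n → DihedralGroup n}
variable {T T' T₁ T₂ : Finset (DihedralGroup n)}

/-- SUB(p), `p` odd: `frob_sr` + `ind_mul_ind_neg_eq_zero` kill the reflection part of `τ^p`; F2 on the level sets; `frob_r` +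
`pinvoff_of_dvd_fibre`; `lemF`. -/
theorem sub_odd {p : ℕ} (hax : Ax star) (hprim : Prim star) (hn : 3 ≤ n) (hp : p.Prime) (hp2 : p ≠ 2) (hpn : p ∣ n)
    (hT : Inv star T) (h1 : (1 : DihedralGroup n) ∉ T) (hY : PInv p (YY T)) : Triv T := by
  have : Fact p.Prime := ⟨hp⟩
  exact sub_odd_of hax hp2
    (fun T hT => Cfsg.Agent.Lib.Helper21.WDLeaf.symm hax hprim hT)
    (fun T hT h1 hne => Cfsg.Agent.Lib.Helper21.WDLeaf.F2 hax hprim hn hT h1 hne)
    (fun T hX i => Cfsg.Agent.Lib.Helper15.WDLeaf.frob_r hp2 T hX i)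
    (fun T hX j => Cfsg.Agent.Lib.Helper15.WDLeaf.frob_sr hp2 T hX j)
    (fun Y hY => Cfsg.Agent.Lib.Helper5.WDLeaf.ind_mul_ind_neg_eq_zero hpn Y hY)
    (fun X h => Cfsg.Agent.Lib.Helper5.WDLeaf.pinvoff_of_dvd_fibre hp hpn X h)
    (fun T hT h1 hX hY => Cfsg.Agent.Lib.Helper21.WDLeaf.lemF hax hprim hn hp hpn hT h1 hX hY)
    hT h1 hY

end Cfsg.Agent.Lib.Helper13.WDLeaf
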