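/-
helper13: S3572 market "WD", leaf SUBTWO (`sub_two`), exact statement.
-/
import Mathlib
import Cfsg.Agent.Lib.Helper29.WDDefs
import Cfsg.Agent.Lib.Helper7.DHBGP
import Cfsg.Agent.Lib.Helper7.DHB2S
import Cfsg.Agent.Lib.Helper13.WDSUBOf
import Cfsg.Agent.Lib.Helper21.WDF12
import Cfsg.Agent.Lib.Helper21.WDLEMF
import Cfsg.Agent.Lib.Helper15.WDSQ
import Cfsg.Agent.Lib.Helper5.WDFIB

set_option autoImplicit false
set_option linter.unusedSectionVars false
set_option linter.unusedVariables false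

namespace Cfsg.Agent.Lib.Helper13.WDLeaf

open Finset DihedralGroup
open Cfsg.Agent.Lib.Helper19.SchurCyclic
open Cfsg.Agent.Lib.Helper7.DHB
open Cfsg.Agent.Lib.Helper29.WD

variable {n : ℕ} [NeZero n] {U : Type*} [Group U] {star : U → DihedralGroup n → DihedralGroup n}
variable {T T' T₁ T₂ : Finset (DihedralGroup n)}

/-- SUB(Z), every even `n`: odd level set of `η(T)²` minus `1` lies in the rotations; `dif Y Y i` even; `rep X X i = #{2s = i}` mod 2. -/
theorem sub_two (hax : Ax star) (hprim : Prim star) (hn : 3 ≤ n) (h2n : 2 ∣ n)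
    (hT : Inv star T) (h1 : (1 : DihedralGroup n) ∉ T) (hY : PInv 2 (YY T)) : Triv T :=
  sub_two_of hax hn h2n
    (fun T hT => Cfsg.Agent.Lib.Helper21.WDLeaf.symm hax hprim hT)
    (fun T hT h1 hne => Cfsg.Agent.Lib.Helper21.WDLeaf.F2 hax hprim hn hT h1 hne)
    (fun T i => Cfsg.Agent.Lib.Helper15.WDLeaf.coeff_sq_r T i)
    (fun T hX j => Cfsg.Agent.Lib.Helper15.WDLeaf.coeff_sq_sr T hX j)
    (fun X h => Cfsg.Agent.Lib.Helper5.WDLeaf.pinvoff_of_dvd_fibre Nat.prime_two h2n X h)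
    (fun T hT h1 hX hY => Cfsg.Agent.Lib.Helper21.WDLeaf.lemF hax hprim hn Nat.prime_two h2n hT h1 hX hY)
    hT h1 hY

end Cfsg.Agent.Lib.Helper13.WDLeaf
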