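/-
helper13: S2524, leaf `surj_SL2`: transport between invariant submodules of a representation of
`Sp_2(F) = SL_2(F)` and the character-level facts of `SL2Weights`.
-/
import Mathlib
import Cfsg.Agent.Lib.Helper10.WGDefs
import Cfsg.Agent.Lib.Helper13.SL2SurjDefs
import Cfsg.Agent.Lib.Helper13.SL2Weights
import Cfsg.Agent.Lib.Helper12.WGSG4
import Cfsg.Agent.Lib.Helper29.WGSS1
import Cfsg.Agent.Lib.Helper5.WGSG2
import Cfsg.Agent.Lib.Helper5.WGSS2
import Cfsg.Agent.Lib.Lead.CharMore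

set_option autoImplicit false

namespace Cfsg.Agent.Lib.Helper13.WGSL2

open Matrix Cfsg Cfsg.Agent.CharLib Cfsg.Agent.Lib.Helper11.LS Cfsg.Agent.Lib.Helper10.WG
  Cfsg.Agent.Lib.Helper13 Cfsg.Agent.Lib.Helper13.SL2Surj
open scoped ComplexConjugate

section general

variable {G : Type*} [Group G] {V : Type*} [AddCommGroup V] [Module ℂ V]

/-- A central element acting by the scalar `ε` on a non-zero vector of an irreducible invariant
submodule acts by `ε` on all of it. -/
theorem central_scalar_on_irr (σ : Representation ℂ G V) (N : Submodule ℂ V) (hN : IsIrrSub σ N)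
    (z : G) (hz : ∀ g, z * g = g * z) (ε : ℂ) {x : V} (hxN : x ∈ N) (hx0 : x ≠ 0)
    (hx : σ z x = ε • x) : ∀ v ∈ N, σ z v = ε • v := by
  obtain ⟨hinv, -, hmin⟩ := hN
  let E : Submodule ℂ V := eigSp σ (fun _ : Unit => z) (fun _ => ε)
  have hEinv : Inv σ (N ⊓ E) := by
    intro g v hv
    refine ⟨hinv g v hv.1, ?_⟩
    intro _
    have hvE : σ z v = ε • v := hv.2 ()
    show σ z (σ g v) = ε • σ g v
    rw [← Module.End.mul_apply, ← map_mul, hz g, map_mul, Module.End.mul_apply, hvE, map_smul]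
  have hxE : x ∈ N ⊓ E := ⟨hxN, fun _ => hx⟩
  rcases hmin (N ⊓ E) inf_le_left hEinv with h | h
  · exfalso
    rw [h] at hxE
    exact hx0 ((Submodule.mem_bot ℂ).mp hxE)
  · intro v hv
    have : v ∈ N ⊓ E := by rw [h]; exact hv
    exact this.2 ()

/-- The character of an invariant submodule on which a group element acts by a scalar. -/
theorem subChar_scalar_mul [FiniteDimensional ℂ V] (σ : Representation ℂ G V) (N : Submodule ℂ V)
    (hN : Inv σ N) (z : G) (ε : ℂ) (hz : ∀ v ∈ N, σ z v = ε • v) (g : G) :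
    subChar σ N hN (z * g) = ε * subChar σ N hN g := by
  unfold subChar Representation.character
  have : subRep σ N hN (z * g) = ε • subRep σ N hN g := by
    apply LinearMap.ext
    intro v
    apply Subtype.ext
    rw [subRep_apply, LinearMap.smul_apply, Submodule.coe_smul, subRep_apply, map_mul,
      Module.End.mul_apply]
    exact hz _ (hN g _ v.2)
  rw [this, map_smul, smul_eq_mul]

/-- In a submodule of dimension at most one, every vector is a multiple of a given non-zero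
vector. -/
theorem exists_smul_of_finrank_le_one [FiniteDimensional ℂ V] (W : Submodule ℂ V)
    (hW : Module.finrank ℂ ↥W ≤ 1) {x : V} (hxW : x ∈ W) (hx0 : x ≠ 0) {v : V} (hv : v ∈ W) :
    ∃ a : ℂ, v = a • x := by
  have hx' : (⟨x, hxW⟩ : ↥W) ≠ 0 := fun h => hx0 (congrArg Subtype.val h)
  have hpos : 0 < Module.finrank ℂ ↥W := Module.finrank_pos_iff_exists_ne_zero.mpr ⟨_, hx'⟩
  have h1 : Module.finrank ℂ ↥W = 1 := by omega
  obtain ⟨c, hc⟩ := exists_smul_eq_of_finrank_eq_one h1 hx' (⟨v, hv⟩ : ↥W)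
  exact ⟨c, (congrArg Subtype.val hc).symm⟩

end general

section sp2

variable {F : Type*} [Field F] [Fintype F] [DecidableEq F]
  {V : Type*} [AddCommGroup V] [Module ℂ V]

/-- the unitriangular elements of `Sp_2` -/
def uSp (t : F) : SpG F 1 := Xs (single (0 : Fin 1) (0 : Fin 1) t) (by simp)

/-- the central involution of `Sp_2` -/
def zSp (F : Type*) [Field F] : SpG F 1 := LvG (-1 : GL (Fin 1) F)

theorem wt_eq_eigSp' (ψ : AddChar F ℂ) (σ : Representation ℂ (SpG F 1) V) (d : F) :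
    wt ψ σ (single (0 : Fin 1) (0 : Fin 1) d) =
      eigSp σ (uSp : F → SpG F 1) (fun t : F => (AddChar.mulShift ψ d) t) := by
  rw [Cfsg.Agent.Lib.Helper5.WGSS2.wt_eq_eigSp]
  rfl

/-- The data of the isomorphism `SL_2 ≃ Sp_2`. -/
theorem exists_equiv_data :
    ∃ e : SpecialLinearGroup (Fin 2) F ≃* SpG F 1,
      (∀ t : F, e (upSL t) = uSp t) ∧ e (zSL F) = zSp F ∧
      (∀ a b : F, (uSp (a + b) : SpG F 1) = uSp a * uSp b) ∧
      (∀ g : SpG F 1, zSp F * g = g * zSp F) := by
  obtain ⟨e, he1, he2⟩ := Cfsg.Agent.Lib.Helper29.WGSS1.exists_sl2_equiv_sp (F := F)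
  have he1' : ∀ t : F, e (upSL t) = uSp t := he1
  refine ⟨e, he1', he2, ?_, ?_⟩
  · intro a b
    rw [← he1', ← he1', ← he1', upSL_add, map_mul]
  · intro g
    obtain ⟨s, rfl⟩ := e.surjective g
    change LvG (-1 : GL (Fin 1) F) * e s = e s * LvG (-1 : GL (Fin 1) F)
    rw [← he2, ← map_mul, ← map_mul]
    congr 1
    exact (Subgroup.mem_center_iff.mp zSL_mem_center s).symm

variable [FiniteDimensional ℂ V]

/-- The character of `SL_2` attached to an irreducible invariant submodule, and its weights. -/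
theorem irr_sub_char (ψ : AddChar F ℂ) (e : SpecialLinearGroup (Fin 2) F ≃* SpG F 1)
    (he1 : ∀ t : F, e (upSL t) = uSp t)
    (hadd : ∀ a b : F, (uSp (a + b) : SpG F 1) = uSp a * uSp b)
    (σ : Representation ℂ (SpG F 1) V) (N : Submodule ℂ V) (hN : IsIrrSub σ N) :
    IsIrrCharacter (SpecialLinearGroup (Fin 2) F) (subChar σ N hN.1 ∘ e) ∧
    ∀ d : F, uWeight ψ (subChar σ N hN.1 ∘ e) d =
      ((Module.finrank ℂ ↥(N ⊓ wt ψ σ (single (0 : Fin 1) (0 : Fin 1) d)) : ℕ) : ℂ) := by
  have : Finite (SpG F 1) := Finite.of_equiv _ e.toEquiv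
  refine ⟨IsIrrCharacter.comp_mulEquiv
    (Cfsg.Agent.Lib.Helper5.WGSG2.isIrrCharacter_subChar σ N hN) e, ?_⟩
  intro d
  rw [wt_eq_eigSp', Cfsg.Agent.Lib.Helper12.WGSG4.finrank_inf_eigSp σ uSp hadd
    (AddChar.mulShift ψ d) N hN.1]
  unfold uWeight
  congr 1
  apply Finset.sum_congr rfl
  intro t _
  rw [Function.comp_apply, he1, AddChar.mulShift_apply]

end sp2

end Cfsg.Agent.Lib.Helper13.WGSL2
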