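/-
helper13: S2524, leaf `surj_SL2`: the pair lemma (irreducible invariant `N' ≤ V'`, `N ≤ V`) and the
surjectivity theorem for `Sp_2 = SL_2(q)` on the class `Adm1`.
-/
import Mathlib
import Cfsg.Agent.Lib.Helper13.WGSL2A
import Cfsg.Agent.Lib.Helper2.WGSG1
import Cfsg.Agent.Lib.Helper2.WGSG3

set_option autoImplicit false

namespace Cfsg.Agent.Lib.Helper13.WGSL2

open Matrix Cfsg Cfsg.Agent.CharLib Cfsg.Agent.Lib.Helper11.LS Cfsg.Agent.Lib.Helper10.WG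
  Cfsg.Agent.Lib.Helper13 Cfsg.Agent.Lib.Helper13.SL2Surj
open scoped ComplexConjugate

universe u

variable {F : Type*} [Field F] [Fintype F] [DecidableEq F]
  {V V' : Type u} [AddCommGroup V] [Module ℂ V] [AddCommGroup V'] [Module ℂ V']

/-- An equivariant projection maps weight spaces into weight spaces. -/
theorem proj_mem_wt {W : Type*} [AddCommGroup W] [Module ℂ W] (ψ : AddChar F ℂ)
    (τ : Representation ℂ (SpG F 1) W) (p : W →ₗ[ℂ] W) (hp : ∀ g v, p (τ g v) = τ g (p v))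
    (d : F) {v : W} (hv : v ∈ wt ψ τ (single (0 : Fin 1) (0 : Fin 1) d)) :
    p v ∈ LinearMap.range p ⊓ wt ψ τ (single (0 : Fin 1) (0 : Fin 1) d) := by
  refine ⟨LinearMap.mem_range_self _ _, ?_⟩
  intro S hS
  rw [← hp, hv S hS, map_smul]

/-- The central involution preserves the weight spaces. -/
theorem zSp_mem_wt {W : Type*} [AddCommGroup W] [Module ℂ W] (ψ : AddChar F ℂ)
    (τ : Representation ℂ (SpG F 1) W) (hzc : ∀ g : SpG F 1, zSp F * g = g * zSp F)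
    (d : F) {v : W} (hv : v ∈ wt ψ τ (single (0 : Fin 1) (0 : Fin 1) d)) :
    τ (zSp F) v ∈ wt ψ τ (single (0 : Fin 1) (0 : Fin 1) d) := by
  intro S hS
  rw [← Module.End.mul_apply, ← map_mul, ← hzc, map_mul, Module.End.mul_apply, hv S hS, map_smul]

theorem neg_one_stab (κ : F) :
    (((-1 : GL (Fin 1) F)⁻¹ : GL (Fin 1) F) : Matrix (Fin 1) (Fin 1) F)ᵀ *
      single (0 : Fin 1) (0 : Fin 1) κ *
      (((-1 : GL (Fin 1) F)⁻¹ : GL (Fin 1) F) : Matrix (Fin 1) (Fin 1) F) =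
      single (0 : Fin 1) (0 : Fin 1) κ := by
  have : ((-1 : GL (Fin 1) F)⁻¹ : GL (Fin 1) F) = -1 := by
    rw [inv_eq_iff_eq_inv]
    apply Units.ext
    simp
  rw [this]
  simp

theorem pair_hom_aux (hodd : Odd (Fintype.card F)) (ψ : AddChar F ℂ) (hψ : ψ ≠ 1)
    [FiniteDimensional ℂ V'] [FiniteDimensional ℂ V]
    (σ' : Representation ℂ (SpG F 1) V') (σ : Representation ℂ (SpG F 1) V)
    (hA' : Adm1 ψ σ') (hA : Adm1 ψ σ)
    (π' : V' →ₗ[ℂ] V') (hπ'N : IsIrrSub σ' (LinearMap.range π'))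
    (hπ'c : ∀ g v, π' (σ' g v) = σ' g (π' v))
    (π : V →ₗ[ℂ] V) (hπN : IsIrrSub σ (LinearMap.range π))
    (hπc : ∀ g v, π (σ g v) = σ g (π v))
    (κ₀ κ₁ : F) (hκ₀ : κ₀ ≠ 0) (hκ₁ : κ₁ ≠ 0) (hns : ¬ IsSquare (κ₀ * κ₁))
    (φ₀ : V' →ₗ[ℂ] V) (h₀ : IsStabMap ψ σ' σ (single (0 : Fin 1) (0 : Fin 1) κ₀) φ₀)
    (x₀ : V') (hx₀ : x₀ ∈ wt ψ σ' (single (0 : Fin 1) (0 : Fin 1) κ₀))
    (hne : π (φ₀ (π' x₀)) ≠ 0) :
    ∃ Φ : V' →ₗ[ℂ] V, IsHom σ' σ Φ ∧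
      (∀ v ∈ wt ψ σ' (single (0 : Fin 1) (0 : Fin 1) κ₀), Φ v = π (φ₀ (π' v))) ∧
      (∀ v ∈ wt ψ σ' (single (0 : Fin 1) (0 : Fin 1) κ₁), Φ v = 0 ∧ π' v = 0) := by
  classical
  obtain ⟨e, he1, he2, hadd, hzc⟩ := exists_equiv_data (F := F)
  have hfin : Finite (SpG F 1) := Finite.of_equiv _ e.toEquiv
  obtain ⟨N', hN'def⟩ : ∃ N' : Submodule ℂ V', N' = LinearMap.range π' := ⟨_, rfl⟩
  obtain ⟨N, hNdef⟩ : ∃ N : Submodule ℂ V, N = LinearMap.range π := ⟨_, rfl⟩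
  rw [← hN'def] at hπ'N
  rw [← hNdef] at hπN
  have hπ'wt : ∀ d : F, ∀ v ∈ wt ψ σ' (single (0 : Fin 1) (0 : Fin 1) d),
      π' v ∈ N' ⊓ wt ψ σ' (single (0 : Fin 1) (0 : Fin 1) d) := by
    intro d v hv
    rw [hN'def]
    exact proj_mem_wt ψ σ' π' hπ'c d hv
  have hπwt : ∀ d : F, ∀ v ∈ wt ψ σ (single (0 : Fin 1) (0 : Fin 1) d),
      π v ∈ N ⊓ wt ψ σ (single (0 : Fin 1) (0 : Fin 1) d) := by
    intro d v hv
    rw [hNdef]
    exact proj_mem_wt ψ σ π hπc d hv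
  -- the vectors `x`, `y`
  obtain ⟨x, hxdef⟩ : ∃ x : V', x = π' x₀ := ⟨_, rfl⟩
  have hx : x ∈ N' ⊓ wt ψ σ' (single (0 : Fin 1) (0 : Fin 1) κ₀) := by
    rw [hxdef]; exact hπ'wt κ₀ x₀ hx₀
  have hφx : φ₀ x ∈ wt ψ σ (single (0 : Fin 1) (0 : Fin 1) κ₀) := h₀.1 x hx.2
  obtain ⟨y, hydef⟩ : ∃ y : V, y = π (φ₀ x) := ⟨_, rfl⟩
  have hy : y ∈ N ⊓ wt ψ σ (single (0 : Fin 1) (0 : Fin 1) κ₀) := by
    rw [hydef]; exact hπwt κ₀ _ hφx
  have hy0 : y ≠ 0 := by rw [hydef, hxdef]; exact hne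
  have hx0 : x ≠ 0 := by
    intro h
    apply hy0
    rw [hydef, h, map_zero, map_zero]
  have hnb' : N' ⊓ wt ψ σ' (single (0 : Fin 1) (0 : Fin 1) κ₀) ≠ ⊥ := by
    intro h
    rw [h] at hx
    exact hx0 ((Submodule.mem_bot ℂ).mp hx)
  have hnb : N ⊓ wt ψ σ (single (0 : Fin 1) (0 : Fin 1) κ₀) ≠ ⊥ := by
    intro h
    rw [h] at hy
    exact hy0 ((Submodule.mem_bot ℂ).mp hy)
  -- the other class does not occur
  have hbot' : N' ⊓ wt ψ σ' (single (0 : Fin 1) (0 : Fin 1) κ₁) = ⊥ := by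
    by_contra hnb1
    exact hns (hA' N' hπ'N.1 hπ'N.2.2 κ₀ κ₁ hκ₀ hκ₁ hnb' hnb1)
  have hbot : N ⊓ wt ψ σ (single (0 : Fin 1) (0 : Fin 1) κ₁) = ⊥ := by
    by_contra hnb1
    exact hns (hA N hπN.1 hπN.2.2 κ₀ κ₁ hκ₀ hκ₁ hnb hnb1)
  -- characters
  obtain ⟨hirr', hwt'⟩ := irr_sub_char ψ e he1 hadd σ' N' hπ'N
  obtain ⟨hirr, hwt⟩ := irr_sub_char ψ e he1 hadd σ N hπN
  have hdim' : Module.finrank ℂ ↥(N' ⊓ wt ψ σ' (single (0 : Fin 1) (0 : Fin 1) κ₀)) ≤ 1 := by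
    rcases uWeight_irr_zero_or_one hψ hirr' hκ₀ with h | h
    · rw [hwt'] at h
      have : Module.finrank ℂ ↥(N' ⊓ wt ψ σ' (single (0 : Fin 1) (0 : Fin 1) κ₀)) = 0 := by
        exact_mod_cast h
      omega
    · rw [hwt'] at h
      have : Module.finrank ℂ ↥(N' ⊓ wt ψ σ' (single (0 : Fin 1) (0 : Fin 1) κ₀)) = 1 := by
        exact_mod_cast h
      omega
  have hdim : Module.finrank ℂ ↥(N ⊓ wt ψ σ (single (0 : Fin 1) (0 : Fin 1) κ₀)) ≤ 1 := by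
    rcases uWeight_irr_zero_or_one hψ hirr hκ₀ with h | h
    · rw [hwt] at h
      have : Module.finrank ℂ ↥(N ⊓ wt ψ σ (single (0 : Fin 1) (0 : Fin 1) κ₀)) = 0 := by
        exact_mod_cast h
      omega
    · rw [hwt] at h
      have : Module.finrank ℂ ↥(N ⊓ wt ψ σ (single (0 : Fin 1) (0 : Fin 1) κ₀)) = 1 := by
        exact_mod_cast h
      omega
  -- the sign
  have hzx : σ' (zSp F) x ∈ N' ⊓ wt ψ σ' (single (0 : Fin 1) (0 : Fin 1) κ₀) :=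
    ⟨hπ'N.1 _ _ hx.1, zSp_mem_wt ψ σ' hzc κ₀ hx.2⟩
  obtain ⟨ε, hε⟩ := exists_smul_of_finrank_le_one _ hdim' hx hx0 hzx
  have hstab : φ₀ (σ' (zSp F) x) = σ (zSp F) (φ₀ x) :=
    h₀.2 (-1 : GL (Fin 1) F) (neg_one_stab κ₀) x hx.2
  have hzy : σ (zSp F) y = ε • y := by
    rw [hydef, ← hπc, ← hstab, hε, map_smul, map_smul]
  have hzN' : ∀ v ∈ N', σ' (zSp F) v = ε • v :=
    central_scalar_on_irr σ' N' hπ'N (zSp F) hzc ε hx.1 hx0 hε
  have hzN : ∀ v ∈ N, σ (zSp F) v = ε • v :=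
    central_scalar_on_irr σ N hπN (zSp F) hzc ε hy.1 hy0 hzy
  have hz' : ∀ s, (subChar σ' N' hπ'N.1 ∘ e) (zSL F * s) = ε * (subChar σ' N' hπ'N.1 ∘ e) s := by
    intro s
    rw [Function.comp_apply, Function.comp_apply, map_mul, he2]
    exact subChar_scalar_mul σ' N' hπ'N.1 (zSp F) ε hzN' (e s)
  have hz : ∀ s, (subChar σ N hπN.1 ∘ e) (zSL F * s) = ε * (subChar σ N hπN.1 ∘ e) s := by
    intro s
    rw [Function.comp_apply, Function.comp_apply, map_mul, he2]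
    exact subChar_scalar_mul σ N hπN.1 (zSp F) ε hzN (e s)
  have hw' : uWeight ψ (subChar σ' N' hπ'N.1 ∘ e) κ₀ ≠ 0 := by
    rw [hwt']
    intro h
    have h0 : Module.finrank ℂ ↥(N' ⊓ wt ψ σ' (single (0 : Fin 1) (0 : Fin 1) κ₀)) = 0 := by
      exact_mod_cast h
    exact hnb' (Submodule.finrank_eq_zero.mp h0)
  have hw : uWeight ψ (subChar σ N hπN.1 ∘ e) κ₀ ≠ 0 := by
    rw [hwt]
    intro h
    have h0 : Module.finrank ℂ ↥(N ⊓ wt ψ σ (single (0 : Fin 1) (0 : Fin 1) κ₀)) = 0 := by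
      exact_mod_cast h
    exact hnb (Submodule.finrank_eq_zero.mp h0)
  have hn' : uWeight ψ (subChar σ' N' hπ'N.1 ∘ e) κ₁ = 0 := by
    rw [hwt', hbot', finrank_bot, Nat.cast_zero]
  have hn : uWeight ψ (subChar σ N hπN.1 ∘ e) κ₁ = 0 := by
    rw [hwt, hbot, finrank_bot, Nat.cast_zero]
  have hθ := irr_eq_of_common_uWeight hodd hψ hirr' hirr hz' hz hκ₀ hκ₁ hns hw' hw hn' hn
  have hchar : subChar σ' N' hπ'N.1 = subChar σ N hπN.1 := by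
    funext g
    obtain ⟨s, rfl⟩ := e.surjective g
    exact congrFun hθ s
  obtain ⟨f, hf⟩ := Cfsg.Agent.Lib.Helper2.WGSG3.exists_equiv_of_subChar_eq σ' σ N' N hπ'N hπN
    hchar
  -- the image of `x`
  obtain ⟨fx, hfxdef⟩ : ∃ fx : V, fx = ((f ⟨x, hx.1⟩ : ↥N) : V) := ⟨_, rfl⟩
  have hfx : fx ∈ N ⊓ wt ψ σ (single (0 : Fin 1) (0 : Fin 1) κ₀) := by
    rw [hfxdef]
    refine ⟨(f ⟨x, hx.1⟩).2, ?_⟩
    intro S hS
    have h1 := hf (Xs S hS) ⟨x, hx.1⟩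
    have h2 : subRep σ' N' hπ'N.1 (Xs S hS) ⟨x, hx.1⟩ =
        ψ (trace (single (0 : Fin 1) (0 : Fin 1) κ₀ * S)) • (⟨x, hx.1⟩ : ↥N') := by
      apply Subtype.ext
      rw [subRep_apply, Submodule.coe_smul]
      exact hx.2 S hS
    rw [h2, map_smul] at h1
    have h3 := congrArg (fun w : ↥N => (w : V)) h1
    simp only [Submodule.coe_smul, subRep_apply] at h3
    exact h3.symm
  have hfx0 : fx ≠ 0 := by
    rw [hfxdef]
    intro h
    have h1 : f ⟨x, hx.1⟩ = 0 := Subtype.ext h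
    have h2 : (⟨x, hx.1⟩ : ↥N') = 0 := by
      rw [← f.map_eq_zero_iff]
      exact h1
    exact hx0 (congrArg Subtype.val h2)
  obtain ⟨c, hc⟩ := exists_smul_of_finrank_le_one _ hdim hfx hfx0 hy
  -- the homomorphism
  have hPmem : ∀ v : V', π' v ∈ N' := by
    intro v
    rw [hN'def]
    exact LinearMap.mem_range_self _ _
  obtain ⟨P', hP'⟩ : ∃ P' : V' →ₗ[ℂ] ↥N', ∀ v, ((P' v : ↥N') : V') = π' v :=
    ⟨LinearMap.codRestrict N' π' hPmem, fun _ => rfl⟩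
  refine ⟨c • (N.subtype ∘ₗ f.toLinearMap ∘ₗ P'), ?_, ?_, ?_⟩
  · intro g v
    have h1 : P' (σ' g v) = subRep σ' N' hπ'N.1 g (P' v) := by
      apply Subtype.ext
      rw [hP', subRep_apply, hP', hπ'c]
    simp only [LinearMap.smul_apply, LinearMap.comp_apply, LinearEquiv.coe_coe,
      Submodule.subtype_apply]
    rw [h1, hf, subRep_apply, map_smul]
  · intro v hv
    have hπv := hπ'wt κ₀ v hv
    obtain ⟨a, ha⟩ := exists_smul_of_finrank_le_one _ hdim' hx hx0 hπv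
    have h1 : P' v = a • (⟨x, hx.1⟩ : ↥N') := by
      apply Subtype.ext
      rw [hP', Submodule.coe_smul]
      exact ha
    simp only [LinearMap.smul_apply, LinearMap.comp_apply, LinearEquiv.coe_coe,
      Submodule.subtype_apply]
    rw [h1, map_smul, Submodule.coe_smul, ← hfxdef, ha, map_smul, map_smul, ← hydef, hc]
    rw [smul_comm]
  · intro v hv
    have hπv := hπ'wt κ₁ v hv
    rw [hbot'] at hπv
    have h0 : π' v = 0 := (Submodule.mem_bot ℂ).mp hπv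
    refine ⟨?_, h0⟩
    have h1 : P' v = 0 := by
      apply Subtype.ext
      rw [hP', h0]
      rfl
    simp only [LinearMap.smul_apply, LinearMap.comp_apply, LinearEquiv.coe_coe,
      Submodule.subtype_apply]
    rw [h1, map_zero, Submodule.coe_zero, smul_zero]

end Cfsg.Agent.Lib.Helper13.WGSL2
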