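/-
helper13: S2524, helper10's leaf (SL2) `surj_SL2`: the surjectivity theorem for `Sp_2 = SL_2(q)` on the
class `Adm1`.  Sub-leaves: G1/G3 helper2 (`WGSG1`, `WGSG3`), G2/S2 helper5, G4 helper12, S1 helper29;
character-level facts `Lib/Helper13/SL2Weights`; pair lemma `Lib/Helper13/WGSL2B`.
-/
import Mathlib
import Cfsg.Agent.Lib.Helper10.WGDefs
import Cfsg.Agent.Lib.Helper13.WGSL2B

set_option autoImplicit false

namespace Cfsg.Agent.Lib.Helper13.WGSL2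

open Matrix Cfsg.Agent.Lib.Helper11.LS Cfsg.Agent.Lib.Helper10.WG
  Cfsg.Agent.Lib.Helper13 Cfsg.Agent.Lib.Helper13.SL2Surj

universe u

variable {F : Type*} [Field F] [Fintype F] [DecidableEq F]

section base

variable {V V' : Type u} [AddCommGroup V] [Module ℂ V] [AddCommGroup V'] [Module ℂ V']

theorem pair_hom (hodd : Odd (Fintype.card F)) (ψ : AddChar F ℂ) (hψ : ψ ≠ 1) (ν : F)
    (hν : ¬ IsSquare ν) [FiniteDimensional ℂ V'] [FiniteDimensional ℂ V]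
    (σ' : Representation ℂ (SpG F 1) V') (σ : Representation ℂ (SpG F 1) V)
    (hA' : Adm1 ψ σ') (hA : Adm1 ψ σ) (φ₁ φ₂ : V' →ₗ[ℂ] V)
    (h₁ : IsStabMap ψ σ' σ (single 0 0 1) φ₁) (h₂ : IsStabMap ψ σ' σ (single 0 0 ν) φ₂)
    (π' : V' →ₗ[ℂ] V') (hπ'N : IsIrrSub σ' (LinearMap.range π'))
    (hπ'c : ∀ g v, π' (σ' g v) = σ' g (π' v))
    (π : V →ₗ[ℂ] V) (hπN : IsIrrSub σ (LinearMap.range π))
    (hπc : ∀ g v, π (σ g v) = σ g (π v)) :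
    ∃ Φ : V' →ₗ[ℂ] V, IsHom σ' σ Φ ∧
      (∀ v ∈ wt ψ σ' (single 0 0 1), Φ v = π (φ₁ (π' v))) ∧
      (∀ v ∈ wt ψ σ' (single 0 0 ν), Φ v = π (φ₂ (π' v))) := by
  have hν0 : ν ≠ 0 := by rintro rfl; exact hν IsSquare.zero
  by_cases hc1 : ∃ x₀ ∈ wt ψ σ' (single (0 : Fin 1) (0 : Fin 1) (1 : F)), π (φ₁ (π' x₀)) ≠ 0
  · obtain ⟨x₀, hx₀, hne⟩ := hc1
    obtain ⟨Φ, hΦ, ha, hb⟩ := pair_hom_aux hodd ψ hψ σ' σ hA' hA π' hπ'N hπ'c π hπN hπc 1 ν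
      one_ne_zero hν0 (by rwa [one_mul]) φ₁ h₁ x₀ hx₀ hne
    refine ⟨Φ, hΦ, ha, fun v hv => ?_⟩
    rw [(hb v hv).1, (hb v hv).2, map_zero, map_zero]
  · by_cases hc2 : ∃ x₀ ∈ wt ψ σ' (single (0 : Fin 1) (0 : Fin 1) ν), π (φ₂ (π' x₀)) ≠ 0
    · obtain ⟨x₀, hx₀, hne⟩ := hc2
      obtain ⟨Φ, hΦ, ha, hb⟩ := pair_hom_aux hodd ψ hψ σ' σ hA' hA π' hπ'N hπ'c π hπN hπc ν 1
        hν0 one_ne_zero (by rwa [mul_one]) φ₂ h₂ x₀ hx₀ hne
      refine ⟨Φ, hΦ, fun v hv => ?_, ha⟩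
      rw [(hb v hv).1, (hb v hv).2, map_zero, map_zero]
    · push Not at hc1 hc2
      refine ⟨0, ?_, fun v hv => ?_, fun v hv => ?_⟩
      · intro g v
        simp
      · rw [LinearMap.zero_apply, hc1 v hv]
      · rw [LinearMap.zero_apply, hc2 v hv]

/-- (SL2) the surjectivity theorem for `Sp_2 = SL_2(q)` on the class `Adm1`. -/
theorem surj_SL2 (h2 : (2 : F) ≠ 0) (ψ : AddChar F ℂ) (hψ : ψ.IsPrimitive) (ν : F)
    (hν : ¬ IsSquare ν) [FiniteDimensional ℂ V'] [FiniteDimensional ℂ V]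
    (σ' : Representation ℂ (SpG F 1) V') (σ : Representation ℂ (SpG F 1) V)
    (hA' : Adm1 ψ σ') (hA : Adm1 ψ σ) (φ₁ φ₂ : V' →ₗ[ℂ] V)
    (h₁ : IsStabMap ψ σ' σ (single 0 0 1) φ₁) (h₂ : IsStabMap ψ σ' σ (single 0 0 ν) φ₂) :
    ∃ Φ : V' →ₗ[ℂ] V, IsHom σ' σ Φ ∧ (∀ v ∈ wt ψ σ' (single 0 0 1), Φ v = φ₁ v) ∧
      (∀ v ∈ wt ψ σ' (single 0 0 ν), Φ v = φ₂ v) := by
  classical
  have hodd : Odd (Fintype.card F) := by
    rw [Nat.odd_iff]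
    exact FiniteField.odd_card_of_char_ne_two (ringChar_ne_two_of_two_ne_zero h2)
  have hψ1 : ψ ≠ 1 := by
    rintro rfl
    exact hψ one_ne_zero (by ext x; simp)
  obtain ⟨e, -, -, -, -⟩ := exists_equiv_data (F := F)
  have hfin : Finite (SpG F 1) := Finite.of_equiv _ e.toEquiv
  obtain ⟨r', π', hirr', hc', -, hsum'⟩ :=
    Cfsg.Agent.Lib.Helper2.WGSG1.exists_irr_projections σ'
  obtain ⟨r, π, hirr, hc, -, hsum⟩ := Cfsg.Agent.Lib.Helper2.WGSG1.exists_irr_projections σ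
  have hpair := fun (i : Fin r') (j : Fin r) =>
    pair_hom hodd ψ hψ1 ν hν σ' σ hA' hA φ₁ φ₂ h₁ h₂ (π' i) (hirr' i) (hc' i) (π j) (hirr j)
      (hc j)
  choose Φ hΦ hΦ1 hΦ2 using hpair
  refine ⟨∑ i, ∑ j, Φ i j, ?_, ?_, ?_⟩
  · intro g v
    simp only [LinearMap.sum_apply, map_sum]
    apply Finset.sum_congr rfl
    intro i _
    apply Finset.sum_congr rfl
    intro j _
    exact hΦ i j g v
  · intro v hv
    simp only [LinearMap.sum_apply]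
    rw [Finset.sum_congr rfl (fun i _ => Finset.sum_congr rfl (fun j _ => hΦ1 i j v hv))]
    rw [Finset.sum_congr rfl (fun i _ => hsum (φ₁ (π' i v))), ← map_sum, hsum']
  · intro v hv
    simp only [LinearMap.sum_apply]
    rw [Finset.sum_congr rfl (fun i _ => Finset.sum_congr rfl (fun j _ => hΦ2 i j v hv))]
    rw [Finset.sum_congr rfl (fun i _ => hsum (φ₂ (π' i v))), ← map_sum, hsum']

end base

end Cfsg.Agent.Lib.Helper13.WGSL2
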